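import Mathlib
import Groth.Agent.H10Coh.Pn.Results
import Groth.Agent.H11Tilde.ProjUP

/-!
# Global sections of `O(1)` on projective space are linear forms
-/

set_option autoImplicit false
set_option linter.style.haveILetI false

universe u

open CategoryTheory AlgebraicGeometry TopologicalSpace Opposite MvPolynomial
open Groth.Agent.H11Tilde

namespace Groth.Agent.H22Alg.PnSections

open H10Coh.Pn

variable {n : ℕ} {R : Type u} [CommRing R]

theorem psiG_globalSec {m : MvPolynomial (Fin (n + 1)) R} (hm : m ∈ Gr n R 1) :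
    psiG (d := ((1 : ℕ) : ℤ)) (globalSec (Gr n R) hm : Γ(Od n R ((1 : ℕ) : ℤ), ⊤)) = toL n R m := by
  refine psi_eq (degree_qa_pos _) (IsRep.res le_top ⟨1, m, 0,
    fun x _ => by simpa [mon] using one_notMem (Gr n R) x, hm, by simp, by simp [T_zero], fun x => ?_⟩)
  exact fracAt_congr (Gr n R) x.1 _ _ rfl (show (1 : MvPolynomial (Fin (n + 1)) R) = mon 0 by simp [mon])

/-- Every global section of `O(1)` is a linear form. -/
theorem exists_globalSec (σ : Γ(Od n R ((1 : ℕ) : ℤ), ⊤)) :
    ∃ (m : MvPolynomial (Fin (n + 1)) R) (hm : m ∈ Gr n R 1), σ = globalSec (Gr n R) hm := by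
  obtain ⟨⟨m, hm⟩, h⟩ := (homToAllowed_bijective (n := n) (R := R) 1).2
    ⟨psiG σ, psiG_mem σ (Or.inr (by simp))⟩
  refine ⟨m, hm, psiG_injective ?_⟩
  rw [psiG_globalSec hm]
  exact (congrArg Subtype.val h).symm

end Groth.Agent.H22Alg.PnSections
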