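import Groth.Agent.H22Alg.KPush
import Groth.Agent.H10Coh.ProjFormulaFLF

/-! # The projection formula on K₀ for P^n_Y → Y. -/

set_option autoImplicit false
set_option linter.style.haveILetI false

universe v u

open CategoryTheory CategoryTheory.Limits AlgebraicGeometry ZeroObject
attribute [local instance] HasDerivedCategory.standard
attribute [local instance 10000] Groth.Agent.H10Coh.hasSheafifyAb Groth.Agent.H10Coh.hasWeakSheafifyAb Groth.Agent.H10Coh.hasExtAb Groth.Agent.H10Coh.enoughInjAb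
attribute [local instance] Groth.Agent.H10Coh.enoughInjMod

noncomputable section

namespace Groth.Agent.H22Alg.KProjF

open Groth.Agent.H10Coh

variable {n : ℕ} {Y : Scheme.{u}}

/-- Tensoring with the pull-back of a bundle preserves vanishing of higher direct images. -/
theorem van_tensor {E : Y.Modules} (hE : FlatMod.IsFinLocFree E) {F : (KRR.PY n Y).Modules} {i : ℕ}
    (hi : 1 ≤ i) (h : CMReg.Van i F) :
    CMReg.Van i ((PF.TR ((Scheme.Modules.pullback (KRR.pr n Y)).obj E)).obj F) := by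
  obtain ⟨m, rfl⟩ : ∃ m, i = m + 1 := ⟨i - 1, by omega⟩
  haveI : HasInjectiveResolutions (KRR.PY n Y).Modules := inferInstance
  have key : ∀ M : (KRR.PY n Y).Modules,
      Nonempty (Coh.toAb ((Coh.Rpush (KRR.pr n Y) (m + 1)).obj M) ≅
        (Coh.RpushAb (KRR.pr n Y) (m + 1)).obj (Coh.toAb M)) := fun M =>
    ⟨(shF Y).mapIso (nonempty_rpush_iso_hdir (KRR.pr n Y) M m).some ≪≫
      (nonempty_rpushAb_iso_hdir (KRR.pr n Y) M m).some⟩
  have h0 : IsZero ((Coh.Rpush (KRR.pr n Y) (m + 1)).obj F) := by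
    refine (IsZero.iff_id_eq_zero _).2 ((shF Y).map_injective ?_)
    exact (h.of_iso (key F).some).eq_of_src _ _
  obtain ⟨e⟩ := PF.nonempty_projectionFormula (KRR.pr n Y) F hE (m + 1)
  have h1 : IsZero ((Coh.Rpush (KRR.pr n Y) (m + 1)).obj
      ((PF.TR ((Scheme.Modules.pullback (KRR.pr n Y)).obj E)).obj F)) :=
    ((PF.TR E).map_isZero h0).of_iso e.symm
  exact ((shF Y).map_isZero h1).of_iso (key _).some.symm

theorem nonempty_twF_TR (d : ℤ) (F N : (KRR.PY n Y).Modules) :
    Nonempty ((PF.TR N).obj (KRR.twF n Y d F) ≅ KRR.twF n Y d ((PF.TR N).obj F)) :=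
  ⟨(((H15Site.ModTensor.tAssoc (O := (KRR.PY n Y).sheaf)).app (Twist.twistOver n Y d)).app F).app N⟩

/-- Regularity is preserved by tensoring with the pull-back of a bundle. -/
theorem reg_tensor {E : Y.Modules} (hE : FlatMod.IsFinLocFree E) {F : (KRR.PY n Y).Modules}
    (hF : KRR.IsRegSheaf n Y F) :
    KRR.IsRegSheaf n Y ((PF.TR ((Scheme.Modules.pullback (KRR.pr n Y)).obj E)).obj F) := fun i hi => by
  obtain ⟨e⟩ := nonempty_twF_TR (n := n) (Y := Y) (-(i : ℤ)) F ((Scheme.Modules.pullback (KRR.pr n Y)).obj E)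
  exact CMReg.van_iso e (van_tensor hE hi (hF i hi))

theorem finLocFree_TR {X : Scheme.{u}} {F N : X.Modules} (hF : FlatMod.IsFinLocFree F)
    (hN : FlatMod.IsFinLocFree N) : FlatMod.IsFinLocFree ((PF.TR N).obj F) :=
  H16Derived.KFlat.Stalk.isFinLocFree_tensor hF hN

/-- The projection formula for a regular bundle. -/
theorem cl_push_tensor [IsLocallyNoetherian Y] {E : Y.Modules} (hE : FlatMod.IsFinLocFree E)
    {F : (KRR.PY n Y).Modules} (hF : FlatMod.IsFinLocFree F) (hreg : KRR.IsRegSheaf n Y F) :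
    KRR.cl Y ((Scheme.Modules.pushforward (KRR.pr n Y)).obj
        ((PF.TR ((Scheme.Modules.pullback (KRR.pr n Y)).obj E)).obj F)) =
      KRR.cl Y ((PF.TR E).obj ((Scheme.Modules.pushforward (KRR.pr n Y)).obj F)) :=
  haveI := PF.isIso_ψ_of_isFinLocFree (KRR.pr n Y) hE F
  (KModel.cl_iso (asIso (H16Derived.ProjFormula.ψ (KRR.pr n Y) F E))
    (finLocFree_TR (RegBundle.finLocFree_push hF hreg) hE)).symm

end Groth.Agent.H22Alg.KProjF
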