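import Groth.Agent.H22Alg.KBaseChangeCl
import Groth.Agent.H22Alg.KProjF
import Groth.Agent.H10Coh.SerreVanishing
import Groth.Agent.S1676

/-! # Independence of `f_K` of the factorisation: `K(P^n_{P^m_Y})`, and the two orders of projections. -/

set_option autoImplicit false
set_option linter.style.haveILetI false

universe v u w

open CategoryTheory CategoryTheory.Limits AlgebraicGeometry ZeroObject
attribute [local instance] HasDerivedCategory.standard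
attribute [local instance 10000] Groth.Agent.H10Coh.hasSheafifyAb Groth.Agent.H10Coh.hasWeakSheafifyAb Groth.Agent.H10Coh.hasExtAb Groth.Agent.H10Coh.enoughInjAb

noncomputable section

namespace Groth.Agent.H22Alg.KIndep

open ResEuler KLFRes

theorem projSpaceMap_comp (n : ℕ) {X Y W : Scheme.{u}} (f : X ⟶ Y) (g : Y ⟶ W) :
    KRR.projSpaceMap n f ≫ KRR.projSpaceMap n g = KRR.projSpaceMap n (f ≫ g) := by
  apply pullback.hom_ext
  · refine (Category.assoc _ _ _).trans ((congrArg (KRR.projSpaceMap n f ≫ ·) (BCReg.map_fst g)).trans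
      ((BCReg.map_fst f).trans (BCReg.map_fst (f ≫ g)).symm))
  · refine (Category.assoc _ _ _).trans ((congrArg (KRR.projSpaceMap n f ≫ ·) (KBaseChangeCl.sq g)).trans
      ((Category.assoc _ _ _).symm.trans ((congrArg (· ≫ g) (KBaseChangeCl.sq f)).trans
        ((Category.assoc _ _ _).trans (KBaseChangeCl.sq (f ≫ g)).symm))))

/-- Enough bundles descend along closed immersions. -/
theorem hasEnoughLocFree_of_closedImm {X P : Scheme.{u}} [IsLocallyNoetherian X] (i : X ⟶ P) [IsClosedImmersion i]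
    (h : KRR.HasEnoughLocFree P) : KRR.HasEnoughLocFree X := fun G hG => by
  obtain ⟨E, q, hE, hq⟩ := h _ (H24FSch.isCoh_pushforward_of_isClosedImmersion i hG)
  haveI : (Scheme.Modules.pullback i).IsLeftAdjoint :=
    (Scheme.Modules.pullbackPushforwardAdjunction i).isLeftAdjoint
  haveI := hq
  haveI := H16Derived.ProjFormula.isIso_counit_of_isClosedImmersion i G
  exact ⟨(Scheme.Modules.pullback i).obj E,
    (Scheme.Modules.pullback i).map q ≫ (Scheme.Modules.pullbackPushforwardAdjunction i).counit.app G,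
    H16Derived.KFlat.Stalk.isFinLocFree_pullback i hE, epi_comp _ _⟩

/-- An isomorphism is a regular closed immersion. -/
theorem isRegular_of_isIso {X Y : Scheme.{u}} (i : X ⟶ Y) [IsIso i] : Mor2.IsRegularClosedImmersion i := by
  refine ⟨inferInstance, fun z => ?_⟩
  obtain ⟨U, hU, hz, -⟩ := exists_isAffineOpen_mem_and_subset (X := Y) (x := i z) (U := ⊤) trivial
  refine ⟨U, hU, hz, [], ?_, ?_⟩
  · haveI : Nonempty U := ⟨⟨i z, hz⟩⟩
    exact RingTheory.Sequence.IsRegular.nil _ _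
  · simp [Scheme.Hom.ker_eq_bot_of_isIso]

/-- `K` of `P^n_Y` is spanned by the `O(k)` twists of pull-backs, `k ≥ 0`. -/
theorem ext_twist {n : ℕ} {Y : Scheme.{u}} [IsNoetherian Y] {G : Type w} [AddCommGroup G]
    {a b : SGA6.Kvb (KRR.PY n Y) →+ G}
    (h : ∀ (k : ℕ) (E : Y.Modules), FlatMod.IsFinLocFree E →
      a (KRR.cl _ (KRR.twF n Y (k : ℤ) ((Scheme.Modules.pullback (KRR.pr n Y)).obj E))) =
        b (KRR.cl _ (KRR.twF n Y (k : ℤ) ((Scheme.Modules.pullback (KRR.pr n Y)).obj E)))) : a = b := by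
  haveI := KSection.isNoetherian_PY n Y
  let c := a - b
  suffices hc : c = 0 from sub_eq_zero.1 hc
  have neg : ∀ (i : ℕ) (E : Y.Modules), FlatMod.IsFinLocFree E →
      c (KRR.cl _ (KRR.twF n Y (-(i : ℤ)) ((Scheme.Modules.pullback (KRR.pr n Y)).obj E))) = 0 := fun i E hE => by
    have hM := H16Derived.KFlat.Stalk.isFinLocFree_pullback (KRR.pr n Y) hE
    have hM' := RegBundle.finLocFree_twF (n := n) (Y := Y) (-(i : ℤ)) hM
    let u : ℕ → G := fun j => c (KReg.fK n Y (KRR.twF n Y (-(i : ℤ)) ((Scheme.Modules.pullback (KRR.pr n Y)).obj E)) j)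
    have hu : SeqExt.Rec (n + 1) 0 u := fun j hj => by
      rw [← SeqExt.val_map c, KReg.rec_fK hM' j hj, map_zero]
    have hz : ∀ j, i ≤ j → u j = (fun _ => (0 : G)) j := fun j hj => by
      show c (KRR.cl _ (KRR.twF n Y (j : ℤ) _)) = 0
      rw [KPush.cl_twF_twF (c := ((j - i : ℕ) : ℤ)) (by omega) hM]
      exact sub_eq_zero.2 (h (j - i) E hE)
    have h0 : u 0 = 0 := by
      rw [← SeqExt.ext_zero (n + 1) u, SeqExt.ext_eq n.succ_ne_zero hu (Nat.zero_le 0) (Nat.zero_le i),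
        SeqExt.ext_congr n.succ_ne_zero hz]
      exact map_zero (AddMonoidHom.mk' (fun f : ℕ → G => SeqExt.ext (n + 1) i f) (SeqExt.ext_add _ _))
    rw [← KPush.cl_twF_zero hM']
    exact h0
  obtain ⟨hb1, hb2⟩ := KReg.bijective_incl (n := n) (Y := Y) (fun _ h => h.1)
  refine AddMonoidHom.ext fun z => ?_
  obtain ⟨w, rfl⟩ := hb2 z
  refine DFunLike.congr_fun (KReg.clSub_ext
    (a := c.comp (KReg.incl n Y fun _ h => h.1)) (b := 0) fun M hM => ?_) w
  rw [AddMonoidHom.comp_apply, KReg.incl_cls (fun _ h => h.1) hM, AddMonoidHom.zero_apply]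
  have hq := (H16Derived.KFlat.Stalk.isCoh_of_isFinLocFree hM.1).1
  have hFk : ∀ k, FlatMod.IsFinLocFree (SyzPn.Fk M k) := fun k => BCReg.vb_Fk hM.1 hM.2 k
  have key : ∀ d k, n + 1 ≤ k + d → c (KRR.cl _ (SyzPn.Z M k)) = 0 := by
    intro d
    induction d with
    | zero =>
      intro k hk
      obtain ⟨j, rfl⟩ := Nat.exists_eq_add_of_le (show n + 1 ≤ k by omega)
      show c (KRR.cl _ (KRR.twF n Y _ (SyzPn.Fk M (n + 1 + j)))) = 0
      rw [KModel.cl_isZero (SyzPn.isZero_twF (SyzPn.isZero_Fk hq hM.2 j)), map_zero]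
    | succ d ih =>
      intro k hk
      have hp := RegBundle.finLocFree_push (hFk k) (SyzPn.good hq hM.2 k).2
      have e := KModel.cl_add (SyzPn.shortExact hq hM.2 k)
        (RegBundle.finLocFree_twF _ (hFk (k + 1)))
        (RegBundle.finLocFree_twF _ (H16Derived.KFlat.Stalk.isFinLocFree_pullback _ hp))
        (RegBundle.finLocFree_twF _ (hFk k))
      have e' := congrArg c e
      rw [map_add, ih (k + 1) (by omega), zero_add] at e'
      replace e' := (neg k _ hp).symm.trans e'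
      exact e'.symm
  obtain ⟨e⟩ := RegSheaf.nonempty_twF_zero (n := n) (T := Y) M
  rw [← KModel.cl_iso (M := SyzPn.Z M 0) e (RegBundle.finLocFree_twF _ hM.1)]
  exact key (n + 1) 0 (by omega)

/-- `O(k)`, `k ≥ 0`, is regular. -/
theorem reg_twistOver {n : ℕ} {Y : Scheme.{u}} (k : ℕ) : KRR.IsRegSheaf n Y (Twist.twistOver n Y (k : ℤ)) :=
  fun i hi => by
    obtain ⟨e⟩ := KPush.nonempty_Od (n := n) (Y := Y) (k : ℤ)
    obtain ⟨e'⟩ := RegSheaf.nonempty_twF_twF (n := n) (T := Y) (-(i : ℤ)) (k : ℤ) (-(i : ℤ) + k) rfl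
      (Coh.structureModule (KRR.PY n Y))
    rcases le_or_gt i n with hin | hin
    · exact CMReg.van_iso (e'.symm ≪≫ ((DCoh.tensorBi (X := KRR.PY n Y)).obj (Twist.twistOver n Y (-(i : ℤ)))).mapIso e)
        (KPush.van_Od (by omega) hi)
    · exact CMKer.van_high hin (H8Props.FinLocFree.isQCoh_of_isFinLocFree _ (RegBundle.finLocFree_twF _ (PnVan.finLocFree_of_inv (RegSheaf.isInvertible_twistOver _))))

/-- `q_* (O(k) ⊗ q^*(twist l of p'^* E₀))` on `P^n_{P^m_Y}`: both push-forwards are regular bundles. -/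
theorem regular_box {n m : ℕ} {Y : Scheme.{u}} [IsNoetherian Y] (k l : ℕ) {E₀ : Y.Modules} (hE₀ : FlatMod.IsFinLocFree E₀)
    {H : (KRR.PY n (KRR.PY m Y)).Modules}
    (e : H ≅ KRR.twF n (KRR.PY m Y) (k : ℤ) ((Scheme.Modules.pullback (KRR.pr n (KRR.PY m Y))).obj
      (KRR.twF m Y (l : ℤ) ((Scheme.Modules.pullback (KRR.pr m Y)).obj E₀)))) :
    FlatMod.IsFinLocFree H ∧ KRR.IsRegSheaf n (KRR.PY m Y) H ∧
      FlatMod.IsFinLocFree ((Scheme.Modules.pushforward (KRR.pr n (KRR.PY m Y))).obj H) ∧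
      KRR.IsRegSheaf m Y ((Scheme.Modules.pushforward (KRR.pr n (KRR.PY m Y))).obj H) := by
  haveI := KSection.isNoetherian_PY m Y
  let T := KRR.PY m Y
  let E := KRR.twF m Y (l : ℤ) ((Scheme.Modules.pullback (KRR.pr m Y)).obj E₀)
  have hE : FlatMod.IsFinLocFree E :=
    RegBundle.finLocFree_twF _ (H16Derived.KFlat.Stalk.isFinLocFree_pullback _ hE₀)
  have hEreg : KRR.IsRegSheaf m Y E := KProjF.reg_tensor hE₀ (reg_twistOver l)
  let O₁ := Twist.twistOver n T (k : ℤ)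
  have hO₁ : FlatMod.IsFinLocFree O₁ := PnVan.finLocFree_of_inv (RegSheaf.isInvertible_twistOver _)
  let O₀ := Twist.twistOver n Y (k : ℤ)
  have hO₀ : FlatMod.IsFinLocFree O₀ := PnVan.finLocFree_of_inv (RegSheaf.isInvertible_twistOver _)
  let H' := (H10Coh.PF.TR ((Scheme.Modules.pullback (KRR.pr n T)).obj E)).obj O₁
  let eH : H ≅ H' := e
  have hH' : FlatMod.IsFinLocFree H' := KProjF.finLocFree_TR hO₁ (H16Derived.KFlat.Stalk.isFinLocFree_pullback _ hE)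
  have hH'reg : KRR.IsRegSheaf n T H' := KProjF.reg_tensor hE (reg_twistOver k)
  have hH : FlatMod.IsFinLocFree H := KModel.finLocFree_iso eH.symm hH'
  have hHreg : KRR.IsRegSheaf n T H := fun i hi =>
    CMReg.van_iso (((DCoh.tensorBi (X := KRR.PY n T)).obj (Twist.twistOver n T (-(i : ℤ)))).mapIso eH.symm) (hH'reg i hi)
  refine ⟨hH, hHreg, RegBundle.finLocFree_push hH hHreg, ?_⟩
  let W := (Scheme.Modules.pushforward (KRR.pr n Y)).obj O₀
  have hW : FlatMod.IsFinLocFree W := RegBundle.finLocFree_push hO₀ (reg_twistOver k)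
  haveI := BCReg.isIso_bcMap (KRR.pr m Y) (KBaseChangeCl.sq (KRR.pr m Y)) hO₀ (reg_twistOver k)
  haveI := H10Coh.PF.isIso_ψ_of_isFinLocFree (KRR.pr n T) hE O₁
  obtain ⟨et⟩ := BCReg.nonempty_pull_twist (n := n) (KRR.pr m Y) (k : ℤ)
  let e₁ : (Scheme.Modules.pushforward (KRR.pr n T)).obj H ≅
      (H10Coh.PF.TR ((Scheme.Modules.pullback (KRR.pr m Y)).obj W)).obj E :=
    (Scheme.Modules.pushforward (KRR.pr n T)).mapIso eH ≪≫
      (asIso (H16Derived.ProjFormula.ψ (KRR.pr n T) O₁ E)).symm ≪≫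
      (H10Coh.PF.TR E).mapIso ((asIso (KRR.bcMap n (KRR.pr m Y) (KBaseChangeCl.sq (KRR.pr m Y)) O₀) ≪≫
        (Scheme.Modules.pushforward (KRR.pr n T)).mapIso et).symm) ≪≫
      H10Coh.Tw.commIso _ _
  intro i hi
  exact CMReg.van_iso (((DCoh.tensorBi (X := KRR.PY m Y)).obj (Twist.twistOver m Y (-(i : ℤ)))).mapIso e₁.symm)
    (KProjF.reg_tensor hW hEreg i hi)

section Tensor

variable {Z W P : Scheme.{u}}

/-- `A ⊗ (L ⊗ Q) ≅ L ⊗ (A ⊗ Q)`. -/
def swapTensor (A L Q : Z.Modules) :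
    CohB1.tensorMod A (CohB1.tensorMod L Q) ≅ CohB1.tensorMod L (CohB1.tensorMod A Q) :=
  (H10Coh.Tw.assoc A L Q).symm ≪≫
    ((DCoh.tensorBi (X := Z)).mapIso (H10Coh.Tw.commIso A L)).app Q ≪≫
    H10Coh.Tw.assoc L A Q

theorem nonempty_swap_tensor (σ : Z ⟶ W) (q : Z ⟶ P) (O₁ N : W.Modules) (A B : P.Modules) (L : Z.Modules)
    (a : (Scheme.Modules.pullback σ).obj O₁ ≅ (Scheme.Modules.pullback q).obj A)
    (b : (Scheme.Modules.pullback σ).obj N ≅ CohB1.tensorMod L ((Scheme.Modules.pullback q).obj B)) :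
    Nonempty ((Scheme.Modules.pullback σ).obj (((DCoh.tensorBi (X := W)).obj O₁).obj N) ≅
      ((DCoh.tensorBi (X := Z)).obj L).obj ((Scheme.Modules.pullback q).obj (((DCoh.tensorBi (X := P)).obj A).obj B))) :=
  ⟨(H16Derived.KFlat.Stalk.pullTensorLIso σ N).app O₁ ≪≫
    ((DCoh.tensorBi (X := Z)).mapIso a).app _ ≪≫
    ((DCoh.tensorBi (X := Z)).obj ((Scheme.Modules.pullback q).obj A)).mapIso b ≪≫
    swapTensor ((Scheme.Modules.pullback q).obj A) L ((Scheme.Modules.pullback q).obj B) ≪≫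
    ((DCoh.tensorBi (X := Z)).obj L).mapIso ((H16Derived.KFlat.Stalk.pullTensorLIso q B).app A).symm⟩

end Tensor

section Comm

variable {n m : ℕ} {Y : Scheme.{u}}

/-- The other order. -/
theorem exists_swap (n m : ℕ) (Y : Scheme.{u}) :
    ∃ σ : KRR.PY m (KRR.PY n Y) ≅ KRR.PY n (KRR.PY m Y),
      σ.hom ≫ KRR.projSpaceMap n (KRR.pr m Y) = KRR.pr m (KRR.PY n Y) ∧
        σ.hom ≫ KRR.pr n (KRR.PY m Y) = KRR.projSpaceMap m (KRR.pr n Y) := by
  have h1 := KBaseChangeCl.isPullback_map (n := n) (KRR.pr m Y)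
  have h2 := (KBaseChangeCl.isPullback_map (n := m) (KRR.pr n Y)).flip
  exact ⟨h2.isoIsPullback _ _ h1, h2.isoIsPullback_hom_fst _ _ h1, h2.isoIsPullback_hom_snd _ _ h1⟩

/-- The inverse image along an isomorphism is the direct image along its inverse. -/
theorem nonempty_push_inv {A B : Scheme.{u}} (σ : A ≅ B) (H : B.Modules) :
    Nonempty ((Scheme.Modules.pushforward σ.inv).obj H ≅ (Scheme.Modules.pullback σ.hom).obj H) := by
  haveI := H16Derived.ProjFormula.isIso_counit_of_isClosedImmersion σ.hom ((Scheme.Modules.pushforward σ.inv).obj H)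
  exact ⟨(asIso ((Scheme.Modules.pullbackPushforwardAdjunction σ.hom).counit.app
      ((Scheme.Modules.pushforward σ.inv).obj H))).symm ≪≫
    (Scheme.Modules.pullback σ.hom).mapIso ((Scheme.Modules.pushforwardComp σ.inv σ.hom).app H ≪≫
      (Scheme.Modules.pushforwardCongr σ.inv_hom_id).app H ≪≫ (Scheme.Modules.pushforwardId B).app H)⟩

/-- Transport of a box product to the other order. -/
theorem nonempty_swap_box (σ : KRR.PY m (KRR.PY n Y) ⟶ KRR.PY n (KRR.PY m Y))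
    (h₁ : σ ≫ KRR.projSpaceMap n (KRR.pr m Y) = KRR.pr m (KRR.PY n Y))
    (h₂ : σ ≫ KRR.pr n (KRR.PY m Y) = KRR.projSpaceMap m (KRR.pr n Y)) (k l : ℕ) (E₀ : Y.Modules) :
    Nonempty ((Scheme.Modules.pullback σ).obj
        (KRR.twF n (KRR.PY m Y) (k : ℤ) ((Scheme.Modules.pullback (KRR.pr n (KRR.PY m Y))).obj
          (KRR.twF m Y (l : ℤ) ((Scheme.Modules.pullback (KRR.pr m Y)).obj E₀)))) ≅
      KRR.twF m (KRR.PY n Y) (l : ℤ) ((Scheme.Modules.pullback (KRR.pr m (KRR.PY n Y))).obj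
          (KRR.twF n Y (k : ℤ) ((Scheme.Modules.pullback (KRR.pr n Y)).obj E₀)))) := by
  let q := KRR.pr m (KRR.PY n Y)
  obtain ⟨et⟩ := BCReg.nonempty_pull_twist (n := n) (KRR.pr m Y) (k : ℤ)
  obtain ⟨el⟩ := BCReg.nonempty_pull_twF (n := m) (KRR.pr n Y) (l : ℤ) ((Scheme.Modules.pullback (KRR.pr m Y)).obj E₀)
  let A := Twist.twistOver n Y (k : ℤ)
  let L := Twist.twistOver m (KRR.PY n Y) (l : ℤ)
  let P₀ := (Scheme.Modules.pullback q).obj ((Scheme.Modules.pullback (KRR.pr n Y)).obj E₀)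
  let a : (Scheme.Modules.pullback σ).obj (Twist.twistOver n (KRR.PY m Y) (k : ℤ)) ≅ (Scheme.Modules.pullback q).obj A :=
    (Scheme.Modules.pullback σ).mapIso et.symm ≪≫
      (Scheme.Modules.pullbackComp σ (KRR.projSpaceMap n (KRR.pr m Y))).app A ≪≫
      (Scheme.Modules.pullbackCongr h₁).app A
  let b : (Scheme.Modules.pullback σ).obj ((Scheme.Modules.pullback (KRR.pr n (KRR.PY m Y))).obj
        (KRR.twF m Y (l : ℤ) ((Scheme.Modules.pullback (KRR.pr m Y)).obj E₀))) ≅ CohB1.tensorMod L P₀ :=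
    (Scheme.Modules.pullbackComp σ (KRR.pr n (KRR.PY m Y))).app _ ≪≫
      (Scheme.Modules.pullbackCongr h₂).app _ ≪≫ el ≪≫
      ((DCoh.tensorBi (X := KRR.PY m (KRR.PY n Y))).obj L).mapIso
        ((Scheme.Modules.pullbackComp (KRR.projSpaceMap m (KRR.pr n Y)) (KRR.pr m Y)).app E₀ ≪≫
          (Scheme.Modules.pullbackCongr (KBaseChangeCl.sq (KRR.pr n Y))).app E₀ ≪≫
          ((Scheme.Modules.pullbackComp q (KRR.pr n Y)).app E₀).symm)
  exact nonempty_swap_tensor σ q (Twist.twistOver n (KRR.PY m Y) (k : ℤ)) _ A _ L a b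

variable [IsNoetherian Y]

/-- The two projections of `P^n × P^m` give the same push-forward. -/
theorem push_comm (pn : SGA6.Kvb (KRR.PY n Y) →+ SGA6.Kvb Y)
    (hpn : ∀ F : (KRR.PY n Y).Modules, FlatMod.IsFinLocFree F → KRR.IsRegSheaf n Y F →
      pn (KRR.cl _ F) = KRR.cl Y ((Scheme.Modules.pushforward (KRR.pr n Y)).obj F))
    (pm : SGA6.Kvb (KRR.PY m Y) →+ SGA6.Kvb Y)
    (hpm : ∀ F : (KRR.PY m Y).Modules, FlatMod.IsFinLocFree F → KRR.IsRegSheaf m Y F →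
      pm (KRR.cl _ F) = KRR.cl Y ((Scheme.Modules.pushforward (KRR.pr m Y)).obj F))
    (q₁ : SGA6.Kvb (KRR.PY n (KRR.PY m Y)) →+ SGA6.Kvb (KRR.PY m Y))
    (hq₁ : ∀ F : (KRR.PY n (KRR.PY m Y)).Modules, FlatMod.IsFinLocFree F → KRR.IsRegSheaf n _ F →
      q₁ (KRR.cl _ F) = KRR.cl _ ((Scheme.Modules.pushforward (KRR.pr n (KRR.PY m Y))).obj F))
    (q₂ : SGA6.Kvb (KRR.PY m (KRR.PY n Y)) →+ SGA6.Kvb (KRR.PY n Y))
    (hq₂ : ∀ F : (KRR.PY m (KRR.PY n Y)).Modules, FlatMod.IsFinLocFree F → KRR.IsRegSheaf m _ F →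
      q₂ (KRR.cl _ F) = KRR.cl _ ((Scheme.Modules.pushforward (KRR.pr m (KRR.PY n Y))).obj F))
    (σ : KRR.PY m (KRR.PY n Y) ≅ KRR.PY n (KRR.PY m Y))
    (h₁ : σ.hom ≫ KRR.projSpaceMap n (KRR.pr m Y) = KRR.pr m (KRR.PY n Y))
    (h₂ : σ.hom ≫ KRR.pr n (KRR.PY m Y) = KRR.projSpaceMap m (KRR.pr n Y))
    (τ : SGA6.Kvb (KRR.PY n (KRR.PY m Y)) →+ SGA6.Kvb (KRR.PY m (KRR.PY n Y)))
    (hτ : ∀ H, FlatMod.IsFinLocFree H → τ (KRR.cl _ H) = KRR.cl _ ((Scheme.Modules.pushforward σ.inv).obj H)) :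
    pn.comp (q₂.comp τ) = pm.comp q₁ := by
  haveI := KSection.isNoetherian_PY n Y
  haveI := KSection.isNoetherian_PY m Y
  haveI := KSection.isNoetherian_PY n (KRR.PY m Y)
  refine ext_twist fun k E hE => ?_
  obtain ⟨γ, hγ⟩ := KModel.exists_lift (X := KRR.PY m Y) (fun M => KRR.cl (KRR.PY n (KRR.PY m Y))
      (KRR.twF n (KRR.PY m Y) (k : ℤ) ((Scheme.Modules.pullback (KRR.pr n (KRR.PY m Y))).obj M)))
    fun S hS a₁ a₂ a₃ => KModel.cl_add (RegSheaf.shortExact_twist (k : ℤ) (KModel.shortExact_pullback _ hS a₃))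
      (RegBundle.finLocFree_twF _ (H16Derived.KFlat.Stalk.isFinLocFree_pullback _ a₁))
      (RegBundle.finLocFree_twF _ (H16Derived.KFlat.Stalk.isFinLocFree_pullback _ a₂))
      (RegBundle.finLocFree_twF _ (H16Derived.KFlat.Stalk.isFinLocFree_pullback _ a₃))
  suffices hγ' : (pn.comp (q₂.comp τ)).comp γ = (pm.comp q₁).comp γ by
    rw [← hγ E hE]; exact DFunLike.congr_fun hγ' _
  refine ext_twist fun l E₀ hE₀ => ?_
  have hM := RegBundle.finLocFree_twF (n := m) (Y := Y) (l : ℤ)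
    (H16Derived.KFlat.Stalk.isFinLocFree_pullback (KRR.pr m Y) hE₀)
  simp only [AddMonoidHom.comp_apply]
  rw [hγ _ hM]
  let H := KRR.twF n (KRR.PY m Y) (k : ℤ) ((Scheme.Modules.pullback (KRR.pr n (KRR.PY m Y))).obj
      (KRR.twF m Y (l : ℤ) ((Scheme.Modules.pullback (KRR.pr m Y)).obj E₀)))
  obtain ⟨a1, a2, a3, a4⟩ := regular_box k l hE₀ (Iso.refl H)
  obtain ⟨ei⟩ := nonempty_push_inv σ H
  obtain ⟨eb⟩ := nonempty_swap_box σ.hom h₁ h₂ k l E₀
  obtain ⟨b1, b2, b3, b4⟩ := regular_box (n := m) (m := n) l k hE₀ (H := (Scheme.Modules.pushforward σ.inv).obj H)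
    (ei ≪≫ eb)
  show pn (q₂ (τ (KRR.cl _ H))) = pm (q₁ (KRR.cl _ H))
  rw [hτ H a1, hq₂ _ b1 b2, hpn _ b3 b4, hq₁ _ a1 a2, hpm _ a3 a4]
  have hh : σ.inv ≫ KRR.pr m (KRR.PY n Y) ≫ KRR.pr n Y = KRR.pr n (KRR.PY m Y) ≫ KRR.pr m Y := by
    rw [← h₁, Category.assoc, Iso.inv_hom_id_assoc, KBaseChangeCl.sq]
  refine KModel.cl_iso ((Scheme.Modules.pushforwardComp (KRR.pr m (KRR.PY n Y)) (KRR.pr n Y)).app _ ≪≫
    (Scheme.Modules.pushforwardComp σ.inv _).app H ≪≫ (Scheme.Modules.pushforwardCongr hh).app H ≪≫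
    ((Scheme.Modules.pushforwardComp (KRR.pr n (KRR.PY m Y)) (KRR.pr m Y)).app H).symm) ?_
  exact RegBundle.finLocFree_push b3 b4

end Comm

section Main

variable {n m : ℕ} {X Y : Scheme.{u}} [IsNoetherian Y]

/-- `q_K (i₁₂)_K = (i₁)_K`. -/
theorem val_graph [IsNoetherian X] (hY : KRR.HasEnoughLocFree (KRR.PY n Y))
    (hZ : KRR.HasEnoughLocFree (KRR.PY m (KRR.PY n Y)))
    (i : X ⟶ KRR.PY n Y) (hi : Mor2.IsRegularClosedImmersion i)
    (s : X ⟶ KRR.PY m X) (hs : s ≫ KRR.pr m X = 𝟙 X)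
    (i₀ : SGA6.Kvb X →+ SGA6.Kvb (KRR.PY n Y))
    (hi₀ : ∀ F : X.Modules, FlatMod.IsFinLocFree F → ∀ d a,
      Val (vb _) (coh _) (KRR.cl _) d ((Scheme.Modules.pushforward i).obj F) a → i₀ (KRR.cl X F) = a)
    (q : SGA6.Kvb (KRR.PY m (KRR.PY n Y)) →+ SGA6.Kvb (KRR.PY n Y))
    (hq : ∀ F : (KRR.PY m (KRR.PY n Y)).Modules, FlatMod.IsFinLocFree F → KRR.IsRegSheaf m _ F →
      q (KRR.cl _ F) = KRR.cl _ ((Scheme.Modules.pushforward (KRR.pr m (KRR.PY n Y))).obj F))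
    {F : X.Modules} (hF : FlatMod.IsFinLocFree F) :
    ∃ d b, Val (vb _) (coh _) (KRR.cl _) d
      ((Scheme.Modules.pushforward (s ≫ KRR.projSpaceMap m i)).obj F) b ∧ q b = i₀ (KRR.cl X F) := by
  haveI := hi.1
  haveI := KSection.isNoetherian_PY n Y
  haveI := KSection.isNoetherian_PY m (KRR.PY n Y)
  haveI := KSection.isNoetherian_PY m X
  have hj := KBaseChangeCl.isRegular_map (n := m) i hi
  haveI := hj.1
  have hPX : KRR.HasEnoughLocFree (KRR.PY m X) := hasEnoughLocFree_of_closedImm (KRR.projSpaceMap m i) hZ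
  have hX : KRR.HasEnoughLocFree X := hasEnoughLocFree_of_closedImm i hY
  haveI := KSection.isClosedImmersion_section s hs
  have hsreg : Mor2.IsRegularClosedImmersion s :=
    @Groth.Agent.S1676.result _ _ (KRR.pr m X) (H26Smooth.smooth_toBase m X) s hs _
  obtain ⟨gX, hgX⟩ := KReg.exists_push m X
  obtain ⟨d, a, ha⟩ := KPushCl.exists_val_push s hPX hsreg hF
  obtain ⟨j₀, hj₀⟩ := KPushCl.exists_pushCl _ hZ hj
  obtain ⟨d', hd'⟩ := KClOps.val_push _ hZ hj j₀ hj₀ d _ a ha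
  refine ⟨d', j₀ a, val_iso (ctxK hZ) ((Scheme.Modules.pushforwardComp s (KRR.projSpaceMap m i)).app F) hd', ?_⟩
  have key : q.comp j₀ = i₀.comp gX := by
    obtain ⟨hb1, hb2⟩ := KReg.bijective_incl (n := m) (Y := X) (fun _ h => h.1)
    refine AddMonoidHom.ext fun z => ?_
    obtain ⟨w, rfl⟩ := hb2 z
    refine DFunLike.congr_fun (KReg.clSub_ext
      (a := (q.comp j₀).comp (KReg.incl m X fun _ h => h.1))
      (b := (i₀.comp gX).comp (KReg.incl m X fun _ h => h.1)) fun M hM => ?_) w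
    simp only [AddMonoidHom.comp_apply, KReg.incl_cls (fun _ h => h.1) hM]
    obtain ⟨e, c, hc⟩ := KPushCl.exists_val_push _ hZ hj hM.1
    rw [hj₀ M hM.1 e c hc]
    exact KBaseChangeCl.push_map i hY hi gX hgX q hq i₀ hi₀ hM.1 hM.2 hc
  rw [show q (j₀ a) = i₀ (gX a) from DFunLike.congr_fun key a, KSection.push_section s hs hX gX hgX hF ha]

/-- Independence of the factorisation. -/
theorem push_indep [IsNoetherian X]
    (hn : KRR.HasEnoughLocFree (KRR.PY n Y)) (hm : KRR.HasEnoughLocFree (KRR.PY m Y))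
    (hnm : KRR.HasEnoughLocFree (KRR.PY n (KRR.PY m Y))) (hmn : KRR.HasEnoughLocFree (KRR.PY m (KRR.PY n Y)))
    (i₁ : X ⟶ KRR.PY n Y) (h₁ : Mor2.IsRegularClosedImmersion i₁)
    (i₂ : X ⟶ KRR.PY m Y) (h₂ : Mor2.IsRegularClosedImmersion i₂)
    (hf : i₁ ≫ KRR.pr n Y = i₂ ≫ KRR.pr m Y)
    (a₁ : SGA6.Kvb X →+ SGA6.Kvb (KRR.PY n Y))
    (ha₁ : ∀ F : X.Modules, FlatMod.IsFinLocFree F → ∀ d a,
      Val (vb _) (coh _) (KRR.cl _) d ((Scheme.Modules.pushforward i₁).obj F) a → a₁ (KRR.cl X F) = a)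
    (a₂ : SGA6.Kvb X →+ SGA6.Kvb (KRR.PY m Y))
    (ha₂ : ∀ F : X.Modules, FlatMod.IsFinLocFree F → ∀ d a,
      Val (vb _) (coh _) (KRR.cl _) d ((Scheme.Modules.pushforward i₂).obj F) a → a₂ (KRR.cl X F) = a)
    (pn : SGA6.Kvb (KRR.PY n Y) →+ SGA6.Kvb Y)
    (hpn : ∀ F : (KRR.PY n Y).Modules, FlatMod.IsFinLocFree F → KRR.IsRegSheaf n Y F →
      pn (KRR.cl _ F) = KRR.cl Y ((Scheme.Modules.pushforward (KRR.pr n Y)).obj F))
    (pm : SGA6.Kvb (KRR.PY m Y) →+ SGA6.Kvb Y)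
    (hpm : ∀ F : (KRR.PY m Y).Modules, FlatMod.IsFinLocFree F → KRR.IsRegSheaf m Y F →
      pm (KRR.cl _ F) = KRR.cl Y ((Scheme.Modules.pushforward (KRR.pr m Y)).obj F)) :
    pn.comp a₁ = pm.comp a₂ := by
  haveI := KSection.isNoetherian_PY n Y
  haveI := KSection.isNoetherian_PY m Y
  haveI := KSection.isNoetherian_PY n (KRR.PY m Y)
  haveI := KSection.isNoetherian_PY m (KRR.PY n Y)
  obtain ⟨q₁, hq₁⟩ := KReg.exists_push n (KRR.PY m Y)
  obtain ⟨q₂, hq₂⟩ := KReg.exists_push m (KRR.PY n Y)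
  obtain ⟨σ, hσ₁, hσ₂⟩ := exists_swap n m Y
  have hσ := isRegular_of_isIso σ.inv
  obtain ⟨τ, hτ⟩ := KPushCl.exists_pushCl σ.inv hmn hσ
  have hτ' : ∀ H, FlatMod.IsFinLocFree H → τ (KRR.cl _ H) = KRR.cl _ ((Scheme.Modules.pushforward σ.inv).obj H) :=
    fun H hH => by
      obtain ⟨e⟩ := nonempty_push_inv σ H
      have hp := KModel.finLocFree_iso e.symm (H16Derived.KFlat.Stalk.isFinLocFree_pullback σ.hom hH)
      exact hτ H hH 0 _ ⟨H16Derived.KFlat.Stalk.isCoh_of_isFinLocFree hp, hp, rfl⟩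
  have hcomm := push_comm pn hpn pm hpm q₁ hq₁ q₂ hq₂ σ hσ₁ hσ₂ τ hτ'
  let s := (KBaseChangeCl.isPullback_map (n := m) (i₁ ≫ KRR.pr n Y)).lift i₂ (𝟙 X)
    (by rw [Category.id_comp]; exact hf.symm)
  have hs : s ≫ KRR.pr m X = 𝟙 X := IsPullback.lift_snd _ _ _ _
  have hs' : s ≫ KRR.projSpaceMap m (i₁ ≫ KRR.pr n Y) = i₂ := IsPullback.lift_fst _ _ _ _
  let t := (KBaseChangeCl.isPullback_map (n := n) (i₂ ≫ KRR.pr m Y)).lift i₁ (𝟙 X)
    (by rw [Category.id_comp]; exact hf)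
  have ht : t ≫ KRR.pr n X = 𝟙 X := IsPullback.lift_snd _ _ _ _
  have ht' : t ≫ KRR.projSpaceMap n (i₂ ≫ KRR.pr m Y) = i₁ := IsPullback.lift_fst _ _ _ _
  have hgr : (s ≫ KRR.projSpaceMap m i₁) ≫ σ.hom = t ≫ KRR.projSpaceMap n i₂ := by
    refine (KBaseChangeCl.isPullback_map (n := n) (KRR.pr m Y)).hom_ext ?_ ?_
    · rw [Category.assoc, Category.assoc, hσ₁, KBaseChangeCl.sq, ← Category.assoc s, hs, Category.id_comp,
        Category.assoc, projSpaceMap_comp, ht']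
    · rw [Category.assoc, Category.assoc, hσ₂, projSpaceMap_comp, hs', Category.assoc, KBaseChangeCl.sq,
        ← Category.assoc t, ht, Category.id_comp]
  refine KModel.kvb_ext fun F hF => ?_
  obtain ⟨d, b, hb, hqb⟩ := val_graph hn hmn i₁ h₁ s hs a₁ ha₁ q₂ hq₂ hF
  obtain ⟨d', b', hb', hqb'⟩ := val_graph hm hnm i₂ h₂ t ht a₂ ha₂ q₁ hq₁ hF
  obtain ⟨e, he⟩ := KClOps.val_push σ.inv hmn hσ τ hτ d' _ b' hb'
  have hh : (t ≫ KRR.projSpaceMap n i₂) ≫ σ.inv = s ≫ KRR.projSpaceMap m i₁ := by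
    rw [← hgr, Category.assoc, Iso.hom_inv_id, Category.comp_id]
  have he' := val_iso (ctxK hmn) ((Scheme.Modules.pushforwardComp (t ≫ KRR.projSpaceMap n i₂) σ.inv).app F ≪≫
    (Scheme.Modules.pushforwardCongr hh).app F) he
  have hb_eq : τ b' = b := val_unique' (ctxK hmn) he' hb
  simp only [AddMonoidHom.comp_apply]
  rw [← hqb, ← hqb', ← hb_eq]
  exact DFunLike.congr_fun hcomm b'

end Main

end Groth.Agent.H22Alg.KIndep
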