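import Groth.Agent.H22Alg.ExtPowSum
import Groth.Agent.H22Alg.KIndep
import Groth.Agent.H11Proj.PnGlobal
import Groth.Agent.H15Site.ModFlat

/-! # `λ_t` is multiplicative on short exact sequences of bundles, by a homotopy to the split sequence. -/

set_option autoImplicit false
set_option linter.style.haveILetI false

universe u

open CategoryTheory CategoryTheory.Limits AlgebraicGeometry Opposite TopologicalSpace
open Groth.Agent.H11Tilde Groth.Agent.H11Ample
attribute [local instance] HasDerivedCategory.standard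

noncomputable section

namespace Groth.Agent.H22Alg.ExtPowSES

variable {X Y : Scheme.{u}}

theorem eq_zero_of_app_one {M : Y.Modules} (φ : Coh.structureModule Y ⟶ M) (h : φ.app ⊤ (1 : Γ(Y, ⊤)) = 0) :
    φ = 0 := by
  refine Scheme.Modules.hom_ext _ _ fun W => ConcreteCategory.hom_ext _ _ fun r => ?_
  exact (H06Mod.app_unit φ W r).trans (by rw [h, map_zero, smul_zero]; rfl)

/-- The pull-back of a section with zero pull-back is the zero morphism. -/
theorem pullback_map_homOfGlobal_eq_zero (f : X ⟶ Y) {L : Y.Modules} (g : Γ(L, ⊤)) (h : pullTop f g = 0) :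
    (Scheme.Modules.pullback f).map (homOfGlobal L g) = 0 := by
  apply ((Scheme.Modules.pullbackPushforwardAdjunction f).homEquiv _ _).injective
  rw [Adjunction.homEquiv_unit, Adjunction.homEquiv_unit, Functor.map_zero, comp_zero]
  refine Eq.trans ((Scheme.Modules.pullbackPushforwardAdjunction f).unit.naturality (homOfGlobal L g)).symm ?_
  refine eq_zero_of_app_one _ ?_
  change ((Scheme.Modules.pullbackPushforwardAdjunction f).unit.app L).app ⊤ ((homOfGlobal L g).app ⊤ _) = 0
  rw [homOfGlobal_app]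
  erw [H10Coh.mres_self, one_smul]
  exact h

/-- The pull-back of a section generating along the image is an isomorphism. -/
theorem isIso_pullback_map_homOfGlobal (f : X ⟶ Y) {L : Y.Modules} (g : Γ(L, ⊤)) (h : ∀ x, f x ∈ gen L g) :
    IsIso ((Scheme.Modules.pullback f).map (homOfGlobal L g)) := by
  let D : Y.Opens := gen L g
  have hr : Set.range f ⊆ Set.range D.ι := by
    rintro _ ⟨x, rfl⟩
    rw [Scheme.Opens.range_ι]
    exact h x
  let f' : X ⟶ (↑D : Scheme.{u}) := IsOpenImmersion.lift D.ι f hr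
  have hf : f' ≫ D.ι = f := IsOpenImmersion.lift_fac _ _ _
  haveI hI : IsIso ((Scheme.Modules.restrictFunctor D.ι).map (homOfGlobal L g)) :=
    (isIso_restrict_homOfGlobal_iff L g D).2 fun V hV => by
      have := (isGen_gen (L := L) g).bijective hV
      simp only [H10Coh.mres_mres] at this
      exact this
  haveI : IsIso ((Scheme.Modules.pullback D.ι).map (homOfGlobal L g)) :=
    (NatIso.isIso_map_iff (Scheme.Modules.restrictFunctorIsoPullback D.ι) (homOfGlobal L g)).1 hI
  exact (NatIso.isIso_map_iff (Scheme.Modules.pullbackComp f' D.ι ≪≫ Scheme.Modules.pullbackCongr hf)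
    (homOfGlobal L g)).1 (inferInstanceAs (IsIso ((Scheme.Modules.pullback f').map
      ((Scheme.Modules.pullback D.ι).map (homOfGlobal L g)))))

variable (X) in
/-- The line with two coordinates over `X`. -/
abbrev P1 : Scheme.{u} := KRR.PY 1 X

/-- A coordinate of `O(1)` as a morphism. -/
def uu (X : Scheme.{u}) (k : Fin 2) : Coh.structureModule (P1 X) ⟶ Twist.twistOver 1 X 1 :=
  homOfGlobal _ (CMReg.coords 1 X k.1)

open scoped MonoidalCategory in
theorem map_app_tensorSect {F F' N : X.Modules} (f : F ⟶ F') (U : X.Opens) (m : Γ(F, U)) (n : Γ(N, U)) :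
    (((DCoh.tensorBi (X := X)).map f).app N).app U (H16Derived.KFlat.Stalk.tensorSect U m n) =
      H16Derived.KFlat.Stalk.tensorSect U (f.app U m) n := by
  have h := (PresheafOfModules.sheafificationAdjunction (R := X.ringCatSheaf) (𝟙 X.ringCatSheaf.obj)).unit.naturality
    ((DCoh.toP (X := X)).map f ▷ (DCoh.toP (X := X)).obj N)
  exact (congr($(congr(PresheafOfModules.Hom.app $h (op U))).hom
    (TensorProduct.tmul _ (show (CohB1.toPMod F).obj (op U) from m) (show (CohB1.toPMod N).obj (op U) from n)))).symm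

/-- The two coordinates are jointly epimorphic after tensoring. -/
theorem cancel_uu (X : Scheme.{u}) (M : (P1 X).Modules) {Z : (P1 X).Modules}
    (h : ((DCoh.tensorBi (X := P1 X)).obj (Twist.twistOver 1 X 1)).obj M ⟶ Z)
    (h0 : ∀ k, ((DCoh.tensorBi (X := P1 X)).map (uu X k)).app M ≫ h = 0) : h = 0 := by
  refine H10Coh.SheafHom.tensor_ext fun U l m => ?_
  change h.app U (H16Derived.KFlat.Stalk.tensorSect U l m) = (0 : Γ(Z, U))
  refine eq_of_locally _ _ fun z hz => ?_
  obtain ⟨k, hk, hzk⟩ := CMReg.coords_cover z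
  let V : (P1 X).Opens := U ⊓ gen (Twist.twistOver 1 X 1) (CMReg.coords 1 X k)
  have hg := (isGen_gen (L := Twist.twistOver 1 X 1) (CMReg.coords 1 X k)).res (inf_le_right : V ≤ _)
  rw [H10Coh.mres_mres] at hg
  obtain ⟨r, hr⟩ := exists_coeff hg ((Twist.twistOver 1 X 1).presheaf.map (homOfLE (inf_le_left : V ≤ U)).op l)
  refine ⟨V, inf_le_left, ⟨hz, hzk⟩, ?_⟩
  rw [map_zero, ← app_map_apply, ← H16Derived.KFlat.Stalk.tensorSect_res, hr]
  have hu : r • (Twist.twistOver 1 X 1).presheaf.map (homOfLE (le_top : V ≤ ⊤)).op (CMReg.coords 1 X k) =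
      (uu X ⟨k, hk⟩).app V r := (homOfGlobal_app _ _ V r).symm
  rw [hu, ← map_app_tensorSect]
  change (((DCoh.tensorBi (X := P1 X)).map (uu X ⟨k, hk⟩)).app M ≫ h).app V _ = 0
  rw [h0]; rfl

/-- The two sections of the line. -/
theorem exists_point (X : Scheme.{u}) (k : Fin 2) :
    ∃ s : X ⟶ P1 X, s ≫ KRR.pr 1 X = 𝟙 X ∧
      Nonempty ((Scheme.Modules.pullback s).obj (Twist.twistOver 1 X 1) ≅ Coh.structureModule X) ∧
      IsIso ((Scheme.Modules.pullback s).map (uu X k)) ∧
      ∀ j, j ≠ k → (Scheme.Modules.pullback s).map (uu X j) = 0 := by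
  let v : Fin (1 + 1) → Γ(Coh.structureModule X, ⊤) := fun j => if j = k then one ⊤ else 0
  have hone : ∀ x : X, x ∈ gen (Coh.structureModule X) (one (⊤ : X.Opens)) := fun x => by
    refine mem_gen_of_isGen (W := ⊤) ?_ trivial
    rw [H10Coh.mres_self]
    exact isGen_one ⊤
  obtain ⟨r, τ, hτ⟩ := H11Proj.exists_toPn' (PnDeg0.isInvertible_structure X) v fun x =>
    ⟨k, by simp only [v, if_pos rfl]; exact hone x⟩
  let s : X ⟶ P1 X := pullback.lift r (𝟙 X) (specULiftZIsTerminal.hom_ext _ _)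
  have hsr : s ≫ CMReg.fstP 1 X = r := pullback.lift_fst _ _ _
  refine ⟨s, pullback.lift_snd _ _ _, ⟨(Scheme.Modules.pullbackComp s (CMReg.fstP 1 X)).app _ ≪≫
    (Scheme.Modules.pullbackCongr hsr).app _ ≪≫ τ⟩, ?_, fun j hj => ?_⟩
  · refine isIso_pullback_map_homOfGlobal s _ fun x => ?_
    rw [CMReg.gen_coords k.2]
    show x ∈ (s ≫ CMReg.fstP 1 X) ⁻¹ᵁ Proj.basicOpen (CohB1.polyGrading 1 (ULift.{u} ℤ)) (MvPolynomial.X k)
    rw [hsr]
    have h := (H11Proj.pn_sections r τ v hτ).1 k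
    have hx := hone x
    rw [show one (⊤ : X.Opens) = v k by simp [v], h] at hx
    exact hx
  · refine pullback_map_homOfGlobal_eq_zero s _ ?_
    have h0 : pullTop r (L := Twist.twistProjSpace 1 (ULift.{u} ℤ) 1) (ProjUP.coord 1 (ULift.{u} ℤ) j) = 0 := by
      refine (H17.PullSect.bijective_app τ.hom ⊤).1 ?_
      refine (hτ j).trans (Eq.trans ?_ (map_zero _).symm)
      simp [v, hj]
    refine (H17.PullSect.bijective_app ((Scheme.Modules.pullbackComp s (CMReg.fstP 1 X)).hom.app _) ⊤).1 ?_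
    refine Eq.trans ?_ (map_zero _).symm
    have key := H17.PullSect.pullSect_comp s (CMReg.fstP 1 X) (Twist.twistProjSpace 1 (ULift.{u} ℤ) 1) ⊤
      (ProjUP.coord 1 (ULift.{u} ℤ) j)
    have hc : CMReg.coords 1 X j.1 = pullTop (CMReg.fstP 1 X) (ProjUP.coord 1 (ULift.{u} ℤ) j) := by
      rw [CMReg.coords, dif_pos j.2]
    rw [hc]
    refine (congrArg (((Scheme.Modules.pullbackComp s (CMReg.fstP 1 X)).hom.app
      (Twist.twistProjSpace 1 (ULift.{u} ℤ) 1)).app ⊤) key.symm).trans ?_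
    have hz : OmegaSh.pullSect (s ≫ CMReg.fstP 1 X) (Twist.twistProjSpace 1 (ULift.{u} ℤ) 1) ⊤
        (ProjUP.coord 1 (ULift.{u} ℤ) j) = 0 := by
      have h0' : ∀ r' : X ⟶ CohB1.ProjSpace 1 (ULift.{u} ℤ), r' = r →
          OmegaSh.pullSect r' (Twist.twistProjSpace 1 (ULift.{u} ℤ) 1) ⊤ (ProjUP.coord 1 (ULift.{u} ℤ) j) = 0 := by
        rintro r' rfl; exact h0
      exact h0' _ hsr
    rw [hz]
    erw [map_zero, map_zero]

theorem isExtPow_of_iso {i : ℕ} {E E' L : X.Modules} (e : E ≅ E') (h : ExtPow.IsExtPow i E L) :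
    ExtPow.IsExtPow i E' L := by
  obtain ⟨φ, hφ⟩ := h
  let φ' : ∀ U : X.affineOpens, Γ(L, U.1) ≃ₗ[Γ(X, U.1)] ↥(⋀[Γ(X, U.1)]^i Γ(E, U.1)) := fun U => φ U
  let ε : ∀ U : X.Opens, Γ(E, U) ≃ₗ[Γ(X, U)] Γ(E', U) := fun U =>
    LinearEquiv.ofBijective (ExtPowHom.appL e.hom U) (H17.PullSect.bijective_app e.hom U)
  let m : ∀ U : X.affineOpens, ↥(⋀[Γ(X, U.1)]^i Γ(E, U.1)) ≃ₗ[Γ(X, U.1)] ↥(⋀[Γ(X, U.1)]^i Γ(E', U.1)) := fun U =>
    LinearEquiv.ofLinear (exteriorPower.map i (ε U.1).toLinearMap) (exteriorPower.map i (ε U.1).symm.toLinearMap)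
      (exteriorPower.linearMap_ext <| AlternatingMap.ext fun v => by simp [Function.comp_def])
      (exteriorPower.linearMap_ext <| AlternatingMap.ext fun v => by simp [Function.comp_def])
  have hm : ∀ (U : X.affineOpens) (v : Fin i → Γ(E', U.1)), (m U).symm (exteriorPower.ιMulti _ i v) =
      exteriorPower.ιMulti _ i (fun t => (ε U.1).symm (v t)) := fun U v => exteriorPower.map_apply_ιMulti _ _
  refine ⟨fun U => (φ' U).trans (m U), fun U V h v => ?_⟩
  show L.presheaf.map (homOfLE h).op ((φ' U).symm ((m U).symm (exteriorPower.ιMulti _ i v))) =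
    (φ' V).symm ((m V).symm (exteriorPower.ιMulti _ i fun t => E'.presheaf.map (homOfLE h).op (v t)))
  rw [hm U, hm V]
  refine (hφ U V h _).trans ?_
  refine congrArg (fun z => (φ' V).symm (exteriorPower.ιMulti _ i z)) (funext fun t => ?_)
  refine (ε V.1).eq_symm_apply.2 ?_
  refine (app_map_apply e.hom h _).trans ?_
  exact congrArg _ ((ε U.1).apply_symm_apply (v t))

/-- `M ⟶ L ⊗ M` by a coordinate. -/
def mulU (X : Scheme.{u}) (k : Fin 2) (M : (P1 X).Modules) :
    M ⟶ ((DCoh.tensorBi (X := P1 X)).obj (Twist.twistOver 1 X 1)).obj M :=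
  (RegSheaf.leftUnit M).inv ≫ ((DCoh.tensorBi (X := P1 X)).map (uu X k)).app M

theorem pullback_map_tensor_eq (s : X ⟶ Y) {A B : Y.Modules} (u : A ⟶ B) (M : Y.Modules) :
    (Scheme.Modules.pullback s).map (((DCoh.tensorBi (X := Y)).map u).app M) =
      (H16Derived.KFlat.Stalk.pullTensorLIso s M).hom.app A ≫
        ((DCoh.tensorBi (X := X)).map ((Scheme.Modules.pullback s).map u)).app _ ≫
          (H16Derived.KFlat.Stalk.pullTensorLIso s M).inv.app B := by
  have h := (H16Derived.KFlat.Stalk.pullTensorLIso s M).hom.naturality u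
  rw [Functor.comp_map, Functor.comp_map] at h
  erw [← reassoc_of% h, Iso.hom_inv_id_app, Category.comp_id]
  rfl

theorem exists_twist_point {s : X ⟶ P1 X}
    (e : (Scheme.Modules.pullback s).obj (Twist.twistOver 1 X 1) ≅ Coh.structureModule X) : ∀ j : ℕ,
    Nonempty ((Scheme.Modules.pullback s).obj (Twist.twistOver 1 X (j : ℤ)) ≅ Coh.structureModule X)
  | 0 => by
    obtain ⟨t⟩ := RegBundle.nonempty_tensorPow_twist (n := 1) (Y := X) 0
    exact ⟨(Scheme.Modules.pullback s).mapIso t.symm ≪≫ H16Derived.KFlat.Stalk.structurePullbackIso s⟩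
  | j + 1 => by
    obtain ⟨d⟩ := exists_twist_point e j
    obtain ⟨a⟩ := RegSheaf.nonempty_twistOver_add (n := 1) (T := X) (j : ℤ) 1 ((j + 1 : ℕ) : ℤ) (by push_cast; ring)
    let T := DCoh.tensorBi (X := X)
    let t1 : (Scheme.Modules.pullback s).obj
        (((DCoh.tensorBi (X := P1 X)).obj (Twist.twistOver 1 X (j : ℤ))).obj (Twist.twistOver 1 X 1)) ≅
        (T.obj ((Scheme.Modules.pullback s).obj (Twist.twistOver 1 X (j : ℤ)))).obj
          ((Scheme.Modules.pullback s).obj (Twist.twistOver 1 X 1)) :=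
      (H16Derived.KFlat.Stalk.pullTensorLIso s (Twist.twistOver 1 X 1)).app (Twist.twistOver 1 X (j : ℤ))
    let t2 : (T.obj ((Scheme.Modules.pullback s).obj (Twist.twistOver 1 X (j : ℤ)))).obj
          ((Scheme.Modules.pullback s).obj (Twist.twistOver 1 X 1)) ≅
        (T.obj (Coh.structureModule X)).obj (Coh.structureModule X) :=
      (T.mapIso d).app _ ≪≫ (T.obj (Coh.structureModule X)).mapIso e
    exact ⟨(Scheme.Modules.pullback s).mapIso a.symm ≪≫ t1 ≪≫ t2 ≪≫ RegSheaf.leftUnit (Coh.structureModule X)⟩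

/-- Homotopy invariance: bundles on the line restrict to the same class at both points. -/
theorem homotopy [IsNoetherian X] {s s' : X ⟶ P1 X} (hs : s ≫ KRR.pr 1 X = 𝟙 X) (hs' : s' ≫ KRR.pr 1 X = 𝟙 X)
    (e : (Scheme.Modules.pullback s).obj (Twist.twistOver 1 X 1) ≅ Coh.structureModule X)
    (e' : (Scheme.Modules.pullback s').obj (Twist.twistOver 1 X 1) ≅ Coh.structureModule X)
    {G : (P1 X).Modules} (hG : FlatMod.IsFinLocFree G) :
    KRR.cl X ((Scheme.Modules.pullback s).obj G) = KRR.cl X ((Scheme.Modules.pullback s').obj G) := by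
  have hpull : ∀ t : X ⟶ P1 X, ∃ a : SGA6.Kvb (P1 X) →+ SGA6.Kvb X, ∀ E, FlatMod.IsFinLocFree E →
      a (KRR.cl _ E) = KRR.cl X ((Scheme.Modules.pullback t).obj E) := fun t =>
    KModel.exists_lift (fun E => KRR.cl X ((Scheme.Modules.pullback t).obj E)) fun S hS h₁ h₂ h₃ =>
      KModel.cl_add (KModel.shortExact_pullback t hS h₃)
        (H16Derived.KFlat.Stalk.isFinLocFree_pullback t h₁) (H16Derived.KFlat.Stalk.isFinLocFree_pullback t h₂)
        (H16Derived.KFlat.Stalk.isFinLocFree_pullback t h₃)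
  obtain ⟨a, ha⟩ := hpull s
  obtain ⟨a', ha'⟩ := hpull s'
  have hval : ∀ (t : X ⟶ P1 X), t ≫ KRR.pr 1 X = 𝟙 X →
      ((Scheme.Modules.pullback t).obj (Twist.twistOver 1 X 1) ≅ Coh.structureModule X) →
      ∀ (k : ℕ) (E : X.Modules), FlatMod.IsFinLocFree E →
        KRR.cl X ((Scheme.Modules.pullback t).obj (KRR.twF 1 X (k : ℤ)
          ((Scheme.Modules.pullback (KRR.pr 1 X)).obj E))) = KRR.cl X E := fun t ht et k E hE => by
    obtain ⟨d⟩ := exists_twist_point et k
    exact KModel.cl_iso ((H16Derived.KFlat.Stalk.pullTensorLIso t _).app _ ≪≫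
      PicGrp.tensorModIso d ((Scheme.Modules.pullbackComp t (KRR.pr 1 X)).app E ≪≫
        (Scheme.Modules.pullbackCongr ht).app E ≪≫ (Scheme.Modules.pullbackId X).app E) ≪≫ RegSheaf.leftUnit E)
      (H16Derived.KFlat.Stalk.isFinLocFree_pullback t (RegBundle.finLocFree_twF _
        (H16Derived.KFlat.Stalk.isFinLocFree_pullback _ hE)))
  have h : a = a' := KIndep.ext_twist fun k E hE => by
    have hf := RegBundle.finLocFree_twF (n := 1) (Y := X) (k : ℤ)
      (H16Derived.KFlat.Stalk.isFinLocFree_pullback (KRR.pr 1 X) hE)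
    rw [ha _ hf, ha' _ hf, hval s hs e k E hE, hval s' hs' e' k E hE]
  rw [← ha G hG, ← ha' G hG, h]

/-- A short exact sequence is homotopic to the split one. -/
theorem exists_deformation [IsNoetherian X] {S : ShortComplex X.Modules} (hS : S.ShortExact)
    (h₁ : FlatMod.IsFinLocFree S.X₁) (h₂ : FlatMod.IsFinLocFree S.X₂) (h₃ : FlatMod.IsFinLocFree S.X₃) :
    ∃ (s s' : X ⟶ P1 X) (_ : s ≫ KRR.pr 1 X = 𝟙 X) (_ : s' ≫ KRR.pr 1 X = 𝟙 X)
      (_ : (Scheme.Modules.pullback s).obj (Twist.twistOver 1 X 1) ≅ Coh.structureModule X)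
      (_ : (Scheme.Modules.pullback s').obj (Twist.twistOver 1 X 1) ≅ Coh.structureModule X)
      (G : (P1 X).Modules), FlatMod.IsFinLocFree G ∧
      Nonempty ((Scheme.Modules.pullback s).obj G ≅ S.X₂) ∧
      Nonempty ((Scheme.Modules.pullback s').obj G ≅ S.X₁ ⊞ S.X₃) := by
  obtain ⟨s, hs, ⟨e⟩, hs0, hs1⟩ := exists_point X 0
  obtain ⟨s', hs', ⟨e'⟩, hs'1, hs'0⟩ := exists_point X 1
  haveI : (Scheme.Modules.pullback (KRR.pr 1 X)).IsLeftAdjoint :=
    (Scheme.Modules.pullbackPushforwardAdjunction _).isLeftAdjoint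
  haveI := hS.epi_g
  let p := Scheme.Modules.pullback (KRR.pr 1 X)
  let A := p.obj S.X₂
  let B := p.obj S.X₃
  let ψ := biprod.desc (p.map S.g ≫ mulU X 1 B) (mulU X 0 B)
  haveI : Epi ψ := by
    refine Preadditive.epi_of_cancel_zero _ fun {Z} h hh => cancel_uu X B h fun k => ?_
    have hl := biprod.inl ≫= hh
    have hr := biprod.inr ≫= hh
    rw [biprod.inl_desc_assoc, comp_zero, Category.assoc, ← comp_zero (f := p.map S.g), cancel_epi] at hl
    rw [biprod.inr_desc_assoc, comp_zero] at hr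
    fin_cases k
    · rw [mulU, Category.assoc, ← comp_zero (f := (RegSheaf.leftUnit B).inv), cancel_epi] at hr; exact hr
    · rw [mulU, Category.assoc, ← comp_zero (f := (RegSheaf.leftUnit B).inv), cancel_epi] at hl; exact hl
  have hA := H16Derived.KFlat.Stalk.isFinLocFree_pullback (KRR.pr 1 X) h₂
  have hB := H16Derived.KFlat.Stalk.isFinLocFree_pullback (KRR.pr 1 X) h₃
  have hT : FlatMod.IsFinLocFree (((DCoh.tensorBi (X := P1 X)).obj (Twist.twistOver 1 X 1)).obj B) :=
    RegBundle.finLocFree_twF 1 hB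
  have hψ : (ShortComplex.mk (kernel.ι ψ) ψ (kernel.condition ψ)).ShortExact :=
    { exact := ShortComplex.exact_kernel ψ }
  have hG := H16Derived.KFlat.Stalk.isFinLocFree_left hψ (H16Derived.KFlat.Stalk.isFinLocFree_biprod hA hB) hT
  refine ⟨s, s', hs, hs', e, e', kernel ψ, hG, ?_, ?_⟩
  · -- the value at the first point
    let F := Scheme.Modules.pullback s
    haveI : F.IsLeftAdjoint := (Scheme.Modules.pullbackPushforwardAdjunction _).isLeftAdjoint
    have hF := KModel.shortExact_pullback s hψ hT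
    haveI := hF.mono_f
    haveI hβ : IsIso (F.map (mulU X 0 B)) := by
      haveI : IsIso (F.map (((DCoh.tensorBi (X := P1 X)).map (uu X 0)).app B)) := by
        rw [pullback_map_tensor_eq]
        haveI := hs0
        infer_instance
      rw [mulU, Functor.map_comp]
      infer_instance
    let j : A ⟶ A ⊞ B := biprod.inl
    let α := F.map (p.map S.g ≫ mulU X 1 B)
    let w : F.obj A ⟶ F.obj (A ⊞ B) := F.map biprod.inl - α ≫ inv (F.map (mulU X 0 B)) ≫ F.map biprod.inr
    have hw : w ≫ F.map ψ = 0 := by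
      simp only [w, α, ψ, Preadditive.sub_comp, Category.assoc, ← F.map_comp, biprod.inl_desc, biprod.inr_desc,
        IsIso.inv_hom_id, Category.comp_id, sub_self]
    let ι : F.obj (kernel ψ) ⟶ F.obj (A ⊞ B) := F.map (kernel.ι ψ)
    have hlim := hF.fIsKernel
    let b : F.obj A ⟶ F.obj (kernel ψ) := hlim.lift (KernelFork.ofι w hw)
    have hb : b ≫ ι = w := hlim.fac (KernelFork.ofι w hw) WalkingParallelPair.zero
    let a : F.obj (kernel ψ) ⟶ F.obj A := ι ≫ F.map biprod.fst
    have hba : b ≫ a = 𝟙 _ := by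
      rw [show b ≫ a = (b ≫ ι) ≫ F.map biprod.fst from (Category.assoc _ _ _).symm, hb]
      simp only [w, Preadditive.sub_comp, Category.assoc, ← F.map_comp, biprod.inr_fst,
        Functor.map_zero, comp_zero, sub_zero]
      exact (congrArg F.map biprod.inl_fst).trans (F.map_id _)
    have hab : a ≫ b = 𝟙 _ := by
      haveI : Mono ι := hF.mono_f
      rw [← cancel_mono ι, Category.assoc, hb, Category.id_comp]
      have h0 : ι ≫ F.map ψ = 0 := by rw [← F.map_comp, kernel.condition, F.map_zero]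
      have hid : 𝟙 (A ⊞ B) = biprod.fst ≫ biprod.inl + biprod.snd ≫ biprod.inr := biprod.total.symm
      have hψ' : F.map ψ = F.map biprod.fst ≫ F.map (p.map S.g ≫ mulU X 1 B) + F.map biprod.snd ≫ F.map (mulU X 0 B) :=
        (congrArg F.map biprod.desc_eq).trans (by rw [F.map_add, F.map_comp, F.map_comp biprod.snd])
      have e1 : (ι ≫ F.map biprod.snd) ≫ F.map (mulU X 0 B) =
          -((ι ≫ F.map biprod.fst) ≫ α) := by
        rw [eq_neg_iff_add_eq_zero, ← h0, hψ', Preadditive.comp_add]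
        simp only [α, Category.assoc]
        exact add_comm _ _
      have e2 : ι ≫ F.map biprod.snd = -((ι ≫ F.map biprod.fst) ≫ α ≫ inv (F.map (mulU X 0 B))) := by
        rw [← cancel_mono (F.map (mulU X 0 B)), e1, Preadditive.neg_comp]
        simp only [Category.assoc, IsIso.inv_hom_id, Category.comp_id]
      calc a ≫ w = (ι ≫ F.map biprod.fst) ≫ F.map biprod.inl +
            (-((ι ≫ F.map biprod.fst) ≫ α ≫ inv (F.map (mulU X 0 B)))) ≫ F.map biprod.inr := by
            simp only [w, a, Preadditive.comp_sub, Preadditive.neg_comp, Category.assoc]; abel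
        _ = ι ≫ F.map (𝟙 (A ⊞ B)) := by
            rw [← e2, hid, F.map_add, F.map_comp, F.map_comp biprod.snd, Preadditive.comp_add]
            simp only [Category.assoc]
        _ = ι := by rw [F.map_id, Category.comp_id]
    exact ⟨(⟨a, b, hab, hba⟩ : F.obj (kernel ψ) ≅ F.obj A) ≪≫
      (Scheme.Modules.pullbackComp s (KRR.pr 1 X)).app S.X₂ ≪≫ (Scheme.Modules.pullbackCongr hs).app S.X₂ ≪≫
        (Scheme.Modules.pullbackId X).app S.X₂⟩
  · -- the value at the second point
    let F := Scheme.Modules.pullback s'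
    haveI : F.IsLeftAdjoint := (Scheme.Modules.pullbackPushforwardAdjunction _).isLeftAdjoint
    have hF := KModel.shortExact_pullback s' hψ hT
    haveI := hF.mono_f
    haveI hβ : IsIso (F.map (mulU X 1 B)) := by
      haveI : IsIso (F.map (((DCoh.tensorBi (X := P1 X)).map (uu X 1)).app B)) := by
        rw [pullback_map_tensor_eq]
        haveI := hs'1
        infer_instance
      rw [mulU, Functor.map_comp]
      infer_instance
    have hzero : F.map (mulU X 0 B) = 0 := by
      rw [mulU, Functor.map_comp, pullback_map_tensor_eq, hs'0 0 (by decide), Functor.map_zero]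
      simp
    let ι : F.obj (kernel ψ) ⟶ F.obj (A ⊞ B) := F.map (kernel.ι ψ)
    let θ : p ⋙ F ≅ 𝟭 X.Modules := Scheme.Modules.pullbackComp s' (KRR.pr 1 X) ≪≫
      Scheme.Modules.pullbackCongr hs' ≪≫ Scheme.Modules.pullbackId X
    let f₁ : S.X₁ ⟶ F.obj A := S.f ≫ θ.inv.app S.X₂
    let f₃ : S.X₃ ⟶ F.obj B := θ.inv.app S.X₃
    let w : S.X₁ ⊞ S.X₃ ⟶ F.obj (A ⊞ B) := biprod.desc (f₁ ≫ F.map biprod.inl) (f₃ ≫ F.map biprod.inr)
    have hnat : F.map (p.map S.g) = θ.hom.app S.X₂ ≫ S.g ≫ θ.inv.app S.X₃ := by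
      have := θ.hom.naturality S.g
      simp only [Functor.comp_map, Functor.id_map] at this
      rw [← reassoc_of% this, Iso.hom_inv_id_app]
      exact (Category.comp_id _).symm
    have hw : w ≫ F.map ψ = 0 := by
      refine biprod.hom_ext' _ _ ?_ ?_
      · simp only [w, biprod.inl_desc_assoc, Category.assoc, ← F.map_comp, ψ, biprod.inl_desc, comp_zero]
        rw [F.map_comp, hnat]
        simp only [f₁, Category.assoc]
        rw [Iso.inv_hom_id_app_assoc]
        exact (reassoc_of% S.zero) _ |>.trans zero_comp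
      · simp only [w, biprod.inr_desc_assoc, Category.assoc, ← F.map_comp, ψ, biprod.inr_desc, comp_zero]
        rw [hzero, comp_zero]
    have hlim := hF.fIsKernel
    let b : S.X₁ ⊞ S.X₃ ⟶ F.obj (kernel ψ) := hlim.lift (KernelFork.ofι w hw)
    have hb : b ≫ ι = w := hlim.fac (KernelFork.ofι w hw) WalkingParallelPair.zero
    have hk : (ι ≫ F.map biprod.fst ≫ θ.hom.app S.X₂) ≫ S.g = 0 := by
      have h0 : ι ≫ F.map ψ = 0 := by rw [← F.map_comp, kernel.condition, F.map_zero]
      have hψ' : F.map ψ = F.map biprod.fst ≫ F.map (p.map S.g ≫ mulU X 1 B) + F.map biprod.snd ≫ F.map (mulU X 0 B) :=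
        (congrArg F.map biprod.desc_eq).trans (by rw [F.map_add, F.map_comp, F.map_comp biprod.snd])
      rw [hψ', F.map_comp (p.map S.g), hzero, comp_zero, add_zero, hnat] at h0
      haveI : IsIso (θ.inv.app S.X₃) := inferInstance
      rw [← cancel_mono (θ.inv.app S.X₃ ≫ F.map (mulU X 1 B)), zero_comp, ← h0]
      simp only [Category.assoc]
      rfl
    haveI := hS.mono_f
    let a : F.obj (kernel ψ) ⟶ S.X₁ ⊞ S.X₃ :=
      biprod.lift (hS.fIsKernel.lift (KernelFork.ofι _ hk)) (ι ≫ F.map biprod.snd ≫ θ.hom.app S.X₃)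
    have ha1 : hS.fIsKernel.lift (KernelFork.ofι _ hk) ≫ S.f = ι ≫ F.map biprod.fst ≫ θ.hom.app S.X₂ :=
      hS.fIsKernel.fac (KernelFork.ofι _ hk) WalkingParallelPair.zero
    have hab : a ≫ b = 𝟙 _ := by
      haveI : Mono ι := hF.mono_f
      rw [← cancel_mono ι, Category.assoc, hb, Category.id_comp]
      calc a ≫ w = ι ≫ F.map (biprod.fst ≫ biprod.inl + biprod.snd ≫ biprod.inr) := by
            simp only [a, w, biprod.lift_desc, f₁, f₃, reassoc_of% ha1, Category.assoc, F.map_add, F.map_comp,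
              Preadditive.comp_add, Iso.hom_inv_id_app_assoc]
        _ = ι := by rw [biprod.total, F.map_id, Category.comp_id]
    have hba : b ≫ a = 𝟙 _ := by
      haveI : Mono (biprod.map S.f (𝟙 S.X₃)) := inferInstance
      rw [← cancel_mono (biprod.map S.f (𝟙 S.X₃)), Category.id_comp, Category.assoc]
      refine biprod.hom_ext _ _ ?_ ?_
      · simp only [a, Category.assoc, biprod.map_fst, biprod.lift_fst_assoc, ha1]
        refine (reassoc_of% hb) _ |>.trans ?_
        refine biprod.hom_ext' _ _ ?_ ?_ <;>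
          simp [w, f₁, f₃, ← F.map_comp_assoc]
      · simp only [a, Category.assoc, biprod.map_snd, biprod.lift_snd_assoc, biprod.lift_snd, Category.comp_id]
        refine (reassoc_of% hb) _ |>.trans ?_
        refine biprod.hom_ext' _ _ ?_ ?_ <;>
          simp [w, f₁, f₃, ← F.map_comp_assoc]
    exact ⟨⟨a, b, hab, hba⟩⟩

/-- `[Λ^i X₂] = ∑ [Λ^j X₁ ⊗ Λ^{i-j} X₃]`. -/
theorem cl_extPow_shortExact [IsNoetherian X] {S : ShortComplex X.Modules} (hS : S.ShortExact)
    (h₁ : FlatMod.IsFinLocFree S.X₁) (h₂ : FlatMod.IsFinLocFree S.X₂) (h₃ : FlatMod.IsFinLocFree S.X₃)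
    {i : ℕ} {L : X.Modules} (hL : ExtPow.IsExtPow i S.X₂ L) (LA LB : ℕ → X.Modules)
    (hLA : ∀ j, ExtPow.IsExtPow j S.X₁ (LA j)) (hLB : ∀ j, ExtPow.IsExtPow j S.X₃ (LB j)) :
    KRR.cl X L = ∑ j ∈ Finset.range (i + 1),
      KRR.cl X (H16Derived.KFlat.Stalk.tensor (LA j) (LB (i - j))) := by
  obtain ⟨s, s', hs, hs', e, e', G, hG, ⟨a⟩, ⟨b⟩⟩ := exists_deformation hS h₁ h₂ h₃
  have hq := H8Props.FinLocFree.isQCoh_of_isFinLocFree _ hG
  obtain ⟨M, hM⟩ := ExtPowSheaf.exists_isExtPow i hq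
  have hMf := ExtPowHom.finLocFree_of_isExtPow hG hM
  have h12 := H16Derived.KFlat.Stalk.isFinLocFree_biprod h₁ h₃
  obtain ⟨L', hL'⟩ := ExtPowSheaf.exists_isExtPow i (H8Props.FinLocFree.isQCoh_of_isFinLocFree _ h12)
  have e1 := ExtPowHom.isExtPow_pullback s hq hM
  have e2 := ExtPowHom.isExtPow_pullback s' hq hM
  rw [← ExtPowSum.cl_extPow_biprod h₁ h₃ hL' LA LB hLA hLB]
  obtain ⟨c1⟩ := ExtPowHom.nonempty_iso (isExtPow_of_iso a e1) hL
  obtain ⟨c2⟩ := ExtPowHom.nonempty_iso (isExtPow_of_iso b e2) hL'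
  rw [← KModel.cl_iso c1 (H16Derived.KFlat.Stalk.isFinLocFree_pullback s hMf),
    ← KModel.cl_iso c2 (H16Derived.KFlat.Stalk.isFinLocFree_pullback s' hMf)]
  exact homotopy hs hs' e e' hMf

end Groth.Agent.H22Alg.ExtPowSES
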