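import Groth.Agent.H22Alg.KPullLam

/-! # The relation satisfied by an invertible quotient of a pulled back bundle. -/

set_option autoImplicit false
set_option linter.style.haveILetI false

universe v u

open CategoryTheory CategoryTheory.Limits AlgebraicGeometry LambdaRing
attribute [local instance] HasDerivedCategory.standard

noncomputable section

namespace Groth.Agent.H22Alg.PBRel

theorem sum_lam_add_line {K : Type v} [CommRing K] [LambdaOps K] {n : ℕ} {k l : K}
    (hk : ∀ i, n < i → LambdaOps.lam i k = 0) (hl : ∀ i, 2 ≤ i → LambdaOps.lam i l = 0) :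
    ∑ i ∈ Finset.range (n + 2), (-1 : K) ^ i * LambdaOps.lam i (k + l) * l ^ (n + 1 - i) = 0 := by
  have hrec : ∀ i, LambdaOps.lam (i + 1) (k + l) = LambdaOps.lam (i + 1) k + LambdaOps.lam i k * l := fun i => by
    rw [LambdaOps.lam_add, Finset.sum_range_succ, Finset.sum_range_succ, Nat.sub_self, LambdaOps.lam_zero,
      show i + 1 - i = 1 by omega, LambdaOps.lam_one, mul_one, Finset.sum_eq_zero fun j hj => by
        rw [hl _ (by have := Finset.mem_range.1 hj; omega), mul_zero], zero_add, add_comm]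
  have key : ∀ m ≤ n + 1, ∑ i ∈ Finset.range (m + 1), (-1 : K) ^ i * LambdaOps.lam i (k + l) * l ^ (n + 1 - i) =
      (-1 : K) ^ m * LambdaOps.lam m k * l ^ (n + 1 - m) := by
    intro m
    induction m with
    | zero => intro _; simp [LambdaOps.lam_zero]
    | succ m ih =>
      intro hm
      rw [Finset.sum_range_succ, ih (by omega), hrec, show n + 1 - m = n + 1 - (m + 1) + 1 by omega, pow_succ, pow_succ]
      ring
  rw [key (n + 1) le_rfl, hk (n + 1) (by omega)]
  simp

theorem isZero_of_rank_zero {Z : Scheme.{u}} {M : Z.Modules} (h : FlatMod.IsFinLocFreeOfRank 0 M) : IsZero M := by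
  rw [IsZero.iff_id_eq_zero]
  refine Scheme.Modules.hom_ext _ _ fun V => ConcreteCategory.hom_ext _ _ fun s => ?_
  change s = (0 : Γ(M, V))
  refine H11Tilde.eq_of_locally _ _ fun x hx => ?_
  obtain ⟨U, hxU, ⟨e⟩⟩ := h x
  refine ⟨V ⊓ U, inf_le_left, ⟨hx, hxU⟩, ?_⟩
  have h0 : IsZero (FlatMod.freeMod (↑U : Scheme.{u}) 0) := by
    rw [IsZero.iff_id_eq_zero]
    exact Sigma.hom_ext _ _ fun i => Fin.elim0 i
  have hz : IsZero (M.restrict U.ι) := h0.of_iso e
  have h1 : Subsingleton Γ(M.restrict U.ι, U.ι ⁻¹ᵁ V) := subsingleton_of_forall_eq 0 fun t => by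
    have := congrArg (fun f : M.restrict U.ι ⟶ M.restrict U.ι => f.app (U.ι ⁻¹ᵁ V) t) ((IsZero.iff_id_eq_zero _).1 hz)
    simpa using this
  have heq : U.ι ''ᵁ (U.ι ⁻¹ᵁ V) = V ⊓ U := by
    rw [U.ι.image_preimage_eq_opensRange_inf, Scheme.Opens.opensRange_ι, inf_comm]
  exact @Subsingleton.elim _ ((M.presheaf.mapIso (eqToIso heq.symm).op).addCommGroupIsoToAddEquiv.toEquiv.subsingleton_congr.1 h1) _ _

variable {X P : Scheme.{u}} [ConnectedSpace ↥X] [ConnectedSpace ↥P] {π : P ⟶ X} {E : X.Modules} {O1 : P.Modules}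
  {KX : Type v} [CommRing KX] [LambdaOps KX] {PX : PosStructure KX} {φX : SGA6.Kvb X →+ KX}
  {KP : Type v} [CommRing KP] [LambdaOps KP] {PP : PosStructure KP} {φP : SGA6.Kvb P →+ KP}
  (hKX : KRR.IsModel X KX PX φX) (hKP : KRR.IsModel P KP PP φP) {g : KX →+ KP} (hg : KRR.IsPull π φX φP g)

include hKX hKP hg

theorem relation {r : ℕ} (hE : FlatMod.IsFinLocFreeOfRank (r + 1) E) (hO : FlatMod.IsFinLocFreeOfRank 1 O1)
    (q : (Scheme.Modules.pullback π).obj E ⟶ O1) [Epi q] :
    ∑ i ∈ Finset.range (r + 2), (-1 : KP) ^ i * g (LambdaOps.lam i (φX (KRR.cl X E))) *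
      φP (KRR.cl P O1) ^ (r + 1 - i) = 0 := by
  have hO' := KPullLam.finLocFree_of_rank hO
  have hE' := KPullLam.finLocFree_of_rank hE
  have hpE := H16Derived.KFlat.Stalk.isFinLocFree_pullback π hE'
  have hS : (ShortComplex.mk (kernel.ι q) q (kernel.condition q)).ShortExact :=
    { exact := ShortComplex.exact_kernel q }
  have hK := H16Derived.KFlat.Stalk.isFinLocFree_left hS hpE hO'
  obtain ⟨m, hm⟩ := KModel.exists_rank hK
  have hadd : φP (KRR.cl P ((Scheme.Modules.pullback π).obj E)) =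
      φP (KRR.cl P (kernel q)) + φP (KRR.cl P O1) := by
    rw [← map_add]; exact congrArg φP (KModel.cl_add hS hK hpE hO')
  have hmr : m = r := by
    have h := congrArg PP.aug hadd
    have h' : PP.aug (φP (KRR.cl P (kernel q))) = m := hKP.aug_cl m _ hm
    rw [map_add, h', hKP.aug_cl _ _ (KPullLam.finLocFreeOfRank_pullback π hE), hKP.aug_cl 1 _ hO] at h
    omega
  subst hmr
  simp only [KPullLam.map_lam hKP hKX hg, hg E hE', hadd]
  refine sum_lam_add_line (fun i hi => ?_) fun i hi => ?_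
  · obtain hz | hz := Nat.eq_zero_or_pos m
    · subst hz
      obtain ⟨x₀⟩ : Nonempty ↥P := inferInstance
      exact (congrArg (LambdaOps.lam i) (congrArg φP (KModel.cl_isZero
        (isZero_of_rank_zero hm)) |>.trans φP.map_zero)).trans (H27Lambda.lam_zero_of_pos hi)
    · have hpos : φP (KRR.cl P (kernel q)) ∈ PP.pos := (hKP.mem_pos_iff _).2 ⟨m, _, hz, hm, rfl⟩
      refine PP.lam_eq_zero _ hpos i ?_
      rw [hKP.aug_cl m _ hm]
      exact_mod_cast hi
  · refine PP.lam_eq_zero _ ((hKP.mem_pos_iff _).2 ⟨1, O1, le_rfl, hO, rfl⟩) i ?_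
    rw [hKP.aug_cl 1 _ hO]
    exact_mod_cast hi

end Groth.Agent.H22Alg.PBRel
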