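import Groth.Agent.H18Descent.Basic
import Mathlib.AlgebraicGeometry.Morphisms.UniversallyOpen
import Mathlib.AlgebraicGeometry.Morphisms.QuasiCompact
import Mathlib.AlgebraicGeometry.Morphisms.FlatDescent
import Mathlib.AlgebraicGeometry.PullbackCarrier

/-!
Descent along flat surjective morphisms that need not be quasi-compact.
-/

universe u

open CategoryTheory CategoryTheory.Limits AlgebraicGeometry

namespace Groth.Agent.H22Alg

theorem flat_fromSpecStalk (X : Scheme.{u}) (x : X) : Flat (X.fromSpecStalk x) := by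
  obtain ⟨_, ⟨U, hU, rfl⟩, hxU, -⟩ :=
    X.isBasis_affineOpens.exists_subset_of_mem_open (Set.mem_univ x) isOpen_univ
  rw [← hU.fromSpecStalk_eq_fromSpecStalk hxU]
  have := hU.isLocalization_stalk ⟨x, hxU⟩
  let := TopCat.Presheaf.algebra_section_stalk X.presheaf ⟨x, hxU⟩
  have : Flat (Spec.map (X.presheaf.germ U x hxU)) := Flat.SpecMap_iff.mpr
    (RingHom.flat_algebraMap_iff.mpr (IsLocalization.flat _ (hU.primeIdealOf ⟨x, hxU⟩).asIdeal.primeCompl))
  rw [IsAffineOpen.fromSpecStalk]
  infer_instance

theorem stalkMap_injective_of_flat {X Y : Scheme.{u}} (f : X ⟶ Y) [Flat f] (x : X) :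
    Function.Injective (f.stalkMap x) := by
  have hflat : (f.stalkMap x).hom.Flat := Flat.stalkMap f x
  algebraize [(f.stalkMap x).hom]
  have : IsLocalHom (algebraMap (Y.presheaf.stalk (f x)) (X.presheaf.stalk x)) :=
    inferInstanceAs (IsLocalHom (f.stalkMap x).hom)
  have : Module.Flat (Y.presheaf.stalk (f x)) (X.presheaf.stalk x) := hflat
  have := Module.FaithfullyFlat.of_flat_of_isLocalHom (A := Y.presheaf.stalk (f x))
    (B := X.presheaf.stalk x)
  exact FaithfulSMul.algebraMap_injective _ _

theorem isHomeomorph_of_baseChange {X Y Y' : Scheme.{u}} (f : X ⟶ Y) (g : Y' ⟶ Y)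
    [Flat g] [Surjective g] [QuasiCompact f] (h : IsHomeomorph (pullback.snd f g).base) :
    IsHomeomorph f.base := by
  have hcomm : ∀ z : ↥(pullback f g), f (pullback.fst f g z) = g (pullback.snd f g z) := fun z => by
    rw [← Scheme.Hom.comp_apply, ← Scheme.Hom.comp_apply, pullback.condition]
  have hsurj : Function.Surjective f.base := by
    intro y
    obtain ⟨y', rfl⟩ := g.surjective y
    obtain ⟨z, rfl⟩ := h.bijective.2 y'
    exact ⟨_, hcomm z⟩
  have hinj : Function.Injective f.base := by
    intro a b hab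
    obtain ⟨y', hy'⟩ := g.surjective (f a)
    obtain ⟨za, ha1, ha2⟩ := Scheme.Pullback.exists_preimage_pullback a y' hy'.symm
    obtain ⟨zb, hb1, hb2⟩ := Scheme.Pullback.exists_preimage_pullback b y' (hab.symm.trans hy'.symm)
    rw [← ha1, ← hb1, h.bijective.1 (ha2.trans hb2.symm)]
  refine isHomeomorph_iff_continuous_isClosedMap_bijective.mpr ⟨f.continuous, ?_, hinj, hsurj⟩
  rw [AlgebraicGeometry.isClosedMap_iff_specializingMap]
  intro x y hxy
  obtain ⟨y', rfl⟩ := g.surjective y
  obtain ⟨y₁, hy₁, hy₁'⟩ := Flat.generalizingMap g hxy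
  obtain ⟨z₁, hz1, hz2⟩ := Scheme.Pullback.exists_preimage_pullback x y₁ hy₁'.symm
  have hs : pullback.snd f g z₁ ⤳ y' := by rw [hz2]; exact hy₁
  obtain ⟨z, hz, hzy⟩ := h.isClosedMap.specializingMap hs
  refine ⟨pullback.fst f g z, hz1 ▸ hz.map (pullback.fst f g).continuous, ?_⟩
  show f (pullback.fst f g z) = g y'
  rw [hcomm]
  exact congrArg g hzy

/-- The square of a quasi-compact morphism over local rings: base change to a stalk is an isomorphism. -/
theorem isIso_stalkSpec_of_baseChange {X Y Y' : Scheme.{u}} (f : X ⟶ Y) (g : Y' ⟶ Y) [Flat g]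
    [IsIso (pullback.snd f g)] (y' : Y') :
    IsIso (pullback.snd f (Y.fromSpecStalk (g y'))) := by
  let φ := Spec.map (g.stalkMap y')
  have hq : (@Surjective ⊓ @Flat ⊓ @QuasiCompact : MorphismProperty Scheme.{u}) φ := by
    have hff : (g.stalkMap y').hom.FaithfullyFlat := by
      have hflat : (g.stalkMap y').hom.Flat := Flat.stalkMap g y'
      algebraize [(g.stalkMap y').hom]
      have : IsLocalHom (algebraMap (Y.presheaf.stalk (g y')) (Y'.presheaf.stalk y')) :=
        inferInstanceAs (IsLocalHom (g.stalkMap y').hom)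
      have : Module.Flat (Y.presheaf.stalk (g y')) (Y'.presheaf.stalk y') := hflat
      exact RingHom.faithfullyFlat_algebraMap_iff.mpr (Module.FaithfullyFlat.of_flat_of_isLocalHom)
    exact ⟨(flat_and_surjective_SpecMap_iff _).mpr hff |> And.symm, inferInstance⟩
  have e : φ ≫ Y.fromSpecStalk (g y') = Y'.fromSpecStalk y' ≫ g :=
    Scheme.SpecMap_stalkMap_fromSpecStalk g
  have H1 : IsPullback (pullback.fst (pullback.snd f g) (Y'.fromSpecStalk y') ≫ pullback.fst f g)
      (pullback.snd (pullback.snd f g) (Y'.fromSpecStalk y')) f (φ ≫ Y.fromSpecStalk (g y')) := by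
    rw [e]
    exact (IsPullback.of_hasPullback _ _).paste_horiz (IsPullback.of_hasPullback f g)
  have hw : (pullback.fst (pullback.snd f g) (Y'.fromSpecStalk y') ≫ pullback.fst f g) ≫ f =
      (pullback.snd (pullback.snd f g) (Y'.fromSpecStalk y') ≫ φ) ≫ Y.fromSpecStalk (g y') := by
    rw [H1.w, Category.assoc]
  have H2 := IsPullback.of_right (h₁₁ := pullback.lift _ _ hw)
    (by rw [pullback.lift_fst]; exact H1) (pullback.lift_snd _ _ hw) (IsPullback.of_hasPullback f (Y.fromSpecStalk (g y')))
  exact MorphismProperty.of_isPullback_of_descendsAlong (P := MorphismProperty.isomorphisms Scheme.{u})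
    (Q := (@Surjective ⊓ @Flat ⊓ @QuasiCompact : MorphismProperty Scheme.{u}))
    H2.flip hq (inferInstanceAs (IsIso (pullback.snd (pullback.snd f g) (Y'.fromSpecStalk y'))))

theorem isIso_of_baseChange {X Y Y' : Scheme.{u}} (f : X ⟶ Y) (g : Y' ⟶ Y)
    [Flat g] [Surjective g] [QuasiCompact f] [IsIso (pullback.snd f g)] : IsIso f := by
  have hh : IsHomeomorph f.base := isHomeomorph_of_baseChange f g
    (Scheme.Hom.homeomorph (pullback.snd f g)).isHomeomorph
  have hst : ∀ x : X, IsIso (f.stalkMap x) := by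
    intro x
    obtain ⟨y', hy'⟩ := g.surjective (f x)
    have h1 := isIso_stalkSpec_of_baseChange f g y'
    rw [hy'] at h1
    let j := Y.fromSpecStalk (f x)
    have : Flat j := flat_fromSpecStalk Y (f x)
    let c : ↥(Spec (Y.presheaf.stalk (f x))) := IsLocalRing.closedPoint (Y.presheaf.stalk (f x))
    let m := inv (pullback.snd f j) ≫ pullback.fst f j
    have hm : m ≫ f = j := by simp [m, pullback.condition]
    have hmc : m c = x := by
      apply hh.injective
      show f (m c) = f x
      rw [← Scheme.Hom.comp_apply, hm]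
      exact Scheme.fromSpecStalk_closedPoint
    have hiso : IsIso (j.stalkMap c) :=
      (ConcreteCategory.isIso_iff_bijective _).mpr
        ⟨stalkMap_injective_of_flat j c, j.stalkMap_surjective c⟩
    have hcomp : IsIso ((m ≫ f).stalkMap c) := by rw [hm]; exact hiso
    rw [Scheme.Hom.stalkMap_comp] at hcomp
    have : Flat m := inferInstance
    have hinjm : Function.Injective (m.stalkMap c) := stalkMap_injective_of_flat m c
    have hb := (ConcreteCategory.isIso_iff_bijective _).mp hcomp
    rw [← hmc, ConcreteCategory.isIso_iff_bijective]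
    constructor
    · intro a b hab
      exact hb.1 (congrArg (m.stalkMap c) hab)
    · intro a
      obtain ⟨b, hb'⟩ := hb.2 (m.stalkMap c a)
      exact ⟨b, hinjm hb'⟩
  have : IsOpenImmersion f := IsOpenImmersion.of_isIso_stalkMap f hh.isOpenEmbedding
  have : Surjective f := ⟨hh.surjective⟩
  exact (isIso_iff_isOpenImmersion_and_surjective f).mpr ⟨inferInstance, inferInstance⟩

end Groth.Agent.H22Alg

namespace Groth.Agent.H22Alg

/-- Isomorphisms are detected on a jointly surjective family of flat morphisms, for quasi-compact morphisms. -/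
theorem isIso_of_jointly_surjective {X Y : Scheme.{u}} (f : X ⟶ Y) [QuasiCompact f] {ι : Type u}
    (W : ι → Scheme.{u}) (w : ∀ i, W i ⟶ Y) (hw : ∀ i, Flat (w i))
    (hsurj : ∀ y : Y, ∃ i, y ∈ Set.range (w i)) (h : ∀ i, IsIso (pullback.snd f (w i))) : IsIso f := by
  let g := Sigma.desc w
  have : Flat g := IsZariskiLocalAtSource.sigmaDesc hw
  have : Surjective g := ⟨fun y => by
    obtain ⟨i, a, rfl⟩ := hsurj y
    exact ⟨Sigma.ι W i a, by rw [← Scheme.Hom.comp_apply]; simp [g]⟩⟩
  have hg : IsIso (pullback.snd f g) := by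
    change MorphismProperty.isomorphisms Scheme _
    rw [IsZariskiLocalAtTarget.iff_of_openCover (P := MorphismProperty.isomorphisms Scheme)
      (sigmaOpenCover W)]
    intro i
    change IsIso (pullback.snd (pullback.snd f g) (Sigma.ι W i))
    have e : Sigma.ι W i ≫ g = w i := by simp [g]
    have : pullback.snd (pullback.snd f g) (Sigma.ι W i) =
        (pullbackLeftPullbackSndIso f g (Sigma.ι W i)).hom ≫
          (pullback.congrHom rfl e).hom ≫ pullback.snd f (w i) := by
      rw [pullback.congrHom_hom, pullback.map, pullback.lift_snd, Category.comp_id,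
        pullbackLeftPullbackSndIso_hom_snd]
    rw [this]
    have := h i
    infer_instance
  exact isIso_of_baseChange f g

theorem isAffineHom_of_stalks {X Y : Scheme.{u}} (f : X ⟶ Y) [QuasiCompact f] [QuasiSeparated f]
    [IsAffine Y] (h : ∀ y : Y, IsAffineHom (pullback.snd f (Y.fromSpecStalk y))) : IsAffine X := by
  have hXc : CompactSpace X := QuasiCompact.compactSpace_of_compactSpace f
  have hXs : QuasiSeparatedSpace X := (HasAffineProperty.iff_of_isAffine (P := @QuasiSeparated)).mp ‹_›
  have key : ∀ y : Y, ∃ (W : Scheme.{u}) (w : W ⟶ Spec Γ(X, ⊤)), Flat w ∧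
      IsIso (pullback.snd X.toSpecΓ w) ∧
      ∀ p : ↥(Spec Γ(X, ⊤)), (Spec.map f.appTop ≫ Y.isoSpec.inv) p = y → p ∈ Set.range w := by
    intro y
    let j := Y.fromSpecStalk y
    have : Flat j := flat_fromSpecStalk Y y
    have := h y
    have hPaff : IsAffine (pullback f j) := isAffine_of_isAffineHom (pullback.snd f j)
    have H : IsPullback (pullback.fst f j) (pullback.snd f j) f j := .of_hasPullback _ _
    have hpo := (isIso_pushoutSection_iff H (US := ⊤) (UT := ⊤) (UX := ⊤) (UY := ⊤)
      (le_top.trans (by simp)) (le_top.trans (by simp)) (by simp)).mp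
      (isIso_pushoutSection_of_isQuasiSeparated_of_flat_right _ _ _ _ (isAffineOpen_top _)
        (isAffineOpen_top _) isCompact_univ
        (by simpa using isQuasiSeparated_univ (α := X)))
    simp only [Scheme.Hom.appLE] at hpo
    have hpo' : IsPushout f.appTop j.appTop (pullback.fst f j).appTop (pullback.snd f j).appTop := by
      simpa [Scheme.Hom.appTop] using hpo
    have hbot := isPullback_SpecMap_of_isPushout _ _ _ _ hpo'
    have hout : IsPullback (pullback.fst f j) (pullback.snd f j ≫ (Spec (Y.presheaf.stalk y)).toSpecΓ)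
        (f ≫ Y.toSpecΓ) (Spec.map j.appTop) := by
      refine IsPullback.of_iso H (Iso.refl _) (Iso.refl _) (asIso (Spec (Y.presheaf.stalk y)).toSpecΓ)
        (asIso Y.toSpecΓ) ?_ ?_ ?_ ?_ <;> simp [Scheme.toSpecΓ_naturality]
    rw [Scheme.toSpecΓ_naturality f, Scheme.toSpecΓ_naturality (pullback.snd f j)] at hout
    have htop := IsPullback.of_bot hout (Scheme.toSpecΓ_naturality _) hbot
    have hjflat : Flat (Spec.map j.appTop) :=
      (MorphismProperty.arrow_mk_iso_iff @Flat (arrowIsoSpecΓOfIsAffine j)).mp inferInstance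
    refine ⟨_, Spec.map (pullback.fst f j).appTop, MorphismProperty.of_isPullback hbot.flip hjflat, ?_, ?_⟩
    · have e : pullback.snd X.toSpecΓ (Spec.map (pullback.fst f j).appTop) =
          htop.isoPullback.inv ≫ (pullback f j).toSpecΓ := htop.isoPullback_inv_snd.symm
      rw [e]
      infer_instance
    · intro p hp
      have hy : Spec.map f.appTop p = Y.toSpecΓ y := by
        rw [← hp, Scheme.Hom.comp_apply, ← Scheme.Hom.comp_apply Y.isoSpec.inv Y.toSpecΓ]
        simp [Scheme.isoSpec]
      let c : ↥(Spec (Y.presheaf.stalk y)) := IsLocalRing.closedPoint (Y.presheaf.stalk y)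
      have hc : Spec.map j.appTop ((Spec (Y.presheaf.stalk y)).toSpecΓ c) = Y.toSpecΓ y := by
        rw [← Scheme.Hom.comp_apply, ← Scheme.toSpecΓ_naturality, Scheme.Hom.comp_apply]
        exact congrArg Y.toSpecΓ Scheme.fromSpecStalk_closedPoint
      obtain ⟨z, hz1, -⟩ := Scheme.Pullback.exists_preimage_pullback p _ (hy.trans hc.symm)
      exact ⟨hbot.isoPullback.inv z, by
        rw [← Scheme.Hom.comp_apply, hbot.isoPullback_inv_fst]; exact hz1⟩
  choose W w hw hiso hrange using key
  have : IsIso X.toSpecΓ := by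
    have : QuasiCompact X.toSpecΓ := by
      exact (HasAffineProperty.iff_of_isAffine (P := @QuasiCompact)).mpr hXc
    exact isIso_of_jointly_surjective X.toSpecΓ W w hw (fun p => ⟨_, hrange _ p rfl⟩) hiso
  exact ⟨this⟩

theorem isAffineHom_of_baseChange {X Y Y' : Scheme.{u}} (f : X ⟶ Y) (g : Y' ⟶ Y)
    [Flat g] [Surjective g] [QuasiCompact f] [QuasiSeparated f] [IsAffineHom (pullback.snd f g)] :
    IsAffineHom f := by
  constructor
  intro U hU
  have : IsAffine (U : Scheme) := hU
  have hst : ∀ u : (U : Scheme), IsAffineHom (pullback.snd (f ∣_ U) ((U : Scheme).fromSpecStalk u)) := by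
    intro u
    obtain ⟨y', hy'⟩ := g.surjective u.1
    let φ := Spec.map (g.stalkMap y')
    have hq : H18Descent.fpqc φ := by
      have hff : (g.stalkMap y').hom.FaithfullyFlat := by
        have hflat : (g.stalkMap y').hom.Flat := Flat.stalkMap g y'
        algebraize [(g.stalkMap y').hom]
        have : IsLocalHom (algebraMap (Y.presheaf.stalk (g y')) (Y'.presheaf.stalk y')) :=
          inferInstanceAs (IsLocalHom (g.stalkMap y').hom)
        have : Module.Flat (Y.presheaf.stalk (g y')) (Y'.presheaf.stalk y') := hflat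
        exact RingHom.faithfullyFlat_algebraMap_iff.mpr (Module.FaithfullyFlat.of_flat_of_isLocalHom)
      exact ⟨(flat_and_surjective_SpecMap_iff _).mpr hff |> And.symm, inferInstance⟩
    have e : φ ≫ Y.fromSpecStalk (g y') = Y'.fromSpecStalk y' ≫ g :=
      Scheme.SpecMap_stalkMap_fromSpecStalk g
    have h0 : IsAffineHom (pullback.snd f (Y.fromSpecStalk (g y'))) := by
      have H1 : IsPullback (pullback.fst (pullback.snd f g) (Y'.fromSpecStalk y') ≫ pullback.fst f g)
          (pullback.snd (pullback.snd f g) (Y'.fromSpecStalk y')) f (φ ≫ Y.fromSpecStalk (g y')) := by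
        rw [e]
        exact (IsPullback.of_hasPullback _ _).paste_horiz (IsPullback.of_hasPullback f g)
      have hw : (pullback.fst (pullback.snd f g) (Y'.fromSpecStalk y') ≫ pullback.fst f g) ≫ f =
          (pullback.snd (pullback.snd f g) (Y'.fromSpecStalk y') ≫ φ) ≫ Y.fromSpecStalk (g y') := by
        rw [H1.w, Category.assoc]
      have H2 := IsPullback.of_right (h₁₁ := pullback.lift _ _ hw)
        (by rw [pullback.lift_fst]; exact H1) (pullback.lift_snd _ _ hw)
        (IsPullback.of_hasPullback f (Y.fromSpecStalk (g y')))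
      exact MorphismProperty.of_isPullback_of_descendsAlong (P := @IsAffineHom) (Q := H18Descent.fpqc)
        H2.flip hq (MorphismProperty.pullback_snd _ _ inferInstance)
    rw [hy'] at h0
    have e2 : Y.fromSpecStalk u.1 = Spec.map (U.stalkIso u).hom ≫ (U : Scheme).fromSpecStalk u ≫ U.ι := by
      rw [← Scheme.SpecMap_stalkMap_fromSpecStalk]
      rw [← U.stalkIso_inv, ← Spec.map_comp_assoc]
      simp
    rw [e2] at h0
    have H3 : IsPullback (pullback.fst (f ∣_ U) ((U : Scheme).fromSpecStalk u) ≫ (f ⁻¹ᵁ U).ι)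
        (pullback.snd (f ∣_ U) ((U : Scheme).fromSpecStalk u)) f ((U : Scheme).fromSpecStalk u ≫ U.ι) :=
      (IsPullback.of_hasPullback _ _).paste_horiz (isPullback_morphismRestrict f U).flip
    have H4 := IsPullback.of_hasPullback f (Spec.map (U.stalkIso u).hom ≫ (U : Scheme).fromSpecStalk u ≫ U.ι)
    have H5 : IsPullback (pullback.fst f (Spec.map (U.stalkIso u).hom ≫ (U : Scheme).fromSpecStalk u ≫ U.ι))
        (pullback.snd f _ ≫ Spec.map (U.stalkIso u).hom) f ((U : Scheme).fromSpecStalk u ≫ U.ι) :=
      H4.of_iso (Iso.refl _) (Iso.refl _) (asIso (Spec.map (U.stalkIso u).hom)) (Iso.refl _)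
        (by simp) (by simp) (by simp) (by simp)
    rw [← H3.isoIsPullback_hom_snd _ _ H5]
    infer_instance
  exact isAffineHom_of_stalks (f ∣_ U) hst

end Groth.Agent.H22Alg
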