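import Mathlib
import Groth.Prelude.Def_Curv2
import Groth.Agent.H06Desc.Geom
import Groth.Agent.H06Red.Scheme
import Groth.Agent.H19Grp.AlgClosedGeom
import Groth.Agent.S4622
import Groth.Agent.S2521

/-! Geometric irreducibility, connectedness and reducedness for schemes over fields. -/

set_option autoImplicit false
set_option linter.style.haveILetI false
universe u

open AlgebraicGeometry CategoryTheory CategoryTheory.Limits
open scoped TensorProduct

namespace Groth.Agent.H22Alg.VarGeom

theorem isHomeomorph_bcπ {k k' : Type u} [Field k] [IsSepClosed k] [Field k'] [Algebra k k']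
    [IsAlgClosure k k'] {X : Scheme.{u}} (f : X ⟶ Spec (CommRingCat.of k)) :
    IsHomeomorph (FBase.bcπ f k') :=
  Groth.Agent.S4622.result (k' := k') f _ _ _ (IsPullback.of_id_snd (f := FBase.bcπ f k'))

theorem geometricallyIrreducible_of_isSepClosed {k : Type u} [Field k] [IsSepClosed k] {X : Scheme.{u}}
    (f : X ⟶ Spec (CommRingCat.of k)) [IrreducibleSpace X] : GeometricallyIrreducible f := by
  haveI : IrreducibleSpace ↥(FBase.bc f (AlgebraicClosure k)) :=
    (isHomeomorph_bcπ (k' := AlgebraicClosure k) f).homeomorph.irreducibleSpace_iff.mpr inferInstance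
  exact (H06Desc.geometricallyIrreducible_iff_bcStr (K := AlgebraicClosure k) f).mpr
    (H19Grp.geometricallyIrreducible_of_irreducibleSpace _)

theorem geometricallyConnected_of_isSepClosed {k : Type u} [Field k] [IsSepClosed k] {X : Scheme.{u}}
    (f : X ⟶ Spec (CommRingCat.of k)) [ConnectedSpace X] : GeometricallyConnected f := by
  haveI : ConnectedSpace ↥(FBase.bc f (AlgebraicClosure k)) :=
    (isHomeomorph_bcπ (k' := AlgebraicClosure k) f).homeomorph.connectedSpace_iff.mpr inferInstance
  exact (H06Desc.geometricallyConnected_iff_bcStr (K := AlgebraicClosure k) f).mpr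
    (H19Grp.geometricallyConnected_of_connectedSpace _)

/-- Over a separably closed field the projections from base changes have irreducible fibres. -/
theorem isIrreducible_preimage_point {k : Type u} [Field k] [IsSepClosed k] {X : Scheme.{u}}
    (f : X ⟶ Spec (CommRingCat.of k)) (K : Type u) [Field K] [Algebra k K] (x : X) :
    IsIrreducible (pullback.fst f (Spec.map (CommRingCat.ofHom (algebraMap k K))) ⁻¹' {x}) := by
  set g := Spec.map (CommRingCat.ofHom (algebraMap k K))
  haveI := geometricallyIrreducible_of_isSepClosed (X.fromSpecResidueField x ≫ f)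
  haveI : IrreducibleSpace ↥(pullback (X.fromSpecResidueField x ≫ f) g) :=
    GeometricallyIrreducible.geometrically_irreducibleSpace _ _ _ (.of_hasPullback _ g)
  haveI : IrreducibleSpace ↥((pullback.fst f g).fiber x) :=
    (pullbackSymmetry _ _ ≪≫ pullbackRightPullbackFstIso f g
      (X.fromSpecResidueField x)).hom.homeomorph.irreducibleSpace_iff.mpr inferInstance
  rw [← (pullback.fst f g).range_fiberι, ← Set.image_univ]
  exact (IrreducibleSpace.isIrreducible_univ _).image _
    ((pullback.fst f g).fiberι x).continuous.continuousOn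

/-- Reducedness of the base change gives reducedness of tensor products on affine opens. -/
theorem isReduced_tensor_of_bc {k : Type u} [Field k] {Y : Scheme.{u}} (g : Y ⟶ Spec (CommRingCat.of k))
    {R : CommRingCat.{u}} (i : Spec R ⟶ Y) [IsOpenImmersion i] (φ : CommRingCat.of k ⟶ R)
    (hφ : Spec.map φ = i ≫ g) (K : Type u) [Field K] [Algebra k K]
    [IsReduced (pullback g (Spec.map (CommRingCat.ofHom (algebraMap k K))))] :
    letI := φ.hom.toAlgebra; _root_.IsReduced (K ⊗[k] R) := by
  letI := φ.hom.toAlgebra
  let s : Spec (CommRingCat.of K) ⟶ Spec (CommRingCat.of k) :=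
    Spec.map (CommRingCat.ofHom (algebraMap k K))
  have : IsReduced (pullback (Spec.map φ) s) :=
    isReduced_of_isOpenImmersion
      (pullback.map (Spec.map φ) s g s i (𝟙 _) (𝟙 _) (by simpa using hφ) (by simp))
  have : IsReduced (pullback s (Spec.map φ)) :=
    isReduced_of_isOpenImmersion (pullbackSymmetry s (Spec.map φ)).hom
  have : IsReduced (Spec (.of (K ⊗[k] R))) :=
    isReduced_of_isOpenImmersion (pullbackSpecIso k K R).inv
  exact (affine_isReduced_iff _).1 this

theorem geometricallyReduced_of_forall {k : Type u} [Field k] {Y : Scheme.{u}} (g : Y ⟶ Spec (CommRingCat.of k))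
    (h : ∀ (R : CommRingCat.{u}) (i : Spec R ⟶ Y) [IsOpenImmersion i] (φ : CommRingCat.of k ⟶ R),
      Spec.map φ = i ≫ g → letI := φ.hom.toAlgebra; Algebra.IsGeometricallyReduced k R) :
    GeometricallyReduced g := by
  refine ⟨geometrically_iff_of_isClosedUnderIsomorphisms.2 fun K _ y => ?_⟩
  haveI : IsReduced (Spec (CommRingCat.of K)) := inferInstance
  haveI := H06Red.isReduced_pullback_of_forall y g h
  exact isReduced_of_isOpenImmersion (pullbackSymmetry g y).hom

/-- Geometric reducedness at a point is read off on the algebraic closure. -/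
theorem isGeomReducedAt_iff_algClosure {k : Type u} [Field k] {X : Scheme.{u}} (f : X ⟶ Spec (CommRingCat.of k)) (x : X) :
    FBase.IsGeomReducedAt f x ↔ ∀ x' : ↥(FBase.bc f (AlgebraicClosure k)), FBase.bcπ f (AlgebraicClosure k) x' = x →
      _root_.IsReduced ((FBase.bc f (AlgebraicClosure k)).presheaf.stalk x') := by
  refine ⟨fun h => h (AlgebraicClosure k), fun h => ?_⟩
  obtain ⟨x', hx'⟩ := (pullback.fst f (Spec.map (CommRingCat.ofHom (algebraMap k (AlgebraicClosure k))))).surjective x
  exact Groth.Agent.S2521.result f x x' hx' (h x' hx')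

end Groth.Agent.H22Alg.VarGeom
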