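import Mathlib
import Groth.Agent.H22Alg.VarGeom

/-! Global functions of connected reduced schemes over a field. -/

set_option autoImplicit false
set_option linter.style.haveILetI false
universe u

open AlgebraicGeometry CategoryTheory CategoryTheory.Limits
open scoped TensorProduct

namespace Groth.Agent.H22Alg.GlobalFunctions

theorem eq_zero_or_one_of_isIdempotentElem {X : Scheme.{u}} [PreconnectedSpace X] [IsReduced X]
    {e : Γ(X, ⊤)} (he : IsIdempotentElem e) : e = 0 ∨ e = 1 := by
  have h0 : X.basicOpen e ⊓ X.basicOpen (1 - e) = ⊥ := by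
    rw [← Scheme.basicOpen_mul, he.mul_one_sub_self, Scheme.basicOpen_zero]
  have h1 : (X.basicOpen e : Set X) ∪ X.basicOpen (1 - e) = Set.univ := by
    refine Set.eq_univ_of_forall fun x => ?_
    have hu : IsUnit ((X.presheaf.germ ⊤ x trivial) e + (X.presheaf.germ ⊤ x trivial) (1 - e)) := by
      rw [← map_add, add_sub_cancel, map_one]; exact isUnit_one
    rcases IsLocalRing.isUnit_or_isUnit_of_isUnit_add hu with h | h
    · exact Or.inl ((X.mem_basicOpen_top e x).mpr h)
    · exact Or.inr ((X.mem_basicOpen_top (1 - e) x).mpr h)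
  have hclopen : IsClopen (X.basicOpen e : Set X) := by
    refine ⟨⟨?_⟩, (X.basicOpen e).isOpen⟩
    have hd : Disjoint (X.basicOpen e : Set X) (X.basicOpen (1 - e)) :=
      TopologicalSpace.Opens.coe_disjoint.mpr (disjoint_iff.mpr h0)
    rw [show (X.basicOpen e : Set X)ᶜ = X.basicOpen (1 - e) from
      (IsCompl.mk hd (codisjoint_iff.mpr h1)).compl_eq]
    exact (X.basicOpen (1 - e)).isOpen
  rcases isClopen_iff.mp hclopen with h | h
  · exact Or.inl ((basicOpen_eq_bot_iff e).mp (TopologicalSpace.Opens.ext h))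
  · refine Or.inr ?_
    have hb : X.basicOpen (1 - e) = ⊥ := by
      rw [show X.basicOpen e = ⊤ from TopologicalSpace.Opens.ext h, top_inf_eq] at h0
      exact h0
    exact (sub_eq_zero.mp ((basicOpen_eq_bot_iff (1 - e)).mp hb)).symm

/-- A reduced integral algebra over a field without idempotents is a field. -/
theorem isField_of_isIntegral {k A : Type u} [Field k] [CommRing A] [Algebra k A] [IsReduced A] [Nontrivial A]
    [Algebra.IsIntegral k A] (h : ∀ e : A, IsIdempotentElem e → e = 0 ∨ e = 1) : IsField A := by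
  refine ⟨exists_pair_ne A, mul_comm, fun {a} ha => ?_⟩
  let B := Algebra.adjoin k ({a} : Set A)
  haveI : Module.Finite k B :=
    Module.Finite.iff_fg.mpr (Algebra.IsIntegral.isIntegral a).fg_adjoin_singleton
  haveI : IsArtinianRing B := IsArtinianRing.of_finite k B
  let a' : B := ⟨a, Algebra.self_mem_adjoin_singleton k a⟩
  obtain ⟨n, y, hy⟩ := IsArtinian.exists_pow_succ_smul_dvd (M := B) a' (1 : B)
  simp only [smul_eq_mul, mul_one] at hy
  have hy' : a ^ (n + 1) * (y : A) = a ^ n := by simpa [a'] using congrArg Subtype.val hy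
  have hreg : a = a * a * y := by
    have h2 : (a - a * a * y) ^ (n + 1) = 0 := by
      have h3 : a ^ n * (1 - a * y) = 0 := by linear_combination (-1 : A) * hy'
      rw [show a - a * a * (y : A) = a * (1 - a * y) by ring, mul_pow]
      linear_combination (a * (1 - a * (y : A)) ^ n) * h3
    exact sub_eq_zero.mp (IsReduced.eq_zero _ ⟨n + 1, h2⟩)
  have he : IsIdempotentElem (a * (y : A)) := by
    show a * (y : A) * (a * y) = a * y
    linear_combination (-(y : A)) * hreg
  rcases h _ he with h0 | h1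
  · exact absurd (by rw [hreg, mul_assoc, h0, mul_zero]) ha
  · exact ⟨y, h1⟩

/-- A finite field extension with reduced base change to the algebraic closure is separable. -/
theorem finrank_eq_card_and_isSeparable {k L : Type u} [Field k] [Field L] [Algebra k L] [FiniteDimensional k L]
    [Algebra.IsGeometricallyReduced k L] :
    Module.finrank k L = Nat.card (MaximalSpectrum (AlgebraicClosure k ⊗[k] L)) ∧ Algebra.IsSeparable k L := by
  classical
  let K := AlgebraicClosure k
  haveI : IsReduced (K ⊗[k] L) := (Algebra.isGeometricallyReduced_field_iff k L).mp inferInstance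
  haveI : IsArtinianRing (K ⊗[k] L) := IsArtinianRing.of_finite K _
  haveI : Algebra.IsIntegral K (K ⊗[k] L) := Algebra.IsIntegral.of_finite _ _
  have hb : ∀ m : MaximalSpectrum (K ⊗[k] L), Function.Bijective (algebraMap K ((K ⊗[k] L) ⧸ m.asIdeal)) := fun m =>
    ⟨(algebraMap K _).injective, by
      haveI := m.isMaximal
      exact (IsAlgClosed.ringHom_bijective_of_isIntegral (algebraMap K ((K ⊗[k] L) ⧸ m.asIdeal))
        (algebraMap_isIntegral_iff.mpr inferInstance)).2⟩
  have hdim : Module.finrank k L = Nat.card (MaximalSpectrum (K ⊗[k] L)) := by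
    haveI : Fintype (MaximalSpectrum (K ⊗[k] L)) := Fintype.ofFinite _
    rw [← Module.finrank_baseChange (R := K), ((IsArtinianRing.equivPi (K ⊗[k] L)).restrictScalars K).toLinearEquiv.finrank_eq,
      Module.finrank_pi_fintype, Nat.card_eq_fintype_card, ← Finset.card_univ]
    rw [Finset.sum_congr rfl fun m _ => ((LinearEquiv.ofBijective (Algebra.linearMap K _) (hb m)).finrank_eq.symm.trans (Module.finrank_self K))]
    simp
  refine ⟨hdim, (Field.finSepDegree_eq_finrank_iff k L).mp (le_antisymm (Field.finSepDegree_le_finrank k L) ?_)⟩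
  rw [hdim, Field.finSepDegree_eq_of_isAlgClosed k L K]
  let π : ∀ m : MaximalSpectrum (K ⊗[k] L), (K ⊗[k] L) →ₐ[K] K := fun m =>
    (AlgEquiv.ofBijective (Algebra.ofId K _) (hb m)).symm.toAlgHom.comp (Ideal.Quotient.mkₐ K m.asIdeal)
  have hker : ∀ m x, π m x = 0 ↔ x ∈ m.asIdeal := fun m x => by
    simp [π, Ideal.Quotient.eq_zero_iff_mem]
  refine Nat.card_le_card_of_injective (fun m => ((π m).restrictScalars k).comp Algebra.TensorProduct.includeRight)
    fun m m' h => ?_
  have hh : π m = π m' := Algebra.TensorProduct.ext (Subsingleton.elim _ _) h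
  ext x
  rw [← hker, ← hker, hh]

variable {k : Type u} [Field k] {X : Scheme.{u}} (f : X ⟶ Spec (CommRingCat.of k))

/-- The algebra structure of the global functions. -/
noncomputable abbrev algΓ : Algebra k Γ(X, ⊤) :=
  (f.appTop.hom.comp (Scheme.ΓSpecIso (CommRingCat.of k)).inv.hom : k →+* Γ(X, ⊤)).toAlgebra

theorem toSpecΓ_algΓ : letI := algΓ f; X.toSpecΓ ≫ Spec.map (CommRingCat.ofHom (algebraMap k Γ(X, ⊤))) = f := by
  letI := algΓ f
  show X.toSpecΓ ≫ Spec.map ((Scheme.ΓSpecIso (CommRingCat.of k)).inv ≫ f.appTop) = f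
  rw [Spec.map_comp, ← Scheme.toSpecΓ_naturality_assoc, toSpecΓ_SpecMap_ΓSpecIso_inv, Category.comp_id]

theorem isIntegral_algΓ [UniversallyClosed f] : letI := algΓ f; Algebra.IsIntegral k Γ(X, ⊤) := by
  letI := algΓ f
  refine algebraMap_isIntegral_iff.mp ?_
  exact RingHom.IsIntegral.trans _ _
    (RingHom.isIntegral_of_surjective _ (Scheme.ΓSpecIso (CommRingCat.of k)).symm.commRingCatIsoToRingEquiv.surjective)
    (isIntegral_appTop_of_universallyClosed f)

theorem isField_of_universallyClosed [UniversallyClosed f] [ConnectedSpace X] [IsReduced X] : IsField Γ(X, ⊤) := by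
  letI := algΓ f
  haveI := isIntegral_algΓ f
  haveI : Nonempty ((⊤ : X.Opens) : Scheme.{u}) := ⟨⟨Nonempty.some inferInstance, trivial⟩⟩
  haveI : Nontrivial Γ(X, ⊤) := X.component_nontrivial ⊤
  exact isField_of_isIntegral (k := k) fun e he => eq_zero_or_one_of_isIdempotentElem he

theorem finite_algΓ [IsProper f] [ConnectedSpace X] [IsReduced X] : letI := algΓ f; Module.Finite k Γ(X, ⊤) := by
  letI := algΓ f
  letI := (isField_of_universallyClosed f).toField
  haveI : QuasiCompact f := inferInstance
  haveI : CompactSpace X := (quasiCompact_iff_compactSpace f).mp inferInstance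
  obtain ⟨x, -, hx⟩ := (isClosed_univ (X := X)).exists_closed_singleton Set.univ_nonempty
  haveI : IsFinite (X.fromSpecResidueField x ≫ f) := by
    rw [isClosed_singleton_iff_isClosedImmersion] at hx
    rw [isFinite_iff_locallyOfFiniteType_of_jacobsonSpace]
    infer_instance
  obtain ⟨ψ, hψ⟩ := Spec.map_surjective (X.fromSpecResidueField x ≫ X.toSpecΓ)
  have hfin : IsFinite (Spec.map (CommRingCat.ofHom (algebraMap k Γ(X, ⊤)) ≫ ψ)) := by
    rw [Spec.map_comp, hψ, Category.assoc, toSpecΓ_algΓ]
    infer_instance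
  rw [IsFinite.SpecMap_iff] at hfin
  letI : Algebra k (X.residueField x) := (CommRingCat.ofHom (algebraMap k Γ(X, ⊤)) ≫ ψ).hom.toAlgebra
  haveI : Module.Finite k (X.residueField x) := hfin
  let ψ' : Γ(X, ⊤) →ₐ[k] X.residueField x := { ψ.hom with commutes' := fun _ => rfl }
  exact Module.Finite.of_injective ψ'.toLinearMap ψ.hom.injective

theorem isGeometricallyReduced_algΓ [GeometricallyReduced f] [ConnectedSpace X] [UniversallyClosed f] [IsReduced X] :
    letI := algΓ f; Algebra.IsGeometricallyReduced k Γ(X, ⊤) := by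
  letI := algΓ f
  letI := (isField_of_universallyClosed f).toField
  obtain ⟨x⟩ : Nonempty X := inferInstance
  obtain ⟨_, ⟨U, hU, rfl⟩, hxU, -⟩ :=
    X.isBasis_affineOpens.exists_subset_of_mem_open (Set.mem_univ x) isOpen_univ
  obtain ⟨ψ, hψ⟩ := Spec.map_surjective (hU.fromSpec ≫ X.toSpecΓ)
  haveI : Nontrivial Γ(X, U) := by
    haveI : Nonempty ↥(Spec Γ(X, U)) := ⟨hU.isoSpec.hom ⟨x, hxU⟩⟩
    exact (PrimeSpectrum.nonempty_iff_nontrivial).mp this
  have hφ : Spec.map (CommRingCat.ofHom (algebraMap k Γ(X, ⊤)) ≫ ψ) = hU.fromSpec ≫ f := by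
    rw [Spec.map_comp, hψ, Category.assoc, toSpecΓ_algΓ]
  letI : Algebra k Γ(X, U) := (CommRingCat.ofHom (algebraMap k Γ(X, ⊤)) ≫ ψ).hom.toAlgebra
  haveI : IsReduced (pullback f (Spec.map (CommRingCat.ofHom (algebraMap k (AlgebraicClosure k))))) :=
    GeometricallyReduced.geometrically_isReduced _ _ _ (.of_hasPullback _ _)
  haveI : Algebra.IsGeometricallyReduced k Γ(X, U) := by
    rw [Algebra.isGeometricallyReduced_field_iff]
    exact VarGeom.isReduced_tensor_of_bc f hU.fromSpec _ hφ (AlgebraicClosure k)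
  let ψ' : Γ(X, ⊤) →ₐ[k] Γ(X, U) := { ψ.hom with commutes' := fun _ => rfl }
  exact Algebra.IsGeometricallyReduced.of_injective ψ' ψ.hom.injective

theorem finrank_algΓ_eq_one [IsProper f] [GeometricallyReduced f] [GeometricallyConnected f] [ConnectedSpace X] [IsReduced X] :
    letI := algΓ f; Module.finrank k Γ(X, ⊤) = 1 := by
  letI := algΓ f
  haveI := finite_algΓ f
  haveI := isGeometricallyReduced_algΓ f
  letI := (isField_of_universallyClosed f).toField
  let L := Γ(X, ⊤)
  let K := AlgebraicClosure k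
  rw [(finrank_eq_card_and_isSeparable (k := k) (L := L)).1, Nat.card_eq_one_iff_unique]
  let t := Spec.map (CommRingCat.ofHom (algebraMap k L))
  let s := Spec.map (CommRingCat.ofHom (algebraMap k K))
  haveI : Surjective X.toSpecΓ := ⟨fun q => ⟨Nonempty.some inferInstance, Subsingleton.elim (α := PrimeSpectrum L) _ _⟩⟩
  let j : pullback (X.toSpecΓ ≫ t) s ⟶ pullback t s :=
    pullback.map (X.toSpecΓ ≫ t) s t s X.toSpecΓ (𝟙 _) (𝟙 _) (by simp) (by simp)
  haveI : Surjective j := by
    have hsq : IsPullback j (pullback.fst (X.toSpecΓ ≫ t) s) (pullback.fst t s) X.toSpecΓ := by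
      refine IsPullback.of_right ?_ (pullback.lift_fst _ _ _) (IsPullback.of_hasPullback _ s).flip
      rw [show j ≫ pullback.snd t s = pullback.snd (X.toSpecΓ ≫ t) s from (pullback.lift_snd _ _ _).trans (Category.comp_id _)]
      exact (IsPullback.of_hasPullback _ s).flip
    exact MorphismProperty.of_isPullback (P := @Surjective) hsq.flip inferInstance
  haveI : ConnectedSpace ↥(pullback (X.toSpecΓ ≫ t) s) := by
    have h : X.toSpecΓ ≫ t = f := toSpecΓ_algΓ f
    haveI : ConnectedSpace ↥(pullback f s) :=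
      GeometricallyConnected.geometrically_connectedSpace _ _ _ (.of_hasPullback _ s)
    exact (pullback.congrHom h rfl).hom.homeomorph.connectedSpace_iff.mpr inferInstance
  haveI : ConnectedSpace ↥(pullback t s) := j.surjective.connectedSpace j.continuous
  let e := (pullbackSymmetry t s ≪≫ pullbackSpecIso k K L).hom.homeomorph
  haveI : ConnectedSpace (PrimeSpectrum (K ⊗[k] L)) :=
    show ConnectedSpace ↥(Spec (CommRingCat.of (K ⊗[k] L))) from e.connectedSpace_iff.mp inferInstance
  haveI : IsArtinianRing (K ⊗[k] L) := IsArtinianRing.of_finite K _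
  have hsub : Subsingleton (PrimeSpectrum (K ⊗[k] L)) := PreconnectedSpace.trivial_of_discrete
  exact ⟨⟨fun m m' => MaximalSpectrum.ext
      (congrArg PrimeSpectrum.asIdeal (Subsingleton.elim m.toPrimeSpectrum m'.toPrimeSpectrum))⟩,
    let ⟨M, hM⟩ := Ideal.exists_maximal (K ⊗[k] L); ⟨⟨M, hM⟩⟩⟩

end Groth.Agent.H22Alg.GlobalFunctions
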