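import Groth.Prelude.Def_KRR
import Groth.Agent.H11Ample.ToPn
import Groth.Agent.H11Ample.Basic
import Groth.Agent.H11Tilde.TwistPow
import Groth.Agent.H16Derived.KFlat.SheafAssoc
import Groth.Agent.H16Derived.KFlat.SheafTensor
import Groth.Agent.H16Derived.KFlat.FinLocFree
import Groth.Agent.H16Derived.AcyclicLES
import Groth.Agent.H10Coh.SchemeH

/-! # Twists and regular sheaves on P^n_T. -/

set_option autoImplicit false
set_option linter.style.haveILetI false

universe u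

open CategoryTheory CategoryTheory.Limits AlgebraicGeometry
attribute [local instance] HasDerivedCategory.standard

noncomputable section

namespace Groth.Agent.H22Alg.RegSheaf

variable {n : ℕ} {T : Scheme.{u}}

theorem cover (n : ℕ) (R : Type u) [CommRing R] :
    ∀ x : Proj (CohB1.polyGrading n R), ∃ f ∈ CohB1.polyGrading n R 1, f ∉ x.asHomogeneousIdeal := fun y => by
  obtain ⟨i, hi⟩ := H11Ample.exists_mem_basicOpen_X (n := n) (R := R) y
  exact ⟨_, H11Ample.X_mem i, hi⟩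

theorem isInvertible_twistProjSpace (n : ℕ) (R : Type u) [CommRing R] (d : ℤ) :
    PicF.IsInvertible (Twist.twistProjSpace n R d) :=
  H11Tilde.isInvertible_twist _ (cover n R) d

theorem isInvertible_twistOver (d : ℤ) : PicF.IsInvertible (Twist.twistOver n T d) :=
  H11Ample.isInvertible_of_gen fun x => by
    obtain ⟨V, e, hx, he⟩ := H11Ample.exists_gen (isInvertible_twistProjSpace n (ULift.{u} ℤ) d)
      ((pullback.fst (CohB1.ProjSpace.toSpec n (ULift.{u} ℤ)) (specULiftZIsTerminal.from T)) x)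
    exact ⟨_, _, hx, H11Tilde.IsGen.pullSect _ he⟩

/-- O(a) ⊗ O(b) ≅ O(a + b). -/
theorem nonempty_twistOver_add (a b c : ℤ) (h : c = a + b) :
    Nonempty (((DCoh.tensorBi (X := KRR.PY n T)).obj (Twist.twistOver n T a)).obj (Twist.twistOver n T b) ≅
      Twist.twistOver n T c) := by
  obtain ⟨e⟩ := H11Tilde.nonempty_twist_tensor_iso (CohB1.polyGrading n (ULift.{u} ℤ)) (cover n _) a b c h
  exact ⟨((H16Derived.KFlat.Stalk.pullTensorLIso _ (Twist.twistProjSpace n (ULift.{u} ℤ) b)).app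
    (Twist.twistProjSpace n (ULift.{u} ℤ) a)).symm ≪≫ (Scheme.Modules.pullback _).mapIso e⟩

/-- F(b)(a) ≅ F(a + b). -/
theorem nonempty_twF_twF (a b c : ℤ) (h : c = a + b) (F : (KRR.PY n T).Modules) :
    Nonempty (KRR.twF n T a (KRR.twF n T b F) ≅ KRR.twF n T c F) := by
  obtain ⟨e⟩ := nonempty_twistOver_add (n := n) (T := T) a b c h
  exact ⟨((((H15Site.ModTensor.tAssoc (O := (KRR.PY n T).sheaf)).app (Twist.twistOver n T a)).app
    (Twist.twistOver n T b)).app F).symm ≪≫ ((DCoh.tensorBi (X := KRR.PY n T)).mapIso e).app F⟩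

/-- The left unit. -/
def leftUnit {X : Scheme.{u}} (M : X.Modules) :
    ((DCoh.tensorBi (X := X)).obj (Coh.structureModule X)).obj M ≅ M :=
  (CohB1.sheafifyMod X).mapIso
    (show (CohB1.tensorPre (Coh.structureModule X) M : X.PresheafOfModules) ≅
        (CohB1.toPMod M : X.PresheafOfModules) from (MonoidalCategory.leftUnitor (CohB1.toPMod M))) ≪≫
    (asIso (PresheafOfModules.sheafificationAdjunction (𝟙 X.ringCatSheaf.obj)).counit).app M

theorem nonempty_twF_zero (F : (KRR.PY n T).Modules) : Nonempty (KRR.twF n T 0 F ≅ F) := by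
  obtain ⟨e⟩ : Nonempty (Twist.twistOver n T 0 ≅ Coh.structureModule (KRR.PY n T)) := by
    obtain ⟨e⟩ := H11Tilde.nonempty_twist_zero_iso (CohB1.polyGrading n (ULift.{u} ℤ))
    exact ⟨(Scheme.Modules.pullback _).mapIso e ≪≫ H16Derived.KFlat.Stalk.structurePullbackIso _⟩
  exact ⟨((DCoh.tensorBi (X := KRR.PY n T)).mapIso e).app F ≪≫ leftUnit F⟩

theorem shortExact_twist (d : ℤ) {S : ShortComplex (KRR.PY n T).Modules} (hS : S.ShortExact) :
    (S.map ((DCoh.tensorBi (X := KRR.PY n T)).obj (Twist.twistOver n T d))).ShortExact :=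
  H16Derived.KFlat.Stalk.isFlatObj_flip_of_isFlat (H16Derived.KFlat.Stalk.isFlat_of_isFinLocFree
    fun x => let ⟨U, hxU, ⟨e⟩⟩ := isInvertible_twistOver (n := n) (T := T) d x
      ⟨U, 1, hxU, ⟨e ≪≫ (coproductUniqueIso fun _ : Fin 1 => Coh.structureModule (↑U)).symm⟩⟩) S hS

attribute [local instance 10000] H10Coh.hasSheafifyAb H10Coh.hasWeakSheafifyAb H10Coh.hasExtAb H10Coh.enoughInjAb

section LES

variable {A B : Type*} [Category A] [Category B] [Abelian A] [Abelian B] [EnoughInjectives A]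
  (G : A ⥤ B) [G.Additive] [PreservesFiniteLimits G] {S : ShortComplex A}

theorem isZero_mid (hS : S.ShortExact) (i : ℕ) (h₁ : IsZero ((G.rightDerived i).obj S.X₁))
    (h₃ : IsZero ((G.rightDerived i).obj S.X₃)) : IsZero ((G.rightDerived i).obj S.X₂) := by
  obtain ⟨T, hT, e₁, e₂, e₃, -⟩ := H16Derived.AcyclicLES.exists_les G S hS
  exact ((hT.homology_exact₂ (i : ℤ)).isZero_X₂ ((h₁.of_iso (e₁ i).some.symm).eq_of_src _ _)
    ((h₃.of_iso (e₃ i).some.symm).eq_of_tgt _ _)).of_iso (e₂ i).some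

theorem isZero_right (hS : S.ShortExact) (i : ℕ) (h₂ : IsZero ((G.rightDerived i).obj S.X₂))
    (h₁ : IsZero ((G.rightDerived (i + 1)).obj S.X₁)) : IsZero ((G.rightDerived i).obj S.X₃) := by
  obtain ⟨T, hT, e₁, e₂, e₃, -⟩ := H16Derived.AcyclicLES.exists_les G S hS
  exact ((hT.homology_exact₃ (i : ℤ) ((i + 1 : ℕ) : ℤ) (by simp)).isZero_X₂
    ((h₂.of_iso (e₂ i).some.symm).eq_of_src _ _)
    ((h₁.of_iso (e₁ (i + 1)).some.symm).eq_of_tgt _ _)).of_iso (e₃ i).some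

theorem isZero_left (hS : S.ShortExact) (i : ℕ) (h₃ : IsZero ((G.rightDerived i).obj S.X₃))
    (h₂ : IsZero ((G.rightDerived (i + 1)).obj S.X₂)) : IsZero ((G.rightDerived (i + 1)).obj S.X₁) := by
  obtain ⟨T, hT, e₁, e₂, e₃, -⟩ := H16Derived.AcyclicLES.exists_les G S hS
  exact ((hT.homology_exact₁ (i : ℤ) ((i + 1 : ℕ) : ℤ) (by simp)).isZero_X₂
    ((h₃.of_iso (e₃ i).some.symm).eq_of_src _ _)
    ((h₂.of_iso (e₂ (i + 1)).some.symm).eq_of_tgt _ _)).of_iso (e₁ (i + 1)).some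

theorem isZero_one (hS : S.ShortExact) (h₂ : IsZero ((G.rightDerived 1).obj S.X₂))
    (he : Epi (G.map S.g)) : IsZero ((G.rightDerived 1).obj S.X₁) := by
  obtain ⟨T, hT, e₁, e₂, e₃, a₂, a₃, ha₂, ha₃, hc⟩ := H16Derived.AcyclicLES.exists_les G S hS
  haveI := he
  haveI : Epi (HomologicalComplex.homologyMap T.g (0 : ℤ)) := by
    have h := congrArg (fun k => inv a₂ ≫ k) hc
    simp only [IsIso.inv_hom_id_assoc] at h
    rw [h]
    infer_instance
  have hδ : hT.δ (0 : ℤ) ((1 : ℕ) : ℤ) (by simp) = 0 := by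
    rw [← cancel_epi (HomologicalComplex.homologyMap T.g (0 : ℤ)), hT.comp_δ, comp_zero]
  exact ((hT.homology_exact₁ (0 : ℤ) ((1 : ℕ) : ℤ) (by simp)).isZero_X₂ hδ
    ((h₂.of_iso (e₂ 1).some.symm).eq_of_tgt _ _)).of_iso (e₁ 1).some

end LES

instance preservesFiniteLimits_pushAb {X Y : Scheme.{u}} (f : X ⟶ Y) :
    PreservesFiniteLimits (Coh.pushAb f) :=
  have : (Coh.pushAb f).IsRightAdjoint :=
    (TopCat.Sheaf.pullbackPushforwardAdjunction AddCommGrpCat.{u} f.base).isRightAdjoint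
  inferInstance

theorem shortExact_toAb {X : Scheme.{u}} {S : ShortComplex X.Modules} (hS : S.ShortExact) :
    (S.map (H10Coh.shF X)).ShortExact := H10Coh.shortExact_sh hS

/-- Transport of vanishing along an isomorphism of modules. -/
theorem isZero_congr {X Y : Scheme.{u}} (f : X ⟶ Y) (i : ℕ) {M N : X.Modules} (e : M ≅ N)
    (h : IsZero ((Coh.RpushAb f i).obj (Coh.toAb M))) : IsZero ((Coh.RpushAb f i).obj (Coh.toAb N)) :=
  h.of_iso ((Coh.RpushAb f i).mapIso ((H10Coh.shF X).mapIso e)).symm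

theorem reg_mid {S : ShortComplex (KRR.PY n T).Modules} (hS : S.ShortExact)
    (h₁ : KRR.IsRegSheaf n T S.X₁) (h₃ : KRR.IsRegSheaf n T S.X₃) : KRR.IsRegSheaf n T S.X₂ :=
  fun i hi => isZero_mid (Coh.pushAb (KRR.pr n T)) (shortExact_toAb (shortExact_twist (-(i : ℤ)) hS)) i
    (h₁ i hi) (h₃ i hi)

theorem reg_right {S : ShortComplex (KRR.PY n T).Modules} (hS : S.ShortExact)
    (h₂ : KRR.IsRegSheaf n T S.X₂) (h₁ : KRR.IsRegSheaf n T (KRR.twF n T 1 S.X₁)) :
    KRR.IsRegSheaf n T S.X₃ := fun i hi => by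
  obtain ⟨e⟩ := nonempty_twF_twF (n := n) (T := T) (-((i + 1 : ℕ) : ℤ)) 1 (-(i : ℤ)) (by push_cast; ring) S.X₁
  exact isZero_right (Coh.pushAb (KRR.pr n T)) (shortExact_toAb (shortExact_twist (-(i : ℤ)) hS)) i
    (h₂ i hi) (isZero_congr _ _ e (h₁ (i + 1) (by omega)))

theorem reg_left {S : ShortComplex (KRR.PY n T).Modules} (hS : S.ShortExact)
    (h₂ : KRR.IsRegSheaf n T (KRR.twF n T 1 S.X₂)) (h₃ : KRR.IsRegSheaf n T S.X₃)
    (hepi : Epi ((Scheme.Modules.pushforward (KRR.pr n T)).map S.g)) :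
    KRR.IsRegSheaf n T (KRR.twF n T 1 S.X₁) := fun i hi => by
  obtain ⟨j, rfl⟩ := Nat.exists_eq_add_of_le' hi
  obtain ⟨e⟩ := nonempty_twF_twF (n := n) (T := T) (-((j + 1 : ℕ) : ℤ)) 1 (-(j : ℤ)) (by push_cast; ring) S.X₁
  obtain ⟨e'⟩ := nonempty_twF_twF (n := n) (T := T) (-((j + 1 : ℕ) : ℤ)) 1 (-(j : ℤ)) (by push_cast; ring) S.X₂
  refine isZero_congr _ _ e.symm ?_
  have h₂' : IsZero ((Coh.RpushAb (KRR.pr n T) (j + 1)).obj (Coh.toAb (KRR.twF n T (-(j : ℤ)) S.X₂))) :=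
    isZero_congr _ _ e' (h₂ (j + 1) (by omega))
  rcases Nat.eq_zero_or_pos j with rfl | hj
  · obtain ⟨z₁⟩ := nonempty_twF_zero (n := n) (T := T) S.X₁
    obtain ⟨z₂⟩ := nonempty_twF_zero (n := n) (T := T) S.X₂
    simp only [Nat.cast_zero, neg_zero] at h₂' ⊢
    refine isZero_congr _ _ z₁.symm ?_
    have hS' := shortExact_toAb hS
    refine isZero_one (Coh.pushAb (KRR.pr n T)) hS' (isZero_congr _ _ z₂ h₂') ?_
    haveI := hepi
    exact (H10Coh.shF T).map_epi ((Scheme.Modules.pushforward (KRR.pr n T)).map S.g)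
  · exact isZero_left (Coh.pushAb (KRR.pr n T)) (shortExact_toAb (shortExact_twist (-(j : ℤ)) hS)) j
      (h₃ j hj) h₂'

end Groth.Agent.H22Alg.RegSheaf
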