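import Groth.Agent.H22Alg.DetLength
import Mathlib.RingTheory.Localization.Submodule
import Mathlib.RingTheory.Artinian.Ring
import Mathlib.RingTheory.FiniteLength

/-!
`length (coker φ) = ord (det φ)` over an arbitrary Noetherian ring.
-/

universe u v

open Matrix

namespace Groth.Agent.H22Alg

variable {A : Type u} [CommRing A]

theorem length_eq_of_smul_eq {B : Type*} [CommRing B] [Algebra A B] {M : Type*} [AddCommGroup M]
    [Module A M] [Module B M] [IsScalarTower A B M] (h : ∀ b : B, ∃ a : A, ∀ x : M, b • x = a • x) :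
    Module.length A M = Module.length B M := by
  let e : Submodule A M ≃o Submodule B M :=
    { toFun := fun N =>
        { carrier := N
          add_mem' := fun hx hy => N.add_mem hx hy
          zero_mem' := N.zero_mem
          smul_mem' := fun b x hx => by
            obtain ⟨a, ha⟩ := h b
            show b • x ∈ N
            rw [ha]; exact N.smul_mem a hx }
      invFun := fun N => N.restrictScalars A
      left_inv := fun N => by ext; rfl
      right_inv := fun N => by ext; rfl
      map_rel_iff' := Iff.rfl }
  apply WithBot.coe_injective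
  rw [Module.coe_length, Module.coe_length, Order.krullDim_eq_of_orderIso e]

theorem isFiniteLength_quotient_det [IsNoetherianRing A] {ι : Type} [Fintype ι] [DecidableEq ι]
    (M : Matrix ι ι A) (h : cokerLength M ≠ ⊤) :
    Ring.ord A M.det ≠ ⊤ := by
  set Q := (ι → A) ⧸ LinearMap.range M.mulVecLin
  have hQ : IsFiniteLength A Q := Module.length_ne_top_iff.mp h
  obtain ⟨hN, hArt⟩ := isFiniteLength_iff_isNoetherian_isArtinian.mp hQ
  let f : A →ₗ[A] (ι → Q) :=
    LinearMap.pi fun i => (LinearMap.id : A →ₗ[A] A).smulRight (Submodule.Quotient.mk (Pi.single i (1 : A)) : Q)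
  set I := LinearMap.ker f
  have hA1 : IsArtinian A (A ⧸ I) := isArtinian_of_linearEquiv f.quotKerEquivRange.symm
  have hA2 : IsArtinianRing (A ⧸ Ideal.span {M.det}) := by
    have hI : I ≤ (Ideal.span {M.det}).radical := by
      intro x hx
      have hmem : ∀ i, x • (Pi.single i (1 : A) : ι → A) ∈ LinearMap.range M.mulVecLin := fun i => by
        have := congrFun (LinearMap.mem_ker.mp hx) i
        simp only [f, LinearMap.pi_apply, LinearMap.smulRight_apply, LinearMap.id_apply, Pi.zero_apply] at this
        exact (Submodule.Quotient.mk_eq_zero _).mp ((Submodule.Quotient.mk_smul _ _ _).trans this)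
      choose w hw using hmem
      have e : M * (Matrix.of fun k i => w i k) = x • (1 : Matrix ι ι A) := by
        ext k i
        have := congrFun (hw i) k
        simpa [Matrix.mul_apply, Matrix.mulVec, dotProduct, Matrix.one_apply, Pi.single_apply] using this
      refine ⟨Fintype.card ι, ?_⟩
      rw [Ideal.mem_span_singleton]
      exact ⟨_, by have := congrArg Matrix.det e; rw [Matrix.det_mul, Matrix.det_smul, Matrix.det_one, mul_one] at this; exact this.symm⟩
    have : IsArtinianRing (A ⧸ I) := isArtinian_of_tower A hA1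
    rw [isArtinianRing_iff_krullDimLE_zero]
    refine Ring.krullDimLE_zero_iff.mpr fun P hP => ?_
    have hle : I ≤ P.comap (Ideal.Quotient.mk (Ideal.span {M.det})) := by
      refine hI.trans ((Ideal.IsPrime.radical_le_iff inferInstance).mpr ?_)
      intro z hz
      simp [Ideal.Quotient.eq_zero_iff_mem.mpr hz]
    have : ((P.comap (Ideal.Quotient.mk _)).map (Ideal.Quotient.mk I)).IsPrime :=
      Ideal.map_isPrime_of_surjective Ideal.Quotient.mk_surjective (by rw [Ideal.mk_ker]; exact hle)
    have hmax := IsArtinianRing.isMaximal_of_isPrime ((P.comap (Ideal.Quotient.mk _)).map (Ideal.Quotient.mk I))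
    have : (P.comap (Ideal.Quotient.mk (Ideal.span {M.det}))).IsMaximal := by
      have e : ((P.comap (Ideal.Quotient.mk (Ideal.span {M.det}))).map (Ideal.Quotient.mk I)).comap (Ideal.Quotient.mk I) =
          P.comap (Ideal.Quotient.mk _) := by
        rw [Ideal.comap_map_of_surjective _ Ideal.Quotient.mk_surjective, ← RingHom.ker_eq_comap_bot, Ideal.mk_ker,
          sup_of_le_left hle]
      rw [← e]
      exact Ideal.comap_isMaximal_of_surjective _ Ideal.Quotient.mk_surjective
    rw [← Ideal.map_comap_of_surjective _ Ideal.Quotient.mk_surjective P]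
    exact (Ideal.map_eq_top_or_isMaximal_of_surjective _ Ideal.Quotient.mk_surjective this).resolve_left
      (by rw [Ideal.map_comap_of_surjective _ Ideal.Quotient.mk_surjective]; exact hP.ne_top)
  rw [Ring.ord, Module.length_eq_of_surjective (R := A ⧸ Ideal.span {M.det}) Ideal.Quotient.mk_surjective]
  exact Module.length_ne_top

theorem cokerLength_ne_top [IsNoetherianRing A] {ι : Type} [Fintype ι] [DecidableEq ι]
    (M : Matrix ι ι A) (h : Ring.ord A M.det ≠ ⊤) : cokerLength M ≠ ⊤ := by
  have hd : cokerLength (Matrix.diagonal fun _ : ι => M.det) ≠ ⊤ := by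
    rw [cokerLength_diagonal, Finset.sum_const, nsmul_eq_mul]
    exact WithTop.mul_ne_top (ENat.coe_ne_top _) h
  refine ne_top_of_le_ne_top hd (Module.length_le_of_surjective (Submodule.factor ?_) (Submodule.factor_surjective _))
  rintro _ ⟨v, rfl⟩
  exact ⟨M.adjugate *ᵥ v, by
    rw [Matrix.mulVecLin_apply, Matrix.mulVecLin_apply, Matrix.mulVec_mulVec, Matrix.mul_adjugate,
      Matrix.smul_one_eq_diagonal]⟩

theorem cokerLength_eq_ord_det [IsNoetherianRing A] {n : ℕ} (M : Matrix (Fin n) (Fin n) A)
    (hM : M.det ∈ nonZeroDivisors A) : cokerLength M = Ring.ord A M.det := by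
  set d := M.det with hd
  by_cases hord : Ring.ord A d = ⊤
  · rw [hord]
    by_contra h
    exact isFiniteLength_quotient_det M h hord
  set S : Submonoid A := (IsUnit.submonoid (A ⧸ Ideal.span {d})).comap (Ideal.Quotient.mk (Ideal.span {d}))
  have hS : ∀ s : A, s ∈ S ↔ ∃ t r : A, t * s = 1 + d * r := by
    intro s
    constructor
    · intro h
      obtain ⟨t', ht⟩ := isUnit_iff_exists_inv'.mp (show IsUnit (Ideal.Quotient.mk (Ideal.span {d}) s) from h)
      obtain ⟨t, rfl⟩ := Ideal.Quotient.mk_surjective t'
      rw [← map_mul, ← map_one (Ideal.Quotient.mk (Ideal.span {d})), Ideal.Quotient.eq, Ideal.mem_span_singleton] at ht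
      obtain ⟨r, hr⟩ := ht
      exact ⟨t, r, by rw [← hr]; ring⟩
    · rintro ⟨t, r, h⟩
      show IsUnit (Ideal.Quotient.mk (Ideal.span {d}) s)
      exact IsUnit.of_mul_eq_one (Ideal.Quotient.mk (Ideal.span {d}) t) (by
        rw [← map_mul, mul_comm s, h, map_add, map_mul, Ideal.Quotient.mk_singleton_self, zero_mul, add_zero, map_one])
  let B := Localization S
  have : IsNoetherianRing B := IsLocalization.isNoetherianRing S B inferInstance
  let φ := algebraMap A B
  have hdB : φ d ∈ nonZeroDivisors B := by
    rw [mem_nonZeroDivisors_iff_right]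
    intro z hz
    obtain ⟨⟨a, s⟩, rfl⟩ := IsLocalization.mk'_surjective S z
    rw [show φ d = IsLocalization.mk' B d (1 : S) from (IsLocalization.mk'_one B d).symm, ← IsLocalization.mk'_mul,
      IsLocalization.mk'_eq_zero_iff] at hz
    obtain ⟨c, hc⟩ := hz
    exact (IsLocalization.mk'_eq_zero_iff _ _).mpr ⟨c, hM.2 _ (by rw [← hc]; ring)⟩
  have key : ∀ {k : ℕ} (N : Matrix (Fin k) (Fin k) A), (∀ v : Fin k → A, d • v ∈ LinearMap.range N.mulVecLin) →
      cokerLength N = cokerLength (N.map φ) := by
    intro k N hN
    have hdw : ∀ w : Fin k → B, φ d • w ∈ LinearMap.range (N.map φ).mulVecLin := by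
      intro w
      have hb : ∀ i, φ d • (Pi.single i (1 : B)) ∈ LinearMap.range (N.map φ).mulVecLin := by
        intro i
        obtain ⟨u, hu⟩ := hN (Pi.single i 1)
        refine ⟨φ ∘ u, ?_⟩
        funext j
        have := congrArg φ (congrFun hu j)
        simp only [Matrix.mulVecLin_apply, Matrix.mulVec, dotProduct, map_sum, map_mul, Pi.smul_apply,
          smul_eq_mul] at this
        simp only [Matrix.mulVecLin_apply, Matrix.mulVec, dotProduct, Matrix.map_apply, Function.comp,
          Pi.smul_apply, smul_eq_mul]
        rw [this, Pi.single_apply, Pi.single_apply]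
        split_ifs <;> simp
      rw [pi_eq_sum_univ' w, Finset.smul_sum]
      refine sum_mem fun i _ => ?_
      rw [smul_comm]
      exact Submodule.smul_mem _ _ (hb i)
    have hmul : ∀ b : B, ∃ a : A, ∀ x : (Fin k → B) ⧸ LinearMap.range (N.map φ).mulVecLin, b • x = a • x := by
      intro b
      obtain ⟨⟨a, s⟩, rfl⟩ := IsLocalization.mk'_surjective S b
      obtain ⟨t, r, h⟩ := (hS s).mp s.2
      refine ⟨a * t, fun x => ?_⟩
      obtain ⟨w, rfl⟩ := Submodule.Quotient.mk_surjective _ x
      rw [← Submodule.Quotient.mk_smul, ← Submodule.Quotient.mk_smul, Submodule.Quotient.eq,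
        ← algebraMap_smul B (a * t) w, ← sub_smul]
      have e : IsLocalization.mk' B a s - algebraMap A B (a * t) = -(IsLocalization.mk' B (a * r) s * φ d) := by
        rw [sub_eq_iff_eq_add, neg_add_eq_sub, eq_sub_iff_add_eq]
        have h' := congrArg (algebraMap A B) h
        have hs := IsLocalization.map_units B s
        apply hs.mul_left_cancel
        rw [mul_add, ← mul_assoc, IsLocalization.mk'_spec', IsLocalization.mk'_spec']
        simp only [map_mul, map_add, map_one] at h' ⊢
        linear_combination -(algebraMap A B a) * h'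
      rw [e, neg_smul, mul_smul]
      exact neg_mem (Submodule.smul_mem _ _ (hdw w))
    let ι : (Fin k → A) →ₗ[A] (Fin k → B) := LinearMap.pi fun i => (Algebra.linearMap A B).comp (LinearMap.proj i)
    let f : (Fin k → A) →ₗ[A] (Fin k → B) ⧸ LinearMap.range (N.map φ).mulVecLin :=
      ((LinearMap.range (N.map φ).mulVecLin).mkQ.restrictScalars A).comp ι
    have hιN : ∀ u, ι (N *ᵥ u) = (N.map φ) *ᵥ (ι u) := fun u => by
      funext i
      simp [ι, Matrix.mulVec, dotProduct, φ]
    have hsurj : Function.Surjective f := by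
      intro x
      obtain ⟨w, rfl⟩ := Submodule.Quotient.mk_surjective _ x
      rw [pi_eq_sum_univ' w]
      choose c hc using fun i => hmul (w i)
      refine ⟨∑ i, c i • Pi.single i 1, ?_⟩
      rw [map_sum, ← Submodule.mkQ_apply, map_sum]
      refine Finset.sum_congr rfl fun i _ => ?_
      rw [map_smul, map_smul, hc i]
      congr 1
      show Submodule.Quotient.mk (ι (Pi.single i (1 : A))) = Submodule.Quotient.mk (Pi.single i (1 : B))
      congr 1
      funext j
      simp only [ι, LinearMap.pi_apply, LinearMap.comp_apply, LinearMap.proj_apply, Algebra.linearMap_apply,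
        Pi.single_apply]
      split_ifs <;> simp
    have hker : LinearMap.ker f = LinearMap.range N.mulVecLin := by
      ext v
      simp only [f, LinearMap.mem_ker, LinearMap.comp_apply, LinearMap.coe_restrictScalars,
        Submodule.mkQ_apply, Submodule.Quotient.mk_eq_zero]
      constructor
      · rintro ⟨w, hw⟩
        obtain ⟨b, hb⟩ := IsLocalization.exist_integer_multiples_of_finite S w
        choose u hu using hb
        rw [Matrix.mulVecLin_apply] at hw
        have : ∀ i, φ (((b : A) • v) i) = φ ((N *ᵥ u) i) := fun i => by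
          rw [show φ ((N *ᵥ u) i) = ι (N *ᵥ u) i from rfl, hιN]
          have hu' : ι u = (b : A) • w := funext fun j => hu j
          rw [hu', ← algebraMap_smul B (b : A) w, Matrix.mulVec_smul, hw]
          simp [ι, φ]
        choose c hc using fun i => (IsLocalization.eq_iff_exists S B).mp (this i)
        set C : S := ∏ i, c i
        have hC : (C : A) • ((b : A) • v) = (C : A) • (N *ᵥ u) := funext fun i => by
          obtain ⟨e, he⟩ : ∃ e : S, C = c i * e :=
            ⟨∏ j ∈ Finset.univ.erase i, c j, (Finset.mul_prod_erase _ _ (Finset.mem_univ i)).symm⟩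
          simp only [Pi.smul_apply, smul_eq_mul, he, Submonoid.coe_mul]
          have := hc i
          simp only [Pi.smul_apply, smul_eq_mul] at this
          linear_combination (e : A) * this
        have hmem : ((C * b : S) : A) • v ∈ LinearMap.range N.mulVecLin := by
          rw [Submonoid.coe_mul, mul_smul, hC, ← Matrix.mulVec_smul]
          exact ⟨_, rfl⟩
        obtain ⟨t, r, h⟩ := (hS _).mp (C * b).2
        have e : v = t • ((C * b : S) : A) • v - r • (d • v) := by
          rw [smul_smul, smul_smul, ← sub_smul, h]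
          simp [mul_comm]
        rw [e]
        exact sub_mem (Submodule.smul_mem _ _ hmem) (Submodule.smul_mem _ _ (hN v))
      · rintro ⟨u, rfl⟩
        exact ⟨ι u, by rw [Matrix.mulVecLin_apply, Matrix.mulVecLin_apply, hιN]⟩
    calc cokerLength N = Module.length A ((Fin k → A) ⧸ LinearMap.ker f) := by rw [hker]; rfl
      _ = Module.length A ((Fin k → B) ⧸ LinearMap.range (N.map φ).mulVecLin) :=
          (f.quotKerEquivOfSurjective hsurj).length_eq
      _ = cokerLength (N.map φ) := length_eq_of_smul_eq hmul
  have hord1 : Ring.ord A d = Ring.ord B (φ d) := by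
    have h1 := key (Matrix.diagonal fun _ : Fin 1 => d) (fun v => ⟨v, by
      funext i; simp [Matrix.mulVec_diagonal]⟩)
    rw [Matrix.diagonal_map (map_zero φ), cokerLength_diagonal, cokerLength_diagonal] at h1
    simpa using h1
  have hM' := key M (fun v => ⟨M.adjugate *ᵥ v, by
    rw [Matrix.mulVecLin_apply, Matrix.mulVec_mulVec, Matrix.mul_adjugate, Matrix.smul_mulVec, Matrix.one_mulVec]⟩)
  have hdet : (M.map φ).det = φ d := by rw [hd]; exact (φ.map_det M).symm
  rw [hord1, hM', ← hdet]
  apply cokerLength_eq_ord_det_of_finite ?_ _ (hdet ▸ hdB)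
  intro b hb
  have hArtB : IsArtinianRing (B ⧸ Ideal.span {φ d}) := by
    have : Ring.ord B (φ d) ≠ ⊤ := hord1 ▸ hord
    have := (isFiniteLength_iff_isNoetherian_isArtinian.mp (Module.length_ne_top_iff.mp this)).2
    exact isArtinian_of_tower B this
  have hjac : ∀ m : Ideal B, m.IsMaximal → φ d ∈ m := by
    intro m hm
    by_contra hnot
    obtain ⟨c, i, hi, hci⟩ := hm.exists_inv hnot
    obtain ⟨⟨a, s⟩, rfl⟩ := IsLocalization.mk'_surjective S c
    obtain ⟨t, r, h⟩ := (hS s).mp s.2
    have hmem : (s : A) - a * d ∈ S := (hS _).mpr ⟨t, r - t * a, by linear_combination h⟩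
    have hu : IsUnit i := by
      have e : i = IsLocalization.mk' B ((s : A) - a * d) s := by
        rw [IsLocalization.eq_mk'_iff_mul_eq, map_sub, map_mul]
        have := IsLocalization.mk'_spec B a s
        linear_combination (algebraMap A B s) * hci - φ d * this
      rw [e]
      rw [IsLocalization.mk'_eq_mul_mk'_one]
      exact (IsLocalization.map_units B ⟨_, hmem⟩).mul (IsUnit.of_mul_eq_one (algebraMap A B s) (IsLocalization.mk'_spec B 1 s |>.trans (map_one _)))
    exact hm.ne_top (Ideal.eq_top_of_isUnit_mem _ hi hu)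
  rw [Ring.ord, Module.length_eq_of_surjective (R := B ⧸ Ideal.span {b}) Ideal.Quotient.mk_surjective]
  have : IsArtinianRing (B ⧸ Ideal.span {b}) := by
    rw [isArtinianRing_iff_krullDimLE_zero]
    refine Ring.krullDimLE_zero_iff.mpr fun P hP => ?_
    set p := P.comap (Ideal.Quotient.mk (Ideal.span {b}))
    obtain ⟨m, hm, hpm⟩ := Ideal.exists_le_maximal p (Ideal.IsPrime.ne_top inferInstance)
    have hmin : m ∈ (Ideal.span {φ d}).minimalPrimes := by
      refine ⟨⟨hm.isPrime, (Ideal.span_singleton_le_iff_mem _).mpr (hjac m hm)⟩, fun q hq hqm => ?_⟩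
      obtain ⟨hqp, hdq⟩ := hq
      have : (q.map (Ideal.Quotient.mk (Ideal.span {φ d}))).IsPrime :=
        Ideal.map_isPrime_of_surjective Ideal.Quotient.mk_surjective (by rw [Ideal.mk_ker]; exact hdq)
      have hqmax := IsArtinianRing.isMaximal_of_isPrime (q.map (Ideal.Quotient.mk (Ideal.span {φ d})))
      have e : (q.map (Ideal.Quotient.mk (Ideal.span {φ d}))).comap (Ideal.Quotient.mk _) = q := by
        rw [Ideal.comap_map_of_surjective _ Ideal.Quotient.mk_surjective, ← RingHom.ker_eq_comap_bot, Ideal.mk_ker,
          sup_of_le_left hdq]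
      have hq' : q.IsMaximal := e ▸ Ideal.comap_isMaximal_of_surjective _ Ideal.Quotient.mk_surjective
      exact (hq'.eq_of_le hm.ne_top hqm).ge
    have hpeq : p = m := by
      by_contra hne
      have hlt : p < m := lt_of_le_of_ne hpm hne
      have hh : m.height ≤ 1 := Ideal.height_le_one_of_isPrincipal_of_mem_minimalPrimes _ m hmin
      have hp0 : p.height = 0 := by
        have := Ideal.height_strict_mono_of_isPrime hlt
        exact Order.lt_one_iff.mp (lt_of_lt_of_le this hh)
      have hbp : b ∈ p := by simp [p, Ideal.Quotient.mk_singleton_self]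
      exact Set.disjoint_left.mp (Ideal.disjoint_nonZeroDivisors_of_mem_minimalPrimes
        (Ideal.height_eq_zero_iff.mp hp0)) hbp hb
    rw [← Ideal.map_comap_of_surjective _ Ideal.Quotient.mk_surjective P]
    exact (Ideal.map_eq_top_or_isMaximal_of_surjective _ Ideal.Quotient.mk_surjective
      (show p.IsMaximal from hpeq ▸ hm)).resolve_left
      (by rw [Ideal.map_comap_of_surjective _ Ideal.Quotient.mk_surjective]; exact hP.ne_top)
  exact Module.length_ne_top

end Groth.Agent.H22Alg
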