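import Groth.Prelude.Def_Tame
import Mathlib.RingTheory.OrderOfVanishing.Basic

/-!
`CycAlg.ordFrac` on fractions.
-/

universe u v

namespace Groth.Agent.H22Alg

open Classical

theorem ord_toNat_mul {R : Type u} [CommRing R] [IsNoetherianRing R] [Ring.KrullDimLE 1 R] {x y : R}
    (hx : x ∈ nonZeroDivisors R) (hy : y ∈ nonZeroDivisors R) :
    (Ring.ord R (x * y)).toNat = (Ring.ord R x).toNat + (Ring.ord R y).toNat := by
  rw [Ring.ord_mul R hy, ENat.toNat_add (Ring.ord_ne_top hx) (Ring.ord_ne_top hy)]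

theorem ordFrac_algebraMap {R : Type u} [CommRing R] [IsNoetherianRing R] [Ring.KrullDimLE 1 R]
    [Nontrivial R] (K : Type v) [Field K] [Algebra R K] [IsFractionRing R K] {x : R}
    (hx : x ∈ nonZeroDivisors R) :
    Ring.ordFrac R (algebraMap R K x) = WithZero.coe (Multiplicative.ofAdd ((Ring.ord R x).toNat : ℤ)) := by
  have := (FaithfulSMul.algebraMap_injective R K).isDomain
  rw [Ring.ordFrac_eq_ord R (nonZeroDivisors.ne_zero hx)]
  show ite _ _ _ = _
  rw [if_pos hx]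
  obtain ⟨n, hn⟩ := ENat.ne_top_iff_exists.mp (Ring.ord_ne_top hx)
  rw [← hn, ENat.toNat_natCast, ENat.recTopCoe_natCast]

theorem cycOrdFrac_div {R : Type u} [CommRing R] [IsNoetherianRing R] [Ring.KrullDimLE 1 R]
    [Nontrivial R] (K : Type v) [Field K] [Algebra R K] [IsFractionRing R K] {x y : R}
    (hx : x ∈ nonZeroDivisors R) (hy : y ∈ nonZeroDivisors R) :
    CycAlg.ordFrac R K (algebraMap R K x / algebraMap R K y) =
      ((Ring.ord R x).toNat : ℤ) - ((Ring.ord R y).toNat : ℤ) := by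
  rw [CycAlg.ordFrac, dif_pos ⟨‹_›, ‹_›, ‹_›, ‹_›⟩, map_div₀, ordFrac_algebraMap K hx,
    ordFrac_algebraMap K hy, ← WithZero.coe_div, WithZero.recZeroCoe_coe]
  rfl

end Groth.Agent.H22Alg
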