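import Mathlib
import Groth.Prelude.Def_Cyc
import Groth.Agent.H22Alg.OrdFrac
import Groth.Agent.H22Alg.DetLengthGeneral
import Groth.Agent.H17.Fibre

/-!
Principal divisors: local finiteness, restriction to open subschemes.
-/

universe u v

open AlgebraicGeometry CategoryTheory TopologicalSpace

namespace Groth.Agent.H22Alg.CycDiv

theorem ord_ringEquiv {R R' : Type u} [CommRing R] [CommRing R'] (e : R ≃+* R') (x : R) :
    Ring.ord R' (e x) = Ring.ord R x := by
  letI := e.toRingHom.toAlgebra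
  let φ : R ≃ₐ[R] R' := AlgEquiv.ofRingEquiv (f := e) fun _ => rfl
  have hmap : Ideal.span {e x} = (Ideal.span {x}).map (φ : R →+* R') := by
    rw [Ideal.map_span, Set.image_singleton]; rfl
  show Module.length R' (R' ⧸ Ideal.span {e x}) = Module.length R (R ⧸ Ideal.span {x})
  rw [← length_eq_of_smul_eq (A := R) (B := R') (M := R' ⧸ Ideal.span {e x})
    fun b => ⟨e.symm b, fun m => by
      conv_rhs => rw [← algebraMap_smul R' (e.symm b) m]
      exact congrArg (fun c : R' => c • m) (e.apply_symm_apply b).symm⟩]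
  exact (Ideal.quotientEquivAlg _ _ φ hmap).toLinearEquiv.length_eq.symm

theorem ordFrac_congr {R R' : Type u} [CommRing R] [CommRing R'] {K K' : Type v} [Field K] [Field K']
    [Algebra R K] [Algebra R' K'] (e : R ≃+* R') (φ : K ≃+* K')
    (h : ∀ r, φ (algebraMap R K r) = algebraMap R' K' (e r)) (f : K) :
    CycAlg.ordFrac R' K' (φ f) = CycAlg.ordFrac R K f := by
  classical
  by_cases hR : IsNoetherianRing R ∧ Ring.KrullDimLE 1 R ∧ Nontrivial R ∧ IsFractionRing R K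
  · obtain ⟨h1, h2, h3, h4⟩ := hR
    haveI := isNoetherianRing_of_ringEquiv R e
    haveI : Ring.KrullDimLE 1 R' := Ring.krullDimLE_iff.mpr
      ((ringKrullDim_eq_of_ringEquiv e).symm.trans_le (Ring.krullDimLE_iff.mp h2))
    haveI := e.toEquiv.symm.nontrivial
    haveI : IsFractionRing R' K' := by
      refine ⟨fun ⟨y, hy⟩ => ?_, fun z => ?_, fun {x y} hxy => ?_⟩
      · have : e.symm y ∈ nonZeroDivisors R := by
          simpa using (MulEquivClass.map_nonZeroDivisors e.symm).le ⟨y, hy, rfl⟩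
        have hu := (IsLocalization.map_units K ⟨_, this⟩).map φ
        simpa [h] using hu
      · obtain ⟨⟨a, ⟨b, hb⟩⟩, hab⟩ := IsLocalization.surj (nonZeroDivisors R) (φ.symm z)
        refine ⟨⟨e a, ⟨e b, (MulEquivClass.map_nonZeroDivisors e).le ⟨b, hb, rfl⟩⟩⟩, ?_⟩
        have := congrArg φ hab
        simpa [h] using this
      · obtain ⟨⟨c, hc⟩, hcx⟩ := IsLocalization.exists_of_eq (M := nonZeroDivisors R) (S := K)
          (φ.injective ((h (e.symm x)).trans ((by simpa using hxy : algebraMap R' K' (e (e.symm x)) = _).trans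
            (h (e.symm y)).symm)))
        refine ⟨⟨e c, (MulEquivClass.map_nonZeroDivisors e).le ⟨c, hc, rfl⟩⟩, ?_⟩
        have := congrArg e hcx
        simpa using this
    rcases eq_or_ne f 0 with rfl | hf
    · simp [CycAlg.ordFrac, map_zero]
    · obtain ⟨a, b, hb, rfl⟩ := IsFractionRing.div_surjective R f
      have ha : a ∈ nonZeroDivisors R := by
        refine mem_nonZeroDivisors_iff_right.mpr fun z hz => ?_
        have hz' := congrArg (algebraMap R K) hz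
        rw [map_mul, map_zero, mul_eq_zero] at hz'
        refine IsFractionRing.injective R K ?_
        rw [map_zero]
        refine hz'.resolve_right fun h0 => hf ?_
        rw [h0, zero_div]
      rw [map_div₀, h, h, cycOrdFrac_div K' ((MulEquivClass.map_nonZeroDivisors e).le ⟨a, ha, rfl⟩)
        ((MulEquivClass.map_nonZeroDivisors e).le ⟨b, hb, rfl⟩), cycOrdFrac_div K ha hb, ord_ringEquiv, ord_ringEquiv]
  · rw [CycAlg.ordFrac, CycAlg.ordFrac, dif_neg hR, dif_neg]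
    rintro ⟨h1, h2, h3, h4⟩
    refine hR ⟨isNoetherianRing_of_ringEquiv R' e.symm, Ring.krullDimLE_iff.mpr
      ((ringKrullDim_eq_of_ringEquiv e).trans_le (Ring.krullDimLE_iff.mp h2)), e.toEquiv.nontrivial, ?_⟩
    refine ⟨fun ⟨y, hy⟩ => ?_, fun z => ?_, fun {x y} hxy => ?_⟩
    · have hu := (IsLocalization.map_units K' (⟨e y, (MulEquivClass.map_nonZeroDivisors e).le ⟨y, hy, rfl⟩⟩ :
        nonZeroDivisors R')).map φ.symm
      rw [show φ.symm (algebraMap R' K' (e y)) = algebraMap R K y by rw [← h, φ.symm_apply_apply]] at hu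
      exact hu
    · obtain ⟨⟨a, ⟨b, hb⟩⟩, hab⟩ := IsLocalization.surj (nonZeroDivisors R') (φ z)
      refine ⟨⟨e.symm a, ⟨e.symm b, (MulEquivClass.map_nonZeroDivisors e.symm).le ⟨b, hb, rfl⟩⟩⟩, φ.injective ?_⟩
      simpa [h] using hab
    · obtain ⟨⟨c, hc⟩, hcx⟩ := IsLocalization.exists_of_eq (M := nonZeroDivisors R') (S := K')
        ((h x).symm.trans ((congrArg φ hxy).trans (h y)))
      refine ⟨⟨e.symm c, (MulEquivClass.map_nonZeroDivisors e.symm).le ⟨c, hc, rfl⟩⟩, e.injective ?_⟩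
      simpa using hcx

theorem ordFrac_eq_zero_of_isUnit {R : Type u} [CommRing R] {K : Type v} [Field K] [Algebra R K] {a b : R}
    (ha : IsUnit a) (hb : IsUnit b) : CycAlg.ordFrac R K (algebraMap R K a / algebraMap R K b) = 0 := by
  classical
  by_cases h : IsNoetherianRing R ∧ Ring.KrullDimLE 1 R ∧ Nontrivial R ∧ IsFractionRing R K
  · haveI := h.1; haveI := h.2.1; haveI := h.2.2.1; haveI := h.2.2.2
    rw [cycOrdFrac_div K ha.mem_nonZeroDivisors hb.mem_nonZeroDivisors, Ring.ord_of_isUnit ha, Ring.ord_of_isUnit hb,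
      sub_self]
  · rw [CycAlg.ordFrac, dif_neg h]

/-- The algebra structure of the quotient by the kernel. -/
@[reducible] noncomputable def quotAlg {S : Type u} [CommRing S] {K : Type v} [Field K] (s : S →+* K) :
    Algebra (S ⧸ RingHom.ker s) K :=
  (Ideal.Quotient.lift (RingHom.ker s) s (fun _ ha => RingHom.mem_ker.mp ha)).toAlgebra

theorem ordFrac_quot_congr {S S' : Type u} [CommRing S] [CommRing S'] {K K' : Type v} [Field K] [Field K']
    (s : S →+* K) (s' : S' →+* K') (eS : S ≃+* S') (φ : K ≃+* K') (h : ∀ r, φ (s r) = s' (eS r)) (f : K) :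
    @CycAlg.ordFrac (S' ⧸ RingHom.ker s') _ K' _ (quotAlg s') (φ f) =
      @CycAlg.ordFrac (S ⧸ RingHom.ker s) _ K _ (quotAlg s) f := by
  letI := quotAlg s
  letI := quotAlg s'
  have hker : RingHom.ker s' = (RingHom.ker s).map (eS : S →+* S') := by
    ext r
    obtain ⟨r, rfl⟩ := eS.surjective r
    rw [RingHom.mem_ker, ← h, map_eq_zero, Ideal.mem_map_iff_of_surjective (eS : S →+* S') eS.surjective]
    exact ⟨fun hr => ⟨r, hr, rfl⟩, fun ⟨t, ht, he⟩ => (eS.injective he) ▸ ht⟩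
  refine ordFrac_congr (Ideal.quotientEquiv _ _ eS hker) φ (fun r => ?_) f
  obtain ⟨r, rfl⟩ := Ideal.Quotient.mk_surjective r
  exact h r

variable {X : Scheme.{u}}

theorem exists_frac {W : X.Opens} (hW : IsAffineOpen W) {ξ : X} (hξ : ξ ∈ W) (f : X.residueField ξ) :
    ∃ a b : Γ(X, W), X.evaluation W ξ hξ b ≠ 0 ∧
      f = X.evaluation W ξ hξ a / X.evaluation W ξ hξ b := by
  obtain ⟨z, rfl⟩ := X.residue_surjective ξ f
  letI := TopCat.Presheaf.algebra_section_stalk X.presheaf (⟨ξ, hξ⟩ : W)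
  haveI := hW.isLocalization_stalk ⟨ξ, hξ⟩
  obtain ⟨⟨a, b⟩, hab⟩ := IsLocalization.surj (hW.primeIdealOf ⟨ξ, hξ⟩).asIdeal.primeCompl z
  have hb : X.evaluation W ξ hξ b.1 ≠ 0 := by
    have hu := (IsLocalization.map_units (X.presheaf.stalk ξ) b).map (X.residue ξ).hom
    exact hu.ne_zero
  refine ⟨a, b.1, hb, ?_⟩
  rw [eq_div_iff hb]
  have h := congrArg (X.residue ξ).hom hab
  rw [map_mul] at h
  exact h

theorem isUnit_germ_of_mem_basicOpen {W : X.Opens} {x : X} (hx : x ∈ W) (a : Γ(X, W)) (h : x ∈ X.basicOpen a) :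
    IsUnit (X.presheaf.germ W x hx a) :=
  (X.mem_basicOpen a x hx).mp h

theorem ordAt_eq_zero {W : X.Opens} {x ξ : X} (h : ξ ⤳ x) (hx : x ∈ W) (hξ : ξ ∈ W) (a b : Γ(X, W))
    (ha : x ∈ X.basicOpen a) (hb : x ∈ X.basicOpen b) :
    Cyc.ordAt x ξ h (X.evaluation W ξ hξ a / X.evaluation W ξ hξ b) = 0 := by
  have key : ∀ c : Γ(X, W), algebraMap (Cyc.LocQuot x ξ h) (X.residueField ξ)
      (Ideal.Quotient.mk _ (X.presheaf.germ W x hx c)) = X.evaluation W ξ hξ c := fun c => by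
    show Cyc.specMap x ξ h (X.presheaf.germ W x hx c) = _
    exact congrArg (X.residue ξ).hom (X.presheaf.germ_stalkSpecializes_apply hx h c)
  rw [Cyc.ordAt, ← key a, ← key b]
  exact ordFrac_eq_zero_of_isUnit ((isUnit_germ_of_mem_basicOpen hx a ha).map _)
    ((isUnit_germ_of_mem_basicOpen hx b hb).map _)

theorem noetherianSpace_affine [IsLocallyNoetherian X] {W : X.Opens} (hW : IsAffineOpen W) : NoetherianSpace W :=
  haveI := IsLocallyNoetherian.component_noetherian ⟨W, hW⟩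
  noetherianSpace_of_isAffineOpen W hW

theorem finite_divFun_inter [IsLocallyNoetherian X] {δ : X → ℤ} (hδ : Cyc.IsDimFun X δ) (ξ : X)
    {f : X.residueField ξ} (hf : f ≠ 0) {W : X.Opens} (hW : IsAffineOpen W) :
    ((W : Set X) ∩ Function.support (Cyc.divFun δ ξ f)).Finite := by
  classical
  by_cases hξ : ξ ∈ W
  swap
  · refine Set.finite_empty.subset fun x hx => hξ ?_
    by_contra hξ'
    refine hx.2 ?_
    rw [Cyc.divFun, dif_neg]
    exact fun h => hξ' (h.1.mem_open W.2 hx.1)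
  obtain ⟨a, b, hb, hfab⟩ := exists_frac hW hξ f
  have ha : X.evaluation W ξ hξ a ≠ 0 := fun h => hf (by rw [hfab, h, zero_div])
  let O : X.Opens := X.basicOpen a ⊓ X.basicOpen b
  have hξO : ξ ∈ O := ⟨(X.evaluation_ne_zero_iff_mem_basicOpen ξ hξ a).mp ha,
    (X.evaluation_ne_zero_iff_mem_basicOpen ξ hξ b).mp hb⟩
  let C : Set ↥W := {w | ξ ⤳ w.1 ∧ w.1 ∉ O}
  have hC : IsClosed C := by
    have h1 : IsClosed {w : ↥W | ξ ⤳ w.1} := by
      simp only [specializes_iff_mem_closure]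
      exact isClosed_closure.preimage continuous_subtype_val
    exact h1.inter ((O.2.isClosed_compl).preimage continuous_subtype_val)
  haveI : NoetherianSpace ↥W := noetherianSpace_affine hW
  haveI : QuasiSober ↥W := W.isOpenEmbedding'.quasiSober
  haveI : NoetherianSpace C := NoetherianSpace.set C
  haveI : QuasiSober C := hC.isClosedEmbedding_subtypeVal.quasiSober
  have hfin : (genericPoints C).Finite :=
    genericPoints.finite NoetherianSpace.finite_irreducibleComponents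
  refine (hfin.image (fun c : C => c.1.1)).subset ?_
  rintro x ⟨hxW, hx⟩
  have hc : ξ ⤳ x ∧ δ x + 1 = δ ξ := by
    by_contra hne
    exact hx (by rw [Cyc.divFun, dif_neg hne])
  have hxO : x ∉ O := fun hO => hx (by
    rw [Cyc.divFun, dif_pos hc, hfab]
    exact ordAt_eq_zero hc.1 hxW hξ a b hO.1 hO.2)
  refine ⟨⟨⟨x, hxW⟩, hc.1, hxO⟩, ?_, rfl⟩
  have hmax : ∀ y : C, y ⤳ (⟨⟨x, hxW⟩, hc.1, hxO⟩ : C) → y = ⟨⟨x, hxW⟩, hc.1, hxO⟩ := by
    intro y hy
    have hy' : y.1.1 ⤳ x := (hy.map continuous_subtype_val).map continuous_subtype_val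
    by_contra hne
    have hne' : y.1.1 ≠ x := fun h => hne (Subtype.ext (Subtype.ext h))
    have h1 := (hδ _ _ hy' hne').1
    have hne'' : ξ ≠ y.1.1 := fun h => y.2.2 (h ▸ hξO)
    have h2 := (hδ _ _ y.2.1 hne'').1
    omega
  exact (H17.mem_genericPoints_iff).mpr hmax

theorem locallyFinite_divFun [IsLocallyNoetherian X] {δ : X → ℤ} (hδ : Cyc.IsDimFun X δ) (ξ : X)
    {f : X.residueField ξ} (hf : f ≠ 0) (x : X) :
    ∃ t ∈ nhds x, (t ∩ Function.support (Cyc.divFun δ ξ f)).Finite := by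
  obtain ⟨W, hW, hxW, -⟩ := exists_isAffineOpen_mem_and_subset (show x ∈ (⊤ : X.Opens) from trivial)
  exact ⟨W, W.2.mem_nhds hxW, finite_divFun_inter hδ ξ hf hW⟩

section open_subscheme

variable (U : X.Opens) (δ : X → ℤ)

theorem divFun_opens (ξ : (U : Scheme.{u})) (f : (U : Scheme.{u}).residueField ξ) (f' : X.residueField (U.ι ξ))
    (hff : U.ι.residueFieldMap ξ f' = f) (x : (U : Scheme.{u})) :
    Cyc.divFun (X := (U : Scheme.{u})) (fun u => δ (U.ι u)) ξ f x = Cyc.divFun δ (U.ι ξ) f' (U.ι x) := by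
  have hiff : (U.ι ξ ⤳ U.ι x) ↔ ξ ⤳ x := U.ι.isOpenEmbedding.isInducing.specializes_iff
  by_cases h : U.ι ξ ⤳ U.ι x ∧ δ (U.ι x) + 1 = δ (U.ι ξ)
  swap
  · simp only [Cyc.divFun]
    rw [dif_neg h, dif_neg]
    exact fun hh => h ⟨hiff.mpr hh.1, hh.2⟩
  have h' : ξ ⤳ x := hiff.mp h.1
  simp only [Cyc.divFun]
  rw [dif_pos h, dif_pos ⟨h', h.2⟩]
  simp only [Cyc.ordAt]
  let eS := (asIso (U.ι.stalkMap x)).commRingCatIsoToRingEquiv
  let φ := (asIso (U.ι.residueFieldMap ξ)).commRingCatIsoToRingEquiv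
  have hsq : ∀ r, φ (Cyc.specMap (U.ι x) (U.ι ξ) h.1 r) = Cyc.specMap x ξ h' (eS r) := fun r => by
    show U.ι.residueFieldMap ξ (X.residue (U.ι ξ) (X.presheaf.stalkSpecializes h.1 r)) =
      (U : Scheme.{u}).residue ξ ((U : Scheme.{u}).presheaf.stalkSpecializes h' (U.ι.stalkMap x r))
    refine (ConcreteCategory.congr_hom (Scheme.residue_residueFieldMap U.ι ξ) _).trans ?_
    exact congrArg ((U : Scheme.{u}).residue ξ).hom (U.ι.stalkSpecializes_stalkMap_apply ξ x h' r)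
  have hgen := ordFrac_quot_congr (Cyc.specMap (U.ι x) (U.ι ξ) h.1) (Cyc.specMap x ξ h') eS φ hsq f'
  have hφ : φ f' = f := hff
  rw [hφ] at hgen
  exact hgen

end open_subscheme

section sums

variable {δ : X → ℤ} {ι : Type u} {ξ : ι → X} {f : (i : ι) → X.residueField (ξ i)}

theorem mem_of_divFun_ne_zero {U : Set X} (hU : IsOpen U) {x : X} (hx : x ∈ U) {i : ι}
    (h : Cyc.divFun δ (ξ i) (f i) x ≠ 0) : ξ i ∈ U := by
  by_contra hne
  refine h ?_
  rw [Cyc.divFun, dif_neg]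
  exact fun hh => hne (hh.1.mem_open hU hx)

theorem finite_setOf_divFun_ne_zero
    (hlf : ∀ x : X, ∃ U : Set X, IsOpen U ∧ x ∈ U ∧ {i | (closure {ξ i} ∩ U).Nonempty}.Finite) (x : X) :
    (Function.support fun i => Cyc.divFun δ (ξ i) (f i) x).Finite := by
  obtain ⟨U, hU, hxU, hfin⟩ := hlf x
  exact hfin.subset fun i hi => ⟨ξ i, subset_closure rfl, mem_of_divFun_ne_zero hU hxU hi⟩

theorem exists_cycle_sum [IsLocallyNoetherian X] (hδ : Cyc.IsDimFun X δ) (hf : ∀ i, f i ≠ 0)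
    (hlf : ∀ x : X, ∃ U : Set X, IsOpen U ∧ x ∈ U ∧ {i | (closure {ξ i} ∩ U).Nonempty}.Finite) :
    ∃ c : AlgebraicCycle X ℤ, ∀ x, c x = ∑ᶠ i, Cyc.divFun δ (ξ i) (f i) x := by
  refine ⟨⟨fun x => ∑ᶠ i, Cyc.divFun δ (ξ i) (f i) x, by simp, fun x _ => ?_⟩, fun x => rfl⟩
  obtain ⟨U, hU, hxU, hfin⟩ := hlf x
  obtain ⟨W, hW, hxW, hWU⟩ := exists_isAffineOpen_mem_and_subset (show x ∈ (⟨U, hU⟩ : X.Opens) from hxU)
  refine ⟨W, W.2.mem_nhds hxW,
    (hfin.biUnion fun i _ => finite_divFun_inter hδ (ξ i) (hf i) hW).subset ?_⟩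
  rintro y ⟨hyW, hy⟩
  obtain ⟨i, hi⟩ := exists_ne_zero_of_finsum_mem_ne_zero (s := (Set.univ : Set ι)) (f := fun i => Cyc.divFun δ (ξ i) (f i) y) (by rwa [finsum_mem_univ]) |>.imp fun i h => h.2
  exact Set.mem_biUnion (⟨ξ i, subset_closure rfl, mem_of_divFun_ne_zero hU (hWU hyW) hi⟩ :
    (closure {ξ i} ∩ U).Nonempty) ⟨hyW, hi⟩

theorem eq_zero_of_delta_ne {k : ℤ} (hk : ∀ i, δ (ξ i) = k + 1) (i : ι) {x : X} (hx : δ x ≠ k) :
    Cyc.divFun δ (ξ i) (f i) x = 0 := by
  rw [Cyc.divFun, dif_neg]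
  rintro ⟨-, h⟩
  rw [hk i] at h
  omega

end sums

theorem locFinFamily_ι [IsLocallyNoetherian X] (U : X.Opens) {ι : Type u} (ξ : ι → (U : Scheme.{u}))
    (hlf : ∀ x : (U : Scheme.{u}), ∃ V : Set (U : Scheme.{u}), IsOpen V ∧ x ∈ V ∧
      {i | (closure {ξ i} ∩ V).Nonempty}.Finite) (x : X) :
    ∃ V : Set X, IsOpen V ∧ x ∈ V ∧ {i | (closure {U.ι (ξ i)} ∩ V).Nonempty}.Finite := by
  obtain ⟨W, hW, hxW, -⟩ := exists_isAffineOpen_mem_and_subset (show x ∈ (⊤ : X.Opens) from trivial)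
  haveI : NoetherianSpace ↥W := noetherianSpace_affine hW
  refine ⟨W, W.2, hxW, ?_⟩
  choose V hV hmem hfin using hlf
  have hpre : IsCompact (U.ι ⁻¹' (W : Set X)) := by
    rw [U.ι.isOpenEmbedding.isInducing.isCompact_iff, Set.image_preimage_eq_inter_range]
    have h : IsCompact (Subtype.val '' ((Subtype.val : ↥W → X) ⁻¹' Set.range U.ι)) :=
      (NoetherianSpace.isCompact _).image continuous_subtype_val
    rw [Set.image_preimage_eq_inter_range] at h
    convert h using 1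
    rw [Set.inter_comm]
    exact congrArg (Set.range U.ι ∩ ·) Subtype.range_coe.symm
  obtain ⟨t, ht⟩ := hpre.elim_finite_subcover V hV fun u _ => Set.mem_iUnion.mpr ⟨u, hmem u⟩
  refine (t.finite_toSet.biUnion fun u _ => hfin u).subset ?_
  rintro i ⟨z, hz, hzW⟩
  have hmem' : ξ i ∈ U.ι ⁻¹' (W : Set X) := (specializes_iff_mem_closure.mpr hz).mem_open W.2 hzW
  obtain ⟨u, hu, hiu⟩ := Set.mem_iUnion₂.mp (ht hmem')
  exact Set.mem_biUnion hu (⟨ξ i, subset_closure rfl, hiu⟩ : (closure {ξ i} ∩ V u).Nonempty)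

theorem exists_lift_residueField (U : X.Opens) (ξ : (U : Scheme.{u})) {f : (U : Scheme.{u}).residueField ξ}
    (hf : f ≠ 0) : ∃ f' : X.residueField (U.ι ξ), f' ≠ 0 ∧ U.ι.residueFieldMap ξ f' = f := by
  obtain ⟨f', rfl⟩ := (ConcreteCategory.bijective_of_isIso (U.ι.residueFieldMap ξ)).2 f
  exact ⟨f', fun h => hf (by rw [h, map_zero]), rfl⟩

end Groth.Agent.H22Alg.CycDiv
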