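import Groth.Agent.H22Alg.GenCurves
import Groth.Agent.H29RR.Degree
import Groth.Agent.H29RR.Sections
import Groth.Agent.H29RR.Pencil
import Groth.Agent.H25Euler.Lead
import Groth.Agent.H25Par.StalkProd
import Groth.Agent.H25Par.FibKer
import Groth.Agent.H10Coh.AmpleDevissage

/-! # Invertible modules of positive degree on a complete curve are ample. -/

set_option autoImplicit false
set_option linter.style.haveILetI false

universe u

open CategoryTheory CategoryTheory.Limits AlgebraicGeometry TopologicalSpace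

noncomputable section

namespace Groth.Agent.H22Alg.CurveAmple

open H11Ample H11Tilde

section any

variable {X : Scheme.{u}}

/-- A global section whose germ maps onto a nonzero quotient stalk generates. -/
theorem exists_gen_of_germs {M Q : X.Modules} (hM : PicF.IsInvertible M) (π : M ⟶ Q) [Epi π] {x : X}
    (hx : x ∈ CohB1.support Q)
    (h : ∀ q : Q.presheaf.stalk x, ∃ w : Γ(M, ⊤), Q.presheaf.germ ⊤ x trivial (π.app ⊤ w) = q) :
    ∃ w : Γ(M, ⊤), x ∈ gen M w := by
  let R := X.presheaf.stalk x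
  let T := DerSch.stalkFunctor X x
  obtain ⟨V, e, hxV, he⟩ := exists_gen hM x
  let b : T.obj M := M.presheaf.germ V x hxV e
  have hb : Function.Bijective (fun r : R => r • b) := he x hxV
  obtain ⟨w, hw⟩ := h ((T.map π).hom b)
  let gw : T.obj M := M.presheaf.germ ⊤ x trivial w
  have hgw : (T.map π).hom gw = (T.map π).hom b := by
    refine Eq.trans ?_ hw
    exact TopCat.Presheaf.stalkFunctor_map_germ_apply (⊤ : X.Opens) x trivial π.mapPresheaf w
  obtain ⟨c, hc⟩ := hb.2 gw
  have hcu : IsUnit c := by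
    by_contra hn
    have h1 : IsUnit (1 - c) := IsLocalRing.isUnit_one_sub_self_of_mem_nonunits c hn
    have h2 : (T.map π).hom ((1 - c) • b) = 0 := by
      rw [sub_smul, one_smul, show c • b = gw from hc, map_sub, hgw, sub_self]
    rw [map_smul] at h2
    have h3 : (T.map π).hom b = 0 := (h1.smul_eq_zero).1 h2
    refine hx (subsingleton_of_forall_eq 0 fun q => ?_)
    haveI : Epi (T.map π) := inferInstance
    obtain ⟨z, rfl⟩ := (ModuleCat.epi_iff_surjective (T.map π)).1 inferInstance q
    obtain ⟨r, rfl⟩ := hb.2 z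
    show (T.map π).hom (r • b) = 0
    rw [map_smul, h3, smul_zero]
  refine ⟨w, (mem_gen_iff hM w x).2 ?_⟩
  obtain ⟨u, rfl⟩ := hcu
  have : (fun r : R => r • gw) = (fun r : R => r • b) ∘ fun r => r * (u : R) := by
    funext r
    show r • gw = (r * (u : R)) • b
    rw [mul_smul]
    exact congrArg (r • ·) hc.symm
  show Function.Bijective (fun r : R => r • gw)
  rw [this]
  exact hb.comp u.mulRight_bijective

theorem mem_gen_spow {M : X.Modules} {g : Γ(M, ⊤)} {x : X} (hx : x ∈ gen M g) (n : ℕ) :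
    x ∈ gen (CohB1.tensorPow M n) (spow g n) := by
  refine mem_gen_of_isGen ?_ hx
  rw [spow_res]
  exact isGen_spow (isGen_gen g) n

end any

variable {k : Type u} [Field k] {X : Scheme.{u}} [X.Over (Spec (CommRingCat.of k))]

theorem finrank_HH_congr {A B : X.Modules} (e : A ≅ B) (n : ℕ) :
    Module.finrank k (Coh.HH X A n) = Module.finrank k (Coh.HH X B n) := by
  refine LinearEquiv.finrank_eq (LinearEquiv.ofLinear (Canon.HHlin k e.hom n) (Canon.HHlin k e.inv n) ?_ ?_)
  · ext x
    show Canon.HHlin k e.hom n (Canon.HHlin k e.inv n x) = x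
    rw [← H29RR.hhlin_comp, e.inv_hom_id, H29RR.hhlin_id]
  · ext x
    show Canon.HHlin k e.inv n (Canon.HHlin k e.hom n x) = x
    rw [← H29RR.hhlin_comp, e.hom_inv_id, H29RR.hhlin_id]

variable [IsProper (X ↘ Spec (CommRingCat.of k))] [IsIntegral X]

theorem deg_tensorPow (hdim : topologicalKrullDim X ≤ 1) {L : X.Modules} (hL : PicF.IsInvertible L) :
    ∀ n : ℕ, Curv2.deg k X (CohB1.tensorPow L n) 1 = n * Curv2.deg k X L 1
  | 0 => by
    show Curv2.deg k X (Coh.structureModule X) 1 = _
    rw [H29RR.deg_structureModule, Nat.cast_zero, zero_mul]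
  | n + 1 => by
    show Curv2.deg k X (CohB1.tensorMod (CohB1.tensorPow L n) L) 1 = _
    rw [H29RR.deg_tensor hdim (isInvertible_tensorPow hL n) hL, deg_tensorPow hdim hL n]
    push_cast
    ring

/-- Monotonicity of `h¹` and its consequence in case of equality. -/
theorem h1_step (hdim : topologicalKrullDim X ≤ 1) {S : ShortComplex X.Modules} (hS : S.ShortExact)
    (h₁ : Coh.IsCoh S.X₁) (h₂ : Coh.IsCoh S.X₂) (h₃ : Coh.IsCoh S.X₃)
    (hfin : (CohB1.support S.X₃).Finite) (hcl : ∀ z ∈ CohB1.support S.X₃, IsClosed ({z} : Set X)) :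
    Module.finrank k (Coh.HH X S.X₂ 1) ≤ Module.finrank k (Coh.HH X S.X₁ 1) ∧
    (Module.finrank k (Coh.HH X S.X₂ 1) = Module.finrank k (Coh.HH X S.X₁ 1) →
      Function.Surjective (Canon.HHlin k S.g 0)) := by
  haveI := H29RR.isNoetherian_of_proper (k := k) (X := X)
  haveI := H10Coh.finite_HH_proper k X _ h₁ 0
  haveI := H10Coh.finite_HH_proper k X _ h₂ 0
  haveI := H10Coh.finite_HH_proper k X _ h₃ 0
  have hadd := H25Euler.euler_add (k := k) hS h₁ h₂ h₃
  rw [H29RR.euler_eq_sub (k := k) hdim, H29RR.euler_eq_sub (k := k) hdim, H29RR.euler_eq_sub (k := k) hdim] at hadd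
  haveI : Subsingleton (Coh.HH X S.X₃ 1) :=
    H25Par.subsingleton_HH_of_finite_support _ hfin hcl (fun y hy => not_not.1 hy) one_pos
  rw [Module.finrank_zero_of_subsingleton (R := k) (M := Coh.HH X S.X₃ 1)] at hadd
  have a1 := LinearMap.finrank_range_add_finrank_ker (Canon.HHlin k S.g 0)
  have a2 : Module.finrank k (LinearMap.ker (Canon.HHlin k S.g 0)) ≤ Module.finrank k (Coh.HH X S.X₁ 0) := by
    rw [H25Par.hhlin_exact (k := k) hS]
    exact LinearMap.finrank_range_le _
  have a3 := Submodule.finrank_le (LinearMap.range (Canon.HHlin k S.g 0))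
  refine ⟨by omega, fun h => ?_⟩
  rw [← LinearMap.range_eq_top]
  exact Submodule.eq_top_of_finrank_eq (by omega)

/-- Some positive power of a module of positive degree is generated by global sections. -/
theorem exists_gen_pow (hdim : topologicalKrullDim X ≤ 1) {L : X.Modules} (hL : PicF.IsInvertible L)
    (hdeg : 0 < Curv2.deg k X L 1) :
    ∃ (B : X.Modules), PicF.IsInvertible B ∧ 0 < Curv2.deg k X B 1 ∧
      (∀ x : X, ∃ w : Γ(B, ⊤), x ∈ gen B w) ∧ (CohB1.IsAmple B → CohB1.IsAmple L) := by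
  haveI := H29RR.isNoetherian_of_proper (k := k) (X := X)
  -- a power with a nonzero section
  let a := (Curv2.euler k X (Coh.structureModule X)).natAbs + 1
  let M := CohB1.tensorPow L a
  have hM : PicF.IsInvertible M := isInvertible_tensorPow hL a
  have hMd : 0 < Curv2.deg k X M 1 := by
    rw [deg_tensorPow hdim hL]; exact mul_pos (by positivity) hdeg
  have hnt : Nontrivial (Coh.HH X M 0) := by
    haveI := H29RR.finite_HH (k := k) M hM 0
    refine Module.nontrivial_of_finrank_pos (R := k) ?_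
    have h1 := H29RR.euler_eq_sub (k := k) hdim M
    have h2 : Curv2.deg k X M 1 = a * Curv2.deg k X L 1 := deg_tensorPow hdim hL a
    rw [H29RR.deg_def] at h2
    have h3 : (a : ℤ) ≤ a * Curv2.deg k X L 1 := le_mul_of_one_le_right (by positivity) hdeg
    omega
  obtain ⟨g, hg⟩ := H29RR.exists_global_ne_zero M hnt
  obtain ⟨hmono, hη⟩ := H29RR.mono_homOfGlobal hM hg
  let s := homOfGlobal M g
  haveI : Mono s := hmono
  have hMc : Coh.IsCoh M := isCoh_of_isInvertible hM
  obtain ⟨hQ, hfin, hcl, -⟩ := H29RR.euler_sub_of_mono (k := k) hdim (H10Coh.isCoh_structureModule' X) hMc s hη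
  have hS₀ : (ShortComplex.mk s (cokernel.π s) (cokernel.condition s)).ShortExact :=
    { exact := ShortComplex.exact_cokernel _ }
  let A : ℕ → X.Modules := fun j => CohB1.tensorPow M j
  have hA : ∀ j, PicF.IsInvertible (A j) := fun j => isInvertible_tensorPow hM j
  let f : ℕ → ℕ := fun j => Module.finrank k (Coh.HH X (A j) 1)
  let e : ∀ j, CohB1.tensorMod M (A j) ≅ A (j + 1) := fun j => H10Coh.Tw.commIso M (A j)
  have hsupp : ∀ j, CohB1.support (CohB1.tensorMod (cokernel s) (A j)) = CohB1.support (cokernel s) :=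
    fun j => H25Euler.support_tensor_invertible hQ (hA j)
  have hstep := fun j => h1_step (k := k) hdim (H10Coh.Tw.shortExact_seq hS₀ (hA j))
    (isCoh_tensor (H10Coh.isCoh_structureModule' X) (hA j)) (isCoh_tensor hMc (hA j)) (isCoh_tensor hQ (hA j))
    (show (CohB1.support (CohB1.tensorMod (cokernel s) (A j))).Finite from (hsupp j).symm ▸ hfin)
    (show ∀ z ∈ CohB1.support (CohB1.tensorMod (cokernel s) (A j)), IsClosed ({z} : Set X) from
      (hsupp j).symm ▸ hcl)
  have hf1 : ∀ j, Module.finrank k (Coh.HH X (CohB1.tensorMod M (A j)) 1) = f (j + 1) :=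
    fun j => finrank_HH_congr (e j) 1
  have hf0 : ∀ j, Module.finrank k (Coh.HH X (CohB1.tensorMod (Coh.structureModule X) (A j)) 1) = f j :=
    fun j => finrank_HH_congr (H10Coh.Tw.leftUnitIso (A j)) 1
  obtain ⟨j, hj⟩ : ∃ j, ∀ i, f j ≤ f i :=
    ⟨Function.argmin f, fun i => not_lt.1 (Function.not_lt_argmin f i)⟩
  have hle : f (j + 1) ≤ f j := by
    have := (hstep j).1
    change Module.finrank k (Coh.HH X (CohB1.tensorMod M (A j)) 1) ≤
      Module.finrank k (Coh.HH X (CohB1.tensorMod (Coh.structureModule X) (A j)) 1) at this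
    rw [hf1, hf0] at this
    exact this
  have hsurj := (hstep j).2 (by
    show Module.finrank k (Coh.HH X (CohB1.tensorMod M (A j)) 1) =
      Module.finrank k (Coh.HH X (CohB1.tensorMod (Coh.structureModule X) (A j)) 1)
    rw [hf1, hf0]
    exact le_antisymm hle (hj _))
  refine ⟨A (j + 1), hA _, ?_, fun x => ?_, fun h => ?_⟩
  · rw [deg_tensorPow hdim hM]; exact mul_pos (by positivity) hMd
  · by_cases hx : x ∈ CohB1.support (cokernel s)
    swap
    · exact ⟨spow g (j + 1), mem_gen_spow (H25Euler.mem_gen_of_notMem_support_coker hM g hx) _⟩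
    let π : CohB1.tensorMod M (A j) ⟶ CohB1.tensorMod (cokernel s) (A j) :=
      LimSh.tensorModMap (cokernel.π s) (A j)
    haveI : Epi π := H10Coh.Tw.epi_map (cokernel.π s) (hA j)
    obtain ⟨w, hw⟩ := exists_gen_of_germs (isInvertible_tensor hM (hA j)) (x := x) π
      (show x ∈ CohB1.support (CohB1.tensorMod (cokernel s) (A j)) from (hsupp j).symm ▸ hx) (fun q => by
      classical
      let Q' := CohB1.tensorMod (cokernel s) (A j)
      obtain ⟨q₀, hq₀⟩ := (H25Par.germs_bijective (k := k) Q' (S := CohB1.support (cokernel s)) hfin hcl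
        (fun y hy => not_not.1 fun h => hy ((hsupp j).le h))).2 (Function.update 0 ⟨x, hx⟩ q)
      obtain ⟨w₀, hw₀⟩ := hsurj q₀
      refine ⟨H10Coh.H0Equiv _ _ (H10Coh.HHEquiv _ 0 w₀), ?_⟩
      have h1 := congrFun hq₀ ⟨x, hx⟩
      rw [Function.update_self] at h1
      refine Eq.trans ?_ h1
      rw [← hw₀]
      refine congrArg (TopCat.Presheaf.germ Q'.presheaf ⊤ x trivial).hom ?_
      exact (H10Coh.H0Equiv_map ((H10Coh.shF X).map π) (H10Coh.HHEquiv _ 0 w₀)).symm.trans
        (congrArg (H10Coh.H0Equiv _ _) (H10Coh.topEquiv_map ((H10Coh.shF X).map π) 0 w₀).symm))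
    exact ⟨(e j).hom.app ⊤ w, (gen_iso (e j).hom w).symm ▸ hw⟩
  · exact (isAmple_tensorPow_iff hL a (Nat.succ_pos _)).2 ((isAmple_tensorPow_iff hM (j + 1) j.succ_pos).2 h)

/-- Positive degree implies ampleness. -/
theorem isAmple_of_deg_pos (hdim : topologicalKrullDim X = 1) {L : X.Modules} (hL : PicF.IsInvertible L)
    (hdeg : 0 < Curv2.deg k X L 1) : CohB1.IsAmple L := by
  haveI := H29RR.isNoetherian_of_proper (k := k) (X := X)
  obtain ⟨B, hB, hBd, hgen, himp⟩ := exists_gen_pow (k := k) hdim.le hL hdeg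
  refine himp ?_
  choose w hw using hgen
  obtain ⟨s, hs⟩ := isCompact_univ.elim_finite_subcover (fun x : X => (gen B (w x) : Set X))
    (fun x => (gen B (w x)).2) (fun x _ => Set.mem_iUnion.2 ⟨x, hw x⟩)
  let x₀ := genericPoint X
  let l := x₀ :: s.toList
  obtain ⟨n, v, hv⟩ : ∃ (n : ℕ) (v : Fin (n + 1) → Γ(B, ⊤)), ∀ x, ∃ i, x ∈ gen B (v i) := by
    refine ⟨s.toList.length, fun i => w (l.get i), fun x => ?_⟩
    obtain ⟨y, hy, hxy⟩ := Set.mem_iUnion₂.1 (hs (Set.mem_univ x))
    obtain ⟨i, hi⟩ := List.get_of_mem (l := l) (a := y) (List.mem_cons_of_mem _ (Finset.mem_toList.2 hy))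
    exact ⟨i, by show x ∈ gen B (w (l.get i)); rw [hi]; exact hxy⟩
  haveI : IsProper (CohB1.ProjSpace n k ↘ Spec (CommRingCat.of k)) :=
    inferInstanceAs (IsProper (CohB1.ProjSpace.toSpec n k))
  obtain ⟨r, hr, ⟨τ⟩, -⟩ := exists_toPn (X ↘ (Spec (CommRingCat.of k))) hB v hv
  rcases H28Int.Curves.finite_or_const k hdim r hr with hfin | ⟨p, -, hp⟩
  · haveI := hfin
    exact isAmple_of_iso τ (isAmple_pullback_of_isAffineHom r (isAmple_twistProjSpace n k))
  · exfalso
    have h0 := H28Int.Curves.D_pullback_const k r hp (isInvertible_twist (n := n) (R := k))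
    change Curv2.euler k X _ - Curv2.euler k X _ = 0 at h0
    rw [H25Euler.euler_congr (PicGrp.tensorModIso τ (Iso.refl _) ≪≫ H10Coh.Tw.rightUnitIso B)] at h0
    rw [H29RR.deg_def] at hBd
    omega

end Groth.Agent.H22Alg.CurveAmple

namespace Groth.Agent.H22Alg.CurveAmple

variable {k : Type u} [Field k] {X : Scheme.{u}} [X.Over (Spec (CommRingCat.of k))]
  [IsProper (X ↘ Spec (CommRingCat.of k))] [IsIntegral X]

/-- An ample module on a complete curve has positive degree. -/
theorem deg_pos_of_ample (hdim : topologicalKrullDim X = 1) {L : X.Modules} (hamp : CohB1.IsAmple L) :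
    0 < Curv2.deg k X L 1 := by
  haveI := H28Int.isNoetherian k (X := X)
  have hLi := hamp.1
  obtain ⟨M, hM, ⟨φ⟩⟩ := H11Sym.exists_inverse hLi
  let O := Coh.structureModule X
  have hO : Coh.IsCoh O := H11Ample.isCoh_of_isInvertible (H28Int.isInvertible_structureModule X)
  have hd : topologicalKrullDim (CohB1.support O) ≤ ((1 : ℕ) : WithBot ℕ∞) :=
    (Topology.IsInducing.subtypeVal.topologicalKrullDim_le).trans hdim.le
  have hnil : ∀ B ∈ ([] : List X.Modules), PicF.IsInvertible B := by simp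
  have hc : ∀ {B B' : X.Modules}, (B ≅ B') → H28Int.D k [B] O = H28Int.D k [B'] O := fun {B B'} ψ => by
    show Curv2.euler k X _ - Curv2.euler k X _ = Curv2.euler k X _ - Curv2.euler k X _
    rw [H25Euler.euler_congr (PicGrp.tensorModIso ψ (Iso.refl O))]
  have hsum := H28Int.D_cons_tensor k hnil hLi hM hO (A := L) (B := M) (F := O) (by simpa using hd)
  rw [hc (H10Coh.Tw.commIso L M ≪≫ φ), H28Int.D_cons_structure k hnil] at hsum
  have hpos := (H28Int.pos_of_ample k [M] (fun B hB => ⟨L, hamp, by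
    obtain rfl := List.mem_singleton.1 hB
    exact ⟨H10Coh.Tw.commIso L _ ≪≫ φ⟩⟩) O hO (by simpa using hd)).2
      ⟨genericPoint X, H25Euler.mem_support_structure _, by
        rw [H22Alg.VarDim.cdim_genericPoint X, hdim]; simp⟩
  have hD : H28Int.D k [L] O = - Curv2.deg k X L 1 := by
    show Curv2.euler k X _ - Curv2.euler k X _ = _
    rw [H25Euler.euler_congr (H10Coh.Tw.rightUnitIso L), H29RR.deg_def]
    simp only [O]
    omega
  omega

end Groth.Agent.H22Alg.CurveAmple
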