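import Mathlib.RingTheory.Length
import Mathlib.RingTheory.KrullDimension.Module
import Mathlib.RingTheory.Artinian.Ring
import Mathlib.RingTheory.HopkinsLevitzki
import Mathlib.RingTheory.Ideal.Quotient.Noetherian
import Mathlib.RingTheory.Localization.Finiteness
import Mathlib.RingTheory.Spectrum.Prime.RingHom
import Mathlib.Algebra.Module.LocalizedModule.IsLocalization

/-!
Finite length criteria for finite modules over Noetherian rings.
-/

universe u v

namespace Groth.Agent.H22Alg

variable {R : Type u} [CommRing R] {M : Type v} [AddCommGroup M] [Module R M]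

theorem length_ne_top_of_support_maximal [IsNoetherianRing R] [Module.Finite R M]
    (h : ∀ p ∈ Module.support R M, p.asIdeal.IsMaximal) : Module.length R M ≠ ⊤ := by
  set I := Module.annihilator R M
  have : IsArtinianRing (R ⧸ I) := by
    rw [isArtinianRing_iff_krullDimLE_zero]
    refine Ring.krullDimLE_zero_iff.mpr fun P hP => ?_
    have hmem : (⟨P.comap (Ideal.Quotient.mk I), inferInstance⟩ : PrimeSpectrum R) ∈ Module.support R M := by
      rw [Module.support_eq_zeroLocus, PrimeSpectrum.mem_zeroLocus]
      intro z hz
      show Ideal.Quotient.mk I z ∈ P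
      rw [Ideal.Quotient.eq_zero_iff_mem.mpr hz]; exact P.zero_mem
    rw [← Ideal.map_comap_of_surjective _ Ideal.Quotient.mk_surjective P]
    exact (Ideal.map_eq_top_or_isMaximal_of_surjective _ Ideal.Quotient.mk_surjective (h _ hmem)).resolve_left
      (by rw [Ideal.map_comap_of_surjective _ Ideal.Quotient.mk_surjective]; exact hP.ne_top)
  let : Module (R ⧸ I) M := Module.IsTorsionBySet.module (fun m a => Module.mem_annihilator.mp a.2 m)
  have : IsScalarTower R (R ⧸ I) M := ⟨fun r x m => by
    obtain ⟨x, rfl⟩ := Ideal.Quotient.mk_surjective x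
    exact mul_smul r x m⟩
  have : Module.Finite (R ⧸ I) M := Module.Finite.of_restrictScalars_finite R _ _
  rw [Module.length_eq_of_surjective (R := R ⧸ I) Ideal.Quotient.mk_surjective]
  exact Module.length_ne_top

theorem isMaximal_of_mem_support_of_supportDim_le_zero (h : Module.supportDim R M ≤ 0)
    (p : PrimeSpectrum R) (hp : p ∈ Module.support R M) : p.asIdeal.IsMaximal := by
  obtain ⟨m, hm, hle⟩ := p.asIdeal.exists_le_maximal p.isPrime.ne_top
  rcases eq_or_lt_of_le hle with e | hlt
  · exact e ▸ hm
  · exfalso
    have hm' : (⟨m, hm.isPrime⟩ : PrimeSpectrum R) ∈ Module.support R M :=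
      Module.mem_support_mono hle hp
    have : (1 : WithBot ℕ∞) ≤ Module.supportDim R M := by
      refine le_trans ?_ (Order.LTSeries.length_le_krullDim
        (RelSeries.fromListIsChain [(⟨p, hp⟩ : Module.support R M), ⟨_, hm'⟩] (by simp)
          (List.isChain_pair.mpr hlt)))
      simp
    exact absurd (this.trans h) (by simp)

theorem length_ne_top_of_supportDim_le_zero [IsNoetherianRing R] [Module.Finite R M]
    (h : Module.supportDim R M ≤ 0) : Module.length R M ≠ ⊤ :=
  length_ne_top_of_support_maximal (isMaximal_of_mem_support_of_supportDim_le_zero h)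

theorem length_localized_ne_top [IsNoetherianRing R] [Module.Finite R M] (p : PrimeSpectrum R)
    (hmin : ∀ q ∈ Module.support R M, q ≤ p → q = p) :
    Module.length (Localization.AtPrime p.asIdeal) (LocalizedModule p.asIdeal.primeCompl M) ≠ ⊤ := by
  refine length_ne_top_of_support_maximal fun Q hQ => ?_
  have hQ' : PrimeSpectrum.comap (algebraMap R (Localization.AtPrime p.asIdeal)) Q ∈ Module.support R M := by
    obtain ⟨n, hn⟩ := Module.mem_support_iff'.mp hQ
    induction n using LocalizedModule.induction_on with
    | _ m s =>
      refine Module.mem_support_iff'.mpr ⟨m, fun r hr h0 => hn (algebraMap R _ r) hr ?_⟩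
      rw [algebraMap_smul, LocalizedModule.smul'_mk, h0, LocalizedModule.zero_mk]
  have hle : PrimeSpectrum.comap (algebraMap R (Localization.AtPrime p.asIdeal)) Q ≤ p :=
    (IsLocalization.AtPrime.primeSpectrumOrderIso (Localization.AtPrime p.asIdeal) p.asIdeal Q).2
  have heq := hmin _ hQ' hle
  have : Q = ⟨IsLocalRing.maximalIdeal (Localization.AtPrime p.asIdeal), inferInstance⟩ := by
    apply PrimeSpectrum.localization_comap_injective (Localization.AtPrime p.asIdeal) p.asIdeal.primeCompl
    rw [heq]
    exact PrimeSpectrum.ext Localization.AtPrime.under_maximalIdeal.symm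
  rw [this]
  exact IsLocalRing.maximalIdeal.isMaximal _

/-- An injective endomorphism of a finite module of dimension at most one has finite length cokernel. -/
theorem length_quotient_range_ne_top [IsNoetherianRing R] [IsLocalRing R] [Module.Finite R M]
    (hdim : Module.supportDim R M ≤ 1) (φ : M →ₗ[R] M) (hφ : Function.Injective φ) :
    Module.length R (M ⧸ LinearMap.range φ) ≠ ⊤ := by
  refine length_ne_top_of_support_maximal fun p hp => ?_
  by_contra hmax
  have hpM : p ∈ Module.support R M :=
    Module.support_subset_of_surjective _ (Submodule.mkQ_surjective _) hp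
  let mm : PrimeSpectrum R := ⟨IsLocalRing.maximalIdeal R, inferInstance⟩
  have hlt : p < mm := lt_of_le_of_ne (IsLocalRing.le_maximalIdeal p.isPrime.ne_top)
    fun e => hmax (e ▸ IsLocalRing.maximalIdeal.isMaximal R)
  have hmin : ∀ q ∈ Module.support R M, q ≤ p → q = p := by
    intro q hq hqp
    by_contra hne
    have h2 : (2 : WithBot ℕ∞) ≤ Module.supportDim R M := by
      refine le_trans ?_ (Order.LTSeries.length_le_krullDim
        (RelSeries.fromListIsChain [(⟨q, hq⟩ : Module.support R M), ⟨p, hpM⟩,
          ⟨mm, Module.mem_support_mono hlt.le hpM⟩] (by simp)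
          (.cons_cons (show q < p from lt_of_le_of_ne hqp hne)
            (List.isChain_pair.mpr hlt))))
      simp
    exact absurd (h2.trans hdim) (by simp)
  have hfl := Module.length_ne_top_iff.mp (length_localized_ne_top (M := M) p hmin)
  have := (isFiniteLength_iff_isNoetherian_isArtinian.mp hfl).2
  let S := p.asIdeal.primeCompl
  let φp := (IsLocalizedModule.map S (LocalizedModule.mkLinearMap S M)
    (LocalizedModule.mkLinearMap S M) φ).extendScalarsOfIsLocalization S (Localization S)
  have hsurj : Function.Surjective φp :=
    IsArtinian.surjective_of_injective_endomorphism φp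
      (IsLocalizedModule.map_injective S (LocalizedModule.mkLinearMap S M) (LocalizedModule.mkLinearMap S M) φ hφ)
  obtain ⟨y, hy⟩ := Module.mem_support_iff'.mp hp
  obtain ⟨m, rfl⟩ := Submodule.Quotient.mk_surjective _ y
  obtain ⟨z, hz⟩ := hsurj (LocalizedModule.mkLinearMap S M m)
  induction z using LocalizedModule.induction_on with
  | _ w s =>
    have hz' : LocalizedModule.mk (φ w) s = LocalizedModule.mk m 1 := by
      have := IsLocalizedModule.map_mk' S (LocalizedModule.mkLinearMap S M)
        (LocalizedModule.mkLinearMap S M) φ w s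
      rw [← IsLocalizedModule.mk_eq_mk', ← IsLocalizedModule.mk_eq_mk'] at this
      exact this.symm.trans hz
    obtain ⟨t, ht⟩ := LocalizedModule.mk_eq.mp hz'
    refine hy (t * s : S) (t * s : S).2 ?_
    rw [← Submodule.Quotient.mk_smul, Submodule.Quotient.mk_eq_zero]
    refine ⟨(t : R) • w, ?_⟩
    rw [map_smul, Submonoid.coe_mul, mul_smul]
    simpa [Submonoid.smul_def] using ht

end Groth.Agent.H22Alg
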