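import Mathlib
import Groth.Agent.H29Fitt.Sheaf
import Groth.Agent.H22Alg.FiniteLength
import Groth.Prelude.Def_Coh

/-! Generic points of the support of a coherent module. -/

set_option autoImplicit false
set_option linter.style.haveILetI false
universe u
open CategoryTheory AlgebraicGeometry TopologicalSpace

namespace Groth.Agent.H22Alg.CohSupport

variable {X : Scheme.{u}} (F : X.Modules)

theorem nontrivial_stalk_iff (hF : Coh.IsQCoh F) {U : X.Opens} (hU : IsAffineOpen U) (x : U) :
    Nontrivial (F.presheaf.stalk x.1) ↔ hU.primeIdealOf x ∈ Module.support Γ(X, U) Γ(F, U) := by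
  letI := TopCat.Presheaf.algebra_section_stalk X.presheaf x
  letI := Module.compHom (F.presheaf.stalk x.1) (algebraMap Γ(X, U) (X.presheaf.stalk x.1))
  haveI := Groth.Agent.H29Fitt.isLocalizedModule_germLin F hF hU x
  rw [Module.mem_support_iff]
  exact (IsLocalizedModule.iso (hU.primeIdealOf x).asIdeal.primeCompl (Groth.Agent.H29Fitt.germLin F x)).toEquiv.nontrivial_congr.symm

theorem finite_irreducibleComponents_meeting [IsLocallyNoetherian X] (S : Set X) (x : X) :
    ∃ t ∈ nhds x, {Z : irreducibleComponents ↥S | (((↑) '' (Z : Set ↥S) : Set X) ∩ t).Nonempty}.Finite := by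
  obtain ⟨U, hU, hxU, -⟩ := exists_isAffineOpen_mem_and_subset (X := X) (x := x) (U := ⊤) trivial
  haveI : IsNoetherianRing Γ(X, U) := IsLocallyNoetherian.component_noetherian ⟨U, hU⟩
  haveI : NoetherianSpace ((U : Set X) : Type u) := noetherianSpace_of_isAffineOpen U hU
  refine ⟨U, U.isOpen.mem_nhds hxU, ?_⟩
  let O : Set ↥S := Subtype.val ⁻¹' (U : Set X)
  have hO : IsOpen O := U.isOpen.preimage continuous_subtype_val
  let j : ↥O → ((U : Set X) : Type u) := fun a => ⟨a.1.1, a.2⟩
  have hj : Topology.IsInducing j := by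
    refine (Topology.IsInducing.of_comp_iff (g := (Subtype.val : ((U : Set X) : Type u) → X)) Topology.IsInducing.subtypeVal).mp ?_
    exact (Topology.IsInducing.subtypeVal (t := S)).comp (Topology.IsInducing.subtypeVal (t := O))
  haveI : NoetherianSpace ↥O := hj.noetherianSpace
  refine Set.Finite.of_finite_image (f := fun Z => (Subtype.val : ↥O → ↥S) ⁻¹' Z.1)
    ((NoetherianSpace.finite_irreducibleComponents (α := ↥O)).subset ?_) ?_
  · rintro _ ⟨Z, ⟨_, ⟨a, ha, rfl⟩, haU⟩, rfl⟩
    exact preimage_mem_irreducibleComponents Z.2 hO.isOpenEmbedding_subtypeVal ⟨a, ha, ⟨a, haU⟩, rfl⟩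
  · have key : ∀ Z : irreducibleComponents ↥S, (((↑) '' (Z : Set ↥S) : Set X) ∩ (U : Set X)).Nonempty →
        Z.1 = closure (Z.1 ∩ O) := by
      rintro Z ⟨_, ⟨a, ha, rfl⟩, haU⟩
      exact (subset_closure_inter_of_isPreirreducible_of_isOpen Z.2.1.isPreirreducible hO ⟨a, ha, haU⟩).antisymm
        (closure_minimal Set.inter_subset_left (isClosed_of_mem_irreducibleComponents _ Z.2))
    intro Z hZ Z' hZ' e
    refine Subtype.ext ?_
    rw [key Z hZ, key Z' hZ', Set.inter_comm, ← Subtype.image_preimage_coe, show Subtype.val ⁻¹' Z.1 = Subtype.val ⁻¹' Z'.1 from e,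
      Subtype.image_preimage_coe, Set.inter_comm]

theorem length_stalk_lt_top [IsLocallyNoetherian X] (hF : Coh.IsCoh F) (ξ : X)
    (hmin : ∀ x : X, Nontrivial (F.presheaf.stalk x) → x ⤳ ξ → x = ξ) :
    Module.length (X.presheaf.stalk ξ) (F.presheaf.stalk ξ) < ⊤ := by
  obtain ⟨U, hU, hξU, -⟩ := exists_isAffineOpen_mem_and_subset (X := X) (x := ξ) (U := ⊤) trivial
  haveI : IsNoetherianRing Γ(X, U) := IsLocallyNoetherian.component_noetherian ⟨U, hU⟩
  let x : U := ⟨ξ, hξU⟩
  haveI : F.IsQuasicoherent := hF.1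
  haveI : Module.Finite Γ(X, U) Γ(F, U) := Groth.Agent.H10Coh.finite_sections F hF.2 hU
  letI := TopCat.Presheaf.algebra_section_stalk X.presheaf x
  letI := Module.compHom (F.presheaf.stalk x.1) (algebraMap Γ(X, U) (X.presheaf.stalk x.1))
  haveI : IsScalarTower Γ(X, U) (X.presheaf.stalk x.1) (F.presheaf.stalk x.1) :=
    IsScalarTower.of_algebraMap_smul fun _ _ => rfl
  haveI := Groth.Agent.H29Fitt.isLocalizedModule_germLin F hF.1 hU x
  haveI := hU.isLocalization_stalk x
  haveI : IsNoetherianRing (X.presheaf.stalk x.1) :=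
    IsLocalization.isNoetherianRing (hU.primeIdealOf x).asIdeal.primeCompl _ inferInstance
  haveI : Module.Finite (X.presheaf.stalk x.1) (F.presheaf.stalk x.1) :=
    Module.Finite.of_isLocalizedModule (hU.primeIdealOf x).asIdeal.primeCompl (Groth.Agent.H29Fitt.germLin F x)
  refine lt_top_iff_ne_top.mpr (Groth.Agent.H22Alg.length_ne_top_of_support_maximal fun Q hQ => ?_)
  let q : PrimeSpectrum Γ(X, U) := PrimeSpectrum.comap (algebraMap Γ(X, U) (X.presheaf.stalk x.1)) Q
  have hq : q ∈ Module.support Γ(X, U) Γ(F, U) := by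
    rw [Module.mem_support_iff_of_finite] at hQ ⊢
    intro a ha
    refine hQ (Module.mem_annihilator.mpr fun m => ?_)
    obtain ⟨⟨n, s⟩, hns⟩ := IsLocalizedModule.surj (hU.primeIdealOf x).asIdeal.primeCompl (Groth.Agent.H29Fitt.germLin F x) m
    have hu := IsLocalization.map_units (X.presheaf.stalk x.1) s
    refine hu.smul_left_cancel.mp ?_
    rw [smul_zero, smul_comm, algebraMap_smul, algebraMap_smul, ← Submonoid.smul_def, hns, ← map_smul,
      Module.mem_annihilator.mp ha, map_zero]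
  have hyU : hU.fromSpec q ∈ U := by
    rw [← SetLike.mem_coe, ← hU.range_fromSpec]
    exact ⟨q, rfl⟩
  have hpy : hU.primeIdealOf ⟨hU.fromSpec q, hyU⟩ = q :=
    hU.fromSpec.isOpenEmbedding.injective (hU.fromSpec_primeIdealOf _)
  have hy := (nontrivial_stalk_iff F hF.1 hU ⟨hU.fromSpec q, hyU⟩).mpr (hpy.symm ▸ hq)
  have hle : q ≤ hU.primeIdealOf x := by
    intro a ha
    by_contra hna
    exact Q.2.ne_top (Ideal.eq_top_of_isUnit_mem _ ha (IsLocalization.map_units (X.presheaf.stalk x.1) (⟨a, hna⟩ : (hU.primeIdealOf x).asIdeal.primeCompl)))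
  have hsp : hU.fromSpec q ⤳ ξ := by
    have := ((PrimeSpectrum.le_iff_specializes _ _).mp hle).map hU.fromSpec.continuous
    rwa [hU.fromSpec_primeIdealOf] at this
  have he : q = hU.primeIdealOf x := by
    rw [← hpy]
    exact congrArg hU.primeIdealOf (Subtype.ext (hmin _ hy hsp))
  haveI : IsLocalRing (X.presheaf.stalk x.1) := inferInstance
  obtain ⟨m, hm, hQm⟩ := Q.asIdeal.exists_le_maximal Q.2.ne_top
  have h1 : Q.asIdeal = (hU.primeIdealOf x).asIdeal.map (algebraMap Γ(X, U) (X.presheaf.stalk x.1)) := by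
    rw [← congrArg PrimeSpectrum.asIdeal he]
    exact (IsLocalization.map_comap (hU.primeIdealOf x).asIdeal.primeCompl _ Q.asIdeal).symm
  rw [h1, IsLocalization.AtPrime.map_eq_maximalIdeal]
  exact IsLocalRing.maximalIdeal.isMaximal _

end Groth.Agent.H22Alg.CohSupport
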