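import Groth.Agent.H28Int.Core
import Groth.Agent.H25K.CohRank
import Groth.Agent.H27KZero.Devissage
import Groth.Agent.H22Alg.CohSupport

/-!
An additive function vanishing in dimension `< d` is the sum over the `d`-dimensional components,
weighted by lengths.
-/

set_option autoImplicit false
set_option linter.style.haveILetI false
universe u

open CategoryTheory CategoryTheory.Limits AlgebraicGeometry TopologicalSpace
open scoped Classical

noncomputable section

namespace Groth.Agent.H22Alg.DevLength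

variable {X : Scheme.{u}}

/-- The closure of a point, as a closed set. -/
abbrev cl (ξ : X) : Closeds X := ⟨closure {ξ}, isClosed_closure⟩

/-- Length of the stalk. -/
abbrev len (M : X.Modules) (ξ : X) : ℕ∞ := Module.length (X.presheaf.stalk ξ) (M.presheaf.stalk ξ)

theorem len_eq_zero {M : X.Modules} {ξ : X} (h : ξ ∉ CohB1.support M) : len M ξ = 0 := by
  haveI : Subsingleton (M.presheaf.stalk ξ) := not_not.1 h
  exact Module.length_eq_zero

/-- Closures of proper specializations have smaller dimension. -/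
theorem dim_closure_lt {z y : X} (h : z ⤳ y) (hne : y ≠ z) {d : ℕ}
    (hd : topologicalKrullDim (closure ({z} : Set X)) ≤ (d : WithBot ℕ∞)) :
    topologicalKrullDim (closure ({y} : Set X)) < (d : WithBot ℕ∞) := by
  let Y := closure ({z} : Set X)
  haveI : QuasiSober Y := isClosed_closure.isClosedEmbedding_subtypeVal.quasiSober
  have hsub : closure ({y} : Set X) ⊆ Y :=
    closure_minimal (Set.singleton_subset_iff.2 (specializes_iff_mem_closure.1 h)) isClosed_closure
  have hlt : topologicalKrullDim Y < ((d + 1 : ℕ) : WithBot ℕ∞) :=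
    lt_of_le_of_lt hd (WithBot.coe_lt_coe.2 (ENat.natCast_lt_natCast.2 (Nat.lt_succ_self d)))
  have h1 := H25Euler.dim_lt_of_forall_ne (Y := Y) (Subtype.val ⁻¹' closure ({y} : Set X))
    (isClosed_closure.preimage continuous_subtype_val)
    (fun t _ => ⟨⟨z, subset_closure rfl⟩, (subtype_specializes_iff _ _).2 (specializes_iff_mem_closure.2 t.2),
      fun hm => hne (Specializes.antisymm (specializes_iff_mem_closure.2 hm) h).eq⟩) hlt
  let e : closure ({y} : Set X) ≃ₜ (Subtype.val ⁻¹' closure ({y} : Set X) : Set Y) :=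
    { toFun := fun x => ⟨⟨x.1, hsub x.2⟩, x.2⟩
      invFun := fun x => ⟨x.1.1, x.2⟩
      left_inv := fun _ => rfl
      right_inv := fun _ => rfl }
  rwa [e.isHomeomorph.topologicalKrullDim_eq]

theorem dim_closure_le {F : X.Modules} (hF : Coh.IsCoh F) {d : ℕ}
    (hd : topologicalKrullDim (CohB1.support F) ≤ d) {z : X} (hz : z ∈ CohB1.support F) :
    topologicalKrullDim (closure ({z} : Set X)) ≤ (d : WithBot ℕ∞) :=
  (H28Int.dim_le_of_subset (closure_minimal (Set.singleton_subset_iff.2 hz)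
    (H10Coh.isClosed_support F hF.2))).trans hd

/-- The `d`-dimensional points of the support are maximal in it. -/
theorem eq_of_specializes {F : X.Modules} (hF : Coh.IsCoh F) {d : ℕ}
    (hd : topologicalKrullDim (CohB1.support F) ≤ d) {x ξ : X} (hx : x ∈ CohB1.support F)
    (hξ : topologicalKrullDim (closure ({ξ} : Set X)) = (d : WithBot ℕ∞)) (h : x ⤳ ξ) : x = ξ := by
  by_contra hne
  exact (dim_closure_lt h (Ne.symm hne) (dim_closure_le hF hd hx)).ne hξ

variable [IsNoetherian X]

theorem len_ne_top {F M : X.Modules} (hF : Coh.IsCoh F) (hM : Coh.IsCoh M)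
    (hMF : CohB1.support M ⊆ CohB1.support F) {d : ℕ}
    (hd : topologicalKrullDim (CohB1.support F) ≤ d) {ξ : X}
    (hξ : topologicalKrullDim (closure ({ξ} : Set X)) = (d : WithBot ℕ∞)) : len M ξ ≠ ⊤ :=
  (CohSupport.length_stalk_lt_top M hM ξ fun x hx h =>
    eq_of_specializes hF hd (hMF (not_subsingleton_iff_nontrivial.2 hx)) hξ h).ne

theorem finite_points {F : X.Modules} (hF : Coh.IsCoh F) {d : ℕ}
    (hd : topologicalKrullDim (CohB1.support F) ≤ d) :
    {ξ : X | ξ ∈ CohB1.support F ∧ topologicalKrullDim (closure ({ξ} : Set X)) = (d : WithBot ℕ∞)}.Finite := by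
  let Y := CohB1.support F
  haveI : QuasiSober Y := (H10Coh.isClosed_support F hF.2).isClosedEmbedding_subtypeVal.quasiSober
  obtain ⟨Z, hZf, hZ⟩ := H25Euler.exists_finite_generizing Y
  refine (hZf.image Subtype.val).subset fun ξ hξ => ?_
  obtain ⟨η, hη, hs⟩ := hZ ⟨ξ, hξ.1⟩
  exact ⟨η, hη, eq_of_specializes hF hd η.2 hξ.2 ((subtype_specializes_iff _ _).1 hs)⟩

/-- **Dévissage**: an additive function killing modules with support of dimension `< d` is, on a
module with support of dimension `≤ d`, the sum over `d`-dimensional points of length times value. -/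
theorem eq_finsum {ψ : X.Modules → ℤ} (hψ : H28Int.IsAddFn ψ) {d : ℕ}
    (h0 : ∀ G, Coh.IsCoh G → topologicalKrullDim (CohB1.support G) < (d : WithBot ℕ∞) → ψ G = 0)
    {F : X.Modules} (hF : Coh.IsCoh F) (hd : topologicalKrullDim (CohB1.support F) ≤ d) :
    ψ F = ∑ᶠ ξ : X, if topologicalKrullDim (closure ({ξ} : Set X)) = (d : WithBot ℕ∞)
      then ((len F ξ).toNat : ℤ) * ψ (H25K.redMod (cl ξ)) else 0 := by
  let T := (finite_points hF hd).toFinset
  have hT : ∀ ξ, ξ ∈ T ↔ ξ ∈ CohB1.support F ∧ topologicalKrullDim (closure ({ξ} : Set X)) = (d : WithBot ℕ∞) :=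
    fun ξ => Set.Finite.mem_toFinset _
  let Φ : X.Modules → ℤ := fun M => ∑ ξ ∈ T, ((len M ξ).toNat : ℤ) * ψ (H25K.redMod (cl ξ))
  have hrhs : (∑ᶠ ξ : X, if topologicalKrullDim (closure ({ξ} : Set X)) = (d : WithBot ℕ∞)
      then ((len F ξ).toNat : ℤ) * ψ (H25K.redMod (cl ξ)) else 0) = Φ F := by
    rw [finsum_eq_sum_of_support_subset _ (s := T) fun ξ hξ => ?_]
    · exact Finset.sum_congr rfl fun ξ hξ => by rw [if_pos ((hT ξ).1 hξ).2]
    · simp only [Function.mem_support] at hξ
      rw [Finset.mem_coe, hT]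
      split at hξ
      · next h =>
        refine ⟨?_, h⟩
        by_contra hs
        simp [len_eq_zero hs] at hξ
      · exact absurd rfl hξ
  rw [hrhs]
  let P : ObjectProperty X.Modules := fun G => Coh.IsCoh G ∧ CohB1.support G ⊆ CohB1.support F
  have hadd : KZero.relSub P ≤ (FreeAbelianGroup.lift fun M : Subtype P => ψ M.1 - Φ M.1).ker := by
    refine (AddSubgroup.closure_le _).2 ?_
    rintro _ ⟨S, h₁, h₂, h₃, hS, rfl⟩
    simp only [SetLike.mem_coe, AddMonoidHom.mem_ker, map_sub, FreeAbelianGroup.lift_apply_of]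
    have e1 := hψ.add S hS h₁.1 h₂.1 h₃.1
    have e2 : Φ S.X₂ = Φ S.X₁ + Φ S.X₃ := by
      rw [← Finset.sum_add_distrib]
      refine Finset.sum_congr rfl fun ξ hξ => ?_
      rw [show len S.X₂ ξ = len S.X₁ ξ + len S.X₃ ξ from H25K.length_add S hS ξ,
        ENat.toNat_add (len_ne_top hF h₁.1 h₁.2 hd ((hT ξ).1 hξ).2) (len_ne_top hF h₃.1 h₃.2 hd ((hT ξ).1 hξ).2)]
      push_cast
      ring
    rw [e1, e2]
    ring
  let Δ : KZero.K0sub P →+ ℤ := QuotientAddGroup.lift (KZero.relSub P) _ hadd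
  have hΔ : ∀ M, P M → Δ (KZero.clSub P M) = ψ M - Φ M := fun M hM => by
    rw [KZero.clSub, dif_pos hM]
    exact (QuotientAddGroup.lift_mk _ hadd _).trans (FreeAbelianGroup.lift_apply_of _ _)
  have hmem : ∀ z : {z : X // z ∈ CohB1.support F}, P (H25K.redMod (cl z.1)) := fun z =>
    ⟨H25K.isCoh_redMod _, (H25K.support_redMod_subset _).trans
      (closure_minimal (Set.singleton_subset_iff.2 z.2) (H10Coh.isClosed_support F hF.2))⟩
  have htop := H27KZero.closure_generic_length_one X (CohB1.support F)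
    (fun z : {z : X // z ∈ CohB1.support F} => H25K.redMod (cl z.1)) hmem
    fun Z _ _ hZF y hy => ⟨⟨y, hZF (hy ▸ subset_closure rfl)⟩,
      hy ▸ H25K.support_redMod_subset (cl y), H25K.length_redMod (cl y) rfl⟩
  have hΔ0 : Δ = 0 := by
    refine AddMonoidHom.eq_of_eqOn_dense htop ?_
    rintro _ ⟨⟨z, hz⟩, rfl⟩
    rw [AddMonoidHom.zero_apply]
    refine (hΔ _ (hmem ⟨z, hz⟩)).trans (sub_eq_zero.2 ?_)
    have hzero : ∀ ξ ∈ T, ξ ≠ z → len (H25K.redMod (cl z)) ξ = 0 := fun ξ hξ hne =>
      len_eq_zero fun hs => hne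
        (eq_of_specializes hF hd hz ((hT ξ).1 hξ).2
          (specializes_iff_mem_closure.2 (H25K.support_redMod_subset _ hs))).symm
    show ψ (H25K.redMod (cl z)) = ∑ ξ ∈ T, ((len (H25K.redMod (cl z)) ξ).toNat : ℤ) * ψ (H25K.redMod (cl ξ))
    by_cases hzT : z ∈ T
    · rw [Finset.sum_eq_single z (fun ξ hξ hne => by simp [hzero ξ hξ hne]) (fun h => absurd hzT h)]
      simp [len, H25K.length_redMod (cl z) rfl]
    · rw [Finset.sum_eq_zero fun ξ hξ => by simp [hzero ξ hξ (fun h => hzT (h ▸ hξ))]]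
      refine h0 _ (H25K.isCoh_redMod _) (lt_of_le_of_lt (H28Int.dim_le_of_subset (H25K.support_redMod_subset _)) ?_)
      exact lt_of_le_of_ne (dim_closure_le hF hd hz) fun h => hzT ((hT z).2 ⟨hz, h⟩)
  have := hΔ F ⟨hF, subset_rfl⟩
  rw [hΔ0, AddMonoidHom.zero_apply] at this
  linarith

end Groth.Agent.H22Alg.DevLength
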