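import Groth.Agent.H25Euler.Kill
import Groth.Agent.H8Props.DivisorSection
import Groth.Agent.H22Alg.DevLength

/-! # Effective Cartier divisors on schemes of dimension one. -/

set_option autoImplicit false
set_option linter.style.haveILetI false

universe u

open CategoryTheory CategoryTheory.Limits AlgebraicGeometry TopologicalSpace

noncomputable section

namespace Groth.Agent.H22Alg.DimOneDiv

variable {X : Scheme.{u}}

theorem isClosed_singleton_of_lt {z y : X} (h : z ⤳ y) (hne : y ≠ z)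
    (hd : topologicalKrullDim (closure ({z} : Set X)) ≤ ((1 : ℕ) : WithBot ℕ∞)) : IsClosed ({y} : Set X) := by
  have h1 := DevLength.dim_closure_lt h hne hd
  have h0 : topologicalKrullDim (closure ({y} : Set X)) ≤ ((0 : ℕ) : WithBot ℕ∞) := by
    rcases hD : topologicalKrullDim (closure ({y} : Set X)) with _ | p
    · exact bot_le
    · rw [hD] at h1
      have : p < (1 : ℕ∞) := WithBot.coe_lt_coe.1 h1
      exact WithBot.coe_le_coe.2 (ENat.lt_one_iff_eq_zero.1 this).le
  have hcl : closure ({y} : Set X) = {y} := by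
    refine Set.Subset.antisymm (fun w hw => ?_) subset_closure
    by_contra hne'
    haveI : Nonempty (closure ({w} : Set X)) := ⟨⟨w, subset_closure rfl⟩⟩
    haveI : Nonempty (IrreducibleCloseds (closure ({w} : Set X))) :=
      ⟨⟨closure {⟨w, subset_closure rfl⟩}, isIrreducible_singleton.closure, isClosed_closure⟩⟩
    have hpos : (0 : WithBot ℕ∞) ≤ topologicalKrullDim (closure ({w} : Set X)) := Order.krullDim_nonneg
    exact absurd (DevLength.dim_closure_lt (specializes_iff_mem_closure.2 hw) hne' (d := 0) h0)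
      (not_lt.2 (by simpa using hpos))
  exact hcl ▸ isClosed_closure

/-- A locally principal nonzero divisor through a component. -/
theorem exists_local [IsNoetherian X] [JacobsonSpace X] (hdim : topologicalKrullDim X ≤ 1)
    {C : Set X} (hC : C ∈ irreducibleComponents X) (hC1 : topologicalKrullDim C = 1) :
    ∃ (U : X.affineOpens) (f : Γ(X, U.1)), f ∈ nonZeroDivisors Γ(X, U.1) ∧
      ((U.1 : Set X) \ X.basicOpen f).Nonempty ∧ ((U.1 : Set X) \ X.basicOpen f).Finite ∧
      ((U.1 : Set X) \ X.basicOpen f) ⊆ C ∧ IsClosed ((U.1 : Set X) \ X.basicOpen f) ∧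
      hC.1.genericPoint ∉ ((U.1 : Set X) \ X.basicOpen f) := by
  classical
  let ξ := hC.1.genericPoint
  have hCc := isClosed_of_mem_irreducibleComponents C hC
  have hξ : closure ({ξ} : Set X) = C := hC.1.closure_genericPoint hCc
  have hd : topologicalKrullDim (closure ({ξ} : Set X)) ≤ ((1 : ℕ) : WithBot ℕ∞) := by
    rw [hξ, hC1]; rfl
  have hcl : ∀ y ∈ C, y ≠ ξ → IsClosed ({y} : Set X) := fun y hy hne =>
    isClosed_singleton_of_lt (specializes_iff_mem_closure.2 (hξ.symm ▸ hy)) hne hd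
  let others : Set X := ⋃ t ∈ irreducibleComponents X \ {C}, t
  have hoc : IsClosed others := Set.Finite.isClosed_biUnion
    (NoetherianSpace.finite_irreducibleComponents.diff) fun t ht => isClosed_of_mem_irreducibleComponents t ht.1
  have hξo : ξ ∉ others := by
    simp only [others, Set.mem_iUnion₂]
    rintro ⟨t, ⟨ht, hne⟩, hξt⟩
    have hsub : C ⊆ t := hξ ▸ closure_minimal (Set.singleton_subset_iff.2 hξt) (isClosed_of_mem_irreducibleComponents t ht)
    exact hne (hsub.antisymm (hC.2 ht.1 hsub)).symm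
  have hcov : ∀ y : X, y ∉ others → y ∈ C := fun y hy => by
    by_contra hn
    refine hy (Set.mem_iUnion₂.2 ⟨irreducibleComponent y, ⟨irreducibleComponent_mem_irreducibleComponents y, ?_⟩, mem_irreducibleComponent⟩)
    intro he
    exact hn ((Set.mem_singleton_iff.1 he) ▸ mem_irreducibleComponent)
  obtain ⟨U, hU, hξU, hUo⟩ := exists_isAffineOpen_mem_and_subset (X := X) (x := ξ) (U := ⟨othersᶜ, hoc.isOpen_compl⟩) hξo
  have hUC : ∀ y ∈ U, y ∈ C := fun y hy => hcov y (hUo hy)
  haveI : IsNoetherianRing Γ(X, U) := IsLocallyNoetherian.component_noetherian ⟨U, hU⟩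
  let A := Γ(X, U)
  let pt : U → PrimeSpectrum A := fun y => hU.primeIdealOf y
  have hpt : ∀ y : U, hU.fromSpec (pt y) = y.1 := fun y => hU.fromSpec_primeIdealOf y
  -- the bad points
  let bad : Set X := hU.fromSpec '' {p : PrimeSpectrum A | p.asIdeal ∈ associatedPrimes A A} \ {ξ}
  have hbadfin : bad.Finite := by
    refine Set.Finite.subset (Set.Finite.image _ ?_) Set.diff_subset
    exact Set.Finite.preimage (fun a _ b _ h => PrimeSpectrum.ext h) (associatedPrimes.finite A A)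
  have hbadU : bad ⊆ U := fun y hy => by
    have h1 : y ∈ Set.range hU.fromSpec := Set.image_subset_range _ _ hy.1
    rwa [hU.range_fromSpec] at h1
  have hbadc : IsClosed bad := by
    rw [← Set.biUnion_of_singleton bad]
    exact hbadfin.isClosed_biUnion fun y hy => hcl y (hUC y (hbadU hy)) hy.2
  let O : Set X := U \ bad
  have hO : IsOpen O := U.2.sdiff hbadc
  obtain ⟨x, hxO, hxc⟩ := nonempty_inter_closedPoints (Z := O) ⟨ξ, hξU, fun h => h.2 rfl⟩ hO.isLocallyClosed
  have hxc' : IsClosed ({x} : Set X) := hxc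
  have hxne : x ≠ ξ := by
    rintro rfl
    have hCs : C = {hC.1.genericPoint} := hξ.symm.trans hxc'.closure_eq
    haveI : Subsingleton C := Set.Subsingleton.coe_sort (hCs ▸ Set.subsingleton_singleton)
    haveI : Subsingleton (IrreducibleCloseds C) := ⟨fun P Q => SetLike.ext' (
      (Subsingleton.eq_univ_of_nonempty P.isIrreducible.nonempty).trans
        (Subsingleton.eq_univ_of_nonempty Q.isIrreducible.nonempty).symm)⟩
    have h0 : topologicalKrullDim C ≤ 0 :=
      Order.krullDim_nonpos_iff_forall_isMax.2 fun P Q _ => (Subsingleton.elim Q P).le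
    rw [hC1] at h0
    exact absurd h0 (by decide)
  haveI hmax : (pt ⟨x, hxO.1⟩).asIdeal.IsMaximal := hU.primeIdealOf_isMaximal_of_isClosed ⟨x, hxO.1⟩ hxc'
  let S := insert (pt ⟨ξ, hξU⟩).asIdeal (associatedPrimes.finite A A).toFinset
  have hSp : ∀ P ∈ S, P.IsPrime := fun P hP => by
    rcases Finset.mem_insert.1 hP with rfl | hP
    · exact (pt ⟨ξ, hξU⟩).2
    · exact IsAssociatedPrime.isPrime ((Set.Finite.mem_toFinset _).1 hP)
  obtain ⟨f, hfm, hfS⟩ : ∃ f ∈ (pt ⟨x, hxO.1⟩).asIdeal, ∀ P ∈ S, f ∉ P := by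
    by_contra! hall
    have hsub : ((pt ⟨x, hxO.1⟩).asIdeal : Set A) ⊆ ⋃ P ∈ (↑S : Set (Ideal A)), (id P : Ideal A) := fun a ha => by
      obtain ⟨P, hP, haP⟩ := hall a ha
      exact Set.mem_iUnion₂.2 ⟨P, hP, haP⟩
    obtain ⟨P, hP, hle⟩ := (Ideal.subset_union_prime ⊥ ⊥ fun P hP _ _ => hSp P hP).1 hsub
    have heq : (pt ⟨x, hxO.1⟩).asIdeal = P := hmax.eq_of_le (hSp P hP).ne_top hle
    rcases Finset.mem_insert.1 hP with rfl | hP
    · have : pt ⟨x, hxO.1⟩ = pt ⟨ξ, hξU⟩ := PrimeSpectrum.ext heq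
      exact hxne ((hpt ⟨x, hxO.1⟩).symm.trans ((congrArg _ this).trans (hpt ⟨ξ, hξU⟩)))
    · refine hxO.2 ⟨⟨pt ⟨x, hxO.1⟩, ?_, hpt ⟨x, hxO.1⟩⟩, hxne⟩
      show (pt ⟨x, hxO.1⟩).asIdeal ∈ associatedPrimes A A
      rw [heq]
      exact (Set.Finite.mem_toFinset _).1 hP
  have hmem : ∀ y : U, y.1 ∈ X.basicOpen f ↔ f ∉ (pt y).asIdeal := fun y => by
    show _ ↔ pt y ∈ PrimeSpectrum.basicOpen f
    rw [← hU.fromSpec_preimage_basicOpen]
    show _ ↔ hU.fromSpec (pt y) ∈ X.basicOpen f
    rw [hpt y]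
  have hξZ : ξ ∉ (U : Set X) \ X.basicOpen f := fun h =>
    h.2 ((hmem ⟨ξ, hξU⟩).2 (hfS _ (Finset.mem_insert_self _ _)))
  refine ⟨⟨U, hU⟩, f, ?_, ⟨x, hxO.1, fun h => (hmem ⟨x, hxO.1⟩).1 h hfm⟩, ?_⟩
  · by_contra hn
    have h1 : f ∈ ⋃ p ∈ associatedPrimes A A, (p : Set A) := by
      rw [biUnion_associatedPrimes_eq_compl_nonZeroDivisors]; exact hn
    obtain ⟨p, hp, hfp⟩ := Set.mem_iUnion₂.1 h1
    exact hfS p (Finset.mem_insert_of_mem ((Set.Finite.mem_toFinset _).2 hp)) hfp
  have hfin : ((U : Set X) \ X.basicOpen f).Finite := by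
    let Y : Set U := {y | y.1 ∉ X.basicOpen f}
    have hYc : IsClosed Y := (X.basicOpen f).2.isClosed_compl.preimage continuous_subtype_val
    haveI : QuasiSober U := (U.isOpenEmbedding').quasiSober
    haveI : NoetherianSpace U := Topology.IsInducing.subtypeVal.noetherianSpace
    haveI : NoetherianSpace Y := Topology.IsInducing.subtypeVal.noetherianSpace
    haveI : QuasiSober Y := hYc.isClosedEmbedding_subtypeVal.quasiSober
    obtain ⟨Z, hZ, hgen⟩ := H25Euler.exists_finite_generizing Y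
    refine (hZ.image fun y : Y => (y.1.1 : X)).subset fun y hy => ?_
    obtain ⟨η, hη, hs⟩ := hgen ⟨⟨y, hy.1⟩, hy.2⟩
    have hηne : η.1.1 ≠ ξ := fun he => hξZ (he ▸ ⟨η.1.2, η.2⟩)
    have hcy := hcl _ (hUC _ η.1.2) hηne
    have hs2 : η.1.1 ⤳ y := (hs.map continuous_subtype_val).map continuous_subtype_val
    exact ⟨η, hη, (hs2.mem_closed hcy rfl).symm⟩
  refine ⟨hfin, fun y hy => hUC y hy.1, ?_, hξZ⟩
  rw [← Set.biUnion_of_singleton ((U : Set X) \ X.basicOpen f)]
  exact hfin.isClosed_biUnion fun y hy => hcl y (hUC y hy.1) fun he => hξZ (he ▸ hy)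

/-- A principal closed subset of an affine open which is closed is an effective Cartier divisor. -/
theorem exists_divisor [X.IsSeparated] (U : X.affineOpens) (f : Γ(X, U.1)) (hf : f ∈ nonZeroDivisors Γ(X, U.1))
    (hcl : IsClosed ((U.1 : Set X) \ X.basicOpen f)) :
    ∃ (M : X.Modules) (t : Γ(M, ⊤)), PicF.IsInvertible M ∧
      (H11Ample.gen M t : Set X) = ((U.1 : Set X) \ X.basicOpen f)ᶜ := by
  let q : Γ(X, U.1) ⟶ CommRingCat.of (Γ(X, U.1) ⧸ Ideal.span {f}) := CommRingCat.ofHom (Ideal.Quotient.mk _)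
  let i : Spec (CommRingCat.of (Γ(X, U.1) ⧸ Ideal.span {f})) ⟶ X := Spec.map q ≫ U.2.fromSpec
  haveI : IsClosedImmersion (Spec.map q) := IsClosedImmersion.spec_of_surjective _ Ideal.Quotient.mk_surjective
  have hr : Set.range i = (U.1 : Set X) \ X.basicOpen f := by
    show Set.range (Spec.map q ≫ U.2.fromSpec) = _
    rw [Scheme.Hom.comp_base, TopCat.coe_comp, Set.range_comp]
    have h1 : Set.range (Spec.map q) = (PrimeSpectrum.basicOpen f : Set (PrimeSpectrum Γ(X, U.1)))ᶜ := by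
      refine (_root_.range_comap_of_surjective _ q.hom Ideal.Quotient.mk_surjective).trans ?_
      rw [show RingHom.ker q.hom = Ideal.span {f} from Ideal.mk_ker, PrimeSpectrum.zeroLocus_span,
        PrimeSpectrum.basicOpen_eq_zeroLocus_compl, compl_compl]
    rw [h1]
    ext y
    constructor
    · rintro ⟨p, hp, rfl⟩
      refine ⟨U.2.range_fromSpec ▸ Set.mem_range_self p, fun h => hp ?_⟩
      show p ∈ PrimeSpectrum.basicOpen f
      rw [← U.2.fromSpec_preimage_basicOpen]
      exact h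
    · rintro ⟨hy, hn⟩
      obtain ⟨p, rfl⟩ : y ∈ Set.range U.2.fromSpec := by rw [U.2.range_fromSpec]; exact hy
      refine ⟨p, fun h => hn ?_, rfl⟩
      change p ∈ PrimeSpectrum.basicOpen f at h
      rw [← U.2.fromSpec_preimage_basicOpen] at h
      exact h
  haveI : IsClosedImmersion i := IsClosedImmersion.of_isPreimmersion i (hr ▸ hcl)
  have hsupp : (i.ker.support : Set X) = (U.1 : Set X) \ X.basicOpen f := by
    rw [Scheme.Hom.support_ker, hr, hcl.closure_eq]
  have hE : BlowUp.IsEffCartierIdeal i.ker := by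
    intro y
    by_cases hy : y ∈ U.1
    · refine ⟨U, hy, f, hf, ?_⟩
      rw [Scheme.Hom.ker_apply]
      have e : i ⁻¹ᵁ U.1 = ⊤ := by
        show Spec.map q ⁻¹ᵁ U.2.fromSpec ⁻¹ᵁ U.1 = ⊤
        rw [U.2.fromSpec_preimage_self]; rfl
      let ψ := i.appLE U.1 ⊤ e.ge ≫ (Scheme.ΓSpecIso _).hom
      have hψ : ψ = q := by
        show i.appLE U.1 ⊤ e.ge ≫ _ = q
        rw [Scheme.Hom.comp_appLE, U.2.fromSpec_app_self, Category.assoc, Category.assoc, Scheme.Hom.map_appLE_assoc]
        erw [Scheme.Hom.appLE_eq_app]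
        exact (congrArg _ (Scheme.ΓSpecIso_naturality q)).trans (Iso.inv_hom_id_assoc _ _)
      let κ := (Spec (CommRingCat.of (Γ(X, U.1) ⧸ Ideal.span {f}))).presheaf.map (homOfLE e.ge).op ≫
        (Scheme.ΓSpecIso _).hom
      haveI : IsIso ((Spec (CommRingCat.of (Γ(X, U.1) ⧸ Ideal.span {f}))).presheaf.map (homOfLE e.ge).op) := by
        rw [show (homOfLE e.ge) = eqToHom e.symm from Subsingleton.elim _ _]; infer_instance
      have hb : Function.Injective κ.hom := (ConcreteCategory.bijective_of_isIso κ).1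
      ext a
      rw [RingHom.mem_ker, ← map_eq_zero_iff _ hb, ← Ideal.Quotient.eq_zero_iff_mem]
      rw [show Ideal.Quotient.mk (Ideal.span {f}) a = q.hom a from rfl, ← hψ]
      rfl
    · obtain ⟨W, hW, hyW, hWle⟩ := exists_isAffineOpen_mem_and_subset (X := X) (x := y)
        (U := ⟨((U.1 : Set X) \ X.basicOpen f)ᶜ, hcl.isOpen_compl⟩) (fun h => hy h.1)
      refine ⟨⟨W, hW⟩, hyW, 1, one_mem _, ?_⟩
      rw [Scheme.Hom.ker_apply, Ideal.span_singleton_one, eq_top_iff]
      intro a _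
      rw [RingHom.mem_ker]
      haveI : Subsingleton Γ(Spec (CommRingCat.of (Γ(X, U.1) ⧸ Ideal.span {f})), i ⁻¹ᵁ W) := by
        have hemp : i ⁻¹ᵁ W = ⊥ := Opens.ext (Set.eq_empty_iff_forall_notMem.2 fun z hz =>
          hWle hz (hr ▸ Set.mem_range_self z))
        rw [hemp]; infer_instance
      exact Subsingleton.elim _ _
  obtain ⟨M, t, hM, ht⟩ := H8Props.DivisorSection.exists_invertible_section hE
  refine ⟨M, t, hM, ?_⟩
  rw [ht, ← hsupp]
  rfl

end Groth.Agent.H22Alg.DimOneDiv
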