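import Groth.Agent.H17.Reduced

/-! # Closures of points as integral subschemes. -/

set_option autoImplicit false
universe u

open CategoryTheory AlgebraicGeometry TopologicalSpace

namespace Groth.Agent.H22Alg

theorem isIntegral_vanishingIdeal_closure {X : Scheme.{u}} (w : X) :
    IsIntegral (Scheme.IdealSheafData.vanishingIdeal (⟨closure {w}, isClosed_closure⟩ : Closeds X)).subscheme := by
  let J := Scheme.IdealSheafData.vanishingIdeal (⟨closure {w}, isClosed_closure⟩ : Closeds X)
  obtain ⟨t, ht⟩ : w ∈ Set.range J.subschemeι := by
    rw [H17.range_vanishingIdeal_subschemeι]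
    exact subset_closure rfl
  have h1 : closure ({t} : Set J.subscheme) = Set.univ := Set.eq_univ_of_forall fun y => by
    refine (J.subschemeι.isEmbedding.isInducing.specializes_iff.1 ?_).mem_closure
    rw [ht, specializes_iff_mem_closure]
    have h' := Set.mem_range_self (f := J.subschemeι) y
    rw [H17.range_vanishingIdeal_subschemeι] at h'
    exact h'
  have : IrreducibleSpace J.subscheme := (irreducibleSpace_def _).2
    (show IsIrreducible (Set.univ : Set J.subscheme) from h1 ▸ isIrreducible_singleton.closure)
  have : IsReduced J.subscheme := H17.isReduced_vanishingIdeal_subscheme _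
  exact isIntegral_of_irreducibleSpace_of_isReduced _

end Groth.Agent.H22Alg
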