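import Groth.Agent.S7642
import Groth.Agent.H22Alg.DimOneDiv
import Groth.Agent.H11Proj.PnGlobal
import Groth.Agent.H22Alg.CurveAmple
import Groth.Agent.H22Alg.RedIntegral

/-! # Proper schemes of dimension at most one are projective. -/

set_option autoImplicit false
set_option linter.style.haveILetI false

universe u

open CategoryTheory CategoryTheory.Limits AlgebraicGeometry TopologicalSpace

noncomputable section

namespace Groth.Agent.H22Alg.CurveProj

open H11Ample

/-- A section vanishing somewhere but not at the generic point gives positive degree. -/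
theorem deg_pos_of_section (k : Type u) [Field k] {Y : Scheme.{u}} [Y.Over (Spec (CommRingCat.of k))]
    [IsProper (Y ↘ Spec (CommRingCat.of k))] [IsIntegral Y] (hdim : topologicalKrullDim Y ≤ 1)
    {L : Y.Modules} (hL : PicF.IsInvertible L) (g : Γ(L, ⊤)) {y : Y} (hη : genericPoint Y ∈ gen L g)
    (hy : y ∉ gen L g) : 0 < Curv2.deg k Y L 1 := by
  haveI := H29RR.isNoetherian_of_proper (k := k) (X := Y)
  have hg : g ≠ 0 := by
    rintro rfl
    have h := ((mem_gen_iff hL (0 : Γ(L, ⊤)) _).1 hη).1 (a₁ := 1) (a₂ := 0) (by simp)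
    exact one_ne_zero h
  obtain ⟨hmono, hη'⟩ := H29RR.mono_homOfGlobal hL hg
  let s := H11Tilde.homOfGlobal L g
  haveI : Mono s := hmono
  obtain ⟨hQ, hfin, hcl, he⟩ := H29RR.euler_sub_of_mono (k := k) hdim (H10Coh.isCoh_structureModule' Y)
    (isCoh_of_isInvertible hL) s hη'
  have hys : y ∈ CohB1.support (cokernel s) := by
    by_contra h
    exact hy (H25Euler.mem_gen_of_notMem_support_coker hL g h)
  haveI : Nontrivial ((cokernel s).presheaf.stalk y) := not_subsingleton_iff_nontrivial.1 hys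
  haveI := H10Coh.finite_HH_proper k Y _ hQ 0
  have hb := H25Par.germs_bijective (k := k) (cokernel s) hfin hcl (fun z hz => not_not.1 hz)
  haveI : Nontrivial (Coh.HH Y (cokernel s) 0) := by
    classical
    haveI : Nontrivial (H25Par.Stk k (cokernel s) y) := ‹Nontrivial ((cokernel s).presheaf.stalk y)›
    obtain ⟨v, hv⟩ := exists_ne (0 : H25Par.Stk k (cokernel s) y)
      (α := H25Par.Stk k (cokernel s) y)
    obtain ⟨w, hw⟩ := hb.2 (Function.update 0 ⟨y, hys⟩ v)
    refine ⟨⟨w, 0, fun h0 => hv ?_⟩⟩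
    have h1 := congrFun hw ⟨y, hys⟩
    rw [Function.update_self, h0, map_zero] at h1
    exact h1.symm
  have hpos := Module.finrank_pos (R := k) (M := Coh.HH Y (cokernel s) 0)
  rw [H29RR.deg_def]
  omega

variable (k : Type u) [Field k] (X : Scheme.{u}) [X.Over (Spec (CommRingCat.of k))]
  [IsProper (X ↘ Spec (CommRingCat.of k))]

include k in
/-- A proper scheme of dimension at most one has an ample module. -/
theorem exists_ample (hdim : topologicalKrullDim X ≤ 1) : ∃ L : X.Modules, CohB1.IsAmple L := by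
  classical
  haveI := H28Int.isNoetherian k (X := X)
  haveI : JacobsonSpace X := LocallyOfFiniteType.jacobsonSpace (X ↘ Spec (CommRingCat.of k))
  haveI : X.IsSeparated := ⟨by
    rw [← terminal.comp_from (X ↘ Spec (CommRingCat.of k))]
    infer_instance⟩
  let T : Set (Set X) := {C | C ∈ irreducibleComponents X ∧ topologicalKrullDim C = 1}
  have hT : T.Finite := NoetherianSpace.finite_irreducibleComponents.subset fun C hC => hC.1
  have hchoose : ∀ C : T, ∃ (M : X.Modules) (t : Γ(M, ⊤)), PicF.IsInvertible M ∧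
      ((gen M t : Set X)ᶜ.Nonempty ∧ (gen M t : Set X)ᶜ ⊆ C.1 ∧ C.2.1.1.genericPoint ∈ gen M t) := by
    rintro ⟨C, hC, hC1⟩
    obtain ⟨U, f, hf, hne, -, hsub, hcl, hξ⟩ := DimOneDiv.exists_local hdim hC hC1
    obtain ⟨M, t, hM, ht⟩ := DimOneDiv.exists_divisor U f hf hcl
    refine ⟨M, t, hM, by rw [ht, compl_compl]; exact hne, by rw [ht, compl_compl]; exact hsub, ?_⟩
    exact ht.ge hξ
  choose M t hM hne hsub hgenξ using hchoose
  obtain ⟨L, s, hL, hs⟩ : ∃ (L : X.Modules) (s : Γ(L, ⊤)), PicF.IsInvertible L ∧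
      ∀ x, x ∈ gen L s ↔ ∀ C : T, x ∈ gen (M C) (t C) := by
    haveI := hT.fintype
    suffices h : ∀ S : Finset T, ∃ (L : X.Modules) (s : Γ(L, ⊤)), PicF.IsInvertible L ∧
        ∀ x, x ∈ gen L s ↔ ∀ C ∈ S, x ∈ gen (M C) (t C) by
      obtain ⟨L, s, hL, hs⟩ := h Finset.univ
      exact ⟨L, s, hL, fun x => by simpa using hs x⟩
    intro S
    induction S using Finset.induction_on with
    | empty =>
      refine ⟨Coh.structureModule X, (show Γ(X, ⊤) from 1), isInvertible_structureModule, fun x => ?_⟩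
      simp only [Finset.notMem_empty, false_imp_iff, implies_true, iff_true]
      refine (mem_gen_iff isInvertible_structureModule _ x).2 ?_
      rw [show (Coh.structureModule X).presheaf.germ ⊤ x trivial (show Γ(X, ⊤) from 1) = H29Ref.oneStalk x from ?_]
      · exact H06EGA9.bijective_smul_oneStalk x
      · rw [H29Ref.germ_unit_eq_smul]
        erw [map_one, one_smul]
    | insert C S _ ih =>
      obtain ⟨L, s, hL, hs⟩ := ih
      refine ⟨CohB1.tensorMod (M C) L, tm (t C) s, isInvertible_tensor (hM C) hL, fun x => ?_⟩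
      rw [gen_tm (hM C) hL, Finset.forall_mem_insert]
      exact and_congr Iff.rfl (hs x)
  refine ⟨L, (S7642.result k X hdim L hL).2 fun C hC hC1 => ?_⟩
  let J := (X.irreducibleComponentIdeal C hC).radical
  have hr : Set.range J.subschemeι = C := by
    rw [Scheme.IdealSheafData.range_subschemeι]; rfl
  have hCc := isClosed_of_mem_irreducibleComponents C hC
  have hJ : J = Scheme.IdealSheafData.vanishingIdeal (DevLength.cl hC.1.genericPoint) := by
    refine Eq.trans Scheme.IdealSheafData.vanishingIdeal_support.symm ?_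
    congr 1
    exact SetLike.ext' (hC.1.closure_genericPoint hCc).symm
  haveI : IsIntegral J.subscheme := hJ ▸ H22Alg.isIntegral_vanishingIdeal_closure _
  letI : J.subscheme.Over (Spec (CommRingCat.of k)) := ⟨J.subschemeι ≫ (X ↘ Spec (CommRingCat.of k))⟩
  haveI : IsProper (J.subscheme ↘ Spec (CommRingCat.of k)) := inferInstanceAs (IsProper (J.subschemeι ≫ _))
  have hd : topologicalKrullDim J.subscheme ≤ 1 :=
    J.subschemeι.isClosedEmbedding.isInducing.topologicalKrullDim_le.trans hdim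
  have hgen : gen ((Scheme.Modules.pullback J.subschemeι).obj L) (pullTop J.subschemeι s) = J.subschemeι ⁻¹ᵁ gen L s := by
    have := gen_smul_pullSect J.subschemeι hL s (isUnit_one (M := Γ(J.subscheme, ⊤)))
    rwa [one_smul] at this
  obtain ⟨x, hx⟩ := hne ⟨C, hC, hC1⟩
  obtain ⟨y, rfl⟩ : x ∈ Set.range J.subschemeι := hr.symm ▸ hsub ⟨C, hC, hC1⟩ hx
  refine deg_pos_of_section k hd (isInvertible_pullback _ hL) (pullTop J.subschemeι s) (y := y) ?_ ?_
  · rw [hgen]
    have hη : J.subschemeι (genericPoint J.subscheme) = hC.1.genericPoint := by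
      have h1 : closure ({J.subschemeι (genericPoint J.subscheme)} : Set X) = C := by
        refine (LeadDev.range_eq_closure J.subschemeι (ξ := J.subschemeι (genericPoint J.subscheme)) rfl).symm.trans ?_
        exact hr
      exact (IsGenericPoint.eq (h1 : IsGenericPoint _ C) (hC.1.isGenericPoint_genericPoint hCc))
    show J.subschemeι (genericPoint J.subscheme) ∈ gen L s
    rw [hη, hs]
    rintro ⟨D, hD, hD1⟩
    by_cases h : D = C
    · subst h; exact hgenξ ⟨D, hD, hD1⟩
    · by_contra hn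
      have hξD := hsub ⟨D, hD, hD1⟩ hn
      have hsubC : C ⊆ D := (hC.1.closure_genericPoint hCc).symm.le.trans
        (closure_minimal (Set.singleton_subset_iff.2 hξD) (isClosed_of_mem_irreducibleComponents D hD))
      exact h ((hC.2 hD.1 hsubC).antisymm hsubC)
  · rw [hgen]
    exact fun h => hx ((hs _).1 h ⟨C, hC, hC1⟩)

/-- A proper scheme with an ample module embeds in projective space by a power of it. -/
theorem exists_closedImmersion_iso {L : X.Modules} (hA : CohB1.IsAmple L) :
    ∃ (n m : ℕ) (i : X ⟶ CohB1.ProjSpace n k), 1 ≤ m ∧ IsClosedImmersion i ∧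
      i ≫ CohB1.ProjSpace.toSpec n k = X ↘ (Spec (CommRingCat.of k)) ∧
      Nonempty ((Scheme.Modules.pullback i).obj (Twist.twistProjSpace n k 1) ≅ CohB1.tensorPow L m) := by
  let q := X ↘ Spec (CommRingCat.of k)
  obtain ⟨m₀, hm⟩ := H11Proj.eventually_globalVA q hA
  obtain ⟨n, v, hva⟩ := hm (max m₀ 1) (le_max_left _ _)
  let M := CohB1.tensorPow L (max m₀ 1)
  have hM : PicF.IsInvertible M := isInvertible_tensorPow hA.1 _
  obtain ⟨r, hr, hτ, hpre, hρ⟩ := exists_toPn q hM v hva.cover
  refine ⟨n, max m₀ 1, r, le_max_right _ _, ?_, hr, hτ⟩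
  refine (IsZariskiLocalAtTarget.iff_of_iSup_eq_top (P := @IsClosedImmersion) (fun l : Fin (n + 1) =>
    Proj.basicOpen (CohB1.polyGrading n k) (MvPolynomial.X l : MvPolynomial (Fin (n + 1)) k)) ?_).2 fun l => ?_
  · exact eq_top_iff.2 fun y _ => by
      obtain ⟨l, hl⟩ := exists_mem_basicOpen_X (n := n) (R := k) y
      exact Opens.mem_iSup.2 ⟨l, hl⟩
  let D := Proj.basicOpen (CohB1.polyGrading n k) (MvPolynomial.X l : MvPolynomial (Fin (n + 1)) k)
  have hD : IsAffineOpen D := Proj.isAffineOpen_basicOpen (CohB1.polyGrading n k) _ (X_mem l) one_pos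
  have haff : IsAffineOpen (r ⁻¹ᵁ D) := by
    have := hva.affine ⊤ (isAffineOpen_top _) l
    rw [Scheme.Hom.preimage_top, inf_top_eq] at this
    rw [hpre l]; exact this
  haveI : IsAffine (Proj.basicOpen (CohB1.polyGrading n k) (MvPolynomial.X l : MvPolynomial (Fin (n + 1)) k)) := hD
  haveI : IsAffine (r ⁻¹ᵁ Proj.basicOpen (CohB1.polyGrading n k) (MvPolynomial.X l : MvPolynomial (Fin (n + 1)) k)) := haff
  have hsurj : Function.Surjective (r.app D).hom := by
    have hG : r ⁻¹ᵁ D = gen M (v l) ⊓ q ⁻¹ᵁ ⊤ := by rw [Scheme.Hom.preimage_top, inf_top_eq]; exact hpre l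
    have hcl : Subring.closure (Set.range (q.appLE ⊤ (r ⁻¹ᵁ D) le_top) ∪
        H11Proj.globalCoefs v l (r ⁻¹ᵁ D)) = ⊤ := by
      have h := hva.surj ⊤ (isAffineOpen_top _) l
      exact (show ∀ (G : X.Opens) (hG' : G ≤ q ⁻¹ᵁ ⊤), G = gen M (v l) ⊓ q ⁻¹ᵁ ⊤ →
        Subring.closure (Set.range (q.appLE ⊤ G hG') ∪ H11Proj.globalCoefs v l G) = ⊤ from
        fun G hG' e => by subst e; exact h) _ le_top hG
    rw [← RingHom.range_eq_top, eq_top_iff, ← hcl, Subring.closure_le]
    rintro c (⟨a, rfl⟩ | ⟨l', hc⟩)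
    · refine ⟨(CohB1.ProjSpace.toSpec n k).appLE ⊤ D le_top a, ?_⟩
      have e1 : (r ≫ CohB1.ProjSpace.toSpec n k).appLE ⊤ (r ⁻¹ᵁ D) le_top =
          (CohB1.ProjSpace.toSpec n k).appLE ⊤ D le_top ≫ r.app D := by
        rw [Scheme.Hom.app_eq_appLE]
        exact (Scheme.Hom.appLE_comp_appLE r (CohB1.ProjSpace.toSpec n k) ⊤ D (r ⁻¹ᵁ D) le_top le_rfl).symm
      have e2 : q.appLE ⊤ (r ⁻¹ᵁ D) le_top = (r ≫ CohB1.ProjSpace.toSpec n k).appLE ⊤ (r ⁻¹ᵁ D) le_top := by
        simp only [hr]
      rw [e2, e1]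
      rfl
    · obtain ⟨ρ, hρ'⟩ := hρ l l'
      refine ⟨ρ, ?_⟩
      have hgen : H11Tilde.IsGen M (M.presheaf.map (homOfLE (le_top : r ⁻¹ᵁ D ≤ ⊤)).op (v l)) := by
        have h := (isGen_gen (L := M) (v l)).res (hpre l).le
        rwa [H10Coh.mres_mres] at h
      have h2 := (hρ'.symm.trans hc)
      have hinj := (hgen.bijective le_rfl).1
      refine hinj ?_
      beta_reduce
      rw [H10Coh.mres_self]
      exact h2
  refine @IsClosedImmersion.of_surjective_of_isAffine _ _ haff hD _ ?_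
  have key : ∀ (U : (CohB1.ProjSpace n k).Opens) (V : X.Opens) (e : V ≤ r ⁻¹ᵁ U), U = D → V = r ⁻¹ᵁ D →
      Function.Surjective (r.appLE U V e).hom := by
    rintro U V e rfl rfl
    rw [← Scheme.Hom.app_eq_appLE]
    exact hsurj
  rw [Scheme.Hom.appTop, Scheme.Hom.app_eq_appLE]
  erw [morphismRestrict_appLE]
  exact key _ _ _ (by simp [D])
    (by simp [D]; exact (Scheme.Hom.image_top_eq_opensRange _).trans (Scheme.Opens.opensRange_ι _))

/-- A proper scheme with an ample module embeds in projective space. -/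
theorem exists_closedImmersion {L : X.Modules} (hA : CohB1.IsAmple L) :
    ∃ (n : ℕ) (i : X ⟶ CohB1.ProjSpace n k), IsClosedImmersion i ∧
      i ≫ CohB1.ProjSpace.toSpec n k = X ↘ (Spec (CommRingCat.of k)) := by
  obtain ⟨n, -, i, -, hi, hq, -⟩ := exists_closedImmersion_iso k X hA
  exact ⟨n, i, hi, hq⟩

end Groth.Agent.H22Alg.CurveProj
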