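import Groth.Agent.H22Alg.KModel

/-! # K(X) with an ample module: the augmentation ideal is nil. -/

set_option autoImplicit false
set_option linter.style.haveILetI false

universe v u

open CategoryTheory CategoryTheory.Limits AlgebraicGeometry LambdaRing ZeroObject
attribute [local instance] HasDerivedCategory.standard

noncomputable section

namespace Groth.Agent.H22Alg.KModel

variable {X : Scheme.{u}} {K : Type v} [CommRing K] [LambdaOps K] {P : PosStructure K} {φ : SGA6.Kvb X →+ K}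

/-- The comparison of the two tensor products. -/
def tensorModIso (M N : X.Modules) :
    ((DCoh.tensorBi (X := X)).obj M).obj N ≅ CohB1.tensorMod M N := Iso.refl _

theorem finLocFreeOfRank_invertible {L : X.Modules} (h : PicF.IsInvertible L) :
    FlatMod.IsFinLocFreeOfRank 1 L := fun x =>
  let ⟨U, hxU, ⟨e⟩⟩ := h x
  ⟨U, hxU, ⟨e ≪≫ (coproductUniqueIso fun _ : Fin 1 => Coh.structureModule (↑U)).symm⟩⟩

theorem finLocFree_of_rank {M : X.Modules} {n : ℕ} (h : FlatMod.IsFinLocFreeOfRank n M) :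
    FlatMod.IsFinLocFree M := fun x => let ⟨U, hU, h⟩ := h x; ⟨U, n, hU, h⟩

theorem finLocFree_invertible {L : X.Modules} (h : PicF.IsInvertible L) : FlatMod.IsFinLocFree L :=
  finLocFree_of_rank (finLocFreeOfRank_invertible h)

theorem finLocFree_tensorMod {M N : X.Modules} (hM : FlatMod.IsFinLocFree M) (hN : FlatMod.IsFinLocFree N) :
    FlatMod.IsFinLocFree (CohB1.tensorMod M N) :=
  finLocFree_iso (tensorModIso M N) (H16Derived.KFlat.Stalk.isFinLocFree_tensor hM hN)

theorem map_tensorMod (hK : KRR.IsModel X K P φ) {M N : X.Modules} (hM : FlatMod.IsFinLocFree M)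
    (hN : FlatMod.IsFinLocFree N) :
    φ (KRR.cl X (CohB1.tensorMod M N)) = φ (KRR.cl X M) * φ (KRR.cl X N) := by
  rw [hK.map_mul M N hM hN]
  exact congrArg φ (cl_iso (tensorModIso M N).symm (finLocFree_tensorMod hM hN))

theorem finLocFree_structure : FlatMod.IsFinLocFree (Coh.structureModule X) :=
  (H16Derived.KFlat.Stalk.isFinLocFree_iff _).2 fun x => ⟨⊤, trivial,
    H16Derived.KFlat.Stalk.isFreeFin_structureModule.pullback _⟩

theorem tensorPow_data (hK : KRR.IsModel X K P φ) {L : X.Modules} (hL : FlatMod.IsFinLocFree L) :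
    ∀ n : ℕ, FlatMod.IsFinLocFree (CohB1.tensorPow L n) ∧
      φ (KRR.cl X (CohB1.tensorPow L n)) = φ (KRR.cl X L) ^ n
  | 0 => ⟨finLocFree_structure, by rw [pow_zero]; exact hK.map_one⟩
  | n + 1 => by
    obtain ⟨h, he⟩ := tensorPow_data hK hL n
    exact ⟨finLocFree_tensorMod h hL, by rw [pow_succ, ← he]; exact map_tensorMod hK h hL⟩

theorem map_cl_free (hK : KRR.IsModel X K P φ) : ∀ n : ℕ, φ (KRR.cl X (FlatMod.freeMod X n)) = n
  | 0 => by
    rw [cl_isZero, map_zero, Nat.cast_zero]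
    rw [IsZero.iff_id_eq_zero]
    exact Sigma.hom_ext _ _ fun b => b.elim0
  | n + 1 => by
    rw [cl_iso (freeSucc n) (finLocFree_free _), cl_biprod finLocFree_structure (finLocFree_free n),
      map_add, map_cl_free hK n, hK.map_one, Nat.cast_succ, add_comm]

theorem map_cl_pos [ConnectedSpace ↥X] (hK : KRR.IsModel X K P φ) {F : X.Modules}
    (hF : FlatMod.IsFinLocFree F) :
    φ (KRR.cl X (Coh.structureModule X ⊞ F)) ∈ P.pos := by
  have hO := finLocFree_structure (X := X)
  obtain ⟨n, hn⟩ := exists_rank (H16Derived.KFlat.Stalk.isFinLocFree_biprod hO hF)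
  refine (hK.mem_pos_iff _).2 ⟨n, _, ?_, hn, rfl⟩
  obtain ⟨m, hm⟩ := exists_rank hF
  have h := hK.aug_cl n _ hn
  rw [cl_biprod hO hF, map_add, map_add, hK.map_one, map_one, hK.aug_cl m F hm] at h
  omega

/-- A finite family of global sections spanning locally gives an epimorphism from a finite free module. -/
theorem exists_epi_free (F : X.Modules) {ι : Type u} [Fintype ι] (g : ι → Γ(F, ⊤))
    (h : ∀ (W : X.Opens) (t : Γ(F, W)), ∀ x ∈ W, ∃ (V : X.Opens) (hV : V ≤ W), x ∈ V ∧
      F.presheaf.map (homOfLE hV).op t ∈ Submodule.span Γ(X, V)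
        (Set.range fun i => F.presheaf.map (homOfLE (le_top : V ≤ ⊤)).op (g i))) :
    ∃ (N : ℕ) (p : FlatMod.freeMod X N ⟶ F), Epi p := by
  obtain ⟨a, ha⟩ := H10Coh.exists_free_desc (X := X) (N := F) fun i => H11Tilde.homOfGlobal F (g i)
  haveI : Epi a := by
    refine H11Tilde.epi_of_locally_surjective a fun W t x hx => ?_
    obtain ⟨V, hV, hxV, ht⟩ := h W t x hx
    refine ⟨V, hV, hxV, ?_⟩
    generalize F.presheaf.map (homOfLE hV).op t = t' at ht ⊢
    induction ht using Submodule.span_induction with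
    | mem y hy =>
      obtain ⟨i, rfl⟩ := hy
      refine ⟨(H10Coh.freeIncl ι i).app V (H11Ample.one V), ?_⟩
      refine (congr($(congrArg (fun k => Scheme.Modules.Hom.app k V) (ha i)) (H11Ample.one V))).trans ?_
      change (1 : Γ(X, V)) • F.presheaf.map (homOfLE (le_top : V ≤ ⊤)).op (g i) = _
      rw [one_smul]
    | zero => exact ⟨0, map_zero _⟩
    | add y z _ _ hy hz =>
      obtain ⟨y', rfl⟩ := hy
      obtain ⟨z', rfl⟩ := hz
      exact ⟨y' + z', map_add _ _ _⟩
    | smul r y _ hy =>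
      obtain ⟨y', rfl⟩ := hy
      exact ⟨r • y', Scheme.Modules.Hom.app_smul _ _ _⟩
  exact ⟨Fintype.card ι, (Sigma.whiskerEquiv (f := fun _ : ι => Coh.structureModule X)
    (g := fun _ : Fin (Fintype.card ι) => Coh.structureModule X) (Fintype.equivFin ι)
    fun _ => Iso.refl _).inv ≫ a, @epi_comp _ _ _ _ _ _ inferInstance _ this⟩

theorem aug_line (hK : KRR.IsModel X K P φ) {L : X.Modules} (hL : PicF.IsInvertible L) :
    P.aug (φ (KRR.cl X L)) = 1 := by
  simpa using hK.aug_cl 1 L (finLocFreeOfRank_invertible hL)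

theorem pow_line_pos (hK : KRR.IsModel X K P φ) {L : X.Modules} (hL : PicF.IsInvertible L) (n : ℕ) :
    φ (KRR.cl X L) ^ n ∈ P.pos := by
  induction n with
  | zero => rw [pow_zero]; simpa using P.natCast_mem 1 one_pos
  | succ n ih =>
    rw [pow_succ]
    exact P.mul_mem _ _ ih ((hK.mem_pos_iff _).2 ⟨1, L, le_rfl, finLocFreeOfRank_invertible hL, rfl⟩)

/-- For large `n`, `e u^n` has a positive complement in an integer. -/
theorem exists_compl [ConnectedSpace ↥X] {L : X.Modules} (hL : CohB1.IsAmple L)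
    (hK : KRR.IsModel X K P φ) {e : K} (he : e ∈ P.pos) :
    ∃ n₀ : ℕ, ∀ n, n₀ ≤ n → ∃ (y : K) (N : ℕ), y ∈ P.pos ∧ e * φ (KRR.cl X L) ^ n + y = N := by
  haveI : CompactSpace X := hL.2.1
  haveI : X.IsSeparated := H17.AmpleSep.isSeparated_of_isAmple hL
  haveI : QuasiSeparatedSpace X := (quasiSeparatedSpace_iff_quasiSeparated _).2 inferInstance
  have hLf := finLocFree_invertible hL.1
  obtain ⟨r, E, hr, hE, rfl⟩ := (hK.mem_pos_iff e).1 he
  have hEf := finLocFree_of_rank hE
  obtain ⟨n₀, hn₀⟩ := H11Ample.eventually_spanning hL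
    (H16Derived.KFlat.Stalk.isCoh_of_isFinLocFree hEf)
  refine ⟨n₀, fun n hn => ?_⟩
  obtain ⟨ι, hι, g, hg⟩ := hn₀ n hn
  obtain ⟨N, π, hπ⟩ := exists_epi_free _ g hg
  obtain ⟨hLn, hun⟩ := tensorPow_data hK hLf n
  have hG := finLocFree_tensorMod hEf hLn
  let S := ShortComplex.mk (kernel.ι π) π (kernel.condition π)
  have hS : S.ShortExact :=
    { exact := ShortComplex.exact_of_f_is_kernel _ (kernelIsKernel π)
      mono_f := inferInstanceAs (Mono (kernel.ι π))
      epi_g := hπ }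
  have hker := H16Derived.KFlat.Stalk.isFinLocFree_left hS (finLocFree_free N) hG
  refine ⟨_, N + 1, map_cl_pos hK hker, ?_⟩
  rw [← hun, ← map_tensorMod hK hEf hLn, cl_biprod finLocFree_structure hker, map_add, hK.map_one,
    Nat.cast_succ, ← map_cl_free hK N, show FlatMod.freeMod X N = S.X₂ from rfl,
    cl_add hS hker (finLocFree_free N) hG, map_add]
  ring

/-- The augmentation ideal of K(X) is a nil ideal. -/
theorem isNilpotent_of_aug [ConnectedSpace ↥X] {L : X.Modules} (hL : CohB1.IsAmple L)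
    (hK : KRR.IsModel X K P φ) {x : K} (hx : P.aug x = 0) : IsNilpotent x := by
  rw [nilpotent_iff_mem_prime]
  intro p hp
  let q : K →+* K ⧸ p := Ideal.Quotient.mk p
  suffices key : ∀ e ∈ P.pos, q e = (P.aug e : K ⧸ p) by
    obtain ⟨e, f, he, hf, rfl⟩ := P.exists_sub x
    rw [← Ideal.Quotient.eq_zero_iff_mem]
    show q (e - f) = 0
    rw [map_sub, key e he, key f hf, ← Int.cast_sub, ← map_sub, hx, Int.cast_zero]
  set u := φ (KRR.cl X L) with hu
  have hua : P.aug u = 1 := aug_line hK hL.1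
  have hev : ∀ e ∈ P.pos, ∃ n₀ : ℕ, ∀ n, n₀ ≤ n → q (e * u ^ n) = (P.aug (e * u ^ n) : K ⧸ p) := by
    intro e he
    obtain ⟨n₀, hn₀⟩ := exists_compl hL hK he
    refine ⟨n₀, fun n hn => ?_⟩
    obtain ⟨y, N, hy, hsum⟩ := hn₀ n hn
    obtain ⟨B, hB, -⟩ := exists_lamPoly hy
    exact map_eq_aug (P.mul_mem _ _ he (pow_line_pos hK hL.1 n)) B hB N hsum q
  have hone : (1 : K) ∈ P.pos := by simpa using P.natCast_mem 1 one_pos
  obtain ⟨n₁, h₁⟩ := hev 1 hone
  have hq : ∀ n, n₁ ≤ n → q u ^ n = 1 := fun n hn => by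
    have h := h₁ n hn
    rw [one_mul, map_pow, map_pow, hua, one_pow, Int.cast_one] at h
    exact h
  have hqu : q u = 1 := by
    have h := hq (n₁ + 1) (Nat.le_succ _)
    rwa [pow_succ, hq n₁ le_rfl, one_mul] at h
  intro e he
  obtain ⟨n₀, h₀⟩ := hev e he
  have h := h₀ n₀ le_rfl
  rwa [map_mul, map_pow, hqu, one_pow, mul_one, map_mul, map_pow, hua, one_pow, mul_one] at h

end Groth.Agent.H22Alg.KModel
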