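import Groth.Agent.H22Alg.ExtPowSES
import Groth.Agent.H22Alg.PBRel
import Groth.Agent.H22Alg.KAmple
import Groth.Agent.H10Coh.SerreVanishing
import Groth.Agent.H11Sym.InvertibleInverse

/-! # `K₀` of vector bundles on a connected Noetherian scheme is a λ-ring with positive structure. -/

set_option autoImplicit false
set_option linter.style.haveILetI false

universe u

open CategoryTheory CategoryTheory.Limits AlgebraicGeometry Opposite TopologicalSpace LambdaRing
attribute [local instance] HasDerivedCategory.standard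

noncomputable section

namespace Groth.Agent.H22Alg.KExists

open H16Derived.KFlat.Stalk

variable {X : Scheme.{u}}

section Rank

/-- The rank of the stalk at a point. -/
def rk (x : X) (M : X.Modules) : ℕ := Module.finrank (X.presheaf.stalk x) (M.presheaf.stalk x)

theorem stalk_free {M : X.Modules} (hM : FlatMod.IsFinLocFree M) (x : X) :
    ∃ n, Nonempty (Module.Basis (Fin n) (X.presheaf.stalk x) (M.presheaf.stalk x)) := by
  obtain ⟨U, n, hx, ⟨e⟩⟩ := hM x
  obtain ⟨V, hV, hxV, hle⟩ := exists_isAffineOpen_mem_and_subset (x := x) (U := U) hx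
  obtain ⟨b⟩ := H8Props.FinLocFree.exists_basis_of_chart M e hle
  exact ⟨n, ExtPowSum.exists_stalkBasis (H8Props.FinLocFree.isQCoh_of_isFinLocFree _ hM) hV b hxV⟩

theorem rk_of_rank {M : X.Modules} {n : ℕ} (hM : FlatMod.IsFinLocFreeOfRank n M) (x : X) : rk x M = n := by
  obtain ⟨U, hx, ⟨e⟩⟩ := hM x
  obtain ⟨V, hV, hxV, hle⟩ := exists_isAffineOpen_mem_and_subset (x := x) (U := U) hx
  obtain ⟨b⟩ := H8Props.FinLocFree.exists_basis_of_chart M e hle
  obtain ⟨b'⟩ := ExtPowSum.exists_stalkBasis (H8Props.FinLocFree.isQCoh_of_isFinLocFree _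
    (KModel.finLocFree_of_rank hM)) hV b hxV
  rw [rk, Module.finrank_eq_card_basis b', Fintype.card_fin]

theorem ofRank_rk [ConnectedSpace ↥X] {M : X.Modules} (hM : FlatMod.IsFinLocFree M) (x : X) :
    FlatMod.IsFinLocFreeOfRank (rk x M) M := by
  obtain ⟨n, hn⟩ := KModel.exists_rank hM
  rwa [rk_of_rank hn x]

theorem rk_add {S : ShortComplex X.Modules} (hS : S.ShortExact) (h₁ : FlatMod.IsFinLocFree S.X₁)
    (h₃ : FlatMod.IsFinLocFree S.X₃) (x : X) : rk x S.X₂ = rk x S.X₁ + rk x S.X₃ := by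
  obtain ⟨a, ⟨ba⟩⟩ := stalk_free h₁ x
  obtain ⟨c, ⟨bc⟩⟩ := stalk_free h₃ x
  haveI := Module.Free.of_basis ba
  haveI := Module.Finite.of_basis ba
  haveI := Module.Free.of_basis bc
  haveI := Module.Finite.of_basis bc
  haveI : Module.Projective (X.presheaf.stalk x) (S.X₃.presheaf.stalk x) := Module.Projective.of_free
  have hex := H06Mod.stalk_exact S hS x
  obtain ⟨l, hl⟩ := Module.projective_lifting_property (H06Mod.stalkLin S.g x) LinearMap.id
    (H06Mod.stalk_surjective S hS x)
  obtain ⟨e, -⟩ := (hex.splitSurjectiveEquiv (H06Mod.stalk_injective S hS x)) ⟨l, hl⟩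
  rw [rk, rk, rk, e.finrank_eq, Module.finrank_prod]

theorem rk_tensor {M N : X.Modules} (hM : FlatMod.IsFinLocFree M) (hN : FlatMod.IsFinLocFree N) (x : X) :
    rk x (tensor M N) = rk x M * rk x N := by
  obtain ⟨a, ⟨ba⟩⟩ := stalk_free hM x
  obtain ⟨b, ⟨bb⟩⟩ := stalk_free hN x
  rw [rk, rk, rk, ← (stalkEquiv M N x).finrank_eq, Module.finrank_eq_card_basis (ba.tensorProduct bb),
    Module.finrank_eq_card_basis ba, Module.finrank_eq_card_basis bb, Fintype.card_prod]

theorem rk_extPow {E L : X.Modules} {i : ℕ} (hE : FlatMod.IsFinLocFree E) (hL : ExtPow.IsExtPow i E L) (x : X) :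
    rk x L = (rk x E).choose i := by
  obtain ⟨U, n, hx, ⟨e⟩⟩ := hE x
  obtain ⟨V, hV, hxV, hle⟩ := exists_isAffineOpen_mem_and_subset (x := x) (U := U) hx
  obtain ⟨b⟩ := H8Props.FinLocFree.exists_basis_of_chart E e hle
  obtain ⟨b₁⟩ := ExtPowSum.exists_stalkBasis (H8Props.FinLocFree.isQCoh_of_isFinLocFree _ hE) hV b hxV
  obtain ⟨b₂⟩ := ExtPowSum.exists_stalkBasis_extPow hE hL hV b hxV
  rw [rk, rk, Module.finrank_eq_card_basis b₁, Module.finrank_eq_card_basis b₂, Fintype.card_fin, Fintype.card_fin]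

end Rank

section Powers

theorem isExtPow_zero (E : X.Modules) : ExtPow.IsExtPow 0 E (Coh.structureModule X) := by
  refine ⟨fun U => (exteriorPower.zeroEquiv Γ(X, U.1) Γ(E, U.1)).symm, fun U V h e => ?_⟩
  show (Coh.structureModule X).presheaf.map (homOfLE h).op
      (exteriorPower.zeroEquiv Γ(X, U.1) Γ(E, U.1) (exteriorPower.ιMulti _ 0 e) : Γ(X, U.1)) =
    exteriorPower.zeroEquiv Γ(X, V.1) Γ(E, V.1) (exteriorPower.ιMulti _ 0 fun j => E.presheaf.map (homOfLE h).op (e j))
  rw [exteriorPower.zeroEquiv_ιMulti, exteriorPower.zeroEquiv_ιMulti]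
  exact map_one (X.presheaf.map (homOfLE h).op).hom

theorem isExtPow_one (E : X.Modules) : ExtPow.IsExtPow 1 E E := by
  refine ⟨fun U => (exteriorPower.oneEquiv Γ(X, U.1) Γ(E, U.1)).symm, fun U V h e => ?_⟩
  show E.presheaf.map (homOfLE h).op (exteriorPower.oneEquiv Γ(X, U.1) Γ(E, U.1) (exteriorPower.ιMulti _ 1 e)) =
    exteriorPower.oneEquiv Γ(X, V.1) Γ(E, V.1) (exteriorPower.ιMulti _ 1 fun j => E.presheaf.map (homOfLE h).op (e j))
  rw [exteriorPower.oneEquiv_ιMulti, exteriorPower.oneEquiv_ιMulti]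

/-- A chosen exterior power. -/
def extP (i : ℕ) (E : X.Modules) : X.Modules :=
  open Classical in if h : ∃ L, ExtPow.IsExtPow i E L then h.choose else E

theorem extP_spec (i : ℕ) {E : X.Modules} (hE : FlatMod.IsFinLocFree E) : ExtPow.IsExtPow i E (extP i E) := by
  have h := ExtPowSheaf.exists_isExtPow i (H8Props.FinLocFree.isQCoh_of_isFinLocFree _ hE)
  rw [extP, dif_pos h]
  exact h.choose_spec

theorem finLocFree_extP (i : ℕ) {E : X.Modules} (hE : FlatMod.IsFinLocFree E) : FlatMod.IsFinLocFree (extP i E) :=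
  ExtPowHom.finLocFree_of_isExtPow hE (extP_spec i hE)

theorem cl_extP {i : ℕ} {E L : X.Modules} (hE : FlatMod.IsFinLocFree E) (hL : ExtPow.IsExtPow i E L) :
    KRR.cl X (extP i E) = KRR.cl X L := by
  obtain ⟨e⟩ := ExtPowHom.nonempty_iso (extP_spec i hE) hL
  exact KModel.cl_iso e (finLocFree_extP i hE)

end Powers

section Ring

theorem cl_tensor_comm {M N : X.Modules} (hM : FlatMod.IsFinLocFree M) (hN : FlatMod.IsFinLocFree N) :
    KRR.cl X (tensor M N) = KRR.cl X (tensor N M) :=
  KModel.cl_iso (H10Coh.Tw.commIso M N) (isFinLocFree_tensor hM hN)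

theorem exists_mul : ∃ m : SGA6.Kvb X →+ SGA6.Kvb X →+ SGA6.Kvb X, ∀ E F : X.Modules,
    FlatMod.IsFinLocFree E → FlatMod.IsFinLocFree F → m (KRR.cl X E) (KRR.cl X F) = KRR.cl X (tensor E F) := by
  have right : ∀ E : X.Modules, FlatMod.IsFinLocFree E → ∀ S : ShortComplex X.Modules, S.ShortExact →
      FlatMod.IsFinLocFree S.X₁ → FlatMod.IsFinLocFree S.X₂ → FlatMod.IsFinLocFree S.X₃ →
      KRR.cl X (tensor E S.X₂) = KRR.cl X (tensor E S.X₁) + KRR.cl X (tensor E S.X₃) := fun E hE S hS a b c =>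
    KModel.cl_add (shortExact_tensor_of_isFlat E hS (isFlat_of_isFinLocFree c))
      (isFinLocFree_tensor hE a) (isFinLocFree_tensor hE b) (isFinLocFree_tensor hE c)
  choose r hr using fun E : {E : X.Modules // FlatMod.IsFinLocFree E} =>
    KModel.exists_lift (fun F => KRR.cl X (tensor E.1 F)) (right E.1 E.2)
  classical
  obtain ⟨m, hm⟩ := KModel.exists_lift (X := X) (G := SGA6.Kvb X →+ SGA6.Kvb X)
    (fun E => if h : FlatMod.IsFinLocFree E then r ⟨E, h⟩ else 0) fun S hS a b c => by
      simp only [dif_pos a, dif_pos b, dif_pos c]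
      refine KModel.kvb_ext fun F hF => ?_
      rw [AddMonoidHom.add_apply, hr _ F hF, hr _ F hF, hr _ F hF, cl_tensor_comm b hF, cl_tensor_comm a hF,
        cl_tensor_comm c hF]
      exact right F hF S hS a b c
  refine ⟨m, fun E F hE hF => ?_⟩
  rw [hm E hE, dif_pos hE, hr _ F hF]

/-- The product. -/
def mulHom : SGA6.Kvb X →+ SGA6.Kvb X →+ SGA6.Kvb X := exists_mul.choose

theorem mulHom_cl {E F : X.Modules} (hE : FlatMod.IsFinLocFree E) (hF : FlatMod.IsFinLocFree F) :
    mulHom (KRR.cl X E) (KRR.cl X F) = KRR.cl X (tensor E F) := exists_mul.choose_spec E F hE hF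

theorem mulHom_comm (x y : SGA6.Kvb X) : mulHom x y = mulHom y x := by
  have : ∀ F : X.Modules, FlatMod.IsFinLocFree F → ∀ x, mulHom x (KRR.cl X F) = mulHom (KRR.cl X F) x :=
    fun F hF x => DFunLike.congr_fun (KModel.kvb_ext (a := mulHom.flip (KRR.cl X F)) (b := mulHom (KRR.cl X F))
      fun E hE => by rw [AddMonoidHom.flip_apply, mulHom_cl hE hF, mulHom_cl hF hE, cl_tensor_comm hE hF]) x
  exact DFunLike.congr_fun (KModel.kvb_ext (a := mulHom x) (b := mulHom.flip x) fun F hF => this F hF x) y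

theorem mulHom_assoc (x y z : SGA6.Kvb X) : mulHom (mulHom x y) z = mulHom x (mulHom y z) := by
  have h3 : ∀ E F : X.Modules, FlatMod.IsFinLocFree E → FlatMod.IsFinLocFree F → ∀ z,
      mulHom (mulHom (KRR.cl X E) (KRR.cl X F)) z = mulHom (KRR.cl X E) (mulHom (KRR.cl X F) z) :=
    fun E F hE hF z => DFunLike.congr_fun (KModel.kvb_ext (a := mulHom (mulHom (KRR.cl X E) (KRR.cl X F)))
      (b := (mulHom (KRR.cl X E)).comp (mulHom (KRR.cl X F))) fun G hG => by
        rw [AddMonoidHom.comp_apply, mulHom_cl hE hF, mulHom_cl hF hG, mulHom_cl (isFinLocFree_tensor hE hF) hG,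
          mulHom_cl hE (isFinLocFree_tensor hF hG)]
        exact KModel.cl_iso (H10Coh.Tw.assoc E F G) (isFinLocFree_tensor (isFinLocFree_tensor hE hF) hG)) z
  have h2 : ∀ E : X.Modules, FlatMod.IsFinLocFree E → ∀ y z,
      mulHom (mulHom (KRR.cl X E) y) z = mulHom (KRR.cl X E) (mulHom y z) := fun E hE y z =>
    DFunLike.congr_fun (KModel.kvb_ext (a := (mulHom.flip z).comp (mulHom (KRR.cl X E)))
      (b := (mulHom (KRR.cl X E)).comp (mulHom.flip z)) fun F hF => h3 E F hE hF z) y
  exact DFunLike.congr_fun (KModel.kvb_ext (a := (mulHom.flip z).comp (mulHom.flip y))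
    (b := mulHom.flip (mulHom y z)) fun E hE => h2 E hE y z) x

theorem finLocFree_structure (X : Scheme.{u}) : FlatMod.IsFinLocFree (Coh.structureModule X) :=
  KPush.finLocFree_structure X

theorem one_mulHom (x : SGA6.Kvb X) : mulHom (KRR.cl X (Coh.structureModule X)) x = x :=
  DFunLike.congr_fun (KModel.kvb_ext (b := AddMonoidHom.id _) fun E hE => by
    rw [mulHom_cl (finLocFree_structure X) hE]
    exact KModel.cl_iso (RegSheaf.leftUnit E) (isFinLocFree_tensor (finLocFree_structure X) hE)) x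

/-- `K₀` as a commutative ring. -/
@[reducible] def commRing (X : Scheme.{u}) : CommRing (SGA6.Kvb X) :=
  { (inferInstance : AddCommGroup (SGA6.Kvb X)) with
    mul := fun x y => mulHom x y
    one := KRR.cl X (Coh.structureModule X)
    mul_assoc := mulHom_assoc
    one_mul := one_mulHom
    mul_one := fun x => (mulHom_comm _ _).trans (one_mulHom x)
    left_distrib := fun x y z => map_add (mulHom x) y z
    right_distrib := fun x y z => DFunLike.congr_fun (map_add mulHom x y) z
    mul_comm := mulHom_comm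
    zero_mul := fun x => DFunLike.congr_fun (map_zero mulHom) x
    mul_zero := fun x => map_zero (mulHom x) }

attribute [local instance] commRing

theorem cl_mul {E F : X.Modules} (hE : FlatMod.IsFinLocFree E) (hF : FlatMod.IsFinLocFree F) :
    KRR.cl X E * KRR.cl X F = KRR.cl X (tensor E F) := mulHom_cl hE hF

theorem cl_structure : KRR.cl X (Coh.structureModule X) = 1 := rfl

/-- The total exterior power of a bundle. -/
def lamS (E : X.Modules) : PowerSeries (SGA6.Kvb X) := PowerSeries.mk fun i => KRR.cl X (extP i E)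

theorem lamS_unit {E : X.Modules} (hE : FlatMod.IsFinLocFree E) : IsUnit (lamS E) := by
  rw [PowerSeries.isUnit_iff_constantCoeff, ← PowerSeries.coeff_zero_eq_constantCoeff_apply, lamS,
    PowerSeries.coeff_mk, cl_extP hE (isExtPow_zero E)]
  exact isUnit_one

variable [AlgebraicGeometry.IsNoetherian X]

theorem lamS_mul {S : ShortComplex X.Modules} (hS : S.ShortExact)
    (h₁ : FlatMod.IsFinLocFree S.X₁) (h₂ : FlatMod.IsFinLocFree S.X₂) (h₃ : FlatMod.IsFinLocFree S.X₃) :
    lamS S.X₂ = lamS S.X₁ * lamS S.X₃ := by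
  refine PowerSeries.ext fun i => ?_
  rw [PowerSeries.coeff_mul, lamS, lamS, lamS, PowerSeries.coeff_mk,
    ExtPowSES.cl_extPow_shortExact hS h₁ h₂ h₃ (extP_spec i h₂) (fun j => extP j S.X₁) (fun j => extP j S.X₃)
      (fun j => extP_spec j h₁) (fun j => extP_spec j h₃),
    Finset.Nat.sum_antidiagonal_eq_sum_range_succ_mk]
  refine Finset.sum_congr rfl fun j _ => ?_
  rw [PowerSeries.coeff_mk, PowerSeries.coeff_mk, cl_mul (finLocFree_extP j h₁) (finLocFree_extP _ h₃)]

theorem exists_lamHom : ∃ Λ : SGA6.Kvb X →+ Additive (PowerSeries (SGA6.Kvb X))ˣ, ∀ E : X.Modules,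
    FlatMod.IsFinLocFree E → ((Λ (KRR.cl X E)).toMul : PowerSeries (SGA6.Kvb X)) = lamS E := by
  classical
  obtain ⟨Λ, hΛ⟩ := KModel.exists_lift (X := X) (G := Additive (PowerSeries (SGA6.Kvb X))ˣ)
    (fun E => if h : FlatMod.IsFinLocFree E then Additive.ofMul (lamS_unit h).unit else 0) fun S hS a b c => by
      simp only [dif_pos a, dif_pos b, dif_pos c]
      refine Additive.toMul.injective (Units.ext ?_)
      simp [lamS_mul hS a b c]
  refine ⟨Λ, fun E hE => ?_⟩
  rw [hΛ E hE, dif_pos hE]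
  simp

/-- The λ-series. -/
def lamHom : SGA6.Kvb X →+ Additive (PowerSeries (SGA6.Kvb X))ˣ := exists_lamHom.choose

/-- The λ-operation. -/
def lamOp (i : ℕ) (x : SGA6.Kvb X) : SGA6.Kvb X :=
  PowerSeries.coeff i ((lamHom x).toMul : PowerSeries (SGA6.Kvb X))

theorem lamOp_cl (i : ℕ) {E : X.Modules} (hE : FlatMod.IsFinLocFree E) :
    lamOp i (KRR.cl X E) = KRR.cl X (extP i E) := by
  rw [lamOp, lamHom, exists_lamHom.choose_spec E hE, lamS, PowerSeries.coeff_mk]

theorem lamOp_add (k : ℕ) (x y : SGA6.Kvb X) :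
    lamOp k (x + y) = ∑ i ∈ Finset.range (k + 1), lamOp i x * lamOp (k - i) y := by
  simp only [lamOp, map_add, toMul_add, Units.val_mul, PowerSeries.coeff_mul]
  exact Finset.Nat.sum_antidiagonal_eq_sum_range_succ_mk _ k

theorem lamOp_zero (x : SGA6.Kvb X) : lamOp 0 x = 1 := by
  have h : ((AddMonoidHom.mk' (fun x => Additive.ofMul (Units.map (PowerSeries.constantCoeff (R := SGA6.Kvb X)).toMonoidHom
      (lamHom x).toMul)) fun a b => by simp)) = 0 := KModel.kvb_ext fun E hE => by
    refine Additive.toMul.injective (Units.ext ?_)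
    show PowerSeries.constantCoeff ((lamHom (KRR.cl X E)).toMul : PowerSeries (SGA6.Kvb X)) = 1
    rw [← PowerSeries.coeff_zero_eq_constantCoeff_apply]
    exact (lamOp_cl 0 hE).trans ((cl_extP hE (isExtPow_zero E)).trans cl_structure)
  have := congrArg (fun f => ((Additive.toMul (f x) : (SGA6.Kvb X)ˣ) : SGA6.Kvb X)) h
  rw [lamOp, PowerSeries.coeff_zero_eq_constantCoeff_apply]
  exact this

theorem lamOp_one (x : SGA6.Kvb X) : lamOp 1 x = x := by
  refine DFunLike.congr_fun (KModel.kvb_ext (a := AddMonoidHom.mk' (fun x => lamOp 1 x) fun a b => ?_)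
    (b := AddMonoidHom.id _) fun E hE => ?_) x
  · rw [lamOp_add, Finset.sum_range_succ, Finset.sum_range_one, lamOp_zero, lamOp_zero, one_mul, mul_one, add_comm]
  · exact (lamOp_cl 1 hE).trans (cl_extP hE (isExtPow_one E))

/-- `K₀` as a λ-ring. -/
@[reducible] def lambdaOps (X : Scheme.{u}) [AlgebraicGeometry.IsNoetherian X] : LambdaOps (SGA6.Kvb X) where
  lam := lamOp
  lam_zero := lamOp_zero
  lam_one := lamOp_one
  lam_add := lamOp_add

attribute [local instance] lambdaOps

variable [ConnectedSpace ↥X]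

/-- The rank as an additive map. -/
theorem exists_aug (x₀ : X) : ∃ ε : SGA6.Kvb X →+ ℤ, ∀ E : X.Modules, FlatMod.IsFinLocFree E →
    ε (KRR.cl X E) = rk x₀ E :=
  KModel.exists_lift (fun E => (rk x₀ E : ℤ)) fun S hS a _ c => by
    rw [rk_add hS a c x₀]; push_cast; rfl

omit [AlgebraicGeometry.IsNoetherian X] [ConnectedSpace ↥X] in
theorem exists_diff (x : SGA6.Kvb X) : ∃ A B : X.Modules, FlatMod.IsFinLocFree A ∧ FlatMod.IsFinLocFree B ∧
    x = KRR.cl X A - KRR.cl X B := by
  induction x using QuotientAddGroup.induction_on with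
  | H z =>
    induction z using FreeAbelianGroup.induction_on with
    | zero =>
      refine ⟨Coh.structureModule X, Coh.structureModule X, finLocFree_structure X, finLocFree_structure X, ?_⟩
      rw [sub_self]; rfl
    | of E =>
      have h0 : IsZero (FlatMod.freeMod X 0) := by
        rw [IsZero.iff_id_eq_zero]
        exact Sigma.hom_ext _ _ fun i => Fin.elim0 i
      refine ⟨E.1, _, E.2, KModel.finLocFree_zero h0, ?_⟩
      rw [KModel.cl_isZero h0, sub_zero, KRR.cl, KZero.clSub, dif_pos (show KRR.vbP X E.1 from E.2)]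
    | neg E ih =>
      obtain ⟨A, B, hA, hB, h⟩ := ih
      exact ⟨B, A, hB, hA, by rw [QuotientAddGroup.mk_neg, h, neg_sub]⟩
    | add a b iha ihb =>
      obtain ⟨A, B, hA, hB, h⟩ := iha
      obtain ⟨A', B', hA', hB', h'⟩ := ihb
      refine ⟨A ⊞ A', B ⊞ B', isFinLocFree_biprod hA hA', isFinLocFree_biprod hB hB', ?_⟩
      rw [QuotientAddGroup.mk_add, h, h', KModel.cl_biprod hA hA', KModel.cl_biprod hB hB']
      abel

theorem isInvertible_of_rank_one {L : X.Modules} (h : FlatMod.IsFinLocFreeOfRank 1 L) : PicF.IsInvertible L :=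
  fun x => by
    obtain ⟨U, hxU, ⟨e⟩⟩ := h x
    exact ⟨U, hxU, ⟨e ≪≫ coproductUniqueIso fun _ : Fin 1 => Coh.structureModule (↑U)⟩⟩

theorem exists_model : ∃ (K : Type (u + 1)) (_ : CommRing K) (_ : LambdaOps K) (P : PosStructure K)
    (φ : SGA6.Kvb X →+ K), KRR.IsModel X K P φ := by
  obtain ⟨x₀⟩ : Nonempty ↥X := inferInstance
  obtain ⟨ε, hε⟩ := exists_aug x₀
  have hεn : ∀ {n : ℕ} {E : X.Modules}, FlatMod.IsFinLocFreeOfRank n E → ε (KRR.cl X E) = n := fun {n E} h => by
    rw [hε E (KModel.finLocFree_of_rank h), rk_of_rank h x₀]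
  have hone : ε 1 = 1 :=
    (hεn (KModel.finLocFreeOfRank_invertible (PnDeg0.isInvertible_structure X))).trans Nat.cast_one
  have hmul : ∀ x y, ε (x * y) = ε x * ε y := fun x y => by
    have h1 : ∀ E : X.Modules, FlatMod.IsFinLocFree E → ∀ y, ε (KRR.cl X E * y) = ε (KRR.cl X E) * ε y :=
      fun E hE => DFunLike.congr_fun (KModel.kvb_ext (a := ε.comp (AddMonoidHom.mulLeft (KRR.cl X E)))
        (b := (AddMonoidHom.mulLeft (ε (KRR.cl X E))).comp ε) fun F hF => by
          show ε (KRR.cl X E * KRR.cl X F) = ε (KRR.cl X E) * ε (KRR.cl X F)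
          rw [cl_mul hE hF, hε _ (isFinLocFree_tensor hE hF), hε E hE, hε F hF, rk_tensor hE hF]
          push_cast; rfl)
    exact DFunLike.congr_fun (KModel.kvb_ext (a := ε.comp (AddMonoidHom.mulRight y))
      (b := (AddMonoidHom.mulRight (ε y)).comp ε) fun E hE => h1 E hE y) x
  let aug : SGA6.Kvb X →+* ℤ := { ε with map_one' := hone, map_mul' := hmul }
  let pos : Set (SGA6.Kvb X) :=
    {x | ∃ (n : ℕ) (E : X.Modules), 1 ≤ n ∧ FlatMod.IsFinLocFreeOfRank n E ∧ KRR.cl X E = x}
  have posmk : ∀ {E : X.Modules}, FlatMod.IsFinLocFree E → 0 < rk x₀ E → KRR.cl X E ∈ pos := fun {E} hE h =>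
    ⟨_, E, h, ofRank_rk hE x₀, rfl⟩
  have hOrk : rk x₀ (Coh.structureModule X) = 1 :=
    rk_of_rank (KModel.finLocFreeOfRank_invertible (PnDeg0.isInvertible_structure X)) x₀
  have hbirk : ∀ {A B : X.Modules}, FlatMod.IsFinLocFree A → FlatMod.IsFinLocFree B →
      rk x₀ (A ⊞ B) = rk x₀ A + rk x₀ B := fun {A B} hA hB => by
    have := hε _ (isFinLocFree_biprod hA hB)
    rw [KModel.cl_biprod hA hB, map_add, hε A hA, hε B hB] at this
    exact_mod_cast this.symm
  let P : PosStructure (SGA6.Kvb X) :=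
    { aug := aug
      aug_surjective := fun k => ⟨(k : SGA6.Kvb X), map_intCast aug k⟩
      pos := pos
      add_mem := by
        rintro _ _ ⟨n, E, hn, hE, rfl⟩ ⟨m, F, hm, hF, rfl⟩
        have hE' := KModel.finLocFree_of_rank hE
        have hF' := KModel.finLocFree_of_rank hF
        rw [← KModel.cl_biprod hE' hF']
        refine posmk (isFinLocFree_biprod hE' hF') ?_
        rw [hbirk hE' hF', rk_of_rank hE, rk_of_rank hF]
        omega
      mul_mem := by
        rintro _ _ ⟨n, E, hn, hE, rfl⟩ ⟨m, F, hm, hF, rfl⟩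
        have hE' := KModel.finLocFree_of_rank hE
        have hF' := KModel.finLocFree_of_rank hF
        rw [cl_mul hE' hF']
        refine posmk (isFinLocFree_tensor hE' hF') ?_
        rw [rk_tensor hE' hF', rk_of_rank hE, rk_of_rank hF]
        exact Nat.mul_pos hn hm
      natCast_mem := fun n hn => by
        have h : ∀ k : ℕ, KRR.cl X (FlatMod.freeMod X k) = (k : SGA6.Kvb X) := fun k => by
          induction k with
          | zero =>
            rw [Nat.cast_zero]
            exact KModel.cl_isZero (by rw [IsZero.iff_id_eq_zero]; exact Sigma.hom_ext _ _ fun i => Fin.elim0 i)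
          | succ k ih =>
            rw [KModel.cl_iso (KModel.freeSucc k) (KModel.finLocFree_free _),
              KModel.cl_biprod (finLocFree_structure X) (KModel.finLocFree_free _), ih, cl_structure]
            push_cast; ring
        refine ⟨rk x₀ (FlatMod.freeMod X n), _, ?_, ofRank_rk (KModel.finLocFree_free n) x₀, h n⟩
        have := hε _ (KModel.finLocFree_free (X := X) n)
        rw [h n] at this
        have h' : aug (n : SGA6.Kvb X) = n := map_natCast aug n
        have : (n : ℤ) = rk x₀ (FlatMod.freeMod X n) := h'.symm.trans this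
        omega
      exists_sub := fun x => by
        obtain ⟨A, B, hA, hB, rfl⟩ := exists_diff x
        refine ⟨KRR.cl X (A ⊞ Coh.structureModule X), KRR.cl X (B ⊞ Coh.structureModule X),
          posmk (isFinLocFree_biprod hA (finLocFree_structure X)) (by rw [hbirk hA (finLocFree_structure X)]; omega),
          posmk (isFinLocFree_biprod hB (finLocFree_structure X)) (by rw [hbirk hB (finLocFree_structure X)]; omega), ?_⟩
        rw [KModel.cl_biprod hA (finLocFree_structure X), KModel.cl_biprod hB (finLocFree_structure X)]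
        abel
      aug_pos := by
        rintro _ ⟨n, E, hn, hE, rfl⟩
        show 0 < ε (KRR.cl X E)
        rw [hεn hE]; exact_mod_cast hn
      lam_eq_zero := by
        rintro _ ⟨n, E, -, hE, rfl⟩ i hi
        have hE' := KModel.finLocFree_of_rank hE
        replace hi : (n : ℤ) < i := (hεn hE).symm.trans_lt hi
        show lamOp i (KRR.cl X E) = 0
        rw [lamOp_cl i hE']
        refine KModel.cl_isZero (PBRel.isZero_of_rank_zero ?_)
        have h := ofRank_rk (finLocFree_extP i hE') x₀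
        rwa [rk_extPow hE' (extP_spec i hE'), rk_of_rank hE, Nat.choose_eq_zero_of_lt (by omega)] at h
      isUnit_lam := by
        rintro _ ⟨n, E, -, hE, rfl⟩
        have hE' := KModel.finLocFree_of_rank hE
        show IsUnit (lamOp (ε (KRR.cl X E)).toNat (KRR.cl X E))
        rw [hεn hE, Int.toNat_natCast, lamOp_cl n hE']
        have h := ofRank_rk (finLocFree_extP n hE') x₀
        rw [rk_extPow hE' (extP_spec n hE'), rk_of_rank hE, Nat.choose_self] at h
        obtain ⟨L', hL', ⟨e⟩⟩ := H11Sym.exists_inverse (isInvertible_of_rank_one h)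
        refine IsUnit.of_mul_eq_one (KRR.cl X L') ?_
        have hL'f := KModel.finLocFree_invertible hL'
        rw [mul_comm, cl_mul hL'f (finLocFree_extP n hE'), ← cl_structure]
        exact KModel.cl_iso e (isFinLocFree_tensor hL'f (finLocFree_extP n hE')) }
  exact ⟨SGA6.Kvb X, commRing X, lambdaOps X, P, AddMonoidHom.id _,
    { bijective := Function.bijective_id
      map_one := rfl
      map_mul := fun E F hE hF => mulHom_cl hE hF
      map_lam := fun i E L hE _ hL => (lamOp_cl i hE).trans (cl_extP hE hL)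
      aug_cl := fun n E hE => hεn hE
      mem_pos_iff := fun x => Iff.rfl }⟩

end Ring

end Groth.Agent.H22Alg.KExists
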