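import Groth.Agent.H22Alg.DimFormula
import Groth.Agent.H17.DimIneqScheme
import Groth.Agent.H8Props.UnivCatenary
import Groth.Prelude.Def_Cyc

/-! Dimension functions along morphisms locally of finite type. -/

set_option autoImplicit false
set_option linter.style.haveILetI false

universe u

open CategoryTheory AlgebraicGeometry
open Groth.Agent.H7Flat (evKer evKer_eq trdeg_residue_eq)

namespace Groth.Agent.H22Alg.DimFunLft

/-- The height of `q/Q` read off on the scheme. -/
theorem height_evKer_spec {X : Scheme.{u}} [IsLocallyNoetherian X] {V : X.Opens} (hV : IsAffineOpen V)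
    {x y : X} (h : x ⤳ y) (hx : x ∈ V) (hy : y ∈ V) :
    ∃ n : ℕ, ((evKer V y hy).map (Ideal.Quotient.mk (evKer V x hx))).height = n ∧
      (∀ δ : X → ℤ, Cyc.IsDimFun X δ → δ x = δ y + n) ∧ (x ≠ y → 1 ≤ n) ∧
      ((∀ z : X, x ⤳ z → z ⤳ y → z = x ∨ z = y) → x ≠ y → n = 1) := by
  set P := evKer V x hx
  set p := evKer V y hy
  haveI hPp : P.IsPrime := RingHom.ker_isPrime _
  haveI hpp : p.IsPrime := RingHom.ker_isPrime _
  have hle : P ≤ p := H7Flat.evKer_le_of_specializes V h hx hy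
  haveI : IsNoetherianRing Γ(X, V) := IsLocallyNoetherian.component_noetherian ⟨V, hV⟩
  haveI : (p.map (Ideal.Quotient.mk P)).IsPrime :=
    Ideal.map_isPrime_of_surjective Ideal.Quotient.mk_surjective (by rwa [Ideal.mk_ker])
  let g : PrimeSpectrum (Γ(X, V) ⧸ P) → X := fun J => hV.fromSpec (H02CA.quotEmbedding P J)
  have hg : ∀ J J', g J ⤳ g J' ↔ J ≤ J' := fun J J' =>
    (hV.fromSpec.isOpenEmbedding.isInducing.specializes_iff.trans (PrimeSpectrum.le_iff_specializes _ _).symm).trans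
      (H02CA.quotEmbedding P).le_iff_le
  have hginj : Function.Injective g := hV.fromSpec.isOpenEmbedding.injective.comp (H02CA.quotEmbedding P).injective
  have hbot : g ⟨⊥, Ideal.isPrime_bot⟩ = x := by
    refine Eq.trans ?_ (hV.fromSpec_primeIdealOf ⟨x, hx⟩)
    refine congrArg hV.fromSpec (PrimeSpectrum.ext ?_)
    show Ideal.comap (Ideal.Quotient.mk P) ⊥ = _
    rw [← RingHom.ker_eq_comap_bot, Ideal.mk_ker]
    exact evKer_eq hV x hx
  let q : PrimeSpectrum (Γ(X, V) ⧸ P) := ⟨p.map (Ideal.Quotient.mk P), inferInstance⟩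
  have hq : g q = y := by
    refine Eq.trans ?_ (hV.fromSpec_primeIdealOf ⟨y, hy⟩)
    refine congrArg hV.fromSpec (PrimeSpectrum.ext ?_)
    show Ideal.comap (Ideal.Quotient.mk P) (p.map (Ideal.Quotient.mk P)) = _
    rw [Ideal.comap_map_of_surjective' _ Ideal.Quotient.mk_surjective, Ideal.mk_ker, sup_eq_left.mpr hle]
    exact evKer_eq hV y hy
  have hbetween : ∀ {J J' : PrimeSpectrum (Γ(X, V) ⧸ P)} (z : X), g J ⤳ z → z ⤳ g J' → ∃ K, g K = z := by
    intro J J' z hJ hJ'
    obtain ⟨K₀, rfl⟩ : z ∈ Set.range hV.fromSpec := hJ'.mem_open hV.fromSpec.isOpenEmbedding.isOpen_range ⟨_, rfl⟩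
    have h1 : H02CA.quotEmbedding P J ≤ K₀ :=
      (PrimeSpectrum.le_iff_specializes _ _).mpr (hV.fromSpec.isOpenEmbedding.isInducing.specializes_iff.mp hJ)
    obtain ⟨K, rfl⟩ := (H02CA.mem_range_quotEmbedding P).mpr
      (le_trans ((H02CA.mem_range_quotEmbedding P).mp ⟨J, rfl⟩) h1)
    exact ⟨K, rfl⟩
  obtain ⟨n, hn⟩ := ENat.ne_top_iff_exists.mp (Ideal.height_ne_top (I := q.asIdeal) q.isPrime.ne_top)
  refine ⟨n, hn.symm, fun δ hδ => ?_, fun hxy => ?_, fun himm hxy => ?_⟩
  · have hh : Order.height q = (n : ℕ∞) := by rw [← PrimeSpectrum.height_eq_orderHeight]; exact hn.symm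
    obtain ⟨s, hs, hlen⟩ := Order.exists_series_of_height_eq_coe q hh
    have hmax : ∀ t : LTSeries (PrimeSpectrum (Γ(X, V) ⧸ P)), t.last = q → t.length ≤ s.length := fun t ht => by
      have := Order.length_le_height (p := t) (le_of_eq ht)
      rw [hh] at this
      rw [hlen]
      exact_mod_cast this
    have hhead : s.head = ⟨⊥, Ideal.isPrime_bot⟩ := by
      by_contra hne
      have hlt : (⟨⊥, Ideal.isPrime_bot⟩ : PrimeSpectrum (Γ(X, V) ⧸ P)) < s.head :=
        lt_of_le_of_ne (show (⊥ : Ideal _) ≤ _ from bot_le) (Ne.symm hne)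
      have := hmax (s.cons _ hlt) (by rw [RelSeries.last_cons]; exact hs)
      simp at this
    have hsat : H02CA.Saturated s := H02CA.saturated_of_forall_length_le s fun t _ ht => hmax t (ht.trans hs)
    have key : ∀ i, (hi : i ≤ s.length) → δ (g s.head) = δ (g (s ⟨i, by omega⟩)) + i := by
      intro i
      induction i with
      | zero => intro _; rw [Nat.cast_zero, add_zero]; rfl
      | succ i ih =>
        intro hi
        have hcov := hsat ⟨i, hi⟩
        have hd := (hδ _ _ ((hg _ _).mpr hcov.1.le) fun e => hcov.1.ne (hginj e)).2 fun z h1 h2 => by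
          obtain ⟨K, rfl⟩ := hbetween z h1 h2
          rcases eq_or_lt_of_le ((hg _ _).mp h1) with e | e
          · exact Or.inl (by rw [← e])
          · rcases eq_or_lt_of_le ((hg _ _).mp h2) with e' | e'
            · exact Or.inr (by rw [e'])
            · exact absurd e' (hcov.2 e)
        rw [ih (by omega)]
        change δ (g (s (⟨i, hi⟩ : Fin s.length).castSucc)) + (i : ℤ) = _
        rw [hd]
        push_cast
        rw [add_assoc, add_comm (1 : ℤ)]
        rfl
    have h1 := key s.length le_rfl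
    rw [show s ⟨s.length, _⟩ = q from hs, hhead, hbot, hq, hlen] at h1
    exact h1
  · refine Nat.one_le_iff_ne_zero.mpr fun h0 => hxy ?_
    have hh : Order.height q = (n : ℕ∞) := by rw [← PrimeSpectrum.height_eq_orderHeight]; exact hn.symm
    have hmin : IsMin q := Order.height_eq_zero.mp (by rw [hh, h0]; rfl)
    have : (⟨⊥, Ideal.isPrime_bot⟩ : PrimeSpectrum (Γ(X, V) ⧸ P)) = q :=
      le_antisymm (show (⊥ : Ideal _) ≤ _ from bot_le) (hmin (show (⊥ : Ideal _) ≤ _ from bot_le))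
    rw [← hbot, ← hq, this]
  · have hh : Order.height q = (n : ℕ∞) := by rw [← PrimeSpectrum.height_eq_orderHeight]; exact hn.symm
    have hle1 : Order.height q ≤ 1 := by
      refine (Order.height_le_coe_iff (n := 1)).mpr fun J hJ => ?_
      rcases himm (g J) (by rw [← hbot]; exact (hg _ _).mpr (show (⊥ : Ideal _) ≤ _ from bot_le))
        (by rw [← hq]; exact (hg _ _).mpr hJ.le) with e | e
      · have hmin : IsMin J := by
          rw [hginj (e.trans hbot.symm)]
          exact fun b _ => show (⊥ : Ideal _) ≤ _ from bot_le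
        rw [Order.height_eq_zero.mpr hmin]
        exact_mod_cast Nat.one_pos
      · exact absurd (hginj (e.trans hq.symm)) hJ.ne
    have h1 : n ≤ 1 := by rw [hh] at hle1; exact_mod_cast hle1
    have h2 : n ≠ 0 := fun h0 => by
      have hmin : IsMin q := Order.height_eq_zero.mp (by rw [hh, h0]; rfl)
      have : (⟨⊥, Ideal.isPrime_bot⟩ : PrimeSpectrum (Γ(X, V) ⧸ P)) = q :=
        le_antisymm (show (⊥ : Ideal _) ≤ _ from bot_le) (hmin (show (⊥ : Ideal _) ≤ _ from bot_le))
      exact hxy (by rw [← hbot, ← hq, this])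
    omega

theorem trdeg_congr {R R' A A' : Type u} [CommRing R] [CommRing R'] [CommRing A] [CommRing A'] [Algebra R A]
    [Algebra R' A'] [IsDomain A'] [FaithfulSMul R' A'] (e₁ : R ≃+* R') (e₂ : A ≃+* A')
    (h : ∀ r, algebraMap R' A' (e₁ r) = e₂ (algebraMap R A r)) : Algebra.trdeg R A = Algebra.trdeg R' A' := by
  letI : Algebra R R' := e₁.toRingHom.toAlgebra
  letI : Algebra R A' := ((algebraMap R' A').comp e₁.toRingHom).toAlgebra
  haveI : IsScalarTower R R' A' := IsScalarTower.of_algebraMap_eq fun _ => rfl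
  haveI : FaithfulSMul R R' := (faithfulSMul_iff_algebraMap_injective _ _).2 e₁.injective
  haveI : Nontrivial R' := (algebraMap R' A').domain_nontrivial
  haveI : Nontrivial R := e₁.toEquiv.nontrivial
  haveI : Algebra.IsAlgebraic R R' := ⟨fun r => by
    obtain ⟨r, rfl⟩ := e₁.surjective r
    exact isAlgebraic_algebraMap r⟩
  let e' : A ≃ₐ[R] A' := AlgEquiv.ofRingEquiv (f := e₂) fun r => (h r).symm
  have h' := trdeg_add_eq R R' (A := A')
  rw [trdeg_eq_zero, zero_add] at h'
  rw [e'.trdeg_eq, h']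

/-- Affine opens of a scheme with universally catenary local rings have universally catenary sections. -/
theorem isUniversallyCatenary_sections {S : Scheme.{u}} [IsLocallyNoetherian S]
    (h : ∀ s : S, CAlg.IsUniversallyCatenary (S.presheaf.stalk s)) {V : S.Opens} (hV : IsAffineOpen V) :
    CAlg.IsUniversallyCatenary Γ(S, V) := by
  refine ⟨IsLocallyNoetherian.component_noetherian ⟨V, hV⟩, fun B _ _ hB => ?_⟩
  let f : Spec (CommRingCat.of B) ⟶ S := Spec.map (CommRingCat.ofHom (algebraMap Γ(S, V) B)) ≫ hV.fromSpec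
  have hf : LocallyOfFiniteType f := by
    have : LocallyOfFiniteType (Spec.map (CommRingCat.ofHom (algebraMap Γ(S, V) B))) := by
      rw [HasRingHomProperty.Spec_iff (P := @LocallyOfFiniteType)]
      exact RingHom.finiteType_algebraMap.mpr hB
    infer_instance
  exact (H8Props.CatenaryBridge.isCatenarySpace_primeSpectrum_iff B).mp
    (H8Props.UnivCatenary.isCatenarySpace_of_stalks h _ f hf)

theorem isDimFun_of_deltaCompat {X S : Scheme.{u}} (f : X ⟶ S) [LocallyOfFiniteType f] (δ : S → ℤ)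
    (hS : Cyc.IsSetup S δ) (δX : X → ℤ) (hδ : Cyc.DeltaCompat f δX δ) : Cyc.IsDimFun X δX := by
  haveI := hS.1
  haveI : IsLocallyNoetherian X := LocallyOfFiniteType.isLocallyNoetherian f
  intro x y hxy hne
  obtain ⟨V, hV, hyV, -⟩ := exists_isAffineOpen_mem_and_subset (x := f y) (U := ⊤) trivial
  obtain ⟨U, hU, hyU, hle⟩ := exists_isAffineOpen_mem_and_subset (x := y) (U := f ⁻¹ᵁ V) hyV
  have hxU : x ∈ U := hxy.mem_open U.2 hyU
  have hfxy : f x ⤳ f y := hxy.map f.continuous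
  obtain ⟨hPQx, htrx⟩ := trdeg_residue_eq f hV hU hle x hxU
  obtain ⟨hPQy, htry⟩ := trdeg_residue_eq f hV hU hle y hyU
  obtain ⟨a, ha, hXa⟩ := hδ x
  obtain ⟨b, hb, hXb⟩ := hδ y
  obtain ⟨m, hm, hmd, -, -⟩ := height_evKer_spec hV hfxy (hle hxU) hyV
  obtain ⟨k, hk, -, hk1, hkimm⟩ := height_evKer_spec hU hxy hxU hyU
  have hmδ := hmd δ hS.2.2
  letI := (f.appLE V U hle).hom.toAlgebra
  haveI hPx : (evKer U x hxU).LiesOver (evKer V (f x) (hle hxU)) := ⟨by
    ext r
    show S.evaluation V (f x) _ r = 0 ↔ X.evaluation U x hxU (f.appLE V U hle r) = 0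
    rw [← H7Flat.evaluation_appLE f hle x hxU r]
    exact ((map_eq_zero_iff _ (f.residueFieldMap x).hom.injective)).symm⟩
  haveI hPy : (evKer U y hyU).LiesOver (evKer V (f y) hyV) := ⟨by
    ext r
    show S.evaluation V (f y) _ r = 0 ↔ X.evaluation U y hyU (f.appLE V U hle r) = 0
    rw [← H7Flat.evaluation_appLE f hle y hyU r]
    exact ((map_eq_zero_iff _ (f.residueFieldMap y).hom.injective)).symm⟩
  haveI : Algebra.FiniteType Γ(S, V) Γ(X, U) := RingHom.finiteType_algebraMap.1 (f.finiteType_appLE hV hU hle)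
  set P := evKer V (f x) (hle hxU)
  set Q := evKer U x hxU
  set p := evKer V (f y) hyV
  set q := evKer U y hyU
  haveI : P.IsPrime := RingHom.ker_isPrime _
  haveI : Q.IsPrime := RingHom.ker_isPrime _
  haveI : p.IsPrime := RingHom.ker_isPrime _
  haveI : q.IsPrime := RingHom.ker_isPrime _
  have hPp : P ≤ p := H7Flat.evKer_le_of_specializes V hfxy _ hyV
  have hQq : Q ≤ q := H7Flat.evKer_le_of_specializes U hxy hxU hyU
  have hcat : CAlg.IsUniversallyCatenary (Γ(S, V) ⧸ P) := by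
    obtain ⟨hN, hR⟩ := isUniversallyCatenary_sections hS.2.1 hV
    refine ⟨inferInstance, fun B _ _ hB => ?_⟩
    letI : Algebra Γ(S, V) B := Algebra.compHom B (Ideal.Quotient.mk P)
    haveI : IsScalarTower Γ(S, V) (Γ(S, V) ⧸ P) B := IsScalarTower.of_algebraMap_eq fun _ => rfl
    exact hR B (Algebra.FiniteType.trans (S := Γ(S, V) ⧸ P) inferInstance hB)
  haveI : FaithfulSMul (Γ(S, V) ⧸ P) (Γ(X, U) ⧸ Q) := (faithfulSMul_iff_algebraMap_injective _ _).2
    ((injective_iff_map_eq_zero _).2 fun r hr => by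
      obtain ⟨r, rfl⟩ := Ideal.Quotient.mk_surjective r
      rw [Ideal.Quotient.eq_zero_iff_mem, Ideal.LiesOver.over (p := P) (P := Q)]
      exact (Ideal.Quotient.eq_zero_iff_mem (I := Q)).1 hr)
  haveI : Algebra.FiniteType (Γ(S, V) ⧸ P) (Γ(X, U) ⧸ Q) :=
    haveI : Algebra.FiniteType Γ(S, V) (Γ(X, U) ⧸ Q) := Algebra.FiniteType.trans (S := Γ(X, U)) inferInstance inferInstance
    Algebra.FiniteType.of_restrictScalars_finiteType Γ(S, V) (Γ(S, V) ⧸ P) (Γ(X, U) ⧸ Q)
  haveI : (p.map (Ideal.Quotient.mk P)).IsPrime :=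
    Ideal.map_isPrime_of_surjective Ideal.Quotient.mk_surjective (by rwa [Ideal.mk_ker])
  haveI : (q.map (Ideal.Quotient.mk Q)).IsPrime :=
    Ideal.map_isPrime_of_surjective Ideal.Quotient.mk_surjective (by rwa [Ideal.mk_ker])
  have hpc : (p.map (Ideal.Quotient.mk P)).comap (Ideal.Quotient.mk P) = p := by
    rw [Ideal.comap_map_of_surjective' _ Ideal.Quotient.mk_surjective, Ideal.mk_ker, sup_eq_left.mpr hPp]
  have hqc : (q.map (Ideal.Quotient.mk Q)).comap (Ideal.Quotient.mk Q) = q := by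
    rw [Ideal.comap_map_of_surjective' _ Ideal.Quotient.mk_surjective, Ideal.mk_ker, sup_eq_left.mpr hQq]
  haveI : (q.map (Ideal.Quotient.mk Q)).LiesOver (p.map (Ideal.Quotient.mk P)) := ⟨by
    ext r
    obtain ⟨r, rfl⟩ := Ideal.Quotient.mk_surjective r
    show r ∈ (p.map (Ideal.Quotient.mk P)).comap (Ideal.Quotient.mk P) ↔
      algebraMap Γ(S, V) Γ(X, U) r ∈ (q.map (Ideal.Quotient.mk Q)).comap (Ideal.Quotient.mk Q)
    rw [hpc, hqc, Ideal.LiesOver.over (p := p) (P := q)]
    rfl⟩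
  have hform := DimFormula.eq_of_isUniversallyCatenary (Γ(S, V) ⧸ P) hcat (Γ(X, U) ⧸ Q)
    (p.map (Ideal.Quotient.mk P)) (q.map (Ideal.Quotient.mk Q))
  let e₁ : (Γ(S, V) ⧸ P) ⧸ p.map (Ideal.Quotient.mk P) ≃+* Γ(S, V) ⧸ p := DoubleQuot.quotQuotEquivQuotOfLE hPp
  let e₂ : (Γ(X, U) ⧸ Q) ⧸ q.map (Ideal.Quotient.mk Q) ≃+* Γ(X, U) ⧸ q := DoubleQuot.quotQuotEquivQuotOfLE hQq
  have htr : Algebra.trdeg ((Γ(S, V) ⧸ P) ⧸ p.map (Ideal.Quotient.mk P)) ((Γ(X, U) ⧸ Q) ⧸ q.map (Ideal.Quotient.mk Q)) =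
      Algebra.trdeg (Γ(S, V) ⧸ p) (Γ(X, U) ⧸ q) := by
    haveI : FaithfulSMul (Γ(S, V) ⧸ p) (Γ(X, U) ⧸ q) := (faithfulSMul_iff_algebraMap_injective _ _).2
      ((injective_iff_map_eq_zero _).2 fun r hr => by
        obtain ⟨r, rfl⟩ := Ideal.Quotient.mk_surjective r
        rw [Ideal.Quotient.eq_zero_iff_mem, Ideal.LiesOver.over (p := p) (P := q)]
        exact (Ideal.Quotient.eq_zero_iff_mem (I := q)).1 hr)
    refine trdeg_congr e₁ e₂ fun r => ?_
    obtain ⟨r, rfl⟩ := Ideal.Quotient.mk_surjective r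
    obtain ⟨r, rfl⟩ := Ideal.Quotient.mk_surjective r
    rfl
  have hta : Algebra.trdeg (Γ(S, V) ⧸ P) (Γ(X, U) ⧸ Q) = a := by rw [← ha]; exact htrx.symm
  have htb : Algebra.trdeg (Γ(S, V) ⧸ p) (Γ(X, U) ⧸ q) = b := by rw [← hb]; exact htry.symm
  rw [hm, hk, htr, hta, htb] at hform
  have hnum : k + b = m + a := by
    rw [Cardinal.ofENat_nat, Cardinal.ofENat_nat] at hform
    exact_mod_cast hform
  have := hk1 hne
  refine ⟨by omega, fun himm => ?_⟩
  have := hkimm himm hne
  omega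

end Groth.Agent.H22Alg.DimFunLft
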