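import Mathlib
import Groth.Prelude.Def_Curv2
import Groth.Prelude.Def_Flat
import Groth.Agent.H8Props.FieldDimFormula
import Groth.Agent.H8Props.FieldDimEquidim
import Groth.Agent.H22Alg.DimFunLft

/-! Dimension of varieties in terms of transcendence degrees. -/

set_option autoImplicit false
universe u

open AlgebraicGeometry CategoryTheory
open Groth.Agent.H8Props.FieldDim (cdim)

namespace Groth.Agent.H22Alg.VarDim

variable (k : Type u) [Field k] (X : Scheme.{u}) [X.Over (Spec (CommRingCat.of k))]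

theorem fromSpecResidueField_over (x : X) :
    X.fromSpecResidueField x ≫ (X ↘ Spec (CommRingCat.of k)) =
      Spec.map (CommRingCat.ofHom (Curv2.resMap k X x)) := by
  have h1 : (X ↘ Spec (CommRingCat.of k)) =
      X.toSpecΓ ≫ Spec.map ((Scheme.ΓSpecIso (CommRingCat.of k)).inv ≫ (X ↘ Spec (CommRingCat.of k)).appTop) := by
    rw [Spec.map_comp, ← Scheme.toSpecΓ_naturality_assoc, toSpecΓ_SpecMap_ΓSpecIso_inv, Category.comp_id]
  rw [Scheme.fromSpecResidueField, h1]
  simp only [Category.assoc, Scheme.fromSpecStalk_toSpecΓ_assoc, ← Spec.map_comp]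
  rfl

variable [LocallyOfFiniteType (X ↘ (Spec (CommRingCat.of k)))]

theorem exists_cdim_trdeg (x : X) : ∃ s : ℕ, cdim x = s ∧
    (letI := (Curv2.resMap k X x).toAlgebra; Algebra.trdeg k (X.residueField x)) = s := by
  letI := (Curv2.resMap k X x).toAlgebra
  obtain ⟨s, hs, hs'⟩ := H8Props.FieldDim.exists_trdeg (X ↘ Spec (CommRingCat.of k))
    (L := X.residueField x) (X.fromSpecResidueField x) (fromSpecResidueField_over k X x) (IsLocalRing.closedPoint _)
  exact ⟨s, by rw [← hs]; erw [Scheme.fromSpecResidueField_apply], hs'⟩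

theorem cdim_eq_of_trdeg (x : X) (n : ℕ)
    (hn : (letI := (Curv2.resMap k X x).toAlgebra; Algebra.trdeg k (X.residueField x)) = n) : cdim x = n := by
  obtain ⟨s, hs, hs'⟩ := exists_cdim_trdeg k X x
  rw [hs, show s = n from Nat.cast_injective (R := Cardinal) (hs'.symm.trans hn)]

theorem cdim_genericPoint [IrreducibleSpace X] : cdim (genericPoint X) = topologicalKrullDim X := by
  rw [H8Props.FieldDim.cdim, genericPoint_closure]
  exact (IsHomeomorph.topologicalKrullDim_eq _ (Homeomorph.Set.univ X).isHomeomorph)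

omit [X.Over (Spec (CommRingCat.of k))] [LocallyOfFiniteType (X ↘ (Spec (CommRingCat.of k)))] in
/-- An immediate specialisation lowers the dimension of the closure by exactly one. -/
theorem cdim_of_immediate (f : X ⟶ Spec (CommRingCat.of k)) [LocallyOfFiniteType f] {x y : X} (h : x ⤳ y) (hne : x ≠ y)
    (himm : ∀ z : X, x ⤳ z → z ⤳ y → z = x ∨ z = y) : cdim x = cdim y + 1 := by
  haveI : IsLocallyNoetherian X := LocallyOfFiniteType.isLocallyNoetherian f
  obtain ⟨W, hW, hyW, -⟩ := exists_isAffineOpen_mem_and_subset (x := y) (U := ⊤) trivial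
  obtain ⟨q, rfl⟩ : y ∈ Set.range hW.fromSpec := by rw [hW.range_fromSpec]; exact hyW
  obtain ⟨p, rfl⟩ : x ∈ Set.range hW.fromSpec := by
    rw [hW.range_fromSpec]; exact h.mem_open W.2 hyW
  obtain ⟨n, hn, -, -, hn1⟩ := DimFunLft.height_evKer_spec hW h (h.mem_open W.2 hyW) hyW
  rw [H7Flat.evKer_fromSpec hW p, H7Flat.evKer_fromSpec hW q, hn1 himm hne] at hn
  obtain ⟨alg, hj⟩ := H8Props.FieldDim.exists_algebra_chart f (A := Γ(X, W)) hW.fromSpec
  haveI := H8Props.FieldDim.finiteType_of_chart f (A := Γ(X, W)) hW.fromSpec hj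
  erw [H8Props.FieldDim.cdim_eq_chart f (A := Γ(X, W)) hW.fromSpec q,
    H8Props.FieldDim.cdim_eq_chart f (A := Γ(X, W)) hW.fromSpec p]
  have hpq : p.asIdeal ≤ q.asIdeal :=
    (PrimeSpectrum.le_iff_specializes p q).mpr (hW.fromSpec.isOpenEmbedding.isInducing.specializes_iff.mp h)
  haveI : Algebra.FiniteType k (Γ(X, W) ⧸ p.asIdeal) :=
    Algebra.FiniteType.trans (R := k) (S := Γ(X, W)) inferInstance inferInstance
  haveI := q.2
  haveI := p.2
  haveI : (q.asIdeal.map (Ideal.Quotient.mk p.asIdeal)).IsPrime :=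
    Ideal.isPrime_map_quotientMk_of_isPrime hpq
  rw [← H8Props.FieldDim.height_add_dim_quotient k (Γ(X, W) ⧸ p.asIdeal) (q.asIdeal.map (Ideal.Quotient.mk p.asIdeal)),
    hn, ringKrullDim_eq_of_ringEquiv (DoubleQuot.quotQuotEquivQuotOfLE hpq), add_comm]
  rfl

end Groth.Agent.H22Alg.VarDim
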