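import Groth.Agent.H22Alg.SnapperCoeff
import Groth.Agent.H28Int.Positive
import Groth.Agent.H10Coh.SerreVanishing2
import Groth.Agent.H11Ample.Converse
import Groth.Agent.H11Sym.InvertibleInverse
import Groth.Agent.H25Euler.Mult
import Mathlib.Algebra.MvPolynomial.Coeff

/-! # The degree of an ample module. -/

set_option autoImplicit false
set_option linter.style.haveILetI false

universe u

open CategoryTheory CategoryTheory.Limits AlgebraicGeometry TopologicalSpace

noncomputable section

namespace Groth.Agent.H22Alg.DegAmple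

open H28Int

variable {X : Scheme.{u}}

theorem nonempty_tensorPow_add (L : X.Modules) (a : ℕ) : ∀ b : ℕ,
    Nonempty (CohB1.tensorMod (CohB1.tensorPow L a) (CohB1.tensorPow L b) ≅ CohB1.tensorPow L (a + b))
  | 0 => ⟨H10Coh.Tw.rightUnitIso _⟩
  | b + 1 => by
    obtain ⟨e⟩ := nonempty_tensorPow_add L a b
    exact ⟨(H10Coh.Tw.assoc (CohB1.tensorPow L a) (CohB1.tensorPow L b) L).symm ≪≫
      PicGrp.tensorModIso e (Iso.refl L)⟩

theorem nonempty_tensorPows_const (L : X.Modules) : ∀ (r : ℕ) (n : Fin r → ℕ),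
    Nonempty (Curv2.tensorPows (Coh.structureModule X) r (fun _ => L) n ≅ CohB1.tensorPow L (∑ i, n i))
  | 0, n => ⟨eqToIso (by simp; rfl)⟩
  | r + 1, n => by
    obtain ⟨e⟩ := nonempty_tensorPows_const L r (fun i => n i.castSucc)
    obtain ⟨e'⟩ := nonempty_tensorPow_add L (∑ i : Fin r, n i.castSucc) (n (Fin.last r))
    exact ⟨PicGrp.tensorModIso e (Iso.refl _) ≪≫ e' ≪≫ eqToIso (by rw [Fin.sum_univ_castSucc])⟩

variable (k : Type u) [Field k] [X.Over (Spec (CommRingCat.of k))] [IsProper (X ↘ Spec (CommRingCat.of k))]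

/-- Inverting the modules multiplies the top intersection number by `(-1)^j`. -/
theorem D_replicate {L M : X.Modules} (hL : PicF.IsInvertible L) (hM : PicF.IsInvertible M)
    (e : CohB1.tensorMod L M ≅ Coh.structureModule X) :
    ∀ (j : ℕ) (F : X.Modules), Coh.IsCoh F → topologicalKrullDim (CohB1.support F) ≤ (j : WithBot ℕ∞) →
      D k (List.replicate j L) F = (-1 : ℤ) ^ j * D k (List.replicate j M) F
  | 0, F, _, _ => by simp
  | j + 1, F, hF, hd => by
    haveI := isNoetherian k (X := X)
    have hr : ∀ N : X.Modules, PicF.IsInvertible N → ∀ A ∈ List.replicate j N, PicF.IsInvertible A := fun N hN A hA =>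
      List.eq_of_mem_replicate hA ▸ hN
    have h2 : D k (L :: List.replicate j L) F + D k (M :: List.replicate j L) F = 0 := by
      rw [← D_cons_tensor k (hr L hL) hL hM hF (by simpa using hd)]
      show D k _ F - D k _ (CohB1.tensorMod (CohB1.tensorMod L M) F) = 0
      rw [(isAddFn_D k _ (hr L hL)).congr (PicGrp.tensorModIso e (Iso.refl F) ≪≫ H10Coh.Tw.leftUnitIso F),
        sub_self]
    have h3 : D k (M :: List.replicate j L) F = (-1 : ℤ) ^ j * D k (M :: List.replicate j M) F := by
      let ψ : X.Modules → ℤ := fun G => D k (List.replicate j L) G - (-1 : ℤ) ^ j * D k (List.replicate j M) G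
      have hψ : IsAddFn ψ :=
        { congr := fun {A B} a => by
            show _ - _ = _ - _
            rw [(isAddFn_D k _ (hr L hL)).congr a, (isAddFn_D k _ (hr M hM)).congr a]
          add := fun S hS a b c => by
            show _ - _ = (_ - _) + (_ - _)
            rw [(isAddFn_D k _ (hr L hL)).add S hS a b c, (isAddFn_D k _ (hr M hM)).add S hS a b c]
            ring }
      have h := hψ.twist_eq (r := j + 1) (fun G hG hG' => by
        show _ - _ = (0 : ℤ)
        rw [sub_eq_zero]
        exact D_replicate hL hM e j G hG (Snapper.le_of_lt_succ hG')) hM hF hd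
      show D k _ F - D k _ (CohB1.tensorMod M F) = _ * (D k _ F - D k _ (CohB1.tensorMod M F))
      simp only [ψ] at h
      linarith
    rw [List.replicate_succ, List.replicate_succ, pow_succ]
    linarith

/-- The top self-intersection number of an ample module is positive. -/
theorem coeff_pos {d : ℕ} (hX : topologicalKrullDim X = d) {L : X.Modules} (hL : CohB1.IsAmple L)
    {P : MvPolynomial (Fin d) ℚ}
    (hP : ∀ n : Fin d → ℕ, (Curv2.euler k X (Curv2.tensorPows (Coh.structureModule X) d (fun _ => L) n) : ℚ) =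
      MvPolynomial.eval (fun i => (n i : ℚ)) P) :
    0 < MvPolynomial.coeff (Finsupp.equivFunOnFinite.symm fun _ : Fin d => 1) P := by
  haveI := isNoetherian k (X := X)
  obtain ⟨M, hM, ⟨e₀⟩⟩ := H11Sym.exists_inverse hL.1
  let e := H10Coh.Tw.commIso L M ≪≫ e₀
  have hO : Coh.IsCoh (Coh.structureModule X) :=
    H11Ample.isCoh_of_isInvertible (Groth.Agent.H28Int.isInvertible_structureModule X)
  have hd : topologicalKrullDim (CohB1.support (Coh.structureModule X)) ≤ (d : WithBot ℕ∞) :=
    (dim_le_of_subset (Set.subset_univ _)).trans (((Homeomorph.Set.univ X).isInducing.topologicalKrullDim_le).trans hX.le)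
  rw [Snapper.coeff_one_eq_D k hO hd (L := fun _ : Fin d => L) (fun _ => hL.1) hP, List.ofFn_const,
    D_replicate k hL.1 hM e d _ hO hd]
  push_cast
  rw [← mul_assoc, ← pow_add, ← two_mul, pow_mul, neg_one_sq, one_pow, one_mul]
  have h := pos_of_ample k (List.replicate d M)
    (fun N hN => ⟨L, hL, ⟨List.eq_of_mem_replicate hN ▸ e⟩⟩) _ hO (by rw [List.length_replicate]; exact hd)
  refine Int.cast_pos.2 (h.2 ?_)
  rw [List.length_replicate]
  obtain ⟨x, -, hx⟩ := exists_le_cdim (X := X) isClosed_univ (r := d)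
    (((Homeomorph.Set.univ X).isHomeomorph.topologicalKrullDim_eq).trans hX)
  exact ⟨x, H25Euler.mem_support_structure x, hx⟩

/-- The mixed coefficient of `Q(x₁ + ⋯ + x_d)`. -/
theorem coeff_one_diag {d : ℕ} (a : ℕ → ℚ) (T : Finset ℕ) :
    MvPolynomial.coeff (Finsupp.equivFunOnFinite.symm fun _ : Fin d => 1)
        (∑ i ∈ T, MvPolynomial.C (a i) * (∑ j, MvPolynomial.X j) ^ i) =
      if d ∈ T then (d.factorial : ℚ) * a d else 0 := by
  classical
  set one : Fin d →₀ ℕ := Finsupp.equivFunOnFinite.symm fun _ : Fin d => 1 with hone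
  have hsum : (one.sum fun _ m => m) = d := by
    rw [Finsupp.sum_fintype _ _ (fun _ => rfl)]
    simp [hone]
  have hmult : one.multinomial = d.factorial := by
    rw [← Finsupp.multinomial_of_support_subset (s := Finset.univ) (Finset.subset_univ _), Nat.multinomial]
    simp [hone]
  simp only [MvPolynomial.coeff_sum, MvPolynomial.coeff_C_mul, MvPolynomial.coeff_sum_X_pow_of_fintype, hsum,
    hmult]
  simp [mul_comm]

include k in
/-- The leading coefficient of the Hilbert function of an ample module. -/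
theorem hilbert_bound {d : ℕ} (hX : topologicalKrullDim X = d) {L : X.Modules} (hL : CohB1.IsAmple L)
    {P : MvPolynomial (Fin d) ℚ}
    (hP : ∀ n : Fin d → ℕ, (Curv2.euler k X (Curv2.tensorPows (Coh.structureModule X) d (fun _ => L) n) : ℚ) =
      MvPolynomial.eval (fun i => (n i : ℚ)) P) :
    ∃ C : ℚ, ∀ n : ℕ,
      |(Module.finrank k (Coh.HH X (CohB1.tensorPow L n) 0) : ℚ) -
          MvPolynomial.coeff (Finsupp.equivFunOnFinite.symm fun _ : Fin d => 1) P / (d.factorial : ℚ) * (n : ℚ) ^ d| ≤
        C * ((n : ℚ) + 1) ^ (d - 1) := by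
  classical
  haveI := isNoetherian k (X := X)
  have hO : Coh.IsCoh (Coh.structureModule X) :=
    H11Ample.isCoh_of_isInvertible (Groth.Agent.H28Int.isInvertible_structureModule X)
  have hd : topologicalKrullDim (CohB1.support (Coh.structureModule X)) ≤ (d : WithBot ℕ∞) :=
    (dim_le_of_subset (Set.subset_univ _)).trans (((Homeomorph.Set.univ X).isInducing.topologicalKrullDim_le).trans hX.le)
  obtain ⟨Q, hQd, hQ⟩ := Snapper.exists_poly k hO hd (r := 1) (L := fun _ => L) (fun _ => hL.1)
  let T := Q.support.image fun m => m 0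
  let a : ℕ → ℚ := fun i => MvPolynomial.coeff (Finsupp.single 0 i) Q
  have heuler : ∀ n : ℕ, (Curv2.euler k X (CohB1.tensorPow L n) : ℚ) = ∑ i ∈ T, a i * (n : ℚ) ^ i := by
    intro n
    obtain ⟨e⟩ := nonempty_tensorPows_const L 1 fun _ => n
    have h := hQ fun _ => n
    rw [H25Euler.euler_congr e, Fin.sum_univ_one] at h
    rw [h, MvPolynomial.eval_eq', Finset.sum_image (fun x _ y _ hxy => Finsupp.ext fun j => by
      fin_cases j; exact hxy)]
    refine Finset.sum_congr rfl fun m _ => ?_
    rw [Fin.prod_univ_one]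
    congr 2
    ext; simp
  have hT : ∀ i ∈ T, i ≤ d := by
    intro i hi
    obtain ⟨m, hm, rfl⟩ := Finset.mem_image.1 hi
    refine le_trans ?_ ((MvPolynomial.le_totalDegree hm).trans hQd)
    rw [Finsupp.sum_fintype _ _ (fun _ => rfl), Fin.sum_univ_one]
  have hPeq : P = ∑ i ∈ T, MvPolynomial.C (a i) * (∑ j, MvPolynomial.X j) ^ i := by
    refine MvPolynomial.funext_set (fun _ => Set.range (Nat.cast : ℕ → ℚ))
      (fun _ => Set.infinite_range_of_injective Nat.cast_injective) fun x hx => ?_
    choose n hn using fun i => hx i trivial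
    obtain rfl : (fun i => (n i : ℚ)) = x := funext hn
    obtain ⟨e⟩ := nonempty_tensorPows_const L d n
    rw [← hP, H25Euler.euler_congr e, heuler]
    simp
  have hc : MvPolynomial.coeff (Finsupp.equivFunOnFinite.symm fun _ : Fin d => 1) P / (d.factorial : ℚ) =
      if d ∈ T then a d else 0 := by
    rw [hPeq, coeff_one_diag]
    have : (d.factorial : ℚ) ≠ 0 := by exact_mod_cast d.factorial_ne_zero
    split_ifs <;> field_simp <;> ring
  obtain ⟨N, hN⟩ := H10Coh.Tw.exists_vanishing_ample (X ↘ Spec (CommRingCat.of k)) hL _ hO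
  have hfin : ∀ n, N ≤ n → (Module.finrank k (Coh.HH X (CohB1.tensorPow L n) 0) : ℚ) = ∑ i ∈ T, a i * (n : ℚ) ^ i := by
    intro n hn
    rw [← heuler, H25Euler.euler_eq_sum (CohB1.tensorPow L n) 1 fun p hp => ?_]
    · simp
    · haveI := H10Coh.Tw.subsingleton_of_iso (H10Coh.Tw.leftUnitIso (CohB1.tensorPow L n)) (n := p) (U := ⊤) (hN n hn p hp)
      exact (H10Coh.HHEquiv (CohB1.tensorPow L n) p).toEquiv.subsingleton_congr.2 this
  set c := MvPolynomial.coeff (Finsupp.equivFunOnFinite.symm fun _ : Fin d => 1) P / (d.factorial : ℚ)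
  let t : ℕ → ℚ := fun n => |(Module.finrank k (Coh.HH X (CohB1.tensorPow L n) 0) : ℚ) - c * (n : ℚ) ^ d|
  refine ⟨(∑ i ∈ T, |a i|) + ∑ n ∈ Finset.range N, t n, fun n => ?_⟩
  have h1 : (1 : ℚ) ≤ ((n : ℚ) + 1) ^ (d - 1) := one_le_pow₀ (by simp)
  have hA : 0 ≤ ∑ i ∈ T, |a i| := Finset.sum_nonneg fun i _ => abs_nonneg _
  have hB : 0 ≤ ∑ n ∈ Finset.range N, t n := Finset.sum_nonneg fun i _ => abs_nonneg _
  by_cases hn : N ≤ n
  · refine le_trans ?_ (mul_le_mul_of_nonneg_right (le_add_of_nonneg_right hB) (by linarith))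
    rw [hfin n hn, hc]
    have : ∑ i ∈ T, a i * (n : ℚ) ^ i - (if d ∈ T then a d else 0) * (n : ℚ) ^ d =
        ∑ i ∈ T.erase d, a i * (n : ℚ) ^ i := by
      split_ifs with h
      · rw [← Finset.sum_erase_add _ _ h, add_sub_cancel_right]
      · rw [Finset.erase_eq_of_notMem h]; simp
    rw [this, Finset.sum_mul]
    refine (Finset.abs_sum_le_sum_abs _ _).trans ((Finset.sum_le_sum fun i hi => ?_).trans
      (Finset.sum_le_sum_of_subset_of_nonneg (Finset.erase_subset _ _) fun i _ _ => mul_nonneg (abs_nonneg _) (by linarith)))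
    have hid : i ≤ d - 1 := by
      have := hT i (Finset.mem_of_mem_erase hi); have := Finset.ne_of_mem_erase hi; omega
    rw [abs_mul, abs_pow, Nat.abs_cast]
    exact mul_le_mul_of_nonneg_left ((pow_le_pow_left₀ (Nat.cast_nonneg n) (by linarith) i).trans
      (pow_le_pow_right₀ (by simp) hid)) (abs_nonneg _)
  · have : t n ≤ ∑ n ∈ Finset.range N, t n :=
      Finset.single_le_sum (fun i _ => abs_nonneg _) (Finset.mem_range.2 (not_le.1 hn))
    nlinarith

end Groth.Agent.H22Alg.DegAmple
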