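import Mathlib
import Groth.Agent.H28Int.Stalk
import Groth.Agent.H28Int.Positive
import Groth.Agent.H22Alg.RedIntegral
import Groth.Agent.H22Alg.DimOneDiv
import Groth.Agent.H22Alg.CurveAmple
import Groth.Agent.H22Alg.DegAmple
import Groth.Agent.H17.AssPts
import Groth.Agent.H17.AssTensorS
import Groth.Agent.H17.InvertibleTensor
import Groth.Agent.H17.PrimaryDecomp
import Groth.Agent.H10Coh.Proper2
import Groth.Agent.H28NT.Connectedness
import Groth.Agent.H11Ample.AmpleOn
/-!
# Negative twists have no sections without closed associated points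
-/

set_option autoImplicit false
set_option linter.style.haveILetI false
universe u

open CategoryTheory CategoryTheory.Limits AlgebraicGeometry Opposite TopologicalSpace
open scoped TensorProduct
open Groth.Agent

namespace Groth.Agent.H22Alg.NegTwist

open IsLocalRing

/-- A linear map with values in `𝔪` times the target. -/
def InMax {R : Type u} [CommRing R] [IsLocalRing R] {A B : Type u} [AddCommGroup A] [Module R A]
    [AddCommGroup B] [Module R B] (f : A →ₗ[R] B) : Prop :=
  ∀ a, f a ∈ maximalIdeal R • (⊤ : Submodule R B)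

theorem InMax.comp_right {R : Type u} [CommRing R] [IsLocalRing R] {A B C : Type u} [AddCommGroup A]
    [Module R A] [AddCommGroup B] [Module R B] [AddCommGroup C] [Module R C] {f : A →ₗ[R] B} (hf : InMax f)
    (g : B →ₗ[R] C) : InMax (g ∘ₗ f) := fun a => by
  have h := Submodule.mem_map_of_mem (f := g) (hf a)
  rw [Submodule.map_smul''] at h
  exact Submodule.smul_mono le_rfl le_top h

theorem InMax.comp_left {R : Type u} [CommRing R] [IsLocalRing R] {A B C : Type u} [AddCommGroup A]
    [Module R A] [AddCommGroup B] [Module R B] [AddCommGroup C] [Module R C] {f : B →ₗ[R] C} (hf : InMax f)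
    (g : A →ₗ[R] B) : InMax (f ∘ₗ g) := fun a => hf (g a)

theorem InMax.pow {R : Type u} [CommRing R] [IsLocalRing R] {A B : Type u} [AddCommGroup A] [Module R A]
    [AddCommGroup B] [Module R B] {f : A →ₗ[R] B} (hf : InMax f) (j : ℕ) {a : A}
    (ha : a ∈ maximalIdeal R ^ j • (⊤ : Submodule R A)) :
    f a ∈ maximalIdeal R ^ (j + 1) • (⊤ : Submodule R B) := by
  have h := Submodule.mem_map_of_mem (f := f) ha
  rw [Submodule.map_smul''] at h
  rw [pow_succ, ← smul_eq_mul, Submodule.smul_assoc]
  refine Submodule.smul_mono le_rfl ?_ h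
  rintro - ⟨b, -, rfl⟩
  exact hf b

variable {X : Scheme.{u}}

theorem sec_ext {G : X.Modules} {U : X.Opens} {s t : Γ(G, U)}
    (h : ∀ (x : X) (hx : x ∈ U), G.presheaf.germ U x hx s = G.presheaf.germ U x hx t) : s = t :=
  TopCat.Presheaf.section_ext (⟨G.presheaf, G.isSheaf⟩ : TopCat.Sheaf AddCommGrpCat.{u} X.toTopCat) U s t h

/-- The stalk of a tensor product with an invertible module. -/
theorem mem_ass_tensor {N : X.Modules} (hN : PicF.IsInvertible N) (F : X.Modules) :
    AssSch.Ass (CohB1.tensorMod F N) = AssSch.Ass F := by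
  refine Set.ext fun x => ?_
  obtain ⟨V, e, hxV, he⟩ := H11Ample.exists_gen hN x
  let ε : N.presheaf.stalk x ≃ₗ[X.presheaf.stalk x] X.presheaf.stalk x :=
    (LinearEquiv.ofBijective (LinearMap.toSpanSingleton (X.presheaf.stalk x) (N.presheaf.stalk x)
      (N.presheaf.germ V x hxV e)) (he x hxV)).symm
  let φ : (CohB1.tensorMod F N).presheaf.stalk x ≃ₗ[X.presheaf.stalk x] F.presheaf.stalk x :=
    (H16Derived.KFlat.Stalk.stalkEquiv F N x).symm ≪≫ₗ
      (TensorProduct.congr (LinearEquiv.refl _ _) ε ≪≫ₗ TensorProduct.rid _ _)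
  show maximalIdeal _ ∈ associatedPrimes _ _ ↔ maximalIdeal _ ∈ associatedPrimes _ _
  rw [LinearEquiv.AssociatedPrimes.eq φ]

theorem inMax_stalk_mulHom {L : X.Modules} (hL : PicF.IsInvertible L)
    (g : Γ(L, ⊤)) (F : X.Modules) {w : X} (hw : w ∉ H11Ample.gen L g) :
    InMax (H06Mod.stalkLin (H25Euler.mulHom F (H11Tilde.homOfGlobal L g)) w) := by
  let s := H11Tilde.homOfGlobal L g
  let St := DerSch.stalkFunctor X w
  obtain ⟨V, e, hwV, he⟩ := H11Ample.exists_gen hL w
  obtain ⟨c, hcc⟩ := H11Ample.exists_coeff he (L.presheaf.map (homOfLE (le_top : V ≤ ⊤)).op g)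
  have hcm : X.presheaf.germ V w hwV c ∈ maximalIdeal (X.presheaf.stalk w) := by
    rw [IsLocalRing.mem_maximalIdeal, mem_nonunits_iff]
    intro hu
    have : w ∈ X.basicOpen c := (X.toRingedSpace.mem_basicOpen c w hwV).2 hu
    rw [← H11Ample.gen_inf_eq_basicOpen he g c hcc] at this
    exact hw this.1
  let o := (Coh.structureModule X).presheaf.germ ⊤ w trivial (H11Ample.one ⊤)
  let el : St.obj L := L.presheaf.germ V w hwV e
  have ho : (St.map s).hom o = (show X.presheaf.stalk w from X.presheaf.germ V w hwV c) • el := by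
    refine (H10Coh.germ_app s ⊤ w trivial (H11Ample.one ⊤)).trans ?_
    rw [show s.app ⊤ (H11Ample.one ⊤) = g from (H11Tilde.homOfGlobal_app L g ⊤ _).trans (by
      rw [show (show Γ(X, ⊤) from H11Ample.one ⊤) = 1 from rfl, one_smul]
      exact H10Coh.mres_self L _ _)]
    rw [← TopCat.Presheaf.germ_res_apply L.presheaf (homOfLE (le_top : V ≤ ⊤)) w hwV, hcc,
      H06Mod.germ_smul]
    rfl
  have h1 : InMax ((St.map s).hom.lTensor (St.obj F)) := by
    intro t
    induction t using TensorProduct.induction_on with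
    | zero => simp
    | add a b ha hb => rw [map_add]; exact add_mem ha hb
    | tmul a p =>
      obtain ⟨r, hr⟩ := (H11Ample.isGen_one (X := X) ⊤ w trivial).2 p
      have hro : r • (show St.obj (Coh.structureModule X) from o) = p := hr
      rw [LinearMap.lTensor_tmul, ← hro, map_smul]
      erw [ho]
      rw [TensorProduct.tmul_smul, TensorProduct.tmul_smul]
      exact Submodule.smul_mem _ r (Submodule.smul_mem_smul hcm Submodule.mem_top)
  have e' : (((DCoh.tensorBi (X := X)).obj F) ⋙ St).map s =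
      (H16Derived.KFlat.Stalk.leftIso F w).hom.app _ ≫ (MonoidalCategory.tensorLeft (St.obj F)).map (St.map s) ≫
        (H16Derived.KFlat.Stalk.leftIso F w).inv.app L := by
    rw [← Category.assoc]
    exact (Iso.eq_comp_inv ((H16Derived.KFlat.Stalk.leftIso F w).app L)).2
      ((H16Derived.KFlat.Stalk.leftIso F w).hom.naturality s)
  have h2 : InMax (St.map (((DCoh.tensorBi (X := X)).obj F).map s)).hom := by
    show InMax ((((DCoh.tensorBi (X := X)).obj F) ⋙ St).map s).hom
    rw [e', ModuleCat.hom_comp, ModuleCat.hom_comp]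
    exact (InMax.comp_right h1 _).comp_left _
  show InMax (St.map (H25Euler.mulHom F s)).hom
  rw [H25Euler.mulHom, St.map_comp, St.map_comp, St.map_comp, ModuleCat.hom_comp, ModuleCat.hom_comp,
    ModuleCat.hom_comp]
  exact ((InMax.comp_right h2 _).comp_left _).comp_left _

variable (k : Type u) [Field k] [X.Over (Spec (CommRingCat.of k))] [IsProper (X ↘ Spec (CommRingCat.of k))]

include k in
/-- A non-closed point has a specialization outside a given affine open. -/
theorem exists_specializes_notMem {U : X.Opens} (hU : IsAffineOpen U) {x : X}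
    (hx : ¬ IsClosed ({x} : Set X)) : ∃ z, x ⤳ z ∧ z ∉ U := by
  by_contra hc
  push Not at hc
  let I := Scheme.IdealSheafData.vanishingIdeal (X := X) ⟨closure ({x} : Set X), isClosed_closure⟩
  haveI : IsIntegral I.subscheme := Groth.Agent.H22Alg.isIntegral_vanishingIdeal_closure x
  have hr : Set.range I.subschemeι = closure ({x} : Set X) := by
    rw [Scheme.IdealSheafData.range_subschemeι, Scheme.IdealSheafData.coe_support_vanishingIdeal]
    rfl
  have h0 := H28Int.dim_le_zero_of_affine k I.subschemeι hU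
    (hr ▸ fun z hz => hc z (specializes_iff_mem_closure.2 hz)) (ξ := x) hr.symm
  refine hx (isClosed_of_closure_subset fun y hy => ?_)
  by_contra hne
  haveI : Nonempty (IrreducibleCloseds (closure ({y} : Set X))) :=
    ⟨⟨closure {⟨y, subset_closure rfl⟩}, isIrreducible_singleton.closure, isClosed_closure⟩⟩
  exact (DevLength.dim_closure_lt (specializes_iff_mem_closure.2 hy) hne (d := 0) h0).not_ge
    Order.krullDim_nonneg

include k in
/-- `H⁰(F ⊗ L^{-n}) = 0` for large `n` when no associated point of `F` is closed. -/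
theorem exists_subsingleton {L M : X.Modules} (hL : CohB1.IsAmple L) (hM : ClSub.IsInverseOf L M)
    {F : X.Modules} (hF : Coh.IsCoh F)
    (hass : ∀ x ∈ AssSch.Ass F, ¬ IsClosed ({x} : Set X)) :
    ∃ n₀ : ℕ, ∀ n : ℕ, n₀ ≤ n →
      Subsingleton (Coh.HH X (CohB1.tensorMod F (CohB1.tensorPow M n)) 0) := by
  classical
  haveI := H28Int.isNoetherian k (X := X)
  haveI : X.IsSeparated := ⟨by
    rw [← terminal.comp_from (X ↘ Spec (CommRingCat.of k))]
    infer_instance⟩
  obtain ⟨eLM⟩ := hM
  have hLi := H11Ample.isInvertible_of_isAmple hL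
  let eML : CohB1.tensorMod M L ≅ Coh.structureModule X := H10Coh.Tw.commIso M L ≪≫ eLM
  have hMi : PicF.IsInvertible M := H17.InvertibleTensor.isInvertible_of_tensor_iso M L eML
  obtain ⟨a, s, ha, hAV, -, hV⟩ := H11Ample.exists_affine_gen_nhd_finite hL (U := ⊤)
    (H17.PrimaryDecomp.finite_ass hF) (fun _ _ => trivial)
  obtain ⟨einv⟩ := H10Coh.Tw.nonempty_tensorPow_inverse eML hMi hLi a
  let G : ℕ → X.Modules := fun n => CohB1.tensorMod F (CohB1.tensorPow M n)
  have hG : ∀ n, Coh.IsCoh (G n) := fun n =>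
    H11Ample.isCoh_tensor hF (H11Ample.isInvertible_tensorPow hMi n)
  have hassG : ∀ n, AssSch.Ass (G n) = AssSch.Ass F := fun n =>
    mem_ass_tensor (H11Ample.isInvertible_tensorPow hMi n) F
  let La := CohB1.tensorPow L a
  have hLa : PicF.IsInvertible La := H11Ample.isInvertible_tensorPow hLi a
  have hiso : ∀ n, Nonempty (CohB1.tensorMod (G (n + a)) La ≅ G n) := fun n => by
    obtain ⟨e1⟩ := DegAmple.nonempty_tensorPow_add M n a
    exact ⟨H10Coh.Tw.assoc F _ La ≪≫ PicGrp.tensorModIso (Iso.refl F)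
      (PicGrp.tensorModIso e1.symm (Iso.refl La) ≪≫
        H10Coh.Tw.assoc (CohB1.tensorPow M n) (CohB1.tensorPow M a) La ≪≫
          PicGrp.tensorModIso (Iso.refl (CohB1.tensorPow M n)) einv ≪≫ H10Coh.Tw.rightUnitIso _)⟩
  let φ := fun n => (hiso n).some
  let μ := fun n => H25Euler.mulHom (G (n + a)) (H11Tilde.homOfGlobal La s)
  let β : ∀ n, G (n + a) ⟶ G n := fun n => μ n ≫ (φ n).hom
  have hzero : ∀ n, ∀ z ∉ H11Ample.gen La s, InMax (H06Mod.stalkLin (β n) z) := fun n z hz => by
    have := (inMax_stalk_mulHom hLa s (G (n + a)) hz).comp_right (H06Mod.stalkLin (φ n).hom z)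
    show InMax ((DerSch.stalkFunctor X z).map (β n)).hom
    rw [Functor.map_comp, ModuleCat.hom_comp]
    exact this
  have hinj : ∀ n, Function.Injective ((β n).app ⊤) := by
    intro n
    refine (injective_iff_map_eq_zero ((β n).app ⊤).hom).2 fun t ht => ?_
    refine sec_ext fun y hy => ?_
    rw [map_zero]
    by_contra hne
    obtain ⟨W, hW, hyW, -⟩ := exists_isAffineOpen_mem_and_subset (U := (⊤ : X.Opens)) (x := y) trivial
    have hne' : (G (n + a)).presheaf.germ W y hyW ((G (n + a)).presheaf.map (homOfLE le_top).op t) ≠ 0 := by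
      rwa [TopCat.Presheaf.germ_res_apply]
    obtain ⟨x, hxW, hx, -, hxne⟩ := H17.AssPts.exists_ass_specializes_of_germ _ (hG _).1 hW hyW hne'
    rw [TopCat.Presheaf.germ_res_apply] at hxne
    have hxV : x ∈ CohB1.genLocus La (H11Tilde.homOfGlobal La s) := hAV (hassG (n + a) ▸ hx)
    haveI := H25Euler.isIso_stalk_mulHom (G (n + a)) (H11Tilde.homOfGlobal La s) hxV
    haveI : IsIso ((DerSch.stalkFunctor X x).map (β n)) := by
      rw [show β n = μ n ≫ (φ n).hom from rfl, Functor.map_comp]
      infer_instance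
    have hb := (ConcreteCategory.bijective_of_isIso ((DerSch.stalkFunctor X x).map (β n))).1
    refine hxne (hb ?_)
    refine (H10Coh.germ_app (β n) ⊤ x trivial t).trans ?_
    rw [show (β n).app ⊤ t = 0 from ht, map_zero]
    exact (map_zero ((DerSch.stalkFunctor X x).map (β n)).hom).symm
  -- finite dimensional spaces of sections
  haveI hfin : ∀ n, Module.Finite k (Coh.HH X (G n) 0) := fun n => H10Coh.finite_HH_proper k X (G n) (hG n) 0
  let h : ℕ → ℕ := fun n => Module.finrank k (Coh.HH X (G n) 0)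
  have hHinj : ∀ n, Function.Injective (Canon.HHlin k (β n) 0) := fun n x y hxy => by
    refine (H10Coh.HH0Equiv _).injective (hinj n ?_)
    rw [← H28NT.HH0Equiv_map, ← H28NT.HH0Equiv_map]
    exact congrArg (H10Coh.HH0Equiv (G n)) hxy
  have hle : ∀ n, h (n + a) ≤ h n := fun n => LinearMap.finrank_le_finrank_of_injective (hHinj n)
  -- one residue class
  have key : ∀ n, ∃ m₀ : ℕ, ∀ m, m₀ ≤ m → h (n + m * a) = 0 := by
    intro n
    let g : ℕ → ℕ := fun m => h (n + m * a)
    have hg : ∀ m, g (m + 1) ≤ g m := fun m => by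
      show h (n + (m + 1) * a) ≤ _
      rw [add_one_mul, ← add_assoc]
      exact hle _
    have hanti : Antitone g := antitone_nat_of_succ_le hg
    have hex : ∃ v, ∃ m, g m = v := ⟨g 0, 0, rfl⟩
    obtain ⟨m₀, hm₀⟩ := Nat.find_spec hex
    refine ⟨m₀, fun m hm => Nat.eq_zero_of_le_zero ((hanti hm).trans ?_)⟩
    have hconst : ∀ m, m₀ ≤ m → g m = g m₀ := fun m hm => le_antisymm (hanti hm)
      (hm₀.le.trans (Nat.find_min' hex ⟨m, rfl⟩))
    by_contra hpos
    have hsurj : ∀ m, m₀ ≤ m → ∀ t : Γ(G (n + m * a), ⊤), ∃ t' : Γ(G (n + m * a + a), ⊤),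
        (β (n + m * a)).app ⊤ t' = t := by
      intro m hm t
      have he : Module.finrank k (Coh.HH X (G (n + m * a + a)) 0) = Module.finrank k (Coh.HH X (G (n + m * a)) 0) := by
        have := (hconst (m + 1) (by omega)).trans (hconst m hm).symm
        simp only [g, add_one_mul, ← add_assoc] at this
        exact this
      obtain ⟨x', hx'⟩ := (LinearMap.injective_iff_surjective_of_finrank_eq_finrank he).1 (hHinj _)
        ((H10Coh.HH0Equiv _).symm t)
      refine ⟨H10Coh.HH0Equiv _ x', ?_⟩
      rw [← H28NT.HH0Equiv_map]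
      exact (congrArg (H10Coh.HH0Equiv (G (n + m * a))) hx').trans (AddEquiv.apply_symm_apply _ t)
    have hdeep : ∀ (z : X), z ∉ H11Ample.gen La s → ∀ j m, m₀ ≤ m → ∀ t : Γ(G (n + m * a), ⊤),
        (G (n + m * a)).presheaf.germ ⊤ z trivial t ∈
          maximalIdeal (X.presheaf.stalk z) ^ j • (⊤ : Submodule (X.presheaf.stalk z) ((G (n + m * a)).presheaf.stalk z)) := by
      intro z hz j
      induction j with
      | zero => intro m _ t; simp
      | succ j ih =>
        intro m hm t
        obtain ⟨t', rfl⟩ := hsurj m hm t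
        rw [← H10Coh.germ_app]
        refine (hzero _ z hz).pow j ?_
        have hadd : n + (m + 1) * a = n + m * a + a := by ring
        exact hadd ▸ ih (m + 1) (by omega)
          |> fun h' => h' t'
    -- a nonzero section and a point of its support outside the affine open
    haveI : Nontrivial (Coh.HH X (G (n + m₀ * a)) 0) :=
      Module.nontrivial_of_finrank_pos (R := k) (Nat.pos_of_ne_zero fun h0 => hpos h0.le)
    obtain ⟨x₀, hx₀⟩ := exists_ne (0 : Coh.HH X (G (n + m₀ * a)) 0)
    let t := H10Coh.HH0Equiv _ x₀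
    have ht : t ≠ 0 := (map_ne_zero_iff _ (H10Coh.HH0Equiv _).injective).2 hx₀
    obtain ⟨y, hy⟩ : ∃ y, (G (n + m₀ * a)).presheaf.germ ⊤ y trivial t ≠ 0 := by
      by_contra hall
      push Not at hall
      refine ht (sec_ext fun y hy => ?_)
      rw [map_zero]
      exact hall y
    obtain ⟨W, hW, hyW, -⟩ := exists_isAffineOpen_mem_and_subset (U := (⊤ : X.Opens)) (x := y) trivial
    obtain ⟨x, hxW, hx, -, hxne⟩ := H17.AssPts.exists_ass_specializes_of_germ _ (hG _).1 hW hyW
      (s := (G (n + m₀ * a)).presheaf.map (homOfLE le_top).op t) (by rwa [TopCat.Presheaf.germ_res_apply])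
    rw [TopCat.Presheaf.germ_res_apply] at hxne
    obtain ⟨z, hxz, hz⟩ := exists_specializes_notMem k hV (hass x (hassG _ ▸ hx))
    refine hxne ?_
    haveI : Module.Finite (X.presheaf.stalk z) ((G (n + m₀ * a)).presheaf.stalk z) :=
      H06Mod.finite_stalk _ (hG _).2 z
    have hz0 : (G (n + m₀ * a)).presheaf.germ ⊤ z trivial t = 0 := by
      have hmem : (G (n + m₀ * a)).presheaf.germ ⊤ z trivial t ∈
          (⨅ j : ℕ, maximalIdeal (X.presheaf.stalk z) ^ j •
            (⊤ : Submodule (X.presheaf.stalk z) ((G (n + m₀ * a)).presheaf.stalk z))) :=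
        (Submodule.mem_iInf _).2 fun j => hdeep z hz j m₀ le_rfl t
      rwa [Ideal.iInf_pow_smul_eq_bot_of_isLocalRing _ (maximalIdeal.isMaximal _).ne_top,
        Submodule.mem_bot] at hmem
    have := congrArg ((G (n + m₀ * a)).presheaf.stalkSpecializes hxz) hz0
    rwa [TopCat.Presheaf.germ_stalkSpecializes_apply, map_zero] at this
  choose m₀ hm₀ using key
  let N := (Finset.range a).sup m₀
  refine ⟨N * a + a, fun n hn => ?_⟩
  have h1 : n = n % a + n / a * a := by rw [mul_comm, Nat.mod_add_div]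
  have h2 : N ≤ n / a := (Nat.le_div_iff_mul_le ha).2 (by omega)
  have h3 := hm₀ (n % a) (n / a) ((Finset.le_sup (Finset.mem_range.2 (Nat.mod_lt n ha))).trans h2)
  rw [← h1] at h3
  exact Module.finrank_zero_iff.1 h3

end Groth.Agent.H22Alg.NegTwist
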