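import Mathlib
import Groth.Agent.H11Proj.ProjSpace
import Groth.Agent.H8Props.FieldDimHeight

/-! # The local rings of projective space over a field -/

set_option autoImplicit false
set_option linter.style.haveILetI false

universe u

open CategoryTheory AlgebraicGeometry MvPolynomial

namespace Groth.Agent.H22Alg.PnPoints

open H11Proj.ProjSpace

variable (n : ℕ) (k : Type u) [Field k]

/-- A local ring of projective space is a localization of a polynomial ring. -/
theorem exists_chart (x : CohB1.ProjSpace n k) :
    ∃ (i : Fin (n + 1)) (P : Ideal (MvPolynomial {j : Fin (n + 1) // j ≠ i} k)) (_ : P.IsPrime),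
      (IsClosed ({x} : Set (CohB1.ProjSpace n k)) → P.IsMaximal) ∧
      Nonempty (Localization.AtPrime P ≃+* (CohB1.ProjSpace n k).presheaf.stalk x) := by
  obtain ⟨i, hi⟩ := TopologicalSpace.Opens.mem_iSup.1
    (show x ∈ ⨆ i : Fin (n + 1), Proj.basicOpen (CohB1.polyGrading n k) (X i) by
      rw [iSup_basicOpen]; trivial)
  let f := Proj.awayι (CohB1.polyGrading n k) (X i) (X_mem n k i) one_pos
  let A := HomogeneousLocalization.Away (CohB1.polyGrading n k) (X i)
  have hx : x ∈ f.opensRange := by
    rw [Proj.opensRange_awayι]; exact hi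
  obtain ⟨y, hy⟩ := hx
  let e : MvPolynomial {j : Fin (n + 1) // j ≠ i} k ≃+* A :=
    RingEquiv.ofBijective _ (chartMap_bijective n k i)
  let P := y.asIdeal.comap e.toRingHom
  refine ⟨i, P, inferInstance, fun hcl => ?_, ?_⟩
  · have : IsClosed ({y} : Set (Spec (CommRingCat.of A))) := by
      rw [show ({y} : Set (Spec (CommRingCat.of A))) = f ⁻¹' {x} from ?_]
      · exact hcl.preimage f.continuous
      · exact (Set.ext fun z => ⟨fun h => by rw [Set.mem_singleton_iff] at h; subst h; exact hy, fun h => f.isOpenEmbedding.injective (h.trans hy.symm)⟩)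
    haveI : y.asIdeal.IsMaximal := (PrimeSpectrum.isClosed_singleton_iff_isMaximal y).1 this
    exact Ideal.comap_isMaximal_of_surjective e.toRingHom e.surjective
  · subst hy
    refine ⟨(IsLocalization.ringEquivOfRingEquiv (M := P.primeCompl) (T := y.asIdeal.primeCompl)
      (Localization.AtPrime P) (Localization.AtPrime y.asIdeal) e ?_).trans
      ((StructureSheaf.stalkIso A y).toRingEquiv.trans
        (asIso (f.stalkMap y)).commRingCatIsoToRingEquiv.symm)⟩
    ext a
    constructor
    · rintro ⟨b, hb, rfl⟩
      exact hb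
    · intro ha
      obtain ⟨b, rfl⟩ := e.surjective a
      exact ⟨b, ha, rfl⟩

theorem isRegularLocalRing_stalk (x : CohB1.ProjSpace n k) :
    IsRegularLocalRing ((CohB1.ProjSpace n k).presheaf.stalk x) := by
  obtain ⟨i, P, _, -, ⟨e⟩⟩ := exists_chart n k x
  exact IsRegularLocalRing.of_ringEquiv e

theorem dim_stalk_of_isClosed {x : CohB1.ProjSpace n k} (hx : IsClosed ({x} : Set (CohB1.ProjSpace n k))) :
    ringKrullDim ((CohB1.ProjSpace n k).presheaf.stalk x) = n := by
  obtain ⟨i, P, _, hmax, ⟨e⟩⟩ := exists_chart n k x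
  haveI := hmax hx
  rw [← ringKrullDim_eq_of_ringEquiv e, IsLocalization.AtPrime.ringKrullDim_eq_height P]
  have h := H8Props.FieldDim.height_add_dim_quotient k (MvPolynomial {j : Fin (n + 1) // j ≠ i} k) P
  letI := Ideal.Quotient.field P
  rw [ringKrullDim_eq_zero_of_field, add_zero] at h
  rw [h, MvPolynomial.ringKrullDim_of_isNoetherianRing, ringKrullDim_eq_zero_of_field, zero_add]
  simp

end Groth.Agent.H22Alg.PnPoints
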