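import Mathlib
import Groth.Agent.H22Alg.PnPoints
import Groth.Agent.H22Alg.NegTwist
import Groth.Agent.H28Int.Vanishing
import Groth.Agent.H10Coh.Stab.TwistInt
import Groth.Agent.H10Coh.SerreVanishing
import Groth.Agent.H10Coh.AmpleDevissage
import Groth.Agent.H10Coh.Proj.TwistQuot
import Groth.Agent.H10Coh.SheafHom.Pullback
import Groth.Agent.H10Inj.SheafExt.DualTensor
import Groth.Agent.H11Ample.Global
import Groth.Agent.H29Ref.Free
import Groth.Agent.H29Ref.HomSections
import Groth.Agent.H06Mod.StalkExact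
import Groth.Agent.H4Depth.DepthLemmas
import Groth.Agent.S0844
import Groth.Agent.S10962
import Groth.Agent.H16Derived.KFlat.LocFreeOps
import Groth.Agent.H10Coh.AffineAmple
import Groth.Agent.H8Props.FinLocFree.Global

/-!
# Vanishing of cohomology of very negative twists on projective space
-/

set_option autoImplicit false
set_option linter.style.haveILetI false

universe u

open CategoryTheory CategoryTheory.Limits AlgebraicGeometry Opposite TopologicalSpace

namespace Groth.Agent.H22Alg.ESZ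

variable {r : ℕ} {k : Type u} [Field k]

local notation "P" => CohB1.ProjSpace r k

/-- `H^i(F(-m)) = 0` for all large `m`. -/
def Van (r : ℕ) (k : Type u) [Field k] (i : ℕ) (F : (CohB1.ProjSpace r k).Modules) : Prop :=
  ∃ m₀ : ℕ, ∀ m : ℕ, m₀ ≤ m →
    Subsingleton (Coh.HH (CohB1.ProjSpace r k) (CohB1.tensorMod F (Twist.twistProjSpace r k (-(m : ℤ)))) i)

instance : IsProper (CohB1.ProjSpace r k ↘ Spec (CommRingCat.of k)) :=
  inferInstanceAs (IsProper (CohB1.ProjSpace.toSpec r k))

theorem isNoetherian_proj : IsNoetherian P := H28Int.isNoetherian k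

theorem isSeparated_proj : (P).IsSeparated := Scheme.IsSeparated.mk (by
  rw [← terminal.comp_from (CohB1.ProjSpace.toSpec r k)]; infer_instance)

attribute [local instance] isNoetherian_proj isSeparated_proj

variable (r k) in
theorem hO : H10Coh.Stab.IsTwistFamily fun a => Twist.twistProjSpace r k a :=
  H10Coh.Stab.isTwistFamily_projSpace r k

variable (r k) in
theorem hinvertible (a : ℤ) : PicF.IsInvertible (Twist.twistProjSpace r k a) :=
  (hO r k).inv a

theorem isAmple_one (hr : 1 ≤ r) : CohB1.IsAmple (Twist.twistProjSpace r k 1) :=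
  (S10962.result k r hr 1).2 one_pos

theorem toM {X : Scheme.{u}} {M : X.Modules} {i : ℕ} (h : Subsingleton (Coh.HH X M i)) :
    Subsingleton (H10Coh.HnM M i ⊤) :=
  @Equiv.subsingleton _ _ (H10Coh.HHEquiv M i).toEquiv.symm h

theorem fromM {X : Scheme.{u}} {M : X.Modules} {i : ℕ} (h : Subsingleton (H10Coh.HnM M i ⊤)) :
    Subsingleton (Coh.HH X M i) :=
  @Equiv.subsingleton _ _ (H10Coh.HHEquiv M i).toEquiv h

theorem subsingleton_HH_iso {X : Scheme.{u}} {M N : X.Modules} (e : M ≅ N) {i : ℕ}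
    (h : Subsingleton (Coh.HH X M i)) : Subsingleton (Coh.HH X N i) :=
  fromM (H10Coh.Tw.subsingleton_of_iso e (toM h))

/-- Twisting an isomorphism. -/
noncomputable def twIso {X : Scheme.{u}} {F G : X.Modules} (e : F ≅ G) (L : X.Modules) :
    CohB1.tensorMod F L ≅ CohB1.tensorMod G L :=
  PicGrp.tensorModIso e (Iso.refl L)

/-- Changing the twist. -/
noncomputable def twIso' {X : Scheme.{u}} (F : X.Modules) {L L' : X.Modules} (e : L ≅ L') :
    CohB1.tensorMod F L ≅ CohB1.tensorMod F L' :=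
  PicGrp.tensorModIso (Iso.refl F) e

variable {i : ℕ} {S : ShortComplex (CohB1.ProjSpace r k).Modules}

theorem van_X₂ (hS : S.ShortExact) (h₁ : Van r k i S.X₁) (h₃ : Van r k i S.X₃) : Van r k i S.X₂ := by
  obtain ⟨m₁, h₁⟩ := h₁
  obtain ⟨m₃, h₃⟩ := h₃
  refine ⟨max m₁ m₃, fun m hm => fromM ?_⟩
  exact H10Coh.Tw.subsingleton_X₂ (H10Coh.shortExact_sh (H10Coh.Tw.shortExact_seq hS (hinvertible r k (-(m : ℤ)))))
    (toM (h₁ m (le_of_max_le_left hm)))
    (toM (h₃ m (le_of_max_le_right hm)))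

theorem van_X₁ (hS : S.ShortExact) (h₂ : Van r k (i + 1) S.X₂) (h₃ : Van r k i S.X₃) :
    Van r k (i + 1) S.X₁ := by
  obtain ⟨m₁, h₂⟩ := h₂
  obtain ⟨m₃, h₃⟩ := h₃
  refine ⟨max m₁ m₃, fun m hm => fromM ?_⟩
  exact H28Int.subsingleton_X₁ (H10Coh.shortExact_sh (H10Coh.Tw.shortExact_seq hS (hinvertible r k (-(m : ℤ)))))
    (toM (h₂ m (le_of_max_le_left hm)))
    (toM (h₃ m (le_of_max_le_right hm)))

theorem van_X₃ (hS : S.ShortExact) (h₂ : Van r k i S.X₂) (h₁ : Van r k (i + 1) S.X₁) :
    Van r k i S.X₃ := by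
  obtain ⟨m₁, h₂⟩ := h₂
  obtain ⟨m₃, h₁⟩ := h₁
  refine ⟨max m₁ m₃, fun m hm => fromM ?_⟩
  exact H10Coh.Tw.subsingleton_X₃ (H10Coh.shortExact_sh (H10Coh.Tw.shortExact_seq hS (hinvertible r k (-(m : ℤ)))))
    (toM (h₂ m (le_of_max_le_left hm)))
    (toM (h₁ m (le_of_max_le_right hm)))

theorem van_iso {F G : (CohB1.ProjSpace r k).Modules} (e : F ≅ G) (h : Van r k i F) : Van r k i G := by
  obtain ⟨m₀, h⟩ := h
  exact ⟨m₀, fun m hm => subsingleton_HH_iso (twIso e (Twist.twistProjSpace r k (-(m : ℤ)))) (h m hm)⟩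

/-- Sums of twists have no cohomology strictly below the top degree after negative twisting. -/
theorem van_sum {p : ℕ} (d : Fin p → ℤ) (hi : i < r) :
    Van r k i (∐ fun j => Twist.twistProjSpace r k (d j)) := by
  classical
  refine ⟨(∑ j, (d j).natAbs) + 1, fun m hm => fromM ?_⟩
  refine H10Coh.Tw.subsingleton_sigma_tensor _ (hinvertible r k _) fun j => ?_
  obtain ⟨e⟩ := (hO r k).add (d j) (-(m : ℤ))
  have hj : (d j).natAbs ≤ ∑ l, (d l).natAbs := Finset.single_le_sum (f := fun l => (d l).natAbs)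
    (fun l _ => Nat.zero_le _) (Finset.mem_univ j)
  exact H10Coh.Tw.subsingleton_of_iso e.symm
    (toM (S0844.result k r (d j + -(m : ℤ)) i (by omega) (by omega)))

/-- The stalks at closed points have depth `r`. -/
theorem depth_stalk_self {x : P} (hx : IsClosed ({x} : Set P)) :
    LocCoh.depth ((P).presheaf.stalk x) ((P).presheaf.stalk x) = r := by
  haveI := PnPoints.isRegularLocalRing_stalk r k x
  have h := H4Depth.depth_self_eq_ringKrullDim_of_regular ((P).presheaf.stalk x)
  rw [PnPoints.dim_stalk_of_isClosed r k hx] at h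
  exact_mod_cast h

theorem depth_finLocFree {E : (CohB1.ProjSpace r k).Modules} (hE : FlatMod.IsFinLocFree E) {x : P}
    (hx : IsClosed ({x} : Set P)) :
    (r : ℕ∞) ≤ LocCoh.depth ((P).presheaf.stalk x) (E.presheaf.stalk x) := by
  haveI := H29Ref.finite_stalk _ (H10Coh.Tw.isCoh_of_vb hE).2 x
  haveI := H8Props.FinLocFree.free_stalk _ hE x
  obtain ⟨p, ⟨b⟩⟩ : ∃ q, Nonempty (Module.Basis (Fin q) ((P).presheaf.stalk x) ((E).presheaf.stalk x)) :=
    ⟨_, ⟨Module.finBasis _ _⟩⟩
  rw [← depth_stalk_self hx]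
  exact (H4Depth.idealDepth_le_idealDepth_pi _ p).trans
    (H4Depth.idealDepth_congr _ b.equivFun.symm).le

/-- A coherent module of full depth at the closed points is locally free. -/
theorem finLocFree_of_depth {F : (CohB1.ProjSpace r k).Modules} (hF : Coh.IsCoh F)
    (h : ∀ x : P, IsClosed ({x} : Set P) →
      (r : ℕ∞) ≤ LocCoh.depth ((P).presheaf.stalk x) (F.presheaf.stalk x)) :
    FlatMod.IsFinLocFree F := fun y => by
  haveI : JacobsonSpace P := LocallyOfFiniteType.jacobsonSpace (CohB1.ProjSpace.toSpec r k)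
  obtain ⟨x, hxy, hx⟩ := IsClosed.exists_closed_singleton (isClosed_closure (s := ({y} : Set P)))
    ⟨y, subset_closure rfl⟩
  haveI := PnPoints.isRegularLocalRing_stalk r k x
  haveI := H29Ref.finite_stalk F hF.2 x
  haveI : Module.Free ((P).presheaf.stalk x) (F.presheaf.stalk x) := by
    refine H29Ref.free_of_dim_le_depth _ ?_
    rw [PnPoints.dim_stalk_of_isClosed r k hx]
    exact WithBot.coe_le_coe.2 (h x hx)
  obtain ⟨U, hU, e⟩ := H8Props.FunDescent.isFreeOfRankNear_of_stalkFree_of_isFP F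
    (H10Coh.isFP_of_isCoh F hF) (p := Module.finrank ((P).presheaf.stalk x) (F.presheaf.stalk x)) (x := x)
    ⟨Module.finBasis _ _⟩
  exact ⟨U, _, (specializes_iff_mem_closure.2 hxy).mem_open U.isOpen hU, e⟩

/-- `H⁰(F(-m)) = 0` for large `m` when no closed point is associated. -/
theorem van_zero (hr : 1 ≤ r) {F : (CohB1.ProjSpace r k).Modules} (hF : Coh.IsCoh F)
    (h : ∀ x : P, IsClosed ({x} : Set P) →
      (1 : ℕ∞) ≤ LocCoh.depth ((P).presheaf.stalk x) (F.presheaf.stalk x)) : Van r k 0 F := by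
  have hinv : ClSub.IsInverseOf (Twist.twistProjSpace r k 1) (Twist.twistProjSpace r k (-1)) := by
    obtain ⟨e⟩ := (hO r k).add 1 (-1)
    obtain ⟨e'⟩ := (hO r k).zero
    exact ⟨e ≪≫ eqToIso (congrArg (fun a => Twist.twistProjSpace r k a) (by norm_num)) ≪≫ e'⟩
  obtain ⟨n₀, hn⟩ := NegTwist.exists_subsingleton k (isAmple_one hr) hinv hF fun x hx hc => by
    haveI := H29Ref.finite_stalk F hF.2 x
    have h0 : LocCoh.depth ((P).presheaf.stalk x) (F.presheaf.stalk x) = 0 := by
      refine (H4Depth.idealDepth_eq_zero_iff_exists_associatedPrime ?_).2 ⟨_, hx, le_rfl⟩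
      haveI : Nontrivial (F.presheaf.stalk x) := not_subsingleton_iff_nontrivial.1 fun hs => (hx : IsAssociatedPrime _ _).1.ne_top (by
        obtain ⟨-, a, ha⟩ := hx
        rw [ha, Subsingleton.elim a 0]; simp)
      exact (Submodule.top_ne_ideal_smul_of_le_jacobson_annihilator
        (IsLocalRing.maximalIdeal_le_jacobson _)).symm
    have := h x hc
    rw [h0] at this
    exact absurd this (by simp)
  refine ⟨n₀, fun m hm => ?_⟩
  have hO' : H10Coh.Stab.IsTwistFamily fun a : ℤ => Twist.twistProjSpace r k (-a) :=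
    { inv := fun a => hinvertible r k (-a)
      zero := by
        obtain ⟨e⟩ := (hO r k).zero
        exact ⟨eqToIso (congrArg (fun a => Twist.twistProjSpace r k a) neg_zero) ≪≫ e⟩
      add := fun a b => by
        obtain ⟨e⟩ := (hO r k).add (-a) (-b)
        exact ⟨e ≪≫ eqToIso (congrArg (fun a => Twist.twistProjSpace r k a) (neg_add a b).symm)⟩ }
  obtain ⟨e⟩ := hO'.nonempty_tensorPow m
  exact subsingleton_HH_iso (twIso' F e) (hn m hm)

theorem stalkLin_comp {A B C : (CohB1.ProjSpace r k).Modules} (f : A ⟶ B) (g : B ⟶ C) (x : P) (a) :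
    H06Mod.stalkLin (f ≫ g) x a = H06Mod.stalkLin g x (H06Mod.stalkLin f x a) := by
  have h := ((TopCat.Presheaf.stalkFunctor Ab x).map_comp f.mapPresheaf g.mapPresheaf)
  exact ConcreteCategory.congr_hom h a

/-- A locally free module embeds in a sum of twists with locally free cokernel. -/
theorem exists_split_embedding (hr : 1 ≤ r) {E : (CohB1.ProjSpace r k).Modules}
    (hE : FlatMod.IsFinLocFree E) :
    ∃ (p : ℕ) (d : Fin p → ℤ) (φ : E ⟶ ∐ fun j => Twist.twistProjSpace r k (d j)) (_ : Mono φ),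
      FlatMod.IsFinLocFree (cokernel φ) := by
  classical
  have hEc : Coh.IsCoh E := H10Coh.Tw.isCoh_of_vb hE
  have hEp := H10Coh.isFP_of_isCoh E hEc
  let D := RefHull.dual E
  have hD : Coh.IsCoh D := H29Ref.isCoh_dual E hEc
  obtain ⟨n₀, hgen⟩ := H11Ample.eventually_spanning (isAmple_one hr) hD
  obtain ⟨ι, _, g, hg⟩ := hgen n₀ le_rfl
  let N := CohB1.tensorPow (Twist.twistProjSpace r k 1) n₀
  let θ := H10Inj.SheafExt.dualHom E N
  haveI : IsIso θ := H10Inj.SheafExt.isIso_dualHom N hE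
  choose f hf using fun a : ι => H10Coh.SheafHom.ofHom_surjective (θ.app ⊤ (g a))
  obtain ⟨eN⟩ := (hO r k).nonempty_tensorPow n₀
  let p := Fintype.card ι
  let Tf : Fin p → (CohB1.ProjSpace r k).Modules := fun _ => Twist.twistProjSpace r k (n₀ : ℤ)
  let c : Fin p → (E ⟶ Twist.twistProjSpace r k (n₀ : ℤ)) := fun j =>
    f ((Fintype.equivFin ι).symm j) ≫ eN.hom
  let φ : E ⟶ ∐ Tf := biproduct.lift c ≫ (biproduct.isoCoproduct Tf).hom
  have hret : ∀ x : P, ∃ ρ : (∐ Tf).presheaf.stalk x →ₗ[(P).presheaf.stalk x] E.presheaf.stalk x,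
      ρ ∘ₗ H06Mod.stalkLin φ x = LinearMap.id := by
    intro x
    haveI := H29Ref.finite_stalk _ (H10Coh.Tw.isCoh_of_vb hE).2 x
    haveI := H8Props.FinLocFree.free_stalk _ hE x
    obtain ⟨q, ⟨b⟩⟩ : ∃ q, Nonempty (Module.Basis (Fin q) ((P).presheaf.stalk x) ((E).presheaf.stalk x)) :=
      ⟨_, ⟨Module.finBasis _ _⟩⟩
    obtain ⟨V, e, hxV, he⟩ := H11Ample.exists_gen (hinvertible r k (n₀ : ℤ)) x
    let ε : (Twist.twistProjSpace r k (n₀ : ℤ)).presheaf.stalk x ≃ₗ[(P).presheaf.stalk x] (P).presheaf.stalk x :=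
      (LinearEquiv.ofBijective (LinearMap.toSpanSingleton ((P).presheaf.stalk x) _
        ((Twist.twistProjSpace r k (n₀ : ℤ)).presheaf.germ V x hxV e)) (he x hxV)).symm
    have hspan : ∀ μ : E.presheaf.stalk x →ₗ[(P).presheaf.stalk x] N.presheaf.stalk x,
        μ ∈ Submodule.span ((P).presheaf.stalk x) (Set.range fun a => H06Mod.stalkLin (f a) x) := by
      intro μ
      obtain ⟨t, ht⟩ := (H29Ref.evalStalk_bijective E N hEp x).2 μ
      obtain ⟨t', ht'⟩ := ((H29Ref.isIso_iff_bijective_stalk θ).1 inferInstance x).2 t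
      obtain ⟨W, hxW, s, rfl⟩ := TopCat.Presheaf.exists_germ_eq _ t'
      obtain ⟨W', hW', hxW', hs⟩ := hg W s x hxW
      rw [← TopCat.Presheaf.germ_res_apply _ (homOfLE hW') x hxW' s] at ht'
      have hgerm : ∀ z, z ∈ Submodule.span Γ(P, W') (Set.range fun a => (CohB1.tensorMod D N).presheaf.map
            (homOfLE (le_top : W' ≤ ⊤)).op (g a)) →
          (CohB1.tensorMod D N).presheaf.germ W' x hxW' z ∈ Submodule.span ((P).presheaf.stalk x)
            (Set.range fun a => (CohB1.tensorMod D N).presheaf.germ ⊤ x (show x ∈ (⊤ : (P).Opens) from trivial) (g a)) := by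
        intro z hz
        induction hz using Submodule.span_induction with
        | mem z hz =>
          obtain ⟨a, rfl⟩ := hz
          exact Submodule.subset_span ⟨a, (TopCat.Presheaf.germ_res_apply _ _ _ _ _).symm⟩
        | zero => rw [map_zero]; exact Submodule.zero_mem _
        | add y z _ _ hy hz => rw [map_add]; exact Submodule.add_mem _ hy hz
        | smul c y _ hy => rw [H06Mod.germ_smul]; exact Submodule.smul_mem _ _ hy
      have h1 := Submodule.mem_map_of_mem (f := (RefHull.evalStalk E N x).comp (RefHull.stalkMapₗ θ x))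
        (hgerm _ hs)
      rw [← ht, ← ht']
      refine (Submodule.map_span_le _ _ _).2 ?_ h1
      rintro _ ⟨a, rfl⟩
      refine Submodule.subset_span ⟨a, ?_⟩
      show H06Mod.stalkLin (f a) x = RefHull.evalStalk E N x (RefHull.stalkMapₗ θ x _)
      refine ((congrArg (RefHull.evalStalk E N x) (RefHull.stalkMapₗ_germ θ (U := ⊤) x (show x ∈ (⊤ : (P).Opens) from trivial) (g a))).trans ?_).symm
      rw [← hf a]
      exact RefHull.evalStalk_germ (F := E) (G := N) (U := ⊤) x (show x ∈ (⊤ : (P).Opens) from trivial) _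
    have key : ∀ l : Fin q, ∃ cl : ι → (P).presheaf.stalk x, ∀ v,
        b.coord l v = ε (H06Mod.stalkLin eN.hom x (∑ a, cl a • H06Mod.stalkLin (f a) x v)) := by
      intro l
      let ψ := (H06Mod.stalkLin eN.inv x) ∘ₗ ε.symm.toLinearMap ∘ₗ (b.coord l)
      obtain ⟨cl, hcl⟩ := (Submodule.mem_span_range_iff_exists_fun _).1 (hspan ψ)
      refine ⟨cl, fun v => ?_⟩
      have := LinearMap.congr_fun hcl v
      simp only [LinearMap.sum_apply, LinearMap.smul_apply] at this
      rw [this]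
      show b.coord l v = ε (H06Mod.stalkLin eN.hom x (H06Mod.stalkLin eN.inv x (ε.symm (b.coord l v))))
      rw [← stalkLin_comp, eN.inv_hom_id]
      refine ((congrArg ε ?_).trans (ε.apply_symm_apply _)).symm
      obtain ⟨W, hW, z, hz⟩ := TopCat.Presheaf.exists_germ_eq _ (ε.symm (b.coord l v))
      rw [← hz, H06Mod.stalkLin_germ]
      rfl
    choose cl hcl using key
    let pr : ι → ((∐ Tf).presheaf.stalk x →ₗ[(P).presheaf.stalk x]
        (Twist.twistProjSpace r k (n₀ : ℤ)).presheaf.stalk x) := fun a =>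
      H06Mod.stalkLin ((biproduct.isoCoproduct Tf).inv ≫ biproduct.π Tf (Fintype.equivFin ι a)) x
    refine ⟨∑ l, (LinearMap.toSpanSingleton _ _ (b l)) ∘ₗ ε.toLinearMap ∘ₗ (∑ a, cl l a • pr a),
      LinearMap.ext fun v => ?_⟩
    have hpr : ∀ a, pr a (H06Mod.stalkLin φ x v) = H06Mod.stalkLin eN.hom x (H06Mod.stalkLin (f a) x v) := by
      intro a
      rw [← stalkLin_comp, ← stalkLin_comp]
      refine congrArg (fun h => H06Mod.stalkLin h x v) ?_
      simp only [φ, c, Category.assoc, Iso.hom_inv_id_assoc]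
      exact (biproduct.lift_π (f := Tf) _ _).trans (by simp)
    simp only [LinearMap.comp_apply, LinearMap.sum_apply, LinearMap.smul_apply, LinearMap.id_apply,
      LinearEquiv.coe_coe, LinearMap.toSpanSingleton_apply, hpr]
    refine (Finset.sum_congr rfl fun l _ => ?_).trans (b.sum_repr v)
    congr 1
    rw [show b.repr v l = b.coord l v from rfl, hcl l v, map_sum (H06Mod.stalkLin eN.hom x)]
    simp only [map_smul]
  choose ρ hρ using hret
  have hinj : ∀ x : P, Function.Injective (H06Mod.stalkLin φ x) := fun x =>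
    Function.HasLeftInverse.injective ⟨ρ x, fun v => LinearMap.congr_fun (hρ x) v⟩
  haveI hmono : Mono φ := H11Tilde.mono_of_injective φ fun W t ht x hx => by
    have h0 := H06Mod.stalkLin_germ φ x W hx t
    rw [show φ.app W t = 0 from ht, map_zero] at h0
    obtain ⟨V, hxV, iV, iW, hV⟩ := E.presheaf.germ_eq x hx hx t 0 ((hinj x (h0.trans (map_zero _).symm)).trans (map_zero _).symm)
    exact ⟨V, iV.le, hxV, hV.trans (map_zero _)⟩
  refine ⟨p, fun _ => (n₀ : ℤ), φ, hmono, ?_⟩
  have hS : (ShortComplex.mk φ (cokernel.π φ) (cokernel.condition φ)).ShortExact :=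
    ShortComplex.ShortExact.mk' (ShortComplex.exact_cokernel φ) inferInstance inferInstance
  have hT : FlatMod.IsFinLocFree (∐ Tf) := H16Derived.KFlat.Stalk.isFinLocFree_sigma Tf fun j =>
    H28Pinch.isFinLocFree_of_isInvertible (hinvertible r k _)
  refine H29Ref.isFinLocFree_of_free_stalk _ (H10Coh.isCoh_cokernel φ hEc.1 (H10Coh.Tw.isCoh_of_vb hT)) fun x => ?_
  haveI := H29Ref.finite_stalk _ (H10Coh.Tw.isCoh_of_vb hT).2 x
  haveI := H29Ref.finite_stalk _ (H10Coh.Tw.isCoh_of_vb hT).2 x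
  haveI := H8Props.FinLocFree.free_stalk _ hT x
  obtain ⟨q, ⟨b⟩⟩ : ∃ q, Nonempty (Module.Basis (Fin q) ((P).presheaf.stalk x) ((∐ Tf).presheaf.stalk x)) :=
    ⟨_, ⟨Module.finBasis _ _⟩⟩
  let π := H06Mod.stalkLin (cokernel.π φ) x
  have hex : Function.Exact (H06Mod.stalkLin φ x) π := H06Mod.stalk_exact _ hS x
  have hsur : Function.Surjective π := H06Mod.stalk_surjective _ hS x
  obtain ⟨σ, hσ⟩ : ∃ σ, π ∘ₗ σ = LinearMap.id :=
    ((List.TFAE.out (Function.Exact.split_tfae' hex) 1 0 rfl rfl).1 ⟨hsur, ρ x, hρ x⟩).2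
  haveI : Module.Projective ((P).presheaf.stalk x) ((cokernel φ).presheaf.stalk x) :=
    Module.Projective.of_split σ π hσ
  haveI : Module.Finite ((P).presheaf.stalk x) ((cokernel φ).presheaf.stalk x) :=
    Module.Finite.of_surjective π hsur
  exact Module.free_of_flat_of_isLocalRing

/-- Locally free modules. -/
theorem van_finLocFree (i : ℕ) : i < r → ∀ E : (CohB1.ProjSpace r k).Modules, FlatMod.IsFinLocFree E →
    Van r k i E := by
  induction i with
  | zero =>
    intro hi E hE
    exact van_zero hi (H10Coh.Tw.isCoh_of_vb hE) fun x hx =>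
      le_trans (by exact_mod_cast hi) (depth_finLocFree hE hx)
  | succ i ih =>
    intro hi E hE
    obtain ⟨p, d, φ, hφ, hQ⟩ := exists_split_embedding (by omega) hE
    have hS : (ShortComplex.mk φ (cokernel.π φ) (cokernel.condition φ)).ShortExact :=
      ShortComplex.ShortExact.mk' (ShortComplex.exact_cokernel φ) inferInstance inferInstance
    have h₂ : Van r k (i + 1) (∐ fun j => Twist.twistProjSpace r k (d j)) := van_sum d hi
    have h₃ : Van r k i (cokernel φ) := ih (by omega) _ hQ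
    exact van_X₁ (S := ShortComplex.mk φ (cokernel.π φ) (cokernel.condition φ)) hS h₂ h₃

theorem depth_kernel {F T : (CohB1.ProjSpace r k).Modules} (ψ : T ⟶ F) [Epi ψ] (hT : FlatMod.IsFinLocFree T)
    {x : P} (hx : IsClosed ({x} : Set P)) :
    min (r : ℕ∞) (LocCoh.depth ((P).presheaf.stalk x) (F.presheaf.stalk x) + 1) ≤
      LocCoh.depth ((P).presheaf.stalk x) ((kernel ψ).presheaf.stalk x) := by
  have hS : (ShortComplex.mk (kernel.ι ψ) ψ (kernel.condition ψ)).ShortExact :=
    ShortComplex.ShortExact.mk' (ShortComplex.exact_kernel ψ) inferInstance inferInstance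
  refine le_trans (min_le_min_right _ (depth_finLocFree hT hx)) ?_
  haveI := H29Ref.finite_stalk _ (H10Coh.Tw.isCoh_of_vb hT).2 x
  haveI : Module.Finite ((P).presheaf.stalk x) (F.presheaf.stalk x) :=
    Module.Finite.of_surjective (H06Mod.stalkLin ψ x) (H06Mod.stalk_surjective _ hS x)
  haveI : Module.Finite ((P).presheaf.stalk x) ((kernel ψ).presheaf.stalk x) :=
    Module.Finite.of_injective (H06Mod.stalkLin (kernel.ι ψ) x) (H06Mod.stalk_injective _ hS x)
  exact H4Depth.min_le_idealDepth_left _ (H06Mod.stalk_injective _ hS x) (H06Mod.stalk_surjective _ hS x)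
    (H06Mod.stalk_exact _ hS x)

/-- Depth above `n` at the closed points kills `H^i(F(-m))`, `i ≤ n`. -/
theorem van_of_depth (j : ℕ) : ∀ n : ℕ, r ≤ n + 1 + j → n < r → ∀ F : (CohB1.ProjSpace r k).Modules,
    Coh.IsCoh F →
    (∀ x : P, IsClosed ({x} : Set P) → (n : ℕ∞) < LocCoh.depth ((P).presheaf.stalk x) (F.presheaf.stalk x)) →
    ∀ i ≤ n, Van r k i F := by
  induction j with
  | zero =>
    intro n hj hn F hF h i hi
    refine van_finLocFree i (by omega) F (finLocFree_of_depth hF fun x hx => ?_)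
    exact le_trans (by exact_mod_cast hj) ((ENat.add_one_le_iff (ENat.coe_ne_top n)).2 (h x hx))
  | succ j ih =>
    intro n hj hn F hF h i hi
    by_cases hn' : n + 1 < r
    · obtain ⟨p, d, ψ, hψ⟩ : ∃ (p : ℕ) (d : Fin p → ℤ)
          (ψ : (∐ fun l => Twist.twistProjSpace r k (d l)) ⟶ F), Epi ψ :=
        H10Coh.ProjQ.exists_epi_twists (CohB1.polyGrading r k) (IsNoetherian.noetherian _) F hF
      have hT : FlatMod.IsFinLocFree (∐ fun l => Twist.twistProjSpace r k (d l)) :=
        H16Derived.KFlat.Stalk.isFinLocFree_sigma _ fun l =>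
          H28Pinch.isFinLocFree_of_isInvertible (hinvertible r k (d l))
      have hS : (ShortComplex.mk (kernel.ι ψ) ψ (kernel.condition ψ)).ShortExact :=
        ShortComplex.ShortExact.mk' (ShortComplex.exact_kernel ψ) inferInstance hψ
      have h₂ : Van r k i (∐ fun l => Twist.twistProjSpace r k (d l)) := van_sum d (by omega)
      have h₁ : Van r k (i + 1) (kernel ψ) := by
        refine ih (n + 1) (by omega) hn' _
          (H10Coh.isCoh_kernel ψ (H10Coh.Tw.isCoh_of_vb hT) hF.1) (fun x hx => ?_) (i + 1) (by omega)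
        refine lt_of_lt_of_le (lt_min (by exact_mod_cast hn') ?_) (depth_kernel ψ hT hx)
        push_cast
        exact ENat.add_lt_add_iff_right (ENat.one_ne_top) |>.2 (h x hx)
      exact van_X₃ (S := ShortComplex.mk (kernel.ι ψ) ψ (kernel.condition ψ)) hS h₂ h₁
    · exact ih n (by omega) hn F hF h i hi

end Groth.Agent.H22Alg.ESZ
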