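import Mathlib
import Groth.Agent.H22Alg.ESZ
import Groth.Agent.H22Alg.CurveProj
import Groth.Agent.H10Coh.AffinePush
import Groth.Agent.H16Derived.ProjFormula.ClosedImm
import Groth.Agent.H8Props.FlatDepth
import Groth.Agent.H4Depth.LocDepth

/-!
# Negative twists on closed subschemes of projective space and on proper schemes
-/

set_option autoImplicit false
set_option linter.style.haveILetI false

universe u

open CategoryTheory CategoryTheory.Limits AlgebraicGeometry Opposite TopologicalSpace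

namespace Groth.Agent.H22Alg.ESZ

variable {r : ℕ} {k : Type u} [Field k]

attribute [local instance] isNoetherian_proj isSeparated_proj

theorem isZero_of_stalks {X : Scheme.{u}} (M : X.Modules) (h : ∀ x, Subsingleton (M.presheaf.stalk x)) :
    IsZero M := by
  rw [IsZero.iff_id_eq_zero]
  refine Scheme.Modules.hom_ext _ _ fun U => ConcreteCategory.hom_ext _ _ fun s => ?_
  exact NegTwist.sec_ext fun x hx => @Subsingleton.elim _ (h x) _ _

theorem subsingleton_HH_of_isZero {X : Scheme.{u}} {M : X.Modules} (h : IsZero M) (i : ℕ) :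
    Subsingleton (Coh.HH X M i) := by
  refine fromM (H10Coh.Tw.subsingleton_of_sum_eq_id (ι := PEmpty.{1}) (P := fun e => e.elim)
    (fun e => e.elim) (fun e => e.elim) ?_ (fun e => e.elim))
  exact ((H10Coh.shF X).map_isZero h).eq_of_src _ _

theorem isZero_tensor {X : Scheme.{u}} {M : X.Modules} (h : IsZero M) (L : X.Modules) :
    IsZero (CohB1.tensorMod M L) :=
  isZero_of_stalks _ fun x => by
    haveI : Subsingleton (M.presheaf.stalk x) := by
      have h0 := (DerSch.stalkFunctor X x).map_isZero h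
      exact ModuleCat.subsingleton_of_isZero h0
    exact (H16Derived.KFlat.Stalk.stalkEquiv M L x).toEquiv.symm.subsingleton

local notation "P" => CohB1.ProjSpace r k

/-- Depth above `r` at the closed points forces zero. -/
theorem isZero_of_depth {F : (CohB1.ProjSpace r k).Modules} (hF : Coh.IsCoh F)
    (h : ∀ x : P, IsClosed ({x} : Set P) →
      (r : ℕ∞) < LocCoh.depth ((P).presheaf.stalk x) (F.presheaf.stalk x)) : IsZero F := by
  refine isZero_of_stalks F fun y => not_not.1 (fun hy => ?_)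
  haveI : JacobsonSpace P := LocallyOfFiniteType.jacobsonSpace (CohB1.ProjSpace.toSpec r k)
  obtain ⟨x, hxy, hx⟩ := IsClosed.exists_closed_singleton (isClosed_closure (s := ({y} : Set P)))
    ⟨y, subset_closure rfl⟩
  have hxs : x ∈ CohB1.support F :=
    (H10Coh.isClosed_support F hF.2).closure_subset_iff.2 (Set.singleton_subset_iff.2 hy) hxy
  haveI := H29Ref.finite_stalk F hF.2 x
  haveI : Nontrivial (F.presheaf.stalk x) := not_subsingleton_iff_nontrivial.1 hxs
  have h1 := (H4Depth.depth_le_supportDim (R := (P).presheaf.stalk x) (M := F.presheaf.stalk x)).trans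
    (Module.supportDim_le_ringKrullDim _ _)
  rw [PnPoints.dim_stalk_of_isClosed r k hx] at h1
  exact absurd (h x hx) (not_lt.2 (WithBot.coe_le_coe.1 h1))

/-- Depth above `n` at the closed points kills `H^i(F(-m))`, `i ≤ n`, for every `n`. -/
theorem van_of_depth' (n : ℕ) {F : (CohB1.ProjSpace r k).Modules} (hF : Coh.IsCoh F)
    (h : ∀ x : P, IsClosed ({x} : Set P) → (n : ℕ∞) < LocCoh.depth ((P).presheaf.stalk x) (F.presheaf.stalk x))
    (i : ℕ) (hi : i ≤ n) : Van r k i F := by
  by_cases hn : n < r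
  · exact van_of_depth r n (by omega) hn F hF h i hi
  · have hz := isZero_of_depth hF fun x hx => lt_of_le_of_lt (by exact_mod_cast not_lt.1 hn) (h x hx)
    exact ⟨0, fun m _ => subsingleton_HH_of_isZero (isZero_tensor hz _) i⟩

theorem van_bound (n : ℕ) {F : (CohB1.ProjSpace r k).Modules} (h : ∀ i ≤ n, Van r k i F) :
    ∃ m₀ : ℕ, ∀ m : ℕ, m₀ ≤ m → ∀ i ≤ n,
      Subsingleton (Coh.HH P (CohB1.tensorMod F (Twist.twistProjSpace r k (-(m : ℤ)))) i) := by
  choose! m₀ hm₀ using h
  exact ⟨(Finset.range (n + 1)).sup m₀, fun m hm i hi =>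
    hm₀ i hi m ((Finset.le_sup (Finset.mem_range.2 (by omega))).trans hm)⟩

/-- The depth of a direct image along a closed immersion. -/
theorem depth_push {X Y : Scheme.{u}} (f : X ⟶ Y) [IsClosedImmersion f] (G : X.Modules) (x : X) :
    LocCoh.depth (Y.presheaf.stalk (f.base x)) (((Scheme.Modules.pushforward f).obj G).presheaf.stalk (f.base x)) =
      LocCoh.depth (X.presheaf.stalk x) (G.presheaf.stalk x) := by
  letI : Algebra (Y.presheaf.stalk (f.base x)) (X.presheaf.stalk x) := (f.stalkMap x).hom.toAlgebra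
  letI : Module (Y.presheaf.stalk (f.base x)) (G.presheaf.stalk x) :=
    Module.compHom _ (f.stalkMap x).hom
  haveI : IsScalarTower (Y.presheaf.stalk (f.base x)) (X.presheaf.stalk x) (G.presheaf.stalk x) :=
    IsScalarTower.of_algebraMap_smul fun _ _ => rfl
  refine Eq.trans ?_ (H8Props.FlatDepth.depth_eq_of_surjective (R := Y.presheaf.stalk (f.base x))
    (S := X.presheaf.stalk x) (M := G.presheaf.stalk x) (f.stalkMap_surjective x)).symm
  let e : ((Scheme.Modules.pushforward f).obj G).presheaf.stalk (f.base x) ≃ₗ[Y.presheaf.stalk (f.base x)]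
      G.presheaf.stalk x :=
    LinearEquiv.ofBijective
      ({ toFun := H16Derived.ProjFormula.pushStalk f G x
         map_add' := map_add _
         map_smul' := fun a σ => H16Derived.ProjFormula.pushStalk_smul f G x a σ } :
        ((Scheme.Modules.pushforward f).obj G).presheaf.stalk (f.base x) →ₗ[Y.presheaf.stalk (f.base x)]
          G.presheaf.stalk x)
      (H16Derived.ProjFormula.pushStalk_bijective f G x)
  exact H4Depth.depth_congr e

/-- Tensoring with an invertible module preserves depth. -/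
theorem depth_tensor {X : Scheme.{u}} {N : X.Modules} (hN : PicF.IsInvertible N) (F : X.Modules) (x : X) :
    LocCoh.depth (X.presheaf.stalk x) ((CohB1.tensorMod F N).presheaf.stalk x) =
      LocCoh.depth (X.presheaf.stalk x) (F.presheaf.stalk x) := by
  obtain ⟨V, e, hxV, he⟩ := H11Ample.exists_gen hN x
  let ε : N.presheaf.stalk x ≃ₗ[X.presheaf.stalk x] X.presheaf.stalk x :=
    (LinearEquiv.ofBijective (LinearMap.toSpanSingleton (X.presheaf.stalk x) (N.presheaf.stalk x)
      (N.presheaf.germ V x hxV e)) (he x hxV)).symm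
  exact H4Depth.depth_congr ((H16Derived.KFlat.Stalk.stalkEquiv F N x).symm ≪≫ₗ
    (TensorProduct.congr (LinearEquiv.refl _ _) ε ≪≫ₗ TensorProduct.rid _ _))

/-- Negative twists on a closed subscheme of projective space. -/
theorem exists_bound_closed {X : Scheme.{u}} (f : X ⟶ CohB1.ProjSpace r k) [IsClosedImmersion f]
    {G : X.Modules} (hG : Coh.IsCoh G) (n : ℕ)
    (h : ∀ x : X, IsClosed ({x} : Set X) → (n : ℕ∞) < LocCoh.depth (X.presheaf.stalk x) (G.presheaf.stalk x)) :
    ∃ m₀ : ℕ, ∀ m : ℕ, m₀ ≤ m → ∀ i ≤ n, Subsingleton (Coh.HH X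
      (CohB1.tensorMod G ((Scheme.Modules.pullback f).obj (Twist.twistProjSpace r k (-(m : ℤ))))) i) := by
  let F := (Scheme.Modules.pushforward f).obj G
  have hF : Coh.IsCoh F := H10Coh.isCoh_push_of_isFinite f _ hG
  have hd : ∀ y : P, IsClosed ({y} : Set P) →
      (n : ℕ∞) < LocCoh.depth ((P).presheaf.stalk y) (F.presheaf.stalk y) := fun y hy => by
    by_cases hy' : y ∈ Set.range f.base
    · obtain ⟨x, rfl⟩ := hy'
      rw [depth_push f G x]
      refine h x ?_
      rw [show ({x} : Set X) = f.base ⁻¹' {f.base x} from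
        Set.ext fun z => ⟨fun hz => congrArg f.base hz, fun hz => f.isClosedEmbedding.injective hz⟩]
      exact hy.preimage f.continuous
    · haveI : Subsingleton (F.presheaf.stalk y) := H16Derived.ProjFormula.subsingleton_stalk_push f G y hy'
      have hd : LocCoh.depth ((P).presheaf.stalk y) (F.presheaf.stalk y) = ⊤ :=
        H4Depth.idealDepth_eq_top (Subsingleton.elim _ _)
      rw [hd]
      exact ENat.coe_lt_top n
  obtain ⟨m₀, hm₀⟩ := van_bound n fun i hi => van_of_depth' n hF hd i hi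
  refine ⟨m₀, fun m hm i hi => fromM ?_⟩
  have hinv := H11Ample.isInvertible_pullback f (hinvertible r k (-(m : ℤ)))
  have hq := (H11Ample.isCoh_tensor hG hinv).1
  haveI : (CohB1.tensorMod G ((Scheme.Modules.pullback f).obj (Twist.twistProjSpace r k (-(m : ℤ))))).IsQuasicoherent := hq
  obtain ⟨e⟩ := H10Coh.Tw.nonempty_push_tensor_iso f G (hinvertible r k (-(m : ℤ)))
  have h1 := toM (subsingleton_HH_iso e (hm₀ m hm i hi))
  exact (H10Coh.affineLerayEquiv f _ i ⊤).toEquiv.symm.subsingleton_congr.2 h1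

/-- Negative powers of an ample module. -/
theorem exists_bound_ample (k : Type u) [Field k] {X : Scheme.{u}} [X.Over (Spec (CommRingCat.of k))]
    [IsProper (X ↘ Spec (CommRingCat.of k))] {L M : X.Modules} (hL : CohB1.IsAmple L)
    (hM : ClSub.IsInverseOf L M) {G : X.Modules} (hG : Coh.IsCoh G) (n : ℕ)
    (h : ∀ x : X, IsClosed ({x} : Set X) → (n : ℕ∞) < LocCoh.depth (X.presheaf.stalk x) (G.presheaf.stalk x)) :
    ∃ m₀ : ℕ, ∀ m : ℕ, m₀ ≤ m → ∀ i ≤ n,
      Subsingleton (Coh.HH X (CohB1.tensorMod G (CohB1.tensorPow M m)) i) := by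
  obtain ⟨N, d, f, hd, hf, -, ⟨τ⟩⟩ := CurveProj.exists_closedImmersion_iso k X hL
  haveI := hf
  have hB := (hO N k).pullback f
  obtain ⟨eLM⟩ := hM
  have hMinv : PicF.IsInvertible M := H17.InvertibleTensor.isInvertible_of_tensor_iso M L (H10Coh.Tw.commIso _ _ ≪≫ eLM)
  have key : ∀ q : ℕ, Nonempty ((Scheme.Modules.pullback f).obj (Twist.twistProjSpace N k (-(q : ℤ))) ≅
      CohB1.tensorPow M (d * q)) := by
    intro q
    obtain ⟨e₁⟩ := hB.nonempty_tensorPow q
    obtain ⟨φ, -⟩ := H11Ample.exists_iso_mul hL.1 d q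
    let eB : (Scheme.Modules.pullback f).obj (Twist.twistProjSpace N k (q : ℤ)) ≅ CohB1.tensorPow L (d * q) :=
      e₁.symm ≪≫ H10Coh.Tw.tensorPowIso τ q ≪≫ φ
    obtain ⟨e₂⟩ := hB.add (-(q : ℤ)) q
    obtain ⟨e₃⟩ := hB.zero
    obtain ⟨e₄⟩ := H10Coh.Tw.nonempty_tensorPow_inverse eLM hL.1 hMinv (d * q)
    exact ⟨(H10Coh.Tw.rightUnitIso _).symm ≪≫ PicGrp.tensorModIso (Iso.refl _) e₄.symm ≪≫
      (H10Coh.Tw.assoc _ _ _).symm ≪≫
      PicGrp.tensorModIso (PicGrp.tensorModIso (Iso.refl _) eB.symm ≪≫ e₂ ≪≫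
        eqToIso (congrArg (fun a => (Scheme.Modules.pullback f).obj (Twist.twistProjSpace N k a))
          (neg_add_cancel (q : ℤ))) ≪≫ e₃) (Iso.refl _) ≪≫ H10Coh.Tw.leftUnitIso _⟩
  have hb : ∀ j : Fin d, ∃ q₀ : ℕ, ∀ q : ℕ, q₀ ≤ q → ∀ i ≤ n, Subsingleton (Coh.HH X
      (CohB1.tensorMod (CohB1.tensorMod G (CohB1.tensorPow M j))
        ((Scheme.Modules.pullback f).obj (Twist.twistProjSpace N k (-(q : ℤ))))) i) := fun j => by
    refine exists_bound_closed f (H11Ample.isCoh_tensor hG (H11Ample.isInvertible_tensorPow hMinv j)) n fun x hx => ?_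
    rw [depth_tensor (H11Ample.isInvertible_tensorPow hMinv j) G x]
    exact h x hx
  choose q₀ hq using hb
  refine ⟨d * (Finset.univ.sup q₀ + 1), fun m hm i hi => ?_⟩
  obtain ⟨e⟩ := key (m / d)
  obtain ⟨ψ, -⟩ := H11Ample.exists_iso_add hMinv (m % d) (d * (m / d))
  have hle : Finset.univ.sup q₀ + 1 ≤ m / d := (Nat.le_div_iff_mul_le (by omega)).2 (by rw [mul_comm]; exact hm)
  refine subsingleton_HH_iso (H10Coh.Tw.assoc _ _ _ ≪≫ PicGrp.tensorModIso (Iso.refl G)
    (PicGrp.tensorModIso (Iso.refl _) e ≪≫ ψ ≪≫ eqToIso (congrArg (CohB1.tensorPow M) (Nat.mod_add_div m d))))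
    (hq ⟨m % d, Nat.mod_lt _ (by omega)⟩ (m / d) ?_ i hi)
  exact ((Finset.le_sup (Finset.mem_univ _)).trans (Nat.le_succ _)).trans hle

end Groth.Agent.H22Alg.ESZ
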