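import Groth.Agent.H22Alg.KModel
import Groth.Agent.H29Omega.ConormalSplit
import Groth.Agent.H06Mod.StalkFaithful

/-! # Pullback is exact on short exact sequences of locally free quotient. -/

set_option autoImplicit false
set_option linter.style.haveILetI false

universe v u

open CategoryTheory CategoryTheory.Limits AlgebraicGeometry TensorProduct

noncomputable section

namespace Groth.Agent.H22Alg.KModel

variable {X Y : Scheme.{u}} (f : X ⟶ Y)

theorem shortExact_pullback {S : ShortComplex Y.Modules} (hS : S.ShortExact)
    (h₃ : FlatMod.IsFinLocFree S.X₃) :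
    (S.map (Scheme.Modules.pullback f)).ShortExact := by
  haveI : PreservesFiniteColimits (Scheme.Modules.pullback f) :=
    (Scheme.Modules.pullbackPushforwardAdjunction f).leftAdjoint_preservesColimits.preservesFiniteColimits
  haveI := hS.epi_g
  haveI hmono : Mono ((Scheme.Modules.pullback f).map S.f) := by
    refine H29Omega.mono_of_injective_stalkLin _ fun x => ?_
    let y := f.base x
    letI := H06Mod.stalkAlgebra f x
    haveI := H8Props.FinLocFree.free_stalk S.X₃ h₃ y
    haveI : Module.Projective (Y.presheaf.stalk y) (S.X₃.presheaf.stalk y) := inferInstance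
    obtain ⟨s, hs⟩ := Module.projective_lifting_property (H06Mod.stalkLin S.g y) LinearMap.id
      (H06Mod.stalk_surjective S hS y)
    obtain ⟨r, hr⟩ := (((H06Mod.stalk_exact S hS y).split_tfae (H06Mod.stalk_injective S hS y)
      (H06Mod.stalk_surjective S hS y)).out 0 1).1 (⟨s, hs⟩ : ∃ l, (H06Mod.stalkLin S.g y) ∘ₗ l = LinearMap.id)
    have hinj : Function.Injective ((H06Mod.stalkLin S.f y).baseChange (X.presheaf.stalk x)) := by
      refine Function.LeftInverse.injective (g := r.baseChange (X.presheaf.stalk x)) fun z => ?_
      rw [← LinearMap.comp_apply, ← LinearMap.baseChange_comp, hr, LinearMap.baseChange_id]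
      rfl
    have hcomm : ∀ z, H06Mod.stalkLin ((Scheme.Modules.pullback f).map S.f) x (H06Mod.pullStalkEquiv f S.X₁ x z) =
        H06Mod.pullStalkEquiv f S.X₂ x ((H06Mod.stalkLin S.f y).baseChange (X.presheaf.stalk x) z) := by
      intro z
      induction z using TensorProduct.induction_on with
      | zero => simp
      | tmul a m =>
        show H06Mod.stalkLin _ x (H06Mod.pullStalkLin f S.X₁ x (a ⊗ₜ m)) =
          H06Mod.pullStalkLin f S.X₂ x (a ⊗ₜ H06Mod.stalkLin S.f y m)
        rw [H06Mod.pullStalkLin_tmul, H06Mod.pullStalkLin_tmul, map_smul]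
        exact congrArg (a • ·) (H06Mod.pullStalk_naturality f S.X₁ x S.f m)
      | add z w hz hw => simp only [map_add, hz, hw]
    intro a b hab
    obtain ⟨a, rfl⟩ := (H06Mod.pullStalkEquiv f S.X₁ x).surjective a
    obtain ⟨b, rfl⟩ := (H06Mod.pullStalkEquiv f S.X₁ x).surjective b
    rw [hcomm, hcomm] at hab
    exact congrArg _ (hinj ((H06Mod.pullStalkEquiv f S.X₂ x).injective hab))
  exact { exact := ShortComplex.exact_of_g_is_cokernel _ (CokernelCofork.mapIsColimit _ hS.gIsCokernel (Scheme.Modules.pullback f))
          mono_f := hmono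
          epi_g := inferInstanceAs (Epi ((Scheme.Modules.pullback f).map S.g)) }

end Groth.Agent.H22Alg.KModel
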