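import Groth.Agent.LeadBC.Grauert
import Groth.Agent.H10Coh.AffineLeray
import Groth.Agent.H16Derived.KFlat.FinLocFree

/-! # The direct image of a flat coherent module without higher direct images is locally free. -/

set_option autoImplicit false
set_option linter.style.haveILetI false

universe u

open AlgebraicGeometry CategoryTheory CategoryTheory.Limits TopologicalSpace Opposite
open Groth.Agent.LeadBC Groth.Agent.H06FlatCx

attribute [local instance 10000] Groth.Agent.H10Coh.hasSheafifyAb Groth.Agent.H10Coh.hasWeakSheafifyAb Groth.Agent.H10Coh.hasExtAb Groth.Agent.H10Coh.enoughInjAb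
attribute [local instance] Groth.Agent.H10Coh.enoughInjMod

noncomputable section

namespace Groth.Agent.H22Alg.AcyclicPush

variable {X Y : Scheme.{u}} (f : X ⟶ Y) [IsProper f] [IsLocallyNoetherian Y]

theorem finLocFree_pushforward {F : X.Modules} (hF : Coh.IsCoh F) (hfl : FlatMod.IsFlatOver f F)
    (hvan : ∀ i : ℕ, 1 ≤ i → IsZero ((Coh.RpushAb f i).obj (Coh.toAb F))) :
    FlatMod.IsFinLocFree ((Scheme.Modules.pushforward f).obj F) := by
  haveI : F.IsQuasicoherent := hF.1
  have hz : ∀ i : ℕ, 1 ≤ i → IsZero ((Coh.Rpush f i).obj F) := fun i hi => by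
    obtain ⟨e⟩ := H10Coh.nonempty_toAb_rpush (M := F) (f := f) i
    have h : IsZero ((H10Coh.shF Y).obj ((Coh.Rpush f i).obj F)) := (hvan i hi).of_iso e
    rw [IsZero.iff_id_eq_zero] at h ⊢
    apply (H10Coh.shF Y).map_injective
    rw [CategoryTheory.Functor.map_id, Functor.map_zero]
    exact h
  refine H16Derived.KFlat.Stalk.isFinLocFree_of_iso
    ((Scheme.Modules.pushforward f).rightDerivedZeroIsoSelf.app F)
    (finLocFree_of_charts hF hfl 0 fun V hV ι hι U hU m => ?_).1
  haveI : (chartF f hV F).IsQuasicoherent := H29Fitt.isQCoh_pullback _ F hF.1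
  have hcok : ∀ j, j ≤ (m.N : ℤ) - 1 → Module.Flat Γ(Y, V) (Cok m.P j) := fun j hj =>
    flat_cok_of_flat_homology m.P (fun i => (m.finite_flat i).2) m.isZero_neg j (fun i hi => by
      by_cases hi0 : i < 0
      · haveI := ModuleCat.subsingleton_of_isZero (m.isZero_neg i hi0)
        infer_instance
      obtain ⟨p, hp, rfl⟩ : ∃ p : ℕ, 1 ≤ p ∧ (m.N : ℤ) - p = i :=
        ⟨((m.N : ℤ) - i).toNat, by omega, by omega⟩
      obtain ⟨e⟩ := m.exists_sections_equiv hU p
      haveI : Subsingleton Γ((Coh.Rpush f p).obj F, V) := by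
        refine subsingleton_of_forall_eq 0 fun x => ?_
        have h := ConcreteCategory.congr_hom (congrArg (fun φ => Scheme.Modules.Hom.app φ V)
          ((hz p hp).eq_of_src (𝟙 _) 0)) x
        exact h
      haveI := e.toEquiv.subsingleton
      infer_instance) j le_rfl
  simp only [Nat.cast_zero, sub_zero]
  haveI := (m.finite_flat ((m.N : ℤ) - 1)).2
  haveI := (m.finite_flat (m.N : ℤ)).2
  refine ⟨(preservesEpi_iff_flat m.P (down_prev _) (down_next _)).2 ?_,
    (preservesMono_iff_flat m.P (down_prev _) (down_next _)).2 ?_⟩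
  · have h := hcok ((m.N : ℤ) - 1) le_rfl
    unfold Cok at h
    rwa [sub_add_cancel] at h
  · haveI : Module.Flat Γ(Y, V) (m.P.X ((m.N : ℤ) + 1 - 1)) := (m.finite_flat _).2
    have h := (preservesEpi_iff_flat m.P (down_prev ((m.N : ℤ) + 1)) (down_next ((m.N : ℤ) + 1))).1
      (preservesEpi_of_forall_subsingleton m.P _ fun M => m.subsingleton_above (lt_add_one _) M)
    rwa [add_sub_cancel_right] at h

end Groth.Agent.H22Alg.AcyclicPush
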