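import Groth.Agent.H22Alg.CMKer
import Groth.Agent.H22Alg.AcyclicPush
import Groth.Agent.H11Ample.HQProj
import Groth.Agent.H16Derived.KFlat.PerfNoeth
import Groth.Agent.H16Derived.KFlat.LocFreeOps

/-! # Regular vector bundles on P^n_Y, Y Noetherian. -/

set_option autoImplicit false
set_option linter.style.haveILetI false

universe u

open CategoryTheory CategoryTheory.Limits AlgebraicGeometry TopologicalSpace Opposite
open Groth.Agent.H11Tilde Groth.Agent.H11Ample
attribute [local instance] HasDerivedCategory.standard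
attribute [local instance 10000] Groth.Agent.H10Coh.hasSheafifyAb Groth.Agent.H10Coh.hasWeakSheafifyAb Groth.Agent.H10Coh.hasExtAb Groth.Agent.H10Coh.enoughInjAb

noncomputable section

namespace Groth.Agent.H22Alg.RegBundle

variable {n : ℕ} {Y : Scheme.{u}}

theorem isCoh_vb {F : (KRR.PY n Y).Modules} (hF : FlatMod.IsFinLocFree F) : Coh.IsCoh F :=
  H16Derived.KFlat.Stalk.isCoh_of_isFinLocFree hF

theorem finLocFree_twF (d : ℤ) {F : (KRR.PY n Y).Modules} (hF : FlatMod.IsFinLocFree F) :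
    FlatMod.IsFinLocFree (KRR.twF n Y d F) :=
  H16Derived.KFlat.Stalk.isFinLocFree_tensor
    (PnVan.finLocFree_of_inv (RegSheaf.isInvertible_twistOver (n := n) (T := Y) d)) hF

/-- The direct image of an acyclic bundle is a bundle. -/
theorem finLocFree_push_of_van [IsLocallyNoetherian Y] {F : (KRR.PY n Y).Modules} (hF : FlatMod.IsFinLocFree F)
    (hvan : ∀ i : ℕ, 1 ≤ i → CMReg.Van i F) :
    FlatMod.IsFinLocFree ((Scheme.Modules.pushforward (KRR.pr n Y)).obj F) := by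
  haveI := CMKer.isProper_pr n Y
  haveI := PnVan.flat_pr n Y
  exact AcyclicPush.finLocFree_pushforward (KRR.pr n Y) (isCoh_vb hF)
    (H10Coh.SheafHom.isFlatOver_of_isFinLocFree _ F hF) hvan

theorem finLocFree_push [IsLocallyNoetherian Y] {F : (KRR.PY n Y).Modules} (hF : FlatMod.IsFinLocFree F)
    (hreg : KRR.IsRegSheaf n Y F) :
    FlatMod.IsFinLocFree ((Scheme.Modules.pushforward (KRR.pr n Y)).obj F) :=
  finLocFree_push_of_van hF fun _ hi => CMReg.van_self hreg hi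

theorem nonempty_tensorPow_twist : ∀ k : ℕ,
    Nonempty (CohB1.tensorPow (Twist.twistOver n Y 1) k ≅ Twist.twistOver n Y (k : ℤ))
  | 0 => by
    obtain ⟨e⟩ := H11Tilde.nonempty_twist_zero_iso (CohB1.polyGrading n (ULift.{u} ℤ))
    exact ⟨((Scheme.Modules.pullback (CMReg.fstP n Y)).mapIso e ≪≫
      H16Derived.KFlat.Stalk.structurePullbackIso (CMReg.fstP n Y)).symm⟩
  | k + 1 => by
    obtain ⟨e⟩ := nonempty_tensorPow_twist k
    obtain ⟨e'⟩ := RegSheaf.nonempty_twistOver_add (n := n) (T := Y) (k : ℤ) 1 ((k + 1 : ℕ) : ℤ) (by push_cast; ring)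
    exact ⟨PicGrp.tensorModIso e (Iso.refl _) ≪≫ e'⟩

/-- High twists of a coherent module are regular. -/
theorem exists_reg_twist [IsNoetherian Y] {F : (KRR.PY n Y).Modules} (hF : Coh.IsCoh F) :
    ∃ m₀ : ℕ, ∀ m : ℕ, m₀ ≤ m → KRR.IsRegSheaf n Y (KRR.twF n Y (m : ℤ) F) := by
  haveI := CMKer.isProper_pr n Y
  obtain ⟨n₀, h₀⟩ := H10Coh.Tw.exists_isZero_rpush (KRR.pr n Y)
    (RegSheaf.isInvertible_twistOver (n := n) (T := Y) 1)
    (fun W hW => (isRelAmple_twistOver n Y).2 ⟨W, hW⟩) F hF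
  refine ⟨n₀ + n, fun m hm i hi => ?_⟩
  obtain ⟨e⟩ := RegSheaf.nonempty_twF_twF (n := n) (T := Y) (-(i : ℤ)) (m : ℤ) ((m : ℤ) - i) (by ring) F
  refine CMReg.van_iso e.symm ?_
  by_cases h : i ≤ n
  · obtain ⟨k, hk⟩ : ∃ k : ℕ, (m : ℤ) - i = k := ⟨m - i, by omega⟩
    rw [hk]
    obtain ⟨t⟩ := nonempty_tensorPow_twist (n := n) (Y := Y) k
    exact CMReg.van_iso (H10Coh.Tw.commIso F _ ≪≫ PicGrp.tensorModIso t (Iso.refl F))
      (h₀ k (by omega) i hi)
  · exact CMKer.van_high (by omega) (CMKer.isQCoh_twF _ hF.1)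

end Groth.Agent.H22Alg.RegBundle
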