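import Groth.Agent.H22Alg.SyzPn
import Groth.Agent.H22Alg.RegBundle
import Groth.Agent.H22Alg.PullVb

/-! # Base change for regular bundles on `P^n_Y`. -/

set_option autoImplicit false
set_option linter.style.haveILetI false

universe v u

open CategoryTheory CategoryTheory.Limits AlgebraicGeometry ZeroObject
open Groth.Agent.H11Tilde Groth.Agent.H11Ample
attribute [local instance] HasDerivedCategory.standard
attribute [local instance 10000] Groth.Agent.H10Coh.hasSheafifyAb Groth.Agent.H10Coh.hasWeakSheafifyAb Groth.Agent.H10Coh.hasExtAb Groth.Agent.H10Coh.enoughInjAb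

noncomputable section

namespace Groth.Agent.H22Alg.BCReg

open SyzPn

variable {n : ℕ} {Y Y₁ : Scheme.{u}} (φ : Y₁ ⟶ Y)

/-- `ψ^*`. -/
abbrev Ψ (n : ℕ) {Y Y₁ : Scheme.{u}} (φ : Y₁ ⟶ Y) : (KRR.PY n Y).Modules ⥤ (KRR.PY n Y₁).Modules :=
  Scheme.Modules.pullback (KRR.projSpaceMap n φ)

theorem map_fst : KRR.projSpaceMap n φ ≫ CMReg.fstP n Y = CMReg.fstP n Y₁ :=
  (pullback.lift_fst _ _ _).trans (Category.comp_id _)

theorem nonempty_pull_twist (d : ℤ) :
    Nonempty ((Ψ n φ).obj (Twist.twistOver n Y d) ≅ Twist.twistOver n Y₁ d) :=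
  ⟨(Scheme.Modules.pullbackComp (KRR.projSpaceMap n φ) (CMReg.fstP n Y)).app _ ≪≫
    (Scheme.Modules.pullbackCongr (map_fst φ)).app _⟩

theorem nonempty_pull_twF (d : ℤ) (F : (KRR.PY n Y).Modules) :
    Nonempty ((Ψ n φ).obj (KRR.twF n Y d F) ≅ KRR.twF n Y₁ d ((Ψ n φ).obj F)) := by
  obtain ⟨e⟩ := nonempty_pull_twist (n := n) φ d
  exact ⟨(H16Derived.KFlat.Stalk.pullTensorLIso (KRR.projSpaceMap n φ) F).app (Twist.twistOver n Y d) ≪≫
    ((DCoh.tensorBi (X := KRR.PY n Y₁)).mapIso e).app ((Ψ n φ).obj F)⟩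

variable (hsq : KRR.projSpaceMap n φ ≫ KRR.pr n Y = KRR.pr n Y₁ ≫ φ)

/-- `p₁^* φ^* = ψ^* p^*`. -/
abbrev sqIso (M : Y.Modules) :
    (Scheme.Modules.pullback (KRR.pr n Y₁)).obj ((Scheme.Modules.pullback φ).obj M) ≅
      (Ψ n φ).obj ((Scheme.Modules.pullback (KRR.pr n Y)).obj M) :=
  (Scheme.Modules.pullbackComp (KRR.pr n Y₁) φ).app M ≪≫ (Scheme.Modules.pullbackCongr hsq.symm).app M ≪≫
    ((Scheme.Modules.pullbackComp (KRR.projSpaceMap n φ) (KRR.pr n Y)).app M).symm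

section Regular

variable [IsNoetherian Y] {F : (KRR.PY n Y).Modules}

theorem finLocFree_next {G : (KRR.PY n Y).Modules} (hG : FlatMod.IsFinLocFree G) (hreg : KRR.IsRegSheaf n Y G) :
    FlatMod.IsFinLocFree (next n Y G) := by
  haveI := CMGen.epi_counit (RegBundle.isCoh_vb hG).1 hreg
  exact RegBundle.finLocFree_twF 1 (H16Derived.KFlat.Stalk.isFinLocFree_left (shortExact_ker G)
    (H16Derived.KFlat.Stalk.isFinLocFree_pullback (KRR.pr n Y) (RegBundle.finLocFree_push hG hreg)) hG)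

theorem vb_Fk (hF : FlatMod.IsFinLocFree F) (hreg : KRR.IsRegSheaf n Y F) :
    ∀ k, FlatMod.IsFinLocFree (Fk F k)
  | 0 => hF
  | k + 1 => finLocFree_next (vb_Fk hF hreg k) (good (RegBundle.isCoh_vb hF).1 hreg k).2

theorem shortExact_pull (hF : FlatMod.IsFinLocFree F) (hreg : KRR.IsRegSheaf n Y F) :
    ((ShortComplex.mk (kernel.ι (ε n Y F)) (ε n Y F) (kernel.condition _)).map (Ψ n φ)).ShortExact := by
  haveI := CMGen.epi_counit (RegBundle.isCoh_vb hF).1 hreg
  exact KModel.shortExact_pullback (KRR.projSpaceMap n φ) (shortExact_ker F) hF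

include hsq in
theorem van_pull_PP (hF : Coh.IsQCoh F) {q : ℕ} {d : ℤ} (hq : 1 ≤ q ∨ d < 0) (hd : -(n : ℤ) ≤ d) :
    CMReg.Van q (KRR.twF n Y₁ d ((Ψ n φ).obj (PP n Y F))) := by
  have hM := H29Fitt.isQCoh_pullback φ _ (CMKer.isQCoh_pushforward_pr (n := n) hF)
  refine CMReg.van_iso (((DCoh.tensorBi (X := KRR.PY n Y₁)).obj (Twist.twistOver n Y₁ d)).mapIso
    (sqIso φ hsq ((Scheme.Modules.pushforward (KRR.pr n Y)).obj F))) ?_
  rcases Nat.eq_zero_or_pos q with rfl | hq'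
  · exact van_zero_iff.2 (PnUnit.isZero_push_pullback_neg hd (hq.resolve_left (by omega)) _ hM)
  · exact PnVan.van_pullback hq' hd _ hM

include hsq in
theorem reg_pull_PP (hF : Coh.IsQCoh F) : KRR.IsRegSheaf n Y₁ ((Ψ n φ).obj (PP n Y F)) := fun i hi => by
  by_cases h : i ≤ n
  · exact van_pull_PP φ hsq hF (Or.inl hi) (by omega)
  · exact CMKer.van_high (by omega) (CMKer.isQCoh_twF _ (H29Fitt.isQCoh_pullback _ _ (isQCoh_PP hF)))

theorem isZero_pull_Fk (hF : FlatMod.IsFinLocFree F) (hreg : KRR.IsRegSheaf n Y F) (k : ℕ) :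
    IsZero ((Ψ n φ).obj (Fk F (n + 1 + k))) := by
  haveI : (Ψ n φ).IsLeftAdjoint :=
    (Scheme.Modules.pullbackPushforwardAdjunction (KRR.projSpaceMap n φ)).isLeftAdjoint
  exact (Ψ n φ).map_isZero (isZero_Fk (RegBundle.isCoh_vb hF).1 hreg k)

include hsq in
theorem reg_pull_Fk (hF : FlatMod.IsFinLocFree F) (hreg : KRR.IsRegSheaf n Y F) :
    ∀ e k, n + 1 ≤ k + e → KRR.IsRegSheaf n Y₁ ((Ψ n φ).obj (Fk F k))
  | 0, k, hk => by
    obtain ⟨m, rfl⟩ : ∃ m, k = n + 1 + m := ⟨k - (n + 1), by omega⟩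
    exact fun i _ => CMReg.van_iso ((isZero_zero _).iso (isZero_twF (isZero_pull_Fk φ hF hreg m))) CMReg.van_zero
  | e + 1, k, hk => by
    have hq := (good (RegBundle.isCoh_vb hF).1 hreg k)
    have h1 : KRR.IsRegSheaf n Y₁ (KRR.twF n Y₁ 1 ((Ψ n φ).obj (kernel (ε n Y (Fk F k))))) := fun i hi => by
      obtain ⟨e'⟩ := nonempty_pull_twF (n := n) φ 1 (kernel (ε n Y (Fk F k)))
      exact CMReg.van_iso (((DCoh.tensorBi (X := KRR.PY n Y₁)).obj (Twist.twistOver n Y₁ (-(i : ℤ)))).mapIso e')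
        (reg_pull_Fk hF hreg e (k + 1) (by omega) i hi)
    exact RegSheaf.reg_right (S := (ShortComplex.mk (kernel.ι (ε n Y (Fk F k))) (ε n Y (Fk F k))
      (kernel.condition _)).map (Ψ n φ)) (shortExact_pull φ (vb_Fk hF hreg k) hq.2)
      (reg_pull_PP φ hsq hq.1) h1

include hsq in
theorem van_pull_Fk (hF : FlatMod.IsFinLocFree F) (hreg : KRR.IsRegSheaf n Y F) :
    ∀ e k, n + 1 ≤ k + e → ∀ a, 1 ≤ a → a ≤ k → ∀ q,
      CMReg.Van q (KRR.twF n Y₁ (-(a : ℤ)) ((Ψ n φ).obj (Fk F k)))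
  | 0, k, hk, a, _, _, q => by
    obtain ⟨m, rfl⟩ : ∃ m, k = n + 1 + m := ⟨k - (n + 1), by omega⟩
    exact CMReg.van_iso ((isZero_zero _).iso (isZero_twF (isZero_pull_Fk φ hF hreg m))) CMReg.van_zero
  | e + 1, k, hk, a, ha, hak, q => by
    by_cases hkn : n + 1 ≤ k
    · exact van_pull_Fk hF hreg e k (by omega) a ha hak q
    have hq := (good (RegBundle.isCoh_vb hF).1 hreg k)
    have hS := RegSheaf.shortExact_twist (n := n) (T := Y₁) (-(a : ℤ)) (shortExact_pull φ (vb_Fk hF hreg k) hq.2)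
    refine RegSheaf.isZero_right (Coh.pushAb (KRR.pr n Y₁)) (RegSheaf.shortExact_toAb hS) q
      (van_pull_PP φ hsq hq.1 (Or.inr (by omega)) (by omega)) ?_
    obtain ⟨e'⟩ := nonempty_pull_twF (n := n) φ 1 (kernel (ε n Y (Fk F k)))
    obtain ⟨e''⟩ := RegSheaf.nonempty_twF_twF (n := n) (T := Y₁) (-((a + 1 : ℕ) : ℤ)) 1 (-(a : ℤ))
      (by push_cast; ring) ((Ψ n φ).obj (kernel (ε n Y (Fk F k))))
    exact CMReg.van_iso (((DCoh.tensorBi (X := KRR.PY n Y₁)).obj (Twist.twistOver n Y₁ (-((a + 1 : ℕ) : ℤ)))).mapIso e' ≪≫ e'')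
      (van_pull_Fk hF hreg e (k + 1) (by omega) (a + 1) (by omega) (by omega) (q + 1))

include hsq in
/-- Pullbacks of regular bundles are regular. -/
theorem reg_pull (hF : FlatMod.IsFinLocFree F) (hreg : KRR.IsRegSheaf n Y F) :
    KRR.IsRegSheaf n Y₁ ((Ψ n φ).obj F) := reg_pull_Fk φ hsq hF hreg (n + 1) 0 (by omega)

include hsq in
theorem van_pull_kernel (hF : FlatMod.IsFinLocFree F) (hreg : KRR.IsRegSheaf n Y F) (q : ℕ) :
    CMReg.Van q ((Ψ n φ).obj (kernel (ε n Y F))) := by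
  obtain ⟨e'⟩ := nonempty_pull_twF (n := n) φ 1 (kernel (ε n Y F))
  obtain ⟨e''⟩ := RegSheaf.nonempty_twF_twF (n := n) (T := Y₁) (-1) 1 0 (by ring) ((Ψ n φ).obj (kernel (ε n Y F)))
  obtain ⟨e'''⟩ := RegSheaf.nonempty_twF_zero (n := n) (T := Y₁) ((Ψ n φ).obj (kernel (ε n Y F)))
  exact CMReg.van_iso (((DCoh.tensorBi (X := KRR.PY n Y₁)).obj (Twist.twistOver n Y₁ (-1))).mapIso e' ≪≫ e'' ≪≫ e''')
    (van_pull_Fk φ hsq hF hreg n 1 (by omega) 1 le_rfl le_rfl q)

include hsq in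
theorem isIso_push_pull_ε (hF : FlatMod.IsFinLocFree F) (hreg : KRR.IsRegSheaf n Y F) :
    IsIso ((Scheme.Modules.pushforward (KRR.pr n Y₁)).map ((Ψ n φ).map (ε n Y F))) := by
  have hS := shortExact_pull φ hF hreg
  haveI : (Scheme.Modules.pushforward (KRR.pr n Y₁)).IsRightAdjoint :=
    (Scheme.Modules.pullbackPushforwardAdjunction (KRR.pr n Y₁)).isRightAdjoint
  haveI := hS.mono_f
  have h0 := van_zero_iff.1 (van_pull_kernel φ hsq hF hreg 0)
  haveI : Epi ((Scheme.Modules.pushforward (KRR.pr n Y₁)).map ((Ψ n φ).map (ε n Y F))) := by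
    haveI : Epi ((H10Coh.shF Y₁).map ((Scheme.Modules.pushforward (KRR.pr n Y₁)).map ((Ψ n φ).map (ε n Y F)))) :=
      ExactVanish.epi_map_g (Coh.pushAb (KRR.pr n Y₁)) (RegSheaf.shortExact_toAb hS)
        (van_pull_kernel φ hsq hF hreg 1)
    exact (H10Coh.shF Y₁).epi_of_epi_map ‹_›
  haveI : Mono ((Scheme.Modules.pushforward (KRR.pr n Y₁)).map ((Ψ n φ).map (ε n Y F))) :=
    (hS.exact.map_of_mono_of_preservesKernel (Scheme.Modules.pushforward (KRR.pr n Y₁)) hS.mono_f inferInstance).mono_g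
      (h0.eq_of_src _ _)
  exact isIso_of_mono_of_epi _

end Regular

/-- Base change is natural. -/
theorem bcMap_naturality {F G : (KRR.PY n Y).Modules} (f : F ⟶ G) :
    (Scheme.Modules.pullback φ).map ((Scheme.Modules.pushforward (KRR.pr n Y)).map f) ≫ KRR.bcMap n φ hsq G =
      KRR.bcMap n φ hsq F ≫ (Scheme.Modules.pushforward (KRR.pr n Y₁)).map ((Ψ n φ).map f) := by
  rw [KRR.bcMap, KRR.bcMap, ← Adjunction.homEquiv_naturality_left, ← Adjunction.homEquiv_naturality_right]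
  congr 1
  simp only [Category.assoc]
  have h1 := (Scheme.Modules.pullbackComp (KRR.pr n Y₁) φ).hom.naturality
    ((Scheme.Modules.pushforward (KRR.pr n Y)).map f)
  have h2 := (Scheme.Modules.pullbackCongr hsq.symm).hom.naturality ((Scheme.Modules.pushforward (KRR.pr n Y)).map f)
  have h3 := (Scheme.Modules.pullbackComp (KRR.projSpaceMap n φ) (KRR.pr n Y)).inv.naturality
    ((Scheme.Modules.pushforward (KRR.pr n Y)).map f)
  have h4 := congrArg (Ψ n φ).map ((Scheme.Modules.pullbackPushforwardAdjunction (KRR.pr n Y)).counit.naturality f)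
  dsimp only [Functor.comp_map, Functor.comp_obj, Functor.id_map, Functor.id_obj] at h1 h2 h3 h4
  rw [Functor.map_comp, Functor.map_comp] at h4
  rw [reassoc_of% h1, reassoc_of% h2, reassoc_of% h3, h4]

/-- Base change at a module pulled back from the base. -/
theorem isIso_bcMap_pullback (M : Y.Modules) (hM : Coh.IsQCoh M) :
    IsIso (KRR.bcMap n φ hsq ((Scheme.Modules.pullback (KRR.pr n Y)).obj M)) := by
  haveI := PnUnit.isIso_unit (n := n) M hM
  haveI := PnUnit.isIso_unit (n := n) _ (H29Fitt.isQCoh_pullback φ M hM)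
  have key : (Scheme.Modules.pullback φ).map ((Scheme.Modules.pullbackPushforwardAdjunction (KRR.pr n Y)).unit.app M) ≫
      KRR.bcMap n φ hsq ((Scheme.Modules.pullback (KRR.pr n Y)).obj M) =
      (Scheme.Modules.pullbackPushforwardAdjunction (KRR.pr n Y₁)).unit.app ((Scheme.Modules.pullback φ).obj M) ≫
        (Scheme.Modules.pushforward (KRR.pr n Y₁)).map (sqIso φ hsq M).hom := by
    refine ((Adjunction.homEquiv_naturality_left _ _ _).symm.trans
      (congrArg ((Scheme.Modules.pullbackPushforwardAdjunction (KRR.pr n Y₁)).homEquiv _ _) ?_)).trans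
      ((Scheme.Modules.pullbackPushforwardAdjunction (KRR.pr n Y₁)).homEquiv_unit (f := (sqIso φ hsq M).hom))
    have h1 := (Scheme.Modules.pullbackComp (KRR.pr n Y₁) φ).hom.naturality
      ((Scheme.Modules.pullbackPushforwardAdjunction (KRR.pr n Y)).unit.app M)
    have h2 := (Scheme.Modules.pullbackCongr hsq.symm).hom.naturality
      ((Scheme.Modules.pullbackPushforwardAdjunction (KRR.pr n Y)).unit.app M)
    have h3 := (Scheme.Modules.pullbackComp (KRR.projSpaceMap n φ) (KRR.pr n Y)).inv.naturality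
      ((Scheme.Modules.pullbackPushforwardAdjunction (KRR.pr n Y)).unit.app M)
    have h4 := congrArg (Ψ n φ).map
      ((Scheme.Modules.pullbackPushforwardAdjunction (KRR.pr n Y)).left_triangle_components M)
    dsimp only [Functor.comp_map, Functor.comp_obj, Functor.id_map, Functor.id_obj] at h1 h2 h3 h4
    rw [Functor.map_comp, CategoryTheory.Functor.map_id] at h4
    rw [reassoc_of% h1, reassoc_of% h2, reassoc_of% h3, h4, Category.comp_id]
    rfl
  haveI : IsIso ((Scheme.Modules.pullback φ).map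
      ((Scheme.Modules.pullbackPushforwardAdjunction (KRR.pr n Y)).unit.app M) ≫
      KRR.bcMap n φ hsq ((Scheme.Modules.pullback (KRR.pr n Y)).obj M)) := by rw [key]; infer_instance
  exact IsIso.of_isIso_comp_left ((Scheme.Modules.pullback φ).map
      ((Scheme.Modules.pullbackPushforwardAdjunction (KRR.pr n Y)).unit.app M)) _

/-- Base change for regular bundles. -/
theorem isIso_bcMap [IsNoetherian Y] {F : (KRR.PY n Y).Modules} (hF : FlatMod.IsFinLocFree F)
    (hreg : KRR.IsRegSheaf n Y F) : IsIso (KRR.bcMap n φ hsq F) := by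
  haveI := isIso_push_ε (n := n) (RegBundle.isCoh_vb hF).1
  haveI := isIso_bcMap_pullback φ hsq ((Scheme.Modules.pushforward (KRR.pr n Y)).obj F)
    (CMKer.isQCoh_pushforward_pr (RegBundle.isCoh_vb hF).1)
  haveI := isIso_push_pull_ε φ hsq hF hreg
  have key := bcMap_naturality φ hsq (ε n Y F)
  haveI : IsIso ((Scheme.Modules.pullback φ).map ((Scheme.Modules.pushforward (KRR.pr n Y)).map (ε n Y F)) ≫
      KRR.bcMap n φ hsq F) := by rw [key]; infer_instance
  exact IsIso.of_isIso_comp_left ((Scheme.Modules.pullback φ).map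
    ((Scheme.Modules.pushforward (KRR.pr n Y)).map (ε n Y F))) _

end Groth.Agent.H22Alg.BCReg
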