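import Groth.Agent.H22Alg.KSection
import Groth.Agent.H22Alg.BCReg
import Groth.Agent.S2886

/-! # `i_K g_K = f_K j_K` for the base change of a regular closed immersion to `P^n`. -/

set_option autoImplicit false
set_option linter.style.haveILetI false

universe v u w

open CategoryTheory CategoryTheory.Limits AlgebraicGeometry ZeroObject
attribute [local instance] HasDerivedCategory.standard
attribute [local instance 10000] Groth.Agent.H10Coh.hasSheafifyAb Groth.Agent.H10Coh.hasWeakSheafifyAb Groth.Agent.H10Coh.hasExtAb Groth.Agent.H10Coh.enoughInjAb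

noncomputable section

namespace Groth.Agent.H22Alg.KBaseChangeCl

open ResEuler KLFRes

variable {n : ℕ} {X Y : Scheme.{u}} (i : X ⟶ Y)

theorem sq : KRR.projSpaceMap n i ≫ KRR.pr n Y = KRR.pr n X ≫ i := pullback.lift_snd _ _ _

theorem isPullback_map : IsPullback (KRR.projSpaceMap n i) (KRR.pr n X) (KRR.pr n Y) i := by
  refine IsPullback.of_right (h₁₂ := pullback.fst (CohB1.ProjSpace.toSpec n (ULift.{u} ℤ)) (specULiftZIsTerminal.from Y))
    ?_ (sq i) (IsPullback.of_hasPullback _ _)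
  have e1 : KRR.projSpaceMap n i ≫ pullback.fst (CohB1.ProjSpace.toSpec n (ULift.{u} ℤ)) (specULiftZIsTerminal.from Y) =
      pullback.fst (CohB1.ProjSpace.toSpec n (ULift.{u} ℤ)) (specULiftZIsTerminal.from X) :=
    (pullback.lift_fst _ _ _).trans (Category.comp_id _)
  have e2 : i ≫ specULiftZIsTerminal.from Y = specULiftZIsTerminal.from X := specULiftZIsTerminal.hom_ext _ _
  have h : IsPullback (pullback.fst (CohB1.ProjSpace.toSpec n (ULift.{u} ℤ)) (specULiftZIsTerminal.from X))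
      (KRR.pr n X) (CohB1.ProjSpace.toSpec n (ULift.{u} ℤ)) (specULiftZIsTerminal.from X) :=
    IsPullback.of_hasPullback _ _
  show @IsPullback Scheme _ (KRR.PY n X) _ _ _ (KRR.projSpaceMap n i ≫ pullback.fst (CohB1.ProjSpace.toSpec n (ULift.{u} ℤ)) (specULiftZIsTerminal.from Y))
    (KRR.pr n X) (CohB1.ProjSpace.toSpec n (ULift.{u} ℤ)) (i ≫ specULiftZIsTerminal.from Y)
  rw [e1, e2]
  exact h

theorem isRegular_map (hi : Mor2.IsRegularClosedImmersion i) :
    Mor2.IsRegularClosedImmersion (KRR.projSpaceMap n i) := by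
  haveI := PnVan.flat_pr n Y
  have h := S2886.result i (KRR.pr n Y) hi
  let e : KRR.PY n X ≅ pullback i (KRR.pr n Y) := (isPullback_map i).flip.isoPullback
  have he : e.hom ≫ pullback.snd i (KRR.pr n Y) = KRR.projSpaceMap n i :=
    (isPullback_map i).flip.isoPullback_hom_snd
  rw [← he]
  haveI := h.1
  refine ⟨inferInstance, fun z => ?_⟩
  obtain ⟨U, hU, hz, rs, hrs, hI⟩ := h.2 (e.hom z)
  exact ⟨U, hU, hz, rs, hrs, by rw [Scheme.Hom.ker_comp_of_isIso]; exact hI⟩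

variable [IsNoetherian X] [IsNoetherian Y]

theorem push_map (hY : KRR.HasEnoughLocFree Y) (hi : Mor2.IsRegularClosedImmersion i)
    (gX : SGA6.Kvb (KRR.PY n X) →+ SGA6.Kvb X)
    (hgX : ∀ F : (KRR.PY n X).Modules, FlatMod.IsFinLocFree F → KRR.IsRegSheaf n X F →
      gX (KRR.cl _ F) = KRR.cl X ((Scheme.Modules.pushforward (KRR.pr n X)).obj F))
    (gY : SGA6.Kvb (KRR.PY n Y) →+ SGA6.Kvb Y)
    (hgY : ∀ F : (KRR.PY n Y).Modules, FlatMod.IsFinLocFree F → KRR.IsRegSheaf n Y F →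
      gY (KRR.cl _ F) = KRR.cl Y ((Scheme.Modules.pushforward (KRR.pr n Y)).obj F))
    (i₀ : SGA6.Kvb X →+ SGA6.Kvb Y)
    (hi₀ : ∀ F : X.Modules, FlatMod.IsFinLocFree F → ∀ m a,
      Val (vb Y) (coh Y) (KRR.cl Y) m ((Scheme.Modules.pushforward i).obj F) a → i₀ (KRR.cl X F) = a)
    {F : (KRR.PY n X).Modules} (hF : FlatMod.IsFinLocFree F) (hreg : KRR.IsRegSheaf n X F)
    {m : ℕ} {a : SGA6.Kvb (KRR.PY n Y)}
    (hv : Val (vb (KRR.PY n Y)) (coh (KRR.PY n Y)) (KRR.cl _) m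
      ((Scheme.Modules.pushforward (KRR.projSpaceMap n i)).obj F) a) :
    gY a = i₀ (gX (KRR.cl _ F)) := by
  haveI := hi.1
  have hrec : SeqExt.Rec (n + 1) 0 (fun k => i₀ (gX (KReg.fK n X F k))) := fun j hj => by
    rw [← SeqExt.val_map i₀, ← SeqExt.val_map gX, KReg.rec_fK hF j hj, map_zero, map_zero]
  have h0 : i₀ (gX (KReg.fK n X F 0)) = i₀ (gX (KRR.cl _ F)) := by
    rw [show KReg.fK n X F 0 = KRR.cl _ F from KPush.cl_twF_zero hF]
  rw [← h0]
  refine KPushVal.push_val hY gY hgY hv _ hrec ⟨0, fun k _ => ?_⟩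
  have hk := CMReg.reg_twist hreg k
  have hFk := RegBundle.finLocFree_twF (n := n) (Y := X) (k : ℤ) hF
  have hp := RegBundle.finLocFree_push hFk hk
  obtain ⟨r, b, hb⟩ := KPushCl.exists_val_push i hY hi hp
  refine ⟨r, ?_⟩
  show Val _ _ _ r _ (i₀ (gX (KRR.cl _ (KRR.twF n X (k : ℤ) F))))
  rw [hgX _ hFk hk, hi₀ _ hp r b hb]
  have hL : FlatMod.IsFinLocFree (Twist.twistOver n Y (k : ℤ)) :=
    PnVan.finLocFree_of_inv (RegSheaf.isInvertible_twistOver _)
  obtain ⟨eL⟩ := BCReg.nonempty_pull_twist (n := n) i (k : ℤ)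
  let ψi := @asIso _ _ _ _ (H16Derived.ProjFormula.ψ (KRR.projSpaceMap n i) F (Twist.twistOver n Y (k : ℤ)))
    (H10Coh.PF.isIso_ψ_of_isFinLocFree (KRR.projSpaceMap n i) hL F)
  let e : (Scheme.Modules.pushforward (KRR.pr n Y)).obj
      (KRR.twF n Y (k : ℤ) ((Scheme.Modules.pushforward (KRR.projSpaceMap n i)).obj F)) ≅
      (Scheme.Modules.pushforward i).obj ((Scheme.Modules.pushforward (KRR.pr n X)).obj (KRR.twF n X (k : ℤ) F)) :=
    (Scheme.Modules.pushforward (KRR.pr n Y)).mapIso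
        (H10Coh.Tw.commIso _ _ ≪≫ ψi ≪≫ (Scheme.Modules.pushforward (KRR.projSpaceMap n i)).mapIso
          (((DCoh.tensorBi (X := KRR.PY n X)).obj F).mapIso eL ≪≫ H10Coh.Tw.commIso _ _)) ≪≫
      (Scheme.Modules.pushforwardComp (KRR.projSpaceMap n i) (KRR.pr n Y)).app _ ≪≫
      (Scheme.Modules.pushforwardCongr (sq i)).app _ ≪≫
      ((Scheme.Modules.pushforwardComp (KRR.pr n X) i).app _).symm
  exact val_iso (ctxK hY) e.symm hb

section Models

variable {KX KY : Type v} [CommRing KX] [CommRing KY] {φX : SGA6.Kvb X →+ KX} {φY : SGA6.Kvb Y →+ KY}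

/-- A push-forward on models is induced by the one on `K₀` of bundles. -/
theorem exists_pushCl_comp (hY : KRR.HasEnoughLocFree Y) (hi : Mor2.IsRegularClosedImmersion i)
    {g : KX →+ KY} (hg : KRR.IsPushCl i φX φY g) :
    ∃ i₀ : SGA6.Kvb X →+ SGA6.Kvb Y, (∀ F : X.Modules, FlatMod.IsFinLocFree F → ∀ m a,
      Val (vb Y) (coh Y) (KRR.cl Y) m ((Scheme.Modules.pushforward i).obj F) a → i₀ (KRR.cl X F) = a) ∧
      g.comp φX = φY.comp i₀ := by
  haveI := hi.1
  obtain ⟨i₀, hi₀⟩ := KPushCl.exists_pushCl i hY hi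
  refine ⟨i₀, hi₀, KModel.kvb_ext fun F hF => ?_⟩
  obtain ⟨m, a, ha⟩ := KPushCl.exists_val_push i hY hi hF
  obtain ⟨m', L, π, hL⟩ := hasLFRes_of_val ha
  have hv := val_of_isLFRes (ctxK hY) hL (KPushCl.isCoh_push i hF)
  simp only [AddMonoidHom.comp_apply]
  rw [hi₀ F hF _ _ hv, hg F hF m' L π hL, map_sum]
  simp only [map_zsmul]

theorem pushPr_comp {KP : Type v} [CommRing KP] {φP : SGA6.Kvb (KRR.PY n Y) →+ KP} {g : KP →+ KY}
    (hg : KRR.IsPushPr n Y φP φY g) (g₀ : SGA6.Kvb (KRR.PY n Y) →+ SGA6.Kvb Y)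
    (hg₀ : ∀ F : (KRR.PY n Y).Modules, FlatMod.IsFinLocFree F → KRR.IsRegSheaf n Y F →
      g₀ (KRR.cl _ F) = KRR.cl Y ((Scheme.Modules.pushforward (KRR.pr n Y)).obj F)) :
    g.comp φP = φY.comp g₀ := by
  haveI := KSection.isNoetherian_PY n Y
  obtain ⟨hb1, hb2⟩ := KReg.bijective_incl (n := n) (Y := Y) (fun _ h => h.1)
  refine AddMonoidHom.ext fun z => ?_
  obtain ⟨w, rfl⟩ := hb2 z
  exact DFunLike.congr_fun (KReg.clSub_ext
    (a := (g.comp φP).comp (KReg.incl n Y fun _ h => h.1))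
    (b := (φY.comp g₀).comp (KReg.incl n Y fun _ h => h.1)) fun M hM => by
      simp only [AddMonoidHom.comp_apply, KReg.incl_cls (fun _ h => h.1) hM]
      rw [hg M hM.1 hM.2, hg₀ M hM.1 hM.2]) w

end Models

end Groth.Agent.H22Alg.KBaseChangeCl
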