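import Groth.Agent.H16Derived.AcyclicLES

/-! # Vanishing of derived functors along exact complexes. -/

set_option autoImplicit false

universe v v' u u'

open CategoryTheory CategoryTheory.Limits ZeroObject

noncomputable section

namespace Groth.Agent.H22Alg.ExactVanish

variable {A : Type u} {B : Type u'} [Category.{v} A] [Category.{v'} B] [Abelian A] [Abelian B]
  [EnoughInjectives A] (G : A ⥤ B) [G.Additive] [PreservesFiniteLimits G]

theorem isZero_right {S : ShortComplex A} (hS : S.ShortExact) (i : ℕ) (h₂ : IsZero ((G.rightDerived i).obj S.X₂))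
    (h₁ : IsZero ((G.rightDerived (i + 1)).obj S.X₁)) : IsZero ((G.rightDerived i).obj S.X₃) := by
  obtain ⟨T, hT, e₁, e₂, e₃, -⟩ := H16Derived.AcyclicLES.exists_les G S hS
  exact ((hT.homology_exact₃ (i : ℤ) ((i + 1 : ℕ) : ℤ) (by simp)).isZero_X₂
    ((h₂.of_iso (e₂ i).some.symm).eq_of_src _ _)
    ((h₁.of_iso (e₁ (i + 1)).some.symm).eq_of_tgt _ _)).of_iso (e₃ i).some

theorem epi_map_g {S : ShortComplex A} (hS : S.ShortExact)
    (h₁ : IsZero ((G.rightDerived 1).obj S.X₁)) : Epi (G.map S.g) := by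
  obtain ⟨T, hT, e₁, e₂, e₃, a₂, a₃, ha₂, ha₃, hc⟩ := H16Derived.AcyclicLES.exists_les G S hS
  haveI : Epi (HomologicalComplex.homologyMap T.g (0 : ℤ)) :=
    (hT.homology_exact₃ (0 : ℤ) ((1 : ℕ) : ℤ) (by simp)).epi_f
      ((h₁.of_iso (e₁ 1).some.symm).eq_of_tgt _ _)
  have h : G.map S.g = a₂ ≫ HomologicalComplex.homologyMap T.g (0 : ℤ) ≫ inv a₃ := by
    rw [← Category.assoc, hc, Category.assoc, IsIso.hom_inv_id, Category.comp_id]
  rw [h]
  infer_instance

variable {K : ℕ → A} {d : ∀ j, K j ⟶ K (j + 1)} (w : ∀ j, d j ≫ d (j + 1) = 0)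
  (hex : ∀ j, (ShortComplex.mk (d j) (d (j + 1)) (w j)).Exact)

/-- The map onto the next cycles. -/
def toCycles (j : ℕ) : K j ⟶ kernel (d (j + 1)) := kernel.lift _ (d j) (w j)

include hex in
theorem shortExact_cycles (j : ℕ) :
    (ShortComplex.mk (kernel.ι (d j)) (toCycles w j)
      (by rw [← cancel_mono (kernel.ι (d (j + 1)))]; simp [toCycles])).ShortExact where
  exact := by
    refine ShortComplex.exact_of_f_is_kernel _ (KernelFork.IsLimit.ofι' _ _ fun {T} k hk => ?_)
    exact ⟨kernel.lift _ k (by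
      have := hk =≫ kernel.ι (d (j + 1))
      simpa [toCycles] using this), kernel.lift_ι _ _ _⟩
  mono_f := inferInstanceAs (Mono (kernel.ι (d j)))
  epi_g := (ShortComplex.exact_iff_epi_kernel_lift _).1 (hex j)

include hex in
/-- Vanishing for the cycles by descending along an exact complex. -/
theorem isZero_cycles (hd0 : Mono (d 0)) (N i : ℕ)
    (hK : ∀ j e, j + e + 1 = N → IsZero ((G.rightDerived (i + e)).obj (K j))) :
    ∀ k e, k + e = N → IsZero ((G.rightDerived (i + e)).obj (kernel (d k))) := by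
  intro k
  induction k with
  | zero =>
    intro e _
    refine IsZero.of_iso ?_ ((G.rightDerived (i + e)).mapIso (kernel.ofMono (d 0)))
    rcases i + e with _ | m
    · exact (G.map_isZero (isZero_zero A)).of_iso (G.rightDerivedZeroIsoSelf.app 0)
    · exact G.isZero_rightDerived_obj_injective_succ m (0 : A)
  | succ k ih =>
    intro e he
    exact isZero_right G (shortExact_cycles w hex k) (i + e) (hK k e (by omega))
      (ih (e + 1) (by omega))

include hex in
theorem isZero_top (hd0 : Mono (d 0)) (N i : ℕ) (hN : IsZero (K (N + 1)))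
    (hK : ∀ j e, j + e + 1 = N → IsZero ((G.rightDerived (i + e)).obj (K j))) :
    IsZero ((G.rightDerived i).obj (K N)) :=
  (isZero_cycles G w hex hd0 N i hK N 0 rfl).of_iso ((G.rightDerived i).mapIso
    (kernelZeroIsoSource.symm ≪≫ kernelIsoOfEq (hN.eq_of_tgt (0 : K N ⟶ K (N + 1)) (d N))))

include hex in
theorem epi_map_last (hd0 : Mono (d 0)) (N : ℕ) (hN : IsZero (K (N + 2)))
    (hK : ∀ j e, j + e + 1 = N → IsZero ((G.rightDerived (1 + e)).obj (K j))) :
    Epi (G.map (d N)) := by
  have h := epi_map_g G (shortExact_cycles w hex N) (isZero_cycles G w hex hd0 N 1 hK N 0 rfl)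
  haveI : IsIso (kernel.ι (d (N + 1))) := by
    rw [show d (N + 1) = 0 from hN.eq_of_tgt _ _]
    infer_instance
  have e : d N = toCycles w N ≫ kernel.ι (d (N + 1)) := (kernel.lift_ι _ _ _).symm
  rw [e, G.map_comp]
  haveI := h
  exact epi_comp _ _

end Groth.Agent.H22Alg.ExactVanish
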