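import Mathlib.CategoryTheory.Abelian.Basic
import Mathlib.Algebra.Category.ModuleCat.Abelian
import Mathlib.CategoryTheory.Preadditive.AdditiveFunctor
import Mathlib.CategoryTheory.Limits.Shapes.BinaryBiproducts

/-! # Koszul complexes of commuting maps along a sequence of objects, built as iterated cones. -/

set_option autoImplicit false

universe w v u

open CategoryTheory CategoryTheory.Limits ZeroObject

noncomputable section

namespace Groth.Agent.H22Alg.KosLine

variable {C : Type u} [Category.{v} C] [Abelian C] (A : ℕ → C) (x : ℕ → ∀ t, A t ⟶ A (t + 1))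

/-- The terms of the complex. -/
def L : ℕ → ℕ → ℕ → C
  | 0, t, 0 => A t
  | 0, _, _ + 1 => 0
  | r + 1, t, 0 => L r t 0
  | r + 1, t, j + 1 => L r t (j + 1) ⊞ L r (t + 1) j

/-- Multiplication by `x k`. -/
def φ : ∀ (k r t j : ℕ), L A r t j ⟶ L A r (t + 1) j
  | k, 0, t, 0 => x k t
  | _, 0, _, _ + 1 => 0
  | k, r + 1, t, 0 => φ k r t 0
  | k, r + 1, t, j + 1 => biprod.map (φ k r t (j + 1)) (φ k r (t + 1) j)

/-- The differential. -/
def d : ∀ (r t j : ℕ), L A r t j ⟶ L A r t (j + 1)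
  | 0, _, _ => 0
  | r + 1, t, 0 => biprod.lift (d r t 0) (φ A x r r t 0)
  | r + 1, t, j + 1 =>
    biprod.lift (biprod.fst ≫ d r t (j + 1)) (biprod.fst ≫ φ A x r r t (j + 1) - biprod.snd ≫ d r (t + 1) j)

section Algebra

variable {P P' Q Q' T T' U U' V : C}

theorem map_map_eq (a : P ⟶ Q) (b : P' ⟶ Q') (c : Q ⟶ T) (e : Q' ⟶ T') (a' : P ⟶ U) (b' : P' ⟶ U')
    (c' : U ⟶ T) (e' : U' ⟶ T') (h₁ : a ≫ c = a' ≫ c') (h₂ : b ≫ e = b' ≫ e') :
    biprod.map a b ≫ biprod.map c e = biprod.map a' b' ≫ biprod.map c' e' := by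
  apply biprod.hom_ext <;> simp [h₁, h₂]

theorem comp_lift_eq (f : P ⟶ Q) (D' : Q ⟶ T) (F' : Q ⟶ T') (D : P ⟶ U) (F : P ⟶ U')
    (a : U ⟶ T) (b : U' ⟶ T') (h₁ : f ≫ D' = D ≫ a) (h₂ : f ≫ F' = F ≫ b) :
    f ≫ biprod.lift D' F' = biprod.lift D F ≫ biprod.map a b := by
  apply biprod.hom_ext <;> simp [h₁, h₂]

theorem map_lift_eq (a : P ⟶ Q) (b : P' ⟶ Q') (D' : Q ⟶ T) (F' : Q ⟶ T') (E' : Q' ⟶ T')
    (D : P ⟶ U) (F : P ⟶ U') (E : P' ⟶ U') (c : U ⟶ T) (e : U' ⟶ T')
    (h₁ : a ≫ D' = D ≫ c) (h₂ : a ≫ F' = F ≫ e) (h₃ : b ≫ E' = E ≫ e) :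
    biprod.map a b ≫ biprod.lift (biprod.fst ≫ D') (biprod.fst ≫ F' - biprod.snd ≫ E') =
      biprod.lift (biprod.fst ≫ D) (biprod.fst ≫ F - biprod.snd ≫ E) ≫ biprod.map c e := by
  apply biprod.hom_ext <;> simp [h₁, h₂, h₃, Preadditive.comp_sub, Preadditive.sub_comp]

theorem lift_lift_eq_zero (D : P ⟶ Q) (F : P ⟶ Q') (D' : Q ⟶ T) (F' : Q ⟶ T') (E' : Q' ⟶ T')
    (h₁ : D ≫ D' = 0) (h₂ : D ≫ F' = F ≫ E') :
    biprod.lift D F ≫ biprod.lift (biprod.fst ≫ D') (biprod.fst ≫ F' - biprod.snd ≫ E') = 0 := by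
  apply biprod.hom_ext <;> simp [h₁, h₂, Preadditive.comp_sub]

theorem lift_lift_eq_zero' (D : P ⟶ Q) (F : P ⟶ Q') (E : P' ⟶ Q') (D' : Q ⟶ T) (F' : Q ⟶ T')
    (E' : Q' ⟶ T') (h₁ : D ≫ D' = 0) (h₂ : D ≫ F' = F ≫ E') (h₃ : E ≫ E' = 0) :
    biprod.lift (biprod.fst ≫ D) (biprod.fst ≫ F - biprod.snd ≫ E) ≫
      biprod.lift (biprod.fst ≫ D') (biprod.fst ≫ F' - biprod.snd ≫ E') = 0 := by
  apply biprod.hom_ext <;> simp [h₁, h₂, h₃, Preadditive.comp_sub, Preadditive.sub_comp]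

theorem isZero_biprod' (hP : IsZero P) (hQ : IsZero Q) : IsZero (P ⊞ Q) := by
  rw [IsZero.iff_id_eq_zero]
  apply biprod.hom_ext <;> simp [hP.eq_zero_of_tgt, hQ.eq_zero_of_tgt]

theorem map_snd_comp (a : P ⟶ Q) (b : P' ⟶ Q') (p : Q' ⟶ T) :
    biprod.map a b ≫ biprod.snd ≫ p = biprod.snd ≫ b ≫ p := by simp

theorem lift_snd_comp (F : P ⟶ U') (E : P' ⟶ U') (D : P ⟶ U) (p : U' ⟶ T) :
    biprod.lift (biprod.fst ≫ D) (biprod.fst ≫ F - biprod.snd ≫ E) ≫ biprod.snd ≫ p =
      biprod.fst ≫ F ≫ p - biprod.snd ≫ E ≫ p := by simp [Preadditive.sub_comp]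

theorem isIso_snd (hP : IsZero P) : IsIso (biprod.snd : P ⊞ Q ⟶ Q) :=
  ⟨biprod.inr, by apply biprod.hom_ext <;> simp [hP.eq_zero_of_tgt], by simp⟩

end Algebra

variable {A x} (hx : ∀ k l t, x k t ≫ x l (t + 1) = x l t ≫ x k (t + 1))

include hx in
theorem φ_comm (k l : ℕ) : ∀ r t j, φ A x k r t j ≫ φ A x l r (t + 1) j =
    φ A x l r t j ≫ φ A x k r (t + 1) j
  | 0, t, 0 => hx k l t
  | 0, t, j + 1 => by simp [φ]
  | r + 1, t, 0 => φ_comm k l r t 0
  | r + 1, t, j + 1 => map_map_eq _ _ _ _ _ _ _ _ (φ_comm k l r t (j + 1)) (φ_comm k l r (t + 1) j)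

include hx in
theorem φ_d (k : ℕ) : ∀ r t j, φ A x k r t j ≫ d A x r (t + 1) j = d A x r t j ≫ φ A x k r t (j + 1)
  | 0, t, j => by simp [d]
  | r + 1, t, 0 => comp_lift_eq _ _ _ _ _ _ _ (φ_d k r t 0) (φ_comm hx k r r t 0)
  | r + 1, t, j + 1 => map_lift_eq _ _ _ _ _ _ _ _ _ _ (φ_d k r t (j + 1)) (φ_comm hx k r r t (j + 1))
      (φ_d k r (t + 1) j)

include hx in
theorem d_d : ∀ r t j, d A x r t j ≫ d A x r t (j + 1) = 0
  | 0, t, j => by simp [d]
  | r + 1, t, 0 => lift_lift_eq_zero _ _ _ _ _ (d_d r t 0) (φ_d hx r r t 0).symm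
  | r + 1, t, j + 1 => lift_lift_eq_zero' _ _ _ _ _ _ (d_d r t (j + 1)) (φ_d hx r r t (j + 1)).symm
      (d_d r (t + 1) j)

theorem isZero_L : ∀ r t j, r < j → IsZero (L A r t j)
  | 0, t, j + 1, _ => isZero_zero C
  | r + 1, t, j + 1, h =>
    isZero_biprod' (isZero_L r t (j + 1) (by omega)) (isZero_L r (t + 1) j (by omega))

/-- A class of objects closed under zero and biproducts containing the `A`'s contains the terms. -/
theorem mem_L (Pr : C → Prop) (h0 : Pr 0) (hadd : ∀ M N, Pr M → Pr N → Pr (M ⊞ N)) :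
    ∀ r t j, (j ≤ r → Pr (A (t + j))) → Pr (L A r t j)
  | 0, t, 0, h => h le_rfl
  | 0, t, j + 1, _ => h0
  | r + 1, t, 0, h => mem_L Pr h0 hadd r t 0 fun _ => h (Nat.zero_le _)
  | r + 1, t, j + 1, h => hadd _ _ (mem_L Pr h0 hadd r t (j + 1) fun hj => h (by omega))
      (mem_L Pr h0 hadd r (t + 1) j fun hj => by
        rw [show t + 1 + j = t + (j + 1) by omega]
        exact h (by omega))

variable (A) in
/-- The last term is `A (t + r)`. -/
def top : ∀ (r t N : ℕ), t + r = N → (L A r t r ⟶ A N)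
  | 0, _, _, h => eqToHom (congrArg A h)
  | r + 1, t, N, h => biprod.snd ≫ top r (t + 1) N (by omega)

theorem isIso_top : ∀ (r t N : ℕ) (h : t + r = N), IsIso (top A r t N h)
  | 0, _, _, _ => inferInstanceAs (IsIso (eqToHom _))
  | r + 1, t, N, h => @IsIso.comp_isIso _ _ _ _ _ _ _ (isIso_snd (isZero_L r t (r + 1) r.lt_succ_self))
      (isIso_top r (t + 1) N (by omega))

variable (A x) in
theorem φ_top (k : ℕ) : ∀ (r t N : ℕ) (h : t + r = N) (h' : t + 1 + r = N + 1),
    φ A x k r t r ≫ top A r (t + 1) (N + 1) h' = top A r t N h ≫ x k N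
  | 0, t, N, h, h' => by
    obtain rfl : t = N := h
    show x k t ≫ eqToHom _ = eqToHom _ ≫ x k t
    simp
  | r + 1, t, N, h, h' => by
    show biprod.map _ _ ≫ biprod.snd ≫ top A r (t + 1 + 1) (N + 1) _ = (biprod.snd ≫ top A r (t + 1) N _) ≫ x k N
    rw [map_snd_comp, φ_top k r (t + 1) N (by omega) (by omega), Category.assoc]

variable (A x) in
/-- The last differential is a combination of the `x k`. -/
theorem exists_d_top : ∀ (r t N : ℕ) (h : t + (r + 1) = N + 1),
    ∃ q : ℕ → (L A (r + 1) t r ⟶ A N),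
      d A x (r + 1) t r ≫ top A (r + 1) t (N + 1) h = ∑ k ∈ Finset.range (r + 1), q k ≫ x k N
  | 0, t, N, h => by
    obtain rfl : t = N := by omega
    refine ⟨fun _ => eqToHom rfl, ?_⟩
    show biprod.lift _ _ ≫ biprod.snd ≫ top A 0 (t + 1) (t + 1) _ = _
    refine (biprod.lift_snd_assoc _ _ _).trans ((φ_top A x 0 0 t t rfl rfl).trans ?_)
    simp [top]
    rfl
  | r + 1, t, N, h => by
    obtain ⟨q, hq⟩ := exists_d_top r (t + 1) N (by omega)
    refine ⟨fun k => if k = r + 1 then biprod.fst ≫ top A (r + 1) t N (by omega)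
      else -(biprod.snd ≫ q k), ?_⟩
    have hs : ∑ k ∈ Finset.range (r + 1),
        (if k = r + 1 then (biprod.fst : L A (r + 1 + 1) t (r + 1) ⟶ _) ≫ top A (r + 1) t N (by omega)
          else -(biprod.snd ≫ q k)) ≫ x k N =
        -((biprod.snd : L A (r + 1 + 1) t (r + 1) ⟶ _) ≫ ∑ k ∈ Finset.range (r + 1), q k ≫ x k N) := by
      rw [Preadditive.comp_sum, ← Finset.sum_neg_distrib]
      refine Finset.sum_congr rfl fun k hk => ?_
      rw [if_neg (by have := Finset.mem_range.1 hk; omega), Preadditive.neg_comp, Category.assoc]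
    refine Eq.trans ?_ (Finset.sum_range_succ _ _).symm
    refine Eq.trans ?_ (congrArg₂ (· + ·) hs.symm rfl)
    dsimp only
    rw [if_pos rfl, ← hq]
    refine (lift_snd_comp _ _ _ _).trans (Eq.trans ?_ (neg_add_eq_sub _ _).symm)
    refine congrArg (· - _) ?_
    exact (congrArg (biprod.fst ≫ ·) (φ_top A x (r + 1) (r + 1) t N (by omega) (by omega))).trans
      (Category.assoc _ _ _).symm

/-! ### Exactness -/

section Exact

variable {S : Type w} [Ring S] (R : C ⥤ ModuleCat.{v} S) [R.Additive]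

theorem biprod_ext {M N : C} {a b : R.obj (M ⊞ N)} (h₁ : R.map biprod.fst a = R.map biprod.fst b)
    (h₂ : R.map biprod.snd a = R.map biprod.snd b) : a = b := by
  have hid : ∀ c : R.obj (M ⊞ N),
      c = R.map biprod.inl (R.map biprod.fst c) + R.map biprod.inr (R.map biprod.snd c) := fun c => by
    have h := congrArg (fun k => R.map k c) (biprod.total (X := M) (Y := N))
    simp only [R.map_add, R.map_comp, R.map_id, ModuleCat.hom_add, LinearMap.add_apply,
      ModuleCat.hom_comp, LinearMap.comp_apply, ModuleCat.id_apply] at h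
    exact h.symm
  rw [hid a, hid b, h₁, h₂]

theorem fst_mk {M N : C} (a : R.obj M) (b : R.obj N) :
    R.map biprod.fst (R.map (biprod.inl : M ⟶ M ⊞ N) a + R.map biprod.inr b) = a := by
  rw [map_add, ← ConcreteCategory.comp_apply, ← R.map_comp, ← ConcreteCategory.comp_apply, ← R.map_comp]
  simp

theorem snd_mk {M N : C} (a : R.obj M) (b : R.obj N) :
    R.map biprod.snd (R.map (biprod.inl : M ⟶ M ⊞ N) a + R.map biprod.inr b) = b := by
  rw [map_add, ← ConcreteCategory.comp_apply, ← R.map_comp, ← ConcreteCategory.comp_apply, ← R.map_comp]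
  simp

theorem exists_mk (r t i : ℕ) (a : R.obj (L A r t (i + 1))) (b : R.obj (L A r (t + 1) i)) :
    ∃ w : R.obj (L A (r + 1) t (i + 1)), R.map biprod.fst w = a ∧ R.map biprod.snd w = b :=
  ⟨R.map biprod.inl a + R.map biprod.inr b, fst_mk R a b, snd_mk R a b⟩

theorem map_fst_sub {M N P : C} (a : M ⟶ P) (b : N ⟶ P) (u : R.obj (M ⊞ N)) :
    R.map (biprod.fst ≫ a - biprod.snd ≫ b) u = R.map a (R.map biprod.fst u) - R.map b (R.map biprod.snd u) := by
  rw [R.map_sub, R.map_comp, R.map_comp]; rfl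

/-- The complex of level `r` at `t` is exact after `R`. -/
def Ex (r t : ℕ) : Prop :=
  (∀ u : R.obj (L A r t 0), R.map (d A x r t 0) u = 0 → u = 0) ∧
    ∀ j, ∀ u : R.obj (L A r t (j + 1)), R.map (d A x r t (j + 1)) u = 0 →
      ∃ w, R.map (d A x r t j) w = u

variable (A x) in
theorem d_fst0 (r t : ℕ) (u : R.obj (L A r t 0)) :
    R.map biprod.fst (R.map (d A x (r + 1) t 0) u) = R.map (d A x r t 0) u ∧
      R.map biprod.snd (R.map (d A x (r + 1) t 0) u) = R.map (φ A x r r t 0) u := by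
  constructor <;>
    · show R.map _ (R.map (biprod.lift (d A x r t 0) (φ A x r r t 0)) u) = _
      rw [← ConcreteCategory.comp_apply, ← R.map_comp]
      simp

variable (A x) in
theorem d_fst (r t j : ℕ) (u : R.obj (L A (r + 1) t (j + 1))) :
    R.map biprod.fst (R.map (d A x (r + 1) t (j + 1)) u) = R.map (d A x r t (j + 1)) (R.map biprod.fst u) ∧
      R.map biprod.snd (R.map (d A x (r + 1) t (j + 1)) u) =
        R.map (φ A x r r t (j + 1)) (R.map biprod.fst u) - R.map (d A x r (t + 1) j) (R.map biprod.snd u) := by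
  constructor <;>
    · show R.map _ (R.map (biprod.lift _ _) u) = _
      rw [← ConcreteCategory.comp_apply, ← R.map_comp]
      first
        | (simp; rfl)
        | (rw [biprod.lift_snd]; exact map_fst_sub R _ _ u)

/-- One step of the cone, when the new map is bijective. -/
theorem ex_of_bijective (r t : ℕ) (hb : ∀ j, Function.Bijective (R.map (φ A x r r t j)))
    (hx : ∀ k l t, x k t ≫ x l (t + 1) = x l t ≫ x k (t + 1)) : Ex (A := A) (x := x) R (r + 1) t := by
  have comm : ∀ j (a : R.obj (L A r t j)), R.map (φ A x r r t (j + 1)) (R.map (d A x r t j) a) =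
      R.map (d A x r (t + 1) j) (R.map (φ A x r r t j) a) := fun j a => by
    rw [← ConcreteCategory.comp_apply, ← R.map_comp, ← φ_d hx, R.map_comp, ConcreteCategory.comp_apply]
  constructor
  · intro u hu
    refine (hb 0).1 ?_
    exact ((d_fst0 A x R r t u).2.symm.trans ((congrArg _ hu).trans (map_zero _))).trans (map_zero _).symm
  · intro j u hu
    have h2 := sub_eq_zero.1 ((d_fst A x R r t j u).2.symm.trans ((congrArg _ hu).trans (map_zero _)))
    obtain ⟨a, ha⟩ := (hb j).2 (R.map biprod.snd u)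
    have ha1 : R.map (d A x r t j) a = R.map biprod.fst u :=
      (hb (j + 1)).1 (by rw [comm, ha, h2])
    match j with
    | 0 =>
      refine ⟨a, biprod_ext R ?_ ?_⟩
      · rw [(d_fst0 A x R r t a).1, ha1]
      · rw [(d_fst0 A x R r t a).2, ha]
    | i + 1 =>
      obtain ⟨w, hw₁, hw₂⟩ := exists_mk R r t i a 0
      refine ⟨w, biprod_ext R ?_ ?_⟩
      · rw [(d_fst A x R r t i w).1, hw₁, ha1]
      · rw [(d_fst A x R r t i w).2, hw₁, hw₂, map_zero, sub_zero, ha]

/-- One step of the cone, when the previous complexes are exact. -/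
theorem ex_succ (r t : ℕ) (h₀ : Ex (A := A) (x := x) R r t) (h₁ : Ex (A := A) (x := x) R r (t + 1))
    (hx : ∀ k l t, x k t ≫ x l (t + 1) = x l t ≫ x k (t + 1)) : Ex (A := A) (x := x) R (r + 1) t := by
  constructor
  · intro u hu
    refine h₀.1 u ?_
    exact (d_fst0 A x R r t u).1.symm.trans ((congrArg _ hu).trans (map_zero _))
  · intro j u hu
    have h1 : R.map (d A x r t (j + 1)) (R.map biprod.fst u) = 0 :=
      (d_fst A x R r t j u).1.symm.trans ((congrArg _ hu).trans (map_zero _))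
    have h2 : R.map (φ A x r r t (j + 1)) (R.map biprod.fst u) - R.map (d A x r (t + 1) j) (R.map biprod.snd u) = 0 :=
      (d_fst A x R r t j u).2.symm.trans ((congrArg _ hu).trans (map_zero _))
    obtain ⟨w, hw⟩ := h₀.2 j _ h1
    rw [sub_eq_zero, ← hw, ← ConcreteCategory.comp_apply, ← R.map_comp, ← φ_d hx, R.map_comp,
      ConcreteCategory.comp_apply, ← sub_eq_zero, ← map_sub] at h2
    match j with
    | 0 =>
      have h3 := sub_eq_zero.1 (h₁.1 _ h2)
      refine ⟨w, biprod_ext R ?_ ?_⟩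
      · rw [(d_fst0 A x R r t w).1, hw]
      · rw [(d_fst0 A x R r t w).2, h3]
    | i + 1 =>
      obtain ⟨z, hz⟩ := h₁.2 i _ h2
      obtain ⟨w', hw₁, hw₂⟩ := exists_mk R r t i w z
      refine ⟨w', biprod_ext R ?_ ?_⟩
      · rw [(d_fst A x R r t i w').1, hw₁, hw]
      · rw [(d_fst A x R r t i w').2, hw₁, hw₂, hz, sub_sub_cancel]

theorem φ_bijective (k : ℕ) (hb : ∀ t, Function.Bijective (R.map (x k t))) :
    ∀ r t j, Function.Bijective (R.map (φ A x k r t j))
  | 0, t, 0 => hb t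
  | 0, t, j + 1 => by
    have hz : IsZero (R.obj (0 : C)) := R.map_isZero (isZero_zero C)
    haveI := ModuleCat.subsingleton_of_isZero hz
    haveI : Subsingleton ↑(R.obj (L A 0 t (j + 1))) := this
    haveI : Subsingleton ↑(R.obj (L A 0 (t + 1) (j + 1))) := ‹Subsingleton ↑(R.obj (0 : C))›
    exact ⟨fun a b _ => Subsingleton.elim _ _, fun b => ⟨0, Subsingleton.elim _ _⟩⟩
  | r + 1, t, 0 => φ_bijective k hb r t 0
  | r + 1, t, j + 1 => by
    have h : ∀ u, R.map biprod.fst (R.map (φ A x k (r + 1) t (j + 1)) u) =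
          R.map (φ A x k r t (j + 1)) (R.map biprod.fst u) ∧
        R.map biprod.snd (R.map (φ A x k (r + 1) t (j + 1)) u) =
          R.map (φ A x k r (t + 1) j) (R.map biprod.snd u) := fun u => by
      constructor <;>
        · show R.map _ (R.map (biprod.map _ _) u) = _
          rw [← ConcreteCategory.comp_apply, ← R.map_comp]
          simp
    refine ⟨fun a b hab => biprod_ext R ?_ ?_, fun b => ?_⟩
    · refine (φ_bijective k hb r t (j + 1)).1 ?_
      rw [← (h a).1, ← (h b).1, hab]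
    · refine (φ_bijective k hb r (t + 1) j).1 ?_
      rw [← (h a).2, ← (h b).2, hab]
    · obtain ⟨a₁, ha₁⟩ := (φ_bijective k hb r t (j + 1)).2 (R.map biprod.fst b)
      obtain ⟨a₂, ha₂⟩ := (φ_bijective k hb r (t + 1) j).2 (R.map biprod.snd b)
      obtain ⟨w, hw₁, hw₂⟩ := exists_mk R r t j a₁ a₂
      refine ⟨w, biprod_ext R ?_ ?_⟩
      · rw [(h w).1, hw₁, ha₁]
      · rw [(h w).2, hw₂, ha₂]

/-- Exactness of the whole complex as soon as one of the maps is bijective. -/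
theorem ex (hx : ∀ k l t, x k t ≫ x l (t + 1) = x l t ≫ x k (t + 1)) (l : ℕ)
    (hb : ∀ t, Function.Bijective (R.map (x l t))) : ∀ r t, l < r → Ex (A := A) (x := x) R r t
  | r + 1, t, h => by
    rcases Nat.lt_succ_iff_lt_or_eq.1 h with h | rfl
    · exact ex_succ R r t (ex hx l hb r t h) (ex hx l hb r (t + 1) h) hx
    · exact ex_of_bijective R l t (fun j => φ_bijective R l hb l t j) hx

end Exact

end Groth.Agent.H22Alg.KosLine
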