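import Groth.Agent.H22Alg.KosLine
import Groth.Agent.H10Coh.TwistExact
import Groth.Agent.H11Ample.Basic
import Groth.Agent.H29Omega.ConormalSplit
import Groth.Agent.H29Omega.ConormalDiffStalk
import Groth.Prelude.Def_DCoh4

/-! # The Koszul complex of global sections of an invertible module. -/

set_option autoImplicit false
set_option linter.style.haveILetI false

universe u

open CategoryTheory CategoryTheory.Limits AlgebraicGeometry Opposite TopologicalSpace
open Groth.Agent.H11Tilde Groth.Agent.H11Ample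

noncomputable section

namespace Groth.Agent.H22Alg.KosTwist

variable {X : Scheme.{u}}

/-- E ⊗ ψ. -/
def tensorLeftMap (E : X.Modules) {M N : X.Modules} (ψ : M ⟶ N) :
    CohB1.tensorMod E M ⟶ CohB1.tensorMod E N :=
  (CohB1.sheafifyMod X).map
    (show (CohB1.tensorPre E M : X.PresheafOfModules) ⟶ (CohB1.tensorPre E N : X.PresheafOfModules) from
      (MonoidalCategory.whiskerLeft (CohB1.toPMod E) (show CohB1.toPMod M ⟶ CohB1.toPMod N from ψ.val)))

theorem map_tm_right {M N : X.Modules} (E : X.Modules) (ψ : M ⟶ N) {U : X.Opens} (m : Γ(E, U)) (e : Γ(M, U)) :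
    (tensorLeftMap E ψ).app U (tm m e) = tm m (ψ.app U e) := by
  have h := (PresheafOfModules.sheafificationAdjunction (𝟙 X.ringCatSheaf.obj)).unit.naturality
    (show (CohB1.tensorPre E M : X.PresheafOfModules) ⟶ (CohB1.tensorPre E N : X.PresheafOfModules) from
      (MonoidalCategory.whiskerLeft (CohB1.toPMod E) (show CohB1.toPMod M ⟶ CohB1.toPMod N from ψ.val)))
  exact (ConcreteCategory.congr_hom (congrArg (fun k => PresheafOfModules.Hom.app k (op U)) h)
    ((show (CohB1.toPMod E).obj (op U) from m) ⊗ₜ (show (CohB1.toPMod M).obj (op U) from e))).symm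

/-- m ↦ m ⊗ g. -/
def mulHom (M : X.Modules) {L : X.Modules} (g : Γ(L, ⊤)) : M ⟶ CohB1.tensorMod M L :=
  (SecTwist.unitorR M).inv ≫ tensorLeftMap M (homOfGlobal L g)

theorem mulHom_app (M : X.Modules) {L : X.Modules} (g : Γ(L, ⊤)) (U : X.Opens) (m : Γ(M, U)) :
    (mulHom M g).app U m = tm m (L.presheaf.map (homOfLE (le_top : U ≤ ⊤)).op g) := by
  have h1 : (SecTwist.unitorR M).hom.app U (tm m (show Γ(Coh.structureModule X, U) from (1 : Γ(X, U)))) = m :=
    (SecTwist.unitorR_tmul M U m 1).trans (one_smul Γ(X, U) m)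
  have h2 : (SecTwist.unitorR M).inv.app U m = tm m (show Γ(Coh.structureModule X, U) from (1 : Γ(X, U))) :=
    (congrArg ((SecTwist.unitorR M).inv.app U) h1.symm).trans
      (congr($(congrArg (fun k => Scheme.Modules.Hom.app k U) (SecTwist.unitorR M).hom_inv_id)
        (tm m (show Γ(Coh.structureModule X, U) from (1 : Γ(X, U))))))
  refine (congrArg ((tensorLeftMap M (homOfGlobal L g)).app U) h2).trans ?_
  rw [map_tm_right]
  exact congrArg (tm m) (one_smul Γ(X, U) _)

variable (L G : X.Modules)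

/-- G ⊗ L^⊗t, built from the right. -/
def A : ℕ → X.Modules
  | 0 => G
  | t + 1 => CohB1.tensorMod (A t) L

variable (v : ℕ → Γ(L, ⊤))

/-- Multiplication by the k-th section. -/
def mul (k t : ℕ) : A L G t ⟶ A L G (t + 1) := mulHom (A L G t) (v k)

theorem mul_app (k t : ℕ) (U : X.Opens) (m : Γ(A L G t, U)) :
    (mul L G v k t).app U m = tm m (L.presheaf.map (homOfLE (le_top : U ≤ ⊤)).op (v k)) :=
  mulHom_app _ _ _ m

theorem mul_comm' (hL : PicF.IsInvertible L) (k l t : ℕ) :
    mul L G v k t ≫ mul L G v l (t + 1) = mul L G v l t ≫ mul L G v k (t + 1) := by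
  refine Scheme.Modules.hom_ext _ _ fun U => ?_
  ext m
  refine H11Tilde.eq_of_locally _ _ fun x hx => ?_
  obtain ⟨V, e, hxV, he⟩ := exists_gen hL x
  refine ⟨U ⊓ V, inf_le_left, ⟨hx, hxV⟩, ?_⟩
  have he' := he.res (inf_le_right : U ⊓ V ≤ V)
  obtain ⟨a, ha⟩ := exists_coeff he' (L.presheaf.map (homOfLE le_top).op (v k))
  obtain ⟨b, hb⟩ := exists_coeff he' (L.presheaf.map (homOfLE le_top).op (v l))
  change (A L G (t + 2)).presheaf.map _ ((mul L G v l (t + 1)).app U ((mul L G v k t).app U m)) =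
    (A L G (t + 2)).presheaf.map _ ((mul L G v k (t + 1)).app U ((mul L G v l t).app U m))
  rw [← app_map_apply, ← app_map_apply, ← app_map_apply, ← app_map_apply]
  simp only [mul_app, ha, hb, tm_smul_left, tm_smul_right, smul_smul]
  erw [tm_smul_left, tm_smul_left, smul_smul, smul_smul, mul_comm a b]

/-- On the locus where the section generates, multiplication is bijective on stalks. -/
theorem mul_bijective (hL : PicF.IsInvertible L) (k t : ℕ) (z : X) (hz : z ∈ gen L (v k)) :
    Function.Bijective (H06Mod.stalkLin (mul L G v k t) z) := by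
  set e := L.presheaf.map (homOfLE (le_top : gen L (v k) ≤ ⊤)).op (v k)
  have he : IsGen L e := isGen_gen (v k)
  have hb : ∀ W, W ≤ gen L (v k) → Function.Bijective ((mul L G v k t).app W) := fun W hW => by
    refine Eq.mpr (congrArg Function.Bijective (funext fun m => ?_)) (bijective_tm (F := A L G t) he hW)
    rw [mul_app, H10Coh.mres_mres]
  constructor
  · intro a b hab
    obtain ⟨U, hU, a, rfl⟩ := (A L G t).presheaf.exists_germ_eq a
    obtain ⟨V, hV, b, rfl⟩ := (A L G t).presheaf.exists_germ_eq b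
    rw [H06Mod.stalkLin_germ, H06Mod.stalkLin_germ] at hab
    obtain ⟨W, hzW, iU, iV, hW⟩ := TopCat.Presheaf.germ_eq _ z hU hV _ _ hab
    let W' := W ⊓ gen L (v k)
    refine (TopCat.Presheaf.germ_res_apply _ (homOfLE (inf_le_left.trans iU.le) : W' ⟶ U) z ⟨hzW, hz⟩ a).symm.trans
      (Eq.trans ?_ (TopCat.Presheaf.germ_res_apply _ (homOfLE (inf_le_left.trans iV.le) : W' ⟶ V) z ⟨hzW, hz⟩ b))
    refine congrArg _ ((hb W' inf_le_right).1 ?_)
    rw [app_map_apply, app_map_apply]
    have h := congrArg ((A L G (t + 1)).presheaf.map (homOfLE (inf_le_left : W' ≤ W)).op) hW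
    rw [show iU = homOfLE iU.le from rfl, show iV = homOfLE iV.le from rfl, H10Coh.mres_mres,
      H10Coh.mres_mres] at h
    exact h
  · intro c
    obtain ⟨U, hU, c, rfl⟩ := (A L G (t + 1)).presheaf.exists_germ_eq c
    obtain ⟨m, hm⟩ := (hb (U ⊓ gen L (v k)) inf_le_right).2
      ((A L G (t + 1)).presheaf.map (homOfLE inf_le_left).op c)
    refine ⟨(A L G t).presheaf.germ (U ⊓ gen L (v k)) z ⟨hU, hz⟩ m, ?_⟩
    rw [H06Mod.stalkLin_germ, hm]
    exact TopCat.Presheaf.germ_res_apply _ _ _ _ _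

variable {L G v}

open KosLine in
/-- The Koszul complex is exact when the sections generate everywhere. -/
theorem exact (hL : PicF.IsInvertible L) {r : ℕ} (hv : ∀ z : X, ∃ k < r, z ∈ gen L (v k)) (t : ℕ) :
    Mono (KosLine.d (A L G) (mul L G v) r t 0) ∧
    ∀ j, (ShortComplex.mk (KosLine.d (A L G) (mul L G v) r t j) (KosLine.d (A L G) (mul L G v) r t (j + 1))
      (KosLine.d_d (fun k l s => mul_comm' L G v hL k l s) r t j)).Exact := by
  have hEx : ∀ z : X, KosLine.Ex (A := A L G) (x := mul L G v) (DerSch.stalkFunctor X z) r t := fun z => by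
    obtain ⟨k, hk, hz⟩ := hv z
    exact KosLine.ex (DerSch.stalkFunctor X z) (fun k l s => mul_comm' L G v hL k l s) k
      (fun s => mul_bijective L G v hL k s z hz) r t hk
  refine ⟨H29Omega.mono_of_injective_stalkLin _ fun z a b hab => ?_, fun j =>
    H29Omega.exact_of_stalks _ fun z b hb => (hEx z).2 j b hb⟩
  rw [← sub_eq_zero]
  exact (hEx z).1 _ ((map_sub _ a b).trans (sub_eq_zero.2 hab))

end Groth.Agent.H22Alg.KosTwist
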