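import Mathlib
import Groth.Agent.H22Alg.KosTwist
import Groth.Agent.H22Alg.KosLine
import Groth.Agent.H22Alg.ExactVanish
import Groth.Agent.H10Coh.AmpleDevissage
import Groth.Agent.H10Coh.SerreVanishing
import Groth.Agent.H10Coh.Pn.Vanishing
import Groth.Agent.H10Coh.Stab.TwistInt
import Groth.Agent.H11Ample.Global
import Groth.Agent.H11Ample.Converse
import Groth.Agent.H11Ample.ToPn

/-!
# Castelnuovo–Mumford regularity on projective space over a field, and multiplication of sections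
-/

set_option autoImplicit false
set_option linter.style.haveILetI false
universe u

open CategoryTheory CategoryTheory.Limits AlgebraicGeometry Opposite TopologicalSpace ZeroObject
open Groth.Agent Groth.Agent.H11Tilde Groth.Agent.H11Ample
open scoped TensorProduct
attribute [local instance 10000] Groth.Agent.H10Coh.hasSheafifyAb Groth.Agent.H10Coh.hasWeakSheafifyAb Groth.Agent.H10Coh.hasExtAb Groth.Agent.H10Coh.enoughInjAb

noncomputable section

namespace Groth.Agent.H22Alg.CMField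

section tensor

open MonoidalCategory Groth.Agent.H15Site.ModTensor

attribute [local instance 10000] Groth.Agent.H15Site.SiteInst.hasSheafifySite Groth.Agent.H15Site.SiteInst.hasWeakSheafifySite

theorem assoc_tm {X : Scheme.{u}} (M A B : X.Modules) (U : X.Opens) (a : Γ(M, U)) (b : Γ(A, U)) (c : Γ(B, U)) :
    (H10Coh.Tw.assoc M A B).hom.app U (tm (tm a b) c) = tm a (tm b c) := by
  let fM := (forg X.sheaf).obj M
  let fA := (forg X.sheaf).obj A
  let fB := (forg X.sheaf).obj B
  let el : ((fM ⊗ fA) ⊗ fB).obj (op U) :=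
    ((show fM.obj (op U) from a) ⊗ₜ (show fA.obj (op U) from b)) ⊗ₜ (show fB.obj (op U) from c)
  have h12 := ConcreteCategory.congr_hom (congrArg (fun w => PresheafOfModules.Hom.app w (op U))
    ((adj X.sheaf).unit.naturality ((adj X.sheaf).unit.app (fM ⊗ fA) ▷ fB))) el
  have h23 := ConcreteCategory.congr_hom (congrArg (fun w => PresheafOfModules.Hom.app w (op U))
    ((adj X.sheaf).unit.naturality ((α_ fM fA fB).hom ≫ fM ◁ (adj X.sheaf).unit.app (fA ⊗ fB)))) el
  have h := ConcreteCategory.congr_hom (congrArg (fun w => PresheafOfModules.Hom.app ((forg X.sheaf).map w) (op U))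
    (e12_assocApp (O := X.sheaf) M A B)) (((adj X.sheaf).unit.app ((fM ⊗ fA) ⊗ fB)).app (op U) el)
  refine Eq.trans ?_ (Eq.trans h h23.symm)
  exact congrArg ((H10Coh.Tw.assoc M A B).hom.app U) h12

end tensor

variable {X : Scheme.{u}}

theorem inv_hom_apply {M N : X.Modules} (e : M ≅ N) (U : X.Opens) (s : Γ(M, U)) :
    e.inv.app U (e.hom.app U s) = s :=
  congr($(congrArg (fun k => Scheme.Modules.Hom.app k U) e.hom_inv_id) s)

theorem hom_inv_apply {M N : X.Modules} (e : M ≅ N) (U : X.Opens) (s : Γ(N, U)) :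
    e.hom.app U (e.inv.app U s) = s :=
  congr($(congrArg (fun k => Scheme.Modules.Hom.app k U) e.inv_hom_id) s)

/-- Every global section of `M ⊗ N` is a sum of products of global sections. -/
def Spanned (M N : X.Modules) : Prop :=
  ∀ S : Γ(CohB1.tensorMod M N, ⊤),
    S ∈ AddSubgroup.closure {w | ∃ (a : Γ(M, ⊤)) (b : Γ(N, ⊤)), tm a b = w}

theorem Spanned.mono {M N M' N' : X.Modules} (h : Spanned M N) (ψ : CohB1.tensorMod M N ⟶ CohB1.tensorMod M' N')
    (hψ : Function.Surjective (ψ.app ⊤)) (hgen : ∀ a b, ψ.app ⊤ (tm a b) ∈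
      AddSubgroup.closure {w : Γ(CohB1.tensorMod M' N', ⊤) | ∃ (a : Γ(M', ⊤)) (b : Γ(N', ⊤)), tm a b = w}) :
    Spanned M' N' := by
  intro S
  obtain ⟨S, rfl⟩ := hψ S
  have hS := h S
  induction hS using AddSubgroup.closure_induction with
  | mem x hx => obtain ⟨a, b, rfl⟩ := hx; exact hgen a b
  | zero => rw [map_zero]; exact zero_mem _
  | add x y _ _ hx hy => rw [map_add]; exact add_mem hx hy
  | neg x _ hx => rw [map_neg]; exact neg_mem hx

theorem tensorLeftMap_comp_surjective {M N N' : X.Modules} (e : N ≅ N') :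
    Function.Surjective ((KosTwist.tensorLeftMap M e.hom).app ⊤) := by
  intro S
  refine ⟨(KosTwist.tensorLeftMap M e.inv).app ⊤ S, ?_⟩
  have h : KosTwist.tensorLeftMap M e.inv ≫ KosTwist.tensorLeftMap M e.hom = 𝟙 _ := by
    show ((DCoh.tensorBi (X := X)).obj M).map e.inv ≫ ((DCoh.tensorBi (X := X)).obj M).map e.hom = _
    rw [← Functor.map_comp, e.inv_hom_id]
    exact ((DCoh.tensorBi (X := X)).obj M).map_id _
  exact congr($(congrArg (fun k => Scheme.Modules.Hom.app k ⊤) h) S)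

theorem Spanned.of_iso_right {M N N' : X.Modules} (h : Spanned M N) (e : N ≅ N') : Spanned M N' :=
  h.mono (KosTwist.tensorLeftMap M e.hom) (tensorLeftMap_comp_surjective e) fun a b =>
    AddSubgroup.subset_closure ⟨a, e.hom.app ⊤ b, (KosTwist.map_tm_right M e.hom a b).symm⟩

theorem Spanned.of_iso_left {M M' N : X.Modules} (h : Spanned M N) (e : M ≅ M') : Spanned M' N := by
  refine h.mono (LimSh.tensorModMap e.hom N) ?_ fun a b =>
    AddSubgroup.subset_closure ⟨e.hom.app ⊤ a, b, (H10Coh.Tw.map_tm e.hom N a b).symm⟩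
  intro S
  refine ⟨(LimSh.tensorModMap e.inv N).app ⊤ S, ?_⟩
  have h' : LimSh.tensorModMap e.inv N ≫ LimSh.tensorModMap e.hom N = 𝟙 _ := by
    show ((DCoh.tensorBi (X := X)).flip.obj N).map e.inv ≫ ((DCoh.tensorBi (X := X)).flip.obj N).map e.hom = _
    rw [← Functor.map_comp, e.inv_hom_id]
    exact ((DCoh.tensorBi (X := X)).flip.obj N).map_id _
  exact congr($(congrArg (fun k => Scheme.Modules.Hom.app k ⊤) h') S)

/-- The products generate the whole of `M ⊗ O_X`. -/
theorem spanned_structure (M : X.Modules) : Spanned M (Coh.structureModule X) := fun S =>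
  AddSubgroup.subset_closure ⟨(SecTwist.unitorR M).hom.app ⊤ S, (1 : Γ(X, ⊤)), by
    have h := (SecTwist.unitorR_tmul M ⊤ ((SecTwist.unitorR M).hom.app ⊤ S) 1).trans
      (one_smul Γ(X, ⊤) _)
    have h2 := congrArg ((SecTwist.unitorR M).inv.app ⊤) h
    rw [inv_hom_apply] at h2
    exact (inv_hom_apply (SecTwist.unitorR M) ⊤ _).symm.trans h2⟩

/-- Transitivity of spanning. -/
theorem Spanned.trans {M N L : X.Modules} (h₁ : Spanned M N) (h₂ : Spanned (CohB1.tensorMod M N) L) :
    Spanned M (CohB1.tensorMod N L) := by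
  refine h₂.mono (H10Coh.Tw.assoc M N L).hom (fun S => ⟨_, hom_inv_apply _ _ S⟩) fun a b => ?_
  have ha := h₁ a
  induction ha using AddSubgroup.closure_induction with
  | mem x hx =>
    obtain ⟨p, q, rfl⟩ := hx
    rw [assoc_tm]
    exact AddSubgroup.subset_closure ⟨p, tm q b, rfl⟩
  | zero =>
    have h0 : tm (0 : Γ(CohB1.tensorMod M N, ⊤)) b = 0 := by
      rw [← zero_smul Γ(X, ⊤) (0 : Γ(CohB1.tensorMod M N, ⊤)), tm_smul_left, zero_smul]
    rw [h0, map_zero]; exact zero_mem _
  | add x y _ _ hx hy => rw [tm_add_left, map_add]; exact add_mem hx hy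
  | neg x _ hx =>
    have hn : tm (-x) b = -tm x b := by
      rw [← neg_one_smul Γ(X, ⊤) x, tm_smul_left, neg_one_smul]
    rw [hn, map_neg]; exact neg_mem hx

/-- The presheaf products surject onto global sections when these span. -/
theorem surjective_toSheafify {M N : X.Modules} (h : Spanned M N) :
    Function.Surjective ((toSheafify (Opens.grothendieckTopology X)
      (CohB1.tensorPre M N).presheaf).app (op ⊤)) := by
  intro S
  have hS := h S
  induction hS using AddSubgroup.closure_induction with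
  | mem x hx =>
    obtain ⟨a, b, rfl⟩ := hx
    exact ⟨(show (CohB1.toPMod M).obj (op ⊤) from a) ⊗ₜ (show (CohB1.toPMod N).obj (op ⊤) from b), rfl⟩
  | zero => exact ⟨0, map_zero _⟩
  | add x y _ _ hx hy =>
    obtain ⟨a, rfl⟩ := hx
    obtain ⟨b, rfl⟩ := hy
    exact ⟨a + b, map_add _ _ _⟩
  | neg x _ hx =>
    obtain ⟨a, rfl⟩ := hx
    exact ⟨-a, map_neg _ _⟩

/-- Global generation from spanning of products with an invertible module. -/
theorem isGloballyGenerated_of_spanned {G N : X.Modules} (hN : PicF.IsInvertible N) (h : Spanned G N)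
    {ι : Type u} (g : ι → Γ(CohB1.tensorMod G N, ⊤))
    (hg : ∀ (W : X.Opens) (t : Γ(CohB1.tensorMod G N, W)), ∀ x ∈ W, ∃ (V : X.Opens) (hV : V ≤ W), x ∈ V ∧
      (CohB1.tensorMod G N).presheaf.map (homOfLE hV).op t ∈ Submodule.span Γ(X, V)
        (Set.range fun i => (CohB1.tensorMod G N).presheaf.map (homOfLE (le_top : V ≤ ⊤)).op (g i))) :
    Curv2.IsGloballyGenerated G := by
  refine isGloballyGenerated_of_locally G (fun a : Γ(G, ⊤) => a) fun W t x hx => ?_
  obtain ⟨U, e, hxU, he⟩ := exists_gen hN x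
  obtain ⟨V, hV, hxV, hmem⟩ := hg (W ⊓ U)
    (tm (G.presheaf.map (homOfLE (inf_le_left : W ⊓ U ≤ W)).op t)
      (N.presheaf.map (homOfLE (inf_le_right : W ⊓ U ≤ U)).op e)) x ⟨hx, hxU⟩
  refine ⟨V, hV.trans inf_le_left, hxV, ?_⟩
  let e' := N.presheaf.map (homOfLE (hV.trans inf_le_right : V ≤ U)).op e
  have he' : IsGen N e' := he.res (hV.trans inf_le_right)
  let φ : Γ(G, V) →ₗ[Γ(X, V)] Γ(CohB1.tensorMod G N, V) :=
    { toFun := fun a => tm a e'
      map_add' := fun a b => tm_add_left a b e'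
      map_smul' := fun c a => tm_smul_left c a e' }
  let P := Submodule.span Γ(X, V) (Set.range fun a : Γ(G, ⊤) => G.presheaf.map (homOfLE (le_top : V ≤ ⊤)).op a)
  have key : ∀ S : Γ(CohB1.tensorMod G N, ⊤),
      (CohB1.tensorMod G N).presheaf.map (homOfLE (le_top : V ≤ ⊤)).op S ∈ P.map φ := by
    intro S
    have hS := h S
    induction hS using AddSubgroup.closure_induction with
    | mem w hw =>
      obtain ⟨a, b, rfl⟩ := hw
      rw [tm_res]
      obtain ⟨c, hc⟩ := exists_coeff he' (N.presheaf.map (homOfLE (le_top : V ≤ ⊤)).op b)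
      rw [hc, tm_smul_right]
      exact Submodule.smul_mem _ _ ⟨_, Submodule.subset_span ⟨a, rfl⟩, rfl⟩
    | zero => rw [map_zero]; exact zero_mem _
    | add a b _ _ ha hb => rw [map_add]; exact add_mem ha hb
    | neg a _ ha => rw [map_neg]; exact neg_mem ha
  rw [tm_res, H10Coh.mres_mres, H10Coh.mres_mres] at hmem
  obtain ⟨p, hp, hpe⟩ := (Submodule.span_le.2 (by rintro _ ⟨i, rfl⟩; exact key (g i))) hmem
  have := H10Coh.Tw.tm_inj he' (hpe : tm p e' = _)
  rw [← this]
  exact hp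

/-- Vanishing in one degree. -/
def Van (q : ℕ) (M : X.Modules) : Prop := Subsingleton (H10Coh.HnM M q ⊤)

theorem van_iff {q : ℕ} {M : X.Modules} : Van q M ↔ Subsingleton (Coh.HH X M q) :=
  (H10Coh.HHEquiv M q).toEquiv.subsingleton_congr.symm

theorem van_zero {q : ℕ} : Van q (0 : X.Modules) :=
  H10Coh.Tw.subsingleton_of_sum_eq_id (ι := Empty) (P := fun e => e.elim) (fun e => e.elim) (fun e => e.elim)
    (((H10Coh.shF X).map_isZero (isZero_zero _)).eq_of_src _ _) (fun e => e.elim)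

theorem van_biprod {q : ℕ} {M N : X.Modules} (hM : Van q M) (hN : Van q N) : Van q (M ⊞ N) :=
  H10Coh.Tw.subsingleton_X₂ (H10Coh.shortExact_sh (ShortComplex.Splitting.ofHasBinaryBiproduct M N).shortExact) hM hN

section complex

variable {K : ℕ → X.Modules} {d : ∀ j, K j ⟶ K (j + 1)} (w : ∀ j, d j ≫ d (j + 1) = 0)
  (hex : ∀ j, (ShortComplex.mk (d j) (d (j + 1)) (w j)).Exact)

include hex in
/-- Vanishing for the cycles by descending along an exact complex. -/
theorem van_cycles (hd0 : Mono (d 0)) (N i : ℕ)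
    (hK : ∀ j e, j + e + 1 = N → Van (i + e) (K j)) :
    ∀ j e, j + e = N → Van (i + e) (kernel (d j)) := by
  intro j
  induction j with
  | zero => exact fun e _ => H10Coh.Tw.subsingleton_of_iso (kernel.ofMono (d 0)).symm van_zero
  | succ j ih =>
    intro e he
    exact H10Coh.Tw.subsingleton_X₃ (H10Coh.shortExact_sh (ExactVanish.shortExact_cycles w hex j))
      (hK j e (by omega)) (ih (e + 1) (by omega))

include hex in
theorem van_top (hd0 : Mono (d 0)) (N i : ℕ) (hN : IsZero (K (N + 1)))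
    (hK : ∀ j e, j + e + 1 = N → Van (i + e) (K j)) : Van i (K N) :=
  H10Coh.Tw.subsingleton_of_iso ((kernelIsoOfEq (hN.eq_of_tgt (d N) (0 : K N ⟶ K (N + 1)))) ≪≫ kernelZeroIsoSource)
    (van_cycles w hex hd0 N i hK N 0 rfl)

include hex in
theorem surjective_last (hd0 : Mono (d 0)) (N : ℕ) (hN : IsZero (K (N + 2)))
    (hK : ∀ j e, j + e + 1 = N → Van (1 + e) (K j)) : Function.Surjective ((d N).app ⊤) := by
  intro S
  have hS₀ := ExactVanish.shortExact_cycles w hex N
  haveI : Mono (kernel.ι (d (N + 1))) := inferInstance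
  haveI : IsIso (kernel.ι (d (N + 1))) := by
    rw [show d (N + 1) = 0 from hN.eq_of_tgt _ _]
    infer_instance
  let S' : Γ(kernel (d (N + 1)), ⊤) := (inv (kernel.ι (d (N + 1)))).app ⊤ S
  have hsub : Subsingleton (H10Coh.Hn (H10Coh.sh (kernel (d N))) 1 ⊤) := van_cycles w hex hd0 N 1 hK N 0 rfl
  obtain ⟨y, hy⟩ := Abelian.Ext.covariant_sequence_exact₃ _ (H10Coh.shortExact_sh hS₀)
    ((H10Coh.H0Equiv (H10Coh.sh (kernel (d (N + 1)))) ⊤).symm S') (rfl : 0 + 1 = 1) (@Subsingleton.elim _ hsub _ _)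
  refine ⟨H10Coh.H0Equiv (H10Coh.sh (K N)) ⊤ y, ?_⟩
  have h1 := congrArg (H10Coh.H0Equiv (H10Coh.sh (kernel (d (N + 1)))) ⊤) hy
  rw [AddEquiv.apply_symm_apply] at h1
  have h1' := (H10Coh.H0Equiv_map _ y).symm.trans h1
  have h2 := congrArg ((kernel.ι (d (N + 1))).app ⊤) h1'
  have h3 : (kernel.ι (d (N + 1))).app ⊤ S' = S :=
    congr($(congrArg (fun m => Scheme.Modules.Hom.app m ⊤) (IsIso.inv_hom_id (kernel.ι (d (N + 1))))) S)
  have h4 : ExactVanish.toCycles w N ≫ kernel.ι (d (N + 1)) = d N := kernel.lift_ι _ _ _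
  exact (congr($(congrArg (fun m => Scheme.Modules.Hom.app m ⊤) h4.symm) _)).trans (h2.trans h3)

end complex

/-- An ambient space with a twist family and enough coordinates. -/
structure Setup (O : ℤ → X.Modules) (n : ℕ) (v : ℕ → Γ(O 1, ⊤)) : Prop where
  fam : H10Coh.Stab.IsTwistFamily O
  cover : ∀ z : X, ∃ j < n + 1, z ∈ gen (O 1) (v j)

/-- Regularity: vanishing in all positive degrees. -/
def Reg (O : ℤ → X.Modules) (F : X.Modules) (m : ℤ) : Prop :=
  ∀ i : ℕ, 1 ≤ i → Van i (CohB1.tensorMod F (O (m - i)))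

variable {O : ℤ → X.Modules} {n : ℕ} {v : ℕ → Γ(O 1, ⊤)}

theorem nonempty_A_iso (hs : Setup O n v) (F : X.Modules) (c : ℤ) :
    ∀ (t : ℕ) (a : ℤ), a = c + t →
      Nonempty (KosTwist.A (O 1) (CohB1.tensorMod F (O c)) t ≅ CohB1.tensorMod F (O a))
  | 0, a, h => by
    obtain rfl : a = c := by simpa using h
    exact ⟨Iso.refl _⟩
  | t + 1, a, h => by
    obtain ⟨e⟩ := nonempty_A_iso hs F c t (c + t) rfl
    obtain ⟨e'⟩ := hs.fam.add (c + t) 1
    exact ⟨PicGrp.tensorModIso e (Iso.refl _) ≪≫ H10Coh.Tw.assoc _ _ _ ≪≫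
      PicGrp.tensorModIso (Iso.refl F) (e' ≪≫ eqToIso (congrArg O (by rw [h]; push_cast; ring)))⟩

theorem van_L (hs : Setup O n v) {F : X.Modules} (c : ℤ) (t j q : ℕ)
    (h : Van q (CohB1.tensorMod F (O (c + (t + j : ℕ))))) :
    Van q (KosLine.L (KosTwist.A (O 1) (CohB1.tensorMod F (O c))) (n + 1) t j) := by
  refine KosLine.mem_L (Van q) van_zero (fun _ _ => van_biprod) (n + 1) t j fun _ => ?_
  obtain ⟨e⟩ := nonempty_A_iso hs F c (t + j) _ rfl
  exact H10Coh.Tw.subsingleton_of_iso e.symm h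

/-- `m`-regular implies `m + 1`-regular. -/
theorem reg_succ (hs : Setup O n v) {F : X.Modules} {m : ℤ} (h : Reg O F m) : Reg O F (m + 1) := by
  intro i hi
  let c : ℤ := m - i - n
  obtain ⟨a⟩ := nonempty_A_iso hs F c (n + 1) (m + 1 - i) (by push_cast; omega)
  have hE := KosTwist.exact (G := CohB1.tensorMod F (O c)) (v := v) (hs.fam.inv 1) hs.cover 0
  haveI := KosLine.isIso_top (A := KosTwist.A (O 1) (CohB1.tensorMod F (O c))) (n + 1) 0 (n + 1) (Nat.zero_add _)
  refine H10Coh.Tw.subsingleton_of_iso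
    (asIso (KosLine.top (KosTwist.A (O 1) (CohB1.tensorMod F (O c))) (n + 1) 0 (n + 1) (Nat.zero_add _)) ≪≫ a) ?_
  refine van_top _ hE.2 hE.1 (n + 1) i (KosLine.isZero_L _ _ _ (by omega)) fun j e hje => ?_
  refine van_L hs c 0 j (i + e) ?_
  have := h (i + e) (by omega)
  rwa [show c + ((0 + j : ℕ) : ℤ) = m - ((i + e : ℕ) : ℤ) by push_cast; omega]

theorem reg_add (hs : Setup O n v) {F : X.Modules} {m : ℤ} (h : Reg O F m) : ∀ t : ℕ, Reg O F (m + t)
  | 0 => by simpa using h
  | t + 1 => by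
    rw [Nat.cast_succ, ← add_assoc]
    exact reg_succ hs (reg_add hs h t)

/-- Sections of `F(m+1)` are sums of products with the coordinates. -/
theorem spanned_one (hs : Setup O n v) {F : X.Modules} {m : ℤ} (h : Reg O F m) :
    Spanned (CohB1.tensorMod F (O m)) (O 1) := by
  let c : ℤ := m - n
  obtain ⟨a⟩ := nonempty_A_iso hs F c n m (by omega)
  refine Spanned.of_iso_left (M := KosTwist.A (O 1) (CohB1.tensorMod F (O c)) n) ?_ a
  intro S
  let A := KosTwist.A (O 1) (CohB1.tensorMod F (O c))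
  have hE := KosTwist.exact (G := CohB1.tensorMod F (O c)) (v := v) (hs.fam.inv 1) hs.cover 0
  have hsur := surjective_last _ hE.2 hE.1 n (KosLine.isZero_L _ _ _ (by omega)) fun j e hje => by
    refine van_L hs c 0 j (1 + e) ?_
    have := h (1 + e) (by omega)
    rwa [show c + ((0 + j : ℕ) : ℤ) = m - ((1 + e : ℕ) : ℤ) by push_cast; omega]
  have hlen : 0 + (n + 1) = n + 1 := Nat.zero_add _
  obtain ⟨q, hq⟩ := KosLine.exists_d_top A (KosTwist.mul (O 1) (CohB1.tensorMod F (O c)) v) n 0 n hlen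
  haveI := KosLine.isIso_top (A := A) (n + 1) 0 (n + 1) hlen
  obtain ⟨σ, hσ⟩ := hsur ((inv (KosLine.top A (n + 1) 0 (n + 1) hlen)).app ⊤ S)
  have h1 := congrArg ((KosLine.top A (n + 1) 0 (n + 1) hlen).app ⊤) hσ
  have h2 : (KosLine.top A (n + 1) 0 (n + 1) hlen).app ⊤ ((inv (KosLine.top A (n + 1) 0 (n + 1) hlen)).app ⊤ S) = S :=
    congr($(congrArg (fun k => Scheme.Modules.Hom.app k ⊤) (IsIso.inv_hom_id (KosLine.top A (n + 1) 0 (n + 1) hlen))) S)
  have h3 : (∑ j ∈ Finset.range (n + 1),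
      q j ≫ KosTwist.mul (O 1) (CohB1.tensorMod F (O c)) v j n).app ⊤ σ = S := by
    rw [← hq]; exact h1.trans h2
  rw [← h3]
  clear h1 h2 h3 hσ hq
  induction Finset.range (n + 1) using Finset.induction_on with
  | empty => exact zero_mem _
  | insert j s hj ih =>
    rw [Finset.sum_insert hj]
    refine add_mem (AddSubgroup.subset_closure ?_) ih
    exact ⟨(q j).app ⊤ σ, _, (KosTwist.mul_app _ _ v j n ⊤ _).symm⟩

/-- Multiplication of sections by all positive twists. -/
theorem spanned_nat (hs : Setup O n v) {F : X.Modules} {m : ℤ} (h : Reg O F m) :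
    ∀ e : ℕ, Spanned (CohB1.tensorMod F (O m)) (O e)
  | 0 => by
    obtain ⟨z⟩ := hs.fam.zero
    exact (spanned_structure _).of_iso_right z.symm
  | e + 1 => by
    obtain ⟨p⟩ := hs.fam.add m e
    obtain ⟨q⟩ := hs.fam.add e 1
    have h2 : Spanned (CohB1.tensorMod (CohB1.tensorMod F (O m)) (O e)) (O 1) :=
      (spanned_one hs (reg_add hs h e)).of_iso_left
        ((H10Coh.Tw.assoc F (O m) (O e) ≪≫ PicGrp.tensorModIso (Iso.refl F) p).symm)
    exact ((spanned_nat hs h e).trans h2).of_iso_right (q ≪≫ eqToIso (congrArg O (by push_cast; rfl)))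

/-- A regular module twisted is globally generated. -/
theorem isGloballyGenerated (hs : Setup O n v) (hA : CohB1.IsAmple (O 1)) {F : X.Modules} (hF : Coh.IsCoh F)
    [CompactSpace X] [QuasiSeparatedSpace X] {m : ℤ} (h : Reg O F m) :
    Curv2.IsGloballyGenerated (CohB1.tensorMod F (O m)) := by
  obtain ⟨n₀, hn₀⟩ := eventually_spanning hA (H11Ample.isCoh_tensor hF (hs.fam.inv m))
  obtain ⟨ι, -, g, hg⟩ := hn₀ n₀ le_rfl
  obtain ⟨e⟩ := hs.fam.nonempty_tensorPow n₀
  exact isGloballyGenerated_of_spanned (isInvertible_tensorPow (hs.fam.inv 1) n₀)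
    ((spanned_nat hs h n₀).of_iso_right e.symm) g hg

section proj

variable (k : Type u) [Field k] (n : ℕ)

/-- The coordinates as sections of `O(1)`, extended by zero. -/
def coords (j : ℕ) : Γ(Twist.twistProjSpace n k 1, ⊤) :=
  if h : j < n + 1 then ProjUP.coord n k ⟨j, h⟩ else 0

theorem setup : Setup (fun a => Twist.twistProjSpace n k a) n (coords k n) where
  fam := H10Coh.Stab.isTwistFamily_projSpace n k
  cover z := by
    obtain ⟨i, hi⟩ := exists_mem_basicOpen_X (n := n) (R := k) z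
    refine ⟨i.1, i.2, ?_⟩
    rw [coords, dif_pos i.2]
    exact (gen_coord i).ge hi

theorem van_high {i : ℕ} (hi : n < i) {M : (CohB1.ProjSpace n k).Modules} (hM : Coh.IsQCoh M) : Van i M :=
  @H10Coh.Pn.subsingleton_HnM_proj n k _ M hM _ hi

theorem van_twist {i : ℕ} (hi : 1 ≤ i) {d : ℤ} (hd : -(n : ℤ) ≤ d) : Van i (Twist.twistProjSpace n k d) :=
  van_iff.2 (H10Coh.Pn.subsingleton_HH_Od (R := k) i (by omega) (by omega))

variable {k n}

theorem reg_iff {F : (CohB1.ProjSpace n k).Modules} (hF : Coh.IsCoh F) (m : ℤ) :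
    Reg (fun a => Twist.twistProjSpace n k a) F m ↔ Curv2.IsMRegular k n F m := by
  constructor
  · exact fun h i hi _ => van_iff.1 (h i hi)
  · intro h i hi
    by_cases hn : i ≤ n
    · exact van_iff.2 (h i hi hn)
    · exact van_high k n (by omega) (H11Ample.isCoh_tensor hF ((setup k n).fam.inv _)).1

end proj

end Groth.Agent.H22Alg.CMField
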