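import Mathlib

/-!
Schemes of finite type over a field of dimension zero.
-/

set_option autoImplicit false

universe u

open CategoryTheory AlgebraicGeometry TopologicalSpace

namespace Groth.Agent.H22Alg.DimZero

variable {k : Type u} [Field k] {X : Scheme.{u}} (f : X ⟶ Spec (CommRingCat.of k))

theorem discreteTopology_of_finite [LocallyOfFiniteType f] [Finite X] : DiscreteTopology X := by
  haveI : JacobsonSpace X := LocallyOfFiniteType.jacobsonSpace f
  haveI : T1Space X := ⟨fun z => by
    have h1 : closure (closure ({z} : Set X) ∩ closedPoints X) = closure {z} :=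
      JacobsonSpace.closure_inter_closedPoints isClosed_closure
    have h2 : IsClosed (closure ({z} : Set X) ∩ closedPoints X) := by
      rw [← Set.biUnion_of_singleton (closure ({z} : Set X) ∩ closedPoints X)]
      exact (Set.toFinite _).isClosed_biUnion fun w hw => hw.2
    rw [h2.closure_eq] at h1
    exact (h1.ge (subset_closure rfl)).2⟩
  exact inferInstance

theorem affine_finite [LocallyOfFiniteType f] [QuasiCompact f] [DiscreteTopology X] :
    IsAffine X ∧ IsFinite f := by
  haveI : CompactSpace X := QuasiCompact.compactSpace_of_compactSpace f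
  haveI : Finite X := finite_of_compact_of_discrete
  haveI : IsLocallyNoetherian X := LocallyOfFiniteType.isLocallyNoetherian f
  haveI : IsLocallyArtinian X := IsLocallyArtinian.of_isLocallyNoetherian_of_discreteTopology
  refine ⟨inferInstance, ?_⟩
  haveI : IsArtinianRing Γ(X, ⊤) := inferInstance
  rw [HasAffineProperty.iff_of_isAffine (P := @IsFinite)]
  refine ⟨inferInstance, ?_⟩
  have hft : f.appTop.hom.FiniteType :=
    (HasRingHomProperty.iff_of_isAffine (P := @LocallyOfFiniteType)).mp ‹_›
  algebraize [f.appTop.hom]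
  haveI : IsJacobsonRing Γ(Spec (CommRingCat.of k), ⊤) :=
    (isJacobsonRing_iso (Scheme.ΓSpecIso (CommRingCat.of k)).commRingCatIsoToRingEquiv).mpr inferInstance
  exact RingHom.finite_algebraMap.mpr (Module.finite_of_isArtinianRing _ _)

theorem bijective_germs [Finite X] [DiscreteTopology X] :
    Function.Bijective (fun s : Γ(X, ⊤) => fun x : X => X.presheaf.germ ⊤ x trivial s) := by
  refine ⟨fun s t h => TopCat.Presheaf.section_ext X.sheaf ⊤ s t fun x _ => congrFun h x, fun a => ?_⟩
  let U : X → X.Opens := fun x => ⟨{x}, isOpen_discrete _⟩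
  have hrep : ∀ x, ∃ s : Γ(X, U x), X.presheaf.germ (U x) x rfl s = a x := fun x => by
    obtain ⟨V, hxV, s, hs⟩ := X.presheaf.germ_exist (x := x) (a x)
    have hle : U x ≤ V := fun w hw => (show w = x from hw) ▸ hxV
    exact ⟨X.presheaf.map (homOfLE hle).op s, by rw [TopCat.Presheaf.germ_res_apply, hs]⟩
  choose sf hsf using hrep
  obtain ⟨s, hs, -⟩ := TopCat.Sheaf.existsUnique_gluing' X.sheaf U ⊤ (fun x => homOfLE le_top)
    (fun x _ => Opens.mem_iSup.mpr ⟨x, rfl⟩) sf (fun x y => by
      rcases eq_or_ne x y with rfl | hxy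
      · rfl
      · haveI : Subsingleton (ToType (X.sheaf.obj.obj (Opposite.op (U x ⊓ U y)))) := by
          have hbot : U x ⊓ U y = ⊥ := Opens.ext (Set.eq_empty_iff_forall_notMem.mpr fun z hz =>
            hxy ((show z = x from hz.1).symm.trans (show z = y from hz.2)))
          rw [hbot]
          exact CommRingCat.subsingleton_of_isTerminal X.sheaf.isTerminalOfEmpty
        exact @Subsingleton.elim _ this _ _)
  refine ⟨s, funext fun x => ?_⟩
  rw [← hsf x, ← hs x]
  exact (TopCat.Presheaf.germ_res_apply X.presheaf (homOfLE le_top) x _ s).symm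

end Groth.Agent.H22Alg.DimZero
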