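import Groth.Agent.H22Alg.CMReg
import Groth.Agent.H11Ample.Extend
import Groth.Agent.H11Ample.Counit
import Groth.Agent.H11Ample.RelPullback
import Groth.Agent.H10Coh.FinType

/-! # A regular quasi-coherent module on P^n_T is generated by sections over preimages. -/

set_option autoImplicit false
set_option linter.style.haveILetI false

universe u

open CategoryTheory CategoryTheory.Limits AlgebraicGeometry Opposite TopologicalSpace
open Groth.Agent.H11Tilde Groth.Agent.H11Ample
attribute [local instance] HasDerivedCategory.standard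

noncomputable section

namespace Groth.Agent.H22Alg.CMGen

section Pow

variable {X : Scheme.{u}} (L G : X.Modules)

/-- a ⊗ e^m in the iterated twist. -/
def powA {V : X.Opens} (e : Γ(L, V)) {M : ℕ} (a : Γ(KosTwist.A L G M, V)) :
    ∀ m : ℕ, Γ(KosTwist.A L G (M + m), V)
  | 0 => a
  | m + 1 => tm (powA e a m) e

variable {L G}

theorem powA_res {U V : X.Opens} (h : V ≤ U) (e : Γ(L, U)) {M : ℕ} (a : Γ(KosTwist.A L G M, U)) : ∀ m : ℕ,
    (KosTwist.A L G (M + m)).presheaf.map (homOfLE h).op (powA L G e a m) =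
      powA L G (L.presheaf.map (homOfLE h).op e) ((KosTwist.A L G M).presheaf.map (homOfLE h).op a) m
  | 0 => rfl
  | m + 1 => (tm_res h (powA L G e a m) e).trans (congrArg (tm · _) (powA_res h e a m))

theorem powA_smul {V : X.Opens} (c : Γ(X, V)) (e : Γ(L, V)) {M : ℕ} (a : Γ(KosTwist.A L G M, V)) : ∀ m : ℕ,
    powA L G e (c • a) m = c • powA L G e a m
  | 0 => rfl
  | m + 1 => (congrArg (tm · e) (powA_smul c e a m)).trans (tm_smul_left _ _ _)

theorem powA_add {V : X.Opens} (e : Γ(L, V)) {M : ℕ} (a b : Γ(KosTwist.A L G M, V)) : ∀ m : ℕ,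
    powA L G e (a + b) m = powA L G e a m + powA L G e b m
  | 0 => rfl
  | m + 1 => (congrArg (tm · e) (powA_add e a b m)).trans (tm_add_left _ _ _)

theorem powA_smul_gen {V : X.Opens} (c : Γ(X, V)) (e : Γ(L, V)) {M : ℕ} (a : Γ(KosTwist.A L G M, V)) : ∀ m : ℕ,
    powA L G (c • e) a m = c ^ m • powA L G e a m
  | 0 => by rw [pow_zero]; exact (one_smul Γ(X, V) _).symm
  | m + 1 => by
    show tm (powA L G (c • e) a m) (c • e) = c ^ (m + 1) • tm (powA L G e a m) e
    rw [powA_smul_gen c e a m, tm_smul_left, tm_smul_right, smul_smul, pow_succ]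

theorem powA_inj {V : X.Opens} {e : Γ(L, V)} (he : IsGen L e) {M : ℕ} {a b : Γ(KosTwist.A L G M, V)} :
    ∀ m : ℕ, powA L G e a m = powA L G e b m → a = b
  | 0, h => h
  | m + 1, h => powA_inj he m (H10Coh.Tw.tm_inj he h)

variable {I : Type} [Finite I] (v : I → Γ(L, ⊤))

/-- Extension of a section along multiplication by powers of one of the covering sections. -/
theorem exists_powA_extend (hL : PicF.IsInvertible L) {P : X.Opens} (V : I → X.Opens)
    (hV : ∀ i, IsAffineOpen (V i)) (hVeq : ∀ i, V i = gen L (v i) ⊓ P) (hcov : ∀ z ∈ P, ∃ i, z ∈ V i)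
    {M : ℕ} [hq : (KosTwist.A L G M).IsQuasicoherent] (l : I) (a : Γ(KosTwist.A L G M, V l)) :
    ∃ (m : ℕ) (S : Γ(KosTwist.A L G (M + m), P)),
      (KosTwist.A L G (M + m)).presheaf.map (homOfLE ((hVeq l).le.trans inf_le_right)).op S =
        powA L G (L.presheaf.map (homOfLE (le_top : V l ≤ ⊤)).op (v l)) a m := by
  classical
  haveI := Fintype.ofFinite I
  let e : ∀ i, Γ(L, V i) := fun i => L.presheaf.map (homOfLE (le_top : V i ≤ ⊤)).op (v i)
  have he : ∀ i, IsGen L (e i) := fun i => by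
    have h := (isGen_gen (v i)).res ((hVeq i).le.trans inf_le_left)
    rw [H10Coh.mres_mres] at h
    exact h
  let F := KosTwist.A L G M
  choose c hc using fun i j => exists_coeff (he i) (L.presheaf.map (homOfLE (le_top : V i ≤ ⊤)).op (v j))
  -- on V i ⊓ V j
  have hD : ∀ i j, X.basicOpen (c i j) = V i ⊓ V j := fun i j => by
    rw [← gen_inf_eq_basicOpen (he i) (v j) (c i j) (hc i j), hVeq i, hVeq j]
    simp only [inf_assoc, inf_left_comm, inf_comm, inf_idem]
    exact le_antisymm (by simp [inf_le_left, le_inf_iff, inf_assoc, inf_left_comm, inf_comm])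
      (by simp [inf_le_left, le_inf_iff, inf_assoc, inf_left_comm, inf_comm])
  have hle : ∀ i j, X.basicOpen (c i j) ≤ V j := fun i j => (hD i j).le.trans inf_le_right
  choose p u₀ hu₀ using fun i =>
    H10Coh.exists_pow_smul_eq_res F (hV i) (c i l) (F.presheaf.map (homOfLE (hle i l)).op a)
  let N := Finset.univ.sup p
  obtain ⟨u, hu⟩ : ∃ u : ∀ i, Γ(F, V i), ∀ i, F.presheaf.map (homOfLE (X.basicOpen_le (c i l))).op (u i) =
      X.presheaf.map (homOfLE (X.basicOpen_le (c i l))).op (c i l ^ N) • F.presheaf.map (homOfLE (hle i l)).op a :=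
    ⟨fun i => c i l ^ (N - p i) • u₀ i, fun i => by
      rw [Scheme.Modules.map_smul, hu₀, smul_smul, ← map_mul, ← pow_add,
        Nat.sub_add_cancel (Finset.le_sup (Finset.mem_univ i))]⟩
  -- overlaps
  have key : ∀ q : I × I, ∃ s : ℕ, ∀ d, s ≤ d →
      (KosTwist.A L G (M + (N + d))).presheaf.map (homOfLE (inf_le_left : V q.1 ⊓ V q.2 ≤ V q.1)).op
          (powA L G (e q.1) (c q.1 l ^ d • u q.1) (N + d)) =
        (KosTwist.A L G (M + (N + d))).presheaf.map (homOfLE (inf_le_right : V q.1 ⊓ V q.2 ≤ V q.2)).op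
          (powA L G (e q.2) (c q.2 l ^ d • u q.2) (N + d)) := by
    rintro ⟨i, j⟩
    let B := V i ⊓ V j
    have hBc : IsCompact (B : Set X) := by
      have : IsAffineOpen B := by
        show IsAffineOpen (V i ⊓ V j)
        rw [← hD i j]
        exact (hV i).basicOpen _
      exact this.isCompact
    let rC : ∀ k, (B ≤ V k) → Γ(X, V k) → Γ(X, B) := fun k h => X.presheaf.map (homOfLE h).op
    let α : Γ(X, B) := X.presheaf.map (homOfLE inf_le_right).op (c j i)
    have hei : L.presheaf.map (homOfLE (inf_le_left : B ≤ V i)).op (e i) =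
        α • L.presheaf.map (homOfLE (inf_le_right : B ≤ V j)).op (e j) := by
      have h := congrArg (L.presheaf.map (homOfLE (inf_le_right : B ≤ V j)).op) (hc j i)
      rw [H10Coh.mres_mres, Scheme.Modules.map_smul] at h
      rw [H10Coh.mres_mres]
      exact h
    let ci : Γ(X, B) := X.presheaf.map (homOfLE inf_le_left).op (c i l)
    let cj : Γ(X, B) := X.presheaf.map (homOfLE inf_le_right).op (c j l)
    have hcij : cj = ci * α := by
      refine (((he j).res (inf_le_right : B ≤ V j)).bijective le_rfl).1 ?_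
      beta_reduce
      rw [H10Coh.mres_self]
      have h1 := congrArg (L.presheaf.map (homOfLE (inf_le_left : B ≤ V i)).op) (hc i l)
      have h2 := congrArg (L.presheaf.map (homOfLE (inf_le_right : B ≤ V j)).op) (hc j l)
      rw [H10Coh.mres_mres, Scheme.Modules.map_smul] at h1 h2
      rw [← h2, h1, hei, smul_smul]
    let z : Γ(F, B) := α ^ N • F.presheaf.map (homOfLE inf_le_left).op (u i) -
      F.presheaf.map (homOfLE inf_le_right).op (u j)
    have hz : F.presheaf.map (homOfLE (X.basicOpen_le cj)).op z = 0 := by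
      let E := X.basicOpen cj
      have hEB : E ≤ B := X.basicOpen_le cj
      have hEj : E ≤ X.basicOpen (c j l) := (Scheme.basicOpen_res _ _ _).trans_le inf_le_right
      have hEi : E ≤ X.basicOpen (c i l) :=
        (le_inf (hEB.trans inf_le_left) (hEj.trans (hle j l))).trans (hD i l).ge
      rw [map_sub, sub_eq_zero, Scheme.Modules.map_smul, H10Coh.mres_mres, H10Coh.mres_mres, map_pow]
      have h1 := congrArg (F.presheaf.map (homOfLE hEi).op) (hu i)
      have h2 := congrArg (F.presheaf.map (homOfLE hEj).op) (hu j)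
      rw [Scheme.Modules.map_smul, H10Coh.mres_mres, H10Coh.mres_mres, H10Coh.rres_rres, map_pow] at h1 h2
      have hcE := congrArg (X.presheaf.map (homOfLE hEB).op) hcij
      rw [map_mul, H10Coh.rres_rres, H10Coh.rres_rres] at hcE
      rw [h1, h2, smul_smul, hcE, mul_pow]
      congr 1
      ring
    obtain ⟨s, hs⟩ := H10Coh.exists_pow_smul_eq_zero_of_isCompact F hBc cj z hz
    refine ⟨s, fun d hd => ?_⟩
    have hz' : cj ^ d • z = 0 := by
      rw [← Nat.sub_add_cancel hd, pow_add, mul_smul, hs, smul_zero]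
    rw [smul_sub, sub_eq_zero, smul_smul] at hz'
    rw [powA_res, powA_res, Scheme.Modules.map_smul, Scheme.Modules.map_smul, hei, powA_smul_gen,
      ← powA_smul, smul_smul, map_pow, map_pow]
    refine congrArg (fun w => powA L G _ w (N + d)) ?_
    change (α ^ (N + d) * ci ^ d) • _ = cj ^ d • _
    rw [← hz']
    congr 1
    rw [hcij, mul_pow, pow_add]
    ring
  choose s hs using key
  let d := Finset.univ.sup s
  let sec : ∀ i, Γ(KosTwist.A L G (M + (N + d)), V i) := fun i => powA L G (e i) (c i l ^ d • u i) (N + d)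
  obtain ⟨S, hS, -⟩ := TopCat.Sheaf.existsUnique_gluing'
    ⟨(KosTwist.A L G (M + (N + d))).presheaf, (KosTwist.A L G (M + (N + d))).isSheaf⟩ V P
    (fun i => homOfLE ((hVeq i).le.trans inf_le_right))
    (fun y hy => Opens.mem_iSup.2 (hcov y hy)) sec
    (fun i j => hs (i, j) d (Finset.le_sup (Finset.mem_univ (i, j))))
  refine ⟨N + d, S, (hS l).trans ?_⟩
  have hll : c l l = 1 := by
    refine ((he l).bijective le_rfl).1 ?_
    beta_reduce
    rw [H10Coh.mres_self, one_smul]
    exact (hc l l).symm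
  have hul : u l = a := by
    have h := hu l
    rw [show c l l ^ N = 1 by rw [hll, one_pow], map_one, one_smul] at h
    have htop : V l ≤ X.basicOpen (c l l) := (le_inf le_rfl le_rfl).trans (hD l l).ge
    have h' := congrArg (F.presheaf.map (homOfLE htop).op) h
    rw [H10Coh.mres_mres, H10Coh.mres_mres, H10Coh.mres_self, H10Coh.mres_self] at h'
    exact h'
  show powA L G (e l) (c l l ^ d • u l) (N + d) = _
  rw [hll, one_pow, one_smul, hul]

end Pow

section Span

variable {X Y : Scheme.{u}} (p : X ⟶ Y) (F : X.Modules)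

/-- Sections over `V` spanned by restrictions of sections over the preimage of `W`. -/
def spanned (W : Y.Opens) (V : X.Opens) (h : V ≤ p ⁻¹ᵁ W) : Submodule Γ(X, V) Γ(F, V) :=
  Submodule.span Γ(X, V) (Set.range fun t : Γ(F, p ⁻¹ᵁ W) => F.presheaf.map (homOfLE h).op t)

theorem spanned_res {W W' : Y.Opens} (hW : W' ≤ W) {V V' : X.Opens} (hV : V' ≤ V) (h : V ≤ p ⁻¹ᵁ W)
    (h' : V' ≤ p ⁻¹ᵁ W') {a : Γ(F, V)} (ha : a ∈ spanned p F W V h) :
    F.presheaf.map (homOfLE hV).op a ∈ spanned p F W' V' h' := by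
  induction ha using Submodule.span_induction with
  | mem x hx =>
    obtain ⟨t, rfl⟩ := hx
    refine Submodule.subset_span ⟨F.presheaf.map (homOfLE (p.preimage_mono hW)).op t, ?_⟩
    beta_reduce
    rw [H10Coh.mres_mres, H10Coh.mres_mres]
  | zero => rw [map_zero]; exact Submodule.zero_mem _
  | add x y _ _ hx hy => rw [map_add]; exact Submodule.add_mem _ hx hy
  | smul r x _ hx => rw [Scheme.Modules.map_smul]; exact Submodule.smul_mem _ _ hx

end Span

section Generation

open CMReg

variable {n : ℕ} {T : Scheme.{u}} {F : (KRR.PY n T).Modules}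

local notation "L₁" => Twist.twistOver n T 1
local notation "G₀" => KRR.twF n T (-(n : ℤ)) F

variable (n T) in
/-- The chart of the l-th coordinate over `W`. -/
def chart (l : Fin (n + 1)) (W : T.Opens) : (KRR.PY n T).Opens :=
  gen (Twist.twistOver n T 1) (coords n T l.1) ⊓ KRR.pr n T ⁻¹ᵁ W

variable (n T) in
/-- The generator of O(1) on a chart. -/
def chartGen (l : Fin (n + 1)) (W : T.Opens) : Γ(Twist.twistOver n T 1, chart n T l W) :=
  (Twist.twistOver n T 1).presheaf.map (homOfLE (le_top : chart n T l W ≤ ⊤)).op (coords n T l.1)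

theorem isGen_chartGen (l : Fin (n + 1)) (W : T.Opens) :
    IsGen (Twist.twistOver n T 1) (chartGen n T l W) := by
  have h := (isGen_gen (L := Twist.twistOver n T 1) (coords n T l.1)).res
    (inf_le_left : chart n T l W ≤ gen (Twist.twistOver n T 1) (coords n T l.1))
  rw [H10Coh.mres_mres] at h
  exact h

theorem isAffineOpen_chart (l : Fin (n + 1)) {W : T.Opens} (hW : IsAffineOpen W) :
    IsAffineOpen (chart n T l W) := by
  rw [chart, gen_coords l.2]
  exact isAffineOpen_fst_inf_snd (V := ⊤) _ _ (isAffineOpen_top _)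
    (Proj.isAffineOpen_basicOpen (CohB1.polyGrading n (ULift.{u} ℤ)) _ (X_mem _) one_pos) le_top hW le_top

theorem chart_mono (l : Fin (n + 1)) {W W' : T.Opens} (h : W' ≤ W) : chart n T l W' ≤ chart n T l W :=
  inf_le_inf_left _ ((KRR.pr n T).preimage_mono h)

theorem chartGen_res (l : Fin (n + 1)) {W W' : T.Opens} (h : W' ≤ W) :
    (L₁).presheaf.map (homOfLE (chart_mono (n := n) l h)).op (chartGen n T l W) = chartGen n T l W' :=
  H10Coh.mres_mres _ _ _ _

theorem chart_le (l : Fin (n + 1)) (W : T.Opens) : chart n T l W ≤ KRR.pr n T ⁻¹ᵁ W := inf_le_right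

/-- On a chart, a section is a combination of sections over a preimage times a power of the coordinate. -/
def Good (l : Fin (n + 1)) (m : ℕ) (W : T.Opens) (S : Γ(B n T G₀ (n + m), KRR.pr n T ⁻¹ᵁ W)) : Prop :=
  ∃ b ∈ spanned (KRR.pr n T) (B n T G₀ n) W (chart n T l W) (chart_le l W),
    (B n T G₀ (n + m)).presheaf.map (homOfLE (chart_le l W)).op S = powA L₁ G₀ (chartGen n T l W) b m

theorem good_res {l : Fin (n + 1)} {m : ℕ} {W W' : T.Opens} (h : W' ≤ W)
    {S : Γ(B n T G₀ (n + m), KRR.pr n T ⁻¹ᵁ W)} (hS : Good l m W S) :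
    Good (F := F) l m W' ((B n T G₀ (n + m)).presheaf.map (homOfLE ((KRR.pr n T).preimage_mono h)).op S) := by
  obtain ⟨b, hb, hSb⟩ := hS
  refine ⟨(B n T G₀ n).presheaf.map (homOfLE (chart_mono (n := n) l h)).op b,
    spanned_res _ _ h _ _ _ hb, ?_⟩
  rw [← chartGen_res l h, ← powA_res, ← hSb, H10Coh.mres_mres, H10Coh.mres_mres]

theorem exists_good (hreg : KRR.IsRegSheaf n T F) (l : Fin (n + 1)) : ∀ (m : ℕ) (W : T.Opens)
    (S : Γ(B n T G₀ (n + m), KRR.pr n T ⁻¹ᵁ W)) (y : T), y ∈ W →
    ∃ (W' : T.Opens) (hW' : W' ≤ W), y ∈ W' ∧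
      Good (F := F) l m W' ((B n T G₀ (n + m)).presheaf.map (homOfLE ((KRR.pr n T).preimage_mono hW')).op S)
  | 0, W, S, y, hy => ⟨W, le_rfl, hy, _, Submodule.subset_span ⟨S, rfl⟩, by
      rw [H10Coh.mres_mres]; rfl⟩
  | m + 1, W, S, y, hy => by
    obtain ⟨W₁, hW₁, s, hy₁, hs⟩ := exists_lift hreg m W S y hy
    choose W₂ hW₂ hy₂ hg₂ using fun k : Fin (n + 1) => exists_good hreg l m W₁ (s k.1) y hy₁
    let W' : T.Opens := W₁ ⊓ ⟨⋂ k, (W₂ k : Set T), isOpen_iInter_of_finite fun k => (W₂ k).isOpen⟩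
    have hW'₂ : ∀ k, W' ≤ W₂ k := fun k x hx => Set.mem_iInter.1 hx.2 k
    have hgood : ∀ k : Fin (n + 1), Good (F := F) l m W'
        ((B n T G₀ (n + m)).presheaf.map (homOfLE ((KRR.pr n T).preimage_mono (inf_le_left : W' ≤ W₁))).op (s k.1)) := fun k => by
      have h := good_res (hW'₂ k) (hg₂ k)
      rw [H10Coh.mres_mres] at h
      exact h
    choose b hb hsb using hgood
    choose c hc using fun k : Fin (n + 1) => exists_coeff (isGen_chartGen (n := n) (T := T) l W')
      ((L₁).presheaf.map (homOfLE (le_top : chart n T l W' ≤ ⊤)).op (coords n T k.1))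
    refine ⟨W', inf_le_left.trans hW₁, ⟨hy₁, Set.mem_iInter.2 hy₂⟩, ∑ k, c k • b k,
      Submodule.sum_mem _ fun k _ => Submodule.smul_mem _ _ (hb k), ?_⟩
    have h1 := congrArg ((B n T G₀ (n + m + 1)).presheaf.map
      (homOfLE ((chart_le (n := n) (T := T) l W').trans ((KRR.pr n T).preimage_mono (inf_le_left : W' ≤ W₁)))).op) hs
    rw [map_sum, H10Coh.mres_mres, Finset.sum_range] at h1
    rw [H10Coh.mres_mres]
    refine h1.trans ?_
    have hsum : powA L₁ G₀ (chartGen n T l W') (∑ k, c k • b k) (m + 1) =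
        ∑ k, c k • tm (powA L₁ G₀ (chartGen n T l W') (b k) m) (chartGen n T l W') := by
      induction (Finset.univ : Finset (Fin (n + 1))) using Finset.induction_on with
      | empty =>
        rw [Finset.sum_empty, Finset.sum_empty, ← zero_smul Γ(KRR.PY n T, chart n T l W')
          (0 : Γ(B n T G₀ n, chart n T l W')), powA_smul]
        exact zero_smul _ _
      | insert k t hk ih =>
        rw [Finset.sum_insert hk, Finset.sum_insert hk]
        refine (powA_add _ _ _ _).trans (congrArg₂ (· + ·) ?_ ih)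
        exact powA_smul _ _ _ _
    rw [hsum]
    refine Finset.sum_congr rfl fun k _ => ?_
    rw [← app_map_apply, KosTwist.mul_app, hc k, tm_smul_right]
    congr 2
    rw [← hsb k, H10Coh.mres_mres]

/-- Sections of a regular quasi-coherent module near a point are spanned by sections over preimages. -/
theorem exists_spanned (hreg : KRR.IsRegSheaf n T F) [hq : (B n T G₀ n).IsQuasicoherent]
    (U : (KRR.PY n T).Opens) (t : Γ(B n T G₀ n, U)) (z : ↥(KRR.PY n T)) (hz : z ∈ U) :
    ∃ (D : (KRR.PY n T).Opens) (hD : D ≤ U) (W : T.Opens) (hDW : D ≤ KRR.pr n T ⁻¹ᵁ W),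
      z ∈ D ∧ (B n T G₀ n).presheaf.map (homOfLE hD).op t ∈ spanned (KRR.pr n T) (B n T G₀ n) W D hDW := by
  obtain ⟨W, hW, hzW, -⟩ := exists_isAffineOpen_mem_and_subset (U := ⊤) (x := (KRR.pr n T) z) trivial
  obtain ⟨k, hk, hzk⟩ := coords_cover z
  let l : Fin (n + 1) := ⟨k, hk⟩
  have hzV : z ∈ chart n T l W := ⟨hzk, hzW⟩
  obtain ⟨f, hfU, hzf⟩ := (isAffineOpen_chart l hW).exists_basicOpen_le (V := U) ⟨z, hz⟩ hzV
  obtain ⟨p, a, ha⟩ := H10Coh.exists_pow_smul_eq_res (B n T G₀ n) (isAffineOpen_chart l hW) f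
    ((B n T G₀ n).presheaf.map (homOfLE hfU).op t)
  obtain ⟨m, S, hS⟩ := exists_powA_extend (L := L₁) (G := G₀) (fun i : Fin (n + 1) => coords n T i.1)
    (RegSheaf.isInvertible_twistOver 1) (P := KRR.pr n T ⁻¹ᵁ W) (fun i => chart n T i W)
    (fun i => isAffineOpen_chart i hW) (fun i => rfl) (fun x hx => by
      obtain ⟨j, hj, hxj⟩ := coords_cover x
      exact ⟨⟨j, hj⟩, hxj, hx⟩) l a
  obtain ⟨W', hW', hzW', b, hb, hSb⟩ := exists_good hreg l m W S _ hzW
  have hab : (B n T G₀ n).presheaf.map (homOfLE (chart_mono (n := n) l hW')).op a = b := by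
    refine powA_inj (isGen_chartGen l W') m ?_
    rw [← hSb, ← chartGen_res l hW', ← powA_res, H10Coh.mres_mres]
    refine (congrArg _ hS.symm).trans ?_
    rw [H10Coh.mres_mres]
  let D := (KRR.PY n T).basicOpen f ⊓ chart n T l W'
  refine ⟨D, inf_le_left.trans hfU, W', inf_le_right.trans (chart_le l W'), ⟨hzf, hzk, hzW'⟩, ?_⟩
  have h2 := congrArg ((B n T G₀ n).presheaf.map (homOfLE (inf_le_left : D ≤ _)).op) ha
  rw [Scheme.Modules.map_smul, H10Coh.mres_mres, H10Coh.mres_mres, H10Coh.rres_rres, map_pow] at h2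
  have hu : IsUnit ((KRR.PY n T).presheaf.map (homOfLE
      ((inf_le_left : D ≤ _).trans ((KRR.PY n T).basicOpen_le f))).op f) := by
    have h : IsUnit ((KRR.PY n T).presheaf.map (homOfLE (inf_le_left : D ≤ (KRR.PY n T).basicOpen f)).op
        ((KRR.PY n T).presheaf.map (homOfLE ((KRR.PY n T).basicOpen_le f)).op f)) :=
      ((KRR.PY n T).toRingedSpace.isUnit_res_basicOpen f).map
        ((KRR.PY n T).presheaf.map (homOfLE (inf_le_left : D ≤ (KRR.PY n T).basicOpen f)).op).hom
    rwa [H10Coh.rres_rres] at h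
  obtain ⟨w, hw⟩ := (hu.pow p).exists_left_inv
  have hmem : (B n T G₀ n).presheaf.map
      (homOfLE ((inf_le_left : D ≤ _).trans ((KRR.PY n T).basicOpen_le f))).op a ∈
      spanned (KRR.pr n T) (B n T G₀ n) W' D (inf_le_right.trans (chart_le l W')) := by
    have h := spanned_res (KRR.pr n T) (B n T G₀ n) le_rfl (inf_le_right : D ≤ chart n T l W')
      (chart_le l W') (inf_le_right.trans (chart_le l W')) hb
    rw [← hab, H10Coh.mres_mres] at h
    exact h
  have h3 : (B n T G₀ n).presheaf.map (homOfLE ((inf_le_left : D ≤ _).trans hfU)).op t =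
      w • (B n T G₀ n).presheaf.map
        (homOfLE ((inf_le_left : D ≤ _).trans ((KRR.PY n T).basicOpen_le f))).op a := by
    rw [h2, smul_smul, hw]
    exact (one_smul _ _).symm
  rw [h3]
  exact Submodule.smul_mem _ _ hmem

/-- The counit `p^* p_* F ⟶ F` is an epimorphism for regular quasi-coherent `F`. -/
theorem epi_counit (hF : Coh.IsQCoh F) (hreg : KRR.IsRegSheaf n T F) :
    Epi ((Scheme.Modules.pullbackPushforwardAdjunction (KRR.pr n T)).counit.app F) := by
  obtain ⟨e⟩ := nonempty_B_iso F (-(n : ℤ)) n 0 (by ring)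
  obtain ⟨z₀⟩ := RegSheaf.nonempty_twF_zero (n := n) (T := T) F
  let ε := e ≪≫ z₀
  haveI : F.IsQuasicoherent := hF
  haveI : (B n T G₀ n).IsQuasicoherent := H10Coh.isQuasicoherent_of_iso ε.symm
  haveI hB : Epi ((Scheme.Modules.pullbackPushforwardAdjunction (KRR.pr n T)).counit.app (B n T G₀ n)) :=
    epi_counit_of_span _ _ fun U t z hz => by
      obtain ⟨D, hD, W, hDW, hzD, h⟩ := exists_spanned hreg U t z hz
      exact ⟨D, hD, W, hDW, hzD, h⟩
  have hnat := (Scheme.Modules.pullbackPushforwardAdjunction (KRR.pr n T)).counit.naturality ε.hom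
  have heq : (Scheme.Modules.pullbackPushforwardAdjunction (KRR.pr n T)).counit.app F =
      inv ((Scheme.Modules.pushforward (KRR.pr n T) ⋙ Scheme.Modules.pullback (KRR.pr n T)).map ε.hom) ≫
        (Scheme.Modules.pullbackPushforwardAdjunction (KRR.pr n T)).counit.app (B n T G₀ n) ≫ ε.hom :=
    (IsIso.eq_inv_comp _).2 hnat
  rw [heq]
  infer_instance

end Generation

end Groth.Agent.H22Alg.CMGen
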