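import Groth.Agent.H22Alg.PnVan
import Groth.Agent.H22Alg.CMGen
import Groth.Agent.H10Coh.QcqsPush

/-! # The kernel of `p^* p_* F ⟶ F` for regular `F`. -/

set_option autoImplicit false
set_option linter.style.haveILetI false

universe u

open CategoryTheory CategoryTheory.Limits AlgebraicGeometry TopologicalSpace Opposite
open Groth.Agent.H11Tilde Groth.Agent.H11Ample
attribute [local instance] HasDerivedCategory.standard
attribute [local instance 10000] Groth.Agent.H10Coh.hasSheafifyAb Groth.Agent.H10Coh.hasWeakSheafifyAb Groth.Agent.H10Coh.hasExtAb Groth.Agent.H10Coh.enoughInjAb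

noncomputable section

namespace Groth.Agent.H22Alg.CMKer

variable {n : ℕ} {T : Scheme.{u}}

variable (n T) in
theorem isProper_pr : IsProper (KRR.pr n T) := H27Weil.isProper_toBase n T

theorem isQCoh_twF (d : ℤ) {G : (KRR.PY n T).Modules} (hG : Coh.IsQCoh G) : (KRR.twF n T d G).IsQuasicoherent := by
  haveI : G.IsQuasicoherent := hG
  haveI := H8Props.FinLocFree.isQCoh_of_isFinLocFree _ (PnVan.finLocFree_of_inv (RegSheaf.isInvertible_twistOver (n := n) (T := T) d))
  exact H10Coh.TT.isQCoh_tensorMod (Twist.twistOver n T d) G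

theorem isQCoh_pushforward_pr {G : (KRR.PY n T).Modules} (hG : Coh.IsQCoh G) :
    Coh.IsQCoh ((Scheme.Modules.pushforward (KRR.pr n T)).obj G) := by
  haveI := isProper_pr n T
  haveI : G.IsQuasicoherent := hG
  exact H10Coh.isQuasicoherent_pushforward (KRR.pr n T) G

/-- Quasi-coherent modules have no higher direct images above the relative dimension. -/
theorem van_high {i : ℕ} (hi : n < i) {G : (KRR.PY n T).Modules} (hG : Coh.IsQCoh G) : CMReg.Van i G := by
  obtain ⟨m, rfl⟩ : ∃ m, i = m + 1 := ⟨i - 1, by omega⟩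
  refine H10Coh.isZero_rpush_of_vanishing (KRR.pr n T).base _ m (H10Coh.affB T) (H10Coh.isBasis_affB T)
    fun V hV => ?_
  let U := KRR.pr n T ⁻¹ᵁ V
  refine H10Coh.subsingleton_HnM_image U.ι G (m + 1) ⊤ _ (Scheme.Opens.ι_image_top _) ?_
  haveI : ((Scheme.Modules.pullback U.ι).obj G).IsQuasicoherent := H29Fitt.isQCoh_pullback U.ι G hG
  haveI : (G.restrict U.ι).IsQuasicoherent := H10Coh.isQuasicoherent_of_iso
    (M := (Scheme.Modules.pullback U.ι).obj G) ((Scheme.Modules.restrictFunctorIsoPullback U.ι).app G).symm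
  letI := PnVan.algZ Γ(T, V)
  letI := PnVan.overW (n := n) hV
  haveI : IsAffineHom (PnVan.qW n T V) :=
    MorphismProperty.of_isPullback (P := @IsAffineHom) (PnVan.isPullback_W hV).flip inferInstance
  have hq : ((Coh.push (PnVan.qW n T V)).obj (G.restrict U.ι)).IsQuasicoherent :=
    H10Coh.isQuasicoherent_pushforward_of_isAffineHom (PnVan.qW n T V) (G.restrict U.ι)
  exact (H10Coh.affineLerayEquiv (PnVan.qW n T V) (G.restrict U.ι) (m + 1) ⊤).symm.toEquiv.subsingleton_congr.2
    (@H10Coh.Pn.subsingleton_HnM_proj n PnVan.Zu.{u} _ ((Coh.push (PnVan.qW n T V)).obj (G.restrict U.ι)) hq _ hi)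

theorem isRegSheaf_pullback_one {M : T.Modules} (hM : Coh.IsQCoh M) :
    KRR.IsRegSheaf n T (KRR.twF n T 1 ((Scheme.Modules.pullback (KRR.pr n T)).obj M)) := fun i hi => by
  obtain ⟨e⟩ := RegSheaf.nonempty_twF_twF (n := n) (T := T) (-(i : ℤ)) 1 (1 - i) (by ring)
    ((Scheme.Modules.pullback (KRR.pr n T)).obj M)
  refine CMReg.van_iso e.symm ?_
  by_cases h : i ≤ n + 1
  · exact PnVan.van_pullback hi (by omega) M hM
  · exact van_high (by omega) (isQCoh_twF _ (H29Fitt.isQCoh_pullback (KRR.pr n T) M hM))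

theorem reg_kernel_aux (A F : (KRR.PY n T).Modules) (f : A ⟶ F) [Epi f]
    (h₂ : KRR.IsRegSheaf n T (KRR.twF n T 1 A)) (h₃ : KRR.IsRegSheaf n T F)
    (hsplit : IsSplitEpi ((Scheme.Modules.pushforward (KRR.pr n T)).map f)) :
    KRR.IsRegSheaf n T (KRR.twF n T 1 (kernel f)) :=
  RegSheaf.reg_left (S := ShortComplex.mk (kernel.ι f) f (kernel.condition f))
    { exact := ShortComplex.exact_kernel f } h₂ h₃ (haveI := hsplit; inferInstance)

/-- The kernel of the counit, twisted by one, is regular. -/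
theorem isRegSheaf_kernel {F : (KRR.PY n T).Modules} (hF : Coh.IsQCoh F) (hreg : KRR.IsRegSheaf n T F) :
    KRR.IsRegSheaf n T (KRR.twF n T 1
      (kernel ((Scheme.Modules.pullbackPushforwardAdjunction (KRR.pr n T)).counit.app F))) := by
  haveI := CMGen.epi_counit hF hreg
  have hh : KRR.IsRegSheaf n T (KRR.twF n T 1
      ((Scheme.Modules.pullback (KRR.pr n T)).obj ((Scheme.Modules.pushforward (KRR.pr n T)).obj F))) :=
    isRegSheaf_pullback_one (isQCoh_pushforward_pr hF)
  exact reg_kernel_aux _ _ ((Scheme.Modules.pullbackPushforwardAdjunction (KRR.pr n T)).counit.app F) hh hreg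
    ⟨⟨{ section_ := (Scheme.Modules.pullbackPushforwardAdjunction (KRR.pr n T)).unit.app
          ((Scheme.Modules.pushforward (KRR.pr n T)).obj F)
        id := (Scheme.Modules.pullbackPushforwardAdjunction (KRR.pr n T)).right_triangle_components F }⟩⟩

end Groth.Agent.H22Alg.CMKer
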