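import Mathlib
import Groth.Prelude.Def_Cyc
import Groth.Agent.H8Props.FieldDimFormula
import Groth.Agent.H8Props.FieldDimFibre
import Groth.Agent.H17.Fibre

/-!
Basic facts on dimension functions, flat pullback and proper pushforward of cycles.
-/

universe u

open AlgebraicGeometry CategoryTheory IsLocalRing
open Groth.Agent.H8Props.FieldDim

namespace Groth.Agent.H22Alg.CycBasic

variable {X Y Z : Scheme.{u}}

theorem exists_cdim (f : X ⟶ Y) [LocallyOfFiniteType f] {δX : X → ℤ} {δY : Y → ℤ}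
    (hδ : Cyc.DeltaCompat f δX δY) (x : X) :
    ∃ n : ℕ, cdim (f.asFiber x) = n ∧ δX x = δY (f x) + n := by
  obtain ⟨n, hn, hx⟩ := hδ x
  have key : ∀ u : f.fiber (f x), f.fiberι (f x) u = x →
      ∃ s : ℕ, cdim u = s ∧ (letI := (f.residueFieldMap x).hom.toAlgebra
        Algebra.trdeg (Y.residueField (f x)) (X.residueField x)) = s := by
    intro u hu
    obtain ⟨s, h1, h2⟩ := exists_trdeg_fiber f u
    refine ⟨s, h1, ?_⟩
    convert! h2 using 3 <;> rw [hu]
  obtain ⟨s, h1, h2⟩ := key _ (f.fiberι_asFiber x)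
  exact ⟨n, by rw [h1, show s = n from Nat.cast_inj.mp (h2.symm.trans hn)], hx⟩

theorem delta_le (f : X ⟶ Y) {δX : X → ℤ} {δY : Y → ℤ} (hδ : Cyc.DeltaCompat f δX δY) (x : X) :
    δY (f x) ≤ δX x := by
  obtain ⟨n, -, hx⟩ := hδ x
  omega

theorem fibreDimAt_of_hasRelDim (f : X ⟶ Y) [LocallyOfFiniteType f] {r : ℕ} (hr : Cyc.HasRelDim f r) (x : X) :
    FlatMor.fibreDimAt f x = r := by
  haveI := locallyOfFiniteType_fiberToSpec f (f x)
  exact localDim_eq_of_pure (k := Y.residueField (f x)) (f.fiberToSpecResidueField (f x)) _ _ (hr (f x))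

theorem delta_le_of_hasRelDim (f : X ⟶ Y) [LocallyOfFiniteType f] {r : ℕ} (hr : Cyc.HasRelDim f r)
    {δX : X → ℤ} {δY : Y → ℤ} (hδ : Cyc.DeltaCompat f δX δY) (x : X) : δX x ≤ δY (f x) + r := by
  obtain ⟨n, hn, hx⟩ := exists_cdim f hδ x
  haveI := locallyOfFiniteType_fiberToSpec f (f x)
  have h : cdim (f.asFiber x) ≤ FlatMor.localDim (f.fiber (f x)) (f.asFiber x) := by
    rw [localDim_eq (k := Y.residueField (f x)) (f.fiberToSpecResidueField (f x))]
    exact le_iSup_of_le ⟨_, specializes_rfl⟩ le_rfl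
  rw [hn, show FlatMor.localDim (f.fiber (f x)) (f.asFiber x) = r from fibreDimAt_of_hasRelDim f hr x] at h
  have : n ≤ r := by exact_mod_cast h
  omega

theorem delta_eq_of_maximal (f : X ⟶ Y) [LocallyOfFiniteType f] {r : ℕ} (hr : Cyc.HasRelDim f r)
    {δX : X → ℤ} {δY : Y → ℤ} (hδ : Cyc.DeltaCompat f δX δY) (x : X)
    (hx : ∀ x', f x' = f x → x' ⤳ x → x' = x) : δX x = δY (f x) + r := by
  obtain ⟨n, hn, hd⟩ := exists_cdim f hδ x
  haveI := locallyOfFiniteType_fiberToSpec f (f x)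
  have hmax : ∀ ζ, ζ ⤳ f.asFiber x → ζ = f.asFiber x := fun ζ hζ => by
    refine (f.fiberι (f x)).isEmbedding.injective ?_
    rw [f.fiberι_asFiber]
    refine hx _ ((f.range_fiberι (f x)).subset (Set.mem_range_self ζ)) ?_
    simpa [f.fiberι_asFiber] using hζ.map (f.fiberι (f x)).continuous
  have h := localDim_of_maximal (k := Y.residueField (f x)) (f.fiberToSpecResidueField (f x)) _ hmax
  rw [hn, show FlatMor.localDim (f.fiber (f x)) (f.asFiber x) = r from fibreDimAt_of_hasRelDim f hr x] at h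
  have : r = n := by exact_mod_cast h
  omega

theorem hasRelDim_comp (f : X ⟶ Y) (g : Y ⟶ Z) [Flat f] [LocallyOfFiniteType f] [LocallyOfFiniteType g]
    {r s : ℕ} (hr : Cyc.HasRelDim f r) (hs : Cyc.HasRelDim g s) : Cyc.HasRelDim (f ≫ g) (r + s) := by
  intro z T hT
  obtain ⟨η, rfl, hη⟩ := mem_irreducibleComponents_iff hT
  haveI := locallyOfFiniteType_fiberToSpec (f ≫ g) z
  show cdim η = _
  rw [← localDim_of_maximal (k := Z.residueField z) ((f ≫ g).fiberToSpecResidueField z) η hη, ← fibreDimAt_eq_localDim,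
    (fibreDimAt_comp_le f g _).2 (Flat.stalkMap f _), fibreDimAt_of_hasRelDim f hr, fibreDimAt_of_hasRelDim g hs]
  push_cast
  rfl

theorem length_quot_map {A B : Type u} [CommRing A] [CommRing B] [IsLocalRing A] [IsLocalRing B]
    (φ : A →+* B) [IsLocalHom φ] (hφ : φ.Flat) (I : Ideal A) :
    Module.length B (B ⧸ I.map φ) =
      Module.length A (A ⧸ I) * Module.length B (B ⧸ (maximalIdeal A).map φ) := by
  letI := φ.toAlgebra
  haveI : Module.Flat A B := hφ
  haveI : IsLocalHom (algebraMap A B) := ‹IsLocalHom φ›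
  have h := IsLocalRing.length_baseChange A B (A ⧸ I)
  rwa [← (Algebra.TensorProduct.quotIdealMapEquivTensorQuot B I).toLinearEquiv.length_eq] at h

theorem pullFun_comp (f : X ⟶ Y) (g : Y ⟶ Z) [Flat f] [LocallyOfFiniteType f] [LocallyOfFiniteType g]
    {r s : ℕ} (hr : Cyc.HasRelDim f r) (hs : Cyc.HasRelDim g s) {δX : X → ℤ} {δY : Y → ℤ} {δZ : Z → ℤ}
    (hf : Cyc.DeltaCompat f δX δY) (hg : Cyc.DeltaCompat g δY δZ) (α : Z → ℤ) :
    Cyc.pullFun f δX δY r (Cyc.pullFun g δY δZ s α) = Cyc.pullFun (f ≫ g) δX δZ ((r : ℤ) + s) α := by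
  funext x
  have h1 := delta_le_of_hasRelDim f hr hf x
  have h2 := delta_le_of_hasRelDim g hs hg (f x)
  simp only [Cyc.pullFun, Scheme.Hom.comp_apply]
  by_cases h : δX x = δY (f x) + r ∧ δY (f x) = δZ (g (f x)) + s
  · rw [if_pos h.1, if_pos h.2, if_pos (by omega)]
    have key : Module.length (X.presheaf.stalk x)
        (X.presheaf.stalk x ⧸ (maximalIdeal (Z.presheaf.stalk ((f ≫ g) x))).map ((f ≫ g).stalkMap x).hom) =
      Module.length (Y.presheaf.stalk (f x))
        (Y.presheaf.stalk (f x) ⧸ (maximalIdeal (Z.presheaf.stalk (g (f x)))).map (g.stalkMap (f x)).hom) *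
      Module.length (X.presheaf.stalk x)
        (X.presheaf.stalk x ⧸ (maximalIdeal (Y.presheaf.stalk (f x))).map (f.stalkMap x).hom) := by
      rw [← length_quot_map (f.stalkMap x).hom (Flat.stalkMap f x), Ideal.map_map, Scheme.Hom.stalkMap_comp]
      rfl
    erw [key]
    push_cast [ENat.toNat_mul]
    ring
  · by_cases h' : δX x = δY (f x) + r
    · rw [if_pos h', if_neg (fun hc => h ⟨h', hc⟩), if_neg (by omega), zero_mul]
    · rw [if_neg h', if_neg (by omega)]

theorem eq_and_delta_eq (f : X ⟶ Y) [Flat f] [LocallyOfFiniteType f] {r : ℕ} (hr : Cyc.HasRelDim f r)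
    {δX : X → ℤ} {δY : Y → ℤ} (hδ : Cyc.DeltaCompat f δX δY) (y : Y) (x : X)
    (hx : f x ∈ closure ({y} : Set Y))
    (hmax : ∀ x' : X, f x' ∈ closure ({y} : Set Y) → x' ⤳ x → x' = x) : f x = y ∧ δX x = δY y + r := by
  obtain ⟨x', h1, h2⟩ := Flat.generalizingMap f (specializes_iff_mem_closure.mpr hx)
  obtain rfl := hmax x' (by rw [h2]; exact subset_closure rfl) h1
  subst h2
  exact ⟨rfl, delta_eq_of_maximal f hr hδ _ fun x' he hsp => hmax x' (he ▸ hx) hsp⟩

theorem finite_residueFieldMap_of_delta_eq (f : X ⟶ Y) [LocallyOfFiniteType f] {δX : X → ℤ} {δY : Y → ℤ}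
    (hδ : Cyc.DeltaCompat f δX δY) (x : X) (h : δX x = δY (f x)) : (f.residueFieldMap x).hom.Finite := by
  obtain ⟨n, hn, hx⟩ := exists_cdim f hδ x
  haveI := locallyOfFiniteType_fiberToSpec f (f x)
  refine Groth.Agent.H17.finite_residueFieldMap f x ?_
  rw [← closure_subset_iff_isClosed]
  intro v hv
  by_contra hne
  obtain ⟨m, hm⟩ := exists_nat_cdim (k := Y.residueField (f x)) (f.fiberToSpecResidueField (f x)) v
  have hlt := cdim_lt (k := Y.residueField (f x)) (f.fiberToSpecResidueField (f x)) (specializes_iff_mem_closure.mpr hv) (Ne.symm hne)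
  rw [hn, hm, show n = 0 by omega] at hlt
  exact Nat.not_lt_zero m (by exact_mod_cast hlt)

theorem eq_genericPoint_of_denseRange [IrreducibleSpace X] [IrreducibleSpace Y] (f : X ⟶ Y)
    (h : Dense (Set.range f)) : f (genericPoint X) = genericPoint Y := by
  refine ((genericPoint_spec Y).eq ?_).symm
  refine Set.univ_subset_iff.mp (h.closure_eq.symm.subset.trans (closure_minimal ?_ isClosed_closure))
  rintro _ ⟨x, rfl⟩
  exact specializes_iff_mem_closure.mp ((genericPoint_specializes x).map f.continuous)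

theorem residueDegree_comp (f : X ⟶ Y) (g : Y ⟶ Z) (x : X) :
    (f ≫ g).residueDegree x = g.residueDegree (f x) * f.residueDegree x := by
  simp only [Scheme.Hom.residueDegree]
  letI a1 := (g.residueFieldMap (f x)).hom.toAlgebra
  letI a2 := (f.residueFieldMap x).hom.toAlgebra
  letI a3 : Algebra (Z.residueField (g (f x))) (X.residueField x) := ((f ≫ g).residueFieldMap x).hom.toAlgebra
  haveI : IsScalarTower (Z.residueField (g (f x))) (Y.residueField (f x)) (X.residueField x) :=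
    IsScalarTower.of_algebraMap_eq' (by
      show ((f ≫ g).residueFieldMap x).hom = _
      rw [Scheme.residueFieldMap_comp]; rfl)
  exact (Module.finrank_mul_finrank (Z.residueField (g (f x))) (Y.residueField (f x)) (X.residueField x)).symm

theorem map_map (f : X ⟶ Y) (g : Y ⟶ Z) [QuasiCompact f] [QuasiCompact g] {δX : X → ℤ} {δY : Y → ℤ} {δZ : Z → ℤ}
    (hf : Cyc.DeltaCompat f δX δY) (hg : Cyc.DeltaCompat g δY δZ) (α : AlgebraicCycle X ℤ) :
    AlgebraicCycle.map g δY δZ (AlgebraicCycle.map f δX δY α) = AlgebraicCycle.map (f ≫ g) δX δZ α := by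
  classical
  ext z
  simp only [AlgebraicCycle.map, Function.locallyFinsupp.map_apply]
  obtain ⟨W, hW, hzW⟩ : ∃ W : Z.Opens, IsCompact (W : Set Z) ∧ z ∈ W := by
    obtain ⟨W, hW, hzW, -⟩ := exists_isAffineOpen_mem_and_subset (show z ∈ (⊤ : Z.Opens) from trivial)
    exact ⟨W, hW.isCompact, hzW⟩
  have hfin : ((f ≫ g) ⁻¹' {z} ∩ Function.support α).Finite :=
    (α.locallyFiniteSupport.finite_inter_support_of_isCompact
      ((f ≫ g).isSpectralMap.2 W.isOpen hW)).subset
      (Set.inter_subset_inter_left _ fun x (hx : (f ≫ g) x = z) => show (f ≫ g) x ∈ W by rwa [hx])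
  set S := hfin.toFinset with hSdef
  have hS : ∀ x, x ∈ S ↔ g (f x) = z ∧ α x ≠ 0 := fun x => by simp [hSdef]
  let w₁ : X → ℤ := fun x => (AlgebraicCycle.mapCoeff f δX δY x : ℤ)
  let w₂ : Y → ℤ := fun y => (AlgebraicCycle.mapCoeff g δY δZ y : ℤ)
  have hinner : ∀ y, g y = z → ∑ᶠ x ∈ f ⁻¹' {y}, α x * w₁ x = ∑ x ∈ S.filter (fun x => f x = y), α x * w₁ x := by
    intro y hy
    refine finsum_mem_eq_sum_of_inter_support_eq _ (Set.ext fun x => ?_)
    simp only [Set.mem_inter_iff, Set.mem_preimage, Set.mem_singleton_iff, Finset.coe_filter, Set.mem_ofPred_eq, hS,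
      Function.mem_support]
    constructor
    · rintro ⟨hx, h0⟩
      exact ⟨⟨⟨by rw [hx, hy], left_ne_zero_of_mul h0⟩, hx⟩, h0⟩
    · rintro ⟨⟨-, hx⟩, h0⟩
      exact ⟨hx, h0⟩
  have houter : ∑ᶠ y ∈ g ⁻¹' {z}, (∑ᶠ x ∈ f ⁻¹' {y}, α x * w₁ x) * w₂ y =
      ∑ y ∈ S.image f, (∑ x ∈ S.filter (fun x => f x = y), α x * w₁ x) * w₂ y := by
    refine (finsum_mem_congr (s := g ⁻¹' {z}) rfl
      (fun y (hy : g y = z) => congrArg (fun c : ℤ => c * w₂ y) (hinner y hy))).trans ?_
    refine finsum_mem_eq_sum_of_inter_support_eq _ (Set.ext fun y => ?_)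
    simp only [Set.mem_inter_iff, Set.mem_preimage, Set.mem_singleton_iff, Finset.coe_image, Set.mem_image,
      Finset.mem_coe, Function.mem_support]
    constructor
    · rintro ⟨-, h0⟩
      obtain ⟨x, hx, -⟩ := Finset.exists_ne_zero_of_sum_ne_zero (left_ne_zero_of_mul h0)
      exact ⟨⟨x, (Finset.mem_filter.mp hx).1, (Finset.mem_filter.mp hx).2⟩, h0⟩
    · rintro ⟨⟨x, hx, rfl⟩, h0⟩
      exact ⟨((hS x).mp hx).1, h0⟩
  refine houter.trans ?_
  have hR : ∑ᶠ x ∈ (f ≫ g) ⁻¹' {z}, α x * ((AlgebraicCycle.mapCoeff (f ≫ g) δX δZ x : ℕ) : ℤ) =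
      ∑ x ∈ S, α x * ((AlgebraicCycle.mapCoeff (f ≫ g) δX δZ x : ℕ) : ℤ) :=
    finsum_mem_eq_sum_of_inter_support_eq _ (Set.ext fun x => by
      simp only [Set.mem_inter_iff, Set.mem_preimage, Set.mem_singleton_iff, Finset.mem_coe, hS, Function.mem_support]
      exact ⟨fun h => ⟨⟨h.1, left_ne_zero_of_mul h.2⟩, h.2⟩, fun h => ⟨h.1.1, h.2⟩⟩)
  refine Eq.trans ?_ hR.symm
  rw [← Finset.sum_fiberwise_of_maps_to (g := fun x => f x) (t := S.image f) fun x hx => Finset.mem_image_of_mem _ hx]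
  refine Finset.sum_congr rfl fun y _ => ?_
  rw [Finset.sum_mul]
  refine Finset.sum_congr rfl fun x hx => ?_
  obtain rfl := (Finset.mem_filter.mp hx).2
  rw [mul_assoc]
  congr 1
  have h1 := delta_le f hf x
  have h2 := delta_le g hg (f x)
  simp only [w₁, w₂, AlgebraicCycle.mapCoeff, Scheme.Hom.comp_apply, residueDegree_comp]
  split_ifs <;> first | omega | (push_cast; ring)

end Groth.Agent.H22Alg.CycBasic
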