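import Groth.Agent.H16Derived.ProjFormula.ClosedImm
import Groth.Agent.H06EGA9.StructureStalk
import Groth.Agent.H29Ref.DualStalk
import Groth.Prelude.Def_ResDeg

/-! # The generic stalk of a finite direct image of the structure sheaf. -/

set_option autoImplicit false
set_option linter.style.haveILetI false

universe u

open CategoryTheory CategoryTheory.Limits AlgebraicGeometry TopologicalSpace

attribute [local instance] Groth.Agent.H06Mod.stalkAlgebra

noncomputable section

namespace Groth.Agent.H22Alg.PushGeneric

open H16Derived.ProjFormula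

variable {X Y : Scheme.{u}} [IsIntegral X] [IsIntegral Y] (f : X ⟶ Y)

theorem pushStalk_bijective_generic (hcl : IsClosedMap f.base)
    (hfib : ∀ x, f.base x = f.base (genericPoint X) → x = genericPoint X) :
    Function.Bijective (pushStalk f (Coh.structureModule X) (genericPoint X)) := by
  constructor
  · intro a b hab
    obtain ⟨U, hU, a, rfl⟩ := ((push f).obj (Coh.structureModule X)).presheaf.exists_germ_eq a
    obtain ⟨V, hV, b, rfl⟩ := ((push f).obj (Coh.structureModule X)).presheaf.exists_germ_eq b
    let W := U ⊓ V
    rw [← TopCat.Presheaf.germ_res_apply _ (homOfLE (inf_le_left : W ≤ U)) (f.base (genericPoint X)) ⟨hU, hV⟩ a,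
      ← TopCat.Presheaf.germ_res_apply _ (homOfLE (inf_le_right : W ≤ V)) (f.base (genericPoint X)) ⟨hU, hV⟩ b] at hab ⊢
    rw [pushStalk_germ, pushStalk_germ] at hab
    exact congrArg _ (germ_injective_of_isIntegral X (genericPoint X) (show genericPoint X ∈ f ⁻¹ᵁ W from ⟨hU, hV⟩)
      ((H06EGA9.bijective_smul_oneStalk (genericPoint X)).1
        ((H29Ref.germ_unit_eq_smul _ _ _).symm.trans (hab.trans (H29Ref.germ_unit_eq_smul _ _ _)))))
  · intro z
    obtain ⟨U, hU, z, rfl⟩ := (Coh.structureModule X).presheaf.exists_germ_eq z
    let V : Y.Opens := ⟨(f.base '' (U : Set X)ᶜ)ᶜ, (hcl _ U.2.isClosed_compl).isOpen_compl⟩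
    have hV : f.base (genericPoint X) ∈ V := fun ⟨x, hx, he⟩ => hx ((hfib x he).symm ▸ hU)
    have hle : f ⁻¹ᵁ V ≤ U := fun x hx => not_not.1 fun hn => hx ⟨x, hn, rfl⟩
    refine ⟨((push f).obj (Coh.structureModule X)).presheaf.germ V _ hV
      ((Coh.structureModule X).presheaf.map (homOfLE hle).op z), ?_⟩
    rw [pushStalk_germ]
    exact TopCat.Presheaf.germ_res_apply _ _ _ _ _

/-- The length of the direct image at the generic point is the degree. -/
theorem length_push_generic (hcl : IsClosedMap f.base)
    (hfib : ∀ x, f.base x = f.base (genericPoint X) → x = genericPoint X)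
    (hξ : f.base (genericPoint X) = genericPoint Y)
    [Module.Finite (Y.presheaf.stalk (f.base (genericPoint X)))
      (((push f).obj (Coh.structureModule X)).presheaf.stalk (f.base (genericPoint X)))] :
    Module.length (Y.presheaf.stalk (f.base (genericPoint X)))
      (((push f).obj (Coh.structureModule X)).presheaf.stalk (f.base (genericPoint X))) =
      (f.residueDegree (genericPoint X) : ℕ∞) := by
  let ξ := genericPoint X
  let R := Y.presheaf.stalk (f.base ξ)
  let M := ((push f).obj (Coh.structureModule X)).presheaf.stalk (f.base ξ)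
  let S := X.presheaf.stalk ξ
  have hR : IsField R := by
    show IsField (Y.presheaf.stalk (f.base (genericPoint X)))
    rw [hξ]
    exact Field.toIsField Y.functionField
  letI : Field R := hR.toField
  letI : Field S := inferInstanceAs (Field X.functionField)
  letI : Algebra R S := (f.stalkMap ξ).hom.toAlgebra
  let e : M ≃ₗ[R] S :=
    LinearEquiv.ofBijective
      ({ toFun := fun m => ((LinearEquiv.ofBijective (LinearMap.toSpanSingleton S _ (H29Ref.oneStalk ξ))
          (H06EGA9.bijective_smul_oneStalk ξ)).symm (pushStalk f (Coh.structureModule X) ξ m) : S)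
         map_add' := fun a b => by rw [map_add]; exact map_add _ _ _
         map_smul' := fun r m => by
          rw [pushStalk_smul]
          exact map_smul _ _ _ } : M →ₗ[R] S)
      ((LinearEquiv.ofBijective (LinearMap.toSpanSingleton S _ (H29Ref.oneStalk ξ))
          (H06EGA9.bijective_smul_oneStalk ξ)).symm.bijective.comp (pushStalk_bijective_generic f hcl hfib))
  haveI : Module.Finite R S := Module.Finite.equiv e
  rw [e.length_eq, Module.length_eq_finrank]
  congr 1
  letI := (f.residueFieldMap ξ).hom.toAlgebra
  have hbR : Function.Bijective (Y.residue (f.base ξ)).hom :=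
    ⟨RingHom.injective _, IsLocalRing.residue_surjective⟩
  have hbS : Function.Bijective (X.residue ξ).hom :=
    ⟨RingHom.injective _, IsLocalRing.residue_surjective⟩
  exact Algebra.finrank_eq_of_equiv_equiv (RingEquiv.ofBijective _ hbR) (RingEquiv.ofBijective _ hbS)
    (RingHom.ext fun r => (ConcreteCategory.congr_hom (Scheme.residue_residueFieldMap f ξ) r))

end Groth.Agent.H22Alg.PushGeneric
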