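import Groth.Agent.H22Alg.SnapperPoly

/-! # The top mixed coefficient is an iterated difference. -/

set_option autoImplicit false
set_option linter.style.haveILetI false

universe u

open CategoryTheory CategoryTheory.Limits AlgebraicGeometry

noncomputable section

namespace Groth.Agent.H22Alg.Snapper

open H28Int

variable {X : Scheme.{u}} (k : Type u) [Field k] [X.Over (Spec (CommRingCat.of k))]
  [IsProper (X ↘ Spec (CommRingCat.of k))] {F : X.Modules}

omit [X.Over (Spec (CommRingCat.of k))] [IsProper (X ↘ Spec (CommRingCat.of k))] in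
theorem nonempty_tensorPows_zero (F : X.Modules) : ∀ (r : ℕ) (L : Fin r → X.Modules),
    Nonempty (Curv2.tensorPows F r L 0 ≅ F)
  | 0, _ => ⟨Iso.refl _⟩
  | r + 1, L => by
    obtain ⟨e⟩ := nonempty_tensorPows_zero F r fun i => L i.castSucc
    exact ⟨H10Coh.Tw.rightUnitIso (Curv2.tensorPows F r (fun i => L i.castSucc) 0) ≪≫ e⟩

theorem D_map_eq_sum {r : ℕ} {L : Fin r → X.Modules} (hL : ∀ i, PicF.IsInvertible (L i)) :
    ∀ (l : List (Fin r)), l.Nodup → ∀ m : Fin r → ℕ, D k (l.map L) (Curv2.tensorPows F r L m) =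
      ∑ t ∈ l.toFinset.powerset, (-1 : ℤ) ^ t.card *
        Curv2.euler k X (Curv2.tensorPows F r L (m + fun i => if i ∈ t then 1 else 0))
  | [], _, m => by
    simp only [List.map_nil, List.toFinset_nil, Finset.powerset_empty, Finset.sum_singleton, Finset.card_empty,
      pow_zero, one_mul, Finset.notMem_empty, if_false]
    rfl
  | i :: l, hnd, m => by
    obtain ⟨hi, hl⟩ := List.nodup_cons.1 hnd
    obtain ⟨φ⟩ := nonempty_tensorPows_single (F := F) r L m i
    show D k (l.map L) _ - D k (l.map L) _ = _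
    rw [← (isAddFn_D k (l.map L) fun A hA => by
        obtain ⟨j, -, rfl⟩ := List.mem_map.1 hA
        exact hL j).congr φ, D_map_eq_sum hL l hl, D_map_eq_sum hL l hl, List.toFinset_cons,
      Finset.sum_powerset_insert (by simpa using hi), sub_eq_add_neg, ← Finset.sum_neg_distrib]
    congr 1
    refine Finset.sum_congr rfl fun t ht => ?_
    have hit : i ∉ t := fun h => hi (List.mem_toFinset.1 (Finset.mem_powerset.1 ht h))
    have e : (m + Pi.single i 1 + fun j => if j ∈ t then 1 else 0) =
        m + fun j => if j ∈ insert i t then 1 else 0 := by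
      funext j
      simp only [Pi.add_apply]
      by_cases hj : j = i
      · subst hj; simp [hit]
      · simp [hj]
    rw [e, Finset.card_insert_of_notMem hit]
    ring

/-- The top mixed coefficient of the Snapper polynomial. -/
theorem coeff_one_eq_D (hF : Coh.IsCoh F) {d : ℕ} (hd : topologicalKrullDim (CohB1.support F) ≤ (d : WithBot ℕ∞))
    {L : Fin d → X.Modules} (hL : ∀ i, PicF.IsInvertible (L i)) {P : MvPolynomial (Fin d) ℚ}
    (hP : ∀ n : Fin d → ℕ, (Curv2.euler k X (Curv2.tensorPows F d L n) : ℚ) = MvPolynomial.eval (fun i => (n i : ℚ)) P) :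
    MvPolynomial.coeff (Finsupp.equivFunOnFinite.symm fun _ : Fin d => 1) P =
      (-1 : ℚ) ^ d * (D k (List.ofFn L) F : ℚ) := by
  have hdeg := totalDegree_le k hF hd hL hP
  obtain ⟨e0⟩ := nonempty_tensorPows_zero F d L
  have hsum : D k (List.ofFn L) F = ∑ t ∈ (Finset.univ : Finset (Fin d)).powerset,
      (-1 : ℤ) ^ t.card * Curv2.euler k X (Curv2.tensorPows F d L fun i => if i ∈ t then 1 else 0) := by
    have h := D_map_eq_sum k (F := F) hL (List.finRange d) (List.nodup_finRange d) 0
    simp only [List.toFinset_finRange, zero_add] at h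
    rw [← h, List.ofFn_eq_map]
    refine ((isAddFn_D k _ fun A hA => ?_).congr e0).symm
    obtain ⟨j, -, rfl⟩ := List.mem_map.1 hA
    exact hL j
  rw [coeff_one_eq hdeg, hsum]
  push_cast
  rw [Finset.mul_sum]
  refine Finset.sum_bij' (fun t _ => tᶜ) (fun t _ => tᶜ) (fun t _ => by simp) (fun t _ => by simp)
    (fun t _ => compl_compl t) (fun t _ => compl_compl t) fun t _ => ?_
  rw [hP, ← mul_assoc, ← pow_add]
  congr 1
  · rw [Finset.card_compl, Fintype.card_fin]
    have : t.card ≤ d := by simpa using t.card_le_univ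
    rw [show d + (d - t.card) = t.card + 2 * (d - t.card) by omega, pow_add, pow_mul, neg_one_sq, one_pow, mul_one]
  · congr 2
    funext i
    by_cases hi : i ∈ t <;> simp [hi]

end Groth.Agent.H22Alg.Snapper

namespace Groth.Agent.H22Alg.Snapper

theorem le_of_lt_succ {D : WithBot ℕ∞} {e : ℕ} (h : D < ((e + 1 : ℕ) : WithBot ℕ∞)) : D ≤ (e : WithBot ℕ∞) := by
  rcases D with _ | n
  · exact bot_le
  · have : n < ((e + 1 : ℕ) : ℕ∞) := WithBot.coe_lt_coe.1 h
    exact WithBot.coe_le_coe.2 (ENat.lt_natCast_add_one_iff.1 (by exact_mod_cast this))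

end Groth.Agent.H22Alg.Snapper
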