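import Mathlib
import Groth.Agent.H22Alg.DevLength
import Groth.Agent.H22Alg.SnapperCoeff
import Groth.Agent.H22Alg.VarDim
import Groth.Agent.H22Alg.PushGeneric
import Groth.Agent.H22Alg.CycBasic
import Groth.Agent.H22Alg.RedIntegral
import Groth.Agent.H28Int.Push
import Groth.Agent.H28Int.Surface
import Groth.Agent.H28Int.Curves
import Groth.Agent.H10Coh.AmpleVanishing
import Groth.Agent.H11Ample.AmpleOn

/-!
# Push forward of intersection numbers

If `W` is integral with an ample module and `h : W ⟶ X` is a morphism of proper schemes over a field,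
then the intersection numbers of `h^* l` on `W` are `deg (W/h(W))` times those of `l` on `h(W)`:
twist by a high power of the ample module, so that the higher direct images vanish.
-/

set_option autoImplicit false
set_option linter.style.haveILetI false
universe u

open CategoryTheory CategoryTheory.Limits AlgebraicGeometry Opposite TopologicalSpace
open Groth.Agent.H10Coh

noncomputable section

namespace Groth.Agent.H22Alg.IntPush

attribute [local instance 10000] hasSheafifyAb hasWeakSheafifyAb hasExtAb enoughInjAb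
attribute [local instance] enoughInjMod

variable (k : Type u) [Field k] {W X : Scheme.{u}} [W.Over (Spec (CommRingCat.of k))]
  [X.Over (Spec (CommRingCat.of k))]

/-- Cohomology of a module without higher direct images. -/
theorem finrank_HH_push (h : W ⟶ X) (hh : h ≫ (X ↘ Spec (CommRingCat.of k)) = W ↘ Spec (CommRingCat.of k))
    (G : W.Modules) (hac : ∀ U : X.Opens, IsAffineOpen U → ∀ p, 0 < p → Subsingleton (HnM G p (h ⁻¹ᵁ U)))
    (n : ℕ) :
    Module.finrank k (Coh.HH X ((Coh.push h).obj G) n) = Module.finrank k (Coh.HH W G n) := by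
  have hepi : ∀ m, Epi ((CohTop.push h.base).map ((MRes.inj G).toF.p m)) := fun m =>
    (MRes.inj G).toF.epi_push_p h.base (affB X) (isBasis_affB X) (fun U hU j => hac U hU (j + 1) j.succ_pos) m
  let ψX : k →+* Γ(X, ⊤) := globA
  let ψW : k →+* Γ(W, ⊤) := globA
  have hψ : ψW = h.appTop.hom.comp ψX := by
    show toΓ (W ↘ Spec (CommRingCat.of k)) = h.appTop.hom.comp (toΓ (X ↘ Spec (CommRingCat.of k)))
    rw [← toΓ_comp, hh]
  let P := (Coh.push h).obj G
  letI := (actM ψX P).mod n ⊤
  letI := (actM ψW G).mod n ⊤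
  let e₁ : Coh.HH X P n ≃ₗ[k] HnM P n ⊤ := { HHEquiv P n with map_smul' := HHEquiv_smul' P n }
  let e₂ : Coh.HH W G n ≃ₗ[k] HnM G n ⊤ := { HHEquiv G n with map_smul' := HHEquiv_smul' G n }
  let e' : HnM P n ⊤ ≃+ HnM G n ⊤ := (MRes.inj G).toF.pushEquiv h.base hepi n ⊤
  let e₀ : HnM P n ⊤ ≃ₗ[k] HnM G n ⊤ :=
    { e' with
      map_smul' := fun a x => by
        change e' (postH (smulSh P (ψX a)) n ⊤ x) = postH (smulSh G (ψW a)) n ⊤ (e' x)
        rw [smulSh_push h G (ψX a), hψ]
        exact FRes.pushEquiv_natural h.base (mResSmul (MRes.inj G) (h.appTop (ψX a))) hepi hepi n ⊤ x }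
  exact (e₁.trans (e₀.trans e₂.symm)).finrank_eq

theorem euler_push (h : W ⟶ X) (hh : h ≫ (X ↘ Spec (CommRingCat.of k)) = W ↘ Spec (CommRingCat.of k))
    (G : W.Modules) (hac : ∀ U : X.Opens, IsAffineOpen U → ∀ p, 0 < p → Subsingleton (HnM G p (h ⁻¹ᵁ U))) :
    Curv2.euler k X ((Coh.push h).obj G) = Curv2.euler k W G :=
  finsum_congr fun p => by rw [finrank_HH_push k h hh G hac p]

omit [W.Over (Spec (CommRingCat.of k))] [X.Over (Spec (CommRingCat.of k))] in
/-- Serre vanishing over all affine opens at once. -/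
theorem exists_acyclic [IsNoetherian X] (h : W ⟶ X) [IsProper h] {A : W.Modules} (hA : CohB1.IsAmple A)
    (M : W.Modules) (hM : Coh.IsCoh M) :
    ∃ m₀ : ℕ, ∀ m, m₀ ≤ m → ∀ U : X.Opens, IsAffineOpen U → ∀ p, 0 < p →
      Subsingleton (HnM (CohB1.tensorMod M (CohB1.tensorPow A m)) p (h ⁻¹ᵁ U)) := by
  have ha : ∀ U : X.Opens, IsAffineOpen U → CohB1.IsAmple (A.restrict (h ⁻¹ᵁ U).ι) := fun U hU => by
    haveI : CompactSpace (h ⁻¹ᵁ U : W.Opens).toScheme :=
      isCompact_iff_compactSpace.1 (h.isCompact_preimage hU.isCompact)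
    exact (H11Ample.isAmple_restrict_iff A _).2 (H11Ample.isAmple_pullback_of_isOpenImmersion _ hA)
  obtain ⟨m₀, hm₀⟩ := Tw.exists_isZero_rpush h hA.1 ha M hM
  refine ⟨m₀, fun m hm U hU p hp => ?_⟩
  obtain ⟨q, rfl⟩ : ∃ q, p = q + 1 := ⟨p - 1, by omega⟩
  let N := CohB1.tensorMod M (CohB1.tensorPow A m)
  haveI : N.IsQuasicoherent := (H11Ample.isCoh_tensor hM (H11Ample.isInvertible_tensorPow hA.1 m)).1
  haveI : ((MRes.inj N).Z 0).IsQuasicoherent := ‹N.IsQuasicoherent›
  have hz : IsZero (hdir h (MRes.inj N) q) := by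
    have h1 := (hm₀ m hm (q + 1) hp).of_iso (nonempty_rpushAb_iso_hdir h N q).some
    rw [IsZero.iff_id_eq_zero]
    exact (shF X).map_injective (h1.eq_of_src _ _)
  haveI : Subsingleton Γ(hdir h (MRes.inj N) q, U) := subsingleton_of_forall_eq 0 fun x =>
    ConcreteCategory.congr_hom (congrArg (fun φ => Scheme.Modules.Hom.app φ U) (hz.eq_of_src (𝟙 _) 0)) x
  exact (hdirEquiv h (MRes.inj N) q hU).toEquiv.subsingleton

variable [IsProper (X ↘ Spec (CommRingCat.of k))] [IsProper (W ↘ Spec (CommRingCat.of k))]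

/-- After a high twist the intersection numbers commute with direct images. -/
theorem exists_D_push (h : W ⟶ X) (hh : h ≫ (X ↘ Spec (CommRingCat.of k)) = W ↘ Spec (CommRingCat.of k))
    {A : W.Modules} (hA : CohB1.IsAmple A) :
    ∀ (l : List X.Modules), (∀ L ∈ l, PicF.IsInvertible L) → ∀ M : W.Modules, Coh.IsCoh M →
      ∃ m₀ : ℕ, ∀ m, m₀ ≤ m →
        H28Int.D k (l.map (Scheme.Modules.pullback h).obj) (CohB1.tensorMod M (CohB1.tensorPow A m)) =
          H28Int.D k l ((Coh.push h).obj (CohB1.tensorMod M (CohB1.tensorPow A m)))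
  | [], _, M, hM => by
    haveI := H28Int.isNoetherian k (X := X)
    haveI : IsProper h := by
      haveI : IsProper (h ≫ (X ↘ Spec (CommRingCat.of k))) := hh ▸ inferInstance
      exact IsProper.of_comp h (X ↘ Spec (CommRingCat.of k))
    obtain ⟨m₀, hm₀⟩ := exists_acyclic h hA M hM
    exact ⟨m₀, fun m hm => (euler_push k h hh _ (hm₀ m hm)).symm⟩
  | L :: l, hl, M, hM => by
    haveI := H28Int.isNoetherian k (X := W)
    have hl' : ∀ B ∈ l, PicF.IsInvertible B := fun B hB => hl B (List.mem_cons_of_mem _ hB)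
    have hL : PicF.IsInvertible L := hl L List.mem_cons_self
    have hpL : PicF.IsInvertible ((Scheme.Modules.pullback h).obj L) := H11Ample.isInvertible_pullback h hL
    have hlW : ∀ B ∈ l.map (Scheme.Modules.pullback h).obj, PicF.IsInvertible B := fun B hB => by
      obtain ⟨B', hB', rfl⟩ := List.mem_map.1 hB
      exact H11Ample.isInvertible_pullback h (hl' B' hB')
    obtain ⟨m₁, h₁⟩ := exists_D_push h hh hA l hl' M hM
    obtain ⟨m₂, h₂⟩ := exists_D_push h hh hA l hl' _ (H28Int.isCoh_twist hpL hM)
    refine ⟨max m₁ m₂, fun m hm => ?_⟩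
    let N := CohB1.tensorMod M (CohB1.tensorPow A m)
    let N' := CohB1.tensorMod (CohB1.tensorMod ((Scheme.Modules.pullback h).obj L) M) (CohB1.tensorPow A m)
    have e₁ : N' ≅ CohB1.tensorMod ((Scheme.Modules.pullback h).obj L) N := Tw.assoc _ _ _
    obtain ⟨e₂⟩ := Tw.nonempty_push_tensor_iso h N hL
    have e₃ : CohB1.tensorMod L ((Coh.push h).obj N) ≅ (Coh.push h).obj N' :=
      Tw.commIso _ _ ≪≫ e₂ ≪≫ (Coh.push h).mapIso (Tw.commIso _ _ ≪≫ e₁.symm)
    show H28Int.D k _ N - H28Int.D k _ (CohB1.tensorMod _ N) = H28Int.D k l _ - H28Int.D k l _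
    rw [← (H28Int.isAddFn_D k _ hlW).congr e₁, (H28Int.isAddFn_D k _ hl').congr e₃,
      h₁ m (le_trans (le_max_left _ _) hm), h₂ m (le_trans (le_max_right _ _) hm)]

omit k [Field k] [W.Over (Spec (CommRingCat.of k))] [X.Over (Spec (CommRingCat.of k))] in
theorem pushStalk_bijective_of_fibre [IsIntegral W] (h : W ⟶ X) (hcl : IsClosedMap h.base) (G : W.Modules)
    (hfib : ∀ x, h.base x = h.base (genericPoint W) → x = genericPoint W) :
    Function.Bijective (H16Derived.ProjFormula.pushStalk h G (genericPoint W)) := by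
  open H16Derived.ProjFormula in
  let η := genericPoint W
  have hnb : ∀ U : W.Opens, η ∈ U → ∃ V : X.Opens, h.base η ∈ V ∧ h ⁻¹ᵁ V ≤ U := fun U hU =>
    ⟨⟨(h.base '' (U : Set W)ᶜ)ᶜ, (hcl _ U.2.isClosed_compl).isOpen_compl⟩,
      fun ⟨x, hx, he⟩ => hx ((hfib x he).symm ▸ hU), fun x hx => not_not.1 fun hn => hx ⟨x, hn, rfl⟩⟩
  constructor
  · refine (injective_iff_map_eq_zero _).2 fun a ha => ?_
    obtain ⟨U, hU, a, rfl⟩ := ((H16Derived.ProjFormula.push h).obj G).presheaf.exists_germ_eq a
    rw [H16Derived.ProjFormula.pushStalk_germ, ← map_zero (G.presheaf.germ (h ⁻¹ᵁ U) η hU).hom] at ha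
    obtain ⟨T, hT, i₁, i₂, he⟩ := TopCat.Presheaf.germ_eq G.presheaf η hU hU a 0 ha
    rw [map_zero] at he
    obtain ⟨V, hV, hle⟩ := hnb T hT
    rw [← TopCat.Presheaf.germ_res_apply _ (homOfLE (inf_le_left : U ⊓ V ≤ U)) (h.base η) ⟨hU, hV⟩ a]
    have hz : ((H16Derived.ProjFormula.push h).obj G).presheaf.map (homOfLE (inf_le_left : U ⊓ V ≤ U)).op a = 0 := by
      show G.presheaf.map ((Opens.map h.base).map (homOfLE (inf_le_left : U ⊓ V ≤ U))).op a = 0
      rw [show ((Opens.map h.base).map (homOfLE (inf_le_left : U ⊓ V ≤ U))).op =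
        i₁.op ≫ (homOfLE (show h ⁻¹ᵁ (U ⊓ V) ≤ T from fun x hx => hle hx.2)).op from rfl, Functor.map_comp]
      exact (congrArg (G.presheaf.map _) he).trans (map_zero _)
    rw [hz, map_zero]
  · intro z
    obtain ⟨U, hU, z, rfl⟩ := G.presheaf.exists_germ_eq z
    obtain ⟨V, hV, hle⟩ := hnb U hU
    refine ⟨((H16Derived.ProjFormula.push h).obj G).presheaf.germ V _ hV (G.presheaf.map (homOfLE hle).op z), ?_⟩
    rw [H16Derived.ProjFormula.pushStalk_germ]
    exact TopCat.Presheaf.germ_res_apply _ _ _ _ _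

omit k [Field k] [W.Over (Spec (CommRingCat.of k))] [X.Over (Spec (CommRingCat.of k))] in
/-- The length of the direct image of an invertible module at the image of the generic point. -/
theorem length_push [IsIntegral W] (h : W ⟶ X) (hcl : IsClosedMap h.base) {G : W.Modules}
    (hG : PicF.IsInvertible G)
    (hfib : ∀ x, h.base x = h.base (genericPoint W) → x = genericPoint W)
    (hfin : (h.residueFieldMap (genericPoint W)).hom.Finite) :
    Module.length (X.presheaf.stalk (h.base (genericPoint W)))
      (((Coh.push h).obj G).presheaf.stalk (h.base (genericPoint W))) =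
      (h.residueDegree (genericPoint W) : ℕ∞) := by
  let η := genericPoint W
  let R := X.presheaf.stalk (h.base η)
  let S := W.presheaf.stalk η
  let κ := X.residueField (h.base η)
  obtain ⟨U, e, hηU, he⟩ := H11Ample.exists_gen hG η
  let E : S ≃ₗ[S] G.presheaf.stalk η :=
    LinearEquiv.ofBijective (LinearMap.toSpanSingleton S _ (G.presheaf.germ U η hηU e)) (he η hηU)
  letI : Algebra R S := (h.stalkMap η).hom.toAlgebra
  let Φ : ((Coh.push h).obj G).presheaf.stalk (h.base η) ≃ₗ[R] S :=
    LinearEquiv.ofBijective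
      ({ toFun := fun m => E.symm (H16Derived.ProjFormula.pushStalk h G η m)
         map_add' := fun a b => by rw [map_add]; exact map_add _ _ _
         map_smul' := fun r m => by
          rw [H16Derived.ProjFormula.pushStalk_smul]
          exact map_smul _ _ _ } : ((Coh.push h).obj G).presheaf.stalk (h.base η) →ₗ[R] S)
      (E.symm.bijective.comp (pushStalk_bijective_of_fibre h hcl G hfib))
  rw [Φ.length_eq]
  letI : Algebra κ (W.residueField η) := (h.residueFieldMap η).hom.toAlgebra
  haveI : Module.Finite κ (W.residueField η) := hfin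
  letI : Algebra R κ := (X.residue (h.base η)).hom.toAlgebra
  letI : Algebra R (W.residueField η) := ((W.residue η).hom.comp (h.stalkMap η).hom).toAlgebra
  haveI : IsScalarTower R κ (W.residueField η) := .of_algebraMap_eq fun r =>
    (ConcreteCategory.congr_hom (Scheme.residue_residueFieldMap h η) r).symm
  have hbS : Function.Bijective (W.residue η).hom := by
    letI : Field S := inferInstanceAs (Field W.functionField)
    exact ⟨RingHom.injective _, IsLocalRing.residue_surjective⟩
  let Ψ : S ≃ₗ[R] W.residueField η :=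
    (AlgEquiv.ofRingEquiv (f := RingEquiv.ofBijective _ hbS) fun r => rfl).toLinearEquiv
  rw [Ψ.length_eq, Module.length_eq_of_surjective (R := κ) (S := R) IsLocalRing.residue_surjective,
    Module.length_eq_finrank]
  rfl

/-- **Push forward of intersection numbers** along a morphism from an integral scheme with an ample module. -/
theorem D_pullback [IsIntegral W] (h : W ⟶ X)
    (hh : h ≫ (X ↘ Spec (CommRingCat.of k)) = W ↘ Spec (CommRingCat.of k))
    {A : W.Modules} (hA : CohB1.IsAmple A) (l : List X.Modules) (hl : ∀ L ∈ l, PicF.IsInvertible L)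
    (hd : topologicalKrullDim W = (l.length : WithBot ℕ∞)) :
    H28Int.D k (l.map (Scheme.Modules.pullback h).obj) (Coh.structureModule W) =
      (h.residueDegree (genericPoint W) : ℤ) *
        H28Int.D k l (H25K.redMod (DevLength.cl (h (genericPoint W)))) := by
  haveI := H28Int.isNoetherian k (X := W)
  haveI := H28Int.isNoetherian k (X := X)
  haveI : IsProper h := by
    haveI : IsProper (h ≫ (X ↘ Spec (CommRingCat.of k))) := hh ▸ inferInstance
    exact IsProper.of_comp h (X ↘ Spec (CommRingCat.of k))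
  let η := genericPoint W
  have hlW : ∀ B ∈ l.map (Scheme.Modules.pullback h).obj, PicF.IsInvertible B := fun B hB => by
    obtain ⟨B', hB', rfl⟩ := List.mem_map.1 hB
    exact H11Ample.isInvertible_pullback h (hl B' hB')
  have hO : Coh.IsCoh (Coh.structureModule W) := H28Int.Surface.isCoh_structure k
  obtain ⟨m₀, hm₀⟩ := exists_D_push k h hh hA l hl (Coh.structureModule W) hO
  let G := CohB1.tensorMod (Coh.structureModule W) (CohB1.tensorPow A m₀)
  have hG : PicF.IsInvertible G :=
    H11Tilde.isInvertible_of_iso (Tw.leftUnitIso _).symm (H11Ample.isInvertible_tensorPow hA.1 m₀)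
  have e0 : H28Int.D k (l.map (Scheme.Modules.pullback h).obj) (Coh.structureModule W) =
      H28Int.D k l ((Coh.push h).obj G) := by
    rw [← hm₀ m₀ le_rfl, (H28Int.isAddFn_D k _ hlW).congr (Tw.commIso _ _)]
    refine (H28Int.D_twist k hlW (H11Ample.isInvertible_tensorPow hA.1 m₀) hO ?_).symm
    rw [List.length_map]
    exact (Topology.IsInducing.subtypeVal.topologicalKrullDim_le).trans hd.le
  rw [e0]
  have hPc : Coh.IsCoh ((Coh.push h).obj G) := by
    haveI : (Scheme.Modules.pushforward h).IsRightAdjoint :=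
      (Scheme.Modules.pullbackPushforwardAdjunction h).isRightAdjoint
    haveI : PreservesFiniteLimits (Scheme.Modules.pushforward h) := inferInstance
    exact isCoh_of_iso ((Scheme.Modules.pushforward h).rightDerivedZeroIsoSelf.app G)
      (isCoh_rpush h G (H11Ample.isCoh_of_isInvertible hG) 0)
  have hsupp : CohB1.support ((Coh.push h).obj G) ⊆ closure ({h η} : Set X) :=
    H28Int.Curves.support_push_subset h G isClosed_closure (by
      rintro _ ⟨y, rfl⟩
      exact ((genericPoint_specializes y).map h.continuous).mem_closure)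
  have hη : H8Props.FieldDim.cdim η = (l.length : WithBot ℕ∞) := (VarDim.cdim_genericPoint W).trans hd
  have hadd := H8Props.FieldDim.cdim_eq_add (W ↘ Spec (CommRingCat.of k)) (X ↘ Spec (CommRingCat.of k)) h hh η
  obtain ⟨a, ha⟩ := H8Props.FieldDim.exists_nat_cdim (k := k) (X ↘ Spec (CommRingCat.of k)) (h η)
  haveI := H8Props.FieldDim.locallyOfFiniteType_fiberToSpec h (h η)
  obtain ⟨b, hb⟩ := H8Props.FieldDim.exists_nat_cdim (k := X.residueField (h η)) (h.fiberToSpecResidueField (h η)) (h.asFiber η)
  rw [hη, ha, hb] at hadd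
  have hab : l.length = b + a := by exact_mod_cast hadd
  have hsd : topologicalKrullDim (CohB1.support ((Coh.push h).obj G)) ≤ (a : WithBot ℕ∞) :=
    (H28Int.dim_le_of_subset hsupp).trans ha.le
  rcases Nat.eq_zero_or_pos b with rfl | hbpos
  swap
  · rw [H28Int.D_eq_zero k l hl _ hPc (hsd.trans_lt (by exact_mod_cast (show a < l.length by omega))),
      show h.residueDegree η = 0 from ?_, Nat.cast_zero, zero_mul]
    letI := (h.residueFieldMap η).hom.toAlgebra
    refine Module.finrank_of_not_finite fun hfin => ?_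
    obtain ⟨s, hs, hs'⟩ := H8Props.FieldDim.exists_trdeg_fiber h (h.asFiber η)
    have hb0 : Algebra.trdeg (X.residueField (h η)) (W.residueField η) = (s : Cardinal) := by
      convert! hs' using 3 <;> rw [Scheme.Hom.fiberι_asFiber]
    haveI : Algebra.IsAlgebraic (X.residueField (h η)) (W.residueField η) := Algebra.IsAlgebraic.of_finite _ _
    rw [trdeg_eq_zero] at hb0
    have : s = 0 := by exact_mod_cast hb0.symm
    rw [hb, this] at hs
    have : b = 0 := by exact_mod_cast hs
    omega
  · obtain rfl : a = l.length := by omega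
    have hmax : ∀ v : h.fiber (h η), h.asFiber η ⤳ v → v = h.asFiber η := fun v hv => by
      by_contra hne
      obtain ⟨c, hc⟩ := H8Props.FieldDim.exists_nat_cdim (k := X.residueField (h η)) (h.fiberToSpecResidueField (h η)) v
      have hlt := H8Props.FieldDim.cdim_lt (k := X.residueField (h η)) (h.fiberToSpecResidueField (h η)) hv (Ne.symm hne)
      rw [hb, hc] at hlt
      exact Nat.not_lt_zero c (by exact_mod_cast hlt)
    have hfib : ∀ x, h.base x = h.base η → x = η := fun x hx => by
      obtain ⟨v, rfl⟩ : x ∈ Set.range (h.fiberι (h η)) := (h.range_fiberι _).ge hx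
      rw [hmax v ?_, Scheme.Hom.fiberι_asFiber]
      refine (h.fiberι (h η)).isEmbedding.isInducing.specializes_iff.1 ?_
      rw [Scheme.Hom.fiberι_asFiber]
      exact genericPoint_specializes _
    have hfin : (h.residueFieldMap η).hom.Finite := by
      refine H17.finite_residueFieldMap h η (closure_subset_iff_isClosed.1 fun v hv => ?_)
      exact hmax v (specializes_iff_mem_closure.2 hv)
    have hlen := length_push h h.isClosedMap hG hfib hfin
    rw [DevLength.eq_finsum (H28Int.isAddFn_D k l hl) (d := l.length)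
      (fun F hF hF' => H28Int.D_eq_zero k l hl F hF hF') hPc hsd, finsum_eq_single _ (h η) ?_]
    dsimp only
    rw [if_pos (show topologicalKrullDim (closure ({h η} : Set X)) = _ from ha)]
    · rw [show DevLength.len ((Coh.push h).obj G) (h η) = (h.residueDegree η : ℕ∞) from hlen, ENat.toNat_natCast]
    · intro ξ hξ
      split_ifs with hξd
      · rw [DevLength.len_eq_zero fun hs => hξ ?_]
        · simp
        · by_contra hne
          exact (DevLength.dim_closure_lt (specializes_iff_mem_closure.2 (hsupp hs)) hne ha.le).ne hξd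
      · rfl

end Groth.Agent.H22Alg.IntPush
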