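import Mathlib
import Groth.Agent.H22Alg.IntPush
import Groth.Agent.H17.Image
import Groth.Agent.S0025
import Groth.Agent.H22Alg.CMKer
import Groth.Agent.H8Props.AmpleBatch
import Groth.Agent.H17.Ample.LocalProj

/-!
# Intersection numbers of pulled back modules on an integral subscheme
-/

set_option autoImplicit false
set_option linter.style.haveILetI false
universe u

open CategoryTheory CategoryTheory.Limits AlgebraicGeometry Opposite TopologicalSpace

noncomputable section

namespace Groth.Agent.H22Alg.IntPullback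

variable {X Y Z : Scheme.{u}}

theorem closure_range [IrreducibleSpace Z] (φ : Z ⟶ X) :
    closure (Set.range φ) = closure ({φ (genericPoint Z)} : Set X) := by
  refine (closure_minimal ?_ isClosed_closure).antisymm
    (closure_mono (Set.singleton_subset_iff.2 ⟨_, rfl⟩))
  rintro _ ⟨y, rfl⟩
  exact ((genericPoint_specializes y).map φ.continuous).mem_closure

theorem quotMod_ker [IsIntegral Z] (φ : Z ⟶ X) :
    ClSub.quotMod φ.ker = H25K.redMod (DevLength.cl (φ (genericPoint Z))) := by
  have h : φ.ker = Scheme.IdealSheafData.vanishingIdeal (DevLength.cl (φ (genericPoint Z))) := by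
    rw [H17.ker_eq_vanishingIdeal φ]
    congr 1
    exact Closeds.ext (closure_range φ)
  rw [h]
  rfl

theorem residueDegree_of_surjective (f : X ⟶ Y) (x : X) (h : Function.Surjective (f.stalkMap x).hom) :
    f.residueDegree x = 1 := by
  letI := (f.residueFieldMap x).hom.toAlgebra
  have hs : Function.Surjective (f.residueFieldMap x).hom := fun a => by
    obtain ⟨b, rfl⟩ := IsLocalRing.residue_surjective (R := X.presheaf.stalk x) a
    obtain ⟨c, rfl⟩ := h b
    exact ⟨Y.residue _ c, ConcreteCategory.congr_hom (Scheme.residue_residueFieldMap f x) c⟩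
  exact ((AlgEquiv.ofBijective (Algebra.ofId (Y.residueField (f x)) (X.residueField x))
    ⟨RingHom.injective _, hs⟩).toLinearEquiv.finrank_eq).symm.trans (Module.finrank_self _)

variable (k : Type u) [Field k] [X.Over (Spec (CommRingCat.of k))]

theorem D_congr_list [IsProper (X ↘ Spec (CommRingCat.of k))] {ι : Type*} {f g : ι → X.Modules}
    (e : ∀ i, f i ≅ g i) (hg : ∀ i, PicF.IsInvertible (g i)) :
    ∀ (l : List ι) (F : X.Modules), H28Int.D k (l.map f) F = H28Int.D k (l.map g) F
  | [], _ => rfl
  | i :: l, F => by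
    show H28Int.D k (l.map f) F - H28Int.D k (l.map f) _ = H28Int.D k (l.map g) F - H28Int.D k (l.map g) _
    rw [D_congr_list e hg l, D_congr_list e hg l]
    congr 1
    exact (H28Int.isAddFn_D k _ fun A hA => by
      obtain ⟨j, -, rfl⟩ := List.mem_map.1 hA
      exact hg j).congr (PicGrp.tensorModIso (e i) (Iso.refl F))

variable [Y.Over (Spec (CommRingCat.of k))] [IsProper (X ↘ Spec (CommRingCat.of k))]
  [IsProper (Y ↘ Spec (CommRingCat.of k))]

include k in
/-- Chow's lemma: an integral scheme with an ample module, birational over an integral closed subscheme. -/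
theorem exists_birational_ample [IsIntegral Z] (ι : Z ⟶ Y) [IsClosedImmersion ι] :
    ∃ (W : Scheme.{u}) (_ : IsIntegral W) (ρ : W ⟶ Z) (A : W.Modules), IsProper ρ ∧ CohB1.IsAmple A ∧
      ρ (genericPoint W) = genericPoint Z ∧ ρ.residueDegree (genericPoint W) = 1 ∧
      topologicalKrullDim W = topologicalKrullDim Z := by
  let s := ι ≫ (Y ↘ Spec (CommRingCat.of k))
  haveI : IsProper s := MorphismProperty.comp_mem _ _ _ inferInstance inferInstance
  obtain ⟨n, Z', π, j, hj, hjs, hπ, -, U, hU, hiso⟩ := S0025.result s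
  haveI := hj; haveI := hπ; haveI := hiso
  haveI : IsProper (CohB1.ProjSpaceOver.toBase n (Spec (CommRingCat.of k))) :=
    H27Weil.isProper_toBase n (Spec (CommRingCat.of k))
  haveI : IsProper j := by
    haveI : IsProper (π ≫ s) := MorphismProperty.comp_mem _ _ _ inferInstance inferInstance
    haveI : IsProper (j ≫ CohB1.ProjSpaceOver.toBase n (Spec (CommRingCat.of k))) := hjs ▸ inferInstance
    exact IsProper.of_comp j (CohB1.ProjSpaceOver.toBase n (Spec (CommRingCat.of k)))
  haveI : IsClosedImmersion j := IsClosedImmersion.of_isPreimmersion j (j.isClosedMap.isClosed_range)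
  have hηU : genericPoint Z ∈ U := by
    obtain ⟨x, hx⟩ := hU.nonempty
    exact (genericPoint_specializes x).mem_open U.2 hx
  obtain ⟨η₀, hη₀⟩ := (π ∣_ U).homeomorph.surjective ⟨genericPoint Z, hηU⟩
  let η' : Z' := η₀.1
  have hη' : π η' = genericPoint Z := (morphismRestrict_base_coe π U η₀).symm.trans (congrArg Subtype.val hη₀)
  let J := Scheme.IdealSheafData.vanishingIdeal (⟨closure {η'}, isClosed_closure⟩ : Closeds Z')
  haveI : IsIntegral J.subscheme := isIntegral_vanishingIdeal_closure η'
  have hgen : J.subschemeι (genericPoint J.subscheme) = η' := by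
    have h1 : closure ({J.subschemeι (genericPoint J.subscheme)} : Set Z') = closure {η'} := by
      rw [← closure_range, H17.range_vanishingIdeal_subschemeι]
      exact closure_closure
    exact (Specializes.antisymm (specializes_iff_mem_closure.2 (h1.ge (subset_closure rfl)))
      (specializes_iff_mem_closure.2 (h1.le (subset_closure rfl)))).eq
  obtain ⟨M, hM⟩ := H8Props.Ample.exists_isAmple_projSpaceOver n (H17.LocalProj.exists_isAmple_of_isAffine (Spec (CommRingCat.of k)))
  refine ⟨J.subscheme, inferInstance, J.subschemeι ≫ π, _, MorphismProperty.comp_mem _ _ _ inferInstance inferInstance,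
    H11Ample.isAmple_pullback_of_isAffineHom (J.subschemeι ≫ j) hM, ?_, ?_, ?_⟩
  · rw [Scheme.Hom.comp_apply, hgen, hη']
  · rw [CycBasic.residueDegree_comp, residueDegree_of_surjective J.subschemeι _ (J.subschemeι.stalkMap_surjective _),
      mul_one, hgen]
    haveI : IsIso (π.stalkMap η') :=
      ((MorphismProperty.isomorphisms _).arrow_mk_iso_iff (morphismRestrictStalkMap π U η₀)).mp
        (inferInstance : IsIso ((π ∣_ U).stalkMap η₀))
    exact residueDegree_of_surjective π η' (ConcreteCategory.bijective_of_isIso (π.stalkMap η')).2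
  · let ρ := J.subschemeι ≫ π
    haveI : LocallyOfFiniteType (ρ ≫ s) := MorphismProperty.comp_mem _ _ _ inferInstance inferInstance
    rw [← VarDim.cdim_genericPoint J.subscheme, ← VarDim.cdim_genericPoint Z,
      H8Props.FieldDim.cdim_eq_add (ρ ≫ s) s ρ rfl]
    rw [H28Int.Curves.cdim_closed ?_, Nat.cast_zero, zero_add,
      show ρ (genericPoint J.subscheme) = genericPoint Z by rw [Scheme.Hom.comp_apply, hgen, hη']]
    refine closure_subset_iff_isClosed.1 fun v hv => ?_
    have hv' : ρ.fiberι _ v = genericPoint J.subscheme := by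
      apply J.subschemeι.isClosedEmbedding.injective
      rw [hgen]
      have hπv : π (J.subschemeι (ρ.fiberι _ v)) = genericPoint Z := by
        have := (ρ.range_fiberι _).subset (Set.mem_range_self v)
        exact this.trans (by rw [Scheme.Hom.comp_apply, hgen, hη'])
      have h2 : J.subschemeι (ρ.fiberι _ v) ∈ π ⁻¹ᵁ U := show π _ ∈ U from hπv.symm ▸ hηU
      have h3 : (π ∣_ U) ⟨_, h2⟩ = (π ∣_ U) η₀ := Subtype.ext (by
        rw [morphismRestrict_base_coe, morphismRestrict_base_coe]
        exact hπv.trans hη'.symm)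
      exact congrArg Subtype.val ((π ∣_ U).homeomorph.injective h3)
    exact (ρ.fiberι _).isEmbedding.injective (hv'.trans (ρ.fiberι_asFiber _).symm)

/-- **The projection formula for intersection numbers.** -/
theorem D_pullback_subscheme [IsIntegral Z] (ι : Z ⟶ Y) [IsClosedImmersion ι] (f : Y ⟶ X)
    (hf : f ≫ (X ↘ Spec (CommRingCat.of k)) = Y ↘ Spec (CommRingCat.of k))
    (l : List X.Modules) (hl : ∀ L ∈ l, PicF.IsInvertible L)
    (hd : topologicalKrullDim Z = (l.length : WithBot ℕ∞)) :
    H28Int.D k (l.map (Scheme.Modules.pullback f).obj) (ClSub.quotMod ι.ker) =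
      ((ι ≫ f).residueDegree (genericPoint Z) : ℤ) * H28Int.D k l (ClSub.quotMod (ι ≫ f).ker) := by
  obtain ⟨W, hW, ρ, A, hρ, hA, hgen, hdeg, hdim⟩ := exists_birational_ample k ι
  haveI := hW; haveI := hρ
  letI : W.Over (Spec (CommRingCat.of k)) := ⟨ρ ≫ ι ≫ (Y ↘ Spec (CommRingCat.of k))⟩
  haveI : IsProper (W ↘ Spec (CommRingCat.of k)) :=
    MorphismProperty.comp_mem _ _ _ hρ (MorphismProperty.comp_mem _ _ _ inferInstance inferInstance)
  have hl' : ∀ B ∈ l.map (Scheme.Modules.pullback f).obj, PicF.IsInvertible B := fun B hB => by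
    obtain ⟨B', hB', rfl⟩ := List.mem_map.1 hB
    exact H11Ample.isInvertible_pullback f (hl B' hB')
  have h1 := IntPush.D_pullback k (ρ ≫ ι) (by rw [Category.assoc]; rfl) hA _ hl'
    (by rw [List.length_map, hdim, hd])
  have h2 := IntPush.D_pullback k ((ρ ≫ ι) ≫ f) (by rw [Category.assoc, hf, Category.assoc]; rfl) hA l hl
    (hdim.trans hd)
  have e : H28Int.D k ((l.map (Scheme.Modules.pullback f).obj).map (Scheme.Modules.pullback (ρ ≫ ι)).obj)
      (Coh.structureModule W) =
    H28Int.D k (l.map (Scheme.Modules.pullback ((ρ ≫ ι) ≫ f)).obj) (Coh.structureModule W) := by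
    have h := D_congr_list k (ι := {A : X.Modules // PicF.IsInvertible A})
      (fun A => (Scheme.Modules.pullbackComp (ρ ≫ ι) f).app A.1)
      (fun A => H11Ample.isInvertible_pullback _ A.2) (l.pmap Subtype.mk hl) (Coh.structureModule W)
    simp only [List.map_pmap] at h
    rw [List.map_map, ← List.pmap_eq_map (p := fun A => PicF.IsInvertible A) (H := hl),
      ← List.pmap_eq_map (f := (Scheme.Modules.pullback ((ρ ≫ ι) ≫ f)).obj) (p := fun A => PicF.IsInvertible A) (H := hl)]
    exact h
  have d1 : (ρ ≫ ι).residueDegree (genericPoint W) = 1 := by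
    rw [CycBasic.residueDegree_comp, hdeg, mul_one]
    exact residueDegree_of_surjective ι _ (ι.stalkMap_surjective _)
  have d2 : ((ρ ≫ ι) ≫ f).residueDegree (genericPoint W) = (ι ≫ f).residueDegree (genericPoint Z) := by
    rw [Category.assoc, CycBasic.residueDegree_comp ρ, hdeg, mul_one, hgen]
  rw [d1, Nat.cast_one, one_mul, Scheme.Hom.comp_apply, hgen, ← quotMod_ker] at h1
  rw [d2, show ((ρ ≫ ι) ≫ f) (genericPoint W) = (ι ≫ f) (genericPoint Z) by
    simp only [Scheme.Hom.comp_apply, hgen], ← quotMod_ker] at h2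
  rw [← h1, e, h2]

end Groth.Agent.H22Alg.IntPullback
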