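import Groth.Agent.H22Alg.KrullAkizuki
import Mathlib.RingTheory.DedekindDomain.AdicValuation
import Mathlib.Algebra.Ring.Subring.Basic
import Mathlib.RingTheory.Localization.Away.Basic
import Mathlib.AlgebraicGeometry.OpenImmersion
import Mathlib.AlgebraicGeometry.AffineScheme
import Mathlib.RingTheory.KrullDimension.Basic
import Mathlib.RingTheory.KrullDimension.Field

/-!
Semilocal one-dimensional subrings of a field and their intersections.
-/

universe u

open IsDedekindDomain AlgebraicGeometry CategoryTheory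

namespace Groth.Agent.H22Alg

variable {K : Type u} [Field K]

local notation "ℤₘ₀" => WithZero (Multiplicative ℤ)

theorem exists_pow_gt {g h : ℤₘ₀} (hg : 1 < g) : ∃ N : ℕ, ∀ n ≥ N, h < g ^ n := by
  obtain ⟨N, hN⟩ := MulArchimedean.arch h hg
  refine ⟨N + 1, fun n hn => hN.trans_lt (pow_lt_pow_right₀ hg (by omega))⟩

theorem exists_common_pole (A : Subring K) {ι : Type*} (s : Finset ι) (w : ι → Valuation K ℤₘ₀)
    (h : ∀ i ∈ s, ∃ a ∈ A, 1 < w i a) : ∃ x ∈ A, ∀ i ∈ s, 1 < w i x := by
  classical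
  induction s using Finset.induction_on with
  | empty => exact ⟨0, A.zero_mem, by simp⟩
  | @insert i s _ ih =>
    obtain ⟨a, ha, has⟩ := ih fun j hj => h j (Finset.mem_insert_of_mem hj)
    obtain ⟨b, hb, hbi⟩ := h i (Finset.mem_insert_self i s)
    by_cases hai : 1 < w i a
    · exact ⟨a, ha, fun j hj => by rcases Finset.mem_insert.mp hj with rfl | hj; exacts [hai, has j hj]⟩
    have hN : ∀ j : {j // j ∈ insert i s}, ∃ N : ℕ, 1 < w j b → ∀ n ≥ N, w j a < w j b ^ n := fun j => by
      by_cases hj : 1 < w j b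
      · obtain ⟨N, hN⟩ := exists_pow_gt (h := w j a) hj; exact ⟨N, fun _ => hN⟩
      · exact ⟨0, fun h => absurd h hj⟩
    choose N hN using hN
    set n := (Finset.univ.sup N) + 1
    refine ⟨a + b ^ n, A.add_mem ha (A.pow_mem hb n), fun j hj => ?_⟩
    by_cases hjb : 1 < w j b
    · have := hN ⟨j, hj⟩ hjb n ((Finset.le_sup (Finset.mem_univ _)).trans (Nat.le_succ _))
      rw [(w j).map_add_eq_of_lt_right (by rwa [map_pow])]
      rw [map_pow]
      exact one_lt_pow₀ hjb (Nat.succ_ne_zero _)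
    · rcases Finset.mem_insert.mp hj with rfl | hj'
      · exact absurd hbi hjb
      · have h1 : w j (b ^ n) ≤ 1 := by rw [map_pow]; exact pow_le_one₀ zero_le (not_lt.mp hjb)
        rw [(w j).map_add_eq_of_lt_left (lt_of_le_of_lt h1 (has j hj'))]
        exact has j hj'

theorem exists_common_pole_mul (A : Subring K) {ι : Type*} (s : Finset ι) (w : ι → Valuation K ℤₘ₀)
    (h : ∀ i ∈ s, ∃ a ∈ A, 1 < w i a) (j : A) (hj : j ≠ 0) :
    ∃ y : A, y ∈ Ideal.span {j} ∧ ∀ i ∈ s, 1 < w i y := by
  classical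
  obtain ⟨x, hx, hxs⟩ := exists_common_pole A s w h
  have hj0 : (j : K) ≠ 0 := fun e => hj (Subtype.ext e)
  have hN : ∀ i : {i // i ∈ s}, ∃ N : ℕ, ∀ n ≥ N, (w i j)⁻¹ < w i x ^ n := fun i => exists_pow_gt (hxs i i.2)
  choose N hN using hN
  refine ⟨⟨x, hx⟩ ^ (Finset.univ.sup N) * j, Ideal.mem_span_singleton'.mpr ⟨_, rfl⟩, fun i hi => ?_⟩
  have := hN ⟨i, hi⟩ _ (Finset.le_sup (Finset.mem_univ _))
  have hne : w i j ≠ 0 := (w i).ne_zero_iff.mpr hj0
  show 1 < w i (x ^ _ * (j : K))
  rw [map_mul, map_pow]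
  calc (1 : ℤₘ₀) = (w i j)⁻¹ * w i j := (inv_mul_cancel₀ hne).symm
    _ < _ := mul_lt_mul_of_pos_right this (zero_lt_iff.mpr hne)

variable (B : Subring K) [IsNoetherianRing B] [IsFractionRing B K]

theorem krullDimLE_one_of_dim_eq (hdim : ringKrullDim B = 1) : Ring.KrullDimLE 1 B :=
  (Ring.krullDimLE_iff (n := 1)).mpr (by rw [hdim]; rfl)

omit [IsNoetherianRing B] [IsFractionRing B K] in
theorem not_isField_of_dim_eq (hdim : ringKrullDim B = 1) : ¬ IsField B := fun h => by
  let := h.toField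
  rw [ringKrullDim_eq_zero_of_field] at hdim
  exact zero_ne_one hdim

/-- Elements of `B` with negative order at every place over `B` are inverse to elements of the radical. -/
theorem exists_pow_mem_jacobson [Ring.KrullDimLE 1 B] (hnf : ¬ IsField B)
    (v : K) (hv : haveI := isDedekindDomain_integralClosure (B := B) (K := K)
      ∀ P : HeightOneSpectrum (integralClosure B K), P.valuation K v < 1) :
    ∃ n : ℕ, ∀ m, (n + 1) ∣ m → 0 < m →
      ∃ h : v ^ m ∈ B, (⟨v ^ m, h⟩ : B) ∈ (⊥ : Ideal B).jacobson := by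
  have := isDedekindDomain_integralClosure (B := B) (K := K)
  have : IsFractionRing (integralClosure B K) K := integralClosure.isFractionRing_of_finite_extension K K
  obtain ⟨vB, rfl⟩ : v ∈ (algebraMap (integralClosure B K) K).range :=
    HeightOneSpectrum.mem_integers_of_valuation_le_one K v fun P => (hv P).le
  have hnf' : ¬ IsField (integralClosure B K) := fun h => hnf
    (isField_of_isIntegral_of_isField (R := B) (fun a b h => IsFractionRing.injective B K
      (congrArg (fun z : integralClosure B K => (z : K)) h)) h)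
  have hJ : vB ∈ (⊥ : Ideal (integralClosure B K)).jacobson := by
    rw [Ideal.jacobson, Submodule.mem_sInf]
    rintro m ⟨-, hm⟩
    have hne : m ≠ ⊥ := fun e => hnf' (Ring.isField_iff_maximal_bot.mpr (e ▸ hm))
    exact (HeightOneSpectrum.valuation_lt_one_iff_mem (⟨m, hm.isPrime, hne⟩ : HeightOneSpectrum _) vB).mp (hv _)
  obtain ⟨n, z, hz⟩ := exists_pow_mul_mem_range_of_integral vB vB hJ
  refine ⟨n, fun m hm hpos => ?_⟩
  obtain ⟨c, rfl⟩ := hm
  have hz' : (z : K) = (vB : K) ^ (n + 1) := by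
    rw [show (algebraMap B K z) = (z : K) from rfl] at hz
    rw [hz, pow_succ]; rfl
  have hmem : (algebraMap (integralClosure B K) K vB) ^ ((n + 1) * c) ∈ B := by
    rw [pow_mul]
    show ((vB : K) ^ (n + 1)) ^ c ∈ B
    rw [← hz']; exact B.pow_mem z.2 c
  refine ⟨hmem, mem_jacobson_of_integralClosure (K := K) _ ?_⟩
  have : algebraMap B (integralClosure B K) ⟨_, hmem⟩ = vB ^ ((n + 1) * c) := Subtype.ext rfl
  rw [this]
  exact Ideal.pow_mem_of_mem _ hJ _ hpos

/-- Each place over `B` has a pole on `A` when `A ⊔ B = K`. -/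
theorem exists_pole_of_sup_eq_top [Ring.KrullDimLE 1 B] (A : Subring K) (hgen : A ⊔ B = ⊤) :
    haveI := isDedekindDomain_integralClosure (B := B) (K := K)
    ∀ P : HeightOneSpectrum (integralClosure B K), ∃ a ∈ A, 1 < P.valuation K a := by
  have := isDedekindDomain_integralClosure (B := B) (K := K)
  have : IsFractionRing (integralClosure B K) K := integralClosure.isFractionRing_of_finite_extension K K
  intro P
  by_contra hcon
  push Not at hcon
  have hA : A ≤ (P.valuation K).integer := fun a ha => hcon a ha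
  have hB : B ≤ (P.valuation K).integer := fun b hb =>
    P.valuation_le_one (algebraMap B (integralClosure B K) ⟨b, hb⟩)
  obtain ⟨z, hz, hz0⟩ := (Submodule.ne_bot_iff _).mp P.ne_bot
  have h1 : P.valuation K (algebraMap _ K z) < 1 := (P.valuation_lt_one_iff_mem z).mpr hz
  have h2 : ((algebraMap _ K z : K))⁻¹ ∈ (P.valuation K).integer := (sup_le hA hB) (by rw [hgen]; trivial)
  have h3 : 1 < P.valuation K (algebraMap _ K z)⁻¹ := by
    rw [map_inv₀]
    refine one_lt_inv₀ (zero_lt_iff.mpr ((Valuation.ne_zero_iff _).mpr ?_)) |>.mpr h1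
    exact (map_ne_zero_iff _ (IsFractionRing.injective _ K)).mpr hz0
  exact absurd h2 (not_le.mpr h3)

theorem finite_heightOne [Ring.KrullDimLE 1 B] (hsl : Finite (MaximalSpectrum B)) (hnf : ¬ IsField B) :
    Finite (HeightOneSpectrum (integralClosure B K)) := by
  have := isDedekindDomain_integralClosure (B := B) (K := K)
  have := finite_maximalSpectrum_subalgebra (integralClosure B K) hsl hnf
  exact Finite.of_injective (fun P : HeightOneSpectrum (integralClosure B K) =>
    (⟨P.asIdeal, P.isMaximal⟩ : MaximalSpectrum (integralClosure B K)))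
    fun P P' h => HeightOneSpectrum.ext (congrArg MaximalSpectrum.asIdeal h)

section Family

variable {ι : Type} [Fintype ι] (Bs : ι → Subring K) [∀ i, IsNoetherianRing (Bs i)] [∀ i, IsFractionRing (Bs i) K]

/-- Data: an element `v` with negative... positive order at all places gives a uniform power in all radicals. -/
theorem exists_uniform_pow [∀ i, Ring.KrullDimLE 1 (Bs i)] (hnf : ∀ i, ¬ IsField (Bs i)) (v : K)
    (hv : ∀ i, haveI := isDedekindDomain_integralClosure (B := Bs i) (K := K)
      ∀ P : HeightOneSpectrum (integralClosure (Bs i) K), P.valuation K v < 1) :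
    ∃ N : ℕ, 0 < N ∧ ∀ i, ∃ h : v ^ N ∈ Bs i, (⟨v ^ N, h⟩ : Bs i) ∈ (⊥ : Ideal (Bs i)).jacobson := by
  choose n hn using fun i => exists_pow_mem_jacobson (Bs i) (hnf i) v (hv i)
  have hpos : 0 < ∏ i, (n i + 1) := Finset.prod_pos fun i _ => Nat.succ_pos _
  exact ⟨_, hpos, fun i => hn i _ (Finset.dvd_prod_of_mem _ (Finset.mem_univ i)) hpos⟩

theorem exists_inverse_in_jacobson [∀ i, Ring.KrullDimLE 1 (Bs i)] (hnf : ∀ i, ¬ IsField (Bs i))
    (hsl : ∀ i, Finite (MaximalSpectrum (Bs i))) (A : Subring K) (hgen : ∀ i, A ⊔ Bs i = ⊤)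
    (j : A) (hj : j ≠ 0) :
    ∃ y : A, y ∈ Ideal.span {j} ∧ ∀ i, haveI := isDedekindDomain_integralClosure (B := Bs i) (K := K)
      ∀ P : HeightOneSpectrum (integralClosure (Bs i) K), 1 < P.valuation K (y : K) := by
  classical
  have hd : ∀ i, IsDedekindDomain (integralClosure (Bs i) K) := fun i =>
    isDedekindDomain_integralClosure (B := Bs i) (K := K)
  have := fun i => finite_heightOne (Bs i) (hsl i) (hnf i)
  have := fun i => Fintype.ofFinite (HeightOneSpectrum (integralClosure (Bs i) K))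
  have hfr : ∀ i, IsFractionRing (integralClosure (Bs i) K) K := fun i =>
    integralClosure.isFractionRing_of_finite_extension K K
  obtain ⟨y, hy, hys⟩ := exists_common_pole_mul A
    (Finset.univ : Finset (Σ i, HeightOneSpectrum (integralClosure (Bs i) K)))
    (fun p => p.2.valuation K) (fun p _ => exists_pole_of_sup_eq_top (Bs p.1) A (hgen p.1) p.2) j hj
  exact ⟨y, hy, fun i P => hys ⟨i, P⟩ (Finset.mem_univ _)⟩

/-- A unit of `A` that lies in the Jacobson radical of each `Bs i`. -/
theorem exists_unit_in_jacobson [∀ i, Ring.KrullDimLE 1 (Bs i)] (hnf : ∀ i, ¬ IsField (Bs i))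
    (hsl : ∀ i, Finite (MaximalSpectrum (Bs i))) (A : Subring K) [IsNoetherianRing A] [IsFractionRing A K] [Ring.KrullDimLE 1 A]
    (hnfA : ¬ IsField A) (hslA : Finite (MaximalSpectrum A)) (hgen : ∀ i, A ⊔ Bs i = ⊤) :
    ∃ s : A, IsUnit s ∧ ∀ i, ∃ h : (s : K) ∈ Bs i, (⟨(s : K), h⟩ : Bs i) ∈ (⊥ : Ideal (Bs i)).jacobson := by
  obtain ⟨j, hj, hjJ⟩ := exists_ne_zero_mem_jacobson (B := A) hslA hnfA
  obtain ⟨y, hy, hys⟩ := exists_inverse_in_jacobson Bs hnf hsl A hgen j hj
  have hyJ : y ∈ (⊥ : Ideal A).jacobson := (Ideal.span_singleton_le_iff_mem _).mpr hjJ hy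
  have hu : IsUnit (1 + y) := by
    have := Ideal.mem_jacobson_bot.mp hyJ 1
    rwa [mul_one, add_comm] at this
  obtain ⟨v, hv⟩ := hu.exists_left_inv
  have hval : ∀ i, haveI := isDedekindDomain_integralClosure (B := Bs i) (K := K)
      ∀ P : HeightOneSpectrum (integralClosure (Bs i) K), P.valuation K (v : K) < 1 := by
    intro i P
    have hd := isDedekindDomain_integralClosure (B := Bs i) (K := K)
    have : IsFractionRing (integralClosure (Bs i) K) K := integralClosure.isFractionRing_of_finite_extension K K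
    have h := congrArg (fun z : A => P.valuation K (z : K)) hv
    simp only [Subring.coe_mul, Subring.coe_add, Subring.coe_one, map_mul, map_one] at h
    rw [(P.valuation K).map_add_eq_of_lt_right (by rw [map_one]; exact hys i P)] at h
    by_contra hc
    rw [not_lt] at hc
    exact absurd h (ne_of_gt (lt_of_lt_of_le (hys i P) (le_mul_of_one_le_left' hc)))
  obtain ⟨N, -, hN⟩ := exists_uniform_pow Bs hnf (v : K) hval
  exact ⟨v ^ N, (IsUnit.of_mul_eq_one _ hv).pow N, fun i => by
    obtain ⟨h, h'⟩ := hN i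
    exact ⟨by rwa [SubmonoidClass.coe_pow], by simpa [SubmonoidClass.coe_pow] using h'⟩⟩

end Family

theorem exists_mul_pow_mem [Ring.KrullDimLE 1 B] {b : B} (hb : b ∈ (⊥ : Ideal B).jacobson) (x : K) :
    ∃ n : ℕ, ∀ m ≥ n, x * (b : K) ^ m ∈ B := by
  obtain ⟨n, z, hz⟩ := exists_mul_pow_mem_range (B := B) (K := K) hb x
  refine ⟨n, fun m hm => ?_⟩
  obtain ⟨d, rfl⟩ := Nat.exists_eq_add_of_le hm
  rw [pow_add, ← mul_assoc]
  exact B.mul_mem (by rw [show x * (b : K) ^ n = (z : K) from hz.symm]; exact z.2) (B.pow_mem b.2 d)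

section Away

variable {R A : Subring K} (h : R ≤ A)

theorem isLocalizationAway_inclusion (s : R) (hs : IsUnit (Subring.inclusion h s))
    (hA : ∀ a : A, ∃ n : ℕ, (a : K) * (s : K) ^ n ∈ R) :
    letI := (Subring.inclusion h).toAlgebra
    IsLocalization.Away s A := by
  let := (Subring.inclusion h).toAlgebra
  refine IsLocalization.Away.mk s hs (fun a => ?_) (fun a b e => ?_)
  · obtain ⟨n, hn⟩ := hA a
    exact ⟨n, ⟨_, hn⟩, Subtype.ext rfl⟩
  · refine ⟨0, ?_⟩
    have : (a : K) = b := congrArg (fun z : A => (z : K)) e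
    rw [Subtype.ext this]

theorem isOpenImmersion_and_range (s : R) (hs : IsUnit (Subring.inclusion h s))
    (hA : ∀ a : A, ∃ n : ℕ, (a : K) * (s : K) ^ n ∈ R) :
    IsOpenImmersion (Spec.map (CommRingCat.ofHom (Subring.inclusion h))) ∧
      Set.range (Spec.map (CommRingCat.ofHom (Subring.inclusion h))).base =
        (PrimeSpectrum.basicOpen s : Set (PrimeSpectrum R)) := by
  let := (Subring.inclusion h).toAlgebra
  have := isLocalizationAway_inclusion h s hs hA
  exact ⟨IsOpenImmersion.of_isLocalization (S := A) s,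
    PrimeSpectrum.localization_away_comap_range A s⟩

end Away

end Groth.Agent.H22Alg
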