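import Mathlib
import Groth.Agent.H22Alg.SemilocalGlue
import Groth.Agent.H22Alg.DimOneDiv
import Groth.Agent.H11Val.Dominating
import Groth.Agent.H11Ample.Tensor
import Groth.Agent.H11Tilde.TwistInv
import Groth.Agent.H11Ample.Global
import Groth.Agent.H28Int.Positive

/-!
# A pencil cutting out an affine open with finite complement
-/

set_option autoImplicit false
set_option linter.style.haveILetI false
universe u

open CategoryTheory CategoryTheory.Limits AlgebraicGeometry Opposite TopologicalSpace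
open Groth.Agent

namespace Groth.Agent.H22Alg.DimOnePencil

variable {X : Scheme.{u}}

section field

variable [IsIntegral X]

/-- The local ring at a point inside the function field. -/
noncomputable abbrev Bx (x : X) : Subring X.functionField :=
  (algebraMap (X.presheaf.stalk x) X.functionField).range

/-- The local ring at a point is isomorphic to its image in the function field. -/
noncomputable def eqBx (x : X) : X.presheaf.stalk x ≃+* Bx x :=
  RingEquiv.ofBijective (algebraMap (X.presheaf.stalk x) X.functionField).rangeRestrict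
    ⟨fun a b h => IsFractionRing.injective (X.presheaf.stalk x) X.functionField (congrArg Subtype.val h),
      RingHom.rangeRestrict_surjective _⟩

theorem isFractionRing_Bx (x : X) : IsFractionRing (Bx x) X.functionField := by
  rw [IsFractionRing]
  haveI : IsLocalization (nonZeroDivisors (X.presheaf.stalk x)) X.functionField :=
    inferInstanceAs (IsFractionRing (X.presheaf.stalk x) X.functionField)
  refine (isLocalization_iff _ _).2 ⟨fun y => ?_, fun z => ?_, fun {a b} h => ⟨1, ?_⟩⟩
  · exact isUnit_iff_ne_zero.2 fun h => nonZeroDivisors.ne_zero y.2 (Subtype.ext h)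
  · obtain ⟨⟨a, s⟩, h⟩ := IsLocalization.surj (nonZeroDivisors (X.presheaf.stalk x)) z
    refine ⟨⟨eqBx x a, ⟨eqBx x s, mem_nonZeroDivisors_iff_ne_zero.2 fun h0 =>
      nonZeroDivisors.ne_zero s.2 ((map_eq_zero_iff _ (eqBx x).injective).1 h0)⟩⟩, h⟩
  · rw [show a = b from Subtype.ext h]

/-- A separated scheme: the functions on an affine open and a one-dimensional local ring at a point
outside it generate the function field. -/
theorem sup_eq_top [X.IsSeparated] {U : X.Opens} (hU : IsAffineOpen U) [Nonempty U] {x : X} (hx : x ∉ U)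
    [Ring.KrullDimLE 1 (X.presheaf.stalk x)] :
    (X.germToFunctionField U).hom.range ⊔ Bx x = ⊤ := by
  classical
  let A := (X.germToFunctionField U).hom.range
  let C := A ⊔ Bx x
  by_contra hC
  have hex : ∃ b : X.presheaf.stalk x, b ≠ 0 ∧ ∀ c ∈ C, algebraMap _ X.functionField b * c ≠ 1 := by
    by_contra hno
    push Not at hno
    refine hC (eq_top_iff.2 fun z _ => ?_)
    obtain ⟨a, b, hb, rfl⟩ := IsFractionRing.div_surjective (X.presheaf.stalk x) z
    obtain ⟨c, hc, hbc⟩ := hno b (nonZeroDivisors.ne_zero hb)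
    rw [div_eq_mul_inv, show (algebraMap _ X.functionField b)⁻¹ = c from inv_eq_of_mul_eq_one_right hbc]
    exact C.mul_mem (le_sup_right (a := A) ⟨a, rfl⟩) hc
  obtain ⟨b, hb0, hb⟩ := hex
  let bC : C := ⟨algebraMap _ X.functionField b, le_sup_right (a := A) ⟨b, rfl⟩⟩
  have hnu : bC ∈ nonunits C := fun hu => by
    obtain ⟨c, hc⟩ := hu.exists_right_inv
    exact hb c c.2 (congrArg Subtype.val hc)
  obtain ⟨q, hq, hbq⟩ := exists_max_ideal_of_mem_nonunits hnu
  obtain ⟨V, hV⟩ := H11Val.exists_valuationSubring_center C.subtype Subtype.val_injective q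
  -- the two maps from the valuation ring
  let φA : Γ(X, U) →+* V := (X.germToFunctionField U).hom.codRestrict V.toSubring
    fun a => (hV ⟨_, le_sup_left (b := Bx x) ⟨a, rfl⟩⟩).1
  let φB : X.presheaf.stalk x →+* V := (algebraMap (X.presheaf.stalk x) X.functionField).codRestrict V.toSubring
    fun a => (hV ⟨_, le_sup_right (a := A) ⟨a, rfl⟩⟩).1
  let l₁ : Spec (CommRingCat.of V) ⟶ X := Spec.map (CommRingCat.ofHom φA) ≫ hU.fromSpec
  let l₂ : Spec (CommRingCat.of V) ⟶ X := Spec.map (CommRingCat.ofHom φB) ≫ X.fromSpecStalk x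
  let j : Spec (CommRingCat.of X.functionField) ⟶ Spec (CommRingCat.of V) :=
    Spec.map (CommRingCat.ofHom (algebraMap V X.functionField))
  have hη : genericPoint X ∈ U := ((genericPoint_spec X).mem_open_set_iff U.isOpen).2 (by
    obtain ⟨u⟩ := (inferInstance : Nonempty U)
    exact ⟨u.1, by simpa using u.2⟩)
  have h₁ : j ≫ l₁ = X.fromSpecStalk (genericPoint X) := by
    rw [← hU.fromSpecStalk_eq_fromSpecStalk hη, IsAffineOpen.fromSpecStalk, ← Category.assoc, ← Spec.map_comp]
    rfl
  have h₂ : j ≫ l₂ = X.fromSpecStalk (genericPoint X) := by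
    rw [← Scheme.SpecMap_stalkSpecializes_fromSpecStalk ((genericPoint_spec X).specializes trivial : genericPoint X ⤳ x),
      ← Category.assoc, ← Spec.map_comp]
    rfl
  have heq : l₁ = l₂ := by
    haveI : IsSeparated (terminal.from X) := Scheme.IsSeparated.isSeparated_terminal_from
    let S : ValuativeCommSq (terminal.from X) :=
      { R := V
        K := X.functionField
        i₁ := X.fromSpecStalk (genericPoint X)
        i₂ := terminal.from _
        commSq := ⟨terminal.hom_ext _ _⟩ }
    exact congrArg CommSq.LiftStruct.l ((IsSeparated.valuativeCriterion (terminal.from X) S).elim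
      ⟨l₁, h₁, terminal.hom_ext _ _⟩ ⟨l₂, h₂, terminal.hom_ext _ _⟩)
  -- the closed point
  have hloc : IsLocalHom φB := by
    have hne : Ideal.comap φB (IsLocalRing.maximalIdeal V) ≠ ⊥ := fun h0 => hb0 (by
      rw [← Ideal.mem_bot, ← h0, Ideal.mem_comap]
      exact (V.valuation_lt_one_iff (φB b)).2 ((hV bC).2.1 hbq))
    haveI : (Ideal.comap φB (IsLocalRing.maximalIdeal V)).IsMaximal :=
      (Ring.krullDimLE_one_iff_of_isPrime_bot (R := X.presheaf.stalk x)).1 inferInstance _ hne inferInstance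
    exact ((IsLocalRing.local_hom_TFAE φB).out 0 4).2 (IsLocalRing.eq_maximalIdeal inferInstance)
  have hpt : l₂ (IsLocalRing.closedPoint V) = x := by
    rw [Scheme.Hom.comp_apply]
    haveI : IsLocalHom (CommRingCat.ofHom φB).hom := hloc
    erw [Spec_closedPoint]
    exact Scheme.fromSpecStalk_closedPoint
  refine hx ?_
  rw [← hpt, ← heq, Scheme.Hom.comp_apply, ← SetLike.mem_coe, ← hU.range_fromSpec]
  exact Set.mem_range_self _

/-- A function on the affine open with large poles at all the missing points. -/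
theorem exists_pole_function [X.IsSeparated] {U : X.Opens} (hU : IsAffineOpen U) [Nonempty U]
    {ι : Type} [Fintype ι] [Nonempty ι] (p : ι → X) (hp : ∀ i, p i ∉ U)
    (hloc : ∀ i, IsNoetherianRing (X.presheaf.stalk (p i)) ∧ ringKrullDim (X.presheaf.stalk (p i)) = 1) :
    ∃ f : Γ(X, U), X.germToFunctionField U f ≠ 0 ∧ ∀ i, ∃ g : X.presheaf.stalk (p i),
      g ∈ IsLocalRing.maximalIdeal (X.presheaf.stalk (p i)) ∧
      algebraMap _ X.functionField g * X.germToFunctionField U f = 1 := by
  classical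
  haveI := fun i => (hloc i).1
  haveI : ∀ i, Ring.KrullDimLE 1 (X.presheaf.stalk (p i)) := fun i =>
    (Ring.krullDimLE_iff (n := 1)).2 (le_of_eq (hloc i).2)
  haveI : ∀ i, IsNoetherianRing (Bx (p i)) := fun i => isNoetherianRing_of_ringEquiv _ (eqBx (p i))
  haveI : ∀ i, IsFractionRing (Bx (p i)) X.functionField := fun i => isFractionRing_Bx (p i)
  have hdim : ∀ i, ringKrullDim (Bx (p i)) = 1 := fun i => by
    rw [← ringKrullDim_eq_of_ringEquiv (eqBx (p i))]; exact (hloc i).2
  haveI : ∀ i, Ring.KrullDimLE 1 (Bx (p i)) := fun i => krullDimLE_one_of_dim_eq _ (hdim i)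
  haveI : ∀ i, IsLocalRing (Bx (p i)) := fun i => (eqBx (p i)).isLocalRing
  have hsl : ∀ i, Finite (MaximalSpectrum (Bx (p i))) := fun i => by
    haveI : Subsingleton (MaximalSpectrum (Bx (p i))) := ⟨fun a b => MaximalSpectrum.ext
      ((IsLocalRing.eq_maximalIdeal a.isMaximal).trans (IsLocalRing.eq_maximalIdeal b.isMaximal).symm)⟩
    infer_instance
  let A := (X.germToFunctionField U).hom.range
  obtain ⟨y, -, hy⟩ := exists_inverse_in_jacobson (fun i => Bx (p i)) (fun i => not_isField_of_dim_eq _ (hdim i))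
    hsl A (fun i => sup_eq_top hU (hp i)) 1 one_ne_zero
  have hv : ∀ i, haveI := isDedekindDomain_integralClosure (B := Bx (p i)) (K := X.functionField)
      ∀ P : IsDedekindDomain.HeightOneSpectrum (integralClosure (Bx (p i)) X.functionField),
        P.valuation X.functionField ((y : X.functionField)⁻¹) < 1 := fun i P => by
    haveI := isDedekindDomain_integralClosure (B := Bx (p i)) (K := X.functionField)
    haveI : IsFractionRing (integralClosure (Bx (p i)) X.functionField) X.functionField :=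
      integralClosure.isFractionRing_of_finite_extension X.functionField X.functionField
    rw [map_inv₀]
    exact inv_lt_one_of_one_lt₀ (hy i P)
  obtain ⟨N, hN, hjac⟩ := exists_uniform_pow (fun i => Bx (p i)) (fun i => not_isField_of_dim_eq _ (hdim i))
    (y : X.functionField)⁻¹ hv
  obtain ⟨f, hf⟩ := (A.pow_mem y.2 N : (y : X.functionField) ^ N ∈ A)
  replace hf : X.germToFunctionField U f = (y : X.functionField) ^ N := hf
  have hy0 : (y : X.functionField) ≠ 0 := by
    intro h0
    obtain ⟨i⟩ := (inferInstance : Nonempty ι)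
    haveI := isDedekindDomain_integralClosure (B := Bx (p i)) (K := X.functionField)
    obtain ⟨m, hm⟩ := Ideal.exists_maximal (integralClosure (Bx (p i)) X.functionField)
    have hne : m ≠ ⊥ := fun e => not_isField_of_dim_eq _ (hdim i)
      (isField_of_isIntegral_of_isField (R := Bx (p i))
        (fun a b h => Subtype.ext (congrArg (fun z : integralClosure (Bx (p i)) X.functionField => (z : X.functionField)) h))
        (Ring.isField_iff_maximal_bot.mpr (e ▸ hm)))
    have := hy i ⟨m, hm.isPrime, hne⟩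
    rw [h0, map_zero] at this
    exact absurd this not_lt_zero
  refine ⟨f, by rw [hf]; exact pow_ne_zero _ hy0, fun i => ?_⟩
  obtain ⟨h, hJ⟩ := hjac i
  obtain ⟨g, hg⟩ := h
  refine ⟨g, ?_, ?_⟩
  · rw [IsLocalRing.jacobson_eq_maximalIdeal ⊥ bot_ne_top] at hJ
    rw [IsLocalRing.mem_maximalIdeal, mem_nonunits_iff] at hJ ⊢
    intro hu
    refine hJ ?_
    rw [show (⟨_, ⟨g, hg⟩⟩ : Bx (p i)) = eqBx (p i) g from Subtype.ext hg.symm]
    exact hu.map _
  · rw [hf, hg, inv_pow, inv_mul_cancel₀ (pow_ne_zero _ hy0)]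

end field

/-- The effective Cartier divisor of a function with closed zero locus on an affine open. -/
theorem exists_effIdeal (U : X.affineOpens) (f : Γ(X, U.1))
    (hcl : IsClosed ((U.1 : Set X) \ X.basicOpen f)) :
    ∃ I : X.IdealSheafData, I.ideal U = Ideal.span {f} ∧
      ∀ W : X.affineOpens, Disjoint (W.1 : Set X) ((U.1 : Set X) \ X.basicOpen f) → I.ideal W = ⊤ := by
  let q : Γ(X, U.1) ⟶ CommRingCat.of (Γ(X, U.1) ⧸ Ideal.span {f}) := CommRingCat.ofHom (Ideal.Quotient.mk _)
  let i : Spec (CommRingCat.of (Γ(X, U.1) ⧸ Ideal.span {f})) ⟶ X := Spec.map q ≫ U.2.fromSpec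
  haveI : IsClosedImmersion (Spec.map q) := IsClosedImmersion.spec_of_surjective _ Ideal.Quotient.mk_surjective
  have hr : Set.range i = (U.1 : Set X) \ X.basicOpen f := by
    show Set.range (Spec.map q ≫ U.2.fromSpec) = _
    rw [Scheme.Hom.comp_base, TopCat.coe_comp, Set.range_comp]
    have h1 : Set.range (Spec.map q) = (PrimeSpectrum.basicOpen f : Set (PrimeSpectrum Γ(X, U.1)))ᶜ := by
      refine (_root_.range_comap_of_surjective _ q.hom Ideal.Quotient.mk_surjective).trans ?_
      rw [show RingHom.ker q.hom = Ideal.span {f} from Ideal.mk_ker, PrimeSpectrum.zeroLocus_span,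
        PrimeSpectrum.basicOpen_eq_zeroLocus_compl, compl_compl]
    rw [h1]
    ext y
    constructor
    · rintro ⟨p, hp, rfl⟩
      refine ⟨U.2.range_fromSpec ▸ Set.mem_range_self p, fun h => hp ?_⟩
      show p ∈ PrimeSpectrum.basicOpen f
      rw [← U.2.fromSpec_preimage_basicOpen]
      exact h
    · rintro ⟨hy, hn⟩
      obtain ⟨p, rfl⟩ : y ∈ Set.range U.2.fromSpec := by rw [U.2.range_fromSpec]; exact hy
      refine ⟨p, fun h => hn ?_, rfl⟩
      change p ∈ PrimeSpectrum.basicOpen f at h
      rw [← U.2.fromSpec_preimage_basicOpen] at h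
      exact h
  haveI : IsClosedImmersion i := IsClosedImmersion.of_isPreimmersion i (hr ▸ hcl)
  refine ⟨i.ker, ?_, fun W hW => ?_⟩
  · rw [Scheme.Hom.ker_apply]
    have e : i ⁻¹ᵁ U.1 = ⊤ := by
      show Spec.map q ⁻¹ᵁ U.2.fromSpec ⁻¹ᵁ U.1 = ⊤
      rw [U.2.fromSpec_preimage_self]; rfl
    let ψ := i.appLE U.1 ⊤ e.ge ≫ (Scheme.ΓSpecIso _).hom
    have hψ : ψ = q := by
      show i.appLE U.1 ⊤ e.ge ≫ _ = q
      rw [Scheme.Hom.comp_appLE, U.2.fromSpec_app_self, Category.assoc, Category.assoc, Scheme.Hom.map_appLE_assoc]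
      erw [Scheme.Hom.appLE_eq_app]
      exact (congrArg _ (Scheme.ΓSpecIso_naturality q)).trans (Iso.inv_hom_id_assoc _ _)
    let κ := (Spec (CommRingCat.of (Γ(X, U.1) ⧸ Ideal.span {f}))).presheaf.map (homOfLE e.ge).op ≫
      (Scheme.ΓSpecIso _).hom
    haveI : IsIso ((Spec (CommRingCat.of (Γ(X, U.1) ⧸ Ideal.span {f}))).presheaf.map (homOfLE e.ge).op) := by
      rw [show (homOfLE e.ge) = eqToHom e.symm from Subsingleton.elim _ _]; infer_instance
    have hb : Function.Injective κ.hom := (ConcreteCategory.bijective_of_isIso κ).1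
    ext a
    rw [RingHom.mem_ker, ← map_eq_zero_iff _ hb, ← Ideal.Quotient.eq_zero_iff_mem]
    rw [show Ideal.Quotient.mk (Ideal.span {f}) a = q.hom a from rfl, ← hψ]
    rfl
  · rw [Scheme.Hom.ker_apply, eq_top_iff]
    intro a _
    rw [RingHom.mem_ker]
    haveI : Subsingleton Γ(Spec (CommRingCat.of (Γ(X, U.1) ⧸ Ideal.span {f})), i ⁻¹ᵁ W.1) := by
      have hemp : i ⁻¹ᵁ W.1 = ⊥ := Opens.ext (Set.eq_empty_iff_forall_notMem.2 fun z hz =>
        Set.disjoint_left.1 hW hz (hr ▸ Set.mem_range_self z))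
      rw [hemp]; infer_instance
    exact Subsingleton.elim _ _

/-- The module of an effective Cartier divisor, with its local equations. -/
theorem exists_section_equations {I : X.IdealSheafData} (hI : BlowUp.IsEffCartierIdeal I) :
    ∃ (M : X.Modules) (t : Γ(M, ⊤)), PicF.IsInvertible M ∧
      ∀ (x : X) (O : X.Opens), x ∈ O → ∃ (W : X.Opens) (hW : IsAffineOpen W) (e : Γ(M, W)) (a : Γ(X, W)),
        x ∈ W ∧ W ≤ O ∧ H11Tilde.IsGen M e ∧
        M.presheaf.map (homOfLE (le_top : W ≤ ⊤)).op t = a • e ∧ I.ideal ⟨W, hW⟩ = Ideal.span {a} := by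
  have hF : PicF.IsInvertible (ClSub.idealMod I) := H29Blow.isInvertible_of_isEffCartierIdeal I hI
  refine ⟨RefHull.dual (ClSub.idealMod I), RefHull.ofHom (ClSub.idealModι I) ⊤,
    H8Props.DivisorSection.isInvertible_dual hF, fun x O hxO => ?_⟩
  obtain ⟨V, e₀, hxV, he₀⟩ := H11Ample.exists_gen hF x
  obtain ⟨U, hU, hxU, hUV⟩ := exists_isAffineOpen_mem_and_subset (U := V ⊓ O) (x := x) ⟨hxV, hxO⟩
  have hUV' : U ≤ V := fun z hz => (hUV hz).1
  let e : Γ(ClSub.idealMod I, U) := (ClSub.idealMod I).presheaf.map (homOfLE hUV').op e₀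
  have he : H11Tilde.IsGen (ClSub.idealMod I) e := he₀.res hUV'
  obtain ⟨s, hs, hsgen⟩ := H8Props.DivisorSection.exists_dual_gen he
  refine ⟨U, hU, s, OmegaSh.idealSect I U e, hxU, fun z hz => (hUV hz).2, hsgen, ?_, ?_⟩
  · refine Eq.trans ?_ (H8Props.DivisorSection.ofHom_eq_smul he s hs (ClSub.idealModι I))
    rfl
  · refine le_antisymm (fun b hb => ?_) ?_
    · obtain ⟨m, rfl⟩ := (H29Blow.mem_ideal_iff_exists_idealSect I hU b).1 hb
      obtain ⟨r, rfl⟩ := H11Ample.exists_coeff he m
      rw [H29Blow.idealSect_smul]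
      exact Ideal.mul_mem_left _ r (Ideal.mem_span_singleton_self _)
    · rw [Ideal.span_le, Set.singleton_subset_iff]
      exact (H29Blow.mem_ideal_iff_exists_idealSect I hU _).2 ⟨e, rfl⟩

/-- Global sections whose generation loci cover generate. -/
theorem isGloballyGenerated_of_gen {L : X.Modules} (hL : PicF.IsInvertible L)
    (h : ∀ x : X, ∃ g : Γ(L, ⊤), x ∈ H11Ample.gen L g) : Curv2.IsGloballyGenerated L := by
  refine H11Ample.isGloballyGenerated_of_locally L (fun g : Γ(L, ⊤) => g) fun W t x hx => ?_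
  obtain ⟨g, hg⟩ := h x
  have he : H11Tilde.IsGen L (L.presheaf.map (homOfLE (le_top : W ⊓ H11Ample.gen L g ≤ ⊤)).op g) :=
    fun z hz => by
      refine (congrArg Function.Bijective (funext fun r => ?_)).mp ((H11Ample.mem_gen_iff hL g z).1 hz.2)
      rw [TopCat.Presheaf.germ_res_apply]
  obtain ⟨c, hc⟩ := H11Ample.exists_coeff he (L.presheaf.map (homOfLE (inf_le_left : W ⊓ H11Ample.gen L g ≤ W)).op t)
  refine ⟨W ⊓ H11Ample.gen L g, inf_le_left, ⟨hx, hg⟩, ?_⟩
  rw [show L.presheaf.map _ t = c • L.presheaf.map (homOfLE (le_top : W ⊓ H11Ample.gen L g ≤ ⊤)).op g from hc]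
  exact Submodule.smul_mem _ _ (Submodule.subset_span ⟨g, rfl⟩)

theorem genericPoint_mem [IsIntegral X] {V : X.Opens} {x : X} (hx : x ∈ V) : genericPoint X ∈ V :=
  ((genericPoint_spec X).specializes trivial).mem_open V.isOpen hx

/-- Sections of an invertible module on an integral scheme are determined at the generic point. -/
theorem eq_of_germ_genericPoint [IsIntegral X] {L : X.Modules} (hL : PicF.IsInvertible L) {V : X.Opens}
    (hη : genericPoint X ∈ V) {s t : Γ(L, V)}
    (h : L.presheaf.germ V _ hη s = L.presheaf.germ V _ hη t) : s = t := by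
  refine TopCat.Presheaf.section_ext (⟨L.presheaf, L.isSheaf⟩ : TopCat.Sheaf AddCommGrpCat.{u} X.toTopCat)
    V s t fun x hx => ?_
  obtain ⟨W, e, hxW, he⟩ := H11Ample.exists_gen hL x
  let O := V ⊓ W
  have heO : H11Tilde.IsGen L (L.presheaf.map (homOfLE (inf_le_right : O ≤ W)).op e) := he.res inf_le_right
  obtain ⟨a, ha⟩ := H11Ample.exists_coeff heO (L.presheaf.map (homOfLE (inf_le_left : O ≤ V)).op s)
  obtain ⟨b, hb⟩ := H11Ample.exists_coeff heO (L.presheaf.map (homOfLE (inf_le_left : O ≤ V)).op t)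
  have hηO : genericPoint X ∈ O := genericPoint_mem (V := O) ⟨hx, hxW⟩
  haveI : Nonempty O := ⟨⟨x, hx, hxW⟩⟩
  have hab : a = b := by
    refine X.germToFunctionField_injective O ((heO _ hηO).1 ?_)
    show X.presheaf.germ O _ hηO a • L.presheaf.germ O _ hηO _ = X.presheaf.germ O _ hηO b • L.presheaf.germ O _ hηO _
    rw [← H06Mod.germ_smul, ← H06Mod.germ_smul, ← ha, ← hb, TopCat.Presheaf.germ_res_apply,
      TopCat.Presheaf.germ_res_apply]
    exact h
  refine (TopCat.Presheaf.germ_res_apply L.presheaf (homOfLE (inf_le_left : O ≤ V)) x ⟨hx, hxW⟩ s).symm.trans ?_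
  rw [ha, hab, ← hb]
  exact TopCat.Presheaf.germ_res_apply _ _ _ _ _

/-- A pencil cutting out an affine open with finite complement. -/
theorem exists_pencil [IsIntegral X] [X.IsSeparated] {U : X.Opens} (hU : IsAffineOpen U) [Nonempty U]
    (hfin : ((U : Set X)ᶜ).Finite)
    (hloc : ∀ x : X, x ∉ U → IsNoetherianRing (X.presheaf.stalk x) ∧ ringKrullDim (X.presheaf.stalk x) = 1) :
    ∃ (L : X.Modules) (t : Γ(L, ⊤)), PicF.IsInvertible L ∧ Curv2.IsGloballyGenerated L ∧
      H11Ample.gen L t = U := by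
  classical
  rcases isEmpty_or_nonempty ↥((U : Set X)ᶜ) with hZ | hZ
  · have hUtop : U = ⊤ := Opens.ext (Set.eq_univ_of_forall fun x => by
      by_contra h
      exact hZ.false ⟨x, h⟩)
    have hg : H11Ample.gen (Coh.structureModule X) (H11Ample.one ⊤) = ⊤ :=
      Opens.ext (Set.eq_univ_of_forall fun x => H11Ample.mem_gen_of_isGen (W := ⊤) (y := x)
        (by rw [H10Coh.mres_self]; exact H11Ample.isGen_one ⊤) trivial)
    have hinv := H28Int.isInvertible_structureModule X
    exact ⟨Coh.structureModule X, H11Ample.one ⊤, hinv,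
      isGloballyGenerated_of_gen hinv fun x => ⟨H11Ample.one ⊤, by rw [hg]; trivial⟩, hg.trans hUtop.symm⟩
  haveI : Fintype ↥((U : Set X)ᶜ) := hfin.fintype
  obtain ⟨n, ⟨σ⟩⟩ := Finite.exists_equiv_fin ↥((U : Set X)ᶜ)
  let p : Fin n → X := fun i => (σ.symm i).1
  haveI : Nonempty (Fin n) := ⟨σ hZ.some⟩
  have hp : ∀ i, p i ∉ U := fun i => (σ.symm i).2
  have hpsurj : ∀ z : X, z ∉ U → ∃ i, p i = z := fun z hz => ⟨σ ⟨z, hz⟩, by simp [p]⟩
  obtain ⟨f, hf0, hf⟩ := exists_pole_function hU p hp fun i => hloc _ (hp i)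
  -- points outside `U` are closed
  have hclosed : ∀ z : X, z ∉ U → IsClosed ({z} : Set X) := by
    intro z hz
    refine isClosed_of_closure_subset fun y hy => ?_
    have hzy : z ⤳ y := specializes_iff_mem_closure.2 hy
    have hyU : y ∉ U := fun h => hz (hzy.mem_open U.isOpen h)
    by_contra hne
    haveI : Ring.KrullDimLE 1 (X.presheaf.stalk y) :=
      (Ring.krullDimLE_iff (n := 1)).2 (le_of_eq (hloc y hyU).2)
    let P := Ideal.comap (X.presheaf.stalkSpecializes hzy).hom (IsLocalRing.maximalIdeal (X.presheaf.stalk z))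
    have hpt : X.fromSpecStalk y ⟨P, inferInstance⟩ = z := by
      have := congrArg (fun φ : _ ⟶ X => φ (IsLocalRing.closedPoint (X.presheaf.stalk z)))
        (Scheme.SpecMap_stalkSpecializes_fromSpecStalk hzy)
      simp only [Scheme.Hom.comp_apply, Scheme.fromSpecStalk_closedPoint] at this
      exact this
    by_cases hP : P = ⊥
    · obtain ⟨i, rfl⟩ := hpsurj z hz
      obtain ⟨g, hg, hgf⟩ := hf i
      have hg0 : g ≠ 0 := fun h0 => by rw [h0, map_zero, zero_mul] at hgf; exact zero_ne_one hgf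
      obtain ⟨⟨a, b⟩, hab⟩ := IsLocalization.surj (nonZeroDivisors (X.presheaf.stalk y))
        (algebraMap _ X.functionField g)
      have hcomp : ∀ r, algebraMap (X.presheaf.stalk (p i)) X.functionField ((X.presheaf.stalkSpecializes hzy).hom r) =
          algebraMap (X.presheaf.stalk y) X.functionField r := fun r => by
        show (X.presheaf.stalkSpecializes hzy ≫ X.presheaf.stalkSpecializes _).hom r = _
        rw [TopCat.Presheaf.stalkSpecializes_comp]
        rfl
      have h2 : g * (X.presheaf.stalkSpecializes hzy).hom b = (X.presheaf.stalkSpecializes hzy).hom a := by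
        refine IsFractionRing.injective (X.presheaf.stalk (p i)) X.functionField ?_
        rw [map_mul, hcomp, hcomp]
        exact hab
      have ha : a ∈ P := Ideal.mem_comap.2 (h2 ▸ Ideal.mul_mem_right _ _ hg)
      rw [hP, Ideal.mem_bot] at ha
      rw [ha, map_zero] at hab
      exact hg0 ((map_eq_zero_iff _ (IsFractionRing.injective _ X.functionField)).1
        ((mul_eq_zero.1 hab).resolve_right (IsLocalization.to_map_ne_zero_of_mem_nonZeroDivisors _ le_rfl b.2)))
    · have hmax : P.IsMaximal := (Ring.krullDimLE_one_iff_of_isPrime_bot (R := X.presheaf.stalk y)).1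
        inferInstance P hP inferInstance
      refine hne (?_ : y = z)
      rw [← hpt, show (⟨P, inferInstance⟩ : PrimeSpectrum _) = IsLocalRing.closedPoint _ from
        PrimeSpectrum.ext (IsLocalRing.eq_maximalIdeal hmax)]
      exact Scheme.fromSpecStalk_closedPoint.symm
  -- neighbourhoods carrying the inverse of `f`
  have hnbhd : ∀ i, ∃ (V : X.affineOpens) (g : Γ(X, V.1)) (hi : p i ∈ V.1),
      p i ∉ X.basicOpen g ∧ (∀ j, p j ∈ V.1 → p j = p i) ∧
      X.presheaf.germ V.1 _ (genericPoint_mem hi) g * X.germToFunctionField U f = 1 := by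
    intro i
    obtain ⟨g, hg, hgf⟩ := hf i
    obtain ⟨W, hW, g', rfl⟩ := X.presheaf.exists_germ_eq g
    have hS : ({z : X | z ∉ U ∧ z ≠ p i}).Finite := hfin.subset fun z hz => hz.1
    have hScl : IsClosed {z : X | z ∉ U ∧ z ≠ p i} := by
      rw [← Set.biUnion_of_singleton {z : X | z ∉ U ∧ z ≠ p i}]
      exact hS.isClosed_biUnion fun z hz => hclosed z hz.1
    obtain ⟨V, hV, hiV, hVW⟩ := exists_isAffineOpen_mem_and_subset (x := p i)
      (U := W ⊓ ⟨_, hScl.isOpen_compl⟩) ⟨hW, fun h => h.2 rfl⟩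
    have hVW' : V ≤ W := fun z hz => (hVW hz).1
    refine ⟨⟨V, hV⟩, X.presheaf.map (homOfLE hVW').op g', hiV, ?_, fun j hj => ?_, ?_⟩
    · rw [X.mem_basicOpen _ _ hiV, TopCat.Presheaf.germ_res_apply]
      exact (IsLocalRing.mem_maximalIdeal _).1 hg
    · by_contra hne
      exact (hVW hj).2 ⟨hp j, hne⟩
    · rw [TopCat.Presheaf.germ_res_apply]
      refine Eq.trans ?_ hgf
      congr 1
      show _ = (X.presheaf.stalkSpecializes _).hom (X.presheaf.germ W (p i) hW g')
      rw [← RingHom.comp_apply, ← CommRingCat.hom_comp, TopCat.Presheaf.germ_stalkSpecializes]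
  choose V g hiV hgnot honly hgf using hnbhd
  have hzero : ∀ i, ((V i).1 : Set X) \ X.basicOpen (g i) = {p i} := by
    intro i
    refine Set.Subset.antisymm (fun y hy => ?_) (by rintro y rfl; exact ⟨hiV i, hgnot i⟩)
    by_cases hyU : y ∈ U
    · exfalso
      refine hy.2 ?_
      rw [SetLike.mem_coe, X.mem_basicOpen _ _ hy.1]
      refine IsUnit.of_mul_eq_one (X.presheaf.germ U y hyU f) ?_
      refine IsFractionRing.injective (X.presheaf.stalk y) X.functionField ?_
      haveI : Nonempty (V i).1 := ⟨⟨y, hy.1⟩⟩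
      rw [map_mul, map_one, Scheme.algebraMap_germ_eq_germToFunctionField,
        Scheme.algebraMap_germ_eq_germToFunctionField]
      exact hgf i
    · obtain ⟨j, rfl⟩ := hpsurj y hyU
      exact honly i j hy.1
  have hg0 : ∀ i, g i ≠ 0 := fun i h0 => by
    have := hgf i
    rw [h0, map_zero, zero_mul] at this
    exact zero_ne_one this
  choose I hI hI' using fun i => exists_effIdeal (V i) (g i) (by rw [hzero i]; exact hclosed _ (hp i))
  let J : X.IdealSheafData := ⨅ i, I i
  have hJV : ∀ i (W : X.affineOpens) (h : W.1 ≤ (V i).1),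
      J.ideal W = Ideal.span {X.presheaf.map (homOfLE h).op (g i)} := by
    intro i W h
    have h1 : (I i).ideal W = Ideal.span {X.presheaf.map (homOfLE h).op (g i)} := by
      rw [← (I i).map_ideal (U := W) (V := V i) h, hI, Ideal.map_span, Set.image_singleton]
      rfl
    rw [show J.ideal = _ from Scheme.IdealSheafData.ideal_iInf I, iInf_apply]
    refine le_antisymm ((iInf_le _ i).trans h1.le) (le_iInf fun j => ?_)
    by_cases hji : p j = p i
    · by_cases hjW : p j ∈ W.1
      · have : j = i := σ.symm.injective (Subtype.ext hji)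
        rw [this, h1]
      · rw [hI' j W (by rw [hzero j]; exact Set.disjoint_singleton_right.2 hjW)]
        exact le_top
    · rw [hI' j W (by rw [hzero j]; exact Set.disjoint_singleton_right.2 fun hm => hji (honly i j (h hm)))]
      exact le_top
  have hJU : ∀ W : X.affineOpens, W.1 ≤ U → J.ideal W = ⊤ := by
    intro W h
    rw [show J.ideal = _ from Scheme.IdealSheafData.ideal_iInf I, iInf_apply, iInf_eq_top]
    exact fun j => hI' j W (by rw [hzero j]; exact Set.disjoint_singleton_right.2 fun hm => hp j (h hm))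
  have hJ : BlowUp.IsEffCartierIdeal J := by
    intro x
    by_cases hx : x ∈ U
    · exact ⟨⟨U, hU⟩, hx, 1, one_mem _, by rw [hJU _ le_rfl, Ideal.span_singleton_one]⟩
    · obtain ⟨i, rfl⟩ := hpsurj x hx
      haveI : Nonempty (V i).1 := ⟨⟨_, hiV i⟩⟩
      refine ⟨V i, hiV i, g i, mem_nonZeroDivisors_iff_ne_zero.2 (hg0 i), ?_⟩
      rw [hJV i (V i) le_rfl]
      simp
  obtain ⟨M, t, hM, hloc'⟩ := exists_section_equations hJ
  have hηU : genericPoint X ∈ U := by
    obtain ⟨u⟩ := (inferInstance : Nonempty U)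
    exact genericPoint_mem u.2
  -- the second section, characterised at the generic point
  let φ : M.presheaf.stalk (genericPoint X) :=
    (show X.presheaf.stalk (genericPoint X) from X.presheaf.germ U _ hηU f) •
      M.presheaf.germ ⊤ (genericPoint X) trivial t
  have hlocal : ∀ x : X, ∃ (W : X.Opens) (hx : x ∈ W) (m : Γ(M, W)),
      M.presheaf.germ W _ (genericPoint_mem hx) m = φ ∧
      (x ∉ U → H11Tilde.IsGen M m) ∧
      (x ∈ U → H11Tilde.IsGen M (M.presheaf.map (homOfLE (le_top : W ≤ ⊤)).op t)) ∧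
      (x ∉ U → x ∉ H11Ample.gen M t) := by
    intro x
    by_cases hx : x ∈ U
    · obtain ⟨W, hW, e, a, hxW, hWU, he, hta, hid⟩ := hloc' x U hx
      refine ⟨W, hxW, X.presheaf.map (homOfLE hWU).op f • M.presheaf.map (homOfLE (le_top : W ≤ ⊤)).op t,
        ?_, fun h => absurd hx h, fun _ => ?_, fun h => absurd hx h⟩
      · rw [H06Mod.germ_smul, TopCat.Presheaf.germ_res_apply, TopCat.Presheaf.germ_res_apply]
      · rw [hta]
        have hau : IsUnit a := Ideal.span_singleton_eq_top.1 (hid.symm.trans (hJU ⟨W, hW⟩ hWU))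
        have := H11Ample.isGen_res he (le_refl W) hau
        rwa [H10Coh.mres_self] at this
    · obtain ⟨i, rfl⟩ := hpsurj x hx
      obtain ⟨W, hW, e, a, hxW, hWV, he, hta, hid⟩ := hloc' (p i) (V i).1 (hiV i)
      haveI : Nonempty W := ⟨⟨_, hxW⟩⟩
      obtain ⟨u, hu⟩ := Ideal.span_singleton_eq_span_singleton.1 (hid.symm.trans (hJV i ⟨W, hW⟩ hWV))
      -- `a * u = g`
      refine ⟨W, hxW, (↑u⁻¹ : Γ(X, W)) • e, ?_, fun _ => ?_, fun h => absurd h hx, fun _ hgen => ?_⟩
      · have ha : a = X.presheaf.map (homOfLE hWV).op (g i) * ↑u⁻¹ := by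
          rw [← hu, mul_assoc, Units.mul_inv, mul_one]
        show _ = (show X.presheaf.stalk (genericPoint X) from X.presheaf.germ U _ hηU f) • _
        rw [← TopCat.Presheaf.germ_res_apply M.presheaf (homOfLE (le_top : W ≤ ⊤)) _ (genericPoint_mem hxW) t,
          hta, H06Mod.germ_smul, H06Mod.germ_smul, smul_smul, ha, map_mul, TopCat.Presheaf.germ_res_apply,
          ← mul_assoc]
        congr 1
        rw [mul_comm (X.presheaf.germ U _ hηU f)]
        erw [hgf i]
        rw [one_mul]
      · have := H11Ample.isGen_res he (le_refl W) (u⁻¹).isUnit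
        rwa [H10Coh.mres_self] at this
      · have h1 : p i ∈ X.basicOpen a := (H11Ample.gen_inf_eq_basicOpen he t a hta).le ⟨hgen, hxW⟩
        refine hgnot i ?_
        rw [X.mem_basicOpen _ _ hxW] at h1
        rw [X.mem_basicOpen _ _ (hiV i)]
        have h2 := h1.mul (u.isUnit.map (X.presheaf.germ W _ hxW).hom)
        rwa [← map_mul, hu, TopCat.Presheaf.germ_res_apply] at h2
  choose W hxW m hm hgen₂ hgen₁ hnotgen using hlocal
  obtain ⟨t₂, ht₂, -⟩ := TopCat.Sheaf.existsUnique_gluing' (⟨M.presheaf, M.isSheaf⟩ : TopCat.Sheaf AddCommGrpCat.{u} X.toTopCat)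
    W ⊤ (fun x => homOfLE le_top) (fun x _ => Opens.mem_iSup.2 ⟨x, hxW x⟩) m fun x y => by
      rcases ((W x ⊓ W y : X.Opens) : Set X).eq_empty_or_nonempty with he | ⟨z, hz⟩
      · refine TopCat.Presheaf.section_ext (⟨M.presheaf, M.isSheaf⟩ : TopCat.Sheaf AddCommGrpCat.{u} X.toTopCat)
          _ _ _ fun w hw => (Set.eq_empty_iff_forall_notMem.1 he w hw).elim
      · refine eq_of_germ_genericPoint hM (genericPoint_mem (V := W x ⊓ W y) hz) ?_
        erw [TopCat.Presheaf.germ_res_apply, TopCat.Presheaf.germ_res_apply]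
        exact (hm x).trans (hm y).symm
  have hgenU : H11Ample.gen M t = U := by
    refine Opens.ext (Set.ext fun x => ⟨fun h => ?_, fun hx => ?_⟩)
    · by_contra hx
      exact hnotgen x hx h
    · exact H11Ample.mem_gen_of_isGen (hgen₁ x hx) (hxW x)
  refine ⟨M, t, hM, isGloballyGenerated_of_gen hM fun x => ?_, hgenU⟩
  by_cases hx : x ∈ U
  · exact ⟨t, hgenU ▸ hx⟩
  · refine ⟨t₂, H11Ample.mem_gen_of_isGen (W := W x) ?_ (hxW x)⟩
    rw [show M.presheaf.map (homOfLE le_top).op t₂ = m x from ht₂ x]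
    exact hgen₂ x hx

end Groth.Agent.H22Alg.DimOnePencil
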