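import Mathlib
import Groth.Agent.H22Alg.DimOnePencil
import Groth.Agent.H17.AmpleSep
import Groth.Agent.H11Ample.AmpleOn

/-!
# Ampleness from finitely many globally generated modules with affine loci
-/

set_option autoImplicit false
set_option linter.style.haveILetI false
universe u

open CategoryTheory CategoryTheory.Limits AlgebraicGeometry Opposite TopologicalSpace
open Groth.Agent Groth.Agent.H11Ample

namespace Groth.Agent.H22Alg.AmpleFromGG

variable {X : Scheme.{u}}

theorem exists_product : ∀ (n : ℕ) (L : Fin n → X.Modules) (s : ∀ i, Γ(L i, ⊤)),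
    (∀ i, PicF.IsInvertible (L i)) → (∀ i, Curv2.IsGloballyGenerated (L i)) →
    (∀ i, IsAffineOpen (gen (L i) (s i))) →
    ∃ P : X.Modules, PicF.IsInvertible P ∧ Curv2.IsGloballyGenerated P ∧
      ∀ i, ∀ x ∈ gen (L i) (s i), ∃ σ : Γ(P, ⊤), x ∈ gen P σ ∧ IsAffineOpen (gen P σ) := by
  intro n
  induction n with
  | zero =>
    intro L s _ _ _
    have hinv := H28Int.isInvertible_structureModule X
    exact ⟨Coh.structureModule X, hinv, DimOnePencil.isGloballyGenerated_of_gen hinv fun x =>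
      ⟨one ⊤, mem_gen_of_isGen (W := ⊤) (y := x) (by rw [H10Coh.mres_self]; exact isGen_one ⊤) trivial⟩,
      fun i => i.elim0⟩
  | succ n ih =>
    intro L s hL hg hs
    obtain ⟨P, hP, hPg, hPs⟩ := ih (fun i => L i.castSucc) (fun i => s i.castSucc) (fun i => hL _)
      (fun i => hg _) (fun i => hs _)
    let T := L (Fin.last n)
    have hT : PicF.IsInvertible T := hL _
    refine ⟨CohB1.tensorMod P T, isInvertible_tensor hP hT,
      DimOnePencil.isGloballyGenerated_of_gen (isInvertible_tensor hP hT) fun x => ?_,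
      fun i => Fin.lastCases ?_ (fun j => ?_) i⟩
    · obtain ⟨a, ha⟩ := exists_mem_gen_of_isGloballyGenerated hP hPg x
      obtain ⟨b, hb⟩ := exists_mem_gen_of_isGloballyGenerated hT (hg _) x
      exact ⟨tm a b, by rw [gen_tm hP hT]; exact ⟨ha, hb⟩⟩
    · intro x hx
      obtain ⟨a, ha⟩ := exists_mem_gen_of_isGloballyGenerated hP hPg x
      refine ⟨tm a (s (Fin.last n)), by rw [gen_tm hP hT]; exact ⟨ha, hx⟩, ?_⟩
      rw [gen_tm hP hT, inf_comm]
      exact H17.AmpleSep.isAffineOpen_inf_gen hP a (hs _)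
    · intro x hx
      obtain ⟨σ, hσ, hσa⟩ := hPs j x hx
      obtain ⟨b, hb⟩ := exists_mem_gen_of_isGloballyGenerated hT (hg _) x
      refine ⟨tm σ b, by rw [gen_tm hP hT]; exact ⟨hσ, hb⟩, ?_⟩
      rw [gen_tm hP hT]
      exact H17.AmpleSep.isAffineOpen_inf_gen hT b hσa

/-- Globally generated invertible modules whose affine loci cover give an ample module. -/
theorem exists_ample [CompactSpace X]
    (h : ∀ x : X, ∃ (L : X.Modules) (t : Γ(L, ⊤)), PicF.IsInvertible L ∧ Curv2.IsGloballyGenerated L ∧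
      x ∈ gen L t ∧ IsAffineOpen (gen L t)) : ∃ M : X.Modules, CohB1.IsAmple M := by
  classical
  choose L t hL hg hx ha using h
  obtain ⟨S, hS⟩ := isCompact_univ.elim_finite_subcover (fun x : X => (gen (L x) (t x) : Set X))
    (fun x => (gen (L x) (t x)).isOpen) fun x _ => Set.mem_iUnion.2 ⟨x, hx x⟩
  let e := S.equivFin.symm
  obtain ⟨P, hP, -, hPs⟩ := exists_product S.card (fun i => L (e i).1) (fun i => t (e i).1)
    (fun i => hL _) (fun i => hg _) (fun i => ha _)
  refine ⟨P, isAmple_iff.2 ⟨hP, inferInstance, fun x => ?_⟩⟩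
  obtain ⟨y, hy, hxy⟩ := Set.mem_iUnion₂.1 (hS (Set.mem_univ x))
  obtain ⟨σ, hσ, hσa⟩ := hPs (e.symm ⟨y, hy⟩) x (by rw [Equiv.apply_symm_apply]; exact hxy)
  exact ⟨1, spow σ 1, one_pos, by rw [gen_spow hP σ 1 one_pos]; exact hσ, by
    rw [gen_spow hP σ 1 one_pos]; exact hσa⟩

end Groth.Agent.H22Alg.AmpleFromGG
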