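import Mathlib
import Groth.Agent.H22Alg.CurveAmple
import Groth.Agent.H22Alg.DegAmple
import Groth.Agent.H22Alg.AmpleFromGG
import Groth.Agent.H29RR.GenPoint
import Groth.Agent.H17.SuppTensor
import Groth.Agent.H10Coh.TensorTilde

/-!
# A generated power of a module ample on the zero scheme of one of its sections

First half of the Nakai–Moishezon criterion: if `s : O → M` is a monomorphism and the restrictions
of `M` to the integral subschemes of the zero locus are ample, then `H¹` of the powers decreases,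
hence stabilizes, and the sections of high powers extend from the zero scheme.
-/

set_option autoImplicit false
set_option linter.style.haveILetI false
universe u

open CategoryTheory CategoryTheory.Limits AlgebraicGeometry Opposite TopologicalSpace
open Groth.Agent.H11Tilde Groth.Agent.H11Ample

noncomputable section

namespace Groth.Agent.H22Alg.NakaiGen

attribute [local instance 10000] H10Coh.hasSheafifyAb H10Coh.hasWeakSheafifyAb H10Coh.hasExtAb H10Coh.enoughInjAb

variable {X : Scheme.{u}}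

theorem nonempty_tensorPow_mul (L : X.Modules) (a : ℕ) : ∀ t : ℕ,
    Nonempty (CohB1.tensorPow (CohB1.tensorPow L a) t ≅ CohB1.tensorPow L (a * t))
  | 0 => ⟨Iso.refl _⟩
  | t + 1 => by
    obtain ⟨e⟩ := nonempty_tensorPow_mul L a t
    obtain ⟨e'⟩ := DegAmple.nonempty_tensorPow_add L (a * t) a
    exact ⟨PicGrp.tensorModIso e (Iso.refl _) ≪≫ e'⟩

theorem exists_gen_mul {L : X.Modules} (hL : PicF.IsInvertible L) {a : ℕ} {w : Γ(CohB1.tensorPow L a, ⊤)}
    {x : X} (hx : x ∈ gen (CohB1.tensorPow L a) w) (t : ℕ) :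
    ∃ v : Γ(CohB1.tensorPow L (a * t), ⊤), x ∈ gen (CohB1.tensorPow L (a * t)) v := by
  obtain ⟨e⟩ := nonempty_tensorPow_mul L a t
  exact ⟨e.hom.app ⊤ (spow w t), (gen_iso e.hom (spow w t)).symm ▸ CurveAmple.mem_gen_spow hx t⟩

omit X in
theorem comp_extClass_f {C : Type*} [Category C] [Abelian C] [HasExt C] {S : ShortComplex C} (hS : S.ShortExact)
    {A : C} {n : ℕ} (x : Abelian.Ext A S.X₃ n) :
    (x.comp hS.extClass rfl).comp (Abelian.Ext.mk₀ S.f) (add_zero (n + 1)) = 0 := by
  rw [Abelian.Ext.comp_assoc_of_third_deg_zero, hS.extClass_comp, Abelian.Ext.comp_zero]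

omit X in
theorem zero_comp_extClass {C : Type*} [Category C] [Abelian C] [HasExt C] {S : ShortComplex C} (hS : S.ShortExact)
    {A : C} {n : ℕ} (y : Abelian.Ext A S.X₃ n) (hy : y = 0) : y.comp hS.extClass rfl = 0 := by
  rw [hy, Abelian.Ext.zero_comp]

variable (k : Type u) [Field k] [X.Over (Spec (CommRingCat.of k))]

/-- `Hⁿ(f)` is onto when `Hⁿ` of the quotient vanishes. -/
theorem hhlin_f_surjective {S : ShortComplex X.Modules} (hS : S.ShortExact) (n : ℕ)
    (h : Subsingleton (Coh.HH X S.X₃ n)) : Function.Surjective (Canon.HHlin k S.f n) := fun x =>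
  Abelian.Ext.covariant_sequence_exact₂ _ (H10Coh.shortExact_sh hS) x (h.elim _ _)

/-- `Hⁿ⁺¹(f)` is injective when `Hⁿ` of the quotient vanishes. -/
theorem hhlin_f_injective {S : ShortComplex X.Modules} (hS : S.ShortExact) (n : ℕ)
    (h : Subsingleton (Coh.HH X S.X₃ n)) : Function.Injective (Canon.HHlin k S.f (n + 1)) := by
  refine (injective_iff_map_eq_zero _).2 fun x hx => ?_
  obtain ⟨y, rfl⟩ := Abelian.Ext.covariant_sequence_exact₁ _ (H10Coh.shortExact_sh hS) x hx rfl
  exact zero_comp_extClass (H10Coh.shortExact_sh hS) y (h.elim _ _)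

/-- `Hⁿ(g)` is onto when `Hⁿ⁺¹(f)` is injective. -/
theorem hhlin_g_surjective {S : ShortComplex X.Modules} (hS : S.ShortExact) (n : ℕ)
    (h : Function.Injective (Canon.HHlin k S.f (n + 1))) : Function.Surjective (Canon.HHlin k S.g n) := by
  intro x
  let hS' := H10Coh.shortExact_sh hS
  refine Abelian.Ext.covariant_sequence_exact₃ _ hS' x (n₁ := n + 1) rfl (h (Eq.trans ?_ (map_zero _).symm))
  exact comp_extClass_f hS' x

variable [IsProper (X ↘ Spec (CommRingCat.of k))]

/-- `L` is ample on every integral closed subscheme inside `S`. -/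
def RestrAmple (L : X.Modules) (S : Set X) : Prop :=
  ∀ (Z : Scheme.{u}) (i : Z ⟶ X), IsClosedImmersion i → IsIntegral Z → Set.range i ⊆ S →
    CohB1.IsAmple ((Scheme.Modules.pullback i).obj L)

omit k [Field k] [X.Over (Spec (CommRingCat.of k))] [IsProper (X ↘ Spec (CommRingCat.of k))] in
theorem restrAmple_tensorPow {L : X.Modules} (hL : PicF.IsInvertible L) {S : Set X} (h : RestrAmple L S)
    {a : ℕ} (ha : 0 < a) : RestrAmple (CohB1.tensorPow L a) S := fun Z i hi hZ hS => by
  obtain ⟨e⟩ := exists_iso_pullback_tensorPow i hL a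
  exact isAmple_of_iso e.symm ((isAmple_tensorPow_iff (isInvertible_pullback i hL) a ha).1 (h Z i hi hZ hS))

include k in
theorem evVan_of_support {L : X.Modules} (hL : PicF.IsInvertible L) {S : Set X} (h : RestrAmple L S)
    (F : X.Modules) (hF : Coh.IsCoh F) (hs : CohB1.support F ⊆ S) : H10Coh.Tw.EvVan L 1 F := by
  haveI := H28Int.isNoetherian k (X := X)
  refine LeadDev.devissage_induction S (H10Coh.Tw.EvVan L 1) (fun M N ⟨e⟩ hM => hM.of_iso e)
    (fun M hM => ?_) (fun T hT _ _ _ h₁ h₃ => h₁.X₂ hL hT h₃) ?_ F hF hs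
  · refine ⟨0, fun n _ p _ => ?_⟩
    have hz : IsZero (H10Coh.sh (CohB1.tensorMod M (CohB1.tensorPow L n))) :=
      (H10Coh.shF X).map_isZero (((DCoh.tensorBi (X := X)).flip.obj (CohB1.tensorPow L n)).map_isZero hM)
    exact H10Coh.Tw.subsingleton_of_sum_eq_id (ι := Empty) (P := fun e => e.elim) (fun e => e.elim) (fun e => e.elim)
      (hz.eq_of_src _ _) (fun e => e.elim)
  intro Z i _ _ hr _ I ι _ hI
  haveI : IsLocallyNoetherian Z := LocallyOfFiniteType.isLocallyNoetherian (i ≫ (X ↘ Spec (CommRingCat.of k)))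
  exact H10Coh.Tw.evVan_push (X ↘ Spec (CommRingCat.of k)) i hL (h Z i inferInstance inferInstance hr) I
    (H10Coh.isCoh_of_mono ι hI (H10Coh.isCoh_structureModule' Z))

omit k [Field k] [X.Over (Spec (CommRingCat.of k))] [IsProper (X ↘ Spec (CommRingCat.of k))] in
theorem subsingleton_HH {M : X.Modules} {p : ℕ} (h : Subsingleton (H10Coh.HnM M p ⊤)) :
    Subsingleton (Coh.HH X M p) :=
  (H10Coh.HHEquiv M p).toEquiv.subsingleton_congr.2 h

omit k [Field k] [X.Over (Spec (CommRingCat.of k))] [IsProper (X ↘ Spec (CommRingCat.of k))] in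
theorem exists_point_quot [IsNoetherian X] {C : X.Modules} (hCc : Coh.IsCoh C) {y : X} (hyC : y ∈ CohB1.support C)
    (hyc : IsClosed ({y} : Set X)) :
    ∃ (P : X.Modules) (p : C ⟶ P), Epi p ∧ Coh.IsCoh P ∧ CohB1.support P = {y} := by
  -- the quotient at the point
  let I := H29RR.ptIdeal y
  let P := CohB1.tensorMod C (ClSub.quotMod I)
  have hQc : Coh.IsCoh (ClSub.quotMod I) :=
    H24FSch.isCoh_pushforward_of_isClosedImmersion I.subschemeι (H10Coh.isCoh_structureModule' _)
  have hQs : CohB1.support (ClSub.quotMod I) = {y} := by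
    refine Set.Subset.antisymm (fun z hz => ?_) (Set.singleton_subset_iff.2 ?_)
    · rw [← H29RR.range_subscheme_pt hyc]
      by_contra hn
      exact LeadDev.notMem_support_push I.subschemeι _ hn hz
    · obtain ⟨t, ht⟩ : y ∈ Set.range I.subschemeι := (H29RR.range_subscheme_pt hyc).ge rfl
      exact ht ▸ H28Int.Curves.mem_support_push_structure I.subschemeι t
  have hPs : CohB1.support P = {y} := by
    rw [H17.SuppTensor.support_tensor C _ hCc.2 hQc.2, hQs, Set.inter_eq_right.2 (Set.singleton_subset_iff.2 hyC)]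
  let p : C ⟶ P := H25Euler.mulHom C (ClSub.toSubscheme I)
  refine ⟨P, p, ?_, H10Coh.TT.isCoh_tensorMod hCc hQc, hPs⟩
  ·
    haveI := H10Coh.epi_toSubscheme I
    let B := (DCoh.tensorBi (X := X)).obj C
    haveI : PreservesColimitsOfSize.{0, 0} B := preservesColimitsOfSize_shrink.{0, u, 0, u} B
    haveI : Epi (B.map (ClSub.toSubscheme I)) := inferInstance
    show Epi (H25Euler.mulHom C (ClSub.toSubscheme I))
    unfold H25Euler.mulHom
    infer_instance

include k in
/-- All large powers are generated at every point, if the restrictions to the zero locus are ample. -/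
theorem exists_gen_eventually {M : X.Modules} (hM : PicF.IsInvertible M) (g : Γ(M, ⊤)) [Mono (homOfGlobal M g)]
    (h : RestrAmple M (CohB1.support (cokernel (homOfGlobal M g)))) (x : X) :
    ∃ N : ℕ, ∀ j, N ≤ j → ∃ w : Γ(CohB1.tensorPow M j, ⊤), x ∈ gen (CohB1.tensorPow M j) w := by
  haveI := H28Int.isNoetherian k (X := X)
  haveI : CompactSpace X := QuasiCompact.compactSpace_of_compactSpace (X ↘ Spec (CommRingCat.of k))
  obtain ⟨y, hy, hyc⟩ := (isClosed_closure (s := ({x} : Set X))).exists_closed_singleton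
    ⟨x, subset_closure rfl⟩
  suffices hy' : ∃ N : ℕ, ∀ j, N ≤ j → ∃ w : Γ(CohB1.tensorPow M j, ⊤), y ∈ gen (CohB1.tensorPow M j) w by
    obtain ⟨N, hN⟩ := hy'
    refine ⟨N, fun j hj => ?_⟩
    obtain ⟨w, hw⟩ := hN j hj
    exact ⟨w, (specializes_iff_mem_closure.2 hy).mem_open (gen _ w).2 hw⟩
  let s := homOfGlobal M g
  let C := cokernel s
  by_cases hyC : y ∈ CohB1.support C
  swap
  · exact ⟨0, fun j _ => ⟨spow g j, CurveAmple.mem_gen_spow (H25Euler.mem_gen_of_notMem_support_coker hM g hyC) j⟩⟩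
  have hOc : Coh.IsCoh (Coh.structureModule X) := H10Coh.isCoh_structureModule' X
  have hMc : Coh.IsCoh M := isCoh_of_isInvertible hM
  have hCc : Coh.IsCoh C := H10Coh.isCoh_cokernel s hOc.1 hMc
  have hS₀ : (ShortComplex.mk s (cokernel.π s) (cokernel.condition s)).ShortExact :=
    { exact := ShortComplex.exact_cokernel _ }
  let A : ℕ → X.Modules := fun j => CohB1.tensorPow M j
  have hA : ∀ j, PicF.IsInvertible (A j) := fun j => isInvertible_tensorPow hM j
  obtain ⟨P, p, hp, hPc, hPs⟩ := exists_point_quot hCc hyC hyc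
  haveI := hp
  have hKc : Coh.IsCoh (kernel p) := H10Coh.isCoh_kernel p hCc hPc.1
  have hS₁ : (ShortComplex.mk (kernel.ι p) p (kernel.condition p)).ShortExact :=
    { exact := ShortComplex.exact_kernel _ }
  obtain ⟨n₁, hn₁⟩ := evVan_of_support k hM h C hCc subset_rfl
  obtain ⟨n₂, hn₂⟩ := evVan_of_support k hM h (kernel p) hKc (LeadDev.support_subset_of_mono (kernel.ι p))
  -- stabilization of `H¹`
  let e : ∀ j, CohB1.tensorMod M (A j) ≅ A (j + 1) := fun j => H10Coh.Tw.commIso M (A j)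
  let f : ℕ → ℕ := fun j => Module.finrank k (Coh.HH X (A j) 1)
  have hsurj1 : ∀ j, n₁ ≤ j → Function.Surjective (Canon.HHlin k (LimSh.tensorModMap s (A j)) 1) := fun j hj =>
    hhlin_f_surjective k (H10Coh.Tw.shortExact_seq hS₀ (hA j)) 1 (subsingleton_HH (hn₁ j hj 1 le_rfl))
  have hfin : ∀ {N : X.Modules}, Coh.IsCoh N → Module.Finite k (Coh.HH X N 1) := fun hN =>
    H10Coh.finite_HH_proper k X _ hN 1
  have hf : ∀ j, n₁ ≤ j → f (j + 1) ≤ f j := fun j hj => by
    haveI := hfin (isCoh_tensor hOc (hA j))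
    have h1 := LinearMap.finrank_le_finrank_of_surjective (hsurj1 j hj)
    rwa [CurveAmple.finrank_HH_congr (e j), CurveAmple.finrank_HH_congr (H10Coh.Tw.leftUnitIso (A j))] at h1
  obtain ⟨j₀, hj₀, hjmin⟩ : ∃ j, max n₁ n₂ ≤ j ∧ ∀ i, max n₁ n₂ ≤ i → f j ≤ f i := by
    let m := max n₁ n₂
    refine ⟨m + Function.argmin (fun t => f (m + t)), by omega, fun i hi => ?_⟩
    have := not_lt.1 (Function.not_lt_argmin (fun t => f (m + t)) (i - m))
    rwa [show m + (i - m) = i by omega] at this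
  have hmono : ∀ t, f (j₀ + t) ≤ f j₀ := fun t => by
    induction t with
    | zero => exact le_rfl
    | succ t ih => exact (hf (j₀ + t) (by omega)).trans ih
  refine ⟨j₀ + 1, fun j' hj' => ?_⟩
  obtain ⟨j, hjj, rfl⟩ : ∃ j, j₀ ≤ j ∧ j' = j + 1 := ⟨j' - 1, by omega, by omega⟩
  have hj : max n₁ n₂ ≤ j := hj₀.trans hjj
  have hfj : f j = f j₀ := le_antisymm (by have := hmono (j - j₀); rwa [Nat.add_sub_cancel' hjj] at this) (hjmin j hj)
  have hinj : Function.Injective (Canon.HHlin k (LimSh.tensorModMap s (A j)) 1) := by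
    haveI := hfin (isCoh_tensor hOc (hA j))
    haveI := hfin (isCoh_tensor hMc (hA j))
    refine (LinearMap.injective_iff_surjective_of_finrank_eq_finrank ?_).2 (hsurj1 j ((le_max_left _ _).trans hj))
    rw [CurveAmple.finrank_HH_congr (e j), CurveAmple.finrank_HH_congr (H10Coh.Tw.leftUnitIso (A j))]
    exact le_antisymm (hfj.le.trans (hjmin _ (by omega))) (hf j ((le_max_left _ _).trans hj))
  have hs1 : Function.Surjective (Canon.HHlin k (LimSh.tensorModMap (cokernel.π s) (A j)) 0) :=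
    hhlin_g_surjective k (H10Coh.Tw.shortExact_seq hS₀ (hA j)) 0 hinj
  haveI : Subsingleton (Coh.HH X (CohB1.tensorMod (kernel p) (A j)) 1) :=
    subsingleton_HH (hn₂ j ((le_max_right _ _).trans hj) 1 le_rfl)
  have hs2 : Function.Surjective (Canon.HHlin k (LimSh.tensorModMap p (A j)) 0) :=
    hhlin_g_surjective k (H10Coh.Tw.shortExact_seq hS₁ (hA j)) 0
      (Function.injective_of_subsingleton (α := Coh.HH X (CohB1.tensorMod (kernel p) (A j)) 1) _)
  have hPs' : CohB1.support (CohB1.tensorMod P (A j)) = {y} := (H25Euler.support_tensor_invertible hPc (hA j)).trans hPs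
  let π : CohB1.tensorMod M (A j) ⟶ CohB1.tensorMod P (A j) :=
    LimSh.tensorModMap (cokernel.π s) (A j) ≫ LimSh.tensorModMap p (A j)
  haveI : Epi (LimSh.tensorModMap (cokernel.π s) (A j)) := H10Coh.Tw.epi_map (cokernel.π s) (hA j)
  haveI : Epi (LimSh.tensorModMap p (A j)) := H10Coh.Tw.epi_map p (hA j)
  haveI : Epi π := epi_comp _ _
  obtain ⟨w, hw⟩ := CurveAmple.exists_gen_of_germs (isInvertible_tensor hM (hA j)) (x := y) π
    (hPs'.ge rfl) (fun q => by
    classical
    obtain ⟨q₀, hq₀⟩ := (H25Par.germs_bijective (k := k) (CohB1.tensorMod P (A j)) (S := {y}) (Set.finite_singleton y)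
      (fun z hz => Set.mem_singleton_iff.1 hz ▸ hyc)
      (fun z hz => not_not.1 fun hn => hz (hPs'.le hn))).2 (Function.update 0 ⟨y, rfl⟩ q)
    obtain ⟨v₁, hv₁⟩ := hs2 q₀
    obtain ⟨v₀, hv₀⟩ := hs1 v₁
    refine ⟨H29RR.sec _ v₀, ?_⟩
    have h1 := congrFun hq₀ ⟨y, rfl⟩
    rw [Function.update_self] at h1
    refine Eq.trans ?_ h1
    rw [← hv₁, ← hv₀]
    show _ = (CohB1.tensorMod P (A j)).presheaf.germ ⊤ y trivial (H29RR.sec _ _)
    rw [H29RR.sec_natural, H29RR.sec_natural]
    rfl)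
  exact ⟨(e j).hom.app ⊤ w, (gen_iso (e j).hom w).symm ▸ hw⟩

include k in
/-- Some power is generated at every point, if the restrictions to the zero locus are ample. -/
theorem exists_gen {M : X.Modules} (hM : PicF.IsInvertible M) (g : Γ(M, ⊤)) [Mono (homOfGlobal M g)]
    (h : RestrAmple M (CohB1.support (cokernel (homOfGlobal M g)))) (x : X) :
    ∃ (j : ℕ) (w : Γ(CohB1.tensorPow M j, ⊤)), 0 < j ∧ x ∈ gen (CohB1.tensorPow M j) w := by
  obtain ⟨N, hN⟩ := exists_gen_eventually k hM g h x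
  obtain ⟨w, hw⟩ := hN (N + 1) N.le_succ
  exact ⟨N + 1, w, N.succ_pos, hw⟩

include k in
/-- All large powers are globally generated. -/
theorem eventually_globallyGenerated {M : X.Modules} (hM : PicF.IsInvertible M) (g : Γ(M, ⊤))
    [Mono (homOfGlobal M g)] (h : RestrAmple M (CohB1.support (cokernel (homOfGlobal M g)))) :
    ∃ N : ℕ, ∀ n, N ≤ n → Curv2.IsGloballyGenerated (CohB1.tensorPow M n) := by
  haveI : CompactSpace X := QuasiCompact.compactSpace_of_compactSpace (X ↘ Spec (CommRingCat.of k))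
  choose N hN using exists_gen_eventually k hM g h
  choose a ha using fun x => hN x (N x + 1) (Nat.le_succ _)
  choose b hb using fun x => hN x (N x + 2) (by omega)
  obtain ⟨T, hT⟩ := isCompact_univ.elim_finite_subcover
    (fun x : X => ((gen _ (a x) ⊓ gen _ (b x) : X.Opens) : Set X))
    (fun x => (gen _ (a x) ⊓ gen _ (b x)).2) fun x _ => Set.mem_iUnion.2 ⟨x, ha x, hb x⟩
  refine ⟨T.sup (fun x => (N x + 1) * (N x + 2)), fun n hn =>
    DimOnePencil.isGloballyGenerated_of_gen (isInvertible_tensorPow hM _) fun x => ?_⟩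
  obtain ⟨y, hy, hxy⟩ := Set.mem_iUnion₂.1 (hT (Set.mem_univ x))
  obtain ⟨hxa, hxb⟩ := hxy
  have hle : (N y + 1) * (N y + 2) ≤ n := (Finset.le_sup (f := fun x => (N x + 1) * (N x + 2)) hy).trans hn
  -- `n` is a combination of the two consecutive exponents
  obtain ⟨q, r, hr, hqr⟩ : ∃ q r, r < N y + 1 ∧ n = q * (N y + 1) + r :=
    ⟨n / (N y + 1), n % (N y + 1), Nat.mod_lt _ (Nat.succ_pos _), (Nat.div_add_mod' _ _).symm⟩
  have hrq : r ≤ q := by nlinarith
  obtain ⟨v, hv⟩ := exists_gen_mul hM hxa (q - r)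
  obtain ⟨w, hw⟩ := exists_gen_mul hM hxb r
  obtain ⟨e⟩ := DegAmple.nonempty_tensorPow_add M ((N y + 1) * (q - r)) ((N y + 2) * r)
  have hne : n = (N y + 1) * (q - r) + (N y + 2) * r := by
    obtain ⟨t, rfl⟩ := Nat.exists_eq_add_of_le hrq
    rw [hqr, Nat.add_sub_cancel_left]
    ring
  rw [hne]
  refine ⟨e.hom.app ⊤ (tm v w), ?_⟩
  rw [gen_iso, gen_tm (isInvertible_tensorPow hM _) (isInvertible_tensorPow hM _)]
  exact ⟨hv, hw⟩

include k in
/-- A positive power is globally generated. -/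
theorem exists_globallyGenerated {M : X.Modules} (hM : PicF.IsInvertible M) (g : Γ(M, ⊤)) [Mono (homOfGlobal M g)]
    (h : RestrAmple M (CohB1.support (cokernel (homOfGlobal M g)))) :
    ∃ m : ℕ, 0 < m ∧ Curv2.IsGloballyGenerated (CohB1.tensorPow M m) := by
  classical
  haveI : CompactSpace X := QuasiCompact.compactSpace_of_compactSpace (X ↘ Spec (CommRingCat.of k))
  choose j w hj hw using exists_gen k hM g h
  obtain ⟨T, hT⟩ := isCompact_univ.elim_finite_subcover (fun x : X => (gen (CohB1.tensorPow M (j x)) (w x) : Set X))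
    (fun x => (gen (CohB1.tensorPow M (j x)) (w x)).2) fun x _ => Set.mem_iUnion.2 ⟨x, hw x⟩
  refine ⟨∏ x ∈ T, j x, Finset.prod_pos fun x _ => hj x,
    DimOnePencil.isGloballyGenerated_of_gen (isInvertible_tensorPow hM _) fun x => ?_⟩
  obtain ⟨y, hy, hxy⟩ := Set.mem_iUnion₂.1 (hT (Set.mem_univ x))
  rw [← Finset.mul_prod_erase T j hy]
  exact exists_gen_mul hM hxy _

end Groth.Agent.H22Alg.NakaiGen
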