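import Mathlib
import Groth.Agent.H22Alg.NakaiGen
import Groth.Agent.H22Alg.IntPullback
import Groth.Agent.H22Alg.DimZero
import Groth.Agent.H29RR.Common
import Groth.Agent.H28Int.Num

/-!
# The Nakai–Moishezon criterion
-/

set_option autoImplicit false
set_option linter.style.haveILetI false
universe u

open CategoryTheory CategoryTheory.Limits AlgebraicGeometry Opposite TopologicalSpace Filter
open Groth.Agent.H11Tilde Groth.Agent.H11Ample

noncomputable section

namespace Groth.Agent.H22Alg.Nakai

variable (k : Type u) [Field k] {X : Scheme.{u}} [X.Over (Spec (CommRingCat.of k))]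
  [IsProper (X ↘ Spec (CommRingCat.of k))]

/-- The self-intersection numbers on all integral subschemes of positive dimension are positive. -/
def Pos (L : X.Modules) : Prop :=
  ∀ (Z : Scheme.{u}) (i : Z ⟶ X) [IsClosedImmersion i] [IsIntegral Z] (d : ℕ), 0 < d →
    topologicalKrullDim Z = (d : WithBot ℕ∞) →
    0 < (-1 : ℤ) ^ d * H28Int.D k (List.replicate d L) (ClSub.quotMod i.ker)

theorem inv_replicate {L : X.Modules} (hL : PicF.IsInvertible L) (d : ℕ) :
    ∀ A ∈ List.replicate d L, PicF.IsInvertible A := fun A hA => List.eq_of_mem_replicate hA ▸ hL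

theorem D_restrict {Y Z : Scheme.{u}} [Y.Over (Spec (CommRingCat.of k))] [IsProper (Y ↘ Spec (CommRingCat.of k))]
    (j : Y ⟶ X) [IsClosedImmersion j] (hj : j ≫ (X ↘ Spec (CommRingCat.of k)) = Y ↘ Spec (CommRingCat.of k))
    [IsIntegral Z] (i : Z ⟶ Y) [IsClosedImmersion i] {L : X.Modules} (hL : PicF.IsInvertible L) {d : ℕ}
    (hd : topologicalKrullDim Z = (d : WithBot ℕ∞)) :
    H28Int.D k (List.replicate d ((Scheme.Modules.pullback j).obj L)) (ClSub.quotMod i.ker) =
      H28Int.D k (List.replicate d L) (ClSub.quotMod (i ≫ j).ker) := by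
  have h := IntPullback.D_pullback_subscheme k i j hj (List.replicate d L) (inv_replicate hL d)
    (by rw [List.length_replicate, hd])
  rw [List.map_replicate, IntPullback.residueDegree_of_surjective (i ≫ j) _ ((i ≫ j).stalkMap_surjective _),
    Nat.cast_one, one_mul] at h
  exact h

theorem pos_pullback {Y : Scheme.{u}} [Y.Over (Spec (CommRingCat.of k))] [IsProper (Y ↘ Spec (CommRingCat.of k))]
    (j : Y ⟶ X) [IsClosedImmersion j] (hj : j ≫ (X ↘ Spec (CommRingCat.of k)) = Y ↘ Spec (CommRingCat.of k))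
    {L : X.Modules} (hL : PicF.IsInvertible L) (h : Pos k L) : Pos k ((Scheme.Modules.pullback j).obj L) := by
  intro Z i _ _ d hd0 hd
  rw [D_restrict k j hj i hL hd]
  exact h Z (i ≫ j) d hd0 hd

theorem D_quotMod_id [IsIntegral X] {l : List X.Modules} (hl : ∀ A ∈ l, PicF.IsInvertible A)
    (hd : topologicalKrullDim X = (l.length : WithBot ℕ∞)) :
    H28Int.D k l (ClSub.quotMod (𝟙 X : X ⟶ X).ker) = H28Int.D k l (Coh.structureModule X) := by
  haveI := H28Int.isNoetherian k (X := X)
  let η := genericPoint X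
  have hη : topologicalKrullDim (closure ({η} : Set X)) = (l.length : WithBot ℕ∞) :=
    (VarDim.cdim_genericPoint X).trans hd
  have hlen : DevLength.len (Coh.structureModule X) η = 1 := by
    let S := X.presheaf.stalk η
    letI : Field S := inferInstanceAs (Field X.functionField)
    show Module.length S ((Coh.structureModule X).presheaf.stalk η) = 1
    rw [← (LinearEquiv.ofBijective (LinearMap.toSpanSingleton S _ (H29Ref.oneStalk η))
      (H06EGA9.bijective_smul_oneStalk η)).length_eq]
    exact Module.length_eq_one_iff.2 inferInstance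
  have e : ClSub.quotMod (𝟙 X : X ⟶ X).ker = H25K.redMod (DevLength.cl η) := IntPullback.quotMod_ker (𝟙 X)
  rw [e, DevLength.eq_finsum (H28Int.isAddFn_D k l hl) (d := l.length)
    (fun G hG h => H28Int.D_eq_zero k l hl G hG h) (F := Coh.structureModule X) (H28Int.Surface.isCoh_structure k)
    ((Topology.IsInducing.subtypeVal.topologicalKrullDim_le).trans hd.le), finsum_eq_single _ η ?_]
  · rw [if_pos hη, hlen]
    simp
  · intro ξ hξ
    rw [if_neg fun h => ?_]
    exact (DevLength.dim_closure_lt (genericPoint_specializes ξ) hξ hη.le).ne h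

theorem top_pos [IsIntegral X] {L : X.Modules} (hL : PicF.IsInvertible L) (h : Pos k L) {d : ℕ} (hd0 : 0 < d)
    (hd : topologicalKrullDim X = (d : WithBot ℕ∞)) :
    0 < (-1 : ℤ) ^ d * H28Int.D k (List.replicate d L) (Coh.structureModule X) := by
  rw [← D_quotMod_id k (inv_replicate hL d) (by rw [List.length_replicate, hd])]
  exact h X (𝟙 X) d hd0 hd

omit X in
theorem tendsto_of_diff {f : ℕ → ℤ} (h : ∀ᶠ n in atTop, 1 ≤ f (n + 1) - f n) : Tendsto f atTop atTop := by
  obtain ⟨N, hN⟩ := eventually_atTop.1 h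
  have key : ∀ m : ℕ, f N + m ≤ f (N + m) := by
    intro m
    induction m with
    | zero => simp
    | succ m ih =>
      have := hN (N + m) (by omega)
      rw [← add_assoc]
      push_cast
      omega
  refine tendsto_atTop.2 fun b => eventually_atTop.2 ⟨N + (b - f N).toNat, fun n hn => ?_⟩
  obtain ⟨m, rfl⟩ : ∃ m, n = N + m := ⟨n - N, by omega⟩
  have := key m
  omega

omit X in
theorem tendsto_of_top_diff (g : ℕ → ℕ → ℤ) {d : ℕ} (hd : 0 < d) {c : ℤ} (hc : 0 < c) (htop : ∀ n, g d n = c)
    (hrec : ∀ j n, g (j + 1) n = g j (n + 1) - g j n) : Tendsto (g 0) atTop atTop := by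
  suffices H : ∀ t j, j + (t + 1) = d → Tendsto (g j) atTop atTop from H (d - 1) 0 (by omega)
  intro t
  induction t with
  | zero =>
    intro j hj
    refine tendsto_of_diff (Eventually.of_forall fun n => ?_)
    rw [← hrec, hj, htop]
    omega
  | succ t ih =>
    intro j hj
    refine tendsto_of_diff (((ih (j + 1) (by omega)).eventually_ge_atTop 1).mono fun n hn => ?_)
    rwa [← hrec]

theorem tendsto_euler [IsIntegral X] {L : X.Modules} (hL : PicF.IsInvertible L) {d : ℕ} (hd0 : 0 < d)
    (hd : topologicalKrullDim X = (d : WithBot ℕ∞))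
    (hc : 0 < (-1 : ℤ) ^ d * H28Int.D k (List.replicate d L) (Coh.structureModule X)) :
    Tendsto (fun n => Curv2.euler k X (CohB1.tensorPow L n)) atTop atTop := by
  haveI := H28Int.isNoetherian k (X := X)
  let g : ℕ → ℕ → ℤ := fun j n => (-1 : ℤ) ^ j * H28Int.D k (List.replicate j L) (CohB1.tensorPow L n)
  have hrec : ∀ j n, g (j + 1) n = g j (n + 1) - g j n := fun j n => by
    show (-1 : ℤ) ^ (j + 1) * (H28Int.D k (List.replicate j L) (CohB1.tensorPow L n) -
      H28Int.D k (List.replicate j L) (CohB1.tensorMod L (CohB1.tensorPow L n))) = _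
    have h : H28Int.D k (List.replicate j L) (CohB1.tensorMod L (CohB1.tensorPow L n)) =
        H28Int.D k (List.replicate j L) (CohB1.tensorPow L (n + 1)) :=
      (H28Int.isAddFn_D k _ (inv_replicate hL j)).congr (H10Coh.Tw.commIso L (CohB1.tensorPow L n))
    rw [h]
    simp only [g, pow_succ]
    ring
  have htop : ∀ n, g d n = g d 0 := fun n => by
    show (-1 : ℤ) ^ d * _ = (-1 : ℤ) ^ d * H28Int.D k (List.replicate d L) (Coh.structureModule X)
    rw [← (H28Int.isAddFn_D k _ (inv_replicate hL d)).congr (H10Coh.Tw.rightUnitIso (CohB1.tensorPow L n)),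
      H28Int.D_twist k (inv_replicate hL d) (isInvertible_tensorPow hL n) (H28Int.Surface.isCoh_structure k)
        ((Topology.IsInducing.subtypeVal.topologicalKrullDim_le).trans (by rw [List.length_replicate]; exact hd.le))]
  have hg0 : g 0 = fun n => Curv2.euler k X (CohB1.tensorPow L n) := funext fun n => one_mul _
  exact hg0 ▸ tendsto_of_top_diff g hd0 hc htop hrec

theorem finrank_succ_eq {S : ShortComplex X.Modules} (hS : S.ShortExact) (i : ℕ)
    (h₀ : Subsingleton (Coh.HH X S.X₃ (i + 1))) (h₁ : Subsingleton (Coh.HH X S.X₃ (i + 2))) :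
    Module.finrank k (Coh.HH X S.X₁ (i + 2)) = Module.finrank k (Coh.HH X S.X₂ (i + 2)) :=
  (LinearEquiv.ofBijective (Canon.HHlin k S.f (i + 2))
    ⟨NakaiGen.hhlin_f_injective k hS (i + 1) h₀, NakaiGen.hhlin_f_surjective k hS (i + 2) h₁⟩).finrank_eq

/-- Some power has a nonzero section. -/
theorem exists_section [IsIntegral X] {L : X.Modules} (hL : PicF.IsInvertible L) {d : ℕ} (hd0 : 0 < d)
    (hd : topologicalKrullDim X = (d : WithBot ℕ∞))
    (hc : 0 < (-1 : ℤ) ^ d * H28Int.D k (List.replicate d L) (Coh.structureModule X))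
    (hsub : NakaiGen.RestrAmple L ({genericPoint X}ᶜ : Set X)) :
    ∃ n : ℕ, 0 < n ∧ ∃ g : Γ(CohB1.tensorPow L n, ⊤), g ≠ 0 := by
  haveI := H28Int.isNoetherian k (X := X)
  haveI : CompactSpace X := QuasiCompact.compactSpace_of_compactSpace (X ↘ Spec (CommRingCat.of k))
  haveI : QuasiSeparatedSpace X := quasiSeparatedSpace_of_quasiSeparated (X ↘ Spec (CommRingCat.of k))
  let A : ℕ → X.Modules := fun n => CohB1.tensorPow L n
  obtain ⟨K, a, b, hK, _, _, ha, hb⟩ := H29RR.exists_common L hL
  have hOc : Coh.IsCoh (Coh.structureModule X) := H10Coh.isCoh_structureModule' X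
  have hLc : Coh.IsCoh L := isCoh_of_isInvertible hL
  have hSa : (ShortComplex.mk a (cokernel.π a) (cokernel.condition a)).ShortExact :=
    { exact := ShortComplex.exact_cokernel _ }
  have hSb : (ShortComplex.mk b (cokernel.π b) (cokernel.condition b)).ShortExact :=
    { exact := ShortComplex.exact_cokernel _ }
  obtain ⟨na, hna⟩ := NakaiGen.evVan_of_support k hL hsub (cokernel a) (H10Coh.isCoh_cokernel a hK.1 hOc)
    (fun x hx hxη => ha (Set.mem_singleton_iff.1 hxη ▸ hx))
  obtain ⟨nb, hnb⟩ := NakaiGen.evVan_of_support k hL hsub (cokernel b) (H10Coh.isCoh_cokernel b hK.1 hLc)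
    (fun x hx hxη => hb (Set.mem_singleton_iff.1 hxη ▸ hx))
  have hstep : ∀ n, max na nb ≤ n → ∀ i, Module.finrank k (Coh.HH X (A (n + 1)) (i + 2)) =
      Module.finrank k (Coh.HH X (A n) (i + 2)) := fun n hn i => by
    have h1 := finrank_succ_eq k (H10Coh.Tw.shortExact_seq hSa (isInvertible_tensorPow hL n)) i
      (NakaiGen.subsingleton_HH (hna n (by omega) (i + 1) (by omega)))
      (NakaiGen.subsingleton_HH (hna n (by omega) (i + 2) (by omega)))
    have h2 := finrank_succ_eq k (H10Coh.Tw.shortExact_seq hSb (isInvertible_tensorPow hL n)) i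
      (NakaiGen.subsingleton_HH (hnb n (by omega) (i + 1) (by omega)))
      (NakaiGen.subsingleton_HH (hnb n (by omega) (i + 2) (by omega)))
    have e1 := CurveAmple.finrank_HH_congr (k := k) (H10Coh.Tw.commIso L (A n) : _ ≅ A (n + 1)) (i + 2)
    have e2 := CurveAmple.finrank_HH_congr (k := k) (H10Coh.Tw.leftUnitIso (A n)) (i + 2)
    exact e1.symm.trans ((h2.symm.trans h1).trans e2)
  obtain ⟨N, hN⟩ : ∃ d : ℕ, ∀ (M : X.Modules), Coh.IsQCoh M → ∀ p : ℕ, d ≤ p → Subsingleton (Coh.HH X M p) :=
    H10Coh.exists_bound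
  let R : ℕ → ℤ := fun n =>
    ∑ i ∈ Finset.range N, (-1 : ℤ) ^ (i + 1 + 1) * (Module.finrank k (Coh.HH X (A n) (i + 1 + 1)) : ℤ)
  have hR : ∀ t, R (max na nb + t) = R (max na nb) := by
    intro t
    induction t with
    | zero => rfl
    | succ t ih =>
      rw [← ih]
      exact Finset.sum_congr rfl fun i _ => by rw [← add_assoc, hstep _ (by omega)]
  have hchi : ∀ n, Curv2.euler k X (A n) ≤ Module.finrank k (Coh.HH X (A n) 0) + R n := fun n => by
    rw [H25Euler.euler_eq_sum (A n) (N + 1 + 1) fun p hp =>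
      hN _ (isCoh_of_isInvertible (isInvertible_tensorPow hL n)).1 p (by omega)]
    rw [Finset.sum_range_succ', Finset.sum_range_succ']
    simp only [R]
    have : (0 : ℤ) ≤ Module.finrank k (Coh.HH X (A n) (0 + 1)) := Int.natCast_nonneg _
    simp only [pow_zero, zero_add, pow_one, one_mul, neg_mul] at this ⊢
    omega
  obtain ⟨n, hn, hn'⟩ := (((tendsto_euler k hL hd0 hd hc).eventually_ge_atTop (R (max na nb) + 1)).and
    (eventually_ge_atTop (max na nb + 1))).exists
  refine ⟨n, by omega, H29RR.exists_global_ne_zero _ ?_⟩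
  have h1 := hchi n
  obtain ⟨t, rfl⟩ : ∃ t, n = max na nb + t := ⟨n - max na nb, by omega⟩
  rw [hR] at h1
  simp only [A] at h1 ⊢
  exact Module.nontrivial_of_finrank_pos (R := k) (M := Coh.HH X (CohB1.tensorPow L (max na nb + t)) 0) (by omega)

include k in
/-- A globally generated module ample on every curve is ample. -/
theorem isAmple_of_gen_curves {L : X.Modules} (hL : PicF.IsInvertible L) (hgen : Curv2.IsGloballyGenerated L)
    (hcurves : ∀ C : X.IdealSheafData, IsIntegral C.subscheme → topologicalKrullDim (C.support : Set X) = 1 →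
      CohB1.IsAmple ((Scheme.Modules.pullback C.subschemeι).obj L)) : CohB1.IsAmple L := by
  haveI := H28Int.isNoetherian k (X := X)
  obtain ⟨n, v, hv⟩ := GenCurves.exists_fin_gen hL hgen
  haveI : IsProper (CohB1.ProjSpace n k ↘ Spec (CommRingCat.of k)) :=
    inferInstanceAs (IsProper (CohB1.ProjSpace.toSpec n k))
  obtain ⟨r, hr, ⟨τ⟩, -⟩ := exists_toPn (X ↘ (Spec (CommRingCat.of k))) hL v hv
  haveI : IsFinite r := GenCurves.isFinite_of_curves k r hr (isInvertible_twist (n := n) (R := k)) τ hcurves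
  exact isAmple_of_iso τ (isAmple_pullback_of_isAffineHom r (isAmple_twistProjSpace n k))

/-- The inductive step of the criterion. -/
theorem isAmple_integral [IsIntegral X] {L : X.Modules} (hL : PicF.IsInvertible L) (h : Pos k L) {d : ℕ}
    (hd : topologicalKrullDim X = (d : WithBot ℕ∞))
    (hsub : NakaiGen.RestrAmple L ({genericPoint X}ᶜ : Set X)) : CohB1.IsAmple L := by
  haveI := H28Int.isNoetherian k (X := X)
  rcases Nat.eq_zero_or_pos d with rfl | hd0
  · haveI : IsLocallyNoetherian X := inferInstance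
    haveI := IsLocallyArtinian.of_topologicalKrullDim_le_zero (X := X) (by simp [hd])
    haveI : IsAffine X := (DimZero.affine_finite (X ↘ Spec (CommRingCat.of k))).1
    exact isAmple_of_isQuasiAffine hL
  have hc := top_pos k hL h hd0 hd
  rcases (Nat.succ_le_of_lt hd0).eq_or_lt with h1 | h2
  · subst h1
    refine CurveAmple.isAmple_of_deg_pos (k := k) (hd.trans (by simp)) hL ?_
    change 0 < (-1 : ℤ) ^ 1 * (Curv2.euler k X _ - Curv2.euler k X (CohB1.tensorMod L _)) at hc
    rw [H25Euler.euler_congr (H10Coh.Tw.rightUnitIso L)] at hc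
    rw [H29RR.deg_def]
    omega
  obtain ⟨n, hn, g, hg⟩ := exists_section k hL hd0 hd hc hsub
  let M := CohB1.tensorPow L n
  have hM : PicF.IsInvertible M := isInvertible_tensorPow hL n
  obtain ⟨hmono, hη⟩ := H29RR.mono_homOfGlobal hM hg
  haveI := hmono
  have hsubM : NakaiGen.RestrAmple M ({genericPoint X}ᶜ : Set X) := NakaiGen.restrAmple_tensorPow hL hsub hn
  obtain ⟨m, hm, hgen⟩ := NakaiGen.exists_globallyGenerated k hM g
    (fun Z i hi hZ hr => hsubM Z i hi hZ (hr.trans fun x hx hxη => hη (Set.mem_singleton_iff.1 hxη ▸ hx)))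
  refine (isAmple_tensorPow_iff hL n hn).2 ((isAmple_tensorPow_iff hM m hm).2 ?_)
  refine isAmple_of_gen_curves k (isInvertible_tensorPow hM m) hgen fun C hC hC1 =>
    NakaiGen.restrAmple_tensorPow hM hsubM hm C.subscheme C.subschemeι inferInstance hC fun x hx hxη => ?_
  rw [C.range_subschemeι] at hx
  rw [Set.mem_singleton_iff] at hxη
  subst hxη
  have hall : (C.support : Set X) = Set.univ := Set.eq_univ_of_forall fun z =>
    (genericPoint_specializes z).mem_closed C.support.isClosed hx
  rw [hall, (Homeomorph.Set.univ X).isHomeomorph.topologicalKrullDim_eq, hd] at hC1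
  have : d = 1 := by exact_mod_cast hC1
  omega

/-- **Nakai–Moishezon**: positivity implies ampleness. -/
theorem isAmple_of_pos {L : X.Modules} (hL : PicF.IsInvertible L) (h : Pos k L) : CohB1.IsAmple L := by
  suffices H : ∀ (d : ℕ) (Z : Scheme.{u}) [Z.Over (Spec (CommRingCat.of k))] [IsProper (Z ↘ Spec (CommRingCat.of k))]
      [IsIntegral Z] (N : Z.Modules), PicF.IsInvertible N → topologicalKrullDim Z = (d : WithBot ℕ∞) →
      Pos k N → CohB1.IsAmple N by
    refine H10Coh.Tw.isAmple_of_integral (X ↘ Spec (CommRingCat.of k)) hL fun Z i hi hZ => ?_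
    haveI := hi; haveI := hZ
    letI : Z.Over (Spec (CommRingCat.of k)) := ⟨i ≫ (X ↘ Spec (CommRingCat.of k))⟩
    haveI : IsProper (Z ↘ Spec (CommRingCat.of k)) := inferInstanceAs (IsProper (i ≫ _))
    obtain ⟨d, hd, -⟩ := VarDim.exists_cdim_trdeg k Z (genericPoint Z)
    exact H d Z _ (isInvertible_pullback i hL) ((VarDim.cdim_genericPoint Z).symm.trans hd)
      (pos_pullback k i rfl hL h)
  intro d
  induction d using Nat.strong_induction_on with
  | _ d ih =>
    intro Z _ _ _ N hN hd hpos
    refine isAmple_integral k hN hpos hd fun W i hi hW hr => ?_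
    haveI := hi; haveI := hW
    letI : W.Over (Spec (CommRingCat.of k)) := ⟨i ≫ (Z ↘ Spec (CommRingCat.of k))⟩
    haveI : IsProper (W ↘ Spec (CommRingCat.of k)) := inferInstanceAs (IsProper (i ≫ _))
    obtain ⟨e, he, -⟩ := VarDim.exists_cdim_trdeg k W (genericPoint W)
    have he' : topologicalKrullDim W = (e : WithBot ℕ∞) := (VarDim.cdim_genericPoint W).symm.trans he
    have hlt : topologicalKrullDim (Set.range i) < (d : WithBot ℕ∞) :=
      H28Int.dim_lt_of_notMem (C := Set.univ) (genericPoint_spec Z)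
        ((Topology.IsInducing.subtypeVal.topologicalKrullDim_le).trans hd.le) i.isClosedEmbedding.isClosed_range
        (fun _ _ => trivial) (fun hη => hr hη rfl)
    rw [← i.isClosedEmbedding.isEmbedding.toHomeomorph.isHomeomorph.topologicalKrullDim_eq, he'] at hlt
    exact ih e (by exact_mod_cast hlt) W _ (isInvertible_pullback i hN) he' (pos_pullback k i rfl hN hpos)

/-- Ample modules have positive self-intersection on every integral subscheme. -/
theorem pos_of_isAmple {L : X.Modules} (hA : CohB1.IsAmple L) : Pos k L := by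
  intro Z i hi hZ d hd0 hd
  letI : Z.Over (Spec (CommRingCat.of k)) := ⟨i ≫ (X ↘ Spec (CommRingCat.of k))⟩
  haveI : IsProper (Z ↘ Spec (CommRingCat.of k)) := inferInstanceAs (IsProper (i ≫ _))
  haveI := H28Int.isNoetherian k (X := Z)
  have hAZ := isAmple_pullback_of_isAffineHom i hA
  obtain ⟨M, hM, ⟨e₀⟩⟩ := H11Sym.exists_inverse hAZ.1
  let e := H10Coh.Tw.commIso ((Scheme.Modules.pullback i).obj L) M ≪≫ e₀
  have hO : Coh.IsCoh (Coh.structureModule Z) := H28Int.Surface.isCoh_structure k
  have hsd : topologicalKrullDim (CohB1.support (Coh.structureModule Z)) ≤ (d : WithBot ℕ∞) :=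
    (Topology.IsInducing.subtypeVal.topologicalKrullDim_le).trans hd.le
  have h := D_restrict k (Z := Z) i rfl (𝟙 Z) hA.1 hd
  rw [D_quotMod_id k (inv_replicate hAZ.1 d) (by rw [List.length_replicate, hd]), Category.id_comp,
    DegAmple.D_replicate k hAZ.1 hM e d _ hO hsd] at h
  rw [← h, ← mul_assoc, ← pow_add, ← two_mul, pow_mul, neg_one_sq, one_pow, one_mul]
  refine (H28Int.pos_of_ample k (List.replicate d M)
    (fun N hN => ⟨_, hAZ, ⟨List.eq_of_mem_replicate hN ▸ e⟩⟩) _ hO
    (by rw [List.length_replicate]; exact hsd)).2 ⟨genericPoint Z, H25Euler.mem_support_structure _, ?_⟩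
  rw [List.length_replicate, VarDim.cdim_genericPoint Z, hd]

theorem isAmple_iff_pos {L : X.Modules} (hL : PicF.IsInvertible L) : CohB1.IsAmple L ↔ Pos k L :=
  ⟨pos_of_isAmple k, isAmple_of_pos k hL⟩

end Groth.Agent.H22Alg.Nakai
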