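import Mathlib
import Groth.Agent.H22Alg.CMField
import Groth.Agent.H22Alg.Nakai
import Groth.Agent.H10Coh.Proj.Coherent

/-!
# The first step of the linear resolution of a regular module
-/

set_option autoImplicit false
set_option linter.style.haveILetI false
universe u

open CategoryTheory CategoryTheory.Limits AlgebraicGeometry Opposite TopologicalSpace
open Groth.Agent Groth.Agent.H11Tilde Groth.Agent.H11Ample
attribute [local instance 10000] Groth.Agent.H10Coh.hasSheafifyAb Groth.Agent.H10Coh.hasWeakSheafifyAb Groth.Agent.H10Coh.hasExtAb Groth.Agent.H10Coh.enoughInjAb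

noncomputable section

namespace Groth.Agent.H22Alg.CMStep

open CMField

variable (k : Type u) [Field k] (n : ℕ)

local notation "P" => CohB1.ProjSpace n k
local notation "O" => fun a : ℤ => Twist.twistProjSpace n k a

theorem van_left {T : TopCat.{u}} {S : ShortComplex (CohTop.Ab T)} (hS : S.ShortExact) {q : ℕ} {U : Opens T}
    (h₂ : Subsingleton (H10Coh.Hn S.X₂ (q + 1) U)) (h₃ : Subsingleton (H10Coh.Hn S.X₃ q U)) :
    Subsingleton (H10Coh.Hn S.X₁ (q + 1) U) :=
  ⟨fun a b => by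
    have key : ∀ x : H10Coh.Hn S.X₁ (q + 1) U, x = 0 := fun x => by
      obtain ⟨y, hy⟩ := Abelian.Ext.covariant_sequence_exact₁ _ hS x
        (@Subsingleton.elim _ h₂ _ _) (rfl : q + 1 = q + 1)
      rw [← hy, @Subsingleton.elim _ h₃ y 0, Abelian.Ext.zero_comp]
    rw [key a, key b]⟩

theorem van_left_one {X : Scheme.{u}} {S : ShortComplex X.Modules} (hS : S.ShortExact)
    (h₂ : Van 1 S.X₂) (hs : Function.Surjective (S.g.app ⊤)) : Van 1 S.X₁ :=
  ⟨fun a b => by
    have key : ∀ x : H10Coh.Hn (H10Coh.sh S.X₁) 1 ⊤, x = 0 := fun x => by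
      obtain ⟨y, hy⟩ := Abelian.Ext.covariant_sequence_exact₁ _ (H10Coh.shortExact_sh hS) x
        (@Subsingleton.elim _ h₂ _ _) (rfl : 0 + 1 = 1)
      obtain ⟨z, hz⟩ := hs (H10Coh.H0Equiv (H10Coh.sh S.X₃) ⊤ y)
      have hy' : y = ((H10Coh.H0Equiv (H10Coh.sh S.X₂) ⊤).symm z).comp
          (Abelian.Ext.mk₀ ((H10Coh.shF X).map S.g)) (add_zero 0) := by
        refine (H10Coh.H0Equiv (H10Coh.sh S.X₃) ⊤).injective ?_
        refine Eq.trans ?_ (H10Coh.H0Equiv_map _ _).symm
        rw [AddEquiv.apply_symm_apply]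
        exact hz.symm
      rw [← hy, hy']
      exact (Abelian.Ext.comp_assoc_of_second_deg_zero _ _ _ _).trans
        (by erw [(H10Coh.shortExact_sh hS).comp_extClass]; exact Abelian.Ext.comp_zero ..)
    rw [key a, key b]⟩

theorem van_free (b : ℕ) {i : ℕ} (hi : 1 ≤ i) {d : ℤ} (hd : -(n : ℤ) ≤ d) {L : (P).Modules}
    (e : L ≅ Twist.twistProjSpace n k d) :
    Van i (CohB1.tensorMod (∐ fun _ : Fin b => Coh.structureModule P) L) :=
  H10Coh.Tw.subsingleton_sigma_tensor (fun _ : Fin b => Coh.structureModule P)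
    (H11Tilde.isInvertible_of_iso e.symm ((setup k n).fam.inv d)) fun _ =>
    H10Coh.Tw.subsingleton_of_iso (H10Coh.Tw.leftUnitIso L ≪≫ e).symm (van_twist k n hi hd)

variable {k n}

/-- The linear first step of a resolution: `O(-m)ᵇ → F` with `(m+1)`-regular kernel. -/
theorem exists_step_le {F : (P).Modules} (hF : Coh.IsCoh F) {m : ℤ} (h : Reg O F m) :
    ∃ (b : ℕ) (φ : (∐ fun _ : Fin b => Twist.twistProjSpace n k (-m)) ⟶ F),
      Epi φ ∧ Reg O (kernel φ) (m + 1) ∧
        b = @Module.finrank k (Coh.HH P (CohB1.tensorMod F (Twist.twistProjSpace n k m)) 0) _ _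
          (letI : (P).Over (Spec (CommRingCat.of k)) := ⟨CohB1.ProjSpace.toSpec n k⟩; inferInstance) := by
  have hs := setup k n
  letI : (P).Over (Spec (CommRingCat.of k)) := ⟨CohB1.ProjSpace.toSpec n k⟩
  haveI : IsProper (P ↘ Spec (CommRingCat.of k)) := inferInstanceAs (IsProper (CohB1.ProjSpace.toSpec n k))
  haveI : CompactSpace P := compactSpace_projSpace n k
  haveI := H28Int.isNoetherian k (X := P)
  haveI : QuasiSeparatedSpace P := quasiSeparatedSpace_of_quasiSeparated (P ↘ Spec (CommRingCat.of k))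
  let G := CohB1.tensorMod F (Twist.twistProjSpace n k m)
  have hG : Coh.IsCoh G := H11Ample.isCoh_tensor hF (hs.fam.inv m)
  haveI : Module.Finite k (Coh.HH P G 0) := H10Coh.finite_HH_proper k P G hG 0
  let s : Fin (Module.finrank k (Coh.HH P G 0)) → Coh.HH P G 0 := Module.finBasis k (Coh.HH P G 0)
  have hspan : Submodule.span k (Set.range s) = ⊤ := (Module.finBasis k (Coh.HH P G 0)).span_eq
  let b := Module.finrank k (Coh.HH P G 0)
  let g : Fin b → Γ(G, ⊤) := fun i => H29RR.sec G (s i)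
  let ψ : (∐ fun _ : Fin b => Coh.structureModule P) ⟶ G := Sigma.desc fun i => homOfGlobal G (g i)
  have hsur : Function.Surjective (ψ.app ⊤) := by
    intro t
    obtain ⟨v, rfl⟩ := (H29RR.sec G).surjective t
    have hv : v ∈ Submodule.span k (Set.range s) := hspan.symm ▸ Submodule.mem_top
    induction hv using Submodule.span_induction with
    | mem w hw =>
      obtain ⟨i, rfl⟩ := hw
      refine ⟨(Sigma.ι (fun _ : Fin b => Coh.structureModule P) i).app ⊤ (1 : Γ(P, ⊤)), ?_⟩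
      have h1 : Sigma.ι (fun _ : Fin b => Coh.structureModule P) i ≫ ψ = homOfGlobal G (g i) := Sigma.ι_desc _ _
      refine (congr($(congrArg (fun m => Scheme.Modules.Hom.app m ⊤) h1) (1 : Γ(P, ⊤)))).trans ?_
      rw [homOfGlobal_app]
      exact (one_smul _ _).trans (H10Coh.mres_self _ _ _)
    | zero => exact ⟨0, by rw [map_zero, map_zero]⟩
    | add a c _ _ ha hc =>
      obtain ⟨a', ha'⟩ := ha
      obtain ⟨c', hc'⟩ := hc
      exact ⟨a' + c', by rw [map_add, map_add, ha', hc']⟩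
    | smul r a _ ha =>
      obtain ⟨a', ha'⟩ := ha
      exact ⟨(H10Coh.globA (A := k) (X := P) r) • a', by rw [H29RR.sec_smul, Scheme.Modules.Hom.app_smul, ha']⟩
  haveI hψ : Epi ψ := by
    obtain ⟨ι, p, hp⟩ := isGloballyGenerated hs (isAmple_twistProjSpace n k) hF h
    haveI : @Epi (P).Modules _ _ _ p := hp
    choose σ hσ using fun j : ι => hsur (SecTwist.val (H10Coh.freeIncl ι j ≫ p) ⊤)
    obtain ⟨a, ha⟩ := H10Coh.exists_free_desc (X := P) (N := ∐ fun _ : Fin b => Coh.structureModule P)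
      fun j => homOfGlobal _ (σ j)
    have hap : a ≫ ψ = p := by
      refine Cofan.IsColimit.hom_ext (SheafOfModules.isColimitFreeCofan (R := (P).ringCatSheaf) ι) _ _ fun j => ?_
      show H10Coh.freeIncl ι j ≫ a ≫ ψ = H10Coh.freeIncl ι j ≫ p
      rw [← Category.assoc, ha]
      refine Scheme.Modules.hom_ext _ _ fun W => ?_
      ext r
      show ψ.app W ((homOfGlobal _ (σ j)).app W r) = (H10Coh.freeIncl ι j ≫ p).app W r
      rw [homOfGlobal_app, Scheme.Modules.Hom.app_smul, app_map_apply, hσ]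
      exact (H06Mod.app_unit (H10Coh.freeIncl ι j ≫ p) W r).symm
    haveI : Epi (a ≫ ψ) := hap ▸ ‹Epi p›
    exact epi_of_epi a ψ
  let L := Twist.twistProjSpace n k (-m)
  have hL : PicF.IsInvertible L := hs.fam.inv (-m)
  let B := (DCoh.tensorBi (X := P)).flip.obj L
  obtain ⟨u⟩ := hs.fam.add m (-m)
  obtain ⟨z⟩ := hs.fam.zero
  let ρ : CohB1.tensorMod G L ≅ F := H10Coh.Tw.assoc F _ _ ≪≫
    PicGrp.tensorModIso (Iso.refl F) (u ≪≫ eqToIso (congrArg (Twist.twistProjSpace n k) (add_neg_cancel m)) ≪≫ z) ≪≫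
    H10Coh.Tw.rightUnitIso F
  haveI : PreservesColimitsOfShape (Discrete (Fin b)) B := inferInstance
  let c : (∐ fun _ : Fin b => L) ≅ CohB1.tensorMod (∐ fun _ : Fin b => Coh.structureModule P) L :=
    Sigma.mapIso (fun _ : Fin b => (H10Coh.Tw.leftUnitIso L).symm) ≪≫
      (PreservesCoproduct.iso B (fun _ : Fin b => Coh.structureModule P)).symm
  let φ : (∐ fun _ : Fin b => L) ⟶ F := c.hom ≫ LimSh.tensorModMap ψ L ≫ ρ.hom
  haveI : Epi (LimSh.tensorModMap ψ L) := H10Coh.Tw.epi_map ψ hL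
  haveI : Epi (LimSh.tensorModMap ψ L ≫ ρ.hom) := epi_comp _ _
  haveI : Epi φ := epi_comp _ _
  refine ⟨b, φ, inferInstance, ?_, rfl⟩
  have hS : (ShortComplex.mk (kernel.ι ψ) ψ (kernel.condition ψ)).ShortExact :=
    { exact := ShortComplex.exact_kernel _ }
  have hT := H10Coh.Tw.shortExact_seq hS hL
  let e : kernel φ ≅ CohB1.tensorMod (kernel ψ) L :=
    kernelIsIsoComp c.hom (LimSh.tensorModMap ψ L ≫ ρ.hom) ≪≫ kernelCompMono (LimSh.tensorModMap ψ L) ρ.hom ≪≫
      (kernelIsKernel (LimSh.tensorModMap ψ L)).conePointUniqueUpToIso hT.fIsKernel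
  intro i hi
  obtain ⟨a⟩ := hs.fam.add (-m) (m + 1 - i)
  let v : CohB1.tensorMod L (Twist.twistProjSpace n k (m + 1 - i)) ≅ Twist.twistProjSpace n k (1 - i) :=
    a ≪≫ eqToIso (congrArg (Twist.twistProjSpace n k) (by ring))
  refine H10Coh.Tw.subsingleton_of_iso
    (PicGrp.tensorModIso e (Iso.refl _) ≪≫ H10Coh.Tw.assoc _ _ _ ≪≫ PicGrp.tensorModIso (Iso.refl _) v).symm ?_
  have hU := H10Coh.Tw.shortExact_seq hS (hs.fam.inv (1 - (i : ℤ)))
  obtain ⟨q, rfl⟩ : ∃ q, i = q + 1 := ⟨i - 1, by omega⟩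
  have h2 : Van (q + 1) (CohB1.tensorMod (∐ fun _ : Fin b => Coh.structureModule P)
      (Twist.twistProjSpace n k (1 - ((q + 1 : ℕ) : ℤ)))) := by
    by_cases hn : q + 1 ≤ n
    · exact van_free k n b (by omega) (by push_cast; omega) (Iso.refl _)
    · refine van_high k n (by omega) ?_
      exact (H11Ample.isCoh_tensor (H10Coh.isCoh_sigma (fun _ : Fin b => Coh.structureModule P)
        fun _ => H10Coh.isCoh_structureModule' P) (hs.fam.inv _)).1
  rcases Nat.eq_zero_or_pos q with rfl | hq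
  · refine van_left_one hU h2 ?_
    obtain ⟨w⟩ : Nonempty (Twist.twistProjSpace n k (1 - ((0 + 1 : ℕ) : ℤ)) ≅ Coh.structureModule P) :=
      ⟨eqToIso (congrArg (Twist.twistProjSpace n k) (by simp)) ≪≫ z⟩
    intro t
    have hmem := ((spanned_structure G).of_iso_right w.symm) t
    induction hmem using AddSubgroup.closure_induction with
    | mem y hy =>
      obtain ⟨p, r, rfl⟩ := hy
      obtain ⟨p', rfl⟩ := hsur p
      exact ⟨tm p' r, H10Coh.Tw.map_tm ψ _ p' r⟩
    | zero => exact ⟨0, map_zero _⟩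
    | add y y' _ _ hy hy' =>
      obtain ⟨a₁, rfl⟩ := hy
      obtain ⟨a₂, rfl⟩ := hy'
      exact ⟨a₁ + a₂, map_add _ _ _⟩
    | neg y _ hy =>
      obtain ⟨a₁, rfl⟩ := hy
      exact ⟨-a₁, map_neg _ _⟩
  · refine van_left (H10Coh.shortExact_sh hU) h2 ?_
    obtain ⟨a'⟩ := hs.fam.add m (1 - ((q + 1 : ℕ) : ℤ))
    exact H10Coh.Tw.subsingleton_of_iso (H10Coh.Tw.assoc F _ _ ≪≫ PicGrp.tensorModIso (Iso.refl F)
      (a' ≪≫ eqToIso (congrArg (Twist.twistProjSpace n k) (by push_cast; ring)))).symm (h q hq)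

/-- The linear first step of a resolution, without the rank. -/
theorem exists_step {F : (P).Modules} (hF : Coh.IsCoh F) {m : ℤ} (h : Reg O F m) :
    ∃ (b : ℕ) (φ : (∐ fun _ : Fin b => Twist.twistProjSpace n k (-m)) ⟶ F),
      Epi φ ∧ Reg O (kernel φ) (m + 1) :=
  let ⟨b, φ, h₁, h₂, _⟩ := exists_step_le hF h
  ⟨b, φ, h₁, h₂⟩

/-- Conversely, such a step gives regularity. -/
theorem reg_of_step {F : (P).Modules} {m : ℤ} {b : ℕ}
    (φ : (∐ fun _ : Fin b => Twist.twistProjSpace n k (-m)) ⟶ F) [Epi φ] (h : Reg O (kernel φ) (m + 1))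
    (hhigh : ∀ i, n < i → Van i (CohB1.tensorMod F (Twist.twistProjSpace n k (m - i)))) : Reg O F m := by
  intro i hi
  by_cases hn : i ≤ n
  swap
  · exact hhigh i (by omega)
  have hs := setup k n
  have hS : (ShortComplex.mk (kernel.ι φ) φ (kernel.condition φ)).ShortExact :=
    { exact := ShortComplex.exact_kernel _ }
  have hU := H10Coh.Tw.shortExact_seq hS (hs.fam.inv (m - (i : ℤ)))
  refine H10Coh.Tw.subsingleton_X₃ (H10Coh.shortExact_sh hU) ?_ ?_
  · refine H10Coh.Tw.subsingleton_sigma_tensor _ (hs.fam.inv _) fun _ => ?_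
    obtain ⟨a⟩ := hs.fam.add (-m) (m - i)
    exact H10Coh.Tw.subsingleton_of_iso (a ≪≫ eqToIso (congrArg (Twist.twistProjSpace n k) (by ring))).symm
      (van_twist k n hi (d := -(i : ℤ)) (by omega))
  · exact H10Coh.Tw.subsingleton_of_iso
      (PicGrp.tensorModIso (Iso.refl _) (eqToIso (congrArg (Twist.twistProjSpace n k) (by push_cast; ring))))
      (h (i + 1) (by omega))

end Groth.Agent.H22Alg.CMStep
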