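import Mathlib
import Groth.Agent.H8Props.FieldDimRing
import Groth.Agent.H8Props.FieldDimHeight

/-!
Dimension of tensor products of finitely generated domains and of intersections in affine space.
-/

set_option autoImplicit false
set_option linter.style.haveILetI false

universe u

open TensorProduct

namespace Groth.Agent.H22Alg.IntersectDim

open Groth.Agent.H8Props.FieldDim

variable (k : Type u) [Field k] {A : Type u} [CommRing A] [IsDomain A] [Algebra k A]

/-- All minimal primes of the tensor product of two finitely generated domains have the dimension sum. -/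
theorem dim_quotient_minimalPrimes_tensor (K : Type u) [CommRing K] [IsDomain K] [Algebra k K] [Algebra.FiniteType k K]
    [Algebra.FiniteType k A] (q : Ideal (K ⊗[k] A))
    (hq : q ∈ minimalPrimes (K ⊗[k] A)) :
    ringKrullDim (K ⊗[k] A ⧸ q) = ringKrullDim K + ringKrullDim A := by
  classical
  haveI : IsNoetherianRing K := Algebra.FiniteType.isNoetherianRing k K
  obtain ⟨s, g, hg, hfin⟩ := exists_finite_inj_algHom_of_fg k A
  letI := g.toRingHom.toAlgebra
  haveI : Module.Finite (MvPolynomial (Fin s) k) A := hfin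
  haveI : FaithfulSMul (MvPolynomial (Fin s) k) A := (faithfulSMul_iff_algebraMap_injective _ _).mpr hg
  obtain ⟨n, φ, hφ⟩ := exists_injective_pi (MvPolynomial (Fin s) k) A
  let gK : K ⊗[k] MvPolynomial (Fin s) k →ₐ[k] K ⊗[k] A :=
    Algebra.TensorProduct.map (AlgHom.id k K) g
  haveI : IsScalarTower k (MvPolynomial (Fin s) k) A :=
    IsScalarTower.of_algebraMap_eq fun c => (g.commutes c).symm
  let Φ : Fin n → (K ⊗[k] A →ₗ[k] K ⊗[k] MvPolynomial (Fin s) k) := fun i =>
    (((LinearMap.proj i).comp φ).restrictScalars k).lTensor K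
  have hΦ : ∀ i h b, Φ i (gK h * b) = h * Φ i b := by
    intro i h b
    induction h using TensorProduct.induction_on with
    | zero => simp
    | tmul c p =>
      induction b using TensorProduct.induction_on with
      | zero => simp
      | tmul c' a =>
        simp only [gK, Φ, Algebra.TensorProduct.map_tmul, AlgHom.id_apply,
          Algebra.TensorProduct.tmul_mul_tmul, LinearMap.lTensor_tmul]
        congr 1
        show φ (g p * a) i = p * φ a i
        rw [show g p * a = p • a from (Algebra.smul_def p a).symm, map_smul]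
        rfl
      | add x y hx hy => rw [mul_add, map_add, hx, hy, map_add, mul_add]
    | add x y hx hy => rw [map_add, add_mul, map_add, hx, hy, add_mul]
  have hjoint : ∀ b, (∀ i, Φ i b = 0) → b = 0 := by
    intro b hb
    have hinj := Module.Flat.lTensor_preserves_injective_linearMap (M := K) (φ.restrictScalars k) hφ
    refine hinj ((TensorProduct.piRight k k K (fun _ : Fin n => MvPolynomial (Fin s) k)).injective ?_)
    have key : ∀ z i, TensorProduct.piRight k k K (fun _ : Fin n => MvPolynomial (Fin s) k)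
        ((φ.restrictScalars k).lTensor K z) i = Φ i z := by
      intro z i
      induction z using TensorProduct.induction_on with
      | zero => simp
      | tmul c a => simp [Φ]
      | add x y hx hy => rw [map_add, map_add, Pi.add_apply, hx, hy, map_add]
    funext i
    rw [key, hb i, map_zero, map_zero]
    rfl
  haveI : IsDomain (K ⊗[k] MvPolynomial (Fin s) k) :=
    (MvPolynomial.algebraTensorAlgEquiv (σ := Fin s) k K).toRingEquiv.toMulEquiv.isDomain
  have hreg : ∀ h, h ≠ 0 → gK h ∈ nonZeroDivisors (K ⊗[k] A) := by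
    intro h hh
    refine mem_nonZeroDivisors_iff.mpr ⟨fun b hb => hjoint b fun i => ?_, fun b hb => hjoint b fun i => ?_⟩
    · have := hΦ i h b
      rw [hb, map_zero] at this
      exact (mul_eq_zero.mp this.symm).resolve_left hh
    · have := hΦ i h b
      rw [mul_comm, hb, map_zero] at this
      exact (mul_eq_zero.mp this.symm).resolve_left hh
  letI := gK.toRingHom.toAlgebra
  haveI : q.IsPrime := hq.1.1
  have hinj : Function.Injective ((Ideal.Quotient.mk q).comp gK.toRingHom) := by
    rw [injective_iff_map_eq_zero]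
    intro h hh
    by_contra h0
    exact notMem_nonZeroDivisors_of_mem_mem_minimalPrimes (Ideal.Quotient.eq_zero_iff_mem.mp hh) hq
      (hreg h h0)
  have hfin2 : gK.toRingHom.Finite := by
    haveI : Module.Finite (K ⊗[k] MvPolynomial (Fin s) k) (K ⊗[k] A) := by
      obtain ⟨t, ht⟩ := Module.Finite.fg_top (R := MvPolynomial (Fin s) k) (M := A)
      refine ⟨⟨t.image fun a => (1 : K) ⊗ₜ[k] a, ?_⟩⟩
      rw [eq_top_iff]
      rintro z -
      induction z using TensorProduct.induction_on with
      | zero => exact zero_mem _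
      | add x y hx hy => exact add_mem hx hy
      | tmul c a =>
        have ha : a ∈ Submodule.span (MvPolynomial (Fin s) k) (t : Set A) := by rw [ht]; trivial
        induction ha using Submodule.span_induction generalizing c with
        | mem y hy =>
          have hy' : (1 : K) ⊗ₜ[k] y ∈ ((t.image fun a => (1 : K) ⊗ₜ[k] a : Finset _) : Set (K ⊗[k] A)) :=
            Finset.mem_coe.mpr (Finset.mem_image_of_mem (fun a => (1 : K) ⊗ₜ[k] a) hy)
          have : c ⊗ₜ[k] y = (c ⊗ₜ[k] (1 : MvPolynomial (Fin s) k)) • ((1 : K) ⊗ₜ[k] y) := by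
            show _ = gK _ * _
            simp [gK]
          rw [this]
          exact Submodule.smul_mem _ _ (Submodule.subset_span hy')
        | zero => rw [TensorProduct.tmul_zero]; exact zero_mem _
        | add x y _ _ hx hy => rw [TensorProduct.tmul_add]; exact add_mem (hx c) (hy c)
        | smul p x _ hx =>
          have : c ⊗ₜ[k] (p • x) = ((1 : K) ⊗ₜ[k] p) • (c ⊗ₜ[k] x) := by
            show _ = gK _ * _
            simp only [gK, Algebra.TensorProduct.map_tmul, AlgHom.id_apply,
              Algebra.TensorProduct.tmul_mul_tmul, one_mul]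
            rw [Algebra.smul_def]; rfl
          rw [this]
          exact Submodule.smul_mem _ _ (hx c)
    assumption
  haveI : Module.Finite (K ⊗[k] MvPolynomial (Fin s) k) (K ⊗[k] A) := hfin2
  haveI : Algebra.IsIntegral (K ⊗[k] MvPolynomial (Fin s) k) (K ⊗[k] A ⧸ q) :=
    Algebra.IsIntegral.of_finite _ _
  rw [(H05EGA4.dim_int (K ⊗[k] MvPolynomial (Fin s) k) (K ⊗[k] A ⧸ q)).2 hinj,
    (H05EGA4.dim_int (MvPolynomial (Fin s) k) A).2 hg,
    ringKrullDim_eq_of_ringEquiv (MvPolynomial.algebraTensorAlgEquiv (σ := Fin s) k K).toRingEquiv,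
    MvPolynomial.ringKrullDim_of_isNoetherianRing, MvPolynomial.ringKrullDim_of_isNoetherianRing,
    ringKrullDim_eq_zero_of_field, zero_add]

/-- A finitely generated domain has a natural number as its dimension. -/
theorem exists_nat_dim (p : Ideal A) [p.IsPrime] [Algebra.FiniteType k A] : ∃ d : ℕ, ringKrullDim (A ⧸ p) = d := by
  haveI : Algebra.FiniteType k (A ⧸ p) := Algebra.FiniteType.trans (R := k) (S := A) inferInstance inferInstance
  obtain ⟨s, hs, -⟩ := exists_dim_trdeg k (A ⧸ p)
  exact ⟨s, hs⟩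

omit [IsDomain A] in
/-- Cutting a prime by `c` elements drops the dimension by at most `c`. -/
theorem dim_le_dim_add_of_minimalPrimes [Algebra.FiniteType k A] (p q : Ideal A) [p.IsPrime] [q.IsPrime]
    (s : Finset A) (hq : q ∈ (p ⊔ Ideal.span (s : Set A)).minimalPrimes) :
    ringKrullDim (A ⧸ p) ≤ ringKrullDim (A ⧸ q) + s.card := by
  classical
  haveI : IsNoetherianRing A := Algebra.FiniteType.isNoetherianRing k A
  haveI : Algebra.FiniteType k (A ⧸ p) := Algebra.FiniteType.trans (R := k) (S := A) inferInstance inferInstance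
  let π := Ideal.Quotient.mk p
  have hpq : p ≤ q := le_sup_left.trans hq.1.2
  haveI hqp : (q.map π).IsPrime := Ideal.isPrime_map_quotientMk_of_isPrime hpq
  have hmin : q.map π ∈ (Ideal.span ((s.image π : Finset (A ⧸ p)) : Set (A ⧸ p))).minimalPrimes := by
    rw [Finset.coe_image, ← Ideal.map_span]
    refine ⟨⟨hqp, Ideal.map_mono (le_sup_right.trans hq.1.2)⟩, fun J hJ hJq => ?_⟩
    have hJ' : J.comap π ≤ q := (Ideal.comap_mono hJq).trans (by
      rw [Ideal.comap_map_of_surjective' π Ideal.Quotient.mk_surjective, Ideal.mk_ker]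
      exact sup_le le_rfl hpq)
    have h2 : q ≤ J.comap π := hq.2 ⟨Ideal.IsPrime.comap (hK := hJ.1) _, sup_le
      (fun x hx => by rw [Ideal.mem_comap, show π x = 0 from Ideal.Quotient.eq_zero_iff_mem.mpr hx]; exact J.zero_mem)
      (Ideal.map_le_iff_le_comap.mp hJ.2)⟩ hJ'
    exact Ideal.map_le_iff_le_comap.mpr h2
  have hht : (q.map π).height ≤ (s.card : ℕ∞) :=
    ((Ideal.height_le_spanRank_toENat_of_mem_minimal_primes _ _ hmin).trans
      (OrderHomClass.mono Cardinal.toENat (Submodule.spanRank_span_le_card _))).trans (by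
        rw [show Cardinal.mk ↥(↑(s.image π) : Set (A ⧸ p)) = ((s.image π).card : Cardinal) from Cardinal.mk_coe_finset,
          map_natCast]
        exact Nat.cast_le.mpr Finset.card_image_le)
  have h := height_add_dim_quotient k (A ⧸ p) (q.map π)
  rw [ringKrullDim_eq_of_ringEquiv ((DoubleQuot.quotQuotEquivQuotOfLE hpq))] at h
  rw [← h, add_comm]
  exact add_le_add le_rfl (WithBot.coe_le_coe.mpr hht)

/-- The intersection inequality for two quotients of a polynomial ring with a common prime above. -/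
theorem dim_add_dim_le_aux.{v} {σ : Type v} [Fintype σ] {A B C : Type u} [CommRing A] [IsDomain A] [Algebra k A]
    [Algebra.FiniteType k A] [CommRing B] [IsDomain B] [Algebra k B] [Algebra.FiniteType k B] [CommRing C]
    [IsDomain C] [Algebra k C] (φA : MvPolynomial σ k →ₐ[k] A) (φB : MvPolynomial σ k →ₐ[k] B)
    (hA : Function.Surjective φA) (hB : Function.Surjective φB) (ψA : A →ₐ[k] C) (ψB : B →ₐ[k] C)
    (φC : MvPolynomial σ k →ₐ[k] C) (hC : Function.Surjective φC) (hψA : ψA.comp φA = φC) (hψB : ψB.comp φB = φC)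
    (hmin : ∀ R : Ideal (MvPolynomial σ k), R.IsPrime → RingHom.ker φA ≤ R → RingHom.ker φB ≤ R →
      R ≤ RingHom.ker φC → RingHom.ker φC ≤ R) :
    ringKrullDim A + ringKrullDim B ≤ ringKrullDim C + Fintype.card σ := by
  classical
  haveI : Algebra.FiniteType k (A ⊗[k] B) := Algebra.FiniteType.trans (R := k) (S := A) inferInstance inferInstance
  let a : MvPolynomial σ k →ₐ[k] A ⊗[k] B := Algebra.TensorProduct.includeLeft.comp φA
  let b : MvPolynomial σ k →ₐ[k] A ⊗[k] B := Algebra.TensorProduct.includeRight.comp φB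
  let π : A ⊗[k] B →ₐ[k] C := Algebra.TensorProduct.lift ψA ψB fun _ _ => Commute.all _ _
  have hπa : ∀ z, π (a z) = φC z := fun z => by
    rw [← hψA]
    simp [π, a]
  have hπb : ∀ z, π (b z) = φC z := fun z => by
    rw [← hψB]
    simp [π, b]
  have hπs : Function.Surjective π := fun z => by
    obtain ⟨z, rfl⟩ := hC z
    exact ⟨a z, hπa z⟩
  obtain ⟨Q', hQ'def⟩ : ∃ Q' : Ideal (A ⊗[k] B), Q' = RingHom.ker π := ⟨_, rfl⟩
  haveI : Q'.IsPrime := hQ'def ▸ RingHom.ker_isPrime π
  have hQ'mem : ∀ z, z ∈ Q' ↔ π z = 0 := fun z => by rw [hQ'def]; exact RingHom.mem_ker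
  let T : Finset (A ⊗[k] B) := Finset.univ.image fun i => a (MvPolynomial.X i) - b (MvPolynomial.X i)
  have hT : Ideal.span (T : Set (A ⊗[k] B)) ≤ Q' := by
    rw [Ideal.span_le]
    intro z hz
    obtain ⟨i, -, rfl⟩ := Finset.mem_image.mp (Finset.mem_coe.mp hz)
    rw [SetLike.mem_coe, hQ'mem, map_sub, hπa, hπb, sub_self]
  obtain ⟨P₀, hP₀, hP₀Q⟩ := @Ideal.exists_minimalPrimes_le (A ⊗[k] B) _ ⊥ Q' ‹_› bot_le
  haveI : P₀.IsPrime := hP₀.1.1
  have hmin' : Q' ∈ (P₀ ⊔ Ideal.span (T : Set (A ⊗[k] B))).minimalPrimes := by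
    refine ⟨⟨inferInstance, sup_le hP₀Q hT⟩, fun R hR hRQ => ?_⟩
    obtain ⟨hRp, hR'⟩ := hR
    have hab : ∀ z, a z - b z ∈ R := fun z => by
      have h1 : (Ideal.Quotient.mkₐ k R).comp a = (Ideal.Quotient.mkₐ k R).comp b :=
        MvPolynomial.algHom_ext fun i => Ideal.Quotient.eq.mpr
          ((le_sup_right.trans hR') (Ideal.subset_span
            (Finset.mem_coe.mpr (Finset.mem_image_of_mem _ (Finset.mem_univ i)))))
      exact Ideal.Quotient.eq.mp (DFunLike.congr_fun h1 z)
    have hle : RingHom.ker φC ≤ R.comap a := hmin _ (Ideal.IsPrime.comap (hK := hRp) _)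
      (fun z hz => by
        rw [Ideal.mem_comap, show a z = 0 by simp [a, show φA z = 0 from hz]]
        exact R.zero_mem)
      (fun z hz => by
        rw [Ideal.mem_comap, ← sub_zero (a z), ← show b z = 0 by simp [b, show φB z = 0 from hz]]
        exact hab z)
      (fun z hz => by
        have h2 := (hQ'mem _).mp (hRQ (Ideal.mem_comap.mp hz))
        rwa [hπa] at h2)
    have key : ∀ w : A ⊗[k] B, ∃ z, w - a z ∈ R := fun w => by
      induction w using TensorProduct.induction_on with
      | zero => exact ⟨0, by simp⟩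
      | add x y hx hy =>
        obtain ⟨z, hz⟩ := hx
        obtain ⟨z', hz'⟩ := hy
        exact ⟨z + z', by rw [map_add, add_sub_add_comm]; exact R.add_mem hz hz'⟩
      | tmul x y =>
        obtain ⟨x, rfl⟩ := hA x
        obtain ⟨y, rfl⟩ := hB y
        refine ⟨x * y, ?_⟩
        have h3 : φA x ⊗ₜ[k] φB y - a (x * y) = a x * (b y - a y) := by
          rw [mul_sub, ← map_mul]
          congr 1
          simp [a, b]
        rw [h3]
        exact R.mul_mem_left _ (by rw [← neg_sub]; exact R.neg_mem (hab y))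
    intro w hw
    obtain ⟨z, hz⟩ := key w
    have h4 : φC z = 0 := by
      have h5 := (hQ'mem _).mp (hRQ hz)
      rwa [map_sub, (hQ'mem _).mp hw, zero_sub, neg_eq_zero, hπa] at h5
    have h6 := R.add_mem hz (hle h4)
    rwa [sub_add_cancel] at h6
  have h := dim_le_dim_add_of_minimalPrimes k P₀ Q' T hmin'
  rw [dim_quotient_minimalPrimes_tensor k A P₀ hP₀,
    ringKrullDim_eq_of_ringEquiv ((Ideal.quotEquivOfEq hQ'def).trans
      (Ideal.quotientKerAlgEquivOfSurjective hπs).toRingEquiv)] at h
  refine h.trans (add_le_add le_rfl ?_)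
  exact_mod_cast Finset.card_image_le

/-- Intersection theorem in affine space. -/
theorem dim_add_dim_le {σ : Type u} [Fintype σ] (p q Q : Ideal (MvPolynomial σ k)) [p.IsPrime] [q.IsPrime]
    [Q.IsPrime] (hQ : Q ∈ (p ⊔ q).minimalPrimes) :
    ringKrullDim (MvPolynomial σ k ⧸ p) + ringKrullDim (MvPolynomial σ k ⧸ q) ≤
      ringKrullDim (MvPolynomial σ k ⧸ Q) + Fintype.card σ := by
  haveI : Algebra.FiniteType k (MvPolynomial σ k ⧸ p) :=
    Algebra.FiniteType.trans (R := k) (S := MvPolynomial σ k) inferInstance inferInstance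
  haveI : Algebra.FiniteType k (MvPolynomial σ k ⧸ q) :=
    Algebra.FiniteType.trans (R := k) (S := MvPolynomial σ k) inferInstance inferInstance
  refine dim_add_dim_le_aux k (Ideal.Quotient.mkₐ k p) (Ideal.Quotient.mkₐ k q) (Ideal.Quotient.mkₐ_surjective k p)
    (Ideal.Quotient.mkₐ_surjective k q) (Ideal.Quotient.factorₐ k (le_sup_left.trans hQ.1.2))
    (Ideal.Quotient.factorₐ k (le_sup_right.trans hQ.1.2)) (Ideal.Quotient.mkₐ k Q)
    (Ideal.Quotient.mkₐ_surjective k Q) (AlgHom.ext fun _ => rfl) (AlgHom.ext fun _ => rfl)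
    fun R hR hp hq hRQ => ?_
  refine fun z hz => hQ.2 ⟨hR, sup_le (fun w hw => hp (Ideal.Quotient.eq_zero_iff_mem.mpr hw))
    (fun w hw => hq (Ideal.Quotient.eq_zero_iff_mem.mpr hw))⟩
    (fun w hw => Ideal.Quotient.eq_zero_iff_mem.mp (hRQ hw)) (Ideal.Quotient.eq_zero_iff_mem.mp hz)

/-- Intersection theorem in affine space with coordinates indexed by `Fin n`. -/
theorem dim_add_dim_le_fin {N : ℕ} (p q Q : Ideal (MvPolynomial (Fin N) k)) [p.IsPrime] [q.IsPrime]
    [Q.IsPrime] (hQ : Q ∈ (p ⊔ q).minimalPrimes) :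
    ringKrullDim (MvPolynomial (Fin N) k ⧸ p) + ringKrullDim (MvPolynomial (Fin N) k ⧸ q) ≤
      ringKrullDim (MvPolynomial (Fin N) k ⧸ Q) + N := by
  haveI : Algebra.FiniteType k (MvPolynomial (Fin N) k ⧸ p) :=
    Algebra.FiniteType.trans (R := k) (S := MvPolynomial (Fin N) k) inferInstance inferInstance
  haveI : Algebra.FiniteType k (MvPolynomial (Fin N) k ⧸ q) :=
    Algebra.FiniteType.trans (R := k) (S := MvPolynomial (Fin N) k) inferInstance inferInstance
  refine (dim_add_dim_le_aux k (Ideal.Quotient.mkₐ k p) (Ideal.Quotient.mkₐ k q) (Ideal.Quotient.mkₐ_surjective k p)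
    (Ideal.Quotient.mkₐ_surjective k q) (Ideal.Quotient.factorₐ k (le_sup_left.trans hQ.1.2))
    (Ideal.Quotient.factorₐ k (le_sup_right.trans hQ.1.2)) (Ideal.Quotient.mkₐ k Q)
    (Ideal.Quotient.mkₐ_surjective k Q) (AlgHom.ext fun _ => rfl) (AlgHom.ext fun _ => rfl)
    fun R hR hp hq hRQ => ?_).trans_eq (by rw [Fintype.card_fin])
  refine fun z hz => hQ.2 ⟨hR, sup_le (fun w hw => hp (Ideal.Quotient.eq_zero_iff_mem.mpr hw))
    (fun w hw => hq (Ideal.Quotient.eq_zero_iff_mem.mpr hw))⟩
    (fun w hw => Ideal.Quotient.eq_zero_iff_mem.mp (hRQ hw)) (Ideal.Quotient.eq_zero_iff_mem.mp hz)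


end Groth.Agent.H22Alg.IntersectDim
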