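import Mathlib
import Groth.Prelude.Def_CohB1
import Groth.Agent.H22Alg.IntersectDim
import Groth.Agent.H26Grass.Graded
import Groth.Agent.H17.Dim

/-!
Dimension theory of closed subsets of projective space over a field.
-/

set_option autoImplicit false
set_option linter.style.haveILetI false

universe u

open MvPolynomial CohB1

namespace Groth.Agent.H22Alg.ProjDim

open Groth.Agent.H8Props.FieldDim

variable (k : Type u) [Field k] (n : ℕ)

local notation "𝒮" => MvPolynomial (Fin (n + 1)) k
local notation "ℙ" => ProjectiveSpectrum (polyGrading n k)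

instance t0Space_projectiveSpectrum : T0Space ℙ :=
  inferInstanceAs (T0Space (AlgebraicGeometry.Proj (polyGrading n k)))

instance quasiSober_projectiveSpectrum : QuasiSober ℙ :=
  inferInstanceAs (QuasiSober (AlgebraicGeometry.Proj (polyGrading n k)))

/-- The irrelevant ideal is the augmentation ideal. -/
theorem irrelevant_eq_ker : (HomogeneousIdeal.irrelevant (polyGrading n k)).toIdeal =
    RingHom.ker (constantCoeff : 𝒮 →+* k) := by
  ext a
  rw [RingHom.mem_ker, constantCoeff_eq]
  change GradedRing.proj (polyGrading n k) 0 a = 0 ↔ _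
  rw [show GradedRing.proj (polyGrading n k) 0 a = homogeneousComponent 0 a from
    MvPolynomial.decomposition.decompose'_apply a 0, homogeneousComponent_zero, C_eq_zero]

theorem irrelevant_isMaximal : (HomogeneousIdeal.irrelevant (polyGrading n k)).toIdeal.IsMaximal := by
  rw [irrelevant_eq_ker]
  exact RingHom.ker_isMaximal_of_surjective _ fun c => ⟨C c, constantCoeff_C _ c⟩

theorem le_irrelevant {p : Ideal 𝒮} (hp : p.IsHomogeneous (polyGrading n k)) (hne : p ≠ ⊤) :
    p ≤ (HomogeneousIdeal.irrelevant (polyGrading n k)).toIdeal := by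
  intro a ha
  rw [irrelevant_eq_ker, RingHom.mem_ker]
  by_contra h0
  refine hne (p.eq_top_of_isUnit_mem (x := C (constantCoeff a)) ?_ ((isUnit_iff_ne_zero.mpr h0).map C))
  have h1 := hp 0 ha
  rwa [show ((DirectSum.decompose (polyGrading n k) a 0 : 𝒮)) = homogeneousComponent 0 a from
    MvPolynomial.decomposition.decompose'_apply a 0, homogeneousComponent_zero] at h1

/-- A form of positive degree lies in the irrelevant ideal. -/
theorem mem_irrelevant_of_homogeneous {f : 𝒮} {d : ℕ} (hf : f.IsHomogeneous d) (hd : 0 < d) :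
    f ∈ (HomogeneousIdeal.irrelevant (polyGrading n k)).toIdeal := by
  rw [irrelevant_eq_ker, RingHom.mem_ker, constantCoeff_eq]
  exact hf.coeff_eq_zero (by simpa using hd.ne)

theorem exists_qdim (x : ℙ) : ∃ d : ℕ, ringKrullDim (𝒮 ⧸ x.asHomogeneousIdeal.toIdeal) = d :=
  IntersectDim.exists_nat_dim k _

/-- The dimension of the cone over the closure of a point. -/
noncomputable def qdim (x : ℙ) : ℕ := (exists_qdim k n x).choose

theorem qdim_spec (x : ℙ) : ringKrullDim (𝒮 ⧸ x.asHomogeneousIdeal.toIdeal) = qdim k n x :=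
  (exists_qdim k n x).choose_spec

theorem qdim_pos (x : ℙ) : 0 < qdim k n x := by
  haveI := irrelevant_isMaximal k n
  have hlt : x.asHomogeneousIdeal.toIdeal < (HomogeneousIdeal.irrelevant (polyGrading n k)).toIdeal :=
    lt_of_le_not_ge (le_irrelevant k n x.asHomogeneousIdeal.isHomogeneous x.isPrime.ne_top) x.not_irrelevant_le
  have h := dim_quotient_lt k 𝒮 _ _ hlt
  have h0 : ringKrullDim (𝒮 ⧸ (HomogeneousIdeal.irrelevant (polyGrading n k)).toIdeal) = 0 :=
    ringKrullDim_eq_zero_of_isField ((Ideal.Quotient.maximal_ideal_iff_isField_quotient _).mp inferInstance)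
  rw [h0, qdim_spec] at h
  exact_mod_cast h

theorem qdim_lt {x y : ℙ} (h : x < y) : qdim k n y < qdim k n x := by
  have h1 := dim_quotient_lt k 𝒮 x.asHomogeneousIdeal.toIdeal y.asHomogeneousIdeal.toIdeal h
  rw [qdim_spec, qdim_spec] at h1
  exact_mod_cast h1

theorem qdim_le {x y : ℙ} (h : x ≤ y) : qdim k n y ≤ qdim k n x := by
  rcases h.eq_or_lt with rfl | h
  · exact le_rfl
  · exact (qdim_lt k n h).le

theorem qdim_le_succ (x : ℙ) : qdim k n x ≤ n + 1 := by
  have h : ringKrullDim (𝒮 ⧸ x.asHomogeneousIdeal.toIdeal) ≤ ringKrullDim 𝒮 :=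
    ringKrullDim_quotient_le _
  rw [qdim_spec, MvPolynomial.ringKrullDim_of_isNoetherianRing, ringKrullDim_eq_zero_of_field, zero_add,
    Nat.card_eq_fintype_card, Fintype.card_fin] at h
  exact_mod_cast h

/-- A homogeneous prime with positive dimensional quotient is a point. -/
theorem exists_point {q : Ideal 𝒮} [q.IsPrime] (hq : q.IsHomogeneous (polyGrading n k))
    (hd : 0 < ringKrullDim (𝒮 ⧸ q)) : ∃ y : ℙ, y.asHomogeneousIdeal.toIdeal = q := by
  haveI := irrelevant_isMaximal k n
  refine ⟨⟨⟨q, hq⟩, ‹_›, fun hle => ?_⟩, rfl⟩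
  have he : q = (HomogeneousIdeal.irrelevant (polyGrading n k)).toIdeal :=
    le_antisymm (le_irrelevant k n hq (Ideal.IsPrime.ne_top ‹_›)) hle
  subst he
  rw [ringKrullDim_eq_zero_of_isField ((Ideal.Quotient.maximal_ideal_iff_isField_quotient _).mp inferInstance)] at hd
  exact lt_irrefl _ hd

/-- Cutting a point's cone by finitely many forms of positive degree. -/
theorem exists_minimal_cut (x : ℙ) (s : Finset 𝒮) (hs : ∀ f ∈ s, ∃ d, 0 < d ∧ f.IsHomogeneous d) :
    ∃ q : Ideal 𝒮, q.IsHomogeneous (polyGrading n k) ∧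
      q ∈ (x.asHomogeneousIdeal.toIdeal ⊔ Ideal.span (s : Set 𝒮)).minimalPrimes ∧
      ∃ e : ℕ, ringKrullDim (𝒮 ⧸ q) = e ∧ qdim k n x ≤ e + s.card := by
  haveI := irrelevant_isMaximal k n
  have hhom : (x.asHomogeneousIdeal.toIdeal ⊔ Ideal.span (s : Set 𝒮)).IsHomogeneous (polyGrading n k) :=
    x.asHomogeneousIdeal.isHomogeneous.sup (Ideal.homogeneous_span _ _ fun f hf => by
      obtain ⟨d, -, hd⟩ := hs f hf
      exact ⟨d, hd⟩)
  have hle : x.asHomogeneousIdeal.toIdeal ⊔ Ideal.span (s : Set 𝒮) ≤
      (HomogeneousIdeal.irrelevant (polyGrading n k)).toIdeal :=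
    sup_le (le_irrelevant k n x.asHomogeneousIdeal.isHomogeneous x.isPrime.ne_top) (Ideal.span_le.mpr fun f hf => by
      obtain ⟨d, hd0, hd⟩ := hs f hf
      exact mem_irrelevant_of_homogeneous k n hd hd0)
  obtain ⟨q, hq, -⟩ := Ideal.exists_minimalPrimes_le hle
  haveI := hq.1.1
  obtain ⟨e, he⟩ := IntersectDim.exists_nat_dim k q
  refine ⟨q, H26Grass.Graded.isHomogeneous_of_mem_minimalPrimes hhom hq, hq, e, he, ?_⟩
  have h := IntersectDim.dim_le_dim_add_of_minimalPrimes k _ q s hq
  rw [qdim_spec, he] at h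
  exact_mod_cast h

/-- Every point of cone dimension at least two specializes to one of dimension one less. -/
theorem exists_qdim_pred (x : ℙ) (d : ℕ) (hx : qdim k n x = d + 2) : ∃ y : ℙ, x < y ∧ qdim k n y = d + 1 := by
  classical
  obtain ⟨i, hi⟩ : ∃ i, (X i : 𝒮) ∉ x.asHomogeneousIdeal.toIdeal := by
    by_contra! h
    refine x.not_irrelevant_le fun a ha => ?_
    change a ∈ (HomogeneousIdeal.irrelevant (polyGrading n k)).toIdeal at ha
    rw [irrelevant_eq_ker, RingHom.mem_ker, constantCoeff_eq] at ha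
    have h1 : a ∈ Ideal.span ((X : Fin (n + 1) → 𝒮) '' Set.univ) := mem_ideal_span_X_image.mpr fun m hm => by
      by_contra! h2
      refine mem_support_iff.mp hm ?_
      rw [show m = 0 from Finsupp.ext fun i => h2 i trivial]
      exact ha
    exact (Ideal.span_le.mpr (by rintro _ ⟨j, -, rfl⟩; exact h j)) h1
  obtain ⟨q, hqh, hq, e, he, hle⟩ := exists_minimal_cut k n x {X i} (by
    intro f hf
    rw [Finset.mem_singleton] at hf
    exact ⟨1, one_pos, hf ▸ isHomogeneous_X k i⟩)
  haveI := hq.1.1
  rw [Finset.card_singleton] at hle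
  obtain ⟨y, hy⟩ := exists_point k n hqh (by rw [he]; exact_mod_cast (show 0 < e by omega))
  have hxy : x < y := by
    refine lt_of_le_of_ne (show x.asHomogeneousIdeal.toIdeal ≤ y.asHomogeneousIdeal.toIdeal from
      hy ▸ le_sup_left.trans hq.1.2) fun h => hi ?_
    rw [h, hy]
    exact hq.1.2 (le_sup_right (α := Ideal 𝒮) (Ideal.subset_span (by simp)))
  have hye : qdim k n y = e := by
    have h1 := qdim_spec k n y
    rw [hy, he] at h1
    exact_mod_cast h1.symm
  have := qdim_lt k n hxy
  exact ⟨y, hxy, by omega⟩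

theorem le_iff_specializes (x y : ℙ) : x ≤ y ↔ x ⤳ y := by
  rw [ProjectiveSpectrum.le_iff_mem_closure, specializes_iff_mem_closure]

noncomputable local instance (priority := high) specializationOrderSubtype (A : Set ℙ) : PartialOrder A :=
  specializationOrder A

noncomputable local instance (priority := high + 1) specializationPreorderSubtype (A : Set ℙ) : Preorder A :=
  (specializationOrder A).toPreorder

noncomputable local instance (priority := high + 2) specializationLTSubtype (A : Set ℙ) : LT A :=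
  (specializationOrder A).toPreorder.toLT

noncomputable local instance (priority := high + 2) specializationLESubtype (A : Set ℙ) : LE A :=
  (specializationOrder A).toPreorder.toLE

/-- Chains of specializations inside a closed set from a point of given cone dimension. -/
theorem exists_series {A : Set ℙ} (hA : IsClosed A) :
    ∀ (d : ℕ) (x : A), qdim k n x.1 = d + 1 → ∃ p : LTSeries A, p.length = d ∧ p.last = x := by
  intro d
  induction d with
  | zero => exact fun x _ => ⟨RelSeries.singleton _ x, rfl, rfl⟩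
  | succ d ih =>
    intro x hx
    obtain ⟨y, hxy, hy⟩ := exists_qdim_pred k n x.1 d hx
    have hxs : x.1 ⤳ y := (le_iff_specializes k n _ _).mp hxy.le
    have hyA : y ∈ A := hxs.mem_closed hA x.2
    obtain ⟨p, hp, hlast⟩ := ih ⟨y, hyA⟩ hy
    have hlt : p.last < x := by
      rw [hlast]
      apply lt_of_le_of_ne
      swap
      · exact fun h => hxy.ne (congrArg Subtype.val h).symm
      exact (subtype_specializes_iff x ⟨y, hyA⟩).mpr hxs
    exact ⟨p.snoc x (by exact hlt), by simp [hp], RelSeries.last_snoc _ _ _⟩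

/-- Lower bound for the dimension of a closed subset. -/
theorem le_dim {A : Set ℙ} (hA : IsClosed A) {x : ℙ} (hx : x ∈ A) {d : ℕ} (hd : d + 1 ≤ qdim k n x) :
    (d : WithBot ℕ∞) ≤ topologicalKrullDim A := by
  haveI : QuasiSober A := hA.isClosedEmbedding_subtypeVal.quasiSober
  rw [H17.topologicalKrullDim_eq_krullDim_specialization]
  obtain ⟨p, hp, -⟩ := exists_series k n hA (qdim k n x - 1) ⟨x, hx⟩ (by show qdim k n x = _; omega)
  refine le_trans ?_ (Order.LTSeries.length_le_krullDim p)
  rw [hp]
  exact_mod_cast (show d ≤ qdim k n x - 1 by omega)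

/-- Upper bound for the dimension of a closed subset. -/
theorem dim_le {A : Set ℙ} (hA : IsClosed A) {d : ℕ} (hd : ∀ x ∈ A, qdim k n x ≤ d + 1) :
    topologicalKrullDim A ≤ d := by
  haveI : QuasiSober A := hA.isClosedEmbedding_subtypeVal.quasiSober
  rw [H17.topologicalKrullDim_eq_krullDim_specialization]
  refine iSup_le fun p => ?_
  have hmono : StrictMono fun a : A => qdim k n a.1 := fun a b hab => by
    refine qdim_lt k n (lt_of_le_of_ne ?_ fun h => hab.ne (Subtype.ext h).symm)
    exact (le_iff_specializes k n _ _).mpr ((subtype_specializes_iff _ _).mp hab.le)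
  have h := LTSeries.head_add_length_le_nat (p.map _ hmono)
  rw [LTSeries.head_map, LTSeries.last_map] at h
  have h' : p.length ≤ d := by
    have := hd _ p.last.2
    have := qdim_pos k n p.head.1
    change qdim k n p.head.1 + p.length ≤ qdim k n p.last.1 at h
    omega
  exact_mod_cast h'

/-- A closed subset of dimension `d` has a point of cone dimension `d + 1`. -/
theorem exists_qdim_of_dim {A : Set ℙ} (hA : IsClosed A) {d : ℕ} (hd : topologicalKrullDim A = d) :
    ∃ x ∈ A, qdim k n x = d + 1 := by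
  have hle : ∀ x ∈ A, qdim k n x ≤ d + 1 := fun x hx => by
    by_contra h
    have h1 := le_dim k n hA hx (d := d + 1) (by omega)
    rw [hd] at h1
    have : d + 1 ≤ d := by
      exact ENat.coe_le_coe.mp (WithBot.coe_le_coe.mp (show ((d + 1 : ℕ) : WithBot ℕ∞) ≤ (d : ℕ) from h1))
    omega
  by_contra! hne
  rcases d with - | d
  · obtain ⟨x, hx⟩ : A.Nonempty := by
      by_contra h
      haveI : IsEmpty A := Set.isEmpty_coe_sort.mpr (Set.not_nonempty_iff_eq_empty.mp h)
      rw [topologicalKrullDim, Order.krullDim_eq_bot_iff.mpr ⟨fun Z => isEmptyElim Z.isIrreducible.nonempty.some⟩] at hd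
      exact absurd hd.symm (WithBot.natCast_ne_bot 0)
    have := qdim_pos k n x
    exact hne x hx (le_antisymm (hle x hx) (by omega))
  · have h1 : topologicalKrullDim A ≤ (d : ℕ) := dim_le k n hA fun x hx => by
      have := hle x hx
      have := hne x hx
      omega
    rw [hd] at h1
    have : d + 1 ≤ d := by
      exact ENat.coe_le_coe.mp (WithBot.coe_le_coe.mp (show ((d + 1 : ℕ) : WithBot ℕ∞) ≤ (d : ℕ) from h1))
    omega

/-- The closure of a point has dimension one less than its cone. -/
theorem dim_closure (x : ℙ) : topologicalKrullDim (closure ({x} : Set ℙ)) = ((qdim k n x - 1 : ℕ) : WithBot ℕ∞) := by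
  have := qdim_pos k n x
  refine le_antisymm (dim_le k n isClosed_closure fun y hy => ?_)
    (le_dim k n isClosed_closure (x := x) (d := qdim k n x - 1) (subset_closure (Set.mem_singleton x)) (by omega))
  have h5 : qdim k n y ≤ qdim k n x := qdim_le k n ((ProjectiveSpectrum.le_iff_mem_closure _ x y).mpr hy)
  omega

/-- Irreducible components of a closed subset are closures of its minimal points. -/
theorem exists_point_of_component {A : Set ℙ} (hA : IsClosed A) {C : Set A} (hC : C ∈ irreducibleComponents A) :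
    ∃ y ∈ A, (∀ z ∈ A, z ≤ y → z = y) ∧ topologicalKrullDim C = ((qdim k n y - 1 : ℕ) : WithBot ℕ∞) := by
  haveI : QuasiSober A := hA.isClosedEmbedding_subtypeVal.quasiSober
  obtain ⟨y, hy⟩ := QuasiSober.sober hC.1 (isClosed_of_mem_irreducibleComponents C hC)
  have himg : Subtype.val '' C = closure ({y.1} : Set ℙ) := by
    rw [← hy.def, ← hA.isClosedEmbedding_subtypeVal.closure_image_eq, Set.image_singleton]
  refine ⟨y.1, y.2, fun z hz hzy => ?_, ?_⟩
  · have hsp : (⟨z, hz⟩ : A) ⤳ y := (subtype_specializes_iff ⟨z, hz⟩ y).mpr ((le_iff_specializes k n _ _).mp hzy)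
    have h1 : C ⊆ closure {(⟨z, hz⟩ : A)} := hy.def ▸ specializes_iff_closure_subset.mp hsp
    have h2 : closure {(⟨z, hz⟩ : A)} ⊆ C := hC.2 isIrreducible_singleton.closure h1
    have h3 : y ⤳ (⟨z, hz⟩ : A) := hy.specializes (h2 (subset_closure (Set.mem_singleton _)))
    exact le_antisymm hzy ((le_iff_specializes k n _ _).mpr ((subtype_specializes_iff y ⟨z, hz⟩).mp h3))
  · rw [← dim_closure, ← himg]
    exact IsHomeomorph.topologicalKrullDim_eq _ ((Topology.IsEmbedding.subtypeVal.homeomorphImage C).isHomeomorph)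

/-- A minimal point of the common zero locus of a point's closure and forms is a minimal prime. -/
theorem mem_minimalPrimes_of_minimal (I : Ideal 𝒮) (hI : I.IsHomogeneous (polyGrading n k)) (y : ℙ)
    (hy : I ≤ y.asHomogeneousIdeal.toIdeal)
    (hmin : ∀ z : ℙ, I ≤ z.asHomogeneousIdeal.toIdeal → z ≤ y → z = y) :
    y.asHomogeneousIdeal.toIdeal ∈ I.minimalPrimes := by
  obtain ⟨q, hq, hqy⟩ := Ideal.exists_minimalPrimes_le hy
  let z : ℙ := ⟨⟨q, H26Grass.Graded.isHomogeneous_of_mem_minimalPrimes hI hq⟩, hq.1.1,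
    fun h => y.not_irrelevant_le (le_trans h hqy)⟩
  have h := hmin z hq.1.2 hqy
  rw [← h]
  exact hq

/-- An irreducible closed subset is the closure of a point, with dimension one less than its cone. -/
theorem exists_generic {A : Set ℙ} (hA : IsClosed A) (hAi : IsIrreducible A) :
    ∃ x ∈ A, A = closure {x} ∧ (∀ z ∈ A, x ≤ z) ∧
      topologicalKrullDim A = ((qdim k n x - 1 : ℕ) : WithBot ℕ∞) := by
  obtain ⟨x, hx⟩ := QuasiSober.sober hAi hA
  refine ⟨x, hx.mem, hx.def.symm, fun z hz => (le_iff_specializes k n x z).mpr (hx.specializes hz), ?_⟩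
  rw [← dim_closure, hx.def]

theorem mem_closed_of_le {A : Set ℙ} (hA : IsClosed A) {x z : ℙ} (hx : x ∈ A) (h : x ≤ z) : z ∈ A :=
  ((le_iff_specializes k n x z).mp h).mem_closed hA hx

/-- Projective intersection theorem, on points. -/
theorem exists_common (x y : ℙ) (h : n + 2 ≤ qdim k n x + qdim k n y) :
    ∃ z : ℙ, x ≤ z ∧ y ≤ z ∧ qdim k n x + qdim k n y ≤ qdim k n z + (n + 1) := by
  have hI : (x.asHomogeneousIdeal.toIdeal ⊔ y.asHomogeneousIdeal.toIdeal).IsHomogeneous (polyGrading n k) :=
    x.asHomogeneousIdeal.isHomogeneous.sup y.asHomogeneousIdeal.isHomogeneous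
  have hle : x.asHomogeneousIdeal.toIdeal ⊔ y.asHomogeneousIdeal.toIdeal ≤
      (HomogeneousIdeal.irrelevant (polyGrading n k)).toIdeal :=
    sup_le (le_irrelevant k n x.asHomogeneousIdeal.isHomogeneous x.isPrime.ne_top)
      (le_irrelevant k n y.asHomogeneousIdeal.isHomogeneous y.isPrime.ne_top)
  haveI := irrelevant_isMaximal k n
  obtain ⟨q, hq, -⟩ := Ideal.exists_minimalPrimes_le hle
  haveI := hq.1.1
  obtain ⟨e, he⟩ := IntersectDim.exists_nat_dim k q
  have h1 := IntersectDim.dim_add_dim_le_fin k _ _ q hq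
  rw [qdim_spec, qdim_spec, he] at h1
  have h2 : qdim k n x + qdim k n y ≤ e + (n + 1) := by exact_mod_cast h1
  obtain ⟨z, hz⟩ := exists_point k n (H26Grass.Graded.isHomogeneous_of_mem_minimalPrimes hI hq)
    (by rw [he]; exact_mod_cast (show 0 < e by omega))
  have h3 := qdim_spec k n z
  rw [hz, he] at h3
  have h4 : e = qdim k n z := by exact_mod_cast h3
  exact ⟨z, show x.asHomogeneousIdeal.toIdeal ≤ z.asHomogeneousIdeal.toIdeal from hz ▸ le_sup_left.trans hq.1.2,
    show y.asHomogeneousIdeal.toIdeal ≤ z.asHomogeneousIdeal.toIdeal from hz ▸ le_sup_right.trans hq.1.2, h4 ▸ h2⟩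

end Groth.Agent.H22Alg.ProjDim
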