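import Mathlib
import Groth.Agent.H22Alg.ProjDim

/-!
Heights, hypersurfaces and the dimension of projective space.
-/

set_option autoImplicit false
set_option linter.style.haveILetI false

universe u

open MvPolynomial CohB1

namespace Groth.Agent.H22Alg.ProjDim

variable (k : Type u) [Field k] (n : ℕ)

local notation "𝒮" => MvPolynomial (Fin (n + 1)) k
local notation "ℙ" => ProjectiveSpectrum (polyGrading n k)

theorem ringKrullDim_poly : ringKrullDim 𝒮 = ((n + 1 : ℕ) : WithBot ℕ∞) := by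
  rw [MvPolynomial.ringKrullDim_of_isNoetherianRing, ringKrullDim_eq_zero_of_field, zero_add,
    Nat.card_eq_fintype_card, Fintype.card_fin]

theorem exists_height_eq (q : Ideal 𝒮) [q.IsPrime] {e : ℕ} (he : ringKrullDim (𝒮 ⧸ q) = e) :
    ∃ h : ℕ, q.height = h ∧ h + e = n + 1 := by
  have h1 := H8Props.FieldDim.height_add_dim_quotient k 𝒮 q
  rw [he, ringKrullDim_poly] at h1
  obtain ⟨h, hh⟩ := ENat.ne_top_iff_exists.mp (Ideal.height_ne_top (Ideal.IsPrime.ne_top ‹q.IsPrime›))
  rw [← hh] at h1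
  exact ⟨h, hh.symm, by exact_mod_cast h1⟩

theorem exists_bot_point : ∃ x : ℙ, x.asHomogeneousIdeal.toIdeal = ⊥ ∧ qdim k n x = n + 1 := by
  have hd : ringKrullDim (𝒮 ⧸ (⊥ : Ideal 𝒮)) = ((n + 1 : ℕ) : WithBot ℕ∞) := by
    rw [ringKrullDim_eq_of_ringEquiv (RingEquiv.quotientBot 𝒮), ringKrullDim_poly]
  obtain ⟨x, hx⟩ := exists_point k n (q := ⊥) (Ideal.IsHomogeneous.bot _) (by rw [hd]; exact_mod_cast n.succ_pos)
  refine ⟨x, hx, ?_⟩
  have h := qdim_spec k n x
  rw [hx, hd] at h
  exact_mod_cast h.symm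

theorem eq_bot_iff_qdim (x : ℙ) : x.asHomogeneousIdeal.toIdeal = ⊥ ↔ qdim k n x = n + 1 := by
  obtain ⟨h, hh, hsum⟩ := exists_height_eq k n x.asHomogeneousIdeal.toIdeal (qdim_spec k n x)
  refine ⟨fun he => ?_, fun he => ?_⟩
  · rw [he, Ideal.height_bot] at hh
    have : h = 0 := by exact_mod_cast hh.symm
    omega
  · by_contra hne
    have h1 := Ideal.height_strict_mono_of_isPrime_of_isPrime (I := (⊥ : Ideal 𝒮))
      (J := x.asHomogeneousIdeal.toIdeal) (bot_lt_iff_ne_bot.mpr hne)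
    rw [Ideal.height_bot, hh] at h1
    have : 0 < h := by exact_mod_cast h1
    omega

/-- A nonzero homogeneous ideal contains a nonzero form. -/
theorem exists_homogeneous_ne_zero {p : Ideal 𝒮} (hp : p.IsHomogeneous (polyGrading n k)) (hne : p ≠ ⊥) :
    ∃ (d : ℕ) (f : 𝒮), f.IsHomogeneous d ∧ f ∈ p ∧ f ≠ 0 := by
  obtain ⟨a, ha, ha0⟩ := Submodule.exists_mem_ne_zero_of_ne_bot hne
  by_contra! h
  refine ha0 ?_
  rw [← sum_homogeneousComponent a]
  refine Finset.sum_eq_zero fun i _ => h i _ (homogeneousComponent_isHomogeneous i a) ?_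
  have h1 := hp i ha
  rwa [show ((DirectSum.decompose (polyGrading n k) a i : 𝒮)) = homogeneousComponent i a from
    MvPolynomial.decomposition.decompose'_apply a i] at h1

/-- Below a point of height at least two there is a point cut out by one form. -/
theorem exists_between (x : ℙ) (hx : qdim k n x < n) :
    ∃ y : ℙ, y < x ∧ y.asHomogeneousIdeal.toIdeal ≠ ⊥ := by
  obtain ⟨x₀, hx₀, hq₀⟩ := exists_bot_point k n
  obtain ⟨d, f, hf, hfx, hf0⟩ := exists_homogeneous_ne_zero k n x.asHomogeneousIdeal.isHomogeneous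
    (fun h => by rw [eq_bot_iff_qdim] at h; omega)
  obtain ⟨q, hq, hqx⟩ := Ideal.exists_minimalPrimes_le (I := Ideal.span {f})
    (J := x.asHomogeneousIdeal.toIdeal) ((Ideal.span_singleton_le_iff_mem _).mpr hfx)
  haveI := hq.1.1
  have hqh : q.IsHomogeneous (polyGrading n k) := H26Grass.Graded.isHomogeneous_of_mem_minimalPrimes
    (Ideal.homogeneous_span _ _ fun g hg => ⟨d, by rw [Set.mem_singleton_iff.mp hg]; exact hf⟩) hq
  let y : ℙ := ⟨⟨q, hqh⟩, ‹_›, fun h => x.not_irrelevant_le (le_trans h hqx)⟩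
  obtain ⟨h, hh, hsum⟩ := exists_height_eq k n q (qdim_spec k n y)
  have h1 := Ideal.height_le_one_of_isPrincipal_of_mem_minimalPrimes (Ideal.span {f}) q hq
  rw [hh] at h1
  have h1' : h ≤ 1 := by exact_mod_cast h1
  refine ⟨y, lt_of_le_of_ne hqx fun e => ?_, fun e => hf0 ?_⟩
  · rw [e] at hsum; omega
  · exact (Submodule.mem_bot _).mp ((show q = ⊥ from e) ▸ hq.1.2 (Ideal.mem_span_singleton_self f))

/-- A prime generated by an irreducible form has one-dimensional-less quotient. -/
theorem dim_quotient_span_irreducible {f : 𝒮} (hf : Irreducible f) :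
    (Ideal.span {f}).IsPrime ∧ ringKrullDim (𝒮 ⧸ Ideal.span {f}) = (n : WithBot ℕ∞) := by
  have hp : (Ideal.span {f}).IsPrime := (Ideal.span_singleton_prime hf.ne_zero).mpr hf.prime
  obtain ⟨e, he⟩ := IntersectDim.exists_nat_dim k (Ideal.span {f} : Ideal 𝒮)
  obtain ⟨h, hh, hsum⟩ := exists_height_eq k n (Ideal.span {f}) he
  have h1 := Ideal.height_le_one_of_isPrincipal_of_mem_minimalPrimes (Ideal.span {f}) (Ideal.span {f})
    (by rw [Ideal.minimalPrimes_eq_subsingleton_self]; rfl)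
  have h2 := Ideal.height_strict_mono_of_isPrime_of_isPrime (I := (⊥ : Ideal 𝒮)) (J := Ideal.span {f})
    (bot_lt_iff_ne_bot.mpr fun h0 => hf.ne_zero (Ideal.span_singleton_eq_bot.mp h0))
  rw [hh] at h1
  rw [Ideal.height_bot, hh] at h2
  have h1' : h ≤ 1 := by exact_mod_cast h1
  have h2' : 0 < h := by exact_mod_cast h2
  refine ⟨hp, he.trans ?_⟩
  congr 1
  omega

/-- A height one homogeneous prime is generated by an irreducible form. -/
theorem exists_irreducible_form (p : Ideal 𝒮) [p.IsPrime] (hp : p.IsHomogeneous (polyGrading n k))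
    (hd : ringKrullDim (𝒮 ⧸ p) = (n : WithBot ℕ∞)) :
    ∃ (d : ℕ) (f : 𝒮), f.IsHomogeneous d ∧ Irreducible f ∧ p = Ideal.span {f} := by
  have hne : p ≠ ⊥ := fun h => by
    subst h
    rw [ringKrullDim_eq_of_ringEquiv (RingEquiv.quotientBot 𝒮), ringKrullDim_poly] at hd
    have : n + 1 = n := by exact_mod_cast hd
    omega
  obtain ⟨π, hπp, hπ⟩ := Ideal.IsPrime.exists_mem_prime_of_ne_bot ‹p.IsPrime› hne
  obtain ⟨hπprime, hπd⟩ := dim_quotient_span_irreducible k n hπ.irreducible
  have heq : Ideal.span {π} = p := by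
    by_contra h
    have h1 := H8Props.FieldDim.dim_quotient_lt k 𝒮 _ _ (lt_of_le_of_ne ((Ideal.span_singleton_le_iff_mem _).mpr hπp) h)
    rw [hπd, hd] at h1
    exact lt_irrefl _ h1
  refine ⟨π.totalDegree, π, ?_, hπ.irreducible, heq.symm⟩
  have hsum := sum_homogeneousComponent π
  rw [Finset.sum_range_succ, Finset.sum_eq_zero fun i hi => ?_, zero_add] at hsum
  · have h1 := homogeneousComponent_isHomogeneous π.totalDegree π
    rwa [hsum] at h1
  by_contra hne'
  have hmem : homogeneousComponent i π ∈ p := by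
    have h1 := hp i hπp
    rwa [show ((DirectSum.decompose (polyGrading n k) π i : 𝒮)) = homogeneousComponent i π from
      MvPolynomial.decomposition.decompose'_apply π i] at h1
  rw [← heq, Ideal.mem_span_singleton] at hmem
  obtain ⟨a, ha⟩ := hmem
  have h2 := (homogeneousComponent_isHomogeneous i π).totalDegree hne'
  rw [ha, totalDegree_mul_of_isDomain hπ.ne_zero (fun ha0 => hne' (by rw [ha, ha0, mul_zero]))] at h2
  rw [Finset.mem_range] at hi
  omega

end Groth.Agent.H22Alg.ProjDim
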