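import Groth.Agent.H22Alg.PnVan
import Groth.Agent.H11Tilde.ProjUPUnique

/-! # `p_* O = O` and `p_* O(d) = 0` for `-n ≤ d < 0` on `P^n_T`. -/

set_option autoImplicit false
set_option linter.style.haveILetI false

universe u

open CategoryTheory CategoryTheory.Limits AlgebraicGeometry TopologicalSpace Opposite
open Groth.Agent.H11Tilde Groth.Agent.H11Ample
open scoped TensorProduct
attribute [local instance 10000] Groth.Agent.H10Coh.hasSheafifyAb Groth.Agent.H10Coh.hasWeakSheafifyAb Groth.Agent.H10Coh.hasExtAb Groth.Agent.H10Coh.enoughInjAb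

noncomputable section

namespace Groth.Agent.H22Alg.PnDeg0

open PnVan
attribute [local instance] PnVan.algZ

variable {n : ℕ} {T : Scheme.{u}} {W : T.Opens}

theorem isInvertible_structure (X : Scheme.{u}) : PicF.IsInvertible (Coh.structureModule X) :=
  isInvertible_of_gen fun _ => ⟨⊤, one ⊤, trivial, isGen_one ⊤⟩

theorem bijective_β (hW : IsAffineOpen W) (F : (CohB1.ProjSpace n Zu.{u}).Modules) (hF : FlatMod.IsFinLocFree F)
    (hvan : ∀ p : ℕ, Subsingleton (Coh.HH (CohB1.ProjSpace n Zu.{u}) F (p + 1))) :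
    letI := overW (n := n) hW
    Function.Bijective (LeadBC.β Γ(T, W) (isPullback_W (n := n) hW) F
      (V := (⊤ : (CohB1.ProjSpace n Zu.{u}).Opens)) (W := (⊤ : (PW n T W).Opens)) le_top) := by
  letI := overW (n := n) hW
  obtain ⟨ι, hι, U, hU⟩ := exists_cover (n := n)
  haveI : IsProper (CohB1.ProjSpace n Zu.{u} ↘ Spec (CommRingCat.of Zu.{u})) :=
    inferInstanceAs (IsProper (CohB1.ProjSpace.toSpec n Zu.{u}))
  haveI : Flat (CohB1.ProjSpace n Zu.{u} ↘ Spec (CommRingCat.of Zu.{u})) := flat_toSpec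
  haveI := H8Props.FinLocFree.isQCoh_of_isFinLocFree _ hF
  exact CohCech.bijective_β_top Zu.{u} F Γ(T, W) (isPullback_W hW) hU
    (H10Coh.SheafHom.isFlatOver_of_isFinLocFree _ _ hF) hvan

theorem subsingleton_qF_neg (hW : IsAffineOpen W) {d : ℤ} (hd : -(n : ℤ) ≤ d) (hd' : d < 0) :
    Subsingleton Γ(LeadBC.qF (qW n T W) (Twist.twistProjSpace n Zu.{u} d), ⊤) := by
  letI := overW (n := n) hW
  haveI : Subsingleton Γ(Twist.twistProjSpace n Zu.{u} d, ⊤) :=
    H10Coh.Pn.subsingleton_sections_of_neg (R := Zu.{u}) (by omega) hd'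
  haveI : Subsingleton (LeadBC.sec Zu.{u} (Twist.twistProjSpace n Zu.{u} d) ⊤) := ‹_›
  exact (bijective_β hW _ (finLocFree_Od d) (subsingleton_Od hd)).2.subsingleton

theorem bijective_tmul {A : Type u} [CommRing A] {M : Type u} [AddCommGroup M] [Module A M] (m : M)
    (hm : Function.Bijective (LinearMap.toSpanSingleton A M m)) (S : Type u) [CommRing S] [Algebra A S] :
    Function.Bijective fun s : S => m ⊗ₜ[A] s := by
  let e : A ≃ₗ[A] M := LinearEquiv.ofBijective (LinearMap.toSpanSingleton A M m) hm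
  refine (congrArg Function.Bijective (funext fun s => ?_)).mp
    ((TensorProduct.lid A S).symm.trans (e.rTensor S)).bijective
  simp [e]

theorem bijective_scal (hW : IsAffineOpen W) :
    letI := overW (n := n) hW
    Function.Bijective (LeadBC.sc Γ(T, W) (⊤ : (PW n T W).Opens)) := by
  letI := overW (n := n) hW
  let F := Coh.structureModule (CohB1.ProjSpace n Zu.{u})
  have hb := bijective_β hW F (finLocFree_of_inv (isInvertible_structure _))
    (fun p => H10Coh.Pn.subsingleton_HH_structureModule n Zu.{u} (p + 1) (by omega))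
  have hA : Function.Bijective (LeadBC.sc Zu.{u} (⊤ : (CohB1.ProjSpace n Zu.{u}).Opens)) := by
    have h : ∀ r, LeadBC.sc Zu.{u} (⊤ : (CohB1.ProjSpace n Zu.{u}).Opens) r =
        H10Coh.Pn.constΓ (n := n) (R := Zu.{u}) r := fun r => by
      show (CohB1.ProjSpace n Zu.{u}).presheaf.map (homOfLE (le_top : (⊤ : (CohB1.ProjSpace n Zu.{u}).Opens) ≤ ⊤)).op _ = _
      rw [show (homOfLE (le_top : (⊤ : (CohB1.ProjSpace n Zu.{u}).Opens) ≤ ⊤)).op = 𝟙 _ from rfl, CategoryTheory.Functor.map_id]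
      rfl
    rw [funext h]
    exact H10Coh.Pn.bijective_constΓ
  let u₀ : Γ(F, ⊤) := LeadBC.sc Zu.{u} (⊤ : (CohB1.ProjSpace n Zu.{u}).Opens) 1
  have hu : Function.Bijective (LinearMap.toSpanSingleton Zu.{u} (LeadBC.sec Zu.{u} F ⊤) (show LeadBC.sec Zu.{u} F ⊤ from u₀)) := by
    refine (congrArg Function.Bijective (funext fun a => ?_)).mp hA
    show (LeadBC.sc Zu.{u} _ a : Γ(F, ⊤)) = (LeadBC.sc Zu.{u} _ a : Γ(CohB1.ProjSpace n Zu.{u}, ⊤)) * LeadBC.sc Zu.{u} _ 1
    rw [map_one, mul_one]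
  let E := H16Derived.KFlat.Stalk.structurePullbackIso (qW n T W)
  let g : Γ(PW n T W, ⊤) := E.hom.app ⊤ (LeadBC.pullRes F (qW n T W) (V := ⊤) (W := ⊤) le_top u₀)
  have hE : Function.Bijective (E.hom.app ⊤) := ConcreteCategory.bijective_of_isIso (E.hom.app ⊤)
  have key : Function.Bijective fun s : Γ(T, W) => LeadBC.sc Γ(T, W) (⊤ : (PW n T W).Opens) s * g := by
    refine (congrArg Function.Bijective (funext fun s => ?_)).mp
      (hE.comp (hb.comp (bijective_tmul (A := Zu.{u}) (show LeadBC.sec Zu.{u} F ⊤ from u₀) hu Γ(T, W))))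
    exact Scheme.Modules.Hom.app_smul E.hom (LeadBC.sc Γ(T, W) (⊤ : (PW n T W).Opens) s) _
  obtain ⟨s₀, hs₀⟩ := key.2 1
  have hg : IsUnit g := IsUnit.of_mul_eq_one_right _ hs₀
  exact (Function.Bijective.of_comp_iff' hg.unit.mulRight.bijective _).1 key

theorem bijective_app (hW : IsAffineOpen W) : Function.Bijective ((KRR.pr n T).app W) := by
  letI := overW (n := n) hW
  let U := KRR.pr n T ⁻¹ᵁ W
  have hb := bijective_scal (n := n) hW
  have h : ∀ s, LeadBC.sc Γ(T, W) (⊤ : (PW n T W).Opens) s = (U.topIso).inv ((KRR.pr n T).app W s) := by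
    intro s
    show (PW n T W).presheaf.map (homOfLE (le_top : (⊤ : (PW n T W).Opens) ≤ ⊤)).op
      (Coh.toGlobal ((KRR.pr n T ∣_ W) ≫ hW.isoSpec.hom) s) = _
    rw [show (homOfLE (le_top : (⊤ : (PW n T W).Opens) ≤ ⊤)).op = 𝟙 _ from rfl, CategoryTheory.Functor.map_id]
    exact (RingHom.congr_fun (H10Coh.preΓ_eq_toΓ (KRR.pr n T) hW) s).symm.trans rfl
  rw [funext h] at hb
  exact (Function.Bijective.of_comp_iff' (ConcreteCategory.bijective_of_isIso U.topIso.inv) _).1 hb

theorem isIso_of_bijective_basis {X : Scheme.{u}} {M N : X.Modules} (ψ : M ⟶ N) (B : X.Opens → Prop)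
    (hB : ∀ (W : X.Opens) (x : X), x ∈ W → ∃ U, B U ∧ x ∈ U ∧ U ≤ W)
    (h : ∀ U, B U → Function.Bijective (ψ.app U)) : IsIso ψ := by
  haveI : IsIso ((H10Coh.shF X).map ψ) := by
    refine TopCat.Sheaf.isIso_iff_isIso_basis (B := fun i : {U : X.Opens // B U} => i.1) ?_
      fun i => (ConcreteCategory.isIso_iff_bijective _).2 (h i.1 i.2)
    rw [Opens.isBasis_iff_nbhd]
    intro W x hx
    obtain ⟨U, hU, hxU, hle⟩ := hB W x hx
    exact ⟨U, ⟨⟨U, hU⟩, rfl⟩, hxU, hle⟩
  exact isIso_of_reflects_iso ψ (H10Coh.shF X)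

/-- `p_* O = O`. -/
theorem isIso_unitHom : IsIso (SheafOfModules.unitToPushforwardObjUnit.{u} (KRR.pr n T).toRingCatSheafHom :
    (Coh.structureModule T) ⟶ (Scheme.Modules.pushforward (KRR.pr n T)).obj (Coh.structureModule (KRR.PY n T))) :=
  isIso_of_bijective_basis _ (fun U => IsAffineOpen U)
    (fun V x hx => exists_isAffineOpen_mem_and_subset hx) fun U hU => bijective_app hU

theorem nonempty_push_structure :
    Nonempty (Coh.structureModule T ≅ (Scheme.Modules.pushforward (KRR.pr n T)).obj (Coh.structureModule (KRR.PY n T))) :=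
  ⟨@asIso _ _ _ _ _ isIso_unitHom⟩

theorem isZero_push_twist_neg {d : ℤ} (hd : -(n : ℤ) ≤ d) (hd' : d < 0) :
    IsZero ((Scheme.Modules.pushforward (KRR.pr n T)).obj (Twist.twistOver n T d)) := by
  rw [IsZero.iff_id_eq_zero]
  refine Scheme.Modules.hom_ext _ _ fun V => ConcreteCategory.hom_ext _ _ fun s => ?_
  change s = (0 : Γ((Scheme.Modules.pushforward (KRR.pr n T)).obj (Twist.twistOver n T d), V))
  refine eq_of_locally _ _ fun x hx => ?_
  obtain ⟨U, hU, hxU, hUV⟩ := exists_isAffineOpen_mem_and_subset hx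
  refine ⟨U, hUV, hxU, ?_⟩
  let O := KRR.pr n T ⁻¹ᵁ U
  have := subsingleton_qF_neg (n := n) hU hd hd'
  let b : LeadBC.qF (qW n T U) (Twist.twistProjSpace n Zu.{u} d) ≅ (Twist.twistOver n T d).restrict O.ι :=
    ((Scheme.Modules.pullbackComp O.ι (CMReg.fstP n T)).app _).symm ≪≫
      ((Scheme.Modules.restrictFunctorIsoPullback O.ι).app _).symm
  have h1 : Subsingleton Γ((Twist.twistOver n T d).restrict O.ι, ⊤) :=
    (ConcreteCategory.bijective_of_isIso (b.hom.app ⊤)).2.subsingleton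
  exact @Subsingleton.elim _ (((Twist.twistOver n T d).presheaf.mapIso (eqToIso (O.ι_image_top).symm).op).addCommGroupIsoToAddEquiv.toEquiv.subsingleton_congr.1 h1) _ _

end Groth.Agent.H22Alg.PnDeg0
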