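import Groth.Agent.H22Alg.ExtPowSheaf
import Groth.Agent.H22Alg.PnDeg0
import Groth.Agent.H17.KoszSh.AffHom
import Groth.Agent.H11Tilde.QCohCrit
import Groth.Agent.H8Props.FinLocFree.Sheaf
import Groth.Agent.H8Props.RelFP.PullSections

/-! # Uniqueness, quasi-coherence and pull-back of exterior powers. -/

set_option autoImplicit false
set_option linter.style.haveILetI false

universe u

open CategoryTheory AlgebraicGeometry Opposite TopologicalSpace exteriorPower

noncomputable section

namespace Groth.Agent.H22Alg.ExtPowHom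

open ExtPowAlg ExtPowSheaf

variable {X : Scheme.{u}} {i : ℕ} {E L L' : X.Modules}

/-- A morphism out of an exterior power from its values on decomposable sections. -/
theorem exists_hom (hL : ExtPow.IsExtPow i E L) {M : X.Modules}
    (a : ∀ U : X.affineOpens, ↥(⋀[Γ(X, U.1)]^i Γ(E, U.1)) →ₗ[Γ(X, U.1)] Γ(M, U.1))
    (ha : ∀ (U V : X.affineOpens) (h : V.1 ≤ U.1) (e : Fin i → Γ(E, U.1)),
      a V (ιMulti _ i fun j => E.presheaf.map (homOfLE h).op (e j)) =
        M.presheaf.map (homOfLE h).op (a U (ιMulti _ i e))) :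
    ∃ (φ : ∀ U : X.affineOpens, Γ(L, U.1) ≃ₗ[Γ(X, U.1)] ↥(⋀[Γ(X, U.1)]^i Γ(E, U.1))) (g : L ⟶ M),
      ∀ U x, g.app U.1 x = a U (φ U x) := by
  obtain ⟨φ, hφ⟩ := hL
  let φ' : ∀ U : X.affineOpens, Γ(L, U.1) ≃ₗ[Γ(X, U.1)] ↥(⋀[Γ(X, U.1)]^i Γ(E, U.1)) := fun U => φ U
  obtain ⟨g, hg⟩ := H17.AffHom.exists_hom (M := L) (N := M) (fun U => (a U).comp (φ' U).toLinearMap)
    fun U V h x => by
      obtain ⟨y, rfl⟩ := (φ' U).symm.surjective x
      simp only [LinearMap.comp_apply, LinearEquiv.coe_coe, LinearEquiv.apply_symm_apply]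
      induction y using ExtPowAlg.induction with
      | hgen e =>
        have h1 : L.presheaf.map (homOfLE h).op ((φ' U).symm (ιMulti _ i e)) =
            (φ' V).symm (ιMulti _ i fun j => E.presheaf.map (homOfLE h).op (e j)) := hφ U V h e
        rw [h1, LinearEquiv.apply_symm_apply]
        exact ha U V h e
      | h0 => simp
      | hadd x y hx hy => simp only [map_add, hx, hy]
      | hsmul r x hx => simp only [map_smul, Scheme.Modules.map_smul, hx]
  exact ⟨φ', g, hg⟩

/-- A morphism on sections as a linear map. -/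
def appL {M N : X.Modules} (g : M ⟶ N) (U : X.Opens) : Γ(M, U) →ₗ[Γ(X, U)] Γ(N, U) where
  toFun := g.app U
  map_add' := map_add _
  map_smul' r x := Scheme.Modules.Hom.app_smul g r x

theorem isIso_of_bijective {M N : X.Modules} (g : M ⟶ N) (B : X.Opens → Prop)
    (hB : ∀ (W : X.Opens) (x : X), x ∈ W → ∃ U, B U ∧ x ∈ U ∧ U ≤ W)
    (h : ∀ U, B U → Function.Bijective (g.app U)) : IsIso g :=
  PnDeg0.isIso_of_bijective_basis g B hB h

theorem isIso_of_bijective_affine {M N : X.Modules} (g : M ⟶ N)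
    (h : ∀ U : X.affineOpens, Function.Bijective (g.app U.1)) : IsIso g :=
  isIso_of_bijective g IsAffineOpen
    (fun W x hx => by
      obtain ⟨U, hU, hxU, hle⟩ := exists_isAffineOpen_mem_and_subset (x := x) (U := W) hx
      exact ⟨U, hU, hxU, hle⟩)
    fun U hU => h ⟨U, hU⟩

/-- Exterior powers are unique. -/
theorem nonempty_iso (hL : ExtPow.IsExtPow i E L) (hL' : ExtPow.IsExtPow i E L') : Nonempty (L ≅ L') := by
  obtain ⟨φ', hφ'⟩ := hL'
  obtain ⟨φ, g, hg⟩ := exists_hom hL (fun U => (φ' U).symm.toLinearMap) (fun U V h e => (hφ' U V h e).symm)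
  haveI := isIso_of_bijective_affine g fun U => by
    rw [show (g.app U.1 : Γ(L, U.1) → Γ(L', U.1)) = (φ' U).symm ∘ φ U from funext (hg U)]
    exact (φ' U).symm.bijective.comp (φ U).bijective
  exact ⟨asIso g⟩

theorem isQCoh_sheaf (hE : Coh.IsQCoh E) : Coh.IsQCoh (sheaf i E) := by
  refine H11Tilde.isQuasicoherent_of_basicOpen_localization _ (fun U : X.affineOpens => U.1)
    (iSup_affineOpens_eq_top X) (fun U => U.2) (fun U r s hs => ?_) (fun U r s' => ?_)
  · letI := Module.compHom (Sec i E (X.basicOpen r)) (algebraMap Γ(X, U.1) Γ(X, X.basicOpen r))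
    haveI := isLocalizedModule_res (i := i) hE U.2 r
    obtain ⟨x, rfl⟩ := surjective_η hE U.2 s
    rw [η_res] at hs
    have h0 : res i E (X.basicOpen_le r) x = 0 := injective_η hE (U.2.basicOpen r) (by rw [hs, map_zero])
    obtain ⟨⟨_, n, rfl⟩, hn⟩ := (IsLocalizedModule.eq_zero_iff (Submonoid.powers r)
      ({ toFun := res i E (X.basicOpen_le r)
         map_add' := map_add _
         map_smul' := (res i E (X.basicOpen_le r)).map_smulₛₗ } :
        Sec i E U.1 →ₗ[Γ(X, U.1)] Sec i E (X.basicOpen r))).1 h0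
    refine ⟨n, ?_⟩
    rw [← map_smul]
    exact (congrArg (η i E U.1) hn).trans (map_zero _)
  · letI := Module.compHom (Sec i E (X.basicOpen r)) (algebraMap Γ(X, U.1) Γ(X, X.basicOpen r))
    haveI := isLocalizedModule_res (i := i) hE U.2 r
    obtain ⟨x', rfl⟩ := surjective_η hE (U.2.basicOpen r) s'
    obtain ⟨⟨x, ⟨_, n, rfl⟩⟩, hn⟩ := IsLocalizedModule.surj (Submonoid.powers r)
      ({ toFun := res i E (X.basicOpen_le r)
         map_add' := map_add _
         map_smul' := (res i E (X.basicOpen_le r)).map_smulₛₗ } :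
        Sec i E U.1 →ₗ[Γ(X, U.1)] Sec i E (X.basicOpen r)) x'
    exact ⟨n, η i E U.1 x, (η_res i E (X.basicOpen_le r) x).trans
      ((congrArg (η i E _) hn.symm).trans (((η i E (X.basicOpen r)).map_smul
      (X.presheaf.map (homOfLE (X.basicOpen_le r)).op (r ^ n)) x')))⟩

theorem isQCoh_of_isExtPow (hE : Coh.IsQCoh E) (hL : ExtPow.IsExtPow i E L) : Coh.IsQCoh L := by
  obtain ⟨e⟩ := nonempty_iso (isExtPow_sheaf hE) hL
  exact (SheafOfModules.isQuasicoherent.{u} (R := X.ringCatSheaf)).prop_of_iso e (isQCoh_sheaf hE)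

/-- An exterior power of a bundle is a bundle. -/
theorem finLocFree_of_isExtPow (hE : FlatMod.IsFinLocFree E) (hL : ExtPow.IsExtPow i E L) :
    FlatMod.IsFinLocFree L := by
  have hq := H8Props.FinLocFree.isQCoh_of_isFinLocFree _ hE
  refine H8Props.FinLocFree.isFinLocFree_of_sections L (isQCoh_of_isExtPow hq hL) fun x => ?_
  obtain ⟨U, r, hxU, ⟨e⟩⟩ := hE x
  obtain ⟨V, hV, hxV, hVU⟩ := exists_isAffineOpen_mem_and_subset (x := x) (U := U) hxU
  obtain ⟨b⟩ := H8Props.FinLocFree.exists_basis_of_chart E e hVU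
  obtain ⟨φ, -⟩ := hL
  let φ' : Γ(L, V) ≃ₗ[Γ(X, V)] ↥(⋀[Γ(X, V)]^i Γ(E, V)) := φ ⟨V, hV⟩
  haveI : Module.Finite Γ(X, V) Γ(E, V) := Module.Finite.of_basis b
  let bw := (b.exteriorPower i).map φ'.symm
  haveI : Module.Free Γ(X, V) Γ(L, V) := Module.Free.of_basis bw
  haveI : Module.Finite Γ(X, V) Γ(L, V) := Module.Finite.equiv φ'.symm
  exact ⟨V, hV, hxV, Module.finitePresentation_of_projective _ _, inferInstance⟩

section Pullback

variable {Y : Scheme.{u}} (f : X ⟶ Y) {G M : Y.Modules}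

open H8Props.PullSections in
/-- Exterior powers commute with pull-back. -/
theorem isExtPow_pullback (hG : Coh.IsQCoh G) (hM : ExtPow.IsExtPow i G M) :
    ExtPow.IsExtPow i ((Scheme.Modules.pullback f).obj G) ((Scheme.Modules.pullback f).obj M) := by
  have hG' := H29Fitt.isQCoh_pullback f G hG
  let E' := (Scheme.Modules.pullback f).obj G
  let S := sheaf i E'
  let pE : ∀ U : Y.Opens, Γ(G, U) →ₛₗ[(f.app U).hom] Γ(E', f ⁻¹ᵁ U) := fun U =>
    { toFun := OmegaSh.pullSect f G U
      map_add' := map_add _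
      map_smul' := fun r m => Scheme.Modules.Hom.app_smul _ r m }
  let aU : ∀ U : Y.affineOpens, ↥(⋀[Γ(Y, U.1)]^i Γ(G, U.1)) →ₗ[Γ(Y, U.1)]
      Γ((Scheme.Modules.pushforward f).obj S, U.1) := fun U =>
    { toFun := fun w => η i E' (f ⁻¹ᵁ U.1) (wmap i _ (pE U.1) w)
      map_add' := fun x y => by simp only [map_add]; rfl
      map_smul' := fun r x => by
        simp only [LinearMap.map_smulₛₗ, RingHom.id_apply]
        rfl }
  obtain ⟨φ, g, hg⟩ := exists_hom hM aU fun U V h e => by
    show η i E' _ (wmap i _ (pE V.1) _) =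
      S.presheaf.map (homOfLE (f.preimage_mono h)).op (η i E' _ (wmap i _ (pE U.1) _))
    rw [η_res, wmap_ιMulti, wmap_ιMulti, res_ιMulti]
    refine congrArg _ (congrArg _ (funext fun j => ?_))
    exact (NatTrans.naturality_apply
      (((Scheme.Modules.pullbackPushforwardAdjunction f).unit.app G).mapPresheaf) (homOfLE h).op (e j))
  let θ : (Scheme.Modules.pullback f).obj M ⟶ S :=
    ((Scheme.Modules.pullbackPushforwardAdjunction f).homEquiv M S).symm g
  have hθ : ∀ (U : Y.Opens) (m : Γ(M, U)), θ.app (f ⁻¹ᵁ U) (OmegaSh.pullSect f M U m) = g.app U m := by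
    intro U m
    have h1 : ((Scheme.Modules.pullbackPushforwardAdjunction f).homEquiv M S) θ = g := Equiv.apply_symm_apply _ _
    rw [Adjunction.homEquiv_unit] at h1
    exact ConcreteCategory.congr_hom (congrArg (fun k => k.app U) h1) m
  have hMq := isQCoh_of_isExtPow hG hM
  -- bijectivity over small affine opens
  have small : ∀ (U : Y.affineOpens) (V : X.affineOpens) (h : V.1 ≤ f ⁻¹ᵁ U.1), Function.Bijective (θ.app V.1) := by
    intro U V h
    letI := (f.appLE U.1 V.1 h).hom.toAlgebra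
    letI : Module Γ(Y, U.1) Γ((Scheme.Modules.pullback f).obj M, V.1) :=
      Module.compHom _ (f.appLE U.1 V.1 h).hom
    haveI : IsScalarTower Γ(Y, U.1) Γ(X, V.1) Γ((Scheme.Modules.pullback f).obj M, V.1) :=
      .of_algebraMap_smul fun _ _ => rfl
    letI : Module Γ(Y, U.1) (Sec i E' V.1) := Module.compHom _ (f.appLE U.1 V.1 h).hom
    haveI : IsScalarTower Γ(Y, U.1) Γ(X, V.1) (Sec i E' V.1) := .of_algebraMap_smul fun _ _ => rfl
    letI : Module Γ(Y, U.1) Γ(E', V.1) := Module.compHom _ (f.appLE U.1 V.1 h).hom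
    haveI : IsScalarTower Γ(Y, U.1) Γ(X, V.1) Γ(E', V.1) := .of_algebraMap_smul fun _ _ => rfl
    have h1 := isBaseChange_pullLin f M h hMq U.2 V.2
    have hb := isBaseChange_pullLin f G h hG U.2 V.2
    let F : ↥(⋀[Γ(Y, U.1)]^i Γ(G, U.1)) →ₗ[Γ(Y, U.1)] Sec i E' V.1 :=
      { toFun := fun w => res i E' h (wmap i _ (pE U.1) w)
        map_add' := fun x y => by simp only [map_add]
        map_smul' := fun r x => by
          simp only [LinearMap.map_smulₛₗ, RingHom.id_apply]
          rfl }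
    have hF := H27DR.isBaseChange_exteriorPower hb F (fun m => by
      show res i E' h (wmap i _ (pE U.1) _) = _
      rw [wmap_ιMulti, res_ιMulti]
      rfl)
    let T : Γ((Scheme.Modules.pullback f).obj M, V.1) →ₗ[Γ(X, V.1)] Sec i E' V.1 :=
      { toFun := fun z => loc hG' V (θ.app V.1 z)
        map_add' := fun x y => by rw [map_add, map_add]
        map_smul' := fun r x => by rw [Scheme.Modules.Hom.app_smul, map_smul]; rfl }
    have hT : ∀ m : Γ(M, U.1), T (pullLin f M h m) = F (φ U m) := fun m => by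
      apply (loc hG' V).symm.injective
      show (loc hG' V).symm (loc hG' V (θ.app V.1 (pullLin f M h m))) = η i E' V.1 (F (φ U m))
      rw [LinearEquiv.symm_apply_apply]
      show θ.app V.1 (((Scheme.Modules.pullback f).obj M).presheaf.map (homOfLE h).op (OmegaSh.pullSect f M U.1 m)) = _
      refine (ConcreteCategory.congr_hom (θ.mapPresheaf.naturality (homOfLE h).op) _).trans ?_
      refine (congrArg (S.presheaf.map (homOfLE h).op) ((hθ U.1 m).trans (hg U m))).trans ?_
      exact η_res i E' h _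
    have hTe : T = (h1.equiv.symm.trans ((TensorProduct.AlgebraTensorModule.congr (LinearEquiv.refl Γ(X, V.1) Γ(X, V.1))
        (φ U)).trans hF.equiv)).toLinearMap := by
      refine h1.algHom_ext _ _ fun m => ?_
      rw [hT]
      simp only [LinearEquiv.coe_coe, LinearEquiv.trans_apply]
      rw [h1.equiv_symm_apply, TensorProduct.AlgebraTensorModule.congr_tmul, hF.equiv_tmul, LinearEquiv.refl_apply,
        one_smul]
      rfl
    have hTb : Function.Bijective T := by rw [hTe]; exact LinearEquiv.bijective _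
    have := (loc hG' V).symm.bijective.comp hTb
    convert this using 1
    exact funext fun z => ((loc hG' V).symm_apply_apply (θ.app V.1 z)).symm
  haveI hiso : IsIso θ := isIso_of_bijective θ
      (fun V => IsAffineOpen V ∧ ∃ U : Y.affineOpens, V ≤ f ⁻¹ᵁ U.1)
      (fun W x hx => by
        obtain ⟨U, hU, hxU, -⟩ := exists_isAffineOpen_mem_and_subset (X := Y) (x := f x) (U := ⊤) trivial
        obtain ⟨V, hV, hxV, hle⟩ := exists_isAffineOpen_mem_and_subset (X := X) (x := x) (U := W ⊓ f ⁻¹ᵁ U) ⟨hx, hxU⟩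
        exact ⟨V, ⟨hV, ⟨U, hU⟩, fun y hy => (hle hy).2⟩, hxV, fun y hy => (hle hy).1⟩)
      fun V ⟨hV, U, hle⟩ => small U ⟨V, hV⟩ hle
  obtain ⟨ψ, hψ⟩ := isExtPow_sheaf (i := i) hG'
  refine ⟨fun V => (LinearEquiv.ofBijective (appL θ V.1)
      (ConcreteCategory.bijective_of_isIso ((θ.app V.1)))).trans (ψ V), fun U V h e => ?_⟩
  apply (ConcreteCategory.bijective_of_isIso ((θ.app V.1))).1
  refine (ConcreteCategory.congr_hom (θ.mapPresheaf.naturality (homOfLE h).op) _).trans ?_
  refine Eq.trans (congrArg (S.presheaf.map (homOfLE h).op)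
    ((LinearEquiv.ofBijective (appL θ U.1) (ConcreteCategory.bijective_of_isIso ((θ.app U.1)))).apply_symm_apply
      ((ψ U).symm (ιMulti Γ(X, U.1) i e)))) ?_
  refine Eq.trans (hψ U V h e) ?_
  exact ((LinearEquiv.ofBijective (appL θ V.1) (ConcreteCategory.bijective_of_isIso ((θ.app V.1)))).apply_symm_apply
      _).symm

end Pullback

end Groth.Agent.H22Alg.ExtPowHom
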