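import Groth.Prelude.Def_KRR
import Groth.Agent.H27Lambda.Basic
import Groth.Agent.H11Ample.Global
import Groth.Agent.H17.AmpleSep
import Groth.Agent.H16Derived.KFlat.PerfCoh
import Groth.Agent.H16Derived.KFlat.PerfConc
import Groth.Agent.H16Derived.KFlat.PerfNoeth
import Groth.Agent.H16Derived.KFlat.StrictPerfCone
import Mathlib.RingTheory.Nilpotent.Lemmas

/-! # Models of K(X): classes of extensions and free modules; the augmentation ideal is nil. -/

set_option autoImplicit false
set_option linter.style.haveILetI false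

universe v u

open CategoryTheory CategoryTheory.Limits AlgebraicGeometry LambdaRing ZeroObject
attribute [local instance] HasDerivedCategory.standard

noncomputable section

namespace Groth.Agent.H22Alg.KModel

variable {X : Scheme.{u}}

open H16Derived.KFlat.Stalk in
theorem cl_add {S : ShortComplex X.Modules} (hS : S.ShortExact) (h₁ : FlatMod.IsFinLocFree S.X₁)
    (h₂ : FlatMod.IsFinLocFree S.X₂) (h₃ : FlatMod.IsFinLocFree S.X₃) :
    KRR.cl X S.X₂ = KRR.cl X S.X₁ + KRR.cl X S.X₃ := by
  simp only [KRR.cl, KZero.clSub, dif_pos (show KRR.vbP X S.X₁ from h₁),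
    dif_pos (show KRR.vbP X S.X₂ from h₂), dif_pos (show KRR.vbP X S.X₃ from h₃)]
  rw [← sub_eq_zero, sub_add_eq_sub_sub, ← QuotientAddGroup.mk_sub, ← QuotientAddGroup.mk_sub]
  exact (QuotientAddGroup.eq_zero_iff _).mpr (AddSubgroup.subset_closure ⟨S, h₁, h₂, h₃, hS, rfl⟩)

theorem finLocFree_iso {M N : X.Modules} (e : M ≅ N) (h : FlatMod.IsFinLocFree M) :
    FlatMod.IsFinLocFree N := H16Derived.KFlat.Stalk.isFinLocFree_of_iso e h

theorem finLocFree_zero {M : X.Modules} (h : IsZero M) : FlatMod.IsFinLocFree M :=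
  H16Derived.KFlat.Stalk.isFinLocFree_of_isZero h

theorem cl_isZero {M : X.Modules} (h : IsZero M) : KRR.cl X M = 0 := by
  have hS : (ShortComplex.mk (0 : M ⟶ M) (0 : M ⟶ M) (by simp)).ShortExact :=
    { exact := ShortComplex.exact_of_isZero_X₂ _ h
      mono_f := ⟨fun _ _ _ => h.eq_of_tgt _ _⟩
      epi_g := ⟨fun _ _ _ => h.eq_of_src _ _⟩ }
  have h2 := cl_add hS (finLocFree_zero h) (finLocFree_zero h) (finLocFree_zero h)
  exact left_eq_add.1 h2

theorem cl_iso {M N : X.Modules} (e : M ≅ N) (h : FlatMod.IsFinLocFree M) :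
    KRR.cl X M = KRR.cl X N := by
  have hZ : IsZero (0 : X.Modules) := isZero_zero _
  have hS : (ShortComplex.mk (0 : (0 : X.Modules) ⟶ M) e.hom (by simp)).ShortExact :=
    { exact := (ShortComplex.exact_iff_mono _ rfl).2 inferInstance
      mono_f := ⟨fun _ _ _ => hZ.eq_of_tgt _ _⟩
      epi_g := inferInstance }
  have h2 := cl_add hS (finLocFree_zero hZ) h (finLocFree_iso e h)
  rw [cl_isZero hZ, zero_add] at h2
  exact h2

theorem cl_biprod {M N : X.Modules} (hM : FlatMod.IsFinLocFree M) (hN : FlatMod.IsFinLocFree N) :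
    KRR.cl X (M ⊞ N) = KRR.cl X M + KRR.cl X N :=
  cl_add (ShortComplex.Splitting.ofHasBinaryBiproduct M N).shortExact hM
    (H16Derived.KFlat.Stalk.isFinLocFree_biprod hM hN) hN

/-- O^(n+1) = O ⊞ O^n. -/
def freeSucc (n : ℕ) :
    FlatMod.freeMod X (n + 1) ≅ Coh.structureModule X ⊞ FlatMod.freeMod X n where
  hom := Sigma.desc (Fin.cases biprod.inl fun i => Sigma.ι (fun _ : Fin n => Coh.structureModule X) i ≫ biprod.inr)
  inv := biprod.desc (Sigma.ι (fun _ : Fin (n + 1) => Coh.structureModule X) 0)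
    (Sigma.desc fun i => Sigma.ι (fun _ : Fin (n + 1) => Coh.structureModule X) i.succ)
  hom_inv_id := Sigma.hom_ext _ _ fun b => by cases b using Fin.cases <;> simp
  inv_hom_id := biprod.hom_ext' _ _ (by simp) (by
    simp only [biprod.inr_desc_assoc, Category.comp_id]
    exact Sigma.hom_ext _ _ fun b => by simp)

theorem finLocFree_free (n : ℕ) : FlatMod.IsFinLocFree (FlatMod.freeMod X n) :=
  H16Derived.KFlat.Stalk.isFinLocFree_sigma _ fun _ => fun x =>
    (H16Derived.KFlat.Stalk.isFinLocFree_iff _).2 (fun x => ⟨⊤, trivial,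
      H16Derived.KFlat.Stalk.isFreeFin_structureModule.pullback _⟩) x

/-- On a connected scheme a finite locally free module has constant rank. -/
theorem exists_rank [ConnectedSpace ↥X] {M : X.Modules} (h : FlatMod.IsFinLocFree M) :
    ∃ n, FlatMod.IsFinLocFreeOfRank n M := by
  open H16Derived.KFlat.Stalk in
  obtain ⟨x₀⟩ : Nonempty ↥X := inferInstance
  refine ⟨rfd M x₀, isFinLocFreeOfRank_of_rfd h _ fun x => ?_⟩
  exact ((IsLocallyConstant.iff_eventually_eq _).2 fun x => eventually_rfd_eq M h x).apply_eq_of_preconnectedSpace x x₀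

variable {K : Type v} [CommRing K] [LambdaOps K] {P : PosStructure K} {φ : SGA6.Kvb X →+ K}

theorem lam_one_natCast (P : PosStructure K) (N : ℕ) :
    lamSeries (N : K) = (((1 + Polynomial.X) ^ N : Polynomial K) : PowerSeries K) := by
  induction N with
  | zero =>
    refine PowerSeries.ext fun k => ?_
    rw [H27Lambda.coeff_lamSeries]
    cases k with
    | zero => simp [LambdaOps.lam_zero]
    | succ k => simp [H27Lambda.lam_zero_of_pos (Nat.succ_pos k)]
  | succ N ih =>
    have h1 : lamSeries (1 : K) = (((1 + Polynomial.X) : Polynomial K) : PowerSeries K) := by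
      refine PowerSeries.ext fun k => ?_
      rw [H27Lambda.coeff_lamSeries]
      match k with
      | 0 => simp [LambdaOps.lam_zero]
      | 1 => simp [LambdaOps.lam_one]
      | k + 2 => simp [H27Lambda.lam_one_eq_zero P (k + 2) (by omega), Polynomial.coeff_one,
          Polynomial.coeff_X, PowerSeries.coeff_X]
    rw [Nat.cast_succ, H27Lambda.lamSeries_add, ih, h1, pow_succ, Polynomial.coe_mul]

theorem exists_lamPoly {e : K} (he : e ∈ P.pos) :
    ∃ A : Polynomial K, (A : PowerSeries K) = lamSeries e ∧ A.natDegree ≤ (P.aug e).toNat := by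
  classical
  refine ⟨PowerSeries.trunc ((P.aug e).toNat + 1) (lamSeries e), PowerSeries.ext fun k => ?_, ?_⟩
  · rw [Polynomial.coeff_coe, PowerSeries.coeff_trunc]
    split_ifs with h
    · rfl
    · rw [H27Lambda.coeff_lamSeries, P.lam_eq_zero e he k]
      have := P.aug_pos e he
      omega
  · exact Nat.lt_succ_iff.1 (PowerSeries.natDegree_trunc_lt _ _)

/-- If λ_t(e)·λ_t(y) = λ_t(N) with λ_t(y) polynomial, then e is congruent to ε(e) modulo every prime. -/
theorem map_eq_aug {e y : K} (he : e ∈ P.pos) (B : Polynomial K)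
    (hB : (B : PowerSeries K) = lamSeries y) (N : ℕ) (hey : e + y = N)
    {R : Type v} [CommRing R] [IsDomain R] (q : K →+* R) : q e = (P.aug e : R) := by
  obtain ⟨A, hA, hdeg⟩ := exists_lamPoly he
  have hr := P.aug_pos e he
  set r := (P.aug e).toNat with hrdef
  have hAB : A * B = (1 + Polynomial.X) ^ N := Polynomial.coe_inj.1 (by
    rw [Polynomial.coe_mul, hA, hB, ← H27Lambda.lamSeries_add, hey, lam_one_natCast P])
  have hcoeff : ∀ k, A.coeff k = LambdaOps.lam k e := fun k => by
    rw [← Polynomial.coeff_coe, hA, H27Lambda.coeff_lamSeries]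
  have h1 : (Polynomial.map q A) ∣ (Polynomial.X - Polynomial.C (-1 : R)) ^ N :=
    ⟨Polynomial.map q B, by
      rw [← Polynomial.map_mul, hAB]
      simp [add_comm]⟩
  obtain ⟨i, -, hi⟩ := (dvd_prime_pow (Polynomial.prime_X_sub_C (-1 : R)) N).1 h1
  obtain ⟨u, hu⟩ := hi.symm
  obtain ⟨c, hc, huc⟩ := Polynomial.isUnit_iff.1 u.isUnit
  rw [← huc] at hu
  have hc1 : c = 1 := by
    have h0 := congrArg (Polynomial.coeff · 0) hu
    simpa [hcoeff, LambdaOps.lam_zero, Polynomial.coeff_zero_eq_eval_zero (_ ^ i * _)] using h0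
  rw [hc1, map_one, mul_one] at hu
  have hir : i = r := by
    have hd : (Polynomial.map q A).natDegree = r := by
      refine le_antisymm (Polynomial.natDegree_map_le.trans hdeg) (Polynomial.le_natDegree_of_ne_zero ?_)
      rw [Polynomial.coeff_map, hcoeff]
      exact ((P.isUnit_lam e he).map q).ne_zero
    rw [← hu, Polynomial.natDegree_pow, Polynomial.natDegree_X_sub_C, mul_one] at hd
    exact hd
  have h2 := congrArg (Polynomial.coeff · 1) hu
  rw [hir] at h2
  simp only [Polynomial.coeff_map, hcoeff, LambdaOps.lam_one, map_neg, map_one, sub_neg_eq_add,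
    Polynomial.coeff_X_add_one_pow, Nat.choose_one_right] at h2
  rw [← h2, ← Int.cast_natCast (R := R) r, Int.toNat_of_nonneg hr.le]

end Groth.Agent.H22Alg.KModel

namespace Groth.Agent.H22Alg.KModel

variable {X : Scheme.{u}}

/-- Additive maps out of Kvb agree when they agree on classes. -/
theorem kvb_ext {G : Type*} [AddCommGroup G] {a b : SGA6.Kvb X →+ G}
    (h : ∀ E : X.Modules, FlatMod.IsFinLocFree E → a (KRR.cl X E) = b (KRR.cl X E)) : a = b := by
  refine QuotientAddGroup.addMonoidHom_ext _ (FreeAbelianGroup.lift_ext _ _ fun E => ?_)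
  have := h E.1 E.2
  rw [KRR.cl, KZero.clSub, dif_pos (show KRR.vbP X E.1 from E.2)] at this
  exact this

/-- An additive invariant on short exact sequences of vector bundles factors through Kvb. -/
theorem exists_lift {G : Type*} [AddCommGroup G] (c : X.Modules → G)
    (hc : ∀ S : ShortComplex X.Modules, S.ShortExact → FlatMod.IsFinLocFree S.X₁ →
      FlatMod.IsFinLocFree S.X₂ → FlatMod.IsFinLocFree S.X₃ → c S.X₂ = c S.X₁ + c S.X₃) :
    ∃ g : SGA6.Kvb X →+ G, ∀ E, FlatMod.IsFinLocFree E → g (KRR.cl X E) = c E := by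
  let f : FreeAbelianGroup (Subtype (KRR.vbP X)) →+ G := FreeAbelianGroup.lift fun E => c E.1
  have hf : KZero.relSub (KRR.vbP X) ≤ f.ker := by
    refine (AddSubgroup.closure_le _).mpr ?_
    rintro _ ⟨S, h₁, h₂, h₃, hS, rfl⟩
    show f _ = 0
    simp only [f, map_sub, FreeAbelianGroup.lift_apply_of, hc S hS h₁ h₂ h₃]
    abel
  refine ⟨QuotientAddGroup.lift _ f hf, fun E hE => ?_⟩
  rw [KRR.cl, KZero.clSub, dif_pos (show KRR.vbP X E from hE)]
  exact FreeAbelianGroup.lift_apply_of _ _

end Groth.Agent.H22Alg.KModel
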