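import Groth.Agent.H22Alg.ExtPowSumAlg
import Groth.Agent.H22Alg.ExtPowHom
import Groth.Agent.H22Alg.KModel
import Groth.Agent.H16Derived.KFlat.StalkTensor
import Groth.Agent.H17.PushColim
import Groth.Agent.H29Fitt.Sheaf

/-! # Exterior powers of a direct sum of bundles, in `K₀`. -/

set_option autoImplicit false
set_option linter.style.haveILetI false

universe u

open CategoryTheory CategoryTheory.Limits AlgebraicGeometry Opposite TopologicalSpace exteriorPower
open scoped TensorProduct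
attribute [local instance] HasDerivedCategory.standard

noncomputable section

namespace Groth.Agent.H22Alg.ExtPowSum

open ExtPowAlg ExtPowSumAlg H16Derived.KFlat.Stalk

variable {X : Scheme.{u}}

theorem finLocFree_biproduct : ∀ {m : ℕ} (f : Fin m → X.Modules), (∀ j, FlatMod.IsFinLocFree (f j)) →
    FlatMod.IsFinLocFree (⨁ f) ∧ KRR.cl X (⨁ f) = ∑ j, KRR.cl X (f j)
  | 0, f, _ => by
    have hz : IsZero (⨁ f) := by
      rw [IsZero.iff_id_eq_zero]
      exact biproduct.hom_ext _ _ fun j => Fin.elim0 j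
    exact ⟨KModel.finLocFree_zero hz, by simp [KModel.cl_isZero hz]⟩
  | m + 1, f, hf => by
    obtain ⟨h1, h2⟩ := finLocFree_biproduct (fun j : Fin m => f j.succ) fun j => hf _
    let e : ⨁ f ≅ f 0 ⊞ ⨁ (fun j : Fin m => f j.succ) :=
      { hom := biprod.lift (biproduct.π f 0) (biproduct.lift fun j => biproduct.π f j.succ)
        inv := biprod.desc (biproduct.ι f 0) (biproduct.desc fun j => biproduct.ι f j.succ)
        hom_inv_id := by
          rw [biprod.lift_desc, biproduct.lift_desc, ← biproduct.total, Fin.sum_univ_succ]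
        inv_hom_id := by
          refine biprod.hom_ext _ _ ?_ ?_
          · rw [Category.assoc, biprod.lift_fst, Category.id_comp]
            refine biprod.hom_ext' _ _ ?_ ?_
            · simp
            · rw [biprod.inr_desc_assoc, biprod.inr_fst]
              exact biproduct.hom_ext' _ _ fun j => by
                simp [biproduct.ι_π_ne _ (Fin.succ_ne_zero j)]
          · rw [Category.assoc, biprod.lift_snd, Category.id_comp]
            refine biproduct.hom_ext _ _ fun k => ?_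
            rw [Category.assoc, biproduct.lift_π]
            refine biprod.hom_ext' _ _ ?_ ?_
            · simp [biproduct.ι_π_ne _ (Fin.succ_ne_zero k).symm]
            · rw [biprod.inr_desc_assoc, biprod.inr_snd_assoc]
              refine biproduct.hom_ext' _ _ fun j => ?_
              rw [biproduct.ι_desc_assoc]
              by_cases hjk : j = k
              · subst hjk; simp
              · rw [biproduct.ι_π_ne _ hjk, biproduct.ι_π_ne _ fun h => hjk (Fin.succ_injective _ h)] }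
    have h3 := H16Derived.KFlat.Stalk.isFinLocFree_biprod (hf 0) h1
    refine ⟨KModel.finLocFree_iso e.symm h3, ?_⟩
    rw [← KModel.cl_iso e.symm h3, KModel.cl_biprod (hf 0) h1, h2, Fin.sum_univ_succ]

theorem app_sum {M N : X.Modules} {κ : Type*} (s : Finset κ) (f : κ → (M ⟶ N)) (U : X.Opens) (z : Γ(M, U)) :
    (∑ k ∈ s, f k).app U z = ∑ k ∈ s, (f k).app U z := by
  classical
  induction s using Finset.induction_on with
  | empty => rfl
  | insert k s hk ih => rw [Finset.sum_insert hk, Finset.sum_insert hk, ← ih]; rfl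

/-- A basis of sections over an affine open gives a basis of the stalk. -/
theorem exists_stalkBasis {F : X.Modules} (hF : Coh.IsQCoh F) {U : X.Opens} (hU : IsAffineOpen U) {r : ℕ}
    (b : Module.Basis (Fin r) Γ(X, U) Γ(F, U)) {x : X} (hx : x ∈ U) :
    Nonempty (Module.Basis (Fin r) (X.presheaf.stalk x) (F.presheaf.stalk x)) := by
  letI := TopCat.Presheaf.algebra_section_stalk X.presheaf (⟨x, hx⟩ : U)
  letI := Module.compHom (F.presheaf.stalk x) (algebraMap Γ(X, U) (X.presheaf.stalk x))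
  haveI : IsScalarTower Γ(X, U) (X.presheaf.stalk x) (F.presheaf.stalk x) :=
    .of_algebraMap_smul fun _ _ => rfl
  haveI : IsLocalization (hU.primeIdealOf ⟨x, hx⟩).asIdeal.primeCompl (X.presheaf.stalk x) :=
    hU.isLocalization_stalk ⟨x, hx⟩
  haveI : IsLocalizedModule (hU.primeIdealOf ⟨x, hx⟩).asIdeal.primeCompl (H29Fitt.germLin F (⟨x, hx⟩ : U)) :=
    H29Fitt.isLocalizedModule_germLin F hF hU ⟨x, hx⟩
  exact ⟨b.ofIsLocalizedModule (X.presheaf.stalk x) (hU.primeIdealOf ⟨x, hx⟩).asIdeal.primeCompl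
    (H29Fitt.germLin F (⟨x, hx⟩ : U))⟩

theorem exists_stalkBasis_extPow {E L : X.Modules} {i r : ℕ} (hE : FlatMod.IsFinLocFree E)
    (hL : ExtPow.IsExtPow i E L) {U : X.Opens} (hU : IsAffineOpen U)
    (b : Module.Basis (Fin r) Γ(X, U) Γ(E, U)) {x : X} (hx : x ∈ U) :
    Nonempty (Module.Basis (Fin (r.choose i)) (X.presheaf.stalk x) (L.presheaf.stalk x)) := by
  haveI : Nontrivial Γ(X, U) := (X.presheaf.germ U x hx).hom.domain_nontrivial
  obtain ⟨φ, hφ⟩ := hL
  let φ' : Γ(L, U) ≃ₗ[Γ(X, U)] ↥(⋀[Γ(X, U)]^i Γ(E, U)) := φ ⟨U, hU⟩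
  haveI : Module.Free Γ(X, U) Γ(E, U) := Module.Free.of_basis b
  haveI : Module.Finite Γ(X, U) Γ(E, U) := Module.Finite.of_basis b
  refine exists_stalkBasis (H8Props.FinLocFree.isQCoh_of_isFinLocFree _
    (ExtPowHom.finLocFree_of_isExtPow hE ⟨φ, hφ⟩)) hU ?_ hx
  exact (Module.finBasisOfFinrankEq _ _ (by
    rw [exteriorPower.finrank_eq, Module.finrank_eq_card_basis b, Fintype.card_fin])).map φ'.symm

section Main

variable {A B : X.Modules} {i : ℕ}

/-- The wedge pairing into the tensor product. -/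
def tauL {j k : ℕ} {LA LB : X.Modules} {U : X.Opens}
    (φA : Γ(LA, U) ≃ₗ[Γ(X, U)] ↥(⋀[Γ(X, U)]^j Γ(A, U))) (φB : Γ(LB, U) ≃ₗ[Γ(X, U)] ↥(⋀[Γ(X, U)]^k Γ(B, U))) :
    (↥(⋀[Γ(X, U)]^j Γ(A, U)) ⊗[Γ(X, U)] ↥(⋀[Γ(X, U)]^k Γ(B, U))) →ₗ[Γ(X, U)] Γ(tensor LA LB, U) :=
  TensorProduct.lift (LinearMap.mk₂ _ (fun a b => tensorSect U (φA.symm a) (φB.symm b))
    (fun a a' b => by rw [map_add, tensorSect_add_left])
    (fun r a b => by rw [map_smul, tensorSect_smul_left])
    (fun a b b' => by rw [map_add, tensorSect_add_right])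
    (fun r a b => by rw [map_smul, tensorSect_smul_right]))

theorem tauL_tmul {j k : ℕ} {LA LB : X.Modules} {U : X.Opens}
    (φA : Γ(LA, U) ≃ₗ[Γ(X, U)] ↥(⋀[Γ(X, U)]^j Γ(A, U))) (φB : Γ(LB, U) ≃ₗ[Γ(X, U)] ↥(⋀[Γ(X, U)]^k Γ(B, U)))
    (a : ↥(⋀[Γ(X, U)]^j Γ(A, U))) (b : ↥(⋀[Γ(X, U)]^k Γ(B, U))) :
    tauL φA φB (a ⊗ₜ b) = tensorSect U (φA.symm a) (φB.symm b) := rfl

set_option maxHeartbeats 800000 in
/-- Exterior powers of a direct sum of bundles as a direct sum of tensor products. -/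
theorem nonempty_iso_extPow_biprod {L : X.Modules} (hA : FlatMod.IsFinLocFree A) (hB : FlatMod.IsFinLocFree B)
    (hL : ExtPow.IsExtPow i (A ⊞ B) L) (LA LB : ℕ → X.Modules) (hLA : ∀ j, ExtPow.IsExtPow j A (LA j))
    (hLB : ∀ j, ExtPow.IsExtPow j B (LB j)) :
    Nonempty (L ≅ ⨁ fun j : Fin (i + 1) => tensor (LA j) (LB (i - j))) := by
  have hAB := H16Derived.KFlat.Stalk.isFinLocFree_biprod hA hB
  have hfA := fun j => ExtPowHom.finLocFree_of_isExtPow hA (hLA j)
  have hfB := fun j => ExtPowHom.finLocFree_of_isExtPow hB (hLB j)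
  have hqL := H8Props.FinLocFree.isQCoh_of_isFinLocFree _ (ExtPowHom.finLocFree_of_isExtPow hAB hL)
  let T : Fin (i + 1) → X.Modules := fun j => tensor (LA j) (LB (i - j))
  have hTf : ∀ j, FlatMod.IsFinLocFree (T j) := fun j =>
    H16Derived.KFlat.Stalk.isFinLocFree_tensor (hfA _) (hfB _)
  choose φA hφA using hLA
  choose φB hφB using hLB
  let φA' : ∀ (j : ℕ) (U : X.affineOpens), Γ(LA j, U.1) ≃ₗ[Γ(X, U.1)] ↥(⋀[Γ(X, U.1)]^j Γ(A, U.1)) :=
    fun j U => φA j U
  let φB' : ∀ (j : ℕ) (U : X.affineOpens), Γ(LB j, U.1) ≃ₗ[Γ(X, U.1)] ↥(⋀[Γ(X, U.1)]^j Γ(B, U.1)) :=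
    fun j U => φB j U
  let p : ∀ U : X.Opens, Γ(A ⊞ B, U) →ₗ[Γ(X, U)] Γ(A, U) := fun U => ExtPowHom.appL biprod.fst U
  let q : ∀ U : X.Opens, Γ(A ⊞ B, U) →ₗ[Γ(X, U)] Γ(B, U) := fun U => ExtPowHom.appL biprod.snd U
  let aj : ∀ (j : Fin (i + 1)) (U : X.affineOpens),
      ↥(⋀[Γ(X, U.1)]^i Γ(A ⊞ B, U.1)) →ₗ[Γ(X, U.1)] Γ(T j, U.1) := fun j U =>
    (tauL (φA' j U) (φB' (i - j) U)).comp
      (alternatingMapLinearEquiv (N := ↥(⋀[Γ(X, U.1)]^(j : ℕ) Γ(A, U.1)) ⊗[Γ(X, U.1)] ↥(⋀[Γ(X, U.1)]^(i - j) Γ(B, U.1)))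
        (compAlt (p U.1) (q U.1) j (i - j) i (Nat.add_sub_of_le (Nat.lt_succ_iff.1 j.2))))
  have haj : ∀ (j : Fin (i + 1)) (U V : X.affineOpens) (h : V.1 ≤ U.1) (e : Fin i → Γ(A ⊞ B, U.1)),
      (T j).presheaf.map (homOfLE h).op (aj j U (ιMulti _ i e)) =
        aj j V (ιMulti _ i fun t => (A ⊞ B).presheaf.map (homOfLE h).op (e t)) := fun j U V h e => by
    simp only [aj, LinearMap.comp_apply, alternatingMapLinearEquiv_apply_ιMulti]
    refine compAlt_map (p U.1) (q U.1) (p V.1) (q V.1) _ _ _ _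
      (((T j).presheaf.map (homOfLE h).op).hom.comp (tauL (φA' j U) (φB' (i - j) U)).toAddMonoidHom)
      (tauL (φA' j V) (φB' (i - j) V)).toAddMonoidHom
      (fun m => (A ⊞ B).presheaf.map (homOfLE h).op m) (fun a => A.presheaf.map (homOfLE h).op a)
      (fun b => B.presheaf.map (homOfLE h).op b)
      (fun m => ConcreteCategory.congr_hom ((biprod.fst : A ⊞ B ⟶ A).mapPresheaf.naturality (homOfLE h).op) m)
      (fun m => ConcreteCategory.congr_hom ((biprod.snd : A ⊞ B ⟶ B).mapPresheaf.naturality (homOfLE h).op) m)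
      (fun a b => ?_) e
    show (T j).presheaf.map (homOfLE h).op (tensorSect U.1 _ _) = tensorSect V.1 _ _
    rw [← tensorSect_res]
    exact congrArg₂ (tensorSect V.1) (hφA j U V h a) (hφB (i - j) U V h b)
  obtain ⟨φ, g, hg⟩ := ExtPowHom.exists_hom hL (M := ⨁ T)
    (fun U => ∑ j, (ExtPowHom.appL (biproduct.ι T j) U.1).comp (aj j U)) (fun U V h e => by
      simp only [LinearMap.sum_apply, LinearMap.comp_apply, map_sum]
      refine Finset.sum_congr rfl fun j _ => ?_
      rw [← haj j U V h e]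
      exact ConcreteCategory.congr_hom ((biproduct.ι T j).mapPresheaf.naturality (homOfLE h).op) (aj j U _))
  have hgj : ∀ (j : Fin (i + 1)) (U : X.affineOpens) (z : Γ(L, U.1)),
      (g ≫ biproduct.π T j).app U.1 z = aj j U (φ U z) := fun j U z => by
    change (biproduct.π T j).app U.1 (g.app U.1 z) = _
    rw [hg, LinearMap.sum_apply, map_sum, Finset.sum_eq_single j]
    · change (biproduct.ι T j ≫ biproduct.π T j).app U.1 (aj j U (φ U z)) = _
      rw [biproduct.ι_π_self]; rfl
    · intro k _ hk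
      change (biproduct.ι T k ≫ biproduct.π T j).app U.1 (aj k U (φ U z)) = _
      rw [biproduct.ι_π_ne _ hk]; rfl
    · exact fun hn => absurd (Finset.mem_univ _) hn
  let Ψ : ∀ x : X, L.presheaf.stalk x →ₗ[X.presheaf.stalk x] ∀ j, (T j).presheaf.stalk x := fun x =>
    LinearMap.pi fun j => H06Mod.stalkLin (g ≫ biproduct.π T j) x
  have hsurj : ∀ x, Function.Surjective (Ψ x) := fun x => by
    rw [← LinearMap.range_eq_top, eq_top_iff]
    intro t _
    rw [← Finset.univ_sum_single t]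
    refine Submodule.sum_mem _ fun j _ => ?_
    obtain ⟨w, hw⟩ := (toStalk_bijective (LA j) (LB (i - j)) x).2 (t j)
    rw [← hw]
    clear hw
    induction w using TensorProduct.induction_on with
    | zero => rw [map_zero, Pi.single_zero]; exact Submodule.zero_mem _
    | add a b ha hb => rw [map_add, Pi.single_add]; exact Submodule.add_mem _ ha hb
    | tmul a b =>
      obtain ⟨⟨W, m₀, n₀⟩, hxW, rfl, rfl⟩ := exists_germ₂ (LA j) (LB (i - j)) x a b
      obtain ⟨U, hU, hxU, hUW⟩ := exists_isAffineOpen_mem_and_subset (x := x) (U := W) hxW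
      rw [toStalk_tmul, pair_germ,
        ← (T j).presheaf.germ_res_apply (homOfLE hUW) x hxU, ← tensorSect_res]
      refine (?_ : ∀ (m : Γ(LA j, U)) (n : Γ(LB (i - j), U)),
        Pi.single j ((T j).presheaf.germ U x hxU (tensorSect U m n)) ∈ LinearMap.range (Ψ x)) _ _
      intro m n
      let V : X.affineOpens := ⟨U, hU⟩
      obtain ⟨m, rfl⟩ := (φA' j V).symm.surjective m
      obtain ⟨n, rfl⟩ := (φB' (i - j) V).symm.surjective n
      induction m using ExtPowAlg.induction with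
      | h0 => rw [map_zero, ← zero_smul Γ(X, U) (0 : Γ(LA j, U)), tensorSect_smul_left, zero_smul, map_zero,
          Pi.single_zero]; exact Submodule.zero_mem _
      | hadd a b ha hb =>
        rw [map_add, tensorSect_add_left, map_add, Pi.single_add]; exact Submodule.add_mem _ ha hb
      | hsmul r a ha =>
        rw [map_smul, tensorSect_smul_left, H06Mod.germ_smul, Pi.single_smul]
        exact Submodule.smul_mem _ _ ha
      | hgen ea =>
        induction n using ExtPowAlg.induction with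
        | h0 => rw [map_zero, ← zero_smul Γ(X, U) (0 : Γ(LB (i - j), U)), tensorSect_smul_right, zero_smul, map_zero,
            Pi.single_zero]; exact Submodule.zero_mem _
        | hadd a b ha hb =>
          rw [map_add, tensorSect_add_right, map_add, Pi.single_add]; exact Submodule.add_mem _ ha hb
        | hsmul r a ha =>
          rw [map_smul, tensorSect_smul_right, H06Mod.germ_smul, Pi.single_smul]
          exact Submodule.smul_mem _ _ ha
        | hgen eb =>
          have hij : (j : ℕ) + (i - j) = i := Nat.add_sub_of_le (Nat.lt_succ_iff.1 j.2)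
          let aI := ExtPowHom.appL (biprod.inl : A ⟶ A ⊞ B) U
          let bI := ExtPowHom.appL (biprod.inr : B ⟶ A ⊞ B) U
          have hpa : ∀ z, p U (aI z) = z := fun z => by
            change ((biprod.inl : A ⟶ A ⊞ B) ≫ biprod.fst).app U z = z
            rw [biprod.inl_fst]; rfl
          have hqb : ∀ z, q U (bI z) = z := fun z => by
            change ((biprod.inr : B ⟶ A ⊞ B) ≫ biprod.snd).app U z = z
            rw [biprod.inr_snd]; rfl
          have hpb : ∀ z, p U (bI z) = 0 := fun z => by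
            change ((biprod.inr : B ⟶ A ⊞ B) ≫ biprod.fst).app U z = 0
            rw [biprod.inr_fst]; rfl
          have hqa : ∀ z, q U (aI z) = 0 := fun z => by
            change ((biprod.inl : A ⟶ A ⊞ B) ≫ biprod.snd).app U z = 0
            rw [biprod.inl_snd]; rfl
          let z : Γ(L, U) := (φ V).symm (ιMulti _ i (mix aI bI hij ea eb))
          refine ⟨L.presheaf.germ U x hxU z, ?_⟩
          funext k
          change H06Mod.stalkLin (g ≫ biproduct.π T k) x (L.presheaf.germ U x hxU z) = _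
          rw [H06Mod.stalkLin_germ, hgj k V z]
          simp only [z, LinearEquiv.apply_symm_apply, aj, LinearMap.comp_apply,
            alternatingMapLinearEquiv_apply_ιMulti]
          by_cases hkj : k = j
          · subst hkj
            rw [compAlt_mix (p U) (q U) aI bI hpa hqb hpb hqa, Pi.single_eq_same]
            rfl
          · rw [compAlt_mix_of_ne (p U) (q U) aI bI hpb hqa _ _ (fun h => hkj (Fin.ext h)), map_zero, map_zero,
              Pi.single_eq_of_ne hkj]
  have hbij : ∀ x, Function.Bijective (Ψ x) := fun x => by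
    obtain ⟨UA, ra, hxA, ⟨eA⟩⟩ := hA x
    obtain ⟨UB, rb, hxB, ⟨eB⟩⟩ := hB x
    obtain ⟨U, hU, hxU, hle⟩ := exists_isAffineOpen_mem_and_subset (x := x) (U := UA ⊓ UB) ⟨hxA, hxB⟩
    obtain ⟨bA⟩ := H8Props.FinLocFree.exists_basis_of_chart A eA (fun y hy => (hle hy).1)
    obtain ⟨bB⟩ := H8Props.FinLocFree.exists_basis_of_chart B eB (fun y hy => (hle hy).2)
    let eS : Γ(A ⊞ B, U) ≃ₗ[Γ(X, U)] (Γ(A, U) × Γ(B, U)) :=
      LinearEquiv.ofLinear ((p U).prod (q U))
        ((ExtPowHom.appL (biprod.inl : A ⟶ A ⊞ B) U).coprod (ExtPowHom.appL (biprod.inr : B ⟶ A ⊞ B) U))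
        (by
          refine LinearMap.ext fun y => Prod.ext ?_ ?_
          · change (biprod.fst : A ⊞ B ⟶ A).app U ((biprod.inl : A ⟶ A ⊞ B).app U y.1 + (biprod.inr : B ⟶ A ⊞ B).app U y.2) = y.1
            rw [map_add]
            change ((biprod.inl : A ⟶ A ⊞ B) ≫ biprod.fst).app U y.1 + ((biprod.inr : B ⟶ A ⊞ B) ≫ biprod.fst).app U y.2 = y.1
            rw [biprod.inl_fst, biprod.inr_fst]
            exact add_zero _
          · change (biprod.snd : A ⊞ B ⟶ B).app U ((biprod.inl : A ⟶ A ⊞ B).app U y.1 + (biprod.inr : B ⟶ A ⊞ B).app U y.2) = y.2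
            rw [map_add]
            change ((biprod.inl : A ⟶ A ⊞ B) ≫ biprod.snd).app U y.1 + ((biprod.inr : B ⟶ A ⊞ B) ≫ biprod.snd).app U y.2 = y.2
            rw [biprod.inl_snd, biprod.inr_snd]
            exact zero_add _)
        (by
          refine LinearMap.ext fun y => ?_
          change (biprod.fst ≫ biprod.inl + biprod.snd ≫ biprod.inr : A ⊞ B ⟶ A ⊞ B).app U y = y
          rw [biprod.total]; rfl)
    let bE := ((bA.prod bB).map eS.symm).reindex finSumFinEquiv
    obtain ⟨bl⟩ := exists_stalkBasis_extPow hAB hL hU bE hxU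
    let sA := fun j : Fin (i + 1) =>
      (exists_stalkBasis_extPow hA (⟨φA j, hφA j⟩ : ExtPow.IsExtPow (j : ℕ) A (LA j)) hU bA hxU).some
    let sB := fun j : Fin (i + 1) =>
      (exists_stalkBasis_extPow hB (⟨φB (i - j), hφB (i - j)⟩ : ExtPow.IsExtPow (i - j) B (LB (i - j))) hU bB hxU).some
    let bT := fun j : Fin (i + 1) => ((sA j).tensorProduct (sB j)).map (stalkEquiv (LA j) (LB (i - j)) x)
    refine bijective_of_surjective_of_basis bl (Pi.basis bT) ?_ _ (hsurj x)
    simp [choose_sum]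
  refine ⟨@asIso _ _ _ _ g (H17.PushColim.isIso_of_stalkAb g fun x => ?_)⟩
  rw [ConcreteCategory.isIso_iff_bijective]
  show Function.Bijective (H06Mod.stalkLin g x)
  have hcomp : ∀ (j : Fin (i + 1)) (a : L.presheaf.stalk x),
      H06Mod.stalkLin (g ≫ biproduct.π T j) x a = H06Mod.stalkLin (biproduct.π T j) x (H06Mod.stalkLin g x a) :=
    fun j a => by
      obtain ⟨W, hW, m, rfl⟩ := L.presheaf.exists_germ_eq a
      rw [H06Mod.stalkLin_germ, H06Mod.stalkLin_germ, H06Mod.stalkLin_germ]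
      rfl
  refine ⟨fun a b hab => (hbij x).1 (funext fun j => ?_), fun z => ?_⟩
  · change H06Mod.stalkLin (g ≫ biproduct.π T j) x a = H06Mod.stalkLin (g ≫ biproduct.π T j) x b
    rw [hcomp, hcomp, hab]
  · obtain ⟨a, ha⟩ := (hbij x).2 fun j => H06Mod.stalkLin (biproduct.π T j) x z
    refine ⟨a, ?_⟩
    have hinj : ∀ y, (∀ j, H06Mod.stalkLin (biproduct.π T j) x y = 0) → y = 0 := fun y hy => by
      obtain ⟨W, hW, m, rfl⟩ := (⨁ T : X.Modules).presheaf.exists_germ_eq y
      have hm : m = ∑ j, (biproduct.ι T j).app W ((biproduct.π T j).app W m) := by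
        conv_lhs => rw [show m = (𝟙 (⨁ T) : ⨁ T ⟶ ⨁ T).app W m from rfl, ← biproduct.total, app_sum]
        rfl
      rw [hm, map_sum]
      refine Finset.sum_eq_zero fun j _ => ?_
      have h := hy j
      rw [H06Mod.stalkLin_germ] at h
      rw [← H06Mod.stalkLin_germ, h, map_zero]
    refine sub_eq_zero.1 (hinj _ fun j => ?_)
    rw [map_sub, ← hcomp, sub_eq_zero]
    exact congrFun ha j

theorem cl_extPow_biprod {L : X.Modules} (hA : FlatMod.IsFinLocFree A) (hB : FlatMod.IsFinLocFree B)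
    (hL : ExtPow.IsExtPow i (A ⊞ B) L) (LA LB : ℕ → X.Modules) (hLA : ∀ j, ExtPow.IsExtPow j A (LA j))
    (hLB : ∀ j, ExtPow.IsExtPow j B (LB j)) :
    KRR.cl X L = ∑ j ∈ Finset.range (i + 1), KRR.cl X (tensor (LA j) (LB (i - j))) := by
  have hAB := H16Derived.KFlat.Stalk.isFinLocFree_biprod hA hB
  obtain ⟨e⟩ := nonempty_iso_extPow_biprod hA hB hL LA LB hLA hLB
  rw [KModel.cl_iso e (ExtPowHom.finLocFree_of_isExtPow hAB hL), (finLocFree_biproduct _ fun j =>
    H16Derived.KFlat.Stalk.isFinLocFree_tensor (ExtPowHom.finLocFree_of_isExtPow hA (hLA _))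
      (ExtPowHom.finLocFree_of_isExtPow hB (hLB _))).2,
    Fin.sum_univ_eq_sum_range (fun j => KRR.cl X (tensor (LA j) (LB (i - j))))]

end Main

end Groth.Agent.H22Alg.ExtPowSum
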