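import Groth.Prelude.Def_CycAlg
import Mathlib.RingTheory.Length
import Mathlib.LinearAlgebra.Isomorphisms
import Mathlib.Tactic

/-!
Lengths of the cohomology of 2-periodic complexes.
-/

universe u v

namespace Groth.Agent.H22Alg

variable {R : Type u} [CommRing R]

theorem length_ker_add_range {M N : Type*} [AddCommGroup M] [Module R M] [AddCommGroup N] [Module R N]
    (f : M →ₗ[R] N) :
    Module.length R M = Module.length R (LinearMap.ker f) + Module.length R (LinearMap.range f) :=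
  Module.length_eq_add_of_exact (LinearMap.ker f).subtype f.rangeRestrict (Submodule.subtype_injective _)
    f.surjective_rangeRestrict (by
      intro x
      simp [Subtype.ext_iff])

theorem length_ker_add_of_surjective {M N : Type*} [AddCommGroup M] [Module R M] [AddCommGroup N]
    [Module R N] (f : M →ₗ[R] N) (hf : Function.Surjective f) :
    Module.length R M = Module.length R (LinearMap.ker f) + Module.length R N :=
  Module.length_eq_add_of_exact (LinearMap.ker f).subtype f (Submodule.subtype_injective _) hf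
    (LinearMap.exact_subtype_ker_map f)

theorem length_eq_range_add_quot {M : Type*} [AddCommGroup M] [Module R M] (p : Submodule R M) :
    Module.length R M = Module.length R p + Module.length R (M ⧸ p) :=
  Module.length_eq_add_of_exact p.subtype p.mkQ (Submodule.subtype_injective _)
    (Submodule.mkQ_surjective _) (LinearMap.exact_subtype_mkQ p)

theorem length_submoduleOf {M : Type*} [AddCommGroup M] [Module R M] {p q : Submodule R M} (h : p ≤ q) :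
    Module.length R (p.submoduleOf q) = Module.length R p :=
  (Submodule.submoduleOfEquivOfLe h).length_eq

theorem length_perH_add {M N : Type v} [AddCommGroup M] [Module R M] [AddCommGroup N] [Module R N]
    (φ : M →ₗ[R] N) (ψ : N →ₗ[R] M) (h : φ ∘ₗ ψ = 0) :
    Module.length R M =
      Module.length R (LinearMap.range φ) + Module.length R (LinearMap.range ψ) +
        Module.length R (CycAlg.perH φ ψ) := by
  rw [length_ker_add_range φ, length_eq_range_add_quot ((LinearMap.range ψ).submoduleOf (LinearMap.ker φ)),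
    length_submoduleOf (LinearMap.range_le_ker_iff.mpr h)]
  ac_rfl

theorem toNat_eq {a : ℕ∞} (h : a ≠ ⊤) : ∃ n : ℕ, a = n ∧ a.toNat = n := by
  obtain ⟨n, rfl⟩ := ENat.ne_top_iff_exists.mp h
  exact ⟨n, rfl, ENat.toNat_natCast n⟩

/-- A morphism of periodic pairs induces a map on `perH`. -/
def perHMap {M N M' N' : Type v} [AddCommGroup M] [Module R M] [AddCommGroup N] [Module R N]
    [AddCommGroup M'] [Module R M'] [AddCommGroup N'] [Module R N']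
    {φ : M →ₗ[R] N} {ψ : N →ₗ[R] M} {φ' : M' →ₗ[R] N'} {ψ' : N' →ₗ[R] M'}
    (f : M →ₗ[R] M') (g : N →ₗ[R] N') (cφ : φ' ∘ₗ f = g ∘ₗ φ) (cψ : ψ' ∘ₗ g = f ∘ₗ ψ) :
    CycAlg.perH φ ψ →ₗ[R] CycAlg.perH φ' ψ' :=
  Submodule.mapQ _ _
    (LinearMap.restrict f (p := LinearMap.ker φ) (q := LinearMap.ker φ') (fun x hx => by
      have := LinearMap.congr_fun cφ x
      simp only [LinearMap.comp_apply] at this
      rw [LinearMap.mem_ker] at hx ⊢
      rw [this, hx, map_zero]))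
    (by
      rintro ⟨x, hx⟩ ⟨y, hy⟩
      refine ⟨g y, ?_⟩
      have := LinearMap.congr_fun cψ y
      simp only [LinearMap.comp_apply] at this
      rw [this, hy]
      rfl)

theorem perHMap_mk {M N M' N' : Type v} [AddCommGroup M] [Module R M] [AddCommGroup N] [Module R N]
    [AddCommGroup M'] [Module R M'] [AddCommGroup N'] [Module R N']
    {φ : M →ₗ[R] N} {ψ : N →ₗ[R] M} {φ' : M' →ₗ[R] N'} {ψ' : N' →ₗ[R] M'}
    (f : M →ₗ[R] M') (g : N →ₗ[R] N') (cφ : φ' ∘ₗ f = g ∘ₗ φ) (cψ : ψ' ∘ₗ g = f ∘ₗ ψ)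
    (x : LinearMap.ker φ) :
    ∃ hx' : f x.1 ∈ LinearMap.ker φ',
      perHMap f g cφ cψ (Submodule.Quotient.mk x) = Submodule.Quotient.mk ⟨f x.1, hx'⟩ :=
  ⟨_, rfl⟩

theorem perH_mk_eq_zero {M N : Type v} [AddCommGroup M] [Module R M] [AddCommGroup N] [Module R N]
    (φ : M →ₗ[R] N) (ψ : N →ₗ[R] M) (x : LinearMap.ker φ) :
    (Submodule.Quotient.mk x : CycAlg.perH φ ψ) = 0 ↔ ∃ y, ψ y = x.1 := by
  rw [Submodule.Quotient.mk_eq_zero]
  rfl

section ShortExact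

variable {M₁ N₁ M₂ N₂ M₃ N₃ : Type v} [AddCommGroup M₁] [Module R M₁] [AddCommGroup N₁] [Module R N₁]
  [AddCommGroup M₂] [Module R M₂] [AddCommGroup N₂] [Module R N₂] [AddCommGroup M₃] [Module R M₃]
  [AddCommGroup N₃] [Module R N₃] {φ₁ : M₁ →ₗ[R] N₁} {ψ₁ : N₁ →ₗ[R] M₁} {φ₂ : M₂ →ₗ[R] N₂}
  {ψ₂ : N₂ →ₗ[R] M₂} {φ₃ : M₃ →ₗ[R] N₃} {ψ₃ : N₃ →ₗ[R] M₃}

/-- Exactness at the middle `perH`. -/
theorem range_perHMap_eq_ker (h₂ : φ₂ ∘ₗ ψ₂ = 0) {f₁ : M₁ →ₗ[R] M₂} {g₁ : N₁ →ₗ[R] N₂}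
    {f₂ : M₂ →ₗ[R] M₃} {g₂ : N₂ →ₗ[R] N₃} (cφ₁ : φ₂ ∘ₗ f₁ = g₁ ∘ₗ φ₁) (cψ₁ : ψ₂ ∘ₗ g₁ = f₁ ∘ₗ ψ₁)
    (cφ₂ : φ₃ ∘ₗ f₂ = g₂ ∘ₗ φ₂) (cψ₂ : ψ₃ ∘ₗ g₂ = f₂ ∘ₗ ψ₂) (hg₁ : Function.Injective g₁)
    (hg₂ : Function.Surjective g₂) (hM : LinearMap.range f₁ = LinearMap.ker f₂) :
    LinearMap.range (perHMap f₁ g₁ cφ₁ cψ₁) = LinearMap.ker (perHMap f₂ g₂ cφ₂ cψ₂) := by
  ext z
  obtain ⟨⟨x, hx⟩, rfl⟩ := Submodule.Quotient.mk_surjective _ z
  obtain ⟨h', e⟩ := perHMap_mk f₂ g₂ cφ₂ cψ₂ ⟨x, hx⟩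
  rw [LinearMap.mem_ker, e, perH_mk_eq_zero]
  constructor
  · rintro ⟨w, hw⟩
    obtain ⟨⟨m, hm⟩, rfl⟩ := Submodule.Quotient.mk_surjective _ w
    obtain ⟨h'', e'⟩ := perHMap_mk f₁ g₁ cφ₁ cψ₁ ⟨m, hm⟩
    rw [e', ← sub_eq_zero, ← Submodule.Quotient.mk_sub, perH_mk_eq_zero] at hw
    obtain ⟨y, hy⟩ := hw
    refine ⟨g₂ (-y), ?_⟩
    have := LinearMap.congr_fun cψ₂ (-y)
    simp only [LinearMap.comp_apply] at this
    rw [this, map_neg ψ₂, hy]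
    show f₂ (-(f₁ m - x)) = f₂ x
    have h0 : f₂ (f₁ m) = 0 := LinearMap.mem_ker.mp (hM ▸ ⟨m, rfl⟩)
    rw [map_neg, map_sub, h0, zero_sub, neg_neg]
  · rintro ⟨y, hy⟩
    obtain ⟨y, rfl⟩ := hg₂ y
    have hc := LinearMap.congr_fun cψ₂ y
    simp only [LinearMap.comp_apply] at hc
    have : x - ψ₂ y ∈ LinearMap.range f₁ := by
      rw [hM, LinearMap.mem_ker, map_sub, ← hc, hy, sub_self]
    obtain ⟨m, hm⟩ := this
    have hmk : m ∈ LinearMap.ker φ₁ := by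
      rw [LinearMap.mem_ker]
      apply hg₁
      have := LinearMap.congr_fun cφ₁ m
      simp only [LinearMap.comp_apply] at this
      rw [← this, hm, map_sub, LinearMap.mem_ker.mp hx, map_zero, zero_sub,
        show φ₂ (ψ₂ y) = 0 from LinearMap.congr_fun h₂ y, neg_zero]
    refine ⟨Submodule.Quotient.mk ⟨m, hmk⟩, ?_⟩
    obtain ⟨h'', e'⟩ := perHMap_mk f₁ g₁ cφ₁ cψ₁ ⟨m, hmk⟩
    rw [e', ← sub_eq_zero, ← Submodule.Quotient.mk_sub, perH_mk_eq_zero]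
    refine ⟨-y, ?_⟩
    show ψ₂ (-y) = f₁ m - x
    rw [hm, map_neg]
    abel

/-- The connecting isomorphism, on lengths. -/
theorem length_coker_eq_length_ker (h₂ : ψ₂ ∘ₗ φ₂ = 0) {f₁ : M₁ →ₗ[R] M₂} {g₁ : N₁ →ₗ[R] N₂}
    {f₂ : M₂ →ₗ[R] M₃} {g₂ : N₂ →ₗ[R] N₃} (cφ₁ : φ₂ ∘ₗ f₁ = g₁ ∘ₗ φ₁) (cψ₁ : ψ₂ ∘ₗ g₁ = f₁ ∘ₗ ψ₁)
    (cφ₂ : φ₃ ∘ₗ f₂ = g₂ ∘ₗ φ₂) (cψ₂ : ψ₃ ∘ₗ g₂ = f₂ ∘ₗ ψ₂) (hf₁ : Function.Injective f₁)
    (hg₁ : Function.Injective g₁) (hf₂ : Function.Surjective f₂) (hg₂ : Function.Surjective g₂)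
    (hM : LinearMap.range f₁ = LinearMap.ker f₂) (hN : LinearMap.range g₁ = LinearMap.ker g₂)
    (h₂' : φ₂ ∘ₗ ψ₂ = 0) :
    Module.length R (CycAlg.perH φ₃ ψ₃ ⧸ LinearMap.range (perHMap f₂ g₂ cφ₂ cψ₂)) =
      Module.length R (LinearMap.ker (perHMap (φ := ψ₁) (ψ := φ₁) (φ' := ψ₂) (ψ' := φ₂) g₁ f₁ cψ₁ cφ₁)) := by
  let P : Submodule R M₂ := LinearMap.ker (g₂ ∘ₗ φ₂)
  have hP : ∀ x : P, φ₂ x.1 ∈ LinearMap.range g₁ := fun x => by
    rw [hN, LinearMap.mem_ker]; exact x.2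
  let e := LinearEquiv.ofInjective g₁ hg₁
  let n : P →ₗ[R] N₁ := e.symm.toLinearMap ∘ₗ LinearMap.codRestrict _ (φ₂ ∘ₗ P.subtype) hP
  have hn : ∀ x : P, g₁ (n x) = φ₂ x.1 := fun x =>
    congrArg Subtype.val (e.apply_symm_apply ⟨φ₂ x.1, hP x⟩)
  have hn' : ∀ x : P, n x ∈ LinearMap.ker ψ₁ := fun x => by
    rw [LinearMap.mem_ker]
    apply hf₁
    have := LinearMap.congr_fun cψ₁ (n x)
    simp only [LinearMap.comp_apply] at this
    rw [← this, hn, map_zero]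
    exact LinearMap.congr_fun h₂ x.1
  let π₂ : P →ₗ[R] CycAlg.perH ψ₁ φ₁ :=
    (Submodule.mkQ _) ∘ₗ (LinearMap.codRestrict _ n hn')
  have hπ₂ : ∀ x : P, π₂ x = Submodule.Quotient.mk ⟨n x, hn' x⟩ := fun _ => rfl
  have hrange : LinearMap.range π₂ =
      LinearMap.ker (perHMap (φ := ψ₁) (ψ := φ₁) (φ' := ψ₂) (ψ' := φ₂) g₁ f₁ cψ₁ cφ₁) := by
    ext z
    obtain ⟨⟨m, hm⟩, rfl⟩ := Submodule.Quotient.mk_surjective _ z
    obtain ⟨h', e'⟩ := perHMap_mk (φ := ψ₁) (ψ := φ₁) (φ' := ψ₂) (ψ' := φ₂) g₁ f₁ cψ₁ cφ₁ ⟨m, hm⟩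
    rw [LinearMap.mem_ker, e', perH_mk_eq_zero]
    constructor
    · rintro ⟨x, hx⟩
      rw [hπ₂, ← sub_eq_zero, ← Submodule.Quotient.mk_sub, perH_mk_eq_zero] at hx
      obtain ⟨a, ha⟩ := hx
      refine ⟨x.1 - f₁ a, ?_⟩
      have := LinearMap.congr_fun cφ₁ a
      simp only [LinearMap.comp_apply] at this
      show φ₂ (x.1 - f₁ a) = g₁ m
      rw [map_sub, this, ha, ← hn]
      show g₁ (n x) - g₁ (n x - m) = g₁ m
      rw [map_sub, sub_sub_cancel]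
    · rintro ⟨x, hx⟩
      have hxP : x ∈ P := by
        show g₂ (φ₂ x) = 0
        rw [hx, ← LinearMap.mem_ker, ← hN]
        exact ⟨m, rfl⟩
      refine ⟨⟨x, hxP⟩, ?_⟩
      rw [hπ₂]
      congr 1
      apply Subtype.ext
      apply hg₁
      show g₁ (n _) = g₁ m
      rw [hn]
      exact hx
  have hker₃ : ∀ x : P, f₂ x.1 ∈ LinearMap.ker φ₃ := fun x => by
    have := LinearMap.congr_fun cφ₂ x.1
    simp only [LinearMap.comp_apply] at this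
    rw [LinearMap.mem_ker, this]
    exact x.2
  let π₁ : P →ₗ[R] CycAlg.perH φ₃ ψ₃ ⧸ LinearMap.range (perHMap f₂ g₂ cφ₂ cψ₂) :=
    (Submodule.mkQ _) ∘ₗ (Submodule.mkQ _) ∘ₗ LinearMap.codRestrict _ (f₂ ∘ₗ P.subtype) hker₃
  have hπ₁ : Function.Surjective π₁ := by
    intro z
    obtain ⟨z, rfl⟩ := Submodule.Quotient.mk_surjective _ z
    obtain ⟨⟨w, hw⟩, rfl⟩ := Submodule.Quotient.mk_surjective _ z
    obtain ⟨x, rfl⟩ := hf₂ w
    have hxP : x ∈ P := by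
      have := LinearMap.congr_fun cφ₂ x
      simp only [LinearMap.comp_apply] at this
      show g₂ (φ₂ x) = 0
      rw [← this]; exact hw
    exact ⟨⟨x, hxP⟩, rfl⟩
  have hkereq : LinearMap.ker π₁ = LinearMap.ker π₂ := by
    ext x
    rw [LinearMap.mem_ker, LinearMap.mem_ker, hπ₂, perH_mk_eq_zero]
    show (Submodule.Quotient.mk (Submodule.Quotient.mk (⟨f₂ x.1, hker₃ x⟩ : LinearMap.ker φ₃)) :
      CycAlg.perH φ₃ ψ₃ ⧸ LinearMap.range (perHMap f₂ g₂ cφ₂ cψ₂)) = 0 ↔ _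
    rw [Submodule.Quotient.mk_eq_zero]
    constructor
    · rintro ⟨w, hw⟩
      obtain ⟨⟨m, hm⟩, rfl⟩ := Submodule.Quotient.mk_surjective _ w
      obtain ⟨h', e'⟩ := perHMap_mk f₂ g₂ cφ₂ cψ₂ ⟨m, hm⟩
      rw [e', ← sub_eq_zero, ← Submodule.Quotient.mk_sub, perH_mk_eq_zero] at hw
      obtain ⟨y, hy⟩ := hw
      obtain ⟨y, rfl⟩ := hg₂ y
      have hc := LinearMap.congr_fun cψ₂ y
      simp only [LinearMap.comp_apply] at hc
      have hy' : f₂ (ψ₂ y) = f₂ m - f₂ x.1 := hc ▸ hy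
      obtain ⟨a, ha⟩ : x.1 - (m - ψ₂ y) ∈ LinearMap.range f₁ := by
        rw [hM, LinearMap.mem_ker, map_sub, map_sub, hy', sub_sub_cancel, sub_self]
      refine ⟨a, hg₁ ?_⟩
      have := LinearMap.congr_fun cφ₁ a
      simp only [LinearMap.comp_apply] at this
      show g₁ (φ₁ a) = g₁ (n x)
      rw [hn, ← this, ha, map_sub, map_sub, LinearMap.mem_ker.mp hm,
        show φ₂ (ψ₂ y) = 0 from LinearMap.congr_fun h₂' y, sub_zero, sub_zero]
    · rintro ⟨a, ha⟩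
      have hk : x.1 - f₁ a ∈ LinearMap.ker φ₂ := by
        have := LinearMap.congr_fun cφ₁ a
        simp only [LinearMap.comp_apply] at this
        rw [LinearMap.mem_ker, map_sub, this, ha]
        show φ₂ x.1 - g₁ (n x) = 0
        rw [hn, sub_self]
      refine ⟨Submodule.Quotient.mk ⟨_, hk⟩, ?_⟩
      obtain ⟨h', e'⟩ := perHMap_mk f₂ g₂ cφ₂ cψ₂ ⟨_, hk⟩
      rw [e']
      congr 1
      apply Subtype.ext
      show f₂ (x.1 - f₁ a) = f₂ x.1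
      rw [map_sub, show f₂ (f₁ a) = 0 from LinearMap.mem_ker.mp (hM ▸ ⟨a, rfl⟩), sub_zero]
  rw [← hrange, ← ((π₁.quotKerEquivOfSurjective hπ₁).length_eq), hkereq]
  exact π₂.quotKerEquivRange.length_eq

theorem herbrand_shortExact (h₂ : CycAlg.IsPeriodic φ₂ ψ₂) {f₁ : M₁ →ₗ[R] M₂} {g₁ : N₁ →ₗ[R] N₂}
    {f₂ : M₂ →ₗ[R] M₃} {g₂ : N₂ →ₗ[R] N₃} (cφ₁ : φ₂ ∘ₗ f₁ = g₁ ∘ₗ φ₁) (cψ₁ : ψ₂ ∘ₗ g₁ = f₁ ∘ₗ ψ₁)
    (cφ₂ : φ₃ ∘ₗ f₂ = g₂ ∘ₗ φ₂) (cψ₂ : ψ₃ ∘ₗ g₂ = f₂ ∘ₗ ψ₂) (hf₁ : Function.Injective f₁)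
    (hg₁ : Function.Injective g₁) (hf₂ : Function.Surjective f₂) (hg₂ : Function.Surjective g₂)
    (hM : LinearMap.range f₁ = LinearMap.ker f₂) (hN : LinearMap.range g₁ = LinearMap.ker g₂)
    (htwo : (CycAlg.FinCoh R φ₁ ψ₁ ∧ CycAlg.FinCoh R φ₂ ψ₂) ∨
      (CycAlg.FinCoh R φ₁ ψ₁ ∧ CycAlg.FinCoh R φ₃ ψ₃) ∨
      (CycAlg.FinCoh R φ₂ ψ₂ ∧ CycAlg.FinCoh R φ₃ ψ₃)) :
    CycAlg.FinCoh R φ₁ ψ₁ ∧ CycAlg.FinCoh R φ₂ ψ₂ ∧ CycAlg.FinCoh R φ₃ ψ₃ ∧
      CycAlg.herbrand R φ₂ ψ₂ = CycAlg.herbrand R φ₁ ψ₁ + CycAlg.herbrand R φ₃ ψ₃ := by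
  let F₁ := perHMap (φ := φ₁) (ψ := ψ₁) f₁ g₁ cφ₁ cψ₁
  let F₂ := perHMap (φ := φ₂) (ψ := ψ₂) f₂ g₂ cφ₂ cψ₂
  let G₁ := perHMap (φ := ψ₁) (ψ := φ₁) g₁ f₁ cψ₁ cφ₁
  let G₂ := perHMap (φ := ψ₂) (ψ := φ₂) g₂ f₂ cψ₂ cφ₂
  have e1 : LinearMap.range F₁ = LinearMap.ker F₂ :=
    range_perHMap_eq_ker h₂.1 cφ₁ cψ₁ cφ₂ cψ₂ hg₁ hg₂ hM
  have e2 : LinearMap.range G₁ = LinearMap.ker G₂ :=
    range_perHMap_eq_ker h₂.2 cψ₁ cφ₁ cψ₂ cφ₂ hf₁ hf₂ hN
  have c1 : Module.length R (_ ⧸ LinearMap.range F₂) = Module.length R (LinearMap.ker G₁) :=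
    length_coker_eq_length_ker h₂.2 cφ₁ cψ₁ cφ₂ cψ₂ hf₁ hg₁ hf₂ hg₂ hM hN h₂.1
  have c2 : Module.length R (_ ⧸ LinearMap.range G₂) = Module.length R (LinearMap.ker F₁) :=
    length_coker_eq_length_ker h₂.1 cψ₁ cφ₁ cψ₂ cφ₂ hg₁ hf₁ hg₂ hf₂ hN hM h₂.2
  have a1 := length_ker_add_range F₁
  have a2 := length_ker_add_range F₂
  have a3 := length_eq_range_add_quot (LinearMap.range F₂)
  have b1 := length_ker_add_range G₁
  have b2 := length_ker_add_range G₂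
  have b3 := length_eq_range_add_quot (LinearMap.range G₂)
  rw [← e1] at a2
  rw [← e2] at b2
  rw [c1] at a3
  rw [c2] at b3
  have hfin : ∀ {a b : ℕ∞}, a + b < ⊤ → a < ⊤ ∧ b < ⊤ := fun h =>
    ENat.add_lt_top.mp h
  unfold CycAlg.FinCoh at htwo ⊢
  unfold CycAlg.herbrand
  rw [a1, a2, a3, b1, b2, b3] at htwo ⊢
  have key : Module.length R (LinearMap.ker F₁) < ⊤ ∧ Module.length R (LinearMap.range F₁) < ⊤ ∧
      Module.length R (LinearMap.range F₂) < ⊤ ∧ Module.length R (LinearMap.ker G₁) < ⊤ ∧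
      Module.length R (LinearMap.range G₁) < ⊤ ∧ Module.length R (LinearMap.range G₂) < ⊤ := by
    simp only [ENat.add_lt_top] at htwo
    tauto
  obtain ⟨k1, k2, k3, k4, k5, k6⟩ := key
  obtain ⟨n1, h1, -⟩ := toNat_eq k1.ne
  obtain ⟨n2, h2, -⟩ := toNat_eq k2.ne
  obtain ⟨n3, h3, -⟩ := toNat_eq k3.ne
  obtain ⟨n4, h4, -⟩ := toNat_eq k4.ne
  obtain ⟨n5, h5, -⟩ := toNat_eq k5.ne
  obtain ⟨n6, h6, -⟩ := toNat_eq k6.ne
  rw [h1, h2, h3, h4, h5, h6]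
  simp only [← ENat.natCast_add, ENat.natCast_lt_top, and_self, true_and, ENat.toNat_natCast]
  push_cast
  ring

end ShortExact

theorem finCoh_herbrand_of_length {M N : Type v} [AddCommGroup M] [Module R M] [AddCommGroup N]
    [Module R N] (φ : M →ₗ[R] N) (ψ : N →ₗ[R] M) (h : CycAlg.IsPeriodic φ ψ)
    (hM : Module.length R M < ⊤) (hN : Module.length R N < ⊤) :
    CycAlg.FinCoh R φ ψ ∧ CycAlg.herbrand R φ ψ =
      ((Module.length R M).toNat : ℤ) - ((Module.length R N).toNat : ℤ) := by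
  have a := length_perH_add φ ψ h.1
  have b := length_perH_add ψ φ h.2
  unfold CycAlg.FinCoh CycAlg.herbrand
  rw [a] at hM ⊢
  rw [b] at hN ⊢
  rw [ENat.add_lt_top, ENat.add_lt_top] at hM hN
  obtain ⟨n1, h1, -⟩ := toNat_eq hM.1.1.ne
  obtain ⟨n2, h2, -⟩ := toNat_eq hM.1.2.ne
  obtain ⟨n3, h3, -⟩ := toNat_eq hM.2.ne
  obtain ⟨n4, h4, -⟩ := toNat_eq hN.2.ne
  rw [h1, h2, h3, h4]
  simp only [← ENat.natCast_add, ENat.natCast_lt_top, and_self, true_and, ENat.toNat_natCast]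
  push_cast
  ring

section Pow

variable {M : Type v} [AddCommGroup M] [Module R M] (φ : M →ₗ[R] M)

theorem pow_eq_comp_pow {a b c d : ℕ} (h : a + b = c + d) :
    (φ ^ a) ∘ₗ (φ ^ b) = (φ ^ c) ∘ₗ (φ ^ d) := by
  rw [← Module.End.mul_eq_comp, ← Module.End.mul_eq_comp, ← pow_add, ← pow_add, h]

theorem pow_apply_add (a b : ℕ) (x : M) : (φ ^ a) ((φ ^ b) x) = (φ ^ (a + b)) x := by
  rw [pow_add]; rfl

/-- `H(φ^q, φ^(p+r)) → H(φ^(p+q), φ^r)`, the inclusion. -/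
def inclPow {a b c d : ℕ} (p : ℕ) (h1 : c = p + a) (h2 : b = p + d) :
    CycAlg.perH (φ ^ a) (φ ^ b) →ₗ[R] CycAlg.perH (φ ^ c) (φ ^ d) :=
  perHMap (LinearMap.id) (φ ^ p)
    (by rw [LinearMap.comp_id, h1, pow_add]; rfl)
    (by rw [LinearMap.id_comp, ← Module.End.mul_eq_comp, ← pow_add, h2, add_comm d p])

/-- `H(φ^(p+q), φ^r) → H(φ^p, φ^(q+r))`, multiplication by `φ^q`. -/
def mulPow {a b c d : ℕ} (q : ℕ) (h1 : a = c + q) (h2 : d = q + b) :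
    CycAlg.perH (φ ^ a) (φ ^ b) →ₗ[R] CycAlg.perH (φ ^ c) (φ ^ d) :=
  perHMap (φ ^ q) (LinearMap.id)
    (by rw [LinearMap.id_comp, h1, pow_add]; rfl)
    (by rw [LinearMap.comp_id, h2, pow_add]; rfl)

theorem exact_incl_mul {q pr pq r p qr : ℕ} (h1 : pq = p + q) (h2 : pr = p + r) (h3 : qr = q + r) :
    LinearMap.range (inclPow φ p (a := q) (b := pr) (c := pq) (d := r) h1 h2) =
      LinearMap.ker (mulPow φ q (a := pq) (b := r) (c := p) (d := qr) h1 h3) := by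
  subst h1 h2 h3
  ext z
  obtain ⟨⟨x, hx⟩, rfl⟩ := Submodule.Quotient.mk_surjective _ z
  unfold inclPow mulPow
  obtain ⟨h', e⟩ := perHMap_mk (φ := φ ^ (p + q)) (ψ := φ ^ r) (φ' := φ ^ p) (ψ' := φ ^ (q + r))
    (φ ^ q) LinearMap.id _ _ ⟨x, hx⟩
  rw [LinearMap.mem_ker, e, perH_mk_eq_zero]
  constructor
  · rintro ⟨w, hw⟩
    obtain ⟨⟨m, hm⟩, rfl⟩ := Submodule.Quotient.mk_surjective _ w
    obtain ⟨h'', e'⟩ := perHMap_mk (φ := φ ^ q) (ψ := φ ^ (p + r)) (φ' := φ ^ (p + q)) (ψ' := φ ^ r)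
      LinearMap.id (φ ^ p) _ _ ⟨m, hm⟩
    rw [e', ← sub_eq_zero, ← Submodule.Quotient.mk_sub, perH_mk_eq_zero] at hw
    obtain ⟨y, hy⟩ := hw
    refine ⟨-y, ?_⟩
    rw [map_neg, ← pow_apply_add, hy]
    show -((φ ^ q) (m - x)) = (φ ^ q) x
    rw [map_sub, LinearMap.mem_ker.mp hm, zero_sub, neg_neg]
  · rintro ⟨y, hy⟩
    rw [← pow_apply_add] at hy
    have hm : x - (φ ^ r) y ∈ LinearMap.ker (φ ^ q) := by
      rw [LinearMap.mem_ker, map_sub, hy, sub_self]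
    refine ⟨Submodule.Quotient.mk ⟨_, hm⟩, ?_⟩
    obtain ⟨h'', e'⟩ := perHMap_mk (φ := φ ^ q) (ψ := φ ^ (p + r)) (φ' := φ ^ (p + q)) (ψ' := φ ^ r)
      LinearMap.id (φ ^ p) _ _ ⟨_, hm⟩
    rw [e', ← sub_eq_zero, ← Submodule.Quotient.mk_sub, perH_mk_eq_zero]
    exact ⟨-y, by rw [map_neg]; show -((φ ^ r) y) = x - (φ ^ r) y - x; abel⟩

theorem exact_mul_incl {pq r p qr pr q : ℕ} (h1 : pq = p + q) (h2 : qr = q + r) (h3 : pr = r + p) :
    LinearMap.range (mulPow φ q (a := pq) (b := r) (c := p) (d := qr) h1 h2) =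
      LinearMap.ker (inclPow φ r (a := p) (b := qr) (c := pr) (d := q) h3 (h2.trans (add_comm q r))) := by
  subst h1 h2 h3
  ext z
  obtain ⟨⟨x, hx⟩, rfl⟩ := Submodule.Quotient.mk_surjective _ z
  unfold inclPow mulPow
  obtain ⟨h', e⟩ := perHMap_mk (φ := φ ^ p) (ψ := φ ^ (q + r)) (φ' := φ ^ (r + p)) (ψ' := φ ^ q)
    LinearMap.id (φ ^ r) _ _ ⟨x, hx⟩
  rw [LinearMap.mem_ker, e, perH_mk_eq_zero]
  constructor
  · rintro ⟨w, hw⟩
    obtain ⟨⟨m, hm⟩, rfl⟩ := Submodule.Quotient.mk_surjective _ w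
    obtain ⟨h'', e'⟩ := perHMap_mk (φ := φ ^ (p + q)) (ψ := φ ^ r) (φ' := φ ^ p) (ψ' := φ ^ (q + r))
      (φ ^ q) LinearMap.id _ _ ⟨m, hm⟩
    rw [e', ← sub_eq_zero, ← Submodule.Quotient.mk_sub, perH_mk_eq_zero] at hw
    obtain ⟨y, hy⟩ := hw
    refine ⟨m - (φ ^ r) y, ?_⟩
    show (φ ^ q) (m - (φ ^ r) y) = x
    rw [map_sub, pow_apply_add, hy]
    show (φ ^ q) m - ((φ ^ q) m - x) = x
    rw [sub_sub_cancel]
  · rintro ⟨y, hy⟩
    have hm : y ∈ LinearMap.ker (φ ^ (p + q)) := by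
      rw [LinearMap.mem_ker, ← pow_apply_add, hy]; exact hx
    refine ⟨Submodule.Quotient.mk ⟨y, hm⟩, ?_⟩
    obtain ⟨h'', e'⟩ := perHMap_mk (φ := φ ^ (p + q)) (ψ := φ ^ r) (φ' := φ ^ p) (ψ' := φ ^ (q + r))
      (φ ^ q) LinearMap.id _ _ ⟨y, hm⟩
    rw [e']
    congr 1
    exact Subtype.ext hy

theorem finCoh_herbrand_pow (n : ℕ) (hφ : φ ^ n = 0)
    (hfin : Module.length R (CycAlg.perH φ (φ ^ (n - 1))) < ⊤) (i : ℕ) (hi : i ≤ n) :
    CycAlg.FinCoh R (φ ^ i) (φ ^ (n - i)) ∧ CycAlg.herbrand R (φ ^ i) (φ ^ (n - i)) = 0 := by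
  have h0 : Module.length R (CycAlg.perH (φ ^ 0) (φ ^ n)) = 0 ∧
      Module.length R (CycAlg.perH (φ ^ n) (φ ^ 0)) = 0 := by
    constructor <;> rw [Module.length_eq_zero_iff, Submodule.Quotient.subsingleton_iff, eq_top_iff] <;>
      rintro ⟨x, hx⟩ -
    · rw [pow_zero] at hx
      have : x = 0 := hx
      exact ⟨0, by rw [map_zero]; exact this.symm⟩
    · exact ⟨x, by rw [pow_zero]; rfl⟩
  rcases Nat.eq_zero_or_pos n with rfl | hn
  · obtain rfl : i = 0 := by omega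
    unfold CycAlg.FinCoh CycAlg.herbrand
    simp [h0.1]
  set L : ℕ → ℕ∞ := fun j => Module.length R (CycAlg.perH (φ ^ j) (φ ^ (n - j))) with hL
  have hsix : ∀ p q r pq qr pr : ℕ, pq = p + q → qr = q + r → pr = r + p → p + q + r = n →
      ∃ s1 s2 s3 s4 s5 s6 : ℕ∞, L q = s6 + s1 ∧ L pq = s1 + s2 ∧ L p = s2 + s3 ∧
        L pr = s3 + s4 ∧ L r = s4 + s5 ∧ L qr = s5 + s6 := by
    intro p q r pq qr pr h1 h2 h3 hn'
    have f : ∀ {a b : ℕ}, a + b = n → Module.length R (CycAlg.perH (φ ^ a) (φ ^ b)) = L a :=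
      fun {a b} hab => by rw [hL]; simp only; rw [show n - a = b by omega]
    let A := inclPow φ p (a := q) (b := pr) (c := pq) (d := r) (by omega) (by omega)
    let B := mulPow φ q (a := pq) (b := r) (c := p) (d := qr) (by omega) (by omega)
    let C := inclPow φ r (a := p) (b := qr) (c := pr) (d := q) (by omega) (by omega)
    let D := mulPow φ p (a := pr) (b := q) (c := r) (d := pq) (by omega) (by omega)
    let E := inclPow φ q (a := r) (b := pq) (c := qr) (d := p) (by omega) (by omega)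
    let F := mulPow φ r (a := qr) (b := p) (c := q) (d := pr) (by omega) (by omega)
    refine ⟨Module.length R (LinearMap.range A), Module.length R (LinearMap.range B),
      Module.length R (LinearMap.range C), Module.length R (LinearMap.range D),
      Module.length R (LinearMap.range E), Module.length R (LinearMap.range F), ?_, ?_, ?_, ?_, ?_, ?_⟩
    · rw [← f (b := pr) (by omega), length_ker_add_range A,
        exact_mul_incl φ (pq := qr) (r := p) (p := q) (qr := pr) (pr := pq) (q := r) (by omega) (by omega) (by omega)]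
    · rw [← f (b := r) (by omega), length_ker_add_range B, exact_incl_mul φ (by omega) (by omega) (by omega)]
    · rw [← f (b := qr) (by omega), length_ker_add_range C,
        exact_mul_incl φ (pq := pq) (r := r) (p := p) (qr := qr) (pr := pr) (q := q) (by omega) (by omega) (by omega)]
    · rw [← f (b := q) (by omega), length_ker_add_range D, exact_incl_mul φ (by omega) (by omega) (by omega)]
    · rw [← f (b := pq) (by omega), length_ker_add_range E,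
        exact_mul_incl φ (pq := pr) (r := q) (p := r) (qr := pq) (pr := qr) (q := p) (by omega) (by omega) (by omega)]
    · rw [← f (b := p) (by omega), length_ker_add_range F, exact_incl_mul φ (by omega) (by omega) (by omega)]
  have hL0 : L 0 = 0 := by simpa [hL] using h0.1
  have hLn : L n = 0 := by
    show Module.length R (CycAlg.perH (φ ^ n) (φ ^ (n - n))) = 0
    generalize hm : n - n = m
    obtain rfl : m = 0 := by omega
    exact h0.2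
  have hL1 : L 1 < ⊤ := by simp only [hL]; rw [pow_one]; exact hfin
  have hfinite : ∀ j, j ≤ n → L j < ⊤ := by
    intro j
    induction j with
    | zero => simp [hL0]
    | succ j ih =>
      intro hj
      obtain ⟨s1, s2, s3, s4, s5, s6, e1, e2, e3, e4, e5, e6⟩ :=
        hsix j 1 (n - j - 1) (j + 1) (n - j) (n - 1) rfl (by omega) (by omega) (by omega)
      have := ih (by omega)
      rw [e3, ENat.add_lt_top] at this
      rw [e1, ENat.add_lt_top] at hL1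
      rw [e2]
      exact ENat.add_lt_top.mpr ⟨hL1.2, this.1⟩
  have key : ∀ j, j ≤ n → ((L j).toNat : ℤ) - (L (n - j)).toNat =
      j * (((L 1).toNat : ℤ) - (L (n - 1)).toNat) := by
    intro j
    induction j with
    | zero => simp [hL0, hLn]
    | succ j ih =>
      intro hj
      obtain ⟨s1, s2, s3, s4, s5, s6, e1, e2, e3, e4, e5, e6⟩ :=
        hsix j 1 (n - j - 1) (j + 1) (n - j) (n - 1) rfl (by omega) (by omega) (by omega)
      have q1 := hfinite 1 hn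
      have q3 := hfinite j (by omega)
      have q5 := hfinite (n - j - 1) (by omega)
      have q6 := hfinite (n - j) (by omega)
      rw [e1, ENat.add_lt_top] at q1
      rw [e3, ENat.add_lt_top] at q3
      rw [e5, ENat.add_lt_top] at q5
      have := ih (by omega)
      obtain ⟨n1, rfl, -⟩ := toNat_eq q1.2.ne
      obtain ⟨n2, rfl, -⟩ := toNat_eq q3.1.ne
      obtain ⟨n3, rfl, -⟩ := toNat_eq q3.2.ne
      obtain ⟨n4, rfl, -⟩ := toNat_eq q5.1.ne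
      obtain ⟨n5, rfl, -⟩ := toNat_eq q5.2.ne
      obtain ⟨n6, rfl, -⟩ := toNat_eq q1.1.ne
      rw [show n - (j + 1) = n - j - 1 by omega, e2, e5]
      rw [e3, e6, e1, e4] at this
      rw [e1, e4]
      simp only [← ENat.natCast_add, ENat.toNat_natCast] at this ⊢
      push_cast at this ⊢
      linear_combination this
  have hz : ((L 1).toNat : ℤ) - (L (n - 1)).toNat = 0 := by
    have := key n le_rfl
    rw [Nat.sub_self, hLn, hL0] at this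
    simpa [hn.ne'] using this.symm
  have hswap : Module.length R (CycAlg.perH (φ ^ (n - i)) (φ ^ i)) = L (n - i) := by
    simp only [hL]; rw [show n - (n - i) = i by omega]
  unfold CycAlg.FinCoh CycAlg.herbrand
  rw [hswap]
  refine ⟨⟨hfinite i hi, hfinite _ (Nat.sub_le _ _)⟩, ?_⟩
  have := key i hi
  rw [hz, mul_zero] at this
  exact this

end Pow

end Groth.Agent.H22Alg
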