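import Mathlib

/-!
Connected components under a continuous action of a profinite group: if the only nonempty invariant
clopen set is everything, every connected component meets every orbit.
-/

set_option autoImplicit false

open Topology
open scoped Pointwise

namespace Groth.Agent.H22Alg.ProfiniteComponents

variable {G : Type*} [Group G] [TopologicalSpace G] [IsTopologicalGroup G]
variable {P : Type*} [TopologicalSpace P] [MulAction G P] [ContinuousSMul G P]

omit [IsTopologicalGroup G] in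
theorem isClosed_setOf_exists_smul_mem {N : Set G} (hN : IsCompact N) {C : Set P} (hC : IsClosed C) :
    IsClosed {p : P | ∃ n ∈ N, n • p ∈ C} := by
  haveI := isCompact_iff_compactSpace.mp hN
  have h1 : IsClosed {x : N × P | (x.1 : G) • x.2 ∈ C} :=
    hC.preimage ((continuous_subtype_val.comp continuous_fst).smul continuous_snd)
  convert isClosedMap_snd_of_compactSpace _ h1 using 1
  ext p
  exact ⟨fun ⟨n, hn, h⟩ => ⟨(⟨n, hn⟩, p), h, rfl⟩, fun ⟨⟨⟨n, hn⟩, q⟩, h, e⟩ => ⟨n, hn, e ▸ h⟩⟩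

omit [IsTopologicalGroup G] in
theorem isClosed_setOf_exists_mem_smul {K : Set P} (hK : IsCompact K) {C : Set P} (hC : IsClosed C) :
    IsClosed {g : G | ∃ r ∈ K, g • r ∈ C} := by
  haveI := isCompact_iff_compactSpace.mp hK
  have h1 : IsClosed {x : K × G | x.2 • (x.1 : P) ∈ C} :=
    hC.preimage (continuous_snd.smul (continuous_subtype_val.comp continuous_fst))
  convert isClosedMap_snd_of_compactSpace _ h1 using 1
  ext g
  exact ⟨fun ⟨r, hr, h⟩ => ⟨(⟨r, hr⟩, g), h, rfl⟩, fun ⟨⟨⟨r, hr⟩, g'⟩, h, e⟩ => ⟨r, hr, e ▸ h⟩⟩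

/-- The intersection of the clopen sets containing a point. -/
def quasiComponent {Y : Type*} [TopologicalSpace Y] (z : Y) : Set Y :=
  ⋂ U : {U : Set Y // IsClopen U ∧ z ∈ U}, U.1

omit [MulAction G P] [ContinuousSMul G P] in
theorem mem_quasiComponent_iff {z w : P} : w ∈ quasiComponent z ↔ ∀ U : Set P, IsClopen U → z ∈ U → w ∈ U :=
  ⟨fun h U hU hz => Set.mem_iInter.mp h ⟨U, hU, hz⟩, fun h => Set.mem_iInter.mpr fun U => h U.1 U.2.1 U.2.2⟩

omit [MulAction G P] [ContinuousSMul G P] in
theorem quasiComponent_eq {z w : P} (h : w ∈ quasiComponent z) : quasiComponent w = quasiComponent z := by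
  have hsymm : z ∈ quasiComponent w := mem_quasiComponent_iff.mpr fun U hU hw => by
    by_contra hz
    exact mem_quasiComponent_iff.mp h Uᶜ hU.compl hz hw
  ext v
  simp only [mem_quasiComponent_iff]
  exact ⟨fun hv U hU hz => hv U hU (mem_quasiComponent_iff.mp h U hU hz),
    fun hv U hU hw => hv U hU (mem_quasiComponent_iff.mp hsymm U hU hw)⟩

omit [MulAction G P] [ContinuousSMul G P] in
theorem isClosed_quasiComponent (z : P) : IsClosed (quasiComponent z) :=
  isClosed_iInter fun U => U.2.1.isClosed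

omit [IsTopologicalGroup G] in
theorem smul_mem_quasiComponent (g : G) {z w : P} (h : w ∈ quasiComponent z) :
    g • w ∈ quasiComponent (g • z) :=
  mem_quasiComponent_iff.mpr fun _ hU hz => mem_quasiComponent_iff.mp h _ (hU.preimage (continuous_const_smul g)) hz

section

variable [CompactSpace G] (hP : ∀ U : Set P, IsClopen U → U.Nonempty → (∀ (g : G) (p : P), p ∈ U → g • p ∈ U) → U = Set.univ)

include hP in
theorem exists_smul_mem (z p : P) : ∃ g : G, g • p ∈ quasiComponent z := by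
  have horb : IsCompact (Set.range fun g : G => g • p) := isCompact_range (continuous_id.smul continuous_const)
  by_contra hne
  push Not at hne
  obtain ⟨s, hs⟩ := horb.elim_finite_subfamily_closed (fun U : {U : Set P // IsClopen U ∧ z ∈ U} => U.1)
    (fun U => U.2.1.isClosed) (Set.eq_empty_of_forall_notMem fun w ⟨⟨g, hg⟩, hw⟩ => hne g (by subst hg; exact hw))
  let U : Set P := ⋂ i ∈ s, i.1
  have hU : IsClopen U := isClopen_biInter_finset fun i _ => i.2.1
  have hz : z ∈ U := Set.mem_iInter₂.mpr fun i _ => i.2.2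
  let V : Set P := {w | ∃ g ∈ (Set.univ : Set G), g • w ∈ U}
  have hV : IsClopen V := by
    refine ⟨isClosed_setOf_exists_smul_mem isCompact_univ hU.isClosed, ?_⟩
    have : V = ⋃ g : G, (g • ·) ⁻¹' U := by ext w; simp [V]
    rw [this]
    exact isOpen_iUnion fun g => hU.isOpen.preimage (continuous_const_smul g)
  have hinv : ∀ (g : G) (w : P), w ∈ V → g • w ∈ V := fun g w ⟨h, _, hh⟩ =>
    ⟨h * g⁻¹, trivial, by rwa [mul_smul, inv_smul_smul]⟩
  obtain ⟨g, -, hg⟩ : p ∈ V := hP V hV ⟨z, 1, trivial, by rwa [one_smul]⟩ hinv ▸ Set.mem_univ p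
  have hmem : g • p ∈ (Set.range fun g : G => g • p) ∩ U := ⟨⟨g, rfl⟩, hg⟩
  exact (Set.eq_empty_iff_forall_notMem.mp hs) _ hmem

variable [TotallyDisconnectedSpace G]

include hP in
/-- For an open normal subgroup `N`, the union of the translates of a quasi-component by `N` is clopen. -/
theorem isClopen_translates (N : OpenNormalSubgroup G) (z : P) :
    IsClopen {p : P | ∃ n ∈ (N.toSubgroup : Set G), n • p ∈ quasiComponent z} := by
  have hcl := isClosed_quasiComponent (P := P) z
  have hNc : IsCompact (N.toSubgroup : Set G) := (N.toSubgroup.isClosed_of_isOpen N.isOpen').isCompact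
  refine ⟨isClosed_setOf_exists_smul_mem hNc hcl, ?_⟩
  haveI : Finite (G ⧸ N.toSubgroup) := N.toSubgroup.quotient_finite_of_isOpen N.isOpen'
  rw [← isClosed_compl_iff]
  let R : Set (G ⧸ N.toSubgroup) := {c | ∀ n ∈ N.toSubgroup, (n * c.out) • z ∈ (quasiComponent z)ᶜ}
  have : {p : P | ∃ n ∈ (N.toSubgroup : Set G), n • p ∈ quasiComponent z}ᶜ =
      ⋃ c ∈ R, {p : P | ∃ n ∈ (N.toSubgroup : Set G), n • p ∈ (c.out • ·) '' quasiComponent z} := by
    ext p
    simp only [Set.mem_compl_iff, Set.mem_setOf_eq, Set.mem_iUnion, exists_prop]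
    constructor
    · intro hp
      obtain ⟨g, hg⟩ := exists_smul_mem hP z p
      obtain ⟨m, hm⟩ := QuotientGroup.mk_out_eq_mul N.toSubgroup g⁻¹
      have hmem' : g⁻¹ * (m : G) * g ∈ N.toSubgroup := by simpa using N.isNormal'.conj_mem _ m.2 g⁻¹
      refine ⟨QuotientGroup.mk g⁻¹, fun n hn hmem => hp ⟨n * (g⁻¹ * m * g), N.toSubgroup.mul_mem hn hmem', ?_⟩,
        g⁻¹ * m * g, hmem', g • p, hg, ?_⟩
      · have h2 := smul_mem_quasiComponent (n * (QuotientGroup.mk g⁻¹ : G ⧸ N.toSubgroup).out) hg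
        rw [quasiComponent_eq hmem, hm] at h2
        rwa [← mul_smul, show n * (g⁻¹ * m) * g = n * (g⁻¹ * m * g) by group] at h2
      · show _ • g • p = _
        rw [hm, ← mul_smul]
    · rintro ⟨c, hc, n, hn, q, hq, hqp⟩ ⟨n', hn', hp⟩
      have hp' : (n' * n⁻¹ * c.out) • q ∈ quasiComponent z := by
        rwa [mul_smul, show c.out • q = n • p from hqp, mul_smul, inv_smul_smul]
      have h1 := smul_mem_quasiComponent (n' * n⁻¹ * c.out) hq
      refine hc (n' * n⁻¹) (N.toSubgroup.mul_mem hn' (N.toSubgroup.inv_mem hn)) ?_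
      have h2 : quasiComponent z = quasiComponent ((n' * n⁻¹ * c.out) • z) := by
        rw [← quasiComponent_eq h1, quasiComponent_eq hp']
      rw [h2]
      exact mem_quasiComponent_iff.mpr fun _ _ h => h
  rw [this]
  refine Set.Finite.isClosed_biUnion (Set.toFinite R) fun c _ => ?_
  exact isClosed_setOf_exists_smul_mem hNc ((Homeomorph.smul c.out).isClosedMap _ hcl)

include hP in
theorem connectedComponent_eq_quasiComponent (z : P) : connectedComponent z = quasiComponent z := by
  refine Set.Subset.antisymm connectedComponent_subset_iInter_isClopen ?_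
  refine IsPreconnected.subset_connectedComponent ?_ (mem_quasiComponent_iff.mpr fun _ _ h => h)
  set Q := quasiComponent z with hQ
  have hQc : IsClosed Q := isClosed_quasiComponent z
  rw [isPreconnected_iff_subset_of_fully_disjoint_closed hQc]
  suffices key : ∀ u v : Set P, IsClosed u → IsClosed v → Q ⊆ u ∪ v → Disjoint u v → z ∈ u → Q ⊆ u by
    intro u v hu hv hsub hdis
    rcases hsub (mem_quasiComponent_iff.mpr fun _ _ h => h : z ∈ Q) with hz | hz
    · exact Or.inl (key u v hu hv hsub hdis hz)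
    · exact Or.inr (key v u hv hu (Set.union_comm u v ▸ hsub) hdis.symm hz)
  intro u v hu hv hsub hdis hzu
  set A := Q ∩ u
  set B := Q ∩ v
  have hA : IsClosed A := hQc.inter hu
  have hB : IsClosed B := hQc.inter hv
  have hAB : ∀ w, w ∈ A → w ∈ B → False := fun w ha hb => hdis.le_bot ⟨ha.2, hb.2⟩
  have hcov : ∀ w ∈ Q, w ∈ A ∨ w ∈ B := fun w hw => (hsub hw).imp (fun h => ⟨hw, h⟩) fun h => ⟨hw, h⟩
  let H : Set G := {g | g • z ∈ Q}
  have hHc : IsCompact H := (hQc.preimage (continuous_id.smul continuous_const)).isCompact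
  have hHQ : ∀ g ∈ H, ∀ q ∈ Q, g • q ∈ Q := fun g hg q hq => by
    have := smul_mem_quasiComponent g hq
    rwa [quasiComponent_eq hg] at this
  have hHof : ∀ (g : G) (q : P), q ∈ Q → g • q ∈ Q → g ∈ H := fun g q hq hgq => by
    have h1 := quasiComponent_eq (smul_mem_quasiComponent g hq)
    rw [quasiComponent_eq hgq] at h1
    show g • z ∈ quasiComponent z
    rw [h1]
    exact mem_quasiComponent_iff.mpr fun _ _ h => h
  have hH1 : (1 : G) ∈ H := by
    show (1 : G) • z ∈ Q
    rw [one_smul]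
    exact mem_quasiComponent_iff.mpr fun _ _ h => h
  have hHmul : ∀ g ∈ H, ∀ h ∈ H, g * h ∈ H := fun g hg h hh => by
    show (g * h) • z ∈ Q
    rw [mul_smul]
    exact hHQ g hg _ hh
  -- an open normal subgroup preserving the decomposition on the orbit of `z`
  have horb : IsCompact (Set.range fun g : G => g • z) := isCompact_range (continuous_id.smul continuous_const)
  let W : Set G := {g | ∃ r ∈ (Set.range fun g : G => g • z) ∩ A, g • r ∈ B}ᶜ ∩
    {g | ∃ r ∈ (Set.range fun g : G => g • z) ∩ B, g • r ∈ A}ᶜ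
  have hW : IsOpen W := (isClosed_setOf_exists_mem_smul (horb.inter_right hA) hB).isOpen_compl.inter
    (isClosed_setOf_exists_mem_smul (horb.inter_right hB) hA).isOpen_compl
  have h1W : (1 : G) ∈ W := by
    constructor
    · rintro ⟨r, hr, h⟩; rw [one_smul] at h; exact hAB r hr.2 h
    · rintro ⟨r, hr, h⟩; rw [one_smul] at h; exact hAB r h hr.2
  obtain ⟨N, hN⟩ := ProfiniteGrp.exist_openNormalSubgroup_sub_open_nhds_of_one hW h1W
  have hNc : IsCompact (N.toSubgroup : Set G) := (N.toSubgroup.isClosed_of_isOpen N.isOpen').isCompact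
  let M : Set G := (N.toSubgroup : Set G) ∩ H
  have hMc : IsCompact M := hNc.inter_right (hQc.preimage (continuous_id.smul continuous_const))
  let D : Set P := (A ∩ {r | ∃ n ∈ M, n • r ∈ B}) ∪ (B ∩ {r | ∃ n ∈ M, n • r ∈ A})
  have hD : IsClosed D := (hA.inter (isClosed_setOf_exists_smul_mem hMc hB)).union
    (hB.inter (isClosed_setOf_exists_smul_mem hMc hA))
  let T : Set P := Q ∩ {q | ∃ h ∈ H, h • q ∈ D}
  let S : Set P := Q \ T
  have hT : IsClosed T := hQc.inter (isClosed_setOf_exists_smul_mem hHc hD)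
  have hS : IsClosed S := by
    have : S = Q ∩ ⋂ h ∈ H, ⋂ n ∈ M, (((h • ·) ⁻¹' B) ∪ ((fun w => n • h • w) ⁻¹' A)) ∩
        (((h • ·) ⁻¹' A) ∪ ((fun w => n • h • w) ⁻¹' B)) := by
      ext q
      simp only [S, T, Set.mem_sdiff, Set.mem_inter_iff, Set.mem_setOf_eq, Set.mem_iInter, Set.mem_union,
        Set.mem_preimage, not_and, not_exists]
      refine ⟨fun ⟨hq, h⟩ => ⟨hq, fun g hg n hn => ?_⟩, fun ⟨hq, h⟩ => ⟨hq, fun _ g hg hgd => ?_⟩⟩
      · have hng : n • g • q ∈ Q := hHQ n hn.2 _ (hHQ g hg q hq)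
        rcases hcov _ (hHQ g hg q hq) with ha | hb
        · refine ⟨Or.inr ?_, Or.inl ha⟩
          exact (hcov _ hng).resolve_right fun hb => h hq g hg (Or.inl ⟨ha, n, hn, hb⟩)
        · refine ⟨Or.inl hb, Or.inr ?_⟩
          exact (hcov _ hng).resolve_left fun ha => h hq g hg (Or.inr ⟨hb, n, hn, ha⟩)
      · rcases hgd with ⟨ha, n, hn, hb⟩ | ⟨hb, n, hn, ha⟩
        · rcases (h g hg n hn).1 with e | e
          · exact hAB _ ha e
          · exact hAB _ e hb
        · rcases (h g hg n hn).2 with e | e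
          · exact hAB _ e hb
          · exact hAB _ ha e
    rw [this]
    refine hQc.inter (isClosed_biInter fun g _ => isClosed_biInter fun n _ => ?_)
    exact ((hB.preimage (continuous_const_smul g)).union (hA.preimage ((continuous_const_smul n).comp (continuous_const_smul g)))).inter
      ((hA.preimage (continuous_const_smul g)).union (hB.preimage ((continuous_const_smul n).comp (continuous_const_smul g))))
  have hzS : z ∈ S := by
    refine ⟨mem_quasiComponent_iff.mpr fun _ _ h => h, fun ⟨_, g, hg, hgd⟩ => ?_⟩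
    rcases hgd with ⟨ha, n, hn, hb⟩ | ⟨hb, n, hn, ha⟩
    · exact (hN hn.1).1 ⟨g • z, ⟨⟨g, rfl⟩, ha⟩, hb⟩
    · exact (hN hn.1).2 ⟨g • z, ⟨⟨g, rfl⟩, hb⟩, ha⟩
  have hT0 : T = ∅ := by
    by_contra hne
    obtain ⟨t, ht⟩ := Set.nonempty_iff_ne_empty.mpr hne
    let S' : Set P := {p | ∃ g ∈ (Set.univ : Set G), g • p ∈ S}
    have hdisj : ∀ p, p ∈ S' → ∀ g : G, g • p ∉ T := by
      rintro p ⟨g₁, -, h₁⟩ g₂ h₂
      have hg : g₂ * g₁⁻¹ ∈ H := hHof _ _ h₁.1 (by rw [mul_smul, inv_smul_smul]; exact h₂.1)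
      obtain ⟨hq, h, hh, hd⟩ := h₂
      refine h₁.2 ⟨h₁.1, h * (g₂ * g₁⁻¹), hHmul h hh _ hg, ?_⟩
      rwa [mul_smul, mul_smul, inv_smul_smul]
    have hcompl : S'ᶜ = {p | ∃ g ∈ (Set.univ : Set G), g • p ∈ T} := by
      ext p
      refine ⟨fun hp => ?_, fun ⟨g, _, hg⟩ hp => hdisj p hp g hg⟩
      obtain ⟨g, hg⟩ := exists_smul_mem hP z p
      refine ⟨g, trivial, ?_⟩
      by_contra hgT
      exact hp ⟨g, trivial, hg, hgT⟩
    have huniv : S' = Set.univ := hP S' ⟨isClosed_setOf_exists_smul_mem isCompact_univ hS,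
      isClosed_compl_iff.mp (hcompl ▸ isClosed_setOf_exists_smul_mem isCompact_univ hT)⟩
      ⟨z, 1, trivial, by rw [one_smul]; exact hzS⟩
      fun g p ⟨g', _, h⟩ => ⟨g' * g⁻¹, trivial, by rwa [mul_smul, inv_smul_smul]⟩
    exact hdisj t (huniv ▸ Set.mem_univ t) 1 (by rwa [one_smul])
  have hstab : ∀ n ∈ M, ∀ a ∈ A, n • a ∈ A := fun n hn a ha => by
    refine (hcov _ (hHQ n hn.2 a ha.1)).resolve_right fun hb => ?_
    exact Set.notMem_empty a (hT0 ▸ (show a ∈ T from ⟨ha.1, 1, hH1, by rw [one_smul]; exact Or.inl ⟨ha, n, hn, hb⟩⟩))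
  let U' : Set P := {p | ∃ n ∈ (N.toSubgroup : Set G), n • p ∈ A}
  have hU'c : U'ᶜ = {p | ∃ n ∈ (N.toSubgroup : Set G), n • p ∈ B} ∪
      {p : P | ∃ n ∈ (N.toSubgroup : Set G), n • p ∈ Q}ᶜ := by
    ext p
    constructor
    · intro hp
      by_cases h : ∃ n ∈ (N.toSubgroup : Set G), n • p ∈ Q
      · obtain ⟨n, hn, hq⟩ := h
        exact Or.inl ⟨n, hn, (hcov _ hq).resolve_left fun ha => hp ⟨n, hn, ha⟩⟩
      · exact Or.inr h
    · rintro (⟨n, hn, hb⟩ | hp) ⟨n', hn', ha⟩
      · have hmem : n * n'⁻¹ ∈ M := ⟨N.toSubgroup.mul_mem hn (N.toSubgroup.inv_mem hn'),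
          hHof _ _ ha.1 (by rw [mul_smul, inv_smul_smul]; exact hb.1)⟩
        have := hstab _ hmem _ ha
        rw [mul_smul, inv_smul_smul] at this
        exact hAB _ this hb
      · exact hp ⟨n', hn', ha.1⟩
  have hU' : IsClopen U' := ⟨isClosed_setOf_exists_smul_mem hNc hA, isClosed_compl_iff.mp (hU'c ▸
    (isClosed_setOf_exists_smul_mem hNc hB).union (isClopen_translates hP N z).compl.isClosed)⟩
  have hz' : z ∈ U' := ⟨1, N.toSubgroup.one_mem, by rw [one_smul]; exact ⟨mem_quasiComponent_iff.mpr fun _ _ h => h, hzu⟩⟩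
  intro q hq
  obtain ⟨n, hn, ha⟩ := mem_quasiComponent_iff.mp hq U' hU' hz'
  refine ((hcov q hq).resolve_right fun hb => ?_).2
  have hmem : n⁻¹ ∈ M := ⟨N.toSubgroup.inv_mem hn, hHof _ _ ha.1 (by rw [inv_smul_smul]; exact hq)⟩
  have := hstab _ hmem _ ha
  rw [inv_smul_smul] at this
  exact hAB _ this hb

include hP in
/-- Every connected component meets every orbit. -/
theorem exists_smul_mem_connectedComponent (z p : P) : ∃ g : G, g • p ∈ connectedComponent z := by
  rw [connectedComponent_eq_quasiComponent hP]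
  exact exists_smul_mem hP z p

include hP in
/-- A union of translates of a connected component by an open normal subgroup is clopen. -/
theorem isClopen_translates_connectedComponent (N : OpenNormalSubgroup G) (z : P) :
    IsClopen {p : P | ∃ n ∈ (N.toSubgroup : Set G), n • p ∈ connectedComponent z} := by
  rw [connectedComponent_eq_quasiComponent hP]
  exact isClopen_translates hP N z

end

end Groth.Agent.H22Alg.ProfiniteComponents
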