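import Mathlib
import Groth.Prelude.Def_Curv2
import Groth.Agent.H06Geom.Components
import Groth.Agent.H22Alg.ProfiniteComponents
import Groth.Agent.H8Props.GeometricDescent
import Groth.Agent.H18Gal.KrullCompact

/-!
The action of the automorphisms of a normal extension on a base change: fibres are orbits, the
action is continuous for the Krull topology, connected components.
-/

set_option autoImplicit false
set_option linter.style.haveILetI false
universe u

open AlgebraicGeometry CategoryTheory CategoryTheory.Limits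
open scoped TensorProduct

namespace Groth.Agent.H22Alg.GaloisFibres

variable {k : Type u} [Field k] {X : Scheme.{u}} (f : X ⟶ Spec (CommRingCat.of k))
  (K : Type u) [Field K] [Algebra k K]

local notation "sK" => Spec.map (CommRingCat.ofHom (algebraMap k K))

/-- The automorphism of the base change induced by an automorphism of the extension. -/
noncomputable def act (σ : K ≃ₐ[k] K) : pullback f sK ⟶ pullback f sK :=
  pullback.map _ _ _ _ (𝟙 X) (Spec.map (CommRingCat.ofHom (σ : K →ₐ[k] K).toRingHom)) (𝟙 _)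
    (by simp) (by rw [Category.comp_id, ← Spec.map_comp, ← CommRingCat.ofHom_comp,
      AlgHom.toRingHom_eq_coe, AlgHom.comp_algebraMap])

@[reassoc (attr := simp)]
theorem act_fst (σ : K ≃ₐ[k] K) : act f K σ ≫ pullback.fst f sK = pullback.fst f sK := by
  erw [pullback.lift_fst]; exact Category.comp_id _

@[reassoc (attr := simp)]
theorem act_bcπ (σ : K ≃ₐ[k] K) : act f K σ ≫ (pullback.fst f sK) = (pullback.fst f sK) := act_fst f K σ

theorem act_snd (σ : K ≃ₐ[k] K) : act f K σ ≫ pullback.snd f sK =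
    pullback.snd f sK ≫ Spec.map (CommRingCat.ofHom (σ : K →ₐ[k] K).toRingHom) := pullback.lift_snd _ _ _

theorem act_one : act f K 1 = 𝟙 _ := by
  refine pullback.hom_ext ?_ ?_
  · exact (act_fst f K 1).trans (Category.id_comp _).symm
  · refine (act_snd f K 1).trans ((?_ : _ = pullback.snd f sK).trans (Category.id_comp _).symm)
    rw [show CommRingCat.ofHom ((1 : K ≃ₐ[k] K) : K →ₐ[k] K).toRingHom = 𝟙 (CommRingCat.of K) from rfl,
      Spec.map_id]
    exact Category.comp_id _

theorem act_mul (σ τ : K ≃ₐ[k] K) : act f K (σ * τ) = act f K σ ≫ act f K τ := by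
  refine pullback.hom_ext ?_ ?_
  · refine (act_fst f K (σ * τ)).trans ?_
    refine Eq.symm ((Category.assoc _ _ _).trans ?_)
    rw [act_fst]; exact act_fst f K σ
  · refine (act_snd f K (σ * τ)).trans ?_
    refine Eq.symm ((Category.assoc _ _ _).trans ?_)
    rw [act_snd, ← Category.assoc, act_snd, Category.assoc, ← Spec.map_comp]
    rfl

/-- The left action on the points. -/
noncomputable instance instMulAction : MulAction (K ≃ₐ[k] K) ↥(pullback f sK) where
  smul σ z := act f K σ⁻¹ z
  one_smul z := by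
    show act f K 1⁻¹ z = z
    rw [inv_one, act_one]; rfl
  mul_smul σ τ z := by
    show act f K (σ * τ)⁻¹ z = act f K σ⁻¹ (act f K τ⁻¹ z)
    rw [mul_inv_rev, act_mul]; rfl

theorem smul_eq (σ : K ≃ₐ[k] K) (z : ↥(pullback f sK)) : σ • z = act f K σ⁻¹ z := rfl

theorem bcπ_smul (σ : K ≃ₐ[k] K) (z : ↥(pullback f sK)) : (pullback.fst f sK) (σ • z) = (pullback.fst f sK) z := by
  rw [smul_eq, ← Scheme.Hom.comp_apply, act_bcπ]

omit f in
/-- Two points with the same image are hit by field points with equal composites. -/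
theorem exists_field_points {P M : Scheme.{u}} (m : P ⟶ M) {z z' : P} (h : m z = m z') :
    ∃ (E : Type u) (_ : Field E) (ζ ζ' : Spec (CommRingCat.of E) ⟶ P),
      (∀ e, ζ e = z) ∧ (∀ e, ζ' e = z') ∧ ζ ≫ m = ζ' ≫ m := by
  obtain ⟨E, _, a, b, hab⟩ := H8Props.GeometricDescent.exists_compositum (m.residueFieldMap z).hom
    (((M.residueFieldCongr h).hom ≫ m.residueFieldMap z').hom)
  refine ⟨E, inferInstance, Spec.map (CommRingCat.ofHom a) ≫ P.fromSpecResidueField z,
    Spec.map (CommRingCat.ofHom b) ≫ P.fromSpecResidueField z',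
    fun e => by rw [Scheme.Hom.comp_apply]; exact Scheme.fromSpecResidueField_apply _ _,
    fun e => by rw [Scheme.Hom.comp_apply]; exact Scheme.fromSpecResidueField_apply _ _, ?_⟩
  rw [Category.assoc, Category.assoc, ← Scheme.Hom.SpecMap_residueFieldMap_fromSpecResidueField,
    ← Scheme.Hom.SpecMap_residueFieldMap_fromSpecResidueField, ← Spec.map_comp_assoc,
    ← Scheme.residueFieldCongr_fromSpecResidueField h, ← Spec.map_comp_assoc, ← Spec.map_comp_assoc]
  congr 2
  exact CommRingCat.hom_ext hab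

variable [Normal k K]

/-- Field points of the base change with the same image in `X` differ by an automorphism. -/
theorem exists_act_of_field_points {E : Type u} [Field E] (ζ ζ' : Spec (CommRingCat.of E) ⟶ pullback f sK)
    (h : ζ ≫ (pullback.fst f sK) = ζ' ≫ (pullback.fst f sK)) :
    ∃ σ : K ≃ₐ[k] K, ζ' ≫ act f K σ = ζ ∧ ∀ y : K,
      (∀ a b : CommRingCat.of K ⟶ CommRingCat.of E, Spec.map a = ζ ≫ (pullback.snd f sK) →
        Spec.map b = ζ' ≫ (pullback.snd f sK) → a y = b y) → σ y = y := by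
  obtain ⟨a, ha⟩ := Spec.map_surjective (ζ ≫ (pullback.snd f sK))
  obtain ⟨b, hb⟩ := Spec.map_surjective (ζ' ≫ (pullback.snd f sK))
  have hc : CommRingCat.ofHom (algebraMap k K) ≫ a = CommRingCat.ofHom (algebraMap k K) ≫ b := by
    apply Spec.map_injective
    have e1 : ∀ t : Spec (CommRingCat.of E) ⟶ pullback f sK, (t ≫ (pullback.snd f sK)) ≫ sK = (t ≫ (pullback.fst f sK)) ≫ f :=
      fun t => by
        rw [Category.assoc, Category.assoc]
        congr 1
        exact pullback.condition.symm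
    rw [Spec.map_comp, Spec.map_comp, ha, hb, e1, e1, h]
  letI : Algebra k E := (a.hom.comp (algebraMap k K)).toAlgebra
  letI : Algebra K E := b.hom.toAlgebra
  haveI : IsScalarTower k K E := IsScalarTower.of_algebraMap_eq fun x => ConcreteCategory.congr_hom hc x
  let a' : K →ₐ[k] E := { a.hom with commutes' := fun _ => rfl }
  let ψ : K →ₐ[k] K := a'.restrictNormal K
  let σ : K ≃ₐ[k] K := AlgEquiv.ofBijective ψ (AlgHom.normal_bijective k K K _)
  have hσ : ∀ y, b.hom (σ y) = a.hom y := fun y => a'.restrictNormal_commutes K y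
  refine ⟨σ, ?_, fun y hy => b.hom.injective ((hσ y).trans (hy a b ha hb))⟩
  refine pullback.hom_ext ?_ ?_
  · refine ((Category.assoc _ _ _).trans ?_)
    rw [act_fst]; exact h.symm
  · refine ((Category.assoc _ _ _).trans ?_)
    rw [act_snd]
    refine (Category.assoc _ _ _).symm.trans ?_
    show (ζ' ≫ (pullback.snd f sK)) ≫ _ = ζ ≫ (pullback.snd f sK)
    rw [← hb, ← ha, ← Spec.map_comp]
    congr 1
    exact CommRingCat.hom_ext (RingHom.ext hσ)

/-- The fibres of the projection are orbits. -/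
theorem exists_smul_eq {z z' : ↥(pullback f sK)} (h : (pullback.fst f sK) z = (pullback.fst f sK) z') :
    ∃ σ : K ≃ₐ[k] K, σ • z' = z := by
  obtain ⟨E, _, ζ, ζ', hz, hz', hm⟩ := exists_field_points ((pullback.fst f sK)) h
  obtain ⟨σ, hσ, -⟩ := exists_act_of_field_points f K ζ ζ' hm
  refine ⟨σ⁻¹, ?_⟩
  rw [smul_eq, inv_inv, ← hz' (IsLocalRing.closedPoint E), ← hz (IsLocalRing.closedPoint E), ← hσ]
  rfl

/-- The fibres of the map to an intermediate base change are orbits of the fixing subgroup. -/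
theorem exists_smul_eq_of_bcMap (L : IntermediateField k K) {z z' : ↥(pullback f sK)}
    (h : H06Geom.bcMap f L.val z = H06Geom.bcMap f L.val z') :
    ∃ σ ∈ L.fixingSubgroup, σ • z' = z := by
  obtain ⟨E, _, ζ, ζ', hz, hz', hm⟩ := exists_field_points (P := pullback f sK) (H06Geom.bcMap f L.val) h
  have hm' : ζ ≫ (pullback.fst f sK) = ζ' ≫ (pullback.fst f sK) := by
    have := congrArg (· ≫ FBase.bcπ f L) hm
    replace this : ζ ≫ H06Geom.bcMap f L.val ≫ FBase.bcπ f L = ζ' ≫ H06Geom.bcMap f L.val ≫ FBase.bcπ f L :=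
      (Category.assoc _ _ _).symm.trans (this.trans (Category.assoc _ _ _))
    exact ((congrArg (fun t => ζ ≫ t) (H06Geom.bcMap_bcπ f L.val)).symm.trans this).trans
      (congrArg (fun t => ζ' ≫ t) (H06Geom.bcMap_bcπ f L.val))
  obtain ⟨σ, hσ, hfix⟩ := exists_act_of_field_points f K ζ ζ' hm'
  refine ⟨σ⁻¹, inv_mem ?_, ?_⟩
  · rw [IntermediateField.mem_fixingSubgroup_iff]
    intro y hy
    refine hfix y fun a b ha hb => ?_
    have h2 := congrArg (· ≫ FBase.bcStr f L) hm
    replace h2 : ζ ≫ H06Geom.bcMap f L.val ≫ FBase.bcStr f L = ζ' ≫ H06Geom.bcMap f L.val ≫ FBase.bcStr f L :=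
      (Category.assoc _ _ _).symm.trans (h2.trans (Category.assoc _ _ _))
    replace h2 := ((congrArg (fun t => ζ ≫ t) (H06Geom.isPullback_bcMap f L.val).w).symm.trans h2).trans
      (congrArg (fun t => ζ' ≫ t) (H06Geom.isPullback_bcMap f L.val).w)
    replace h2 : (ζ ≫ pullback.snd f sK) ≫ Spec.map (CommRingCat.ofHom L.val.toRingHom) =
        (ζ' ≫ pullback.snd f sK) ≫ Spec.map (CommRingCat.ofHom L.val.toRingHom) :=
      (Category.assoc _ _ _).trans (h2.trans (Category.assoc _ _ _).symm)
    rw [← ha, ← hb, ← Spec.map_comp, ← Spec.map_comp] at h2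
    exact ConcreteCategory.congr_hom (Spec.map_injective h2) (⟨y, hy⟩ : L)
  · rw [smul_eq, inv_inv, ← hz' (IsLocalRing.closedPoint E), ← hz (IsLocalRing.closedPoint E), ← hσ]
    rfl

omit [Normal k K] in
theorem surjective_bcπ : Function.Surjective ((pullback.fst f sK)) :=
  (pullback.fst f sK).surjective

omit [Normal k K] in
theorem isOpenMap_bcπ : IsOpenMap ((pullback.fst f sK)) := by
  haveI := H06Desc.universallyOpen_of_discreteTopology sK
  exact (pullback.fst f sK).isOpenMap

theorem isClosedMap_bcπ : IsClosedMap ((pullback.fst f sK)) := by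
  haveI : IsIntegralHom sK := by
    rw [IsIntegralHom.SpecMap_iff]
    exact algebraMap_isIntegral_iff.2 inferInstance
  exact (pullback.fst f sK).isClosedMap

/-- An invariant nonempty clopen subset of the base change of a connected scheme is everything. -/
theorem eq_univ_of_invariant [PreconnectedSpace X] (U : Set ↥(pullback f sK)) (hU : IsClopen U) (hne : U.Nonempty)
    (hinv : ∀ (σ : K ≃ₐ[k] K) (z : ↥(pullback f sK)), z ∈ U → σ • z ∈ U) : U = Set.univ := by
  have h := IsClopen.eq_univ ⟨isClosedMap_bcπ f K U hU.isClosed, isOpenMap_bcπ f K U hU.isOpen⟩ (hne.image _)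
  refine Set.eq_univ_of_forall fun z => ?_
  obtain ⟨w, hw, hwz⟩ := h.ge (Set.mem_univ ((pullback.fst f sK) z))
  obtain ⟨σ, hσ⟩ := exists_smul_eq f K hwz
  rw [← inv_smul_smul σ z]
  exact hinv σ⁻¹ _ (hσ.symm ▸ hw)

/-- Every point has arbitrarily small neighbourhoods fixed by an open subgroup. -/
theorem exists_invariant_nhd (W : Set ↥(pullback f sK)) (hW : IsOpen W) {z : ↥(pullback f sK)} (hz : z ∈ W) :
    ∃ (W' : Set ↥(pullback f sK)) (L : IntermediateField k K), IsOpen W' ∧ z ∈ W' ∧ W' ⊆ W ∧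
      FiniteDimensional k L ∧ ∀ σ ∈ L.fixingSubgroup, ∀ w ∈ W', σ • w ∈ W' := by
  classical
  obtain ⟨R, i, hi, hzi, -⟩ := Scheme.exists_affine_mem_range_and_range_subset
    (show (pullback.fst f sK) z ∈ (⊤ : X.Opens) from trivial)
  obtain ⟨φ, hφ⟩ := Spec.map_surjective (i ≫ f)
  letI := φ.hom.toAlgebra
  let j : Spec (CommRingCat.of (R ⊗[k] K)) ⟶ pullback f sK :=
    (pullbackSpecIso k R K).inv ≫ pullback.map (Spec.map φ) sK f sK i (𝟙 _) (𝟙 _) (by simp [hφ]) (by simp)
  have hjfst : j ≫ pullback.fst f sK =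
      Spec.map (CommRingCat.ofHom (Algebra.TensorProduct.includeLeftRingHom : R →+* R ⊗[k] K)) ≫ i := by
    rw [← pullbackSpecIso_inv_fst]
    simp only [j, Category.assoc, pullback.lift_fst]
    rfl
  have hjsnd : j ≫ pullback.snd f sK =
      Spec.map (CommRingCat.ofHom (Algebra.TensorProduct.includeRight : K →ₐ[k] R ⊗[k] K).toRingHom) := by
    simp only [j, Category.assoc, pullback.lift_snd, Category.comp_id]
    exact pullbackSpecIso_inv_snd k R K
  obtain ⟨q, hq⟩ : z ∈ Set.range j := by
    obtain ⟨t, ht⟩ : z ∈ Set.range (pullback.map (Spec.map φ) sK f sK i (𝟙 _) (𝟙 _) (by simp [hφ]) (by simp)) := by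
      rw [Scheme.Pullback.range_map]
      exact ⟨hzi, pullback.snd f sK z, rfl⟩
    exact ⟨(pullbackSpecIso k R K).hom t, by rw [← ht, ← Scheme.Hom.comp_apply, Iso.hom_inv_id_assoc]⟩
  obtain ⟨_, ⟨a, rfl⟩, hqa, haW⟩ := PrimeSpectrum.isTopologicalBasis_basic_opens.exists_subset_of_mem_open
    (show q ∈ j ⁻¹' W by show j q ∈ W; rw [hq]; exact hz) (hW.preimage j.continuous)
  obtain ⟨s, hs⟩ := TensorProduct.exists_finset a
  let L := IntermediateField.adjoin k (↑(s.image Prod.snd) : Set K)
  refine ⟨j '' {r | a ∉ (r : PrimeSpectrum (R ⊗[k] K)).asIdeal}, L,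
    j.isOpenEmbedding.isOpenMap _ (PrimeSpectrum.basicOpen a).2,
    ⟨q, hqa, hq⟩, Set.image_subset_iff.mpr haW,
    IntermediateField.finiteDimensional_adjoin fun c _ => Algebra.IsIntegral.isIntegral c, fun σ hσ w hw => ?_⟩
  obtain ⟨r, hr, rfl⟩ := hw
  let m : R ⊗[k] K →ₐ[k] R ⊗[k] K := Algebra.TensorProduct.map (AlgHom.id k R) ((σ⁻¹ : K ≃ₐ[k] K) : K →ₐ[k] K)
  have hma : m a = a := by
    rw [hs, map_sum]
    refine Finset.sum_congr rfl fun p hp => ?_
    have hfix : σ⁻¹ p.2 = p.2 := (IntermediateField.mem_fixingSubgroup_iff _ _).mp (inv_mem hσ) _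
      (IntermediateField.subset_adjoin k _ (Finset.mem_coe.mpr (Finset.mem_image_of_mem Prod.snd hp)))
    simp [m, hfix]
  have hcomm : Spec.map (CommRingCat.ofHom m.toRingHom) ≫ j = j ≫ act f K σ⁻¹ := by
    refine pullback.hom_ext ?_ ?_
    · refine (Category.assoc _ _ _).trans (Eq.trans ?_ (Category.assoc _ _ _).symm)
      rw [act_fst, hjfst, ← Spec.map_comp_assoc]
      congr 2
      ext x
      simp [m]
    · refine (Category.assoc _ _ _).trans (Eq.trans ?_ (Category.assoc _ _ _).symm)
      rw [act_snd, hjsnd, ← Category.assoc, hjsnd, ← Spec.map_comp, ← Spec.map_comp]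
      congr 1
  refine ⟨Spec.map (CommRingCat.ofHom m.toRingHom) r, ?_, ?_⟩
  · show m a ∉ (r : PrimeSpectrum (R ⊗[k] K)).asIdeal
    rw [hma]; exact hr
  · rw [smul_eq, ← Scheme.Hom.comp_apply, hcomm]; rfl

/-- The action is continuous for the Krull topology. -/
instance instContinuousSMul : ContinuousSMul (K ≃ₐ[k] K) ↥(pullback f sK) where
  continuous_smul := by
    refine continuous_def.mpr fun W hW => isOpen_iff_forall_mem_open.mpr ?_
    rintro ⟨σ, z⟩ hz
    obtain ⟨W', L, hW', hzW', hsub, hfd, hinv⟩ := exists_invariant_nhd f K W hW hz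
    refine ⟨((fun τ : K ≃ₐ[k] K => τ * σ⁻¹) ⁻¹' (L.fixingSubgroup : Set (K ≃ₐ[k] K))) ×ˢ ((σ • ·) ⁻¹' W'), ?_, ?_, ?_⟩
    · rintro ⟨τ, w⟩ ⟨hτ, hw⟩
      refine hsub ?_
      have := hinv _ hτ _ hw
      rwa [← mul_smul, inv_mul_cancel_right] at this
    · exact ((IntermediateField.fixingSubgroup_isOpen L).preimage (continuous_id.mul continuous_const)).prod
        (hW'.preimage (show Continuous (act f K σ⁻¹) from (act f K σ⁻¹).continuous))
    · refine ⟨?_, hzW'⟩
      show σ * σ⁻¹ ∈ L.fixingSubgroup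
      rw [mul_inv_cancel]; exact one_mem _

/-- Every connected component meets every orbit. -/
theorem exists_smul_mem_connectedComponent [PreconnectedSpace X] (z p : ↥(pullback f sK)) :
    ∃ σ : K ≃ₐ[k] K, σ • p ∈ connectedComponent z :=
  haveI := H18Gal.KrullCompact.compactSpace k K
  ProfiniteComponents.exists_smul_mem_connectedComponent (eq_univ_of_invariant f K) z p

/-- Translates of a connected component by an open normal subgroup form a clopen set. -/
theorem isClopen_translates [PreconnectedSpace X] (N : OpenNormalSubgroup (K ≃ₐ[k] K)) (z : ↥(pullback f sK)) :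
    IsClopen {p : ↥(pullback f sK) | ∃ n ∈ (N.toSubgroup : Set (K ≃ₐ[k] K)), n • p ∈ connectedComponent z} :=
  haveI := H18Gal.KrullCompact.compactSpace k K
  ProfiniteComponents.isClopen_translates_connectedComponent (eq_univ_of_invariant f K) N z

/-- The image of a connected component of the base change of a connected scheme is everything. -/
theorem image_connectedComponent [PreconnectedSpace X] (z : ↥(pullback f sK)) :
    pullback.fst f sK '' connectedComponent z = Set.univ := Set.eq_univ_of_forall fun x => by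
  obtain ⟨p, rfl⟩ := surjective_bcπ f K x
  obtain ⟨σ, hσ⟩ := exists_smul_mem_connectedComponent f K z p
  exact ⟨_, hσ, bcπ_smul f K σ p⟩

/-- If all intermediate finite base changes are connected, so is the base change. -/
theorem connectedSpace_of_forall_finite [ConnectedSpace X]
    (h : ∀ L : IntermediateField k K, FiniteDimensional k L → ConnectedSpace ↥(FBase.bc f L)) :
    ConnectedSpace ↥(pullback f sK) := by
  obtain ⟨x₀⟩ := (inferInstance : Nonempty X)
  obtain ⟨z, -⟩ := surjective_bcπ f K x₀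
  haveI : Nonempty ↥(pullback f sK) := ⟨z⟩
  suffices PreconnectedSpace ↥(pullback f sK) from ⟨inferInstance⟩
  refine ⟨?_⟩
  suffices connectedComponent z = Set.univ from this ▸ isPreconnected_connectedComponent
  refine Set.eq_univ_of_forall fun p => ?_
  by_contra hp
  haveI := H18Gal.KrullCompact.compactSpace k K
  have hW : IsOpen {σ : K ≃ₐ[k] K | σ • p ∈ connectedComponent z}ᶜ :=
    (isClosed_connectedComponent.preimage (continuous_id.smul continuous_const)).isOpen_compl
  obtain ⟨N, hN⟩ := ProfiniteGrp.exist_openNormalSubgroup_sub_open_nhds_of_one hW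
    (show (1 : K ≃ₐ[k] K) • p ∉ connectedComponent z by rwa [one_smul])
  obtain ⟨L, hfd, hL⟩ := (krullTopology_mem_nhds_one_iff k K _).mp (N.isOpen'.mem_nhds N.toSubgroup.one_mem)
  haveI := h L hfd
  have hU := isClopen_translates f K N z
  set U := {q : ↥(pullback f sK) | ∃ n ∈ (N.toSubgroup : Set (K ≃ₐ[k] K)), n • q ∈ connectedComponent z} with hUdef
  have hinv : ∀ σ ∈ L.fixingSubgroup, ∀ q ∈ U, σ • q ∈ U := fun σ hσ q ⟨n, hn, hq⟩ =>
    ⟨n * σ⁻¹, N.toSubgroup.mul_mem hn (N.toSubgroup.inv_mem (hL hσ)), by rwa [mul_smul, inv_smul_smul]⟩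
  let m : pullback f sK ⟶ FBase.bc f L := H06Geom.bcMap f L.val
  have hsurj : Function.Surjective m := H06Geom.surjective_bcMap f L.val
  have hcl : IsClosedMap m := by
    haveI : IsIntegralHom (Spec.map (CommRingCat.ofHom L.val.toRingHom)) := by
      rw [IsIntegralHom.SpecMap_iff]
      exact algebraMap_isIntegral_iff (R := L) (A := K).2 inferInstance
    haveI : IsIntegralHom m :=
      MorphismProperty.of_isPullback (P := @IsIntegralHom) (H06Geom.isPullback_bcMap f L.val).flip inferInstance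
    exact m.isClosedMap
  have hdisj : ∀ q ∈ U, ∀ q' ∉ U, m q ≠ m q' := fun q hq q' hq' he => by
    obtain ⟨σ, hσ, rfl⟩ := exists_smul_eq_of_bcMap f K L he.symm
    exact hq' (hinv σ hσ q hq)
  have hc : (m '' U)ᶜ = m '' Uᶜ := by
    ext w
    refine ⟨fun hw => ?_, ?_⟩
    · obtain ⟨q, rfl⟩ := hsurj w
      exact ⟨q, fun hq => hw ⟨q, hq, rfl⟩, rfl⟩
    · rintro ⟨q', hq', rfl⟩ ⟨q, hq, he⟩
      exact hdisj q hq q' hq' he
  have huniv : m '' U = Set.univ := IsClopen.eq_univ ⟨hcl U hU.isClosed,
    isClosed_compl_iff.mp (hc ▸ hcl _ hU.isOpen.isClosed_compl)⟩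
    ⟨m z, z, ⟨1, N.toSubgroup.one_mem, by rw [one_smul]; exact mem_connectedComponent⟩, rfl⟩
  obtain ⟨q, hq, he⟩ := huniv.ge (Set.mem_univ (m p))
  refine hdisj q hq p ?_ he
  rintro ⟨n, hn, hnp⟩
  exact hN hn hnp

end Groth.Agent.H22Alg.GaloisFibres
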