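import Mathlib
import Groth.Prelude.Def_Curv2
import Groth.Agent.H22Alg.GaloisFibres
import Groth.Agent.H06Red.Scheme
import Groth.Agent.H22Alg.VarGeom

/-! Geometric reducedness at a point and the local ring. -/

set_option autoImplicit false
set_option linter.style.haveILetI false
universe u

open AlgebraicGeometry CategoryTheory CategoryTheory.Limits
open scoped TensorProduct

namespace Groth.Agent.H22Alg.GeomReducedAt

section
variable {X T S : Scheme.{u}} (g : X ⟶ S) (σ : T ⟶ S) (x : X)

/-- The base change of `Spec 𝒪_{X,x} ⟶ X`. -/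
noncomputable def stalkBC : pullback (X.fromSpecStalk x ≫ g) σ ⟶ pullback g σ :=
  pullback.map _ σ g σ (X.fromSpecStalk x) (𝟙 _) (𝟙 _) (by simp) (by simp)

theorem isPullback_stalkBC :
    IsPullback (stalkBC g σ x) (pullback.fst (X.fromSpecStalk x ≫ g) σ) (pullback.fst g σ) (X.fromSpecStalk x) := by
  refine IsPullback.of_right ?_ (pullback.lift_fst _ _ _) (IsPullback.of_hasPullback _ σ).flip
  rw [show stalkBC g σ x ≫ pullback.snd g σ = pullback.snd (X.fromSpecStalk x ≫ g) σ from
    (pullback.lift_snd _ _ _).trans (Category.comp_id _)]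
  exact (IsPullback.of_hasPullback _ σ).flip

theorem fst_stalkBC (e : ↥(pullback (X.fromSpecStalk x ≫ g) σ)) :
    pullback.fst g σ (stalkBC g σ x e) = X.fromSpecStalk x (pullback.fst (X.fromSpecStalk x ≫ g) σ e) := by
  rw [← Scheme.Hom.comp_apply, (isPullback_stalkBC g σ x).w, Scheme.Hom.comp_apply]

theorem exists_stalkBC_eq (t : ↥(pullback g σ)) (ht : pullback.fst g σ t = x) :
    ∃ e, stalkBC g σ x e = t := by
  obtain ⟨q, hq, -⟩ := Scheme.Pullback.exists_preimage_pullback
    (f := pullback.fst g σ) (g := X.fromSpecStalk x) t (IsLocalRing.closedPoint _)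
    (ht.trans Scheme.fromSpecStalk_closedPoint.symm)
  refine ⟨(isPullback_stalkBC g σ x).isoPullback.inv q, ?_⟩
  rw [← Scheme.Hom.comp_apply, (isPullback_stalkBC g σ x).isoPullback_inv_fst, hq]

theorem isReduced_stalk_iff (e : ↥(pullback (X.fromSpecStalk x ≫ g) σ)) :
    _root_.IsReduced ((pullback (X.fromSpecStalk x ≫ g) σ).presheaf.stalk e) ↔
      _root_.IsReduced ((pullback g σ).presheaf.stalk (stalkBC g σ x e)) := by
  haveI : IsPreimmersion (stalkBC g σ x) :=
    MorphismProperty.of_isPullback (P := @IsPreimmersion) (isPullback_stalkBC g σ x).flip inferInstance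
  haveI : Flat (stalkBC g σ x) :=
    MorphismProperty.of_isPullback (P := @Flat) (isPullback_stalkBC g σ x).flip inferInstance
  let E := RingEquiv.ofBijective _ (H8Props.bijective_stalkMap_of_flat (stalkBC g σ x) e (Flat.stalkMap _ e))
  exact ⟨fun _ => isReduced_of_injective E.toRingHom E.injective,
    fun _ => isReduced_of_injective E.symm.toRingHom E.symm.injective⟩

/-- Points of a product over `x` have reduced local rings as soon as the local product is reduced. -/
theorem isReduced_stalk_of_local [IsReduced (pullback (X.fromSpecStalk x ≫ g) σ)] (t : ↥(pullback g σ))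
    (ht : pullback.fst g σ t = x) : _root_.IsReduced ((pullback g σ).presheaf.stalk t) := by
  obtain ⟨e, rfl⟩ := exists_stalkBC_eq g σ x t ht
  exact (isReduced_stalk_iff g σ x e).mp inferInstance

end

variable (k : Type u) [Field k] (X : Scheme.{u}) [X.Over (Spec (CommRingCat.of k))] (x : X)

theorem fromSpecStalk_over :
    X.fromSpecStalk x ≫ (X ↘ Spec (CommRingCat.of k)) = Spec.map (CommRingCat.ofHom (Curv2.stalkMap k X x)) := by
  have h1 : (X ↘ Spec (CommRingCat.of k)) =
      X.toSpecΓ ≫ Spec.map ((Scheme.ΓSpecIso (CommRingCat.of k)).inv ≫ (X ↘ Spec (CommRingCat.of k)).appTop) := by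
    rw [Spec.map_comp, ← Scheme.toSpecΓ_naturality_assoc, toSpecΓ_SpecMap_ΓSpecIso_inv, Category.comp_id]
  rw [h1]
  simp only [Scheme.fromSpecStalk_toSpecΓ_assoc, ← Spec.map_comp]
  rfl

theorem geometricallyReduced_fromSpecStalk
    (h : letI := Curv2.stalkAlgebra k X x; Algebra.IsGeometricallyReduced k (X.presheaf.stalk x)) :
    GeometricallyReduced (X.fromSpecStalk x ≫ (X ↘ Spec (CommRingCat.of k))) := by
  refine ⟨geometrically_iff_of_isClosedUnderIsomorphisms.2 fun K _ y => ?_⟩
  obtain ⟨ψ, rfl⟩ := Spec.map_surjective y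
  rw [fromSpecStalk_over k X x]
  have := H06Red.isReduced_Spec_pullback' ψ (CommRingCat.ofHom (Curv2.stalkMap k X x)) h inferInstance
  exact isReduced_of_isOpenImmersion (pullbackSymmetry _ _).hom

/-- Geometric reducedness at a point is geometric reducedness of the local ring. -/
theorem isGeomReducedAt_iff :
    Curv2.IsGeomReducedAt k X x ↔
      (letI := Curv2.stalkAlgebra k X x; Algebra.IsGeometricallyReduced k (X.presheaf.stalk x)) := by
  letI := Curv2.stalkAlgebra k X x
  constructor
  · intro h
    rw [Algebra.isGeometricallyReduced_field_iff]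
    refine H06Red.isReduced_comm k _ _ ?_
    let K := AlgebraicClosure k
    let s := Spec.map (CommRingCat.ofHom (algebraMap k K))
    let i : pullback (X.fromSpecStalk x ≫ (X ↘ Spec (CommRingCat.of k))) s ≅
        Spec (CommRingCat.of (X.presheaf.stalk x ⊗[k] K)) :=
      pullback.congrHom (fromSpecStalk_over k X x) rfl ≪≫ pullbackSpecIso k (X.presheaf.stalk x) K
    refine isReduced_ofLocalizationMaximal _ fun M hM => ?_
    let w : ↥(Spec (CommRingCat.of (X.presheaf.stalk x ⊗[k] K))) := ⟨M, hM.isPrime⟩
    have hw : IsClosed ({w} : Set ↥(Spec (CommRingCat.of (X.presheaf.stalk x ⊗[k] K)))) :=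
      (PrimeSpectrum.isClosed_singleton_iff_isMaximal w).mpr hM
    have he : IsClosed ({i.inv w} : Set ↥(pullback (X.fromSpecStalk x ≫ (X ↘ Spec (CommRingCat.of k))) s)) := by
      have := i.inv.homeomorph.isClosedMap _ hw
      rwa [Set.image_singleton] at this
    have h1 := GaloisFibres.isClosedMap_bcπ (X.fromSpecStalk x ≫ (X ↘ Spec (CommRingCat.of k))) K _ he
    rw [Set.image_singleton] at h1
    have h2 : pullback.fst (X.fromSpecStalk x ≫ (X ↘ Spec (CommRingCat.of k))) s (i.inv w) = IsLocalRing.closedPoint _ :=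
      ((IsLocalRing.specializes_closedPoint _).mem_closed h1 rfl).symm
    have h3 : _root_.IsReduced ((pullback (X.fromSpecStalk x ≫ (X ↘ Spec (CommRingCat.of k))) s).presheaf.stalk (i.inv w)) := by
      refine (isReduced_stalk_iff _ s x _).mpr (h K _ ?_)
      refine (fst_stalkBC _ s x _).trans ?_
      rw [h2, Scheme.fromSpecStalk_closedPoint]
    have h4 : _root_.IsReduced ((Spec (CommRingCat.of (X.presheaf.stalk x ⊗[k] K))).presheaf.stalk w) :=
      isReduced_of_injective (asIso (i.inv.stalkMap w)).inv.hom (asIso (i.inv.stalkMap w)).symm.commRingCatIsoToRingEquiv.injective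
    exact isReduced_of_injective (Spec.stalkIso (CommRingCat.of (X.presheaf.stalk x ⊗[k] K)) w).inv.hom
      (Spec.stalkIso (CommRingCat.of (X.presheaf.stalk x ⊗[k] K)) w).symm.commRingCatIsoToRingEquiv.injective
  · intro h K _ _ x' hx'
    haveI := geometricallyReduced_fromSpecStalk k X x h
    haveI : IsReduced (pullback (X.fromSpecStalk x ≫ (X ↘ Spec (CommRingCat.of k)))
        (Spec.map (CommRingCat.ofHom (algebraMap k K)))) :=
      GeometricallyReduced.geometrically_isReduced _ _ _ (.of_hasPullback _ _)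
    exact isReduced_stalk_of_local _ _ x x' hx'

omit X x in
/-- An algebra separated by maps to geometrically reduced algebras is geometrically reduced. -/
theorem isGeometricallyReduced_of_separating {R : Type u} [CommRing R] [Algebra k R] {ι : Type u}
    (A : ι → Type u) [∀ i, CommRing (A i)] [∀ i, Algebra k (A i)] [∀ i, Algebra.IsGeometricallyReduced k (A i)]
    (ψ : ∀ i, R →ₐ[k] A i) (hψ : ∀ r : R, (∀ i, ψ i r = 0) → r = 0) : Algebra.IsGeometricallyReduced k R := by
  rw [Algebra.isGeometricallyReduced_field_iff]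
  let K := AlgebraicClosure k
  refine H06Red.isReduced_comm k _ _ ⟨fun z ⟨n, hn⟩ => ?_⟩
  let b := Module.Basis.ofVectorSpace k K
  have hz : ∀ i, Algebra.TensorProduct.map (ψ i) (AlgHom.id k K) z = 0 := fun i => by
    haveI : _root_.IsReduced (A i ⊗[k] K) :=
      H06Red.isReduced_comm k _ _ ((Algebra.isGeometricallyReduced_field_iff k (A i)).mp inferInstance)
    exact IsReduced.eq_zero _ ⟨n, by rw [← map_pow, hn, map_zero]⟩
  classical
  apply (TensorProduct.equivFinsuppOfBasisRight b).injective
  rw [map_zero]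
  ext j
  refine hψ _ fun i => ?_
  have key : ∀ w : R ⊗[k] K, ψ i (TensorProduct.equivFinsuppOfBasisRight b w j) =
      TensorProduct.equivFinsuppOfBasisRight b (Algebra.TensorProduct.map (ψ i) (AlgHom.id k K) w) j := by
    intro w
    induction w using TensorProduct.induction_on with
    | zero => simp
    | tmul r c => simp
    | add w w' hw hw' => simp only [map_add, Finsupp.add_apply, hw, hw']
  rw [key, hz, map_zero, Finsupp.zero_apply]

omit x in
/-- A reduced scheme, geometrically reduced at its generic points, is geometrically reduced. -/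
theorem geometricallyReduced_of_genericPoints [IsReduced X]
    (h : ∀ η ∈ genericPoints X, Curv2.IsGeomReducedAt k X η) :
    GeometricallyReduced (X ↘ Spec (CommRingCat.of k)) := by
  refine VarGeom.geometricallyReduced_of_forall _ fun R i _ φ hφ => ?_
  letI := φ.hom.toAlgebra
  haveI : IsReduced (Spec R) := isReduced_of_isOpenImmersion i
  haveI : _root_.IsReduced R := (affine_isReduced_iff R).mp inferInstance
  have hgen : ∀ p ∈ genericPoints ↥(Spec R), i p ∈ genericPoints X := fun p hp => by
    rw [H8Props.mem_genericPoints_iff] at hp ⊢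
    intro w hw
    obtain ⟨q, rfl⟩ : w ∈ i.opensRange := hw.mem_open i.opensRange.isOpen ⟨p, rfl⟩
    rw [hp q (i.isOpenEmbedding.isInducing.specializes_iff.mp hw)]
  have hl : ∀ p : ↥(Spec R), Set.range (X.fromSpecStalk (i p)) ⊆ Set.range i := fun p => by
    rw [Scheme.range_fromSpecStalk]
    exact fun w hw => hw.mem_open i.opensRange.isOpen ⟨p, rfl⟩
  let l := fun p : ↥(Spec R) => IsOpenImmersion.lift i (X.fromSpecStalk (i p)) (hl p)
  have hlc : ∀ p, CommRingCat.ofHom (algebraMap k R) ≫ Spec.preimage (l p) = CommRingCat.ofHom (Curv2.stalkMap k X (i p)) := fun p => by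
    apply Spec.map_injective
    rw [Spec.map_comp, Spec.map_preimage]
    show l p ≫ Spec.map φ = _
    rw [hφ, IsOpenImmersion.lift_fac_assoc, fromSpecStalk_over]
  letI : ∀ p : ↥(genericPoints ↥(Spec R)), Algebra k (X.presheaf.stalk (i p.1)) := fun p => Curv2.stalkAlgebra k X (i p.1)
  haveI : ∀ p : ↥(genericPoints ↥(Spec R)), Algebra.IsGeometricallyReduced k (X.presheaf.stalk (i p.1)) :=
    fun p => (isGeomReducedAt_iff k X (i p.1)).mp (h _ (hgen _ p.2))
  refine isGeometricallyReduced_of_separating k (fun p : ↥(genericPoints ↥(Spec R)) => (X.presheaf.stalk (i p.1) : Type u))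
    (fun p => { (Spec.preimage (l p.1)).hom with commutes' := fun c => ConcreteCategory.congr_hom (hlc p.1) c }) fun r hr => ?_
  refine IsReduced.eq_zero r (nilpotent_iff_mem_prime.mpr fun J hJ => ?_)
  obtain ⟨p, hp, hpJ⟩ := H8Props.exists_genericPoints_specializes (X := Spec R) (⟨J, hJ⟩ : PrimeSpectrum R)
  refine (PrimeSpectrum.le_iff_specializes p _).mpr hpJ ?_
  have hpt : l p (IsLocalRing.closedPoint _) = p := by
    apply i.isOpenEmbedding.injective
    rw [← Scheme.Hom.comp_apply, IsOpenImmersion.lift_fac, Scheme.fromSpecStalk_closedPoint]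
  rw [← hpt, ← Spec.map_preimage (l p)]
  show (Spec.preimage (l p)).hom r ∈ IsLocalRing.maximalIdeal _
  rw [show (Spec.preimage (l p)).hom r = 0 from hr ⟨p, hp⟩]
  exact Submodule.zero_mem _

end Groth.Agent.H22Alg.GeomReducedAt

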