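import Mathlib
import Groth.Prelude.Def_Curv2
import Groth.Agent.H22Alg.GeomReducedAt
import Groth.Agent.H05EGA4.GeomFibre
import Groth.Agent.H05EGA4.Regular
import Groth.Agent.H02CA.EssFTSmooth
import Groth.Agent.H19Grp.RegularSmooth
import Groth.Agent.H17.LocusBC

/-! Geometric regularity at a point and the smooth locus. -/

set_option autoImplicit false
set_option linter.style.haveILetI false
universe u

open AlgebraicGeometry CategoryTheory CategoryTheory.Limits
open scoped TensorProduct
open Groth.Agent.H22Alg.GeomReducedAt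

namespace Groth.Agent.H22Alg.GeomRegularAt

/-- Regularity can be tested at the maximal ideals. -/
theorem isRegularRing_of_maximal {R : Type u} [CommRing R] [IsNoetherianRing R]
    (h : ∀ (m : Ideal R) [m.IsMaximal], IsRegularLocalRing (Localization.AtPrime m)) : IsRegularRing R := by
  rw [isRegularRing_iff]
  intro p hp
  obtain ⟨m, hm, hle⟩ := p.exists_le_maximal hp.ne_top
  haveI := h m
  let Q : PrimeSpectrum (Localization.AtPrime m) :=
    (IsLocalization.AtPrime.primeSpectrumOrderIso (Localization.AtPrime m) m).symm ⟨⟨p, hp⟩, hle⟩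
  have hQ : Q.asIdeal.comap (algebraMap R (Localization.AtPrime m)) = p :=
    congrArg (fun z => z.1.asIdeal) ((IsLocalization.AtPrime.primeSpectrumOrderIso (Localization.AtPrime m) m).apply_symm_apply ⟨⟨p, hp⟩, hle⟩)
  have hc : ∀ I J : Ideal R, ∀ (_ : I.IsPrime) (_ : J.IsPrime), I = J →
      IsRegularLocalRing (Localization.AtPrime I) → IsRegularLocalRing (Localization.AtPrime J) := by
    rintro I J _ _ rfl h
    exact h
  refine hc (Q.asIdeal.comap (algebraMap R (Localization.AtPrime m))) p inferInstance hp hQ ?_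
  haveI := Groth.Agent.H05EGA4.isRegularLocalRing_localization (Localization.AtPrime m) Q.asIdeal
  haveI : IsLocalization.AtPrime (Localization.AtPrime Q.asIdeal) (Q.asIdeal.comap (algebraMap R (Localization.AtPrime m))) :=
    IsLocalization.isLocalization_isLocalization_atPrime_isLocalization m.primeCompl _ Q.asIdeal
  exact IsRegularLocalRing.of_ringEquiv (IsLocalization.algEquiv (Q.asIdeal.comap (algebraMap R (Localization.AtPrime m))).primeCompl
    (Localization.AtPrime Q.asIdeal) (Localization.AtPrime (Q.asIdeal.comap (algebraMap R (Localization.AtPrime m))))).toRingEquiv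

variable (k : Type u) [Field k] (X : Scheme.{u}) [X.Over (Spec (CommRingCat.of k))] (x : X)

theorem regular_stalk_iff {T S X : Scheme.{u}} (g : X ⟶ S) (σ : T ⟶ S) (x : X) (e : ↥(pullback (X.fromSpecStalk x ≫ g) σ)) :
    IsRegularLocalRing ((pullback (X.fromSpecStalk x ≫ g) σ).presheaf.stalk e) ↔
      IsRegularLocalRing ((pullback g σ).presheaf.stalk (stalkBC g σ x e)) := by
  haveI : IsPreimmersion (stalkBC g σ x) :=
    MorphismProperty.of_isPullback (P := @IsPreimmersion) (isPullback_stalkBC g σ x).flip inferInstance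
  haveI : Flat (stalkBC g σ x) :=
    MorphismProperty.of_isPullback (P := @Flat) (isPullback_stalkBC g σ x).flip inferInstance
  let E := RingEquiv.ofBijective _ (H8Props.bijective_stalkMap_of_flat (stalkBC g σ x) e (Flat.stalkMap _ e))
  exact ⟨fun _ => IsRegularLocalRing.of_ringEquiv E.symm, fun _ => IsRegularLocalRing.of_ringEquiv E⟩

/-- Geometric regularity at a point gives geometric regularity of the local ring. -/
theorem isGeometricallyRegular_stalk [IsLocallyNoetherian X] (h : Curv2.IsGeomRegularAt k X x) :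
    letI := Curv2.stalkAlgebra k X x
    CAlg.IsGeometricallyRegular k (X.presheaf.stalk x) := by
  letI := Curv2.stalkAlgebra k X x
  intro K _ _ hfin
  have hfg : (⊤ : IntermediateField k K).FG := by
    haveI := hfin
    exact IntermediateField.fg_of_noetherian _
  haveI : IsNoetherianRing (K ⊗[k] X.presheaf.stalk x) := by
    haveI := hfin
    haveI : Module.Finite (X.presheaf.stalk x) (X.presheaf.stalk x ⊗[k] K) := inferInstance
    haveI : IsNoetherianRing (X.presheaf.stalk x ⊗[k] K) := IsNoetherianRing.of_finite (X.presheaf.stalk x) _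
    exact isNoetherianRing_of_ringEquiv _ (Algebra.TensorProduct.comm k (X.presheaf.stalk x) K).toRingEquiv
  suffices IsRegularRing (X.presheaf.stalk x ⊗[k] K) from
    IsRegularRing.of_ringEquiv (Algebra.TensorProduct.comm k (X.presheaf.stalk x) K).toRingEquiv
  haveI : IsNoetherianRing (X.presheaf.stalk x ⊗[k] K) :=
    isNoetherianRing_of_ringEquiv _ (Algebra.TensorProduct.comm k K (X.presheaf.stalk x)).toRingEquiv
  refine isRegularRing_of_maximal fun M hM => ?_
  haveI := hfin
  let s := Spec.map (CommRingCat.ofHom (algebraMap k K))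
  let i : pullback (X.fromSpecStalk x ≫ (X ↘ Spec (CommRingCat.of k))) s ≅
      Spec (CommRingCat.of (X.presheaf.stalk x ⊗[k] K)) :=
    pullback.congrHom (fromSpecStalk_over k X x) rfl ≪≫ pullbackSpecIso k (X.presheaf.stalk x) K
  let w : ↥(Spec (CommRingCat.of (X.presheaf.stalk x ⊗[k] K))) := ⟨M, hM.isPrime⟩
  have hw : IsClosed ({w} : Set ↥(Spec (CommRingCat.of (X.presheaf.stalk x ⊗[k] K)))) :=
    (PrimeSpectrum.isClosed_singleton_iff_isMaximal w).mpr hM
  have he : IsClosed ({i.inv w} : Set ↥(pullback (X.fromSpecStalk x ≫ (X ↘ Spec (CommRingCat.of k))) s)) := by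
    have := i.inv.homeomorph.isClosedMap _ hw
    rwa [Set.image_singleton] at this
  haveI : IsFinite s := by
    rw [IsFinite.SpecMap_iff]
    exact RingHom.finite_algebraMap.mpr hfin
  have h1 := (pullback.fst (X.fromSpecStalk x ≫ (X ↘ Spec (CommRingCat.of k))) s).isClosedMap _ he
  rw [Set.image_singleton] at h1
  have h2 : pullback.fst (X.fromSpecStalk x ≫ (X ↘ Spec (CommRingCat.of k))) s (i.inv w) = IsLocalRing.closedPoint _ :=
    ((IsLocalRing.specializes_closedPoint _).mem_closed h1 rfl).symm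
  haveI h3 : IsRegularLocalRing ((pullback (X.fromSpecStalk x ≫ (X ↘ Spec (CommRingCat.of k))) s).presheaf.stalk (i.inv w)) := by
    refine (regular_stalk_iff _ s x _).mpr (h K hfg _ ?_)
    refine (fst_stalkBC _ s x _).trans ?_
    rw [h2, Scheme.fromSpecStalk_closedPoint]
  haveI h4 : IsRegularLocalRing ((Spec (CommRingCat.of (X.presheaf.stalk x ⊗[k] K))).presheaf.stalk w) :=
    IsRegularLocalRing.of_ringEquiv (asIso (i.inv.stalkMap w)).symm.commRingCatIsoToRingEquiv.symm
  exact IsRegularLocalRing.of_ringEquiv (Spec.stalkIso (CommRingCat.of (X.presheaf.stalk x ⊗[k] K)) w).commRingCatIsoToRingEquiv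

theorem essFiniteType_stalk [LocallyOfFiniteType (X ↘ Spec (CommRingCat.of k))] :
    letI := Curv2.stalkAlgebra k X x
    Algebra.EssFiniteType k (X.presheaf.stalk x) := by
  letI := Curv2.stalkAlgebra k X x
  obtain ⟨W, hW, hxW, -⟩ := exists_isAffineOpen_mem_and_subset (x := x) (U := (⊤ : X.Opens)) trivial
  letI : Algebra k Γ(X, W) :=
    ((X.presheaf.map (homOfLE le_top : W ⟶ ⊤).op).hom.comp (Coh.toGlobal (X ↘ Spec (CommRingCat.of k)))).toAlgebra
  letI := X.presheaf.algebra_section_stalk ⟨x, hxW⟩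
  haveI : IsScalarTower k Γ(X, W) (X.presheaf.stalk x) := IsScalarTower.of_algebraMap_eq fun c =>
    (TopCat.Presheaf.germ_res_apply X.presheaf (homOfLE le_top) x hxW _).symm
  haveI : Algebra.FiniteType k Γ(X, W) := by
    have := (X ↘ Spec (CommRingCat.of k)).finiteType_appLE (isAffineOpen_top _) hW le_top
    show ((((X ↘ Spec (CommRingCat.of k)).appLE ⊤ W le_top).hom.comp (Scheme.ΓSpecIso (CommRingCat.of k)).inv.hom)).FiniteType
    exact RingHom.FiniteType.comp this (RingHom.FiniteType.of_surjective _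
      (Scheme.ΓSpecIso (CommRingCat.of k)).symm.commRingCatIsoToRingEquiv.surjective)
  haveI := hW.isLocalization_stalk ⟨x, hxW⟩
  haveI : Algebra.EssFiniteType Γ(X, W) (X.presheaf.stalk x) :=
    Algebra.EssFiniteType.of_isLocalization _ (hW.primeIdealOf ⟨x, hxW⟩).asIdeal.primeCompl
  exact Algebra.EssFiniteType.comp k Γ(X, W) _

theorem mem_smoothLocus_of_isGeomRegularAt [LocallyOfFinitePresentation (X ↘ Spec (CommRingCat.of k))]
    (h : Curv2.IsGeomRegularAt k X x) : x ∈ (X ↘ Spec (CommRingCat.of k)).smoothLocus := by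
  haveI : IsLocallyNoetherian X := LocallyOfFiniteType.isLocallyNoetherian (X ↘ Spec (CommRingCat.of k))
  letI := Curv2.stalkAlgebra k X x
  haveI := essFiniteType_stalk k X x
  have hfs : Algebra.FormallySmooth k (X.presheaf.stalk x) :=
    Groth.Agent.H02CA.EssFTSmooth.formallySmooth_of_isAdicFormallySmooth
      (H05EGA4.isAdicFormallySmooth_iff_isGeometricallyRegular.mpr (isGeometricallyRegular_stalk k X x h))
  let f := X ↘ Spec (CommRingCat.of k)
  let pt : ↥(Spec (CommRingCat.of k)) := f x
  let ψ : k →+* (Spec (CommRingCat.of k)).presheaf.stalk pt :=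
    ((Spec (CommRingCat.of k)).presheaf.germ ⊤ pt trivial).hom.comp (Scheme.ΓSpecIso (CommRingCat.of k)).inv.hom
  have hψ : Function.Bijective ψ := by
    letI := (Spec (CommRingCat.of k)).presheaf.algebra_section_stalk (U := ⊤) ⟨pt, trivial⟩
    haveI := (isAffineOpen_top (Spec (CommRingCat.of k))).isLocalization_stalk ⟨pt, trivial⟩
    have hfield : IsField Γ(Spec (CommRingCat.of k), ⊤) :=
      (Scheme.ΓSpecIso (CommRingCat.of k)).commRingCatIsoToRingEquiv.toMulEquiv.isField (Field.toIsField k)
    have h1 := (IsLocalization.atUnits Γ(Spec (CommRingCat.of k), ⊤)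
      ((isAffineOpen_top (Spec (CommRingCat.of k))).primeIdealOf ⟨pt, trivial⟩).asIdeal.primeCompl
      (S := (Spec (CommRingCat.of k)).presheaf.stalk pt) (fun a ha => by
        letI := hfield.toField
        refine isUnit_iff_ne_zero.mpr fun h0 => ha ?_
        rw [h0]
        exact Ideal.zero_mem _)).bijective
    have h2 : ∀ a : Γ(Spec (CommRingCat.of k), ⊤), (IsLocalization.atUnits Γ(Spec (CommRingCat.of k), ⊤)
      ((isAffineOpen_top (Spec (CommRingCat.of k))).primeIdealOf ⟨pt, trivial⟩).asIdeal.primeCompl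
      (S := (Spec (CommRingCat.of k)).presheaf.stalk pt) (fun a ha => by
        letI := hfield.toField
        refine isUnit_iff_ne_zero.mpr fun h0 => ha ?_
        rw [h0]
        exact Ideal.zero_mem _)) a = (Spec (CommRingCat.of k)).presheaf.germ ⊤ pt trivial a := fun a => AlgEquiv.commutes _ a
    rw [show ψ = ((Spec (CommRingCat.of k)).presheaf.germ ⊤ pt trivial).hom.comp (Scheme.ΓSpecIso (CommRingCat.of k)).inv.hom from rfl, RingHom.coe_comp]
    exact Function.Bijective.comp (funext h2 ▸ h1) (Scheme.ΓSpecIso (CommRingCat.of k)).symm.commRingCatIsoToRingEquiv.bijective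
  have hcomp : (f.stalkMap x).hom.comp ψ = Curv2.stalkMap k X x := RingHom.ext fun c =>
    Scheme.Hom.germ_stalkMap_apply f ⊤ x trivial _
  show (f.stalkMap x).hom.FormallySmooth
  have h' : ((f.stalkMap x).hom.comp ψ).FormallySmooth := by
    rw [hcomp]
    exact hfs
  have e : (f.stalkMap x).hom = ((f.stalkMap x).hom.comp ψ).comp (RingEquiv.ofBijective ψ hψ).symm.toRingHom := by
    ext z
    exact congrArg _ ((RingEquiv.ofBijective ψ hψ).apply_symm_apply z).symm
  rw [e]
  exact RingHom.FormallySmooth.respectsIso.2 _ _ h'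

theorem isGeomRegularAt_of_mem_smoothLocus [LocallyOfFinitePresentation (X ↘ Spec (CommRingCat.of k))]
    (hx : x ∈ (X ↘ Spec (CommRingCat.of k)).smoothLocus) : Curv2.IsGeomRegularAt k X x := by
  obtain ⟨U, hxU, hU⟩ := (H17.LocusBC.mem_smoothLocus_iff_exists _ x).mp hx
  intro K _ _ _ x' hx'
  let p := Curv2.bcFst k X K
  let V := p ⁻¹ᵁ U
  have hsq : IsPullback (p ∣_ U) (V.ι ≫ Curv2.bcSnd k X K) (U.ι ≫ (X ↘ Spec (CommRingCat.of k)))
      (Spec.map (CommRingCat.ofHom (algebraMap k K))) :=
    (isPullback_morphismRestrict p U).paste_vert (IsPullback.of_hasPullback _ _)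
  haveI : Smooth (V.ι ≫ Curv2.bcSnd k X K) := MorphismProperty.of_isPullback (P := @Smooth) hsq hU
  have hx'V : x' ∈ V := by show p x' ∈ U; rwa [show p x' = x from hx']
  haveI : IsRegularLocalRing (V.toScheme.presheaf.stalk ⟨x', hx'V⟩) :=
    H19Grp.isRegularLocalRing_stalk_of_smooth (V.ι ≫ Curv2.bcSnd k X K) ⟨x', hx'V⟩
  exact IsRegularLocalRing.of_ringEquiv (V.stalkIso ⟨x', hx'V⟩).commRingCatIsoToRingEquiv

end Groth.Agent.H22Alg.GeomRegularAt

namespace Groth.Agent.H22Alg.GeomRegularAt

variable (k : Type u) [Field k] (X : Scheme.{u}) [X.Over (Spec (CommRingCat.of k))] (x : X)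

theorem mem_smoothLocus_iff_isAdicFormallySmooth [LocallyOfFinitePresentation (X ↘ Spec (CommRingCat.of k))] :
    x ∈ (X ↘ Spec (CommRingCat.of k)).smoothLocus ↔
      (letI := Curv2.stalkAlgebra k X x
       Algebra.FormallySmooth k (X.presheaf.stalk x)) := by
  letI := Curv2.stalkAlgebra k X x
  let f := X ↘ Spec (CommRingCat.of k)
  let pt : ↥(Spec (CommRingCat.of k)) := f x
  let ψ : k →+* (Spec (CommRingCat.of k)).presheaf.stalk pt :=
    ((Spec (CommRingCat.of k)).presheaf.germ ⊤ pt trivial).hom.comp (Scheme.ΓSpecIso (CommRingCat.of k)).inv.hom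
  have hfield : IsField Γ(Spec (CommRingCat.of k), ⊤) :=
    (Scheme.ΓSpecIso (CommRingCat.of k)).commRingCatIsoToRingEquiv.toMulEquiv.isField (Field.toIsField k)
  have hψ : Function.Bijective ψ := by
    letI := (Spec (CommRingCat.of k)).presheaf.algebra_section_stalk (U := ⊤) ⟨pt, trivial⟩
    haveI := (isAffineOpen_top (Spec (CommRingCat.of k))).isLocalization_stalk ⟨pt, trivial⟩
    have hu : ∀ a ∈ ((isAffineOpen_top (Spec (CommRingCat.of k))).primeIdealOf ⟨pt, trivial⟩).asIdeal.primeCompl,
        IsUnit a := fun a ha => by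
      letI := hfield.toField
      refine isUnit_iff_ne_zero.mpr fun h0 => ha ?_
      rw [h0]
      exact Ideal.zero_mem _
    let e := IsLocalization.atUnits Γ(Spec (CommRingCat.of k), ⊤) _
      (S := (Spec (CommRingCat.of k)).presheaf.stalk pt) hu
    have h2 : ⇑e = ⇑((Spec (CommRingCat.of k)).presheaf.germ ⊤ pt trivial).hom := funext fun a => AlgEquiv.commutes _ a
    rw [show ψ = ((Spec (CommRingCat.of k)).presheaf.germ ⊤ pt trivial).hom.comp (Scheme.ΓSpecIso (CommRingCat.of k)).inv.hom from rfl, RingHom.coe_comp]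
    exact Function.Bijective.comp (h2 ▸ e.bijective) (Scheme.ΓSpecIso (CommRingCat.of k)).symm.commRingCatIsoToRingEquiv.bijective
  have hcomp : (f.stalkMap x).hom.comp ψ = Curv2.stalkMap k X x := RingHom.ext fun c =>
    Scheme.Hom.germ_stalkMap_apply f ⊤ x trivial _
  show (f.stalkMap x).hom.FormallySmooth ↔ (Curv2.stalkMap k X x).FormallySmooth
  rw [← hcomp]
  refine ⟨fun h => RingHom.FormallySmooth.respectsIso.2 _ (RingEquiv.ofBijective ψ hψ) h, fun h => ?_⟩
  have h' := RingHom.FormallySmooth.respectsIso.2 _ (RingEquiv.ofBijective ψ hψ).symm h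
  convert h' using 1
  ext z
  exact congrArg _ ((RingEquiv.ofBijective ψ hψ).apply_symm_apply z).symm

theorem mem_smoothLocus_of_isAdicFormallySmooth [LocallyOfFinitePresentation (X ↘ Spec (CommRingCat.of k))]
    (h : letI := Curv2.stalkAlgebra k X x
      CAlgX.IsAdicFormallySmooth k (X.presheaf.stalk x) (IsLocalRing.maximalIdeal (X.presheaf.stalk x))) :
    x ∈ (X ↘ Spec (CommRingCat.of k)).smoothLocus := by
  haveI : IsLocallyNoetherian X := LocallyOfFiniteType.isLocallyNoetherian (X ↘ Spec (CommRingCat.of k))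
  letI := Curv2.stalkAlgebra k X x
  haveI := essFiniteType_stalk k X x
  exact (mem_smoothLocus_iff_isAdicFormallySmooth k X x).mpr
    (Groth.Agent.H02CA.EssFTSmooth.formallySmooth_of_isAdicFormallySmooth h)

theorem regular_of_mem_smoothLocus [LocallyOfFinitePresentation (X ↘ Spec (CommRingCat.of k))]
    (hx : x ∈ (X ↘ Spec (CommRingCat.of k)).smoothLocus) : IsRegularLocalRing (X.presheaf.stalk x) := by
  obtain ⟨U, hxU, hU⟩ := (H17.LocusBC.mem_smoothLocus_iff_exists _ x).mp hx
  haveI := hU
  haveI : IsRegularLocalRing (U.toScheme.presheaf.stalk ⟨x, hxU⟩) :=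
    H19Grp.isRegularLocalRing_stalk_of_smooth (U.ι ≫ (X ↘ Spec (CommRingCat.of k))) ⟨x, hxU⟩
  exact IsRegularLocalRing.of_ringEquiv (U.stalkIso ⟨x, hxU⟩).commRingCatIsoToRingEquiv

end Groth.Agent.H22Alg.GeomRegularAt
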