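import Mathlib
import Groth.Agent.H22Alg.CMStep
import Groth.Agent.H22Alg.NakaiGen
import Groth.Agent.H29RR.GenPoint

/-!
# Regularity from a hyperplane section
-/

set_option autoImplicit false
set_option linter.style.haveILetI false
universe u

open CategoryTheory CategoryTheory.Limits AlgebraicGeometry Opposite TopologicalSpace
open Groth.Agent Groth.Agent.H11Tilde Groth.Agent.H11Ample
attribute [local instance 10000] Groth.Agent.H10Coh.hasSheafifyAb Groth.Agent.H10Coh.hasWeakSheafifyAb Groth.Agent.H10Coh.hasExtAb Groth.Agent.H10Coh.enoughInjAb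

noncomputable section

namespace Groth.Agent.H22Alg.CMHyper

open CMField

/-- Naturality of the reassociation of twists. -/
theorem assoc_natural {X : Scheme.{u}} {M N A B : X.Modules} (hA : PicF.IsInvertible A) (hB : PicF.IsInvertible B)
    (φ : M ⟶ N) (U : X.Opens) (t : Γ(CohB1.tensorMod (CohB1.tensorMod M A) B, U)) :
    (H10Coh.Tw.assoc N A B).hom.app U ((LimSh.tensorModMap (LimSh.tensorModMap φ A) B).app U t) =
      (LimSh.tensorModMap φ (CohB1.tensorMod A B)).app U ((H10Coh.Tw.assoc M A B).hom.app U t) := by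
  refine eq_of_locally _ _ fun x hx => ?_
  obtain ⟨V, hV, e, a, hxV, -, ha⟩ := H10Coh.Tw.exists_eq_tm hB t hx
  obtain ⟨V', hV', e', m, hxV', -, hm⟩ := H10Coh.Tw.exists_eq_tm hA a hxV
  refine ⟨V', hV'.trans hV, hxV', ?_⟩
  have ht : (CohB1.tensorMod (CohB1.tensorMod M A) B).presheaf.map (homOfLE (hV'.trans hV)).op t =
      tm (tm m e') (B.presheaf.map (homOfLE hV').op e) := by
    rw [← hm, ← tm_res hV', ← ha, H10Coh.mres_mres]
  rw [← app_map_apply, ← app_map_apply, ← app_map_apply, ← app_map_apply, ht, H10Coh.Tw.map_tm,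
    H10Coh.Tw.map_tm, assoc_tm, assoc_tm, H10Coh.Tw.map_tm]

variable {k : Type u} [Field k] {n : ℕ}


variable (k n) in
theorem noetherian : IsNoetherian (CohB1.ProjSpace n k) :=
  haveI : IsProper ((CohB1.ProjSpace n k) ↘ Spec (CommRingCat.of k)) := inferInstanceAs (IsProper (CohB1.ProjSpace.toSpec n k))
  H28Int.isNoetherian k (X := (CohB1.ProjSpace n k))

variable {F : ((CohB1.ProjSpace n k)).Modules} {ι : CohB1.tensorMod F (Twist.twistProjSpace n k (-1)) ⟶ F} [Mono ι]

theorem seq_shortExact (j : ℤ) : ∃ (f : CohB1.tensorMod F (Twist.twistProjSpace n k (j - 1)) ⟶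
      CohB1.tensorMod F (Twist.twistProjSpace n k j))
    (w : f ≫ LimSh.tensorModMap (cokernel.π ι) (Twist.twistProjSpace n k j) = 0),
    (ShortComplex.mk f _ w).ShortExact := by
  have hs := setup k n
  have hS : (ShortComplex.mk ι (cokernel.π ι) (cokernel.condition ι)).ShortExact :=
    { exact := ShortComplex.exact_cokernel _ }
  have hT := H10Coh.Tw.shortExact_seq hS (hs.fam.inv j)
  obtain ⟨a⟩ := hs.fam.add (-1) j
  let e : CohB1.tensorMod (CohB1.tensorMod F (Twist.twistProjSpace n k (-1))) (Twist.twistProjSpace n k j) ≅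
      CohB1.tensorMod F (Twist.twistProjSpace n k (j - 1)) :=
    H10Coh.Tw.assoc _ _ _ ≪≫ PicGrp.tensorModIso (Iso.refl F)
      (a ≪≫ eqToIso (congrArg (Twist.twistProjSpace n k) (by ring)))
  have w : (e.inv ≫ LimSh.tensorModMap ι (Twist.twistProjSpace n k j)) ≫
      LimSh.tensorModMap (cokernel.π ι) (Twist.twistProjSpace n k j) = 0 := by
    have z : LimSh.tensorModMap ι (Twist.twistProjSpace n k j) ≫
        LimSh.tensorModMap (cokernel.π ι) (Twist.twistProjSpace n k j) = 0 :=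
      (H10Coh.Tw.seq (ShortComplex.mk ι (cokernel.π ι) (cokernel.condition ι)) (hs.fam.inv j)).zero
    rw [Category.assoc, z, comp_zero]
  refine ⟨_, w, ShortComplex.shortExact_of_iso (ShortComplex.isoMk (S₁ := H10Coh.Tw.seq (ShortComplex.mk ι (cokernel.π ι) (cokernel.condition ι)) (hs.fam.inv j)) e (Iso.refl _) (Iso.refl _) ?_ ?_) hT⟩
  · show e.hom ≫ e.inv ≫ _ = _ ≫ 𝟙 _
    rw [Iso.hom_inv_id_assoc, Category.comp_id]
    rfl
  · show 𝟙 _ ≫ _ = _ ≫ 𝟙 _
    rw [Category.id_comp, Category.comp_id]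
    rfl

theorem exists_van (hF : Coh.IsCoh F) : ∃ N : ℤ, ∀ j, N ≤ j → ∀ i, 1 ≤ i → Van i (CohB1.tensorMod F (Twist.twistProjSpace n k j)) := by
  obtain ⟨k₀, hk₀⟩ := H10Coh.Tw.exists_vanishing_proj n F hF
  refine ⟨k₀, fun j hj i hi => ?_⟩
  obtain ⟨t, rfl⟩ := Int.le.dest hj
  have := hk₀ (k₀ + t) (Nat.le_add_right _ _) i hi
  rwa [Nat.cast_add] at this

variable (hF : Coh.IsCoh F) {m : ℤ} (hG : Reg (fun a : ℤ => Twist.twistProjSpace n k a) (cokernel ι) m)

include hG in
theorem van_G {i : ℕ} (hi : 1 ≤ i) {j : ℤ} (hj : m - i ≤ j) :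
    Van i (CohB1.tensorMod (cokernel ι) (Twist.twistProjSpace n k j)) := by
  obtain ⟨t, ht⟩ := Int.le.dest hj
  have := reg_add (setup k n) hG t i hi
  rwa [show m + (t : ℤ) - i = j by omega] at this

include hF hG in
/-- The vanishing in degrees at least two. -/
theorem van_two {i : ℕ} (hi : 2 ≤ i) {j : ℤ} (hj : m - i ≤ j) :
    Van i (CohB1.tensorMod F (Twist.twistProjSpace n k j)) := by
  obtain ⟨N, hN⟩ := exists_van hF
  suffices H : ∀ r : ℕ, ∀ j : ℤ, m - i ≤ j → N ≤ j + r → Van i (CohB1.tensorMod F (Twist.twistProjSpace n k j)) from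
    H (N - j).toNat j hj (by omega)
  intro r
  induction r with
  | zero => exact fun j _ h => hN j (by simpa using h) i (by omega)
  | succ r ih =>
    intro j hj hN'
    obtain ⟨q, rfl⟩ : ∃ q, i = q + 1 := ⟨i - 1, by omega⟩
    obtain ⟨f, w, hS⟩ := seq_shortExact (ι := ι) (j + 1)
    have h := CMStep.van_left (H10Coh.shortExact_sh hS) (ih (j + 1) (by omega) (by push_cast at hN' ⊢; omega))
      (van_G hG (i := q) (by omega) (by push_cast at hj ⊢; omega))
    refine H10Coh.Tw.subsingleton_of_iso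
      (PicGrp.tensorModIso (Iso.refl F) (eqToIso (congrArg (Twist.twistProjSpace n k) (by ring)))) h

/-- The dimension of `H¹(F(j))`. -/
abbrev h1 (F : ((CohB1.ProjSpace n k)).Modules) (j : ℤ) : ℕ :=
  Module.finrank k (Coh.HH (CohB1.ProjSpace n k) (CohB1.tensorMod F (Twist.twistProjSpace n k j)) 1)

include hF hG in
theorem h1_step {j : ℤ} (hj : m - 1 ≤ j) : h1 F j ≤ h1 F (j - 1) ∧
    (h1 F (j - 1) ≤ h1 F j →
      Function.Surjective ((LimSh.tensorModMap (cokernel.π ι) (Twist.twistProjSpace n k j)).app ⊤)) ∧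
    (Function.Surjective ((LimSh.tensorModMap (cokernel.π ι) (Twist.twistProjSpace n k j)).app ⊤) →
      h1 F (j - 1) ≤ h1 F j) := by
  haveI : IsProper ((CohB1.ProjSpace n k) ↘ Spec (CommRingCat.of k)) := inferInstanceAs (IsProper (CohB1.ProjSpace.toSpec n k))
  haveI := noetherian k n
  obtain ⟨f, w, hS⟩ := seq_shortExact (ι := ι) j
  have hfin : ∀ {M : ((CohB1.ProjSpace n k)).Modules}, Coh.IsCoh M → Module.Finite k (Coh.HH (CohB1.ProjSpace n k) M 1) :=
    fun hM => H10Coh.finite_HH_proper k (CohB1.ProjSpace n k) _ hM 1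
  haveI := hfin (H11Ample.isCoh_tensor hF ((setup k n).fam.inv (j - 1)))
  haveI := hfin (H11Ample.isCoh_tensor hF ((setup k n).fam.inv j))
  have hsur : Function.Surjective (Canon.HHlin k f 1) :=
    NakaiGen.hhlin_f_surjective k hS 1 (van_iff.1 (van_G hG le_rfl (by simpa using hj)))
  have hle := LinearMap.finrank_le_finrank_of_surjective hsur
  refine ⟨hle, fun h => ?_, fun h => ?_⟩
  · have hinj : Function.Injective (Canon.HHlin k f 1) :=
      (LinearMap.injective_iff_surjective_of_finrank_eq_finrank (le_antisymm h hle)).2 hsur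
    have hg := NakaiGen.hhlin_g_surjective k hS 0 hinj
    intro t
    obtain ⟨v, rfl⟩ := (H29RR.sec _).surjective t
    obtain ⟨u, hu⟩ := hg v
    exact ⟨H29RR.sec _ u, (H29RR.sec_natural _ u).symm.trans (congrArg _ hu)⟩
  · have hinj : Function.Injective (Canon.HHlin k f 1) := by
      refine (injective_iff_map_eq_zero _).2 fun x hx => ?_
      obtain ⟨y, rfl⟩ := Abelian.Ext.covariant_sequence_exact₁ _ (H10Coh.shortExact_sh hS) x hx rfl
      obtain ⟨t, ht⟩ := h (H29RR.sec _ y)
      obtain ⟨z, rfl⟩ := (H29RR.sec _).surjective t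
      have hz : Canon.HHlin k (LimSh.tensorModMap (cokernel.π ι) (Twist.twistProjSpace n k j)) 0 z = y :=
        (H29RR.sec _).injective ((H29RR.sec_natural _ z).trans ht)
      rw [← hz]
      exact (Abelian.Ext.comp_assoc_of_second_deg_zero _ _ _ _).trans
        (by erw [(H10Coh.shortExact_sh hS).comp_extClass]; exact Abelian.Ext.comp_zero ..)
    exact LinearMap.finrank_le_finrank_of_injective hinj

include hG in
theorem surjective_succ {j : ℤ} (hj : m ≤ j)
    (h : Function.Surjective ((LimSh.tensorModMap (cokernel.π ι) (Twist.twistProjSpace n k j)).app ⊤)) :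
    Function.Surjective ((LimSh.tensorModMap (cokernel.π ι) (Twist.twistProjSpace n k (j + 1))).app ⊤) := by
  have hs := setup k n
  obtain ⟨t, ht⟩ := Int.le.dest hj
  have hsp := spanned_one hs (reg_add hs hG t)
  rw [ht] at hsp
  have h2 : Function.Surjective ((LimSh.tensorModMap (LimSh.tensorModMap (cokernel.π ι)
      (Twist.twistProjSpace n k j)) (Twist.twistProjSpace n k 1)).app ⊤) := by
    intro S
    have hS := hsp S
    induction hS using AddSubgroup.closure_induction with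
    | mem y hy =>
      obtain ⟨p, r, rfl⟩ := hy
      obtain ⟨p', rfl⟩ := h p
      exact ⟨tm p' r, H10Coh.Tw.map_tm _ _ p' r⟩
    | zero => exact ⟨0, map_zero _⟩
    | add y y' _ _ hy hy' =>
      obtain ⟨a₁, rfl⟩ := hy
      obtain ⟨a₂, rfl⟩ := hy'
      exact ⟨a₁ + a₂, map_add _ _ _⟩
    | neg y _ hy =>
      obtain ⟨a₁, rfl⟩ := hy
      exact ⟨-a₁, map_neg _ _⟩
  obtain ⟨a⟩ := hs.fam.add j 1
  intro S
  obtain ⟨S', rfl⟩ := (tensorLeftMap_comp_surjective (M := cokernel ι) a) S
  obtain ⟨u, hu⟩ := h2 ((H10Coh.Tw.assoc (cokernel ι) _ _).inv.app ⊤ S')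
  refine ⟨(KosTwist.tensorLeftMap F a.hom).app ⊤ ((H10Coh.Tw.assoc F _ _).hom.app ⊤ u), ?_⟩
  have e := assoc_natural (hs.fam.inv j) (hs.fam.inv 1) (cokernel.π ι) ⊤ u
  rw [hu, hom_inv_apply] at e
  rw [e]
  generalize (H10Coh.Tw.assoc F _ _).hom.app ⊤ u = w
  refine eq_of_locally _ _ fun x hx => ?_
  obtain ⟨V, hV, c, f, hxV, -, hf⟩ := H10Coh.Tw.exists_eq_tm
    (H11Ample.isInvertible_tensor (hs.fam.inv j) (hs.fam.inv 1)) w hx
  refine ⟨V, hV, hxV, ?_⟩
  rw [← app_map_apply, ← app_map_apply, ← app_map_apply, ← app_map_apply, hf, KosTwist.map_tm_right,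
    H10Coh.Tw.map_tm, H10Coh.Tw.map_tm, KosTwist.map_tm_right]

include hF hG in
theorem h1_zero_of_surjective {j : ℤ} (hj : m ≤ j)
    (h : Function.Surjective ((LimSh.tensorModMap (cokernel.π ι) (Twist.twistProjSpace n k j)).app ⊤)) :
    h1 F j = 0 := by
  have hall : ∀ t : ℕ, Function.Surjective
      ((LimSh.tensorModMap (cokernel.π ι) (Twist.twistProjSpace n k (j + t))).app ⊤) := by
    intro t
    induction t with
    | zero => rw [Nat.cast_zero, add_zero]; exact h
    | succ t ih => rw [Nat.cast_succ, ← add_assoc]; exact surjective_succ hG (by omega) ih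
  have hle : ∀ t : ℕ, h1 F j ≤ h1 F (j + t) := by
    intro t
    induction t with
    | zero => simp
    | succ t ih =>
      have := (h1_step hF hG (j := j + ((t + 1 : ℕ) : ℤ)) (by omega)).2.2 (hall (t + 1))
      rw [show j + ((t + 1 : ℕ) : ℤ) - 1 = j + t by push_cast; ring] at this
      exact ih.trans this
  obtain ⟨N, hN⟩ := exists_van hF
  have h0 : h1 F (j + ((N - j).toNat : ℕ)) = 0 := by
    haveI := van_iff.1 (hN (j + ((N - j).toNat : ℕ)) (by omega) 1 le_rfl)
    exact Module.finrank_zero_of_subsingleton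
  have := hle (N - j).toNat
  omega

include hF hG in
theorem h1_bound : ∀ t : ℕ, h1 F (m - 1 + t) = 0 ∨ h1 F (m - 1 + t) + t ≤ h1 F (m - 1)
  | 0 => Or.inr (by simp)
  | t + 1 => by
    have hst := h1_step hF hG (j := m - 1 + ((t + 1 : ℕ) : ℤ)) (by omega)
    rw [show m - 1 + ((t + 1 : ℕ) : ℤ) - 1 = m - 1 + t by push_cast; ring] at hst
    by_cases he : h1 F (m - 1 + t) ≤ h1 F (m - 1 + ((t + 1 : ℕ) : ℤ))
    · exact Or.inl (h1_zero_of_surjective hF hG (by omega) (hst.2.1 he))
    · rcases h1_bound t with h | h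
      · omega
      · exact Or.inr (by omega)

include hF hG in
theorem van_one {j : ℤ} (hj : m - 1 + (h1 F (m - 1) : ℤ) ≤ j) :
    Van 1 (CohB1.tensorMod F (Twist.twistProjSpace n k j)) := by
  haveI : IsProper ((CohB1.ProjSpace n k) ↘ Spec (CommRingCat.of k)) := inferInstanceAs (IsProper (CohB1.ProjSpace.toSpec n k))
  haveI := noetherian k n
  obtain ⟨t, ht⟩ := Int.le.dest (show m - 1 ≤ j by omega)
  have h0 : h1 F j = 0 := by
    rcases h1_bound hF hG t with h | h <;> rw [ht] at h <;> omega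
  haveI := H10Coh.finite_HH_proper k (CohB1.ProjSpace n k) _ (H11Ample.isCoh_tensor hF ((setup k n).fam.inv j)) 1
  exact van_iff.2 (Module.finrank_zero_iff.1 h0)

end Groth.Agent.H22Alg.CMHyper
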