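import Mathlib
import Groth.Agent.H11Proj.ClosedSub
import Groth.Agent.H11Proj.ProjSpace
import Groth.Prelude.Def_CohB1

/-!
# A nonzero linear form as the kernel of a graded surjection between polynomial rings
-/

set_option autoImplicit false

noncomputable section

universe u

open MvPolynomial AlgebraicGeometry

namespace Groth.Agent.H22Alg.HyperplaneAlg

open CohB1 (polyGrading)

variable {k : Type u} [Field k] {n : ℕ}

/-- The linear form `Σ a_t x_t`. -/
def form (a : Fin (n + 2) → k) : MvPolynomial (Fin (n + 2)) k := ∑ t, C (a t) * X t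

theorem exists_form {m : MvPolynomial (Fin (n + 2)) k} (hm : m ∈ polyGrading (n + 1) k 1) (h : m ≠ 0) :
    ∃ (a : Fin (n + 2) → k) (p : Fin (n + 2)), a p ≠ 0 ∧ m = form a := by
  rw [polyGrading, homogeneousSubmodule_one_eq_span_X, Submodule.mem_span_range_iff_exists_fun] at hm
  obtain ⟨a, ha⟩ := hm
  have he : m = form a := ha.symm.trans (Finset.sum_congr rfl fun t _ => smul_eq_C_mul _ _)
  obtain ⟨p, hp⟩ : ∃ p, a p ≠ 0 := by
    by_contra h'
    push Not at h'
    exact h (he.trans (Finset.sum_eq_zero fun t _ => by rw [h', C_0, zero_mul]))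
  exact ⟨a, p, hp, he⟩

variable (a : Fin (n + 2) → k) (p : Fin (n + 2))

/-- The images of the coordinates. -/
def images : Fin (n + 2) → MvPolynomial (Fin (n + 1)) k :=
  Fin.insertNth p (C (-(a p)⁻¹) * ∑ i, C (a (p.succAbove i)) * X i) X

theorem isHomogeneous_images (t : Fin (n + 2)) : (images a p t).IsHomogeneous 1 := by
  refine Fin.succAboveCases p ?_ (fun i => ?_) t
  · rw [images, Fin.insertNth_apply_same]
    exact (IsHomogeneous.sum _ _ _ fun i _ => isHomogeneous_C_mul_X _ _).C_mul _
  · rw [images, Fin.insertNth_apply_succAbove]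
    exact isHomogeneous_X _ _

/-- The map to the coordinate ring of the hyperplane. -/
def hom : MvPolynomial (Fin (n + 2)) k →ₐ[k] MvPolynomial (Fin (n + 1)) k := aeval (images a p)

theorem hom_mem {d : ℕ} {x : MvPolynomial (Fin (n + 2)) k} (hx : x ∈ polyGrading (n + 1) k d) :
    hom a p x ∈ polyGrading n k d := by
  have h := IsHomogeneous.aeval (m := d) (n := 1) hx (images a p) (isHomogeneous_images a p)
  rw [one_mul] at h
  exact h

/-- The map as a graded homomorphism. -/
def gradedHom : polyGrading (n + 1) k →+*ᵍ polyGrading n k :=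
  { (hom a p).toRingHom with map_mem := fun {_ _} hx => hom_mem a p hx }

/-- The section. -/
def sec : MvPolynomial (Fin (n + 1)) k →ₐ[k] MvPolynomial (Fin (n + 2)) k := rename p.succAbove

theorem hom_sec (y : MvPolynomial (Fin (n + 1)) k) : hom a p (sec p y) = y := by
  rw [hom, sec, aeval_rename, show images a p ∘ p.succAbove = X from funext fun i => by
    rw [Function.comp_apply, images, Fin.insertNth_apply_succAbove]]
  exact aeval_X_left_apply y

theorem sec_mem {d : ℕ} {y : MvPolynomial (Fin (n + 1)) k} (hy : y ∈ polyGrading n k d) :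
    sec p y ∈ polyGrading (n + 1) k d :=
  MvPolynomial.IsHomogeneous.rename_isHomogeneous hy

theorem surjective_hom : Function.Surjective (gradedHom a p) := fun y => ⟨sec p y, hom_sec a p y⟩

theorem irrelevant_le :
    HomogeneousIdeal.irrelevant (polyGrading n k) ≤
      (HomogeneousIdeal.irrelevant (polyGrading (n + 1) k)).map (gradedHom a p) := by
  change (HomogeneousIdeal.irrelevant (polyGrading n k)).toIdeal ≤
    ((HomogeneousIdeal.irrelevant (polyGrading (n + 1) k)).map (gradedHom a p)).toIdeal
  rw [H11Proj.irrelevant_le_iff]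
  intro d hd y hy
  rw [HomogeneousIdeal.toIdeal_map]
  have h := Ideal.mem_map_of_mem (gradedHom a p)
    (H11Proj.mem_irrelevant_of_pos (polyGrading (n + 1) k) hd (sec_mem p hy))
  rw [show gradedHom a p (sec p y) = y from hom_sec a p y] at h
  exact h

variable {a p}

theorem hom_form (hp : a p ≠ 0) : hom a p (form a) = 0 := by
  rw [form, Fin.sum_univ_succAbove _ p, map_add, map_sum, map_mul, hom, aeval_C, aeval_X, images,
    Fin.insertNth_apply_same]
  simp only [map_mul, aeval_C, aeval_X, Fin.insertNth_apply_succAbove, algebraMap_eq]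
  rw [← mul_assoc, ← C_mul, mul_neg, mul_inv_cancel₀ hp, C_neg, C_1, neg_one_mul, neg_add_cancel]

theorem form_dvd_iff (hp : a p ≠ 0) (x : MvPolynomial (Fin (n + 2)) k) :
    hom a p x = 0 ↔ form a ∣ x := by
  refine ⟨fun h => ?_, fun ⟨q, hq⟩ => by rw [hq, map_mul, hom_form hp, zero_mul]⟩
  let π := Ideal.Quotient.mkₐ k (Ideal.span {form a})
  have hg : (π.comp (sec p)).comp (hom a p) = π := by
    refine algHom_ext fun t => ?_
    refine Fin.succAboveCases p ?_ (fun i => ?_) t
    · change π (sec p (hom a p (X p))) = π (X p)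
      rw [hom, aeval_X, images, Fin.insertNth_apply_same]
      refine (Ideal.Quotient.eq.2 (Ideal.mem_span_singleton.2 ⟨-C (a p)⁻¹, ?_⟩))
      have key : C (a p) * C (a p)⁻¹ = (1 : MvPolynomial (Fin (n + 2)) k) := by
        rw [← C_mul, mul_inv_cancel₀ hp, C_1]
      simp only [sec, map_mul, map_sum, map_neg, rename_C, rename_X, form, Fin.sum_univ_succAbove _ p]
      linear_combination (X p : MvPolynomial (Fin (n + 2)) k) * key
    · change π (sec p (hom a p (X (p.succAbove i)))) = π (X (p.succAbove i))
      rw [hom, aeval_X, images, Fin.insertNth_apply_succAbove, sec, rename_X]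
  have hx : π x = π (sec p (hom a p x)) := (congrArg (fun g : _ →ₐ[k] _ => g x) hg).symm
  rw [h, map_zero, map_zero] at hx
  exact Ideal.mem_span_singleton.1 (Ideal.Quotient.eq_zero_iff_mem.1 hx)

/-- A multiple `x ^ (N+1) * b` of the form has a homogeneous cofactor. -/
theorem exists_cofactor {m : MvPolynomial (Fin (n + 2)) k} (hm : m ∈ polyGrading (n + 1) k 1) {d : ℕ}
    {b : MvPolynomial (Fin (n + 2)) k} (hb : b ∈ polyGrading (n + 1) k (d + 1)) (h : m ∣ b) :
    ∃ q ∈ polyGrading (n + 1) k d, b = m * q := by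
  classical
  obtain ⟨q, hq⟩ := h
  refine ⟨_, (DirectSum.decompose (polyGrading (n + 1) k) q d).2, ?_⟩
  have h1 := DirectSum.coe_decompose_mul_of_left_mem_of_le (polyGrading (n + 1) k) (b := q) hm
    (Nat.le_add_left 1 d)
  rw [← hq, DirectSum.decompose_of_mem_same _ hb, Nat.add_sub_cancel] at h1
  exact h1

end Groth.Agent.H22Alg.HyperplaneAlg
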