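import Mathlib
import Groth.Agent.H22Alg.HyperplaneAlg
import Groth.Agent.H22Alg.PnSections
import Groth.Agent.H22Alg.RegSheaf
import Groth.Agent.H11Tilde.ProjUPUnique
import Groth.Agent.H11Ample.Ample
import Groth.Agent.H11Proj.ProjData
import Groth.Agent.H28Mero.ZeroScheme

/-!
# Hyperplanes of projective space are projective spaces
-/

set_option autoImplicit false
set_option linter.style.haveILetI false

noncomputable section

universe u

open CategoryTheory CategoryTheory.Limits AlgebraicGeometry TopologicalSpace Opposite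
open Groth.Agent.H11Tilde Groth.Agent.H11Ample

namespace Groth.Agent.H22Alg.HyperplanePn

open CohB1 (polyGrading)

variable {k : Type u} [Field k] {n : ℕ}

/-- A ratio with nonzero numerator is regular in every stalk. -/
theorem eq_zero_of_mul_ratio {f m : MvPolynomial (Fin (n + 2)) k} (hf : f ∈ polyGrading (n + 1) k 1)
    (hm : m ∈ polyGrading (n + 1) k 1) (hm0 : m ≠ 0) {W : (Proj (polyGrading (n + 1) k)).Opens}
    (hW : W ≤ Proj.basicOpen (polyGrading (n + 1) k) f) (r : Γ(Proj (polyGrading (n + 1) k), W))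
    (h : r * (Proj (polyGrading (n + 1) k)).presheaf.map (homOfLE hW).op (ratio _ hf hm) = 0) : r = 0 := by
  refine fval_ext _ fun x => ?_
  have h1 := congrArg (fun z => fval (polyGrading (n + 1) k) z x) h
  beta_reduce at h1
  rw [fval_mul, fval_zero,
    show fval (polyGrading (n + 1) k)
        ((Proj (polyGrading (n + 1) k)).presheaf.map (homOfLE hW).op (ratio _ hf hm)) x =
      fval (polyGrading (n + 1) k) (ratio _ hf hm) ⟨x.1, hW x.2⟩ from rfl, fval_ratio] at h1
  rw [fval_zero]
  revert h1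
  refine Localization.induction_on (p := fun z => z * _ = 0 → z = 0) (fval (polyGrading (n + 1) k) r x) fun y h1 => ?_
  rw [Localization.mk_mul, Localization.mk_eq_mk', IsLocalization.mk'_eq_zero_iff] at h1
  obtain ⟨u, hu⟩ := h1
  have hu0 : (u : MvPolynomial (Fin (n + 2)) k) ≠ 0 := fun h0 => u.2 (h0 ▸ zero_mem _)
  rw [show y.1 = 0 from (mul_eq_zero.1 ((mul_eq_zero.1 hu).resolve_left hu0)).resolve_right hm0,
    Localization.mk_zero]

variable {m : MvPolynomial (Fin (n + 2)) k} (hm : m ∈ polyGrading (n + 1) k 1)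
  (s : Coh.structureModule (Proj (polyGrading (n + 1) k)) ⟶ GrTwist.twist (polyGrading (n + 1) k) 1)
  (hs : SecTwist.val s ⊤ = globalSec (polyGrading (n + 1) k) hm)

include hs in
theorem sGerm_eq {f : MvPolynomial (Fin (n + 2)) k} (hf : f ∈ polyGrading (n + 1) k 1)
    (y : Proj (polyGrading (n + 1) k)) (hy : y ∈ Proj.basicOpen (polyGrading (n + 1) k) f) :
    H28Mero.sGerm (GrTwist.twist (polyGrading (n + 1) k) 1) s y =
      (Proj (polyGrading (n + 1) k)).presheaf.germ _ y hy (ratio _ hf hm) •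
        (GrTwist.twist (polyGrading (n + 1) k) 1).presheaf.germ _ y hy
          ((GrTwist.twist (polyGrading (n + 1) k) 1).presheaf.map
            (homOfLE (le_top : Proj.basicOpen (polyGrading (n + 1) k) f ≤ ⊤)).op (globalSec _ hf)) := by
  have h := congrArg ((GrTwist.twist (polyGrading (n + 1) k) 1).presheaf.germ _ y hy)
    (globalSec_eq_ratio_smul (polyGrading (n + 1) k) hf hm)
  rw [TopCat.Presheaf.germ_res_apply, H06Mod.germ_smul] at h
  rw [← h, H28Mero.sGerm, hs]

include hs in
theorem regular (hm0 : m ≠ 0) : H28Mero.IsRegularSection (GrTwist.twist (polyGrading (n + 1) k) 1) s := by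
  intro y
  obtain ⟨t, ht⟩ := Opens.mem_iSup.1 ((H11Proj.ProjSpace.iSup_basicOpen (n := n + 1) (R := k)).ge
    (trivial : y ∈ (⊤ : (Proj (polyGrading (n + 1) k)).Opens)))
  have hf : (MvPolynomial.X t : MvPolynomial (Fin (n + 2)) k) ∈ polyGrading (n + 1) k 1 :=
    MvPolynomial.isHomogeneous_X k t
  have he := isGen_globalSec (polyGrading (n + 1) k) hf
  intro r r' hrr
  simp only [sGerm_eq hm s hs hf y ht] at hrr
  have h2 : r * _ = r' * _ := (he y ht).1 ((mul_smul r _ _).trans (hrr.trans (mul_smul r' _ _).symm))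
  rw [← sub_eq_zero, ← sub_mul] at h2
  refine sub_eq_zero.1 ?_
  obtain ⟨W, hyW, z, hz⟩ := TopCat.Presheaf.exists_germ_eq (Proj (polyGrading (n + 1) k)).presheaf (r - r')
  let W' := W ⊓ Proj.basicOpen (polyGrading (n + 1) k) (MvPolynomial.X t)
  have hyW' : y ∈ W' := ⟨hyW, ht⟩
  let z' := (Proj (polyGrading (n + 1) k)).presheaf.map (homOfLE (inf_le_left : W' ≤ W)).op z
  have hz' : (Proj (polyGrading (n + 1) k)).presheaf.germ W' y hyW' z' = r - r' := by
    rw [TopCat.Presheaf.germ_res_apply, hz]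
  let c' := (Proj (polyGrading (n + 1) k)).presheaf.map (homOfLE (inf_le_right : W' ≤ _)).op (ratio _ hf hm)
  have h3 : (Proj (polyGrading (n + 1) k)).presheaf.germ W' y hyW' (z' * c') =
      (Proj (polyGrading (n + 1) k)).presheaf.germ W' y hyW' 0 := by
    rw [map_mul, map_zero, hz', TopCat.Presheaf.germ_res_apply]
    exact h2
  obtain ⟨O, hyO, i₁, i₂, hO⟩ := TopCat.Presheaf.germ_eq _ y hyW' hyW' _ _ h3
  rw [map_mul, map_zero, ← CommRingCat.comp_apply _ _ (ratio _ hf hm), ← Functor.map_comp] at hO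
  have h4 := eq_zero_of_mul_ratio hf hm hm0 (i₁.le.trans inf_le_right) _ hO
  rw [← hz', ← TopCat.Presheaf.germ_res_apply _ i₁ y hyO z', h4, map_zero]

include hs in
theorem ideal_eq_span (hm0 : m ≠ 0) {f : MvPolynomial (Fin (n + 2)) k} (hf : f ∈ polyGrading (n + 1) k 1) :
    (PicF2.zeroScheme (GrTwist.twist (polyGrading (n + 1) k) 1) s).ideal
        ⟨Proj.basicOpen (polyGrading (n + 1) k) f, Proj.isAffineOpen_basicOpen _ f hf Nat.one_pos⟩ =
      Ideal.span {ratio _ hf hm} := by
  refine (H28Mero.zeroScheme_ideal _ s (RegSheaf.isInvertible_twistProjSpace (n + 1) k 1) (regular hm s hs hm0) _).trans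
    (H28Mero.germIdeal_eq_span (Proj.isAffineOpen_basicOpen _ f hf Nat.one_pos) _ fun y hy => ?_)
  exact H28Mero.zeroGerm_eq_span _ s (isGen_globalSec (polyGrading (n + 1) k) hf y hy) (sGerm_eq hm s hs hf y hy)

variable (a : Fin (n + 2) → k) (p : Fin (n + 2))

/-- The embedding of the hyperplane. -/
def emb : Proj (polyGrading n k) ⟶ Proj (polyGrading (n + 1) k) :=
  Proj.map (HyperplaneAlg.gradedHom a p) (HyperplaneAlg.irrelevant_le a p)

instance isClosedImmersion_emb : IsClosedImmersion (emb a p) :=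
  H11Proj.isClosedImmersion_map _ _ (HyperplaneAlg.surjective_hom a p)

include hs in
theorem ker_emb (hp : a p ≠ 0) (hma : m = HyperplaneAlg.form a) (hm0 : m ≠ 0) :
    PicF2.zeroScheme (GrTwist.twist (polyGrading (n + 1) k) 1) s = (emb a p).ker := by
  refine Scheme.IdealSheafData.ext_of_iSup_eq_top
    (fun t : Fin (n + 2) => ⟨Proj.basicOpen (polyGrading (n + 1) k) (MvPolynomial.X t),
      Proj.isAffineOpen_basicOpen _ _ (MvPolynomial.isHomogeneous_X k t) Nat.one_pos⟩)
    (H11Proj.ProjSpace.iSup_basicOpen (n := n + 1) (R := k)) fun t => ?_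
  have hf : (MvPolynomial.X t : MvPolynomial (Fin (n + 2)) k) ∈ polyGrading (n + 1) k 1 :=
    MvPolynomial.isHomogeneous_X k t
  rw [ideal_eq_span hm s hs hm0 hf, Scheme.Hom.ker_apply]
  ext r
  obtain ⟨d, b, hb, rfl⟩ := H11Proj.exists_eq_ratio (polyGrading (n + 1) k) hf r
  rw [RingHom.mem_ker]
  have key := H11Proj.map_app_ratio_eq_zero_iff (polyGrading (n + 1) k) (polyGrading n k)
    (HyperplaneAlg.gradedHom a p) (HyperplaneAlg.irrelevant_le a p) hf hb
  refine Iff.trans ?_ key.symm
  constructor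
  · intro h
    obtain ⟨r', hr'⟩ := Ideal.mem_span_singleton.1 h
    have hc : (emb a p).app (Proj.basicOpen (polyGrading (n + 1) k) (MvPolynomial.X t)) (ratio _ hf hm) = 0 := by
      refine (H11Proj.map_app_ratio_eq_zero_iff (polyGrading (n + 1) k) (polyGrading n k)
        (HyperplaneAlg.gradedHom a p) (HyperplaneAlg.irrelevant_le a p) hf hm).2 ⟨0, ?_⟩
      show HyperplaneAlg.hom a p _ = 0
      rw [pow_zero, one_mul, hma, HyperplaneAlg.hom_form hp]
    refine key.1 ?_
    show (emb a p).app _ (ratio _ hf hb) = 0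
    rw [hr', map_mul, hc, zero_mul]
  · rintro ⟨N, hN⟩
    have hN1 : HyperplaneAlg.hom a p (MvPolynomial.X t ^ (N + 1) * b) = 0 := by
      rw [pow_succ', mul_assoc, map_mul, show HyperplaneAlg.hom a p (MvPolynomial.X t ^ N * b) = 0 from hN,
        mul_zero]
    have hdvd := (HyperplaneAlg.form_dvd_iff hp _).1 hN1
    rw [← hma] at hdvd
    have hpow : (MvPolynomial.X t : MvPolynomial (Fin (n + 2)) k) ^ (N + 1) ∈ polyGrading (n + 1) k (N + 1) := by
      simpa using SetLike.pow_mem_graded (N + 1) hf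
    have hprod : MvPolynomial.X t ^ (N + 1) * b ∈ polyGrading (n + 1) k (N + d + 1) := by
      have := SetLike.mul_mem_graded hpow hb
      rwa [show N + 1 + d = N + d + 1 by omega] at this
    obtain ⟨q, hq, he⟩ := HyperplaneAlg.exists_cofactor hm hprod hdvd
    refine Ideal.mem_span_singleton.2 ⟨ratio _ hf hq, ?_⟩
    rw [← ratio_mul (polyGrading (n + 1) k) hf hm hq]
    refine fval_ext _ fun x => ?_
    rw [fval_ratio, fval_ratio]
    refine Localization.mk_eq_mk_iff.2 (Localization.r_iff_exists.2 ⟨1, ?_⟩)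
    simp only [OneMemClass.coe_one, one_mul, ← he, pow_succ, pow_add, pow_one]
    ring

/-- The pullback of `O(1)` is `O(1)`. -/
theorem nonempty_pullback_iso :
    Nonempty ((Scheme.Modules.pullback (emb a p)).obj (GrTwist.twist (polyGrading (n + 1) k) 1) ≅
      GrTwist.twist (polyGrading n k) 1) := by
  let φ := HyperplaneAlg.gradedHom a p
  have hf : ∀ t, (MvPolynomial.X t : MvPolynomial (Fin (n + 2)) k) ∈ polyGrading (n + 1) k 1 :=
    fun t => MvPolynomial.isHomogeneous_X k t
  let V : Fin (n + 2) → (Proj (polyGrading n k)).Opens := fun t =>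
    emb a p ⁻¹ᵁ Proj.basicOpen (polyGrading (n + 1) k) (MvPolynomial.X t)
  have hV : ∀ x, ∃ t, x ∈ V t := fun x => by
    obtain ⟨t, ht⟩ := Opens.mem_iSup.1 ((H11Proj.ProjSpace.iSup_basicOpen (n := n + 1) (R := k)).ge
      (trivial : (emb a p).base x ∈ (⊤ : (Proj (polyGrading (n + 1) k)).Opens)))
    exact ⟨t, ht⟩
  have hg : ∀ t, φ (MvPolynomial.X t) ∈ polyGrading n k 1 := fun t => φ.2 (hf t)
  have hle : ∀ t, V t ≤ Proj.basicOpen (polyGrading n k) (φ (MvPolynomial.X t)) := fun t => le_rfl
  obtain ⟨e, -⟩ := exists_iso_of_gen (X := Proj (polyGrading n k))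
    (P := (Scheme.Modules.pullback (emb a p)).obj (GrTwist.twist (polyGrading (n + 1) k) 1))
    (Q := GrTwist.twist (polyGrading n k) 1) V hV
    (fun t => ((Scheme.Modules.pullback (emb a p)).obj (GrTwist.twist (polyGrading (n + 1) k) 1)).presheaf.map
      (homOfLE (le_top : V t ≤ ⊤)).op
      (ProjUP.pullSec (emb a p) (GrTwist.twist (polyGrading (n + 1) k) 1) (globalSec _ (hf t))))
    (fun t => isGen_pullSec (polyGrading (n + 1) k) (emb a p) (hf t) le_rfl)
    (fun t => (GrTwist.twist (polyGrading n k) 1).presheaf.map (homOfLE (le_top : V t ≤ ⊤)).op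
      (globalSec _ (hg t)))
    (fun t => by
      have h := (isGen_globalSec (polyGrading n k) (hg t)).res (hle t)
      rwa [H10Coh.mres_mres] at h)
    (fun i j u hu => by
      rw [H10Coh.mres_mres, H10Coh.mres_mres] at hu ⊢
      have hj : V i ⊓ V j ≤ emb a p ⁻¹ᵁ Proj.basicOpen (polyGrading (n + 1) k) (MvPolynomial.X j) := inf_le_right
      rw [pullSec_res (polyGrading (n + 1) k) (emb a p) (hf i) (hf j) hj] at hu
      have huv := ((isGen_pullSec (polyGrading (n + 1) k) (emb a p) (hf j) hj).bijective le_rfl).1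
        (a₁ := (emb a p).appLE _ _ hj (ratio _ (hf j) (hf i))) (a₂ := u) (by
          simpa only [H10Coh.mres_self] using hu)
      rw [← huv]
      have h1 : (emb a p).appLE (Proj.basicOpen (polyGrading (n + 1) k) (MvPolynomial.X j)) (V i ⊓ V j) hj
          (ratio _ (hf j) (hf i)) = (Proj (polyGrading n k)).presheaf.map
            (homOfLE (inf_le_right : V i ⊓ V j ≤ V j)).op (ratio (polyGrading n k) (hg j) (hg i)) := by
        rw [← Scheme.Hom.appLE_map (emb a p) (le_rfl : V j ≤ _) (homOfLE (inf_le_right : V i ⊓ V j ≤ V j)).op,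
          CommRingCat.comp_apply]
        congr 1
        refine (congr($(Proj.awayToSection_comp_appLE φ (HyperplaneAlg.irrelevant_le a p) (hf j))
          (HomogeneousLocalization.Away.mk _ (hf j) 1 _ (by simpa using hf i)))).trans ?_
        exact congrArg (Proj.awayToSection (polyGrading n k) (φ (MvPolynomial.X j)))
          (HomogeneousLocalization.Away.map_mk φ (MvPolynomial.X j) (hf j) 1 _ (by simpa using hf i))
      have h2 := congrArg ((GrTwist.twist (polyGrading n k) 1).presheaf.map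
        (homOfLE (inf_le_right.trans (hle j) : V i ⊓ V j ≤ _)).op)
        (globalSec_eq_ratio_smul (polyGrading n k) (hg j) (hg i))
      rw [Scheme.Modules.map_smul, H10Coh.mres_mres, H10Coh.mres_mres] at h2
      rw [h1]
      exact h2)
  exact ⟨e⟩

include hs in
theorem exists_iso (hm0 : m ≠ 0) :
    ∃ φ : Proj (polyGrading n k) ≅ (PicF2.zeroScheme (GrTwist.twist (polyGrading (n + 1) k) 1) s).subscheme,
      Nonempty ((Scheme.Modules.pullback
          (φ.hom ≫ (PicF2.zeroScheme (GrTwist.twist (polyGrading (n + 1) k) 1) s).subschemeι)).obj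
        (GrTwist.twist (polyGrading (n + 1) k) 1) ≅ GrTwist.twist (polyGrading n k) 1) := by
  obtain ⟨a, p, hp, hma⟩ := HyperplaneAlg.exists_form hm hm0
  let I := PicF2.zeroScheme (GrTwist.twist (polyGrading (n + 1) k) 1) s
  have hk : I.subschemeι.ker = (emb a p).ker := by
    rw [Scheme.IdealSheafData.ker_subschemeι]
    exact ker_emb hm s hs a p hp hma hm0
  haveI := IsClosedImmersion.isIso_lift I.subschemeι (emb a p) hk
  refine ⟨asIso (IsClosedImmersion.lift I.subschemeι (emb a p) hk.le), ?_⟩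
  rw [asIso_hom, IsClosedImmersion.lift_fac]
  exact nonempty_pullback_iso a p

end Groth.Agent.H22Alg.HyperplanePn
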