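import Mathlib
import Groth.Agent.H8Props.FieldDimFormula
import Groth.Agent.H8Props.FieldDimFibre
import Groth.Agent.H8Props.Generic
import Groth.Agent.H7Flat.FibreDim
import Groth.Agent.H7Flat.FibreDimGeneric

/-! Counting dimensions with fibres, for schemes of finite type over a field. -/

set_option autoImplicit false
set_option linter.style.haveILetI false
universe u

open AlgebraicGeometry CategoryTheory TopologicalSpace Topology
open Groth.Agent.H8Props.FieldDim

namespace Groth.Agent.H22Alg.FibreCount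

theorem cdim_emb {A B : Type u} [TopologicalSpace A] [TopologicalSpace B] {j : A → B}
    (hj : IsClosedEmbedding j) (a : A) : cdim (j a) = cdim a := by
  have h1 : j '' closure {a} = closure {j a} := by rw [← hj.closure_image_eq, Set.image_singleton]
  have h2 := dim_range (hj.isEmbedding.comp (IsEmbedding.subtypeVal (p := (· ∈ closure ({a} : Set A)))))
  rw [Set.range_comp, Subtype.range_coe_subtype, Set.ofPred_mem_eq, h1] at h2
  exact h2

theorem dim_fiber_eq_preimage {X Y : Scheme.{u}} (f : X ⟶ Y) (y : Y) :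
    topologicalKrullDim (f.fiber y) = topologicalKrullDim (f ⁻¹' {y}) :=
  IsHomeomorph.topologicalKrullDim_eq _ (f.fiberHomeo y).isHomeomorph

variable {k : Type u} [Field k] {X Y : Scheme.{u}}

theorem cdim_nonneg {T : Type u} [TopologicalSpace T] (x : T) : (0 : WithBot ℕ∞) ≤ cdim x := by
  haveI : Nonempty (closure ({x} : Set T)) := ⟨⟨x, subset_closure rfl⟩⟩
  haveI : Nonempty (IrreducibleCloseds (closure ({x} : Set T))) :=
    ⟨⟨closure {⟨x, subset_closure rfl⟩}, isIrreducible_singleton.closure, isClosed_closure⟩⟩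
  exact Order.krullDim_nonneg

theorem isClosed_iff_cdim_eq_zero (qX : X ⟶ Spec (CommRingCat.of k)) [LocallyOfFiniteType qX] (x : X) :
    IsClosed ({x} : Set X) ↔ cdim x = 0 := by
  constructor
  · intro h
    refine le_antisymm ?_ (cdim_nonneg x)
    rw [cdim, h.closure_eq]
    haveI : Subsingleton (IrreducibleCloseds ({x} : Set X)) := ⟨fun A B => SetLike.coe_injective <| by
      obtain ⟨a, ha⟩ := A.isIrreducible'.1
      obtain ⟨b, hb⟩ := B.isIrreducible'.1
      ext z
      exact ⟨fun _ => (Subsingleton.elim b z) ▸ hb, fun _ => (Subsingleton.elim a z) ▸ ha⟩⟩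
    exact Order.krullDim_nonpos_of_subsingleton
  · intro h
    rw [← closure_subset_iff_isClosed]
    intro y hy
    by_contra hne
    have hlt := cdim_lt qX (specializes_iff_mem_closure.mpr hy) (Ne.symm hne)
    rw [h] at hlt
    exact absurd hlt (not_lt.mpr (cdim_nonneg y))

theorem exists_closed_point (qX : X ⟶ Spec (CommRingCat.of k)) [LocallyOfFiniteType qX]
    {O : Set X} (hO : IsOpen O) (hne : O.Nonempty) : ∃ x ∈ O, IsClosed ({x} : Set X) := by
  haveI : JacobsonSpace X := LocallyOfFiniteType.jacobsonSpace qX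
  obtain ⟨x, hx⟩ := nonempty_inter_closedPoints hne hO.isLocallyClosed
  exact ⟨x, hx.1, hx.2⟩

theorem isClosed_map (qX : X ⟶ Spec (CommRingCat.of k)) (qY : Y ⟶ Spec (CommRingCat.of k))
    [LocallyOfFiniteType qX] [LocallyOfFiniteType qY] (f : X ⟶ Y) (hf : f ≫ qY = qX) [LocallyOfFiniteType f]
    {x : X} (hx : IsClosed ({x} : Set X)) : IsClosed ({f x} : Set Y) := by
  rw [isClosed_iff_cdim_eq_zero qY]
  refine le_antisymm ?_ (cdim_nonneg _)
  rw [← (isClosed_iff_cdim_eq_zero qX x).mp hx, cdim_eq_add qX qY f hf x]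
  exact le_add_of_nonneg_left (cdim_nonneg _)

theorem exists_dim_eq (qY : Y ⟶ Spec (CommRingCat.of k)) [LocallyOfFiniteType qY] [QuasiCompact qY] [Nonempty Y] :
    ∃ η : Y, η ∈ genericPoints Y ∧ topologicalKrullDim Y = cdim η := by
  haveI : IsLocallyNoetherian Y := LocallyOfFiniteType.isLocallyNoetherian qY
  haveI : CompactSpace Y := QuasiCompact.compactSpace_of_compactSpace qY
  haveI : IsNoetherian Y := {}
  have hfin : (genericPoints Y).Finite := by
    haveI : Finite (irreducibleComponents Y) := NoetherianSpace.finite_irreducibleComponents.to_subtype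
    haveI : Finite (genericPoints Y) := Finite.of_equiv _ genericPoints.equiv.symm
    exact Set.toFinite _
  obtain ⟨η₁, hη₁, -⟩ := Groth.Agent.H8Props.exists_genericPoints_specializes (Classical.arbitrary Y)
  obtain ⟨η, hη, hmax⟩ := hfin.exists_maximalFor (fun y => cdim y) _ ⟨η₁, hη₁⟩
  refine ⟨η, hη, le_antisymm ?_ ?_⟩
  · rw [dim_eq_iSup_cdim]
    refine iSup_le fun y => ?_
    obtain ⟨ξ, hξ, hsp⟩ := Groth.Agent.H8Props.exists_genericPoints_specializes y
    refine (dim_mono (closure_minimal (Set.singleton_subset_iff.mpr hsp.mem_closure) isClosed_closure)).trans ?_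
    rcases le_total (cdim ξ) (cdim η) with h | h
    exacts [h, hmax hξ h]
  · exact topologicalKrullDim_subspace_le Y _

theorem cdim_natCast (qX : X ⟶ Spec (CommRingCat.of k)) [LocallyOfFiniteType qX] (x : X) :
    ∃ s : ℕ, cdim x = s := exists_nat_cdim qX x

theorem cdim_fiber (qX : X ⟶ Spec (CommRingCat.of k)) (qY : Y ⟶ Spec (CommRingCat.of k))
    [LocallyOfFiniteType qX] [LocallyOfFiniteType qY] (f : X ⟶ Y) (hf : f ≫ qY = qX) [LocallyOfFiniteType f]
    {y : Y} (u : f.fiber y) : cdim (f.fiberι y u) = cdim u + cdim y := by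
  have key : ∀ (x : X) (y : Y) (_ : f x = y) (u : f.fiber y), f.fiberι y u = x → cdim x = cdim u + cdim y := by
    rintro x _ rfl u hu
    obtain rfl : f.asFiber x = u := (f.fiberι _).isEmbedding.injective ((f.fiberι_asFiber x).trans hu.symm)
    exact cdim_eq_add qX qY f hf x
  exact key _ y ((f.range_fiberι y).subset (Set.mem_range_self u)) u rfl

theorem add_dim_le (qX : X ⟶ Spec (CommRingCat.of k)) (qY : Y ⟶ Spec (CommRingCat.of k))
    [LocallyOfFiniteType qX] [LocallyOfFiniteType qY] [QuasiCompact qY] (f : X ⟶ Y) (hf : f ≫ qY = qX) [LocallyOfFiniteType f]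
    (r : ℕ) (hfib : ∀ η ∈ genericPoints Y, (r : WithBot ℕ∞) ≤ topologicalKrullDim (f ⁻¹' {η})) :
    (r : WithBot ℕ∞) + topologicalKrullDim Y ≤ topologicalKrullDim X := by
  rcases isEmpty_or_nonempty Y with hY | hY
  · rw [dim_eq_iSup_cdim (X := Y), ciSup_of_empty, WithBot.add_bot]; exact bot_le
  obtain ⟨η, hη, hd⟩ := exists_dim_eq qY
  have h := hfib η hη
  rw [← dim_fiber_eq_preimage] at h
  haveI := locallyOfFiniteType_fiberToSpec f η
  have : ∃ u : f.fiber η, (r : WithBot ℕ∞) ≤ cdim u := by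
    rcases r with _ | r
    · have hne : Nonempty (f.fiber η) := by
        by_contra he
        haveI := not_nonempty_iff.mp he
        rw [dim_eq_iSup_cdim, ciSup_of_empty] at h
        exact absurd h (by simp)
      exact ⟨hne.some, by simpa using cdim_nonneg hne.some⟩
    · by_contra! hcon
      have : topologicalKrullDim (f.fiber η) ≤ (r : ℕ) := by
        rw [dim_eq_iSup_cdim]
        refine iSup_le fun u => ?_
        obtain ⟨s, hs⟩ := exists_nat_cdim (k := Y.residueField η) (f.fiberToSpecResidueField η) u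
        have := hcon u
        rw [hs] at this ⊢
        exact_mod_cast Nat.le_of_lt_succ (by exact_mod_cast this)
      have h' : r + 1 ≤ r := by exact_mod_cast h.trans this
      omega
  obtain ⟨u, hu⟩ := this
  rw [hd]
  calc (r : WithBot ℕ∞) + cdim η ≤ cdim u + cdim η := add_le_add hu le_rfl
    _ = cdim (f.fiberι _ u) := (cdim_fiber qX qY f hf u).symm
    _ ≤ topologicalKrullDim X := topologicalKrullDim_subspace_le X _

theorem dim_le_add (qX : X ⟶ Spec (CommRingCat.of k)) (qY : Y ⟶ Spec (CommRingCat.of k))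
    [LocallyOfFiniteType qX] [LocallyOfFiniteType qY] (f : X ⟶ Y) (hf : f ≫ qY = qX) [LocallyOfFiniteType f]
    (r : ℕ) (hfib : ∀ y : Y, topologicalKrullDim (f ⁻¹' {y}) ≤ r) :
    topologicalKrullDim X ≤ (r : WithBot ℕ∞) + topologicalKrullDim Y := by
  rw [dim_eq_iSup_cdim (X := X)]
  refine iSup_le fun x => ?_
  rw [cdim_eq_add qX qY f hf x]
  refine add_le_add ((le_iSup (fun u => cdim u) (f.asFiber x)).trans ?_) (topologicalKrullDim_subspace_le Y _)
  rw [← dim_eq_iSup_cdim, dim_fiber_eq_preimage]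
  exact hfib _

theorem genericPoint_mem_range (qY : Y ⟶ Spec (CommRingCat.of k)) [LocallyOfFiniteType qY] (f : X ⟶ Y) [QuasiCompact f]
    (hd : DenseRange f) {η : Y} (hη : η ∈ genericPoints Y) : ∃ x, f x = η := by
  obtain ⟨z, hz⟩ := H05EGA4.exists_specializes_of_mem_closure_range f (hd η)
  exact ⟨z, Groth.Agent.H8Props.mem_genericPoints_iff.mp hη _ hz⟩

/-- Irreducible fibres of constant dimension over closed points: structure of the components. -/
theorem component_data (qX : X ⟶ Spec (CommRingCat.of k)) (qY : Y ⟶ Spec (CommRingCat.of k))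
    [LocallyOfFiniteType qX] [QuasiCompact qX] [LocallyOfFiniteType qY] (f : X ⟶ Y) (hf : f ≫ qY = qX)
    [LocallyOfFiniteType f] [QuasiCompact f] (d : ℕ)
    (hirr : ∀ y : Y, IsClosed ({y} : Set Y) → IsIrreducible (f ⁻¹' {y}))
    (hdim : ∀ y : Y, IsClosed ({y} : Set Y) → topologicalKrullDim (f ⁻¹' {y}) = d)
    (Z : Set X) (hZ : Z ∈ irreducibleComponents X) :
    (∀ y : Y, IsClosed ({y} : Set Y) → (f ⁻¹' {y} ∩ Z).Nonempty → f ⁻¹' {y} ⊆ Z) ∧
    topologicalKrullDim Z = d + topologicalKrullDim (closure (f '' Z)) ∧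
    ∃ O : Set X, IsOpen O ∧ O.Nonempty ∧ O ⊆ Z ∧ ∀ Z' ∈ irreducibleComponents X, Z' ≠ Z → Disjoint O Z' := by
  obtain ⟨η, rfl, hmax⟩ := mem_irreducibleComponents_iff hZ
  haveI : IsLocallyNoetherian X := LocallyOfFiniteType.isLocallyNoetherian qX
  haveI : CompactSpace X := QuasiCompact.compactSpace_of_compactSpace qX
  haveI : IsNoetherian X := {}
  let C : Closeds X := ⟨closure {η}, isClosed_closure⟩
  let i := (Scheme.IdealSheafData.vanishingIdeal C).subschemeι
  let g := i ≫ f
  have hi : Set.range i = closure {η} := by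
    rw [Scheme.IdealSheafData.range_subschemeι, Scheme.IdealSheafData.coe_support_vanishingIdeal]; rfl
  obtain ⟨ζ, hζ⟩ : η ∈ Set.range i := hi ▸ subset_closure rfl
  have hζsp : ∀ w, ζ ⤳ w := fun w => i.isClosedEmbedding.isInducing.specializes_iff.mp
    (hζ ▸ specializes_iff_mem_closure.mpr (hi ▸ Set.mem_range_self w))
  haveI := locallyOfFiniteType_fiberToSpec g (g ζ)
  obtain ⟨e, he⟩ := exists_nat_cdim (k := Y.residueField (g ζ)) (g.fiberToSpecResidueField (g ζ)) (g.asFiber ζ)
  have hfibζ : FlatMor.fibreDimAt g ζ = e := by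
    haveI := locallyOfFiniteType_fiberToSpec g (g ζ)
    rw [← he]
    refine localDim_of_maximal (k := Y.residueField (g ζ)) (g.fiberToSpecResidueField (g ζ)) _ fun w hw => ?_
    refine (g.fiberι _).isEmbedding.injective ?_
    rw [g.fiberι_asFiber]
    have := hw.map (g.fiberι _).continuous
    rw [g.fiberι_asFiber] at this
    exact (this.antisymm (hζsp _)).eq
  have hle : ∀ w, (e : WithBot ℕ∞) ≤ FlatMor.fibreDimAt g w := fun w =>
    hfibζ ▸ fibreDimAt_le_of_specializes g (hζsp w)
  have hfib : ∀ y, topologicalKrullDim (g.fiber y) = topologicalKrullDim (f ⁻¹' {y} ∩ closure {η} : Set X) := fun y => by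
    rw [dim_fiber_eq_preimage, show g ⁻¹' {y} = i ⁻¹' (f ⁻¹' {y}) from rfl, dim_preimage i.isClosedEmbedding.isEmbedding, hi]
  -- the closed fibre through a point of the component avoiding the other components
  let O : Set X := (⋃ Z' ∈ irreducibleComponents X \ {closure {η}}, Z')ᶜ
  have hO : IsOpen O := by
    rw [isOpen_compl_iff]
    exact (NoetherianSpace.finite_irreducibleComponents.sdiff).isClosed_biUnion fun Z' hZ' =>
      isClosed_of_mem_irreducibleComponents Z' hZ'.1
  have hηO : η ∈ O := by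
    simp only [O, Set.mem_compl_iff, Set.mem_iUnion, not_exists]
    intro Z' hZ' hη
    refine hZ'.2 ?_
    have hsub := (isClosed_of_mem_irreducibleComponents Z' hZ'.1).closure_subset_iff.mpr (Set.singleton_subset_iff.mpr hη)
    exact (hsub.antisymm (hZ.2 hZ'.1.1 hsub)).symm
  have hOd : ∀ Z' ∈ irreducibleComponents X, Z' ≠ closure {η} → Disjoint O Z' := fun Z' hZ' hne =>
    Set.disjoint_left.mpr fun x hx hxZ' => hx (Set.mem_biUnion ⟨hZ', hne⟩ hxZ')
  have hOZ : O ⊆ closure {η} := fun x hx => by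
    by_contra hne
    exact hx (Set.mem_biUnion ⟨irreducibleComponent_mem_irreducibleComponents x,
      fun h => hne (h ▸ mem_irreducibleComponent)⟩ mem_irreducibleComponent)
  haveI := locallyOfFiniteType_fiberToSpec g (g ζ)
  have hdimgen : topologicalKrullDim (g.fiber (g ζ)) ≤ e := by
    rw [dim_eq_iSup_cdim]
    refine iSup_le fun u => ?_
    have hu : g.asFiber ζ ⤳ u := by
      apply (g.fiberι _).isEmbedding.isInducing.specializes_iff.mp
      rw [g.fiberι_asFiber]
      exact hζsp _
    rw [← he]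
    exact dim_mono (closure_minimal (Set.singleton_subset_iff.mpr hu.mem_closure) isClosed_closure)
  obtain ⟨V, hV, hVle⟩ := Groth.Agent.H7Flat.exists_nhd_dim_fiber_le g (g ζ) e fun t ht => by
    rw [Groth.Agent.H7Flat.dim_fiber_le_iff]
    intro w hw
    have h1 : g ζ ⤳ g w := (hζsp w).map g.continuous
    have hwζ : g w = g ζ := (ht.antisymm (hw ▸ h1)).eq ▸ hw
    exact ((Groth.Agent.H7Flat.dim_fiber_le_iff g _ _).mp le_rfl w hwζ).trans hdimgen
  have hηV : η ∈ f ⁻¹' (V : Set Y) := by
    show f η ∈ V; rw [← hζ]; exact hV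
  obtain ⟨x₁, ⟨hx₁O, hx₁V⟩, hx₁⟩ := exists_closed_point qX (hO.inter (V.isOpen.preimage f.continuous)) ⟨η, hηO, hηV⟩
  have ht := isClosed_map qX qY f hf hx₁
  have hsub : f ⁻¹' {f x₁} ⊆ closure {η} := by
    obtain ⟨Z', hZ', hZ'sub⟩ := exists_mem_irreducibleComponents_subset_of_isIrreducible _ (hirr _ ht)
    by_cases hne : Z' = closure {η}
    · exact hne ▸ hZ'sub
    · exact absurd (hZ'sub rfl) (Set.disjoint_left.mp (hOd Z' hZ' hne) hx₁O)
  have hde : d ≤ e := by
    have h1 := hVle (f x₁) hx₁V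
    rw [hfib, Set.inter_eq_left.mpr hsub, hdim _ ht] at h1
    exact_mod_cast h1
  refine ⟨fun y hy hne => ?_, ?_, O, hO, ⟨η, hηO⟩, hOZ, hOd⟩
  · haveI := locallyOfFiniteType_fiberToSpec f y
    haveI : IrreducibleSpace (f.fiber y) := (f.fiberHomeo y).symm.irreducibleSpace_iff.mp
      (isIrreducible_iff_irreducibleSpace.mp (hirr y hy))
    have hT : IsClosed (f.fiberι y ⁻¹' closure {η}) := isClosed_closure.preimage (f.fiberι y).continuous
    by_cases hgen : genericPoint (f.fiber y) ∈ f.fiberι y ⁻¹' closure {η}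
    · intro x hx
      obtain ⟨u, rfl⟩ : x ∈ Set.range (f.fiberι y) := by rw [f.range_fiberι]; exact hx
      exact (genericPoint_specializes u).mem_closed hT hgen
    exfalso
    haveI : QuasiSober (f.fiberι y ⁻¹' closure {η}) := hT.isClosedEmbedding_subtypeVal.quasiSober
    have hlt : ∀ w : f.fiberι y ⁻¹' closure {η}, cdim w < (d : WithBot ℕ∞) := fun w => by
      rw [← cdim_emb hT.isClosedEmbedding_subtypeVal w]
      have h1 : cdim (genericPoint (f.fiber y)) = d := by
        rw [cdim, genericPoint_closure, ← hdim y hy, ← dim_fiber_eq_preimage]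
        exact (IsHomeomorph.topologicalKrullDim_eq _ (Homeomorph.Set.univ _).isHomeomorph)
      rw [← h1]
      exact cdim_lt (k := Y.residueField y) (f.fiberToSpecResidueField y) (genericPoint_specializes _)
        (fun e => hgen (e ▸ w.2))
    obtain ⟨x, hx, hxZ⟩ := hne
    obtain ⟨w, rfl⟩ : x ∈ Set.range i := hi ▸ hxZ
    have h2 : (e : WithBot ℕ∞) ≤ topologicalKrullDim (f.fiberι y ⁻¹' closure {η}) := by
      refine (hle w).trans ?_
      have : FlatMor.fibreDimAt g w ≤ topologicalKrullDim (g.fiber y) :=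
        (Groth.Agent.H7Flat.dim_fiber_le_iff g _ _).mp le_rfl w hx
      rw [hfib] at this
      rwa [dim_preimage (f.fiberι y).isEmbedding, f.range_fiberι, Set.inter_comm]
    obtain ⟨d', rfl⟩ : ∃ d', d = d' + 1 := by
      rcases d with _ | d'
      · obtain ⟨v, hv⟩ : (⟨_, hxZ⟩ : closure ({η} : Set X)).1 ∈ Set.range (f.fiberι y) := by
          rw [f.range_fiberι]; exact hx
        exact absurd (hlt ⟨v, by show f.fiberι y v ∈ closure {η}; rw [hv]; exact hxZ⟩) (not_lt.mpr (by simpa using cdim_nonneg _))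
      · exact ⟨d', rfl⟩
    have h3 : topologicalKrullDim (f.fiberι y ⁻¹' closure {η}) ≤ (d' : ℕ) := by
      rw [dim_eq_iSup_cdim]
      refine iSup_le fun w => ?_
      obtain ⟨s, hs⟩ := exists_nat_cdim (k := Y.residueField y) (f.fiberToSpecResidueField y) (w : f.fiber y)
      rw [cdim_emb hT.isClosedEmbedding_subtypeVal w] at hs
      have := hlt w
      rw [hs] at this ⊢
      exact_mod_cast Nat.le_of_lt_succ (by exact_mod_cast this)
    have := h2.trans h3
    have : e ≤ d' := by exact_mod_cast this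
    omega
  · have hed : e ≤ d := by
      obtain ⟨w, hw⟩ : x₁ ∈ Set.range i := hi ▸ hOZ hx₁O
      have h1 : FlatMor.fibreDimAt g w ≤ topologicalKrullDim (g.fiber (f x₁)) :=
        (Groth.Agent.H7Flat.dim_fiber_le_iff g _ _).mp le_rfl w (congrArg f hw)
      rw [hfib, Set.inter_eq_left.mpr hsub, hdim _ ht] at h1
      exact_mod_cast (hle w).trans h1
    obtain rfl : e = d := le_antisymm hed hde
    have him : closure (f '' closure {η}) = closure {g ζ} := by
      rw [closure_image_closure f.continuous, Set.image_singleton]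
      show closure {f η} = closure {f (i ζ)}
      rw [hζ]
    rw [him]
    show cdim η = _
    rw [← hζ, cdim_emb i.isClosedEmbedding ζ, cdim_eq_add (i ≫ qX) qY g (by rw [Category.assoc, hf]) ζ, he]
    rfl

theorem existsUnique_dominant (qX : X ⟶ Spec (CommRingCat.of k)) (qY : Y ⟶ Spec (CommRingCat.of k))
    [LocallyOfFiniteType qX] [QuasiCompact qX] [LocallyOfFiniteType qY] [IrreducibleSpace Y] (f : X ⟶ Y) (hf : f ≫ qY = qX)
    [LocallyOfFiniteType f] [QuasiCompact f] (d : ℕ)
    (hirr : ∀ y : Y, IsClosed ({y} : Set Y) → IsIrreducible (f ⁻¹' {y}))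
    (hdim : ∀ y : Y, IsClosed ({y} : Set Y) → topologicalKrullDim (f ⁻¹' {y}) = d) :
    ∃! Z : Set X, Z ∈ irreducibleComponents X ∧ Dense (f '' Z) := by
  haveI : JacobsonSpace Y := LocallyOfFiniteType.jacobsonSpace qY
  have hdense : DenseRange f := by
    intro y
    refine closure_mono ?_ ((closure_closedPoints (X := Y)).symm ▸ Set.mem_univ y : y ∈ closure (closedPoints Y))
    intro c hc
    obtain ⟨x, hx⟩ := (hirr c hc).1
    exact ⟨x, hx⟩
  have hgY : genericPoint Y ∈ genericPoints Y := by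
    show closure {genericPoint Y} ∈ irreducibleComponents Y
    rw [genericPoint_closure, irreducibleComponents_eq_singleton]
    rfl
  obtain ⟨x, hx⟩ := genericPoint_mem_range qY f hdense hgY
  obtain ⟨η, hη, hsp⟩ := Groth.Agent.H8Props.exists_genericPoints_specializes x
  have hfη : f η = genericPoint Y := by
    have := hsp.map f.continuous
    rw [hx] at this
    exact (this.antisymm (genericPoint_specializes _)).eq
  refine ⟨closure {η}, ⟨hη, ?_⟩, fun Z' hZ' => ?_⟩
  · rw [dense_iff_closure_eq, Set.eq_univ_iff_forall]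
    intro y
    exact closure_mono (Set.singleton_subset_iff.mpr ⟨η, subset_closure rfl, hfη⟩ : {genericPoint Y} ⊆ f '' closure {η})
      ((genericPoint_specializes y).mem_closure)
  by_contra hne
  obtain ⟨η', rfl, -⟩ := mem_irreducibleComponents_iff hZ'.1
  have hfη' : f η' = genericPoint Y := by
    refine ((genericPoint_spec Y).eq ?_).symm
    have := hZ'.2.closure_eq
    rwa [closure_image_closure f.continuous, Set.image_singleton] at this
  obtain ⟨h1, -, O, hO, hOne, hOZ, -⟩ := component_data qX qY f hf d hirr hdim _ hη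
  obtain ⟨-, -, O', hO', hO'ne, hO'Z, hO'd⟩ := component_data qX qY f hf d hirr hdim _ hZ'.1
  have hη'O' : η' ∈ O' := by
    obtain ⟨z, hz⟩ := hO'ne
    exact (specializes_iff_mem_closure.mpr (hO'Z hz)).mem_open hO' hz
  have hηO : η ∈ O := by
    obtain ⟨z, hz⟩ := hOne
    exact (specializes_iff_mem_closure.mpr (hOZ hz)).mem_open hO hz
  let U : X.Opens := ⟨O', hO'⟩
  let h := U.ι ≫ f
  let a : (U : Scheme.{u}) := ⟨η', hη'O'⟩
  haveI := locallyOfFiniteType_fiberToSpec h (h a)
  obtain ⟨n, hn, hn'⟩ := exists_trdeg_fiber h (h.asFiber a)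
  have htr : (letI := (h.residueFieldMap a).hom.toAlgebra
      Algebra.trdeg (Y.residueField (h a)) ((U : Scheme.{u}).residueField a)) = n := by
    have key : ∀ x', x' = a → @Algebra.trdeg (Y.residueField (h.base x')) ((U : Scheme.{u}).residueField x') _ _
      (h.residueFieldMap x').hom.toAlgebra = n → @Algebra.trdeg (Y.residueField (h.base a)) ((U : Scheme.{u}).residueField a) _ _
      (h.residueFieldMap a).hom.toAlgebra = n := by rintro x' rfl hx'; exact hx'
    exact key _ (h.fiberι_asFiber a) hn'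
  obtain ⟨W, haW, hW⟩ := Groth.Agent.H7Flat.exists_nhd_le_dim_fiber_of_trdeg h a (fun y => by
    show f η' ⤳ y; rw [hfη']; exact genericPoint_specializes y) n htr
  have hηW : η ∈ f ⁻¹' (W : Set Y) := by
    show f η ∈ W; rw [hfη, ← hfη']; exact haW
  obtain ⟨x₁, ⟨hx₁O, hx₁W⟩, hx₁⟩ := exists_closed_point qX (hO.inter (W.isOpen.preimage f.continuous)) ⟨η, hηO, hηW⟩
  have ht := isClosed_map qX qY f hf hx₁
  obtain ⟨u⟩ : Nonempty (h.fiber (f x₁)) := by
    by_contra he
    haveI := not_nonempty_iff.mp he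
    have := hW (f x₁) hx₁W
    rw [dim_eq_iSup_cdim, ciSup_of_empty] at this
    exact absurd this (by simp)
  have hu : f (U.ι (h.fiberι _ u)) = f x₁ := (h.range_fiberι _).subset (Set.mem_range_self u)
  exact Set.disjoint_left.mp (hO'd _ hη (Ne.symm hne)) (h.fiberι _ u).2
    (h1 _ ht ⟨x₁, rfl, hOZ hx₁O⟩ hu)

end Groth.Agent.H22Alg.FibreCount
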