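import Mathlib
import Groth.Agent.H22Alg.ESZPush
import Groth.Agent.H22Alg.GlobalFunctions
import Groth.Agent.H28Mero.ZeroScheme
import Groth.Agent.H11Sym.InvertibleInverse
import Groth.Agent.H25Euler.Mult

/-!
# Zero schemes of regular sections of ample modules are connected
-/

set_option autoImplicit false
set_option linter.style.haveILetI false

universe u

open CategoryTheory CategoryTheory.Limits AlgebraicGeometry Opposite TopologicalSpace
open scoped TensorProduct

namespace Groth.Agent.H22Alg.ESZConn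

variable {X : Scheme.{u}}

theorem isUnit_add_of_nonunit {R : Type u} [CommRing R] [IsLocalRing R] {a b : R} (ha : ¬ IsUnit a)
    (hb : IsUnit b) : IsUnit (a + b) := by
  by_contra h
  have h1 := Ideal.sub_mem _ ((IsLocalRing.mem_maximalIdeal _).2 h) ((IsLocalRing.mem_maximalIdeal a).2 ha)
  rw [add_sub_cancel_left] at h1
  exact (IsLocalRing.mem_maximalIdeal b).1 h1 hb

/-- A global function on a connected scheme proper over a field is everywhere or nowhere invertible. -/
theorem isUnit_germ_dichotomy {k : Type u} [Field k] (π : X ⟶ Spec (CommRingCat.of k)) [UniversallyClosed π]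
    [PreconnectedSpace X] (f : Γ(X, ⊤)) :
    (∀ x : X, x ∈ X.basicOpen f) ∨ ∀ x : X, x ∉ X.basicOpen f := by
  letI := GlobalFunctions.algΓ π
  haveI := GlobalFunctions.isIntegral_algΓ π
  obtain ⟨p, hp, hpf⟩ := Algebra.IsIntegral.isIntegral (R := k) f
  obtain ⟨q, hq, hq0⟩ := Polynomial.exists_eq_pow_rootMultiplicity_mul_and_not_dvd p hp.ne_zero 0
  rw [map_zero, sub_zero] at hq hq0
  have hc : q.coeff 0 ≠ 0 := fun h => hq0 (Polynomial.X_dvd_iff.2 h)
  have hf : Polynomial.aeval f p = 0 := by rw [Polynomial.aeval_def]; exact hpf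
  rw [hq, map_mul, map_pow, Polynomial.aeval_X] at hf
  let v : Γ(X, ⊤) := Polynomial.aeval f q
  have hv : v = f * Polynomial.aeval f q.divX + algebraMap k Γ(X, ⊤) (q.coeff 0) := by
    conv_lhs => rw [show v = Polynomial.aeval f q from rfl, ← Polynomial.X_mul_divX_add q]
    rw [map_add, map_mul, Polynomial.aeval_X, Polynomial.aeval_C]
  have hcompl : (X.basicOpen f : Set X)ᶜ = X.basicOpen v := by
    ext x
    rw [Set.mem_compl_iff, SetLike.mem_coe, SetLike.mem_coe, X.mem_basicOpen f x trivial,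
      X.mem_basicOpen v x trivial]
    constructor
    · intro hx
      rw [hv, map_add, map_mul]
      refine isUnit_add_of_nonunit (fun hu => hx (isUnit_of_mul_isUnit_left hu)) ?_
      exact ((hc.isUnit).map (algebraMap k Γ(X, ⊤))).map (X.presheaf.germ ⊤ x trivial).hom
    · intro hx hfx
      have := congrArg (X.presheaf.germ ⊤ x trivial) hf
      rw [map_mul, map_pow, map_zero] at this
      exact not_isUnit_zero (this ▸ (hfx.pow _).mul hx)
  rcases isClopen_iff.1 (show IsClopen (X.basicOpen f : Set X) from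
      ⟨isOpen_compl_iff.1 (hcompl ▸ (X.basicOpen v).isOpen), (X.basicOpen f).isOpen⟩) with h | h
  · exact Or.inr fun x hx => by have : x ∈ (X.basicOpen f : Set X) := hx; rw [h] at this; exact this
  · exact Or.inl fun x => show x ∈ (X.basicOpen f : Set X) by rw [h]; trivial

/-- The stalks of `F ⊗ N` vanish where those of `F` do, and only there. -/
theorem subsingleton_tensor_stalk_iff {N : X.Modules} (hN : PicF.IsInvertible N) (F : X.Modules) (x : X) :
    Subsingleton ((CohB1.tensorMod F N).presheaf.stalk x) ↔ Subsingleton (F.presheaf.stalk x) := by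
  obtain ⟨V, e, hxV, he⟩ := H11Ample.exists_gen hN x
  let ε : N.presheaf.stalk x ≃ₗ[X.presheaf.stalk x] X.presheaf.stalk x :=
    (LinearEquiv.ofBijective (LinearMap.toSpanSingleton (X.presheaf.stalk x) (N.presheaf.stalk x)
      (N.presheaf.germ V x hxV e)) (he x hxV)).symm
  exact ((H16Derived.KFlat.Stalk.stalkEquiv F N x).symm ≪≫ₗ
    (TensorProduct.congr (LinearEquiv.refl _ _) ε ≪≫ₗ TensorProduct.rid _ _)).toEquiv.subsingleton_congr

/-- The stalk map of a global section. -/
theorem stalkLin_homOfGlobal (M : X.Modules) (g : Γ(M, ⊤)) (x : X)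
    (a : (Coh.structureModule X).presheaf.stalk x) :
    ∃ r : X.presheaf.stalk x, (a = r • (Coh.structureModule X).presheaf.germ ⊤ x trivial (H11Ample.one ⊤)) ∧
      H06Mod.stalkLin (H11Tilde.homOfGlobal M g) x a = r • M.presheaf.germ ⊤ x trivial g := by
  obtain ⟨r, hr⟩ := (H11Ample.isGen_one (X := X) ⊤ x trivial).2 a
  refine ⟨r, hr.symm, ?_⟩
  rw [← hr, map_smul, H06Mod.stalkLin_germ]
  congr 2
  refine (H11Tilde.homOfGlobal_app M g ⊤ _).trans ?_
  rw [show (show Γ(X, ⊤) from H11Ample.one ⊤) = 1 from rfl, one_smul]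
  exact H10Coh.mres_self M _ _

theorem mono_homOfGlobal {M : X.Modules} (g : Γ(M, ⊤))
    (h : ∀ x : X, Function.Injective fun r : X.presheaf.stalk x => r • M.presheaf.germ ⊤ x trivial g) :
    Mono (H11Tilde.homOfGlobal M g) := by
  refine H11Tilde.mono_of_injective _ fun W t ht x hx => ?_
  obtain ⟨r, hr, hr'⟩ := stalkLin_homOfGlobal M g x ((Coh.structureModule X).presheaf.germ W x hx t)
  rw [H06Mod.stalkLin_germ, show (H11Tilde.homOfGlobal M g).app W t = 0 from ht, map_zero] at hr'
  have : r = 0 := h x (hr'.symm.trans (zero_smul _ _).symm)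
  rw [this, zero_smul] at hr
  obtain ⟨V, hxV, iV, iW, hV⟩ := (Coh.structureModule X).presheaf.germ_eq x hx hx t 0 (hr.trans (map_zero _).symm)
  exact ⟨V, iV.le, hxV, hV.trans (map_zero _)⟩

/-- Powers of a regular section are regular. -/
theorem regular_spow {L : X.Modules} (hL : PicF.IsInvertible L) (g : Γ(L, ⊤)) (x : X)
    (h : Function.Injective fun r : X.presheaf.stalk x => r • L.presheaf.germ ⊤ x trivial g) (m : ℕ) :
    Function.Injective fun r : X.presheaf.stalk x =>
      r • (CohB1.tensorPow L m).presheaf.germ ⊤ x trivial (H11Ample.spow g m) := by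
  obtain ⟨V, e, hxV, he⟩ := H11Ample.exists_gen hL x
  obtain ⟨c, hc⟩ := H11Ample.exists_coeff he (L.presheaf.map (homOfLE (le_top : V ≤ ⊤)).op g)
  have h1 : L.presheaf.germ ⊤ x trivial g = X.presheaf.germ V x hxV c • L.presheaf.germ V x hxV e := by
    rw [← TopCat.Presheaf.germ_res_apply L.presheaf (homOfLE (le_top : V ≤ ⊤)) x hxV, hc, H06Mod.germ_smul]
  have h2 : (CohB1.tensorPow L m).presheaf.germ ⊤ x trivial (H11Ample.spow g m) =
      X.presheaf.germ V x hxV c ^ m • (CohB1.tensorPow L m).presheaf.germ V x hxV (H11Ample.spow e m) := by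
    rw [← TopCat.Presheaf.germ_res_apply (CohB1.tensorPow L m).presheaf (homOfLE (le_top : V ≤ ⊤)) x hxV,
      H11Ample.spow_res, hc, H11Ample.spow_smul, H06Mod.germ_smul, map_pow]
  have hcr : X.presheaf.germ V x hxV c ∈ nonZeroDivisors (X.presheaf.stalk x) :=
    mem_nonZeroDivisors_iff_right.mpr fun r hr => h (by
      show r • _ = (0 : X.presheaf.stalk x) • _
      rw [h1, smul_smul, hr, zero_smul, zero_smul])
  intro r r' hrr
  simp only [h2, smul_smul] at hrr
  exact (mul_cancel_right_mem_nonZeroDivisors (pow_mem hcr m)).1 ((H11Ample.isGen_spow he m x hxV).1 hrr)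

/-- The support of the cokernel of a global section is where it does not generate. -/
theorem subsingleton_coker_iff {M : X.Modules} (hM : PicF.IsInvertible M) (g : Γ(M, ⊤)) (x : X) :
    Subsingleton ((cokernel (H11Tilde.homOfGlobal M g)).presheaf.stalk x) ↔ x ∈ H11Ample.gen M g := by
  constructor
  · intro h
    exact H25Euler.mem_gen_of_notMem_support_coker hM g (not_not.2 h)
  · intro hx
    refine subsingleton_of_forall_eq 0 fun q => ?_
    obtain ⟨b, rfl⟩ := H06Mod.surjective_stalk_of_epi (cokernel.π (H11Tilde.homOfGlobal M g)) x q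
    obtain ⟨r, hr⟩ := ((H11Ample.mem_gen_iff hM g x).1 hx).2 b
    rw [← show _ = b from hr]
    show H06Mod.stalkLin (cokernel.π (H11Tilde.homOfGlobal M g)) x (r • _) = 0
    rw [map_smul, H06Mod.stalkLin_germ]
    have hz : (cokernel.π (H11Tilde.homOfGlobal M g)).app ⊤ g = 0 := by
      have h0 := congr($(congrArg (fun φ : Coh.structureModule X ⟶ _ => Scheme.Modules.Hom.app φ ⊤)
        (cokernel.condition (H11Tilde.homOfGlobal M g))) (H11Ample.one ⊤))
      refine Eq.trans (congrArg _ ?_) h0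
      refine ((H11Tilde.homOfGlobal_app M g ⊤ _).trans ?_).symm
      rw [show (show Γ(X, ⊤) from H11Ample.one ⊤) = 1 from rfl, one_smul]
      exact H10Coh.mres_self M _ _
    rw [hz, map_zero, smul_zero]

/-- An epimorphism `O → Q` with `H¹` of its kernel zero splits no support in two. -/
theorem isPreconnected_support {k : Type u} [Field k] (π : X ⟶ Spec (CommRingCat.of k)) [UniversallyClosed π]
    [PreconnectedSpace X] {S : ShortComplex X.Modules} (hS : S.ShortExact) (e : Coh.structureModule X ≅ S.X₂)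
    (h1 : Subsingleton (H10Coh.HnM S.X₁ 1 ⊤)) {Z : Set X} (hZ : IsClosed Z)
    (hsupp : ∀ x, Subsingleton (S.X₃.presheaf.stalk x) ↔ x ∉ Z) : _root_.IsPreconnected Z := by
  rw [isPreconnected_closed_iff]
  intro A B hA hB hcov hZA hZB
  by_contra hne
  let UA : X.Opens := ⟨(B ∩ Z)ᶜ, (hB.inter hZ).isOpen_compl⟩
  let UB : X.Opens := ⟨(A ∩ Z)ᶜ, (hA.inter hZ).isOpen_compl⟩
  have hout : ∀ x ∈ UA ⊓ UB, x ∉ Z := fun x hx hxZ => by
    rcases hcov hxZ with h | h
    · exact hx.2 ⟨h, hxZ⟩
    · exact hx.1 ⟨h, hxZ⟩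
  let φ : Coh.structureModule X ⟶ S.X₃ := e.hom ≫ S.g
  let q : Γ(S.X₃, ⊤) := φ.app ⊤ (H11Ample.one ⊤)
  obtain ⟨w, hw₁, hw₂⟩ := H10Coh.glue_two S.X₃ (U := UA) (V := UB)
    (S.X₃.presheaf.map (homOfLE (le_top : UA ≤ ⊤)).op q) 0
    (NegTwist.sec_ext fun x hx => @Subsingleton.elim _ ((hsupp x).2 (hout x hx)) _ _)
  have htop : (⊤ : X.Opens) ≤ UA ⊔ UB := fun x _ => by
    by_cases hxA : x ∈ A ∩ Z
    · exact Or.inl fun hxB => hne ⟨x, hxA.2, hxA.1, hxB.1⟩
    · exact Or.inr hxA
  obtain ⟨t, ht⟩ := H10Coh.surjective_app_of_subsingleton_HnM hS ⊤ h1 (S.X₃.presheaf.map (homOfLE htop).op w)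
  let f : Γ(X, ⊤) := e.inv.app ⊤ t
  have hft : φ.app ⊤ f = S.X₃.presheaf.map (homOfLE htop).op w := by
    rw [← ht]
    show S.g.app ⊤ (e.hom.app ⊤ (e.inv.app ⊤ t)) = _
    congr 1
    rw [← ConcreteCategory.comp_apply, ← Scheme.Modules.Hom.comp_app, e.inv_hom_id]
    rfl
  have hlin : φ.app ⊤ f = f • q := by
    rw [show q = φ.app ⊤ (H11Ample.one ⊤) from rfl, ← Scheme.Modules.Hom.app_smul]
    congr 1
    exact (mul_one (show Γ(X, ⊤) from f)).symm
  haveI : Epi S.g := hS.epi_g
  haveI : Epi φ := epi_comp _ _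
  have hgen : ∀ x : X, S.X₃.presheaf.germ ⊤ x trivial q = 0 → x ∉ Z := fun x hx => by
    refine (hsupp x).1 (subsingleton_of_forall_eq 0 fun s => ?_)
    obtain ⟨a, rfl⟩ := H06Mod.surjective_stalk_of_epi φ x s
    obtain ⟨r, hr⟩ := (H11Ample.isGen_one (X := X) ⊤ x trivial).2 a
    show H06Mod.stalkLin φ x a = 0
    rw [← show _ = a from hr, map_smul, H06Mod.stalkLin_germ]
    exact (congrArg (r • ·) hx).trans (smul_zero _)
  have hA' : ∀ x ∈ A ∩ Z, x ∈ UA → X.presheaf.germ ⊤ x trivial f • S.X₃.presheaf.germ ⊤ x trivial q =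
      S.X₃.presheaf.germ ⊤ x trivial q := fun x hx hxU => by
    rw [← H06Mod.germ_smul, ← hlin, hft, TopCat.Presheaf.germ_res_apply,
      ← TopCat.Presheaf.germ_res_apply S.X₃.presheaf (homOfLE (le_sup_left : UA ≤ UA ⊔ UB)) x hxU]
    refine (congrArg (S.X₃.presheaf.germ UA x hxU) hw₁).trans ?_
    exact TopCat.Presheaf.germ_res_apply _ _ _ _ _
  have hB' : ∀ x ∈ B ∩ Z, x ∈ UB → X.presheaf.germ ⊤ x trivial f • S.X₃.presheaf.germ ⊤ x trivial q = 0 :=
    fun x hx hxU => by
    rw [← H06Mod.germ_smul, ← hlin, hft, TopCat.Presheaf.germ_res_apply,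
      ← TopCat.Presheaf.germ_res_apply S.X₃.presheaf (homOfLE (le_sup_right : UB ≤ UA ⊔ UB)) x hxU]
    exact (congrArg (S.X₃.presheaf.germ UB x hxU) hw₂).trans (map_zero _)
  obtain ⟨a, haZ, ha⟩ := hZA
  obtain ⟨b, hbZ, hb⟩ := hZB
  have haU : a ∈ UA := fun h => hne ⟨a, haZ, ha, h.1⟩
  have hbU : b ∈ UB := fun h => hne ⟨b, hbZ, h.1, hb⟩
  rcases isUnit_germ_dichotomy π f with h | h
  · have hu : IsUnit (X.presheaf.germ ⊤ b trivial f) := (X.mem_basicOpen f b trivial).1 (h b)
    exact hgen b ((hu.smul_eq_zero).1 (hB' b ⟨hb, hbZ⟩ hbU)) hbZ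
  · have hu : ¬ IsUnit (X.presheaf.germ ⊤ a trivial f) := fun hu => h a ((X.mem_basicOpen f a trivial).2 hu)
    have h1 : (X.presheaf.germ ⊤ a trivial f - 1) • S.X₃.presheaf.germ ⊤ a trivial q = 0 := by
      rw [sub_smul, hA' a ⟨ha, haZ⟩ haU, one_smul, sub_self]
    have hu' : IsUnit (X.presheaf.germ ⊤ a trivial f - 1) := by
      rw [sub_eq_add_neg]
      exact isUnit_add_of_nonunit hu isUnit_one.neg
    exact hgen a (hu'.smul_eq_zero.1 h1) haZ

/-- The zero scheme of a regular section of an ample module is connected. -/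
theorem connectedSpace (k : Type u) [Field k] [X.Over (Spec (CommRingCat.of k))]
    [IsProper (X ↘ Spec (CommRingCat.of k))] [ConnectedSpace X] {L : X.Modules} (hL : CohB1.IsAmple L)
    (s : Coh.structureModule X ⟶ L) [Mono s]
    (hdepth : ∀ x : X, IsClosed ({x} : Set X) → 2 ≤ LocCoh.depth (X.presheaf.stalk x) (X.presheaf.stalk x)) :
    ConnectedSpace ↥(PicF2.zeroScheme L s).subscheme := by
  haveI := H28Int.isNoetherian k (X := X)
  let g : Γ(L, ⊤) := SecTwist.val s ⊤
  have hLi := hL.1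
  have hs : H11Tilde.homOfGlobal L g = s := by
    refine Scheme.Modules.hom_ext _ _ fun W => ?_
    ext r
    exact (H06Mod.app_unit s W r).symm
  have hreg : ∀ x : X, Function.Injective fun r : X.presheaf.stalk x => r • L.presheaf.germ ⊤ x trivial g := by
    intro x r r' hrr
    have hinj : Function.Injective (H06Mod.stalkLin s x) := H06Mod.stalk_injective
      (ShortComplex.mk s (cokernel.π s) (cokernel.condition s))
      (ShortComplex.ShortExact.mk' (ShortComplex.exact_cokernel s) inferInstance inferInstance) x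
    let o := (Coh.structureModule X).presheaf.germ ⊤ x trivial (H11Ample.one ⊤)
    have ho : ∀ r : X.presheaf.stalk x, H06Mod.stalkLin s x (r • o) = r • L.presheaf.germ ⊤ x trivial g := fun r => by
      rw [map_smul, H06Mod.stalkLin_germ]
      rfl
    exact (H11Ample.isGen_one (X := X) ⊤ x trivial).1 (hinj ((ho r).trans (hrr.trans (ho r').symm)))
  have hsupp : ∀ x : X, x ∈ (PicF2.zeroScheme L s).support ↔ x ∉ H11Ample.gen L g := by
    intro x
    have he : PicF2.zeroScheme L s =
        H28Mero.germIdealSheaf (H28Mero.zeroGerm L s) (H28Mero.isLocPrincipal_zeroGerm L s hLi) :=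
      Scheme.IdealSheafData.ext (funext fun V => H28Mero.zeroScheme_ideal L s hLi hreg V)
    rw [he]
    show H28Mero.zeroGerm L s x ≠ ⊤ ↔ _
    obtain ⟨V, e, hxV, hge⟩ := H11Ample.exists_gen hLi x
    obtain ⟨c, hc⟩ := (hge x hxV).2 (H28Mero.sGerm L s x)
    rw [H28Mero.zeroGerm_eq_span L s (hge x hxV) hc.symm, Ne, Ideal.span_singleton_eq_top, H11Ample.mem_gen_iff hLi]
    refine not_congr ⟨fun hu => ?_, fun hb => ?_⟩
    · show Function.Bijective fun r => r • H28Mero.sGerm L s x
      simp only [← hc, smul_smul]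
      exact (hge x hxV).comp (hu.unit.mulRight.bijective)
    · obtain ⟨r, hr⟩ := hb.2 (L.presheaf.germ V x hxV e)
      have hr' : (r * c) • L.presheaf.germ V x hxV e = (1 : X.presheaf.stalk x) • L.presheaf.germ V x hxV e := by
        rw [mul_smul, one_smul, show c • L.presheaf.germ V x hxV e = H28Mero.sGerm L s x from hc]
        exact hr
      exact IsUnit.of_mul_eq_one r (mul_comm r c ▸ (hge x hxV).1 hr')
  obtain ⟨M, hMi, ⟨eML⟩⟩ := H11Sym.exists_inverse hLi
  have hM : ClSub.IsInverseOf L M := ⟨H10Coh.Tw.commIso _ _ ≪≫ eML⟩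
  have hdepth' : ∀ x : X, IsClosed ({x} : Set X) →
      2 ≤ LocCoh.depth (X.presheaf.stalk x) ((Coh.structureModule X).presheaf.stalk x) := fun x hx =>
    (hdepth x hx).trans_eq (H4Depth.depth_congr (LinearEquiv.ofBijective
      (LinearMap.toSpanSingleton (X.presheaf.stalk x) _ _) (H11Ample.isGen_one (X := X) ⊤ x trivial)))
  obtain ⟨m₀, hm₀⟩ := ESZ.exists_bound_ample k hL hM (H10Coh.isCoh_structureModule' X) 1 fun x hx =>
    lt_of_lt_of_le (by norm_num : ((1 : ℕ) : ℕ∞) < 2) (hdepth' x hx)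
  let m := m₀ + 1
  let σ := H11Tilde.homOfGlobal (CohB1.tensorPow L m) (H11Ample.spow g m)
  haveI : Mono σ := mono_homOfGlobal _ fun x => regular_spow hLi g x (hreg x) m
  have hMm := H11Ample.isInvertible_tensorPow hMi m
  let S₀ : ShortComplex X.Modules := ShortComplex.mk σ (cokernel.π σ) (cokernel.condition σ)
  have hS₀ : S₀.ShortExact :=
    ShortComplex.ShortExact.mk' (ShortComplex.exact_cokernel σ) inferInstance inferInstance
  have hS := H10Coh.Tw.shortExact_seq hS₀ hMm
  obtain ⟨eLM⟩ := H10Coh.Tw.nonempty_tensorPow_inverse hM.some hLi hMi m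
  have h1 : Subsingleton (H10Coh.HnM (H10Coh.Tw.seq S₀ hMm).X₁ 1 ⊤) :=
    ESZ.toM (hm₀ m (Nat.le_succ _) 1 le_rfl)
  let Z : Set X := (H11Ample.gen L g : Set X)ᶜ
  have hZ : _root_.IsPreconnected Z := by
    refine isPreconnected_support (X ↘ Spec (CommRingCat.of k)) hS eLM.symm h1
      (H11Ample.gen L g).isOpen.isClosed_compl fun x => ?_
    refine (subsingleton_tensor_stalk_iff hMm (cokernel σ) x).trans ?_
    rw [subsingleton_coker_iff (H11Ample.isInvertible_tensorPow hLi m), H11Ample.gen_spow hLi g m (Nat.succ_pos _)]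
    exact not_not.symm
  have hne : Z.Nonempty := by
    by_contra hempty
    rw [Set.not_nonempty_iff_eq_empty] at hempty
    have hall : ∀ x, x ∈ H11Ample.gen L g := fun x => by
      by_contra hx
      exact (Set.eq_empty_iff_forall_notMem.1 hempty) x hx
    obtain ⟨n₀, hn₀⟩ := NegTwist.exists_subsingleton k hL hM (H10Coh.isCoh_structureModule' X) fun x hx hc => by
      haveI := H29Ref.finite_stalk (Coh.structureModule X) (H10Coh.isCoh_structureModule' X).2 x
      haveI : Nontrivial ((Coh.structureModule X).presheaf.stalk x) :=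
        (LinearEquiv.ofBijective (LinearMap.toSpanSingleton (X.presheaf.stalk x) _ _)
          (H11Ample.isGen_one (X := X) ⊤ x trivial)).symm.toEquiv.nontrivial
      have h0 : LocCoh.depth (X.presheaf.stalk x) ((Coh.structureModule X).presheaf.stalk x) = 0 := by
        refine (H4Depth.idealDepth_eq_zero_iff_exists_associatedPrime ?_).2 ⟨_, hx, le_rfl⟩
        exact (Submodule.top_ne_ideal_smul_of_le_jacobson_annihilator
          (IsLocalRing.maximalIdeal_le_jacobson _)).symm
      have := hdepth' x hc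
      rw [h0] at this
      exact absurd this (by norm_num)
    let j := n₀ + 1
    haveI : IsIso (H11Tilde.homOfGlobal (CohB1.tensorPow L j) (H11Ample.spow g j)) := by
      haveI : Mono (H11Tilde.homOfGlobal (CohB1.tensorPow L j) (H11Ample.spow g j)) :=
        mono_homOfGlobal _ fun x => regular_spow hLi g x (hreg x) j
      haveI : Epi (H11Tilde.homOfGlobal (CohB1.tensorPow L j) (H11Ample.spow g j)) :=
        Preadditive.epi_of_isZero_cokernel _ (ESZ.isZero_of_stalks _ fun x =>
          (subsingleton_coker_iff (H11Ample.isInvertible_tensorPow hLi j) _ x).2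
            (by rw [H11Ample.gen_spow hLi g j (Nat.succ_pos _)]; exact hall x))
      exact isIso_of_mono_of_epi _
    obtain ⟨eLj⟩ := H10Coh.Tw.nonempty_tensorPow_inverse hM.some hLi hMi j
    have hO : Subsingleton (Coh.HH X (Coh.structureModule X) 0) := by
      refine ESZ.subsingleton_HH_iso ?_ (hn₀ j (Nat.le_succ _))
      exact PicGrp.tensorModIso (asIso (H11Tilde.homOfGlobal (CohB1.tensorPow L j) (H11Ample.spow g j)))
        (Iso.refl _) ≪≫ eLj
    have hsec : Subsingleton Γ(X, ⊤) := (H10Coh.HH0Equiv (Coh.structureModule X)).toEquiv.symm.subsingleton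
    haveI : Nonempty ((⊤ : X.Opens) : Scheme.{u}) := ⟨⟨Nonempty.some inferInstance, trivial⟩⟩
    haveI : Nontrivial Γ(X, ⊤) := X.component_nontrivial ⊤
    exact not_subsingleton Γ(X, ⊤) hsec
  have hr : Set.range (PicF2.zeroScheme L s).subschemeι = Z := by
    rw [Scheme.IdealSheafData.range_subschemeι]
    exact Set.ext hsupp
  have hpre : PreconnectedSpace ↥(PicF2.zeroScheme L s).subscheme := ⟨by
    refine (PicF2.zeroScheme L s).subschemeι.isClosedEmbedding.isInducing.isPreconnected_image.1 ?_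
    rw [Set.image_univ, hr]
    exact hZ⟩
  obtain ⟨z, hz⟩ := hne
  obtain ⟨y, -⟩ := (hr.symm ▸ hz : z ∈ Set.range (PicF2.zeroScheme L s).subschemeι)
  exact { toPreconnectedSpace := hpre, toNonempty := ⟨y⟩ }

end Groth.Agent.H22Alg.ESZConn
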