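import Mathlib
import Groth.Agent.H22Alg.ESZConn
import Groth.Agent.H11Curve.NormalizationBasic
import Groth.Agent.H11Curve.NormFinite
import Groth.Agent.H11Ample.Pullback
import Groth.Agent.H11Ample.AmpleOn
import Groth.Agent.H8Props.FieldDimEquidim
import Groth.Agent.H8Props.FieldDimFormula
import Groth.Agent.H8Props.NormalLowDim
import Groth.Agent.H28Int.Curves

/-!
# Zero schemes of sections of ample modules on integral varieties of dimension at least two
-/

set_option autoImplicit false
set_option linter.style.haveILetI false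

universe u

open CategoryTheory CategoryTheory.Limits AlgebraicGeometry Opposite TopologicalSpace

namespace Groth.Agent.H22Alg.ESZInt

variable {X : Scheme.{u}}

/-- A monomorphic section is regular in every stalk. -/
theorem regular_of_mono {L : X.Modules} (s : Coh.structureModule X ⟶ L) [Mono s] (x : X) :
    Function.Injective fun r : X.presheaf.stalk x => r • L.presheaf.germ ⊤ x trivial (SecTwist.val s ⊤) := by
  intro r r' hrr
  have hinj : Function.Injective (H06Mod.stalkLin s x) := H06Mod.stalk_injective
    (ShortComplex.mk s (cokernel.π s) (cokernel.condition s))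
    (ShortComplex.ShortExact.mk' (ShortComplex.exact_cokernel s) inferInstance inferInstance) x
  let o := (Coh.structureModule X).presheaf.germ ⊤ x trivial (H11Ample.one ⊤)
  have ho : ∀ r : X.presheaf.stalk x, H06Mod.stalkLin s x (r • o) =
      r • L.presheaf.germ ⊤ x trivial (SecTwist.val s ⊤) := fun r => by
    rw [map_smul, H06Mod.stalkLin_germ]
    rfl
  exact (H11Ample.isGen_one (X := X) ⊤ x trivial).1 (hinj ((ho r).trans (hrr.trans (ho r').symm)))

/-- The support of the zero scheme of a regular section is the complement of its locus of generation. -/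
theorem mem_support [IsLocallyNoetherian X] {L : X.Modules} (hLi : PicF.IsInvertible L)
    (s : Coh.structureModule X ⟶ L) [Mono s] (x : X) :
    x ∈ (PicF2.zeroScheme L s).support ↔ x ∉ H11Ample.gen L (SecTwist.val s ⊤) := by
  have he : PicF2.zeroScheme L s =
      H28Mero.germIdealSheaf (H28Mero.zeroGerm L s) (H28Mero.isLocPrincipal_zeroGerm L s hLi) :=
    Scheme.IdealSheafData.ext (funext fun V => H28Mero.zeroScheme_ideal L s hLi (regular_of_mono s) V)
  rw [he]
  show H28Mero.zeroGerm L s x ≠ ⊤ ↔ _
  obtain ⟨V, e, hxV, hge⟩ := H11Ample.exists_gen hLi x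
  obtain ⟨c, hc⟩ := (hge x hxV).2 (H28Mero.sGerm L s x)
  rw [H28Mero.zeroGerm_eq_span L s (hge x hxV) hc.symm, Ne, Ideal.span_singleton_eq_top,
    H11Ample.mem_gen_iff hLi]
  refine not_congr ⟨fun hu => ?_, fun hb => ?_⟩
  · show Function.Bijective fun r => r • H28Mero.sGerm L s x
    simp only [← hc, smul_smul]
    exact (hge x hxV).comp (hu.unit.mulRight.bijective)
  · obtain ⟨r, hr⟩ := hb.2 (L.presheaf.germ V x hxV e)
    have hr' : (r * c) • L.presheaf.germ V x hxV e = (1 : X.presheaf.stalk x) • L.presheaf.germ V x hxV e := by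
      rw [mul_smul, one_smul, show c • L.presheaf.germ V x hxV e = H28Mero.sGerm L s x from hc]
      exact hr
    exact IsUnit.of_mul_eq_one r (mul_comm r c ▸ (hge x hxV).1 hr')

theorem range_zeroScheme [IsLocallyNoetherian X] {L : X.Modules} (hLi : PicF.IsInvertible L)
    (s : Coh.structureModule X ⟶ L) [Mono s] :
    Set.range (PicF2.zeroScheme L s).subschemeι = (H11Ample.gen L (SecTwist.val s ⊤) : Set X)ᶜ := by
  rw [Scheme.IdealSheafData.range_subschemeι]
  exact Set.ext fun x => mem_support hLi s x

/-- On an integral scheme a section which generates somewhere is regular everywhere. -/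
theorem mono_of_mem_gen [IsIntegral X] {L : X.Modules} (hLi : PicF.IsInvertible L) (g : Γ(L, ⊤))
    (hg : genericPoint X ∈ H11Ample.gen L g) : Mono (H11Tilde.homOfGlobal L g) := by
  refine ESZConn.mono_homOfGlobal g fun x => ?_
  obtain ⟨V, e, hxV, he⟩ := H11Ample.exists_gen hLi x
  obtain ⟨a, ha⟩ := H11Ample.exists_coeff he (L.presheaf.map (homOfLE (le_top : V ≤ ⊤)).op g)
  have hbo := H11Ample.gen_inf_eq_basicOpen he g a ha
  have hηV : genericPoint X ∈ V := (genericPoint_specializes x).mem_open V.2 hxV
  have ha0 : a ≠ 0 := by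
    intro h
    have h1 : genericPoint X ∈ H11Ample.gen L g ⊓ V := ⟨hg, hηV⟩
    rw [hbo, h, Scheme.basicOpen_zero] at h1
    exact h1
  haveI : Nonempty V := ⟨⟨x, hxV⟩⟩
  have hc : X.presheaf.germ V x hxV a ≠ 0 := fun h =>
    ha0 (germ_injective_of_isIntegral X x hxV (h.trans (map_zero _).symm))
  have h1 := congrArg (L.presheaf.germ V x hxV) ha
  rw [TopCat.Presheaf.germ_res_apply, H06Mod.germ_smul] at h1
  intro r r' hrr
  have h2 : (r * X.presheaf.germ V x hxV a) • L.presheaf.germ V x hxV e =
      (r' * X.presheaf.germ V x hxV a) • L.presheaf.germ V x hxV e := by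
    rw [mul_smul, mul_smul, ← h1]
    exact hrr
  exact mul_right_cancel₀ hc ((he x hxV).1 h2)

/-- Integral proper varieties of dimension at least two: ample divisors are connected. -/
theorem connectedSpace {k : Type u} [Field k] (f : X ⟶ Spec (CommRingCat.of k)) [IsProper f] [IsIntegral X]
    (hdim : (2 : WithBot ℕ∞) ≤ topologicalKrullDim X)
    {L : X.Modules} (hL : CohB1.IsAmple L) (s : Coh.structureModule X ⟶ L) [Mono s] :
    ConnectedSpace ↥(PicF2.zeroScheme L s).subscheme := by
  haveI : X.IsSeparated := Scheme.IsSeparated.mk (by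
    rw [Subsingleton.elim (terminal.from X) (f ≫ terminal.from _)]; infer_instance)
  haveI : IsLocallyNoetherian X := LocallyOfFiniteType.isLocallyNoetherian f
  let ν := Curv2.normalizationι X
  haveI : IsFinite ν := H11Curve.isFinite_normalizationι f
  haveI := H11Curve.isIntegral_normalization X
  let X' := Curv2.normalization X
  letI : X'.Over (Spec (CommRingCat.of k)) := ⟨ν ≫ f⟩
  haveI : IsProper (X' ↘ Spec (CommRingCat.of k)) := inferInstanceAs (IsProper (ν ≫ f))
  haveI : IsLocallyNoetherian X' := LocallyOfFiniteType.isLocallyNoetherian (ν ≫ f)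
  have hsurj : Function.Surjective ν.base := (H11Curve.surjective_normalizationι X).surj
  obtain ⟨_, hη, _⟩ := H11Curve.exists_residueFieldMap_bijective X
  have hLi := hL.1
  let g : Γ(L, ⊤) := SecTwist.val s ⊤
  have hηg : genericPoint X ∈ H11Ample.gen L g := by
    rw [H11Ample.mem_gen_iff hLi]
    refine ⟨regular_of_mono s _, fun b => ?_⟩
    obtain ⟨V, e, hxV, he⟩ := H11Ample.exists_gen hLi (genericPoint X)
    obtain ⟨c, hc⟩ := (he _ hxV).2 (L.presheaf.germ ⊤ (genericPoint X) trivial g)
    obtain ⟨d, hd⟩ := (he _ hxV).2 b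
    have hc0 : c ≠ 0 := fun h => one_ne_zero (regular_of_mono s (genericPoint X)
      (show (1 : X.presheaf.stalk (genericPoint X)) • L.presheaf.germ ⊤ (genericPoint X) trivial g = (0 : X.presheaf.stalk (genericPoint X)) • _ by
        rw [one_smul, zero_smul, ← hc, h]; exact zero_smul _ _))
    obtain ⟨c', hc'⟩ := (Field.toIsField X.functionField).mul_inv_cancel hc0
    refine ⟨d * c', ?_⟩
    show (d * c') • L.presheaf.germ ⊤ (genericPoint X) trivial g = b
    rw [← hc, ← hd, smul_smul, mul_assoc, mul_comm c' c, hc', mul_one]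
  let L' := (Scheme.Modules.pullback ν).obj L
  have hL' : CohB1.IsAmple L' := H11Ample.isAmple_pullback_of_isAffineHom ν hL
  let g' : Γ(L', ⊤) := (1 : Γ(X', ⊤)) • H11Ample.pullTop ν g
  have hgen : H11Ample.gen L' g' = ν ⁻¹ᵁ H11Ample.gen L g :=
    H11Ample.gen_smul_pullSect ν hLi g isUnit_one
  let s' := H11Tilde.homOfGlobal L' g'
  haveI : Mono s' := mono_of_mem_gen hL'.1 g' (by
    rw [hgen]; show ν.base (genericPoint X') ∈ H11Ample.gen L g; rw [hη]; exact hηg)
  have hs' : SecTwist.val s' ⊤ = g' := by
    exact H11Ample.val_homOfGlobal g'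
  have hdim' : (2 : WithBot ℕ∞) ≤ topologicalKrullDim X' :=
    hdim.trans (H17.topologicalKrullDim_le_of_specializingMap _ ν.isClosedMap.specializingMap hsurj)
  have hconn := ESZConn.connectedSpace k hL' s' fun x hx => by
    obtain ⟨hdom, hic⟩ := H11Curve.isNormal_normalization X x
    haveI := hdom
    haveI := hic
    refine H8Props.NormalLowDim.two_le_depth (X'.presheaf.stalk x) fun hle => ?_
    have h1 := H8Props.FieldDim.localDim_eq_stalk_add_cdim (ν ≫ f) x
    rw [H8Props.FieldDim.localDim_eq_dim_of_irreducible (ν ≫ f), H28Int.Curves.cdim_closed hx, Nat.cast_zero, add_zero] at h1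
    have := hdim'.trans (h1.trans_le hle)
    norm_cast at this
  have hr' := range_zeroScheme hL'.1 s'
  rw [hs', hgen] at hr'
  have hr := range_zeroScheme hLi s
  let Z : Set X := (H11Ample.gen L g : Set X)ᶜ
  have himage : Z = ν.base '' Set.range (PicF2.zeroScheme L' s').subschemeι := by
    rw [hr']
    exact (Set.image_preimage_eq Z hsurj).symm
  have hpre : _root_.IsPreconnected Z := by
    rw [himage, ← Set.range_comp]
    haveI := hconn
    exact isPreconnected_range (ν.continuous.comp (PicF2.zeroScheme L' s').subschemeι.continuous)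
  have hne : Z.Nonempty := by
    rw [himage]
    haveI := hconn
    exact (Set.range_nonempty _).image _
  have hp : PreconnectedSpace ↥(PicF2.zeroScheme L s).subscheme := ⟨by
    refine (PicF2.zeroScheme L s).subschemeι.isClosedEmbedding.isInducing.isPreconnected_image.1 ?_
    rw [Set.image_univ, hr]
    exact hpre⟩
  obtain ⟨z, hz⟩ := hne
  obtain ⟨y, -⟩ := (hr.symm ▸ hz : z ∈ Set.range (PicF2.zeroScheme L s).subschemeι)
  exact { toPreconnectedSpace := hp, toNonempty := ⟨y⟩ }

end Groth.Agent.H22Alg.ESZInt
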