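import Mathlib
import Groth.Agent.H22Alg.NegTwist
import Groth.Agent.H22Alg.ESZInt
import Groth.Agent.H28Mero.ZeroScheme
import Groth.Agent.H13CInt.Spread
import Groth.Agent.H16Derived.ProjFormula.ClosedImm
import Groth.Agent.H28Vert.QuotTensor

/-!
# Cutting a module by a section missing its associated points
-/

set_option autoImplicit false
set_option linter.style.haveILetI false
universe u

open CategoryTheory CategoryTheory.Limits AlgebraicGeometry Opposite TopologicalSpace
open scoped TensorProduct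
open Groth.Agent

noncomputable section

namespace Groth.Agent.H22Alg.SectionCut

open IsLocalRing

variable {X : Scheme.{u}} {L : X.Modules} (s : Coh.structureModule X ⟶ L)

/-- `m ↦ m ⊗ s`, naturally in the module. -/
def mul (M : X.Modules) : M ⟶ CohB1.tensorMod M L :=
  (H28Vert.tensorRightUnitIso (X := X)).inv.app M ≫ ((DCoh.tensorBi (X := X)).obj M).map s

/-- `⊗ s` is bijective on stalks where `s` generates. -/
theorem isIso_stalk_mul (M : X.Modules) {x : X} (hx : x ∈ CohB1.genLocus L s) :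
    IsIso ((DerSch.stalkFunctor X x).map (mul s M)) := by
  have h1 := H25Euler.isIso_stalk_of_mem_genLocus s hx
  have h2 : IsIso ((((DCoh.tensorBi (X := X)).obj M) ⋙ DerSch.stalkFunctor X x).map s) := by
    rw [NatIso.isIso_map_iff (H16Derived.KFlat.Stalk.leftIso M x) s]
    exact inferInstanceAs (IsIso ((MonoidalCategory.tensorLeft _).map _))
  haveI : IsIso ((DerSch.stalkFunctor X x).map (((DCoh.tensorBi (X := X)).obj M).map s)) := h2
  show IsIso ((DerSch.stalkFunctor X x).map
    ((H28Vert.tensorRightUnitIso (X := X)).inv.app M ≫ ((DCoh.tensorBi (X := X)).obj M).map s))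
  rw [Functor.map_comp]
  infer_instance

/-- The image of `⊗ s` on a stalk is the multiple by the coefficient of `s`. -/
theorem stalk_mulHom_range (M : X.Modules) {w : X} {el : L.presheaf.stalk w}
    (hel : Function.Bijective fun r : X.presheaf.stalk w => r • el) {c : X.presheaf.stalk w}
    (hc : H28Mero.sGerm L s w = c • el) :
    (∀ t, ∃ b, H06Mod.stalkLin (mul s M) w t = c • b) ∧
      ∀ b, ∃ t, H06Mod.stalkLin (mul s M) w t = c • b := by
  let St := DerSch.stalkFunctor X w
  let o := (Coh.structureModule X).presheaf.germ ⊤ w trivial (H11Ample.one ⊤)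
  have ho : (St.map s).hom o = c • (show St.obj L from el) := by
    refine (H10Coh.germ_app s ⊤ w trivial (H11Ample.one ⊤)).trans ?_
    exact hc
  have hO : ∀ p : St.obj (Coh.structureModule X), ∃ r : X.presheaf.stalk w,
      (St.map s).hom p = r • c • (show St.obj L from el) := fun p => by
    obtain ⟨r, hr⟩ := (H11Ample.isGen_one (X := X) ⊤ w trivial).2 p
    refine ⟨r, ?_⟩
    have hro : r • (show St.obj (Coh.structureModule X) from o) = p := hr
    rw [← hro, map_smul, ho]
  let T := (St.map s).hom.lTensor (St.obj M)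
  have h1 : ∀ t, ∃ b, T t = c • b := by
    intro t
    induction t using TensorProduct.induction_on with
    | zero => exact ⟨0, by simp⟩
    | add a b ha hb =>
      obtain ⟨a', ha'⟩ := ha
      obtain ⟨b', hb'⟩ := hb
      exact ⟨a' + b', by rw [map_add, ha', hb', smul_add]⟩
    | tmul a p =>
      obtain ⟨r, hr⟩ := hO p
      refine ⟨a ⊗ₜ (r • (show St.obj L from el)), ?_⟩
      rw [LinearMap.lTensor_tmul, hr, smul_comm r c]
      exact TensorProduct.tmul_smul _ _ _
  have h2 : ∀ b, ∃ t, T t = c • b := by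
    intro b
    induction b using TensorProduct.induction_on with
    | zero => exact ⟨0, by simp⟩
    | add a b ha hb =>
      obtain ⟨a', ha'⟩ := ha
      obtain ⟨b', hb'⟩ := hb
      exact ⟨a' + b', by rw [map_add, ha', hb', smul_add]⟩
    | tmul a q =>
      obtain ⟨r, hr⟩ := hel.2 q
      have hq : r • (show St.obj L from el) = q := hr
      refine ⟨(r • a) ⊗ₜ (show St.obj (Coh.structureModule X) from o), ?_⟩
      rw [LinearMap.lTensor_tmul]
      erw [ho]
      rw [TensorProduct.tmul_smul, ← hq, TensorProduct.tmul_smul]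
      exact congrArg (c • ·) (TensorProduct.smul_tmul' r a _).symm
  -- a conjugate of `T`
  let Φ : ∀ {A B : ModuleCat.{u} (X.presheaf.stalk w)}, (A →ₗ[X.presheaf.stalk w] B) → Prop := fun f =>
    (∀ t, ∃ b, f t = c • b) ∧ ∀ b, ∃ t, f t = c • b
  have hl : ∀ {A B B' : ModuleCat.{u} (X.presheaf.stalk w)} (f : A →ₗ[X.presheaf.stalk w] B)
      (g : B ⟶ B') [IsIso g], Φ f → Φ (g.hom ∘ₗ f) := by
    rintro A B B' f g _ ⟨hf₁, hf₂⟩
    refine ⟨fun t => ?_, fun b => ?_⟩
    · obtain ⟨b, hb⟩ := hf₁ t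
      exact ⟨g.hom b, by rw [LinearMap.comp_apply, hb, map_smul]⟩
    · obtain ⟨b', rfl⟩ := (ConcreteCategory.bijective_of_isIso g).2 b
      obtain ⟨t, ht⟩ := hf₂ b'
      exact ⟨t, by rw [LinearMap.comp_apply, ht, map_smul]⟩
  have hr : ∀ {A' A B : ModuleCat.{u} (X.presheaf.stalk w)} (f : A →ₗ[X.presheaf.stalk w] B)
      (g : A' ⟶ A) [IsIso g], Φ f → Φ (f ∘ₗ g.hom) := by
    rintro A' A B f g _ ⟨hf₁, hf₂⟩
    refine ⟨fun t => hf₁ _, fun b => ?_⟩
    obtain ⟨t, ht⟩ := hf₂ b
    obtain ⟨t', rfl⟩ := (ConcreteCategory.bijective_of_isIso g).2 t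
    exact ⟨t', ht⟩
  have e' : (((DCoh.tensorBi (X := X)).obj M) ⋙ St).map s =
      (H16Derived.KFlat.Stalk.leftIso M w).hom.app _ ≫ (MonoidalCategory.tensorLeft (St.obj M)).map (St.map s) ≫
        (H16Derived.KFlat.Stalk.leftIso M w).inv.app L := by
    rw [← Category.assoc]
    exact (Iso.eq_comp_inv ((H16Derived.KFlat.Stalk.leftIso M w).app L)).2
      ((H16Derived.KFlat.Stalk.leftIso M w).hom.naturality s)
  have h3 : Φ (St.map (((DCoh.tensorBi (X := X)).obj M).map s)).hom := by
    show Φ ((((DCoh.tensorBi (X := X)).obj M) ⋙ St).map s).hom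
    rw [e', ModuleCat.hom_comp, ModuleCat.hom_comp]
    exact hr _ _ (hl (A := MonoidalCategory.tensorObj _ _) (B := MonoidalCategory.tensorObj _ _) _ _ ⟨h1, h2⟩)
  show Φ (St.map ((H28Vert.tensorRightUnitIso (X := X)).inv.app M ≫
    ((DCoh.tensorBi (X := X)).obj M).map s)).hom
  rw [St.map_comp, ModuleCat.hom_comp]
  exact hr _ _ h3

/-- `⊗ s` is a monomorphism if `s` generates at all associated points. -/
theorem mono_mulHom {M : X.Modules} (hM : Coh.IsQCoh M)
    (hass : AssSch.Ass M ⊆ (CohB1.genLocus L s : Set X)) : Mono (mul s M) := by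
  refine H11Tilde.mono_of_injective _ fun W t ht x hx => ?_
  obtain ⟨V, hV, hxV, hVW⟩ := exists_isAffineOpen_mem_and_subset hx
  refine ⟨V, hVW, hxV, NegTwist.sec_ext fun y hy => ?_⟩
  rw [map_zero]
  by_contra hne
  obtain ⟨z, hzV, hz, -, hzne⟩ := H17.AssPts.exists_ass_specializes_of_germ M hM hV hy hne
  haveI := isIso_stalk_mul s M (hass hz)
  refine hzne ((ConcreteCategory.bijective_of_isIso
    ((DerSch.stalkFunctor X z).map (mul s M))).1 ?_)
  rw [TopCat.Presheaf.germ_res_apply]
  refine (H10Coh.germ_app (mul s M) W z (hVW hzV) t).trans ?_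
  rw [show (mul s M).app W t = 0 from ht, map_zero]
  exact (map_zero ((DerSch.stalkFunctor X z).map (mul s M)).hom).symm

section closed

variable {Z : Scheme.{u}} (f : Z ⟶ X) [IsClosedImmersion f] [IsLocallyNoetherian X] [Mono s]
  (hL : PicF.IsInvertible L) (hker : PicF2.zeroScheme L s = f.ker)

include hL hker in
theorem mem_range_iff (y : X) : y ∈ Set.range f.base ↔ y ∉ CohB1.genLocus L s := by
  rw [H11Ample.genLocus_eq_gen, ← ESZInt.mem_support hL s y, hker, ← SetLike.mem_coe,
    Scheme.Hom.support_ker, f.isClosedEmbedding.isClosed_range.closure_eq]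

include hL hker in
theorem ker_stalkMap_eq (z : Z) :
    RingHom.ker (f.stalkMap z).hom = H28Mero.zeroGerm L s (f.base z) := by
  obtain ⟨V, hV, hzV, -, e, c, he, hc⟩ := H28Mero.exists_section_coeff L s hL ⊤ (f.base z) trivial
  have hspan : ∀ (y : X) (hy : y ∈ V), H28Mero.zeroGerm L s y = Ideal.span {X.presheaf.germ V y hy c} :=
    fun y hy => H28Mero.zeroGerm_eq_span L s (he y hy) (hc y hy)
  rw [H13CInt.ker_stalkMap f z ⟨V, hV⟩ hzV, ← hker,
    H28Mero.zeroScheme_ideal L s hL (ESZInt.regular_of_mono s) ⟨V, hV⟩,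
    H28Mero.germIdeal_eq_span hV c hspan, Ideal.map_span, Set.image_singleton, hspan _ hzV]

include hL hker in
/-- A morphism to a module killed by the closed immersion kills `⊗ s`. -/
theorem mulHom_comp_eq_zero {M N : X.Modules} (hN : H16Derived.ProjFormula.Killed f N)
    (ψ : CohB1.tensorMod M L ⟶ N) : mul s M ≫ ψ = 0 := by
  refine Scheme.Modules.hom_ext _ _ fun W => ?_
  ext t
  refine NegTwist.sec_ext fun y hy => ?_
  show N.presheaf.germ W y hy (ψ.app W ((mul s M).app W t)) = N.presheaf.germ W y hy (0 : Γ(N, W))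
  rw [map_zero]
  by_cases hyr : y ∈ Set.range f.base
  · obtain ⟨z, rfl⟩ := hyr
    obtain ⟨V, el, hV, hel⟩ := H11Ample.exists_gen hL (f.base z)
    obtain ⟨c, hc⟩ := (hel _ hV).2 (H28Mero.sGerm L s (f.base z))
    obtain ⟨b, hb⟩ := (stalk_mulHom_range s M (hel _ hV) hc.symm).1 (M.presheaf.germ W (f.base z) hy t)
    rw [← H06Mod.stalkLin_germ, ← H06Mod.stalkLin_germ]
    erw [hb]
    refine (map_smul (H06Mod.stalkLin ψ (f.base z)) c b).trans (hN.smul_eq_zero z c ?_ _)
    have hcker : c ∈ RingHom.ker (f.stalkMap z).hom := by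
      rw [ker_stalkMap_eq s f hL hker z, H28Mero.zeroGerm_eq_span L s (hel _ hV) hc.symm]
      exact Ideal.mem_span_singleton_self c
    exact hcker
  · haveI := hN.subsingleton y hyr
    exact Subsingleton.elim _ _

include hL hker in
/-- The cokernel of `⊗ s` is killed by the closed immersion. -/
theorem killed_cokernel (M : X.Modules) :
    H16Derived.ProjFormula.Killed f (cokernel (mul s M)) := by
  have hzero : ∀ (y : X) t, H06Mod.stalkLin (cokernel.π (mul s M)) y
      (H06Mod.stalkLin (mul s M) y t) = 0 := fun y t => by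
    show ((DerSch.stalkFunctor X y).map _).hom (((DerSch.stalkFunctor X y).map _).hom t) = 0
    rw [← LinearMap.comp_apply, ← ModuleCat.hom_comp, ← Functor.map_comp, cokernel.condition, Functor.map_zero]
    rfl
  refine ⟨fun z r hr a => ?_, fun y hy => ?_⟩
  · obtain ⟨b, rfl⟩ := H06Mod.surjective_stalk_of_epi (cokernel.π (mul s M)) (f.base z) a
    obtain ⟨V, el, hV, hel⟩ := H11Ample.exists_gen hL (f.base z)
    obtain ⟨c, hc⟩ := (hel _ hV).2 (H28Mero.sGerm L s (f.base z))
    have hr' : r ∈ Ideal.span {c} := by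
      rw [← H28Mero.zeroGerm_eq_span L s (hel _ hV) hc.symm, ← ker_stalkMap_eq s f hL hker z]
      exact hr
    obtain ⟨q, rfl⟩ := Ideal.mem_span_singleton'.1 hr'
    obtain ⟨t, ht⟩ := (stalk_mulHom_range s M (hel _ hV) hc.symm).2 b
    show (q * c) • H06Mod.stalkLin (cokernel.π (mul s M)) (f.base z) b = 0
    rw [← map_smul, mul_smul, ← ht, map_smul, hzero, smul_zero]
  · have hgen : y ∈ CohB1.genLocus L s := not_not.1 ((mem_range_iff s f hL hker y).not.1 hy)
    haveI := isIso_stalk_mul s M hgen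
    refine subsingleton_of_forall_eq 0 fun q => ?_
    obtain ⟨b, rfl⟩ := H06Mod.surjective_stalk_of_epi (cokernel.π (mul s M)) y q
    obtain ⟨t, rfl⟩ := (ConcreteCategory.bijective_of_isIso
      ((DerSch.stalkFunctor X y).map (mul s M))).2 b
    exact hzero y t

end closed

/-- `⊗ s` is natural. -/
theorem mul_natural {M N : X.Modules} (φ : M ⟶ N) :
    mul s M ≫ LimSh.tensorModMap φ L = φ ≫ mul s N := by
  have hex : ((DCoh.tensorBi (X := X)).obj M).map s ≫ ((DCoh.tensorBi (X := X)).flip.obj L).map φ =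
      ((DCoh.tensorBi (X := X)).flip.obj (Coh.structureModule X)).map φ ≫
        ((DCoh.tensorBi (X := X)).obj N).map s :=
    ((DCoh.tensorBi (X := X)).map φ).naturality s
  show ((H28Vert.tensorRightUnitIso (X := X)).inv.app M ≫ ((DCoh.tensorBi (X := X)).obj M).map s) ≫
    ((DCoh.tensorBi (X := X)).flip.obj L).map φ = φ ≫ _ ≫ _
  rw [Category.assoc, hex, ← Category.assoc, ← Category.assoc]
  exact congrArg (· ≫ ((DCoh.tensorBi (X := X)).obj N).map s)
    ((H28Vert.tensorRightUnitIso (X := X)).inv.naturality φ).symm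

/-- A monomorphism stays one on cokernels, if `⊗ s` is injective on its cokernel. -/
theorem mono_cokernel_map {C : Type*} [Category C] [Abelian C] {A B D A' B' D' : C}
    (i : A ⟶ B) (p : B ⟶ D) (i' : A' ⟶ B') (p' : B' ⟶ D') (w : i ≫ p = 0) (w' : i' ≫ p' = 0)
    (hex : (ShortComplex.mk i p w).ShortExact) [Mono i']
    (a : A ⟶ A') (b : B ⟶ B') (d : D ⟶ D') [Mono d] (h₁ : a ≫ i' = i ≫ b) (h₂ : b ≫ p' = p ≫ d) :
    Mono (cokernel.map a b i i' h₁) := by
  haveI := hex.mono_f
  refine Preadditive.mono_of_cancel_zero _ fun {T} g hg => ?_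
  obtain ⟨T₁, π₁, hπ₁, x, hx⟩ := surjective_up_to_refinements_of_epi (cokernel.π a) g
  have h0 : (x ≫ i') ≫ cokernel.π b = 0 := by
    rw [Category.assoc, ← cokernel.π_desc a (i' ≫ cokernel.π b) (by rw [reassoc_of% h₁, cokernel.condition, comp_zero]),
      ← reassoc_of% hx]
    exact (congrArg (fun z => π₁ ≫ z) hg).trans comp_zero
  obtain ⟨T₂, π₂, hπ₂, y, hy⟩ :=
    (ShortComplex.exact_cokernel b).exact_up_to_refinements (x ≫ i') h0
  dsimp only [ShortComplex.mk] at hy
  have hyp : y ≫ p = 0 := by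
    rw [← cancel_mono d, Category.assoc, ← h₂, ← reassoc_of% hy, w', comp_zero, comp_zero, zero_comp]
  obtain ⟨z, hz⟩ : ∃ z : T₂ ⟶ A, z ≫ i = y := ⟨hex.exact.lift y hyp, hex.exact.lift_f y hyp⟩
  have hxa : π₂ ≫ x = z ≫ a := by
    rw [← cancel_mono i', Category.assoc, hy, ← hz, Category.assoc, Category.assoc, h₁]
  rw [← cancel_epi π₁, ← cancel_epi π₂, comp_zero, comp_zero, hx, reassoc_of% hxa, cokernel.condition, comp_zero]

end Groth.Agent.H22Alg.SectionCut
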