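import Mathlib
import Groth.Agent.H22Alg.SectionCut
import Groth.Agent.H22Alg.HyperplanePn
import Groth.Agent.H22Alg.CMHyper
import Groth.Agent.H28Int.Push
import Groth.Agent.H11Proj.ProjMap
import Groth.Agent.H10Coh.Proper2
import Groth.Agent.H17.ConsModModels

/-!
# The hyperplane step in Mumford's theorem

A submodule of a free module on `P^{n+1}` is cut by a hyperplane missing all associated points;
the cut is again a submodule of a free module on `P^n`.
-/

set_option autoImplicit false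
set_option linter.style.haveILetI false
universe u

open CategoryTheory CategoryTheory.Limits AlgebraicGeometry Opposite TopologicalSpace
open Groth.Agent Groth.Agent.H11Tilde Groth.Agent.H11Ample
open CohB1 (polyGrading)
attribute [local instance 10000] Groth.Agent.H10Coh.hasSheafifyAb Groth.Agent.H10Coh.hasWeakSheafifyAb Groth.Agent.H10Coh.hasExtAb Groth.Agent.H10Coh.enoughInjAb

noncomputable section

namespace Groth.Agent.H22Alg.MumfordStep

variable {k : Type u} [Field k] {n : ℕ}

/-- A hyperplane through none of finitely many points. -/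
theorem exists_form [Infinite k] {S : Set (CohB1.ProjSpace (n + 1) k)} (hS : S.Finite) :
    ∃ (a : Fin (n + 2) → k) (p : Fin (n + 2)), a p ≠ 0 ∧
      ∀ x ∈ S, x ∈ Proj.basicOpen (polyGrading (n + 1) k) (HyperplaneAlg.form a) := by
  classical
  haveI := hS.to_subtype
  let φ : (Fin (n + 2) → k) →ₗ[k] MvPolynomial (Fin (n + 2)) k :=
    ∑ t, (LinearMap.proj t).smulRight (MvPolynomial.X t)
  have hφ : ∀ a, φ a = HyperplaneAlg.form a := fun a => by
    simp [φ, HyperplaneAlg.form, LinearMap.sum_apply, MvPolynomial.smul_eq_C_mul]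
  let W : Option S → Submodule k (Fin (n + 2) → k) := fun o => o.elim ⊥ fun x =>
    ((x.1.asHomogeneousIdeal.toIdeal).restrictScalars k).comap φ
  have hW : ∀ o, W o ≠ ⊤ := by
    rintro (_ | x)
    · exact bot_ne_top
    · intro htop
      obtain ⟨t, ht⟩ := exists_mem_basicOpen_X (n := n + 1) (R := k) x.1
      have h : (Pi.single t 1 : Fin (n + 2) → k) ∈ W (some x) := htop ▸ Submodule.mem_top
      refine ht ?_
      have h' : φ (Pi.single t 1) ∈ x.1.asHomogeneousIdeal.toIdeal := h
      have e : φ (Pi.single t 1) = MvPolynomial.X t := by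
        rw [hφ, HyperplaneAlg.form, Finset.sum_eq_single t (fun b _ hb => by
          rw [Pi.single_eq_of_ne hb, MvPolynomial.C_0, zero_mul]) (by simp), Pi.single_eq_same,
          MvPolynomial.C_1, one_mul]
      rwa [e] at h'
  obtain ⟨a, ha⟩ := Submodule.exists_forall_notMem_of_forall_ne_top W hW
  obtain ⟨p, hp⟩ : ∃ p, a p ≠ 0 := by
    by_contra h
    push Not at h
    exact ha none ((Submodule.mem_bot k).2 (funext h))
  refine ⟨a, p, hp, fun x hx hmem => ha (some ⟨x, hx⟩) ?_⟩
  show φ a ∈ x.asHomogeneousIdeal.toIdeal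
  rw [hφ]
  exact hmem

/-- The hyperplane is compatible with the structure maps. -/
theorem emb_toSpec (a : Fin (n + 2) → k) (p : Fin (n + 2)) :
    HyperplanePn.emb a p ≫ CohB1.ProjSpace.toSpec (n + 1) k = CohB1.ProjSpace.toSpec n k := by
  show Proj.map _ _ ≫ Proj.toSpecZero _ ≫ _ = Proj.toSpecZero _ ≫ _
  rw [H11Proj.map_toSpecZero_assoc, ← Spec.map_comp]
  congr 2
  ext c
  exact congrArg (MvPolynomial.coeff _) ((HyperplaneAlg.hom a p).commutes c)

/-- Twist families with the same first member agree. -/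
theorem fam_unique {X : Scheme.{u}} {O O' : ℤ → X.Modules} (h : H10Coh.Stab.IsTwistFamily O)
    (h' : H10Coh.Stab.IsTwistFamily O') (e : O 1 ≅ O' 1) (d : ℤ) : Nonempty (O d ≅ O' d) := by
  have hpos : ∀ m : ℕ, Nonempty (O (m : ℤ) ≅ O' (m : ℤ)) := by
    intro m
    induction m with
    | zero =>
      obtain ⟨z⟩ := h.zero
      obtain ⟨z'⟩ := h'.zero
      exact ⟨eqToIso (congrArg O (by simp)) ≪≫ z ≪≫ z'.symm ≪≫ eqToIso (congrArg O' (by simp))⟩
    | succ m ih =>
      obtain ⟨f⟩ := ih
      obtain ⟨a⟩ := h.add m 1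
      obtain ⟨a'⟩ := h'.add m 1
      exact ⟨eqToIso (congrArg O (by push_cast; rfl)) ≪≫ a.symm ≪≫ PicGrp.tensorModIso f e ≪≫ a' ≪≫
        eqToIso (congrArg O' (by push_cast; rfl))⟩
  rcases le_or_gt 0 d with hd | hd
  · obtain ⟨m, rfl⟩ := Int.eq_ofNat_of_zero_le hd
    exact hpos m
  · obtain ⟨m, rfl⟩ : ∃ m : ℕ, d = -(m : ℤ) := ⟨(-d).toNat, by omega⟩
    obtain ⟨f⟩ := hpos m
    obtain ⟨z⟩ := h.zero
    obtain ⟨z'⟩ := h'.zero
    obtain ⟨a⟩ := h.add (-(m : ℤ)) m
    obtain ⟨a'⟩ := h'.add m (-(m : ℤ))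
    exact ⟨(H10Coh.Tw.rightUnitIso _).symm ≪≫
      PicGrp.tensorModIso (Iso.refl _) (z'.symm ≪≫ eqToIso (congrArg O' (by simp)) ≪≫ a'.symm) ≪≫
      (H10Coh.Tw.assoc _ _ _).symm ≪≫
      PicGrp.tensorModIso (PicGrp.tensorModIso (Iso.refl _) f.symm ≪≫ a ≪≫
        eqToIso (congrArg O (by simp)) ≪≫ z) (Iso.refl _) ≪≫ H10Coh.Tw.leftUnitIso _⟩

section push

variable {X Z : Scheme.{u}} (f : Z ⟶ X) [IsClosedImmersion f]

/-- The inverse image reflects monomorphisms of killed modules. -/
theorem mono_pull {M N : X.Modules} (φ : M ⟶ N) [Mono φ] (hM : H16Derived.ProjFormula.Killed f M)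
    (hN : H16Derived.ProjFormula.Killed f N) : Mono ((Scheme.Modules.pullback f).map φ) := by
  haveI := H16Derived.ProjFormula.isIso_unit_of_killed f hM
  haveI := H16Derived.ProjFormula.isIso_unit_of_killed f hN
  let A := Scheme.Modules.pullbackPushforwardAdjunction f
  haveI : IsIso (A.unit.app M) := H16Derived.ProjFormula.isIso_unit_of_killed f hM
  haveI : IsIso (A.unit.app N) := H16Derived.ProjFormula.isIso_unit_of_killed f hN
  haveI hpm : Mono ((Scheme.Modules.pushforward f).map ((Scheme.Modules.pullback f).map φ)) := by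
    have h : (Scheme.Modules.pushforward f).map ((Scheme.Modules.pullback f).map φ) =
        inv (A.unit.app M) ≫ φ ≫ A.unit.app N := by
      rw [IsIso.eq_inv_comp]
      exact (A.unit.naturality φ).symm
    rw [h]
    infer_instance
  refine Preadditive.mono_of_cancel_zero _ fun {T} g hg => ?_
  have h0 : (Scheme.Modules.pushforward f).map g = 0 := by
    rw [← cancel_mono ((Scheme.Modules.pushforward f).map ((Scheme.Modules.pullback f).map φ)),
      ← Functor.map_comp, hg, Functor.map_zero, zero_comp]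
  haveI : IsIso (A.counit.app T) := H16Derived.ProjFormula.isIso_counit_of_isClosedImmersion f T
  rw [← cancel_epi (A.counit.app T), comp_zero]
  exact (A.counit.naturality g).symm.trans (by
    show (Scheme.Modules.pullback f).map ((Scheme.Modules.pushforward f).map g) ≫ A.counit.app _ = 0
    rw [h0, Functor.map_zero, zero_comp])

variable {L : X.Modules} (s : Coh.structureModule X ⟶ L) [IsLocallyNoetherian X] [Mono s]
  (hL : PicF.IsInvertible L) (hker : PicF2.zeroScheme L s = f.ker)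

include hL hker in
/-- The inverse image of the cokernel of `⊗ s`. -/
theorem nonempty_pull_cokernel (M : X.Modules) :
    Nonempty ((Scheme.Modules.pullback f).obj (cokernel (SectionCut.mul s M)) ≅
      (Scheme.Modules.pullback f).obj (CohB1.tensorMod M L)) := by
  let A := Scheme.Modules.pullbackPushforwardAdjunction f
  haveI : PreservesColimitsOfSize.{0, 0} (Scheme.Modules.pullback f) := A.leftAdjoint_preservesColimits
  have hz : (Scheme.Modules.pullback f).map (SectionCut.mul s M) = 0 := by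
    refine (A.homEquiv _ _).injective ?_
    rw [Adjunction.homEquiv_unit, Adjunction.homEquiv_unit, Functor.map_zero, comp_zero]
    refine (A.unit.naturality (SectionCut.mul s M)).symm.trans ?_
    exact SectionCut.mulHom_comp_eq_zero s f hL hker
      (H16Derived.ProjFormula.killed_push f _) _
  exact ⟨PreservesCokernel.iso (Scheme.Modules.pullback f) (SectionCut.mul s M) ≪≫ cokernelIsoOfEq hz ≪≫
    cokernelZeroIsoTarget⟩

include hL hker in
/-- A submodule cut by the zero scheme of a section missing the associated points of it and of the quotient. -/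
theorem exists_cut_gen {F E : X.Modules} (ι₀ : F ⟶ E) [Mono ι₀] (hF : Coh.IsCoh F)
    (h₁ : Mono (SectionCut.mul s F)) (h₂ : Mono (SectionCut.mul s (cokernel ι₀)))
    (hE : Coh.IsCoh E) :
    ∃ j : (Scheme.Modules.pullback f).obj (cokernel (SectionCut.mul s F)) ⟶
        CohB1.tensorMod ((Scheme.Modules.pullback f).obj E) ((Scheme.Modules.pullback f).obj L),
      Mono j ∧ Coh.IsCoh ((Scheme.Modules.pullback f).obj (cokernel (SectionCut.mul s F))) ∧
      Nonempty (cokernel (SectionCut.mul s F) ≅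
        (Coh.push f).obj ((Scheme.Modules.pullback f).obj (cokernel (SectionCut.mul s F)))) := by
  have hS : (ShortComplex.mk ι₀ (cokernel.π ι₀) (cokernel.condition ι₀)).ShortExact :=
    { exact := ShortComplex.exact_cokernel _ }
  have hT := H10Coh.Tw.shortExact_seq hS hL
  haveI : Mono (LimSh.tensorModMap ι₀ L) := hT.mono_f
  haveI := h₂
  haveI := SectionCut.mono_cokernel_map ι₀ (cokernel.π ι₀) (LimSh.tensorModMap ι₀ L)
    (LimSh.tensorModMap (cokernel.π ι₀) L) (cokernel.condition ι₀)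
    (H10Coh.Tw.seq (ShortComplex.mk ι₀ (cokernel.π ι₀) (cokernel.condition ι₀)) hL).zero hS
    (SectionCut.mul s F) (SectionCut.mul s E) (SectionCut.mul s (cokernel ι₀))
    (SectionCut.mul_natural s ι₀) (SectionCut.mul_natural s (cokernel.π ι₀))
  have hC : Coh.IsCoh (cokernel (SectionCut.mul s F)) :=
    H10Coh.isCoh_cokernel _ hF.1 (H11Ample.isCoh_tensor hF hL)
  have hkF := SectionCut.killed_cokernel s f hL hker F
  have hkE := SectionCut.killed_cokernel s f hL hker E
  haveI := mono_pull f (cokernel.map (SectionCut.mul s F) (SectionCut.mul s E) ι₀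
    (LimSh.tensorModMap ι₀ L) (SectionCut.mul_natural s ι₀)) hkF hkE
  obtain ⟨e₁⟩ := nonempty_pull_cokernel f s hL hker E
  let e₂ : (Scheme.Modules.pullback f).obj (CohB1.tensorMod E L) ≅
      CohB1.tensorMod ((Scheme.Modules.pullback f).obj E) ((Scheme.Modules.pullback f).obj L) :=
    (Scheme.Modules.pullback f).mapIso (eqToIso (H25Euler.tensorBi_flip_obj E L).symm) ≪≫
      (show (Scheme.Modules.pullback f).obj (((DCoh.tensorBi (X := X)).flip.obj L).obj E) ≅
          ((DCoh.tensorBi (X := Z)).flip.obj ((Scheme.Modules.pullback f).obj L)).obj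
            ((Scheme.Modules.pullback f).obj E) from
        (H16Derived.KFlat.Stalk.pullTensorLIso f L).app E) ≪≫
      eqToIso (H25Euler.tensorBi_flip_obj ((Scheme.Modules.pullback f).obj E) ((Scheme.Modules.pullback f).obj L))
  haveI := H16Derived.ProjFormula.isIso_unit_of_killed f hkF
  exact ⟨(Scheme.Modules.pullback f).map (cokernel.map (SectionCut.mul s F) (SectionCut.mul s E) ι₀
      (LimSh.tensorModMap ι₀ L) (SectionCut.mul_natural s ι₀)) ≫ e₁.hom ≫ e₂.hom,
    mono_comp _ _, H17.ConsProp.isCoh_pullback f hC,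
    ⟨@asIso _ _ _ _ ((Scheme.Modules.pullbackPushforwardAdjunction f).unit.app _)
      (H16Derived.ProjFormula.isIso_unit_of_killed f hkF)⟩⟩

end push

/-- The inverse image of a free module. -/
def pullFreeIso {X Z : Scheme.{u}} (f : Z ⟶ X) (r : ℕ) :
    (Scheme.Modules.pullback f).obj (FlatMod.freeMod X r) ≅ FlatMod.freeMod Z r :=
  haveI : PreservesColimitsOfSize.{0, 0} (Scheme.Modules.pullback f) :=
    (Scheme.Modules.pullbackPushforwardAdjunction f).leftAdjoint_preservesColimits
  (PreservesCoproduct.iso (Scheme.Modules.pullback f) fun _ : Fin r => Coh.structureModule X) ≪≫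
    Sigma.mapIso fun _ => H16Derived.KFlat.Stalk.structurePullbackIso f

local notation "O" => fun d : ℤ => Twist.twistProjSpace (n + 1) k d

/-- A homogeneous element of degree one as a morphism to the twist. -/
theorem exists_section {R A : Type u} [CommRing R] [CommRing A] [Algebra R A] (𝒜 : ℕ → Submodule R A)
    [GradedAlgebra 𝒜] {f : A} (hf : f ∈ 𝒜 1) :
    ∃ s : Coh.structureModule (Proj 𝒜) ⟶ GrTwist.twist 𝒜 1, SecTwist.val s ⊤ = globalSec 𝒜 hf ∧
      Proj.basicOpen 𝒜 f ≤ CohB1.genLocus (GrTwist.twist 𝒜 1) s := by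
  let g : Γ(GrTwist.twist 𝒜 1, ⊤) := globalSec 𝒜 hf
  have e : Proj.basicOpen 𝒜 f ≤ gen (GrTwist.twist 𝒜 1) g := fun y hy =>
    mem_gen_of_isGen (isGen_globalSec 𝒜 hf) hy
  exact ⟨homOfGlobal (GrTwist.twist 𝒜 1) g, val_homOfGlobal g, e⟩

/-- The section cutting out a hyperplane. -/
theorem exists_hyperplane (a : Fin (n + 2) → k) (p : Fin (n + 2)) (hp : a p ≠ 0)
    (hm : HyperplaneAlg.form a ∈ polyGrading (n + 1) k 1) (hm0 : HyperplaneAlg.form a ≠ 0) :
    ∃ s : Coh.structureModule (Proj (polyGrading (n + 1) k)) ⟶ GrTwist.twist (polyGrading (n + 1) k) 1, Mono s ∧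
      Proj.basicOpen (polyGrading (n + 1) k) (HyperplaneAlg.form a) ≤
        CohB1.genLocus (GrTwist.twist (polyGrading (n + 1) k) 1) s ∧
      PicF2.zeroScheme (GrTwist.twist (polyGrading (n + 1) k) 1) s = (HyperplanePn.emb a p).ker ∧
      Nonempty ((Scheme.Modules.pullback (HyperplanePn.emb a p)).obj (GrTwist.twist (polyGrading (n + 1) k) 1) ≅
        GrTwist.twist (polyGrading n k) 1) := by
  obtain ⟨s, hs0, hgen'⟩ := exists_section (polyGrading (n + 1) k) hm
  have hker := HyperplanePn.ker_emb hm s hs0 a p hp rfl hm0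
  refine ⟨s, ?_, hgen', hker, HyperplanePn.nonempty_pullback_iso a p⟩
  have hreg := HyperplanePn.regular hm s hs0 hm0
  refine H11Tilde.mono_of_injective _ fun W t ht x hx => ?_
  obtain ⟨r, hr⟩ := (H11Ample.isGen_one (X := Proj (polyGrading (n + 1) k)) ⊤ x trivial).2
    ((Coh.structureModule (Proj (polyGrading (n + 1) k))).presheaf.germ W x hx t)
  have h1 := H06Mod.stalkLin_germ s x W hx t
  rw [ht, map_zero, ← show _ = (Coh.structureModule (Proj (polyGrading (n + 1) k))).presheaf.germ W x hx t from hr,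
    map_smul, H06Mod.stalkLin_germ] at h1
  have h0 : r = 0 := hreg x (h1.trans (zero_smul _ _).symm)
  replace hr : r • _ = (Coh.structureModule (Proj (polyGrading (n + 1) k))).presheaf.germ W x hx t := hr
  rw [h0, zero_smul] at hr
  obtain ⟨V, hxV, iV, iW, hV⟩ := (Coh.structureModule (Proj (polyGrading (n + 1) k))).presheaf.germ_eq x hx hx t 0
    (hr.symm.trans (map_zero _).symm)
  exact ⟨V, iV.le, hxV, hV.trans (map_zero _)⟩

/-- The cut of a submodule of a free module by a general hyperplane. -/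
theorem exists_cut [Infinite k] {F : (CohB1.ProjSpace (n + 1) k).Modules} (hF : Coh.IsCoh F) {r : ℕ}
    (ι₀ : F ⟶ FlatMod.freeMod (CohB1.ProjSpace (n + 1) k) r) [Mono ι₀] :
    ∃ (G : (CohB1.ProjSpace n k).Modules) (j : G ⟶ FlatMod.freeMod (CohB1.ProjSpace n k) r)
      (e : CohB1.ProjSpace n k ⟶ CohB1.ProjSpace (n + 1) k)
      (κ : CohB1.tensorMod (CohB1.tensorMod F (Twist.twistProjSpace (n + 1) k 1))
          (Twist.twistProjSpace (n + 1) k (-1)) ⟶ CohB1.tensorMod F (Twist.twistProjSpace (n + 1) k 1)),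
      Coh.IsCoh G ∧ Mono j ∧ Mono κ ∧ IsClosedImmersion e ∧
      e ≫ CohB1.ProjSpace.toSpec (n + 1) k = CohB1.ProjSpace.toSpec n k ∧
      ∀ d : ℤ, Nonempty (CohB1.tensorMod (cokernel κ) (Twist.twistProjSpace (n + 1) k d) ≅
        (Coh.push e).obj (CohB1.tensorMod G (Twist.twistProjSpace n k (d + 1)))) := by
  haveI := CMHyper.noetherian k (n + 1)
  haveI := CMHyper.noetherian k n
  have hs := CMField.setup k (n + 1)
  have hs' := CMField.setup k n
  let P := CohB1.ProjSpace (n + 1) k
  let L := Twist.twistProjSpace (n + 1) k 1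
  have hL : PicF.IsInvertible L := hs.fam.inv 1
  let Q := cokernel ι₀
  have hfree : Coh.IsCoh (FlatMod.freeMod P r) :=
    H10Coh.isCoh_sigma _ fun _ => H10Coh.isCoh_structureModule' P
  have hQ : Coh.IsCoh Q := H10Coh.isCoh_cokernel ι₀ hF.1 hfree
  obtain ⟨a, p, hp, hav⟩ := exists_form (n := n) (k := k)
    (S := AssSch.Ass F ∪ AssSch.Ass Q)
    ((H17.PrimaryDecomp.finite_ass hF).union (H17.PrimaryDecomp.finite_ass hQ))
  have hm : HyperplaneAlg.form a ∈ polyGrading (n + 1) k 1 :=
    (MvPolynomial.mem_homogeneousSubmodule 1 _).2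
      (MvPolynomial.IsHomogeneous.sum _ _ _ fun t _ => MvPolynomial.isHomogeneous_C_mul_X _ _)
  have hm0 : HyperplaneAlg.form a ≠ 0 := fun h => by
    have h' := congrArg (MvPolynomial.coeff (Finsupp.single p 1)) h
    rw [HyperplaneAlg.form, MvPolynomial.coeff_sum, Finset.sum_eq_single p (fun b _ hb => by
      rw [MvPolynomial.coeff_C_mul, MvPolynomial.coeff_X', if_neg (fun e => hb
        ((Finsupp.single_left_injective one_ne_zero) e)), mul_zero]) (by simp),
      MvPolynomial.coeff_C_mul, MvPolynomial.coeff_X', if_pos rfl, mul_one,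
      MvPolynomial.coeff_zero] at h'
    exact hp h'
  obtain ⟨s, hsm, hgen, hker, heL⟩ : ∃ s : Coh.structureModule P ⟶ L, Mono s ∧
      Proj.basicOpen (polyGrading (n + 1) k) (HyperplaneAlg.form a) ≤ CohB1.genLocus L s ∧
      PicF2.zeroScheme L s = (HyperplanePn.emb a p).ker ∧
      Nonempty ((Scheme.Modules.pullback (HyperplanePn.emb a p)).obj L ≅ Twist.twistProjSpace n k 1) :=
    exists_hyperplane a p hp hm hm0
  haveI := hsm
  let e : CohB1.ProjSpace n k ⟶ P := HyperplanePn.emb a p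
  haveI he : IsClosedImmersion e := HyperplanePn.isClosedImmersion_emb a p
  have hμQ : Mono (SectionCut.mul s Q) := by
    refine SectionCut.mono_mulHom s hQ.1 fun x hx => ?_
    exact hgen (hav x (Or.inr hx))
  haveI hμF : Mono (SectionCut.mul s F) := by
    refine SectionCut.mono_mulHom s hF.1 fun x hx => ?_
    exact hgen (hav x (Or.inl hx))
  let C := cokernel (SectionCut.mul s F)
  obtain ⟨j₀, hj₀, hC', ⟨ψ⟩⟩ := exists_cut_gen (L := L) e s hL hker ι₀ hF hμF hμQ hfree
  haveI := hj₀
  let pe := Scheme.Modules.pullback e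
  obtain ⟨eL⟩ := heL
  let M := Twist.twistProjSpace n k (-1)
  obtain ⟨u⟩ := hs'.fam.add 1 (-1)
  obtain ⟨z⟩ := hs'.fam.zero
  let j' : pe.obj C ⟶ CohB1.tensorMod (FlatMod.freeMod (CohB1.ProjSpace n k) r) (Twist.twistProjSpace n k 1) :=
    j₀ ≫ (PicGrp.tensorModIso (pullFreeIso e r) eL).hom
  haveI : Mono j' := mono_comp _ _
  have hSj : (ShortComplex.mk j' (cokernel.π j') (cokernel.condition j')).ShortExact :=
    { exact := ShortComplex.exact_cokernel _ }
  haveI : Mono (LimSh.tensorModMap j' M) := (H10Coh.Tw.shortExact_seq hSj (hs'.fam.inv (-1))).mono_f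
  let j : CohB1.tensorMod (pe.obj C) M ⟶ FlatMod.freeMod (CohB1.ProjSpace n k) r :=
    LimSh.tensorModMap j' M ≫ (H10Coh.Tw.assoc _ _ _ ≪≫ PicGrp.tensorModIso (Iso.refl _)
      (u ≪≫ eqToIso (congrArg (Twist.twistProjSpace n k) (by norm_num)) ≪≫ z) ≪≫ H10Coh.Tw.rightUnitIso _).hom
  have hG : Coh.IsCoh (CohB1.tensorMod (pe.obj C) M) := H11Ample.isCoh_tensor hC' (hs'.fam.inv _)
  obtain ⟨w⟩ := hs.fam.add 1 (-1)
  obtain ⟨w₀⟩ := hs.fam.zero
  let θ : CohB1.tensorMod (CohB1.tensorMod F L) (Twist.twistProjSpace (n + 1) k (-1)) ≅ F :=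
    H10Coh.Tw.assoc _ _ _ ≪≫ PicGrp.tensorModIso (Iso.refl _)
      (w ≪≫ eqToIso (congrArg (Twist.twistProjSpace (n + 1) k) (by norm_num)) ≪≫ w₀) ≪≫
      H10Coh.Tw.rightUnitIso _
  refine ⟨_, j, e, θ.hom ≫ SectionCut.mul s F, hG, mono_comp _ _, mono_comp _ _, he, emb_toSpec a p, fun d => ?_⟩
  obtain ⟨σ⟩ := H10Coh.Tw.nonempty_push_tensor_iso e (pe.obj C) (hs.fam.inv d)
  obtain ⟨τ⟩ := fam_unique (hs.fam.pullback e) hs'.fam eL d
  obtain ⟨v⟩ := hs'.fam.add (-1) (d + 1)
  exact ⟨PicGrp.tensorModIso (cokernelEpiComp θ.hom (SectionCut.mul s F) ≪≫ ψ) (Iso.refl _) ≪≫ σ ≪≫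
    (Coh.push e).mapIso (PicGrp.tensorModIso (Iso.refl _) (τ ≪≫
      eqToIso (congrArg (Twist.twistProjSpace n k) (by ring)) ≪≫ v.symm) ≪≫ (H10Coh.Tw.assoc _ _ _).symm)⟩

/-- Vanishing along the hyperplane. -/
theorem van_push {e : CohB1.ProjSpace n k ⟶ CohB1.ProjSpace (n + 1) k} [IsClosedImmersion e]
    {M : (CohB1.ProjSpace n k).Modules} (hM : Coh.IsCoh M) {i : ℕ} (h : CMField.Van i M) :
    CMField.Van i ((Coh.push e).obj M) := by
  haveI : M.IsQuasicoherent := hM.1
  exact (H10Coh.affineLerayEquiv e M i ⊤).toEquiv.subsingleton_congr.2 h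

end Groth.Agent.H22Alg.MumfordStep
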