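import Groth.Agent.H22Alg.ExtPowHom
import Groth.Agent.H22Alg.KModel
import Groth.Agent.H22Alg.PullVb
import Groth.Agent.H16Derived.KFlat.SheafAssoc
import Groth.Agent.H11Ample.Pullback
import Groth.Prelude.Def_KRR

/-! # The pull-back on models of `K` is a homomorphism of λ-rings with positive structure. -/

set_option autoImplicit false
set_option linter.style.haveILetI false

universe w v u

open CategoryTheory CategoryTheory.Limits AlgebraicGeometry
attribute [local instance] HasDerivedCategory.standard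

noncomputable section

namespace Groth.Agent.H22Alg.KPullLam

theorem finLocFreeOfRank_pullback {X Y : Scheme.{u}} (f : X ⟶ Y) {n : ℕ} {M : Y.Modules}
    (hM : FlatMod.IsFinLocFreeOfRank n M) : FlatMod.IsFinLocFreeOfRank n ((Scheme.Modules.pullback f).obj M) := fun x => by
  obtain ⟨V, hx, ⟨e⟩⟩ := hM (f.base x)
  exact ⟨f ⁻¹ᵁ V, hx, ⟨(H16Derived.KFlat.Stalk.pullbackRestrictIso f V).app M ≪≫
    (Scheme.Modules.pullback (f ∣_ V)).mapIso e ≪≫ H16Derived.KFlat.Stalk.freeModPullbackIso (f ∣_ V) n⟩⟩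

theorem finLocFree_of_rank {X : Scheme.{u}} {n : ℕ} {M : X.Modules} (hM : FlatMod.IsFinLocFreeOfRank n M) :
    FlatMod.IsFinLocFree M := fun x => by
  obtain ⟨U, hx, he⟩ := hM x
  exact ⟨U, n, hx, he⟩

variable {X Y : Scheme.{u}} {f : X ⟶ Y}
  {KX : Type v} [CommRing KX] [LambdaRing.LambdaOps KX] {PX : LambdaRing.PosStructure KX} {φX : SGA6.Kvb X →+ KX}
  {KY : Type w} [CommRing KY] [LambdaRing.LambdaOps KY] {PY : LambdaRing.PosStructure KY} {φY : SGA6.Kvb Y →+ KY}
  (hKX : KRR.IsModel X KX PX φX) (hKY : KRR.IsModel Y KY PY φY) {g : KY →+ KX} (hg : KRR.IsPull f φY φX g)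

include hKX hKY hg

theorem map_one : g 1 = 1 := by
  have hO : FlatMod.IsFinLocFree (Coh.structureModule Y) := PnVan.finLocFree_of_inv (PnDeg0.isInvertible_structure Y)
  obtain ⟨e⟩ := H11Ample.nonempty_pullback_structureModule_iso f
  rw [← hKY.map_one, hg _ hO, KModel.cl_iso e (H16Derived.KFlat.Stalk.isFinLocFree_pullback f hO), hKX.map_one]

theorem map_mul (x y : KY) : g (x * y) = g x * g y := by
  obtain ⟨x₀, rfl⟩ := hKY.bijective.2 x
  obtain ⟨y₀, rfl⟩ := hKY.bijective.2 y
  have key : ∀ F : Y.Modules, FlatMod.IsFinLocFree F →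
      g.comp ((AddMonoidHom.mulRight (φY (KRR.cl Y F))).comp φY) =
        (AddMonoidHom.mulRight (g (φY (KRR.cl Y F)))).comp (g.comp φY) := fun F hF => by
    refine KModel.kvb_ext fun E hE => ?_
    have hEF := H16Derived.KFlat.Stalk.isFinLocFree_tensor hE hF
    simp only [AddMonoidHom.comp_apply, AddMonoidHom.mulRight_apply]
    rw [hg E hE, hg F hF, hKY.map_mul E F hE hF, hg _ hEF,
      hKX.map_mul _ _ (H16Derived.KFlat.Stalk.isFinLocFree_pullback f hE)
        (H16Derived.KFlat.Stalk.isFinLocFree_pullback f hF)]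
    exact congrArg φX (KModel.cl_iso ((H16Derived.KFlat.Stalk.pullTensorLIso f F).app E)
      (H16Derived.KFlat.Stalk.isFinLocFree_pullback f hEF))
  have key2 : g.comp ((AddMonoidHom.mulLeft (φY x₀)).comp φY) =
      (AddMonoidHom.mulLeft (g (φY x₀))).comp (g.comp φY) :=
    KModel.kvb_ext fun F hF => DFunLike.congr_fun (key F hF) x₀
  exact DFunLike.congr_fun key2 y₀

/-- The pull-back as a ring homomorphism. -/
def ringHom : KY →+* KX where
  toFun := g
  map_one' := map_one hKX hKY hg
  map_mul' := map_mul hKX hKY hg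
  map_zero' := g.map_zero
  map_add' := g.map_add

theorem map_aug (x : KY) [Nonempty ↥X] [Nonempty ↥Y] : PX.aug (g x) = PY.aug x := by
  obtain ⟨e, e', he, he', rfl⟩ := PY.exists_sub x
  have key : ∀ e ∈ PY.pos, PX.aug (g e) = PY.aug e := fun e he => by
    obtain ⟨n, E, -, hE, rfl⟩ := (hKY.mem_pos_iff e).1 he
    rw [hg E (finLocFree_of_rank hE), hKY.aug_cl n E hE, hKX.aug_cl n _ (finLocFreeOfRank_pullback f hE)]
  rw [map_sub, map_sub, map_sub, key e he, key e' he']

theorem map_pos {e : KY} (he : e ∈ PY.pos) : g e ∈ PX.pos := by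
  obtain ⟨n, E, hn, hE, rfl⟩ := (hKY.mem_pos_iff e).1 he
  exact (hKX.mem_pos_iff _).2 ⟨n, _, hn, finLocFreeOfRank_pullback f hE, (hg E (finLocFree_of_rank hE)).symm⟩

theorem map_lam_pos {e : KY} (he : e ∈ PY.pos) (i : ℕ) :
    g (LambdaRing.LambdaOps.lam i e) = LambdaRing.LambdaOps.lam i (g e) := by
  obtain ⟨n, E, -, hE', rfl⟩ := (hKY.mem_pos_iff e).1 he
  have hE := finLocFree_of_rank hE'
  have hq := H8Props.FinLocFree.isQCoh_of_isFinLocFree _ hE
  obtain ⟨L, hL⟩ := ExtPowSheaf.exists_isExtPow i hq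
  have hLf := ExtPowHom.finLocFree_of_isExtPow hE hL
  rw [hKY.map_lam i E L hE hLf hL, hg L hLf, hg E hE,
    hKX.map_lam i _ _ (H16Derived.KFlat.Stalk.isFinLocFree_pullback f hE)
      (H16Derived.KFlat.Stalk.isFinLocFree_pullback f hLf) (ExtPowHom.isExtPow_pullback f hq hL)]

theorem map_lam (i : ℕ) (x : KY) : g (LambdaRing.LambdaOps.lam i x) = LambdaRing.LambdaOps.lam i (g x) := by
  obtain ⟨e, e', he, he', rfl⟩ := PY.exists_sub x
  induction i using Nat.strong_induction_on with
  | _ i ih =>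
    have h1 := congrArg g (LambdaRing.LambdaOps.lam_add i (e - e') e')
    have h2 := LambdaRing.LambdaOps.lam_add i (g (e - e')) (g e')
    rw [sub_add_cancel, map_sum, map_lam_pos hKX hKY hg he] at h1
    rw [← g.map_add, sub_add_cancel, h1, Finset.sum_range_succ, Finset.sum_range_succ] at h2
    have hrest : ∑ j ∈ Finset.range i, g (LambdaRing.LambdaOps.lam j (e - e') * LambdaRing.LambdaOps.lam (i - j) e') =
        ∑ j ∈ Finset.range i, LambdaRing.LambdaOps.lam j (g (e - e')) * LambdaRing.LambdaOps.lam (i - j) (g e') :=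
      Finset.sum_congr rfl fun j hj => by
        rw [map_mul hKX hKY hg, ih j (Finset.mem_range.1 hj), map_lam_pos hKX hKY hg he']
    rw [hrest, Nat.sub_self, LambdaRing.LambdaOps.lam_zero, LambdaRing.LambdaOps.lam_zero, mul_one, mul_one] at h2
    exact add_left_cancel h2

omit hKX hKY hg in
theorem isLambdaHom {K : Type v} [CommRing K] [LambdaRing.LambdaOps K] {P : LambdaRing.PosStructure K}
    {φ : SGA6.Kvb Y →+ K} (hKX : KRR.IsModel X KX PX φX) (hK : KRR.IsModel Y K P φ) {g : K →+ KX}
    (hg : KRR.IsPull f φ φX g) : LambdaRing.IsLambdaHom (ringHom hKX hK hg) := map_lam hKX hK hg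

/-- The pull-back respects the γ-filtrations. -/
theorem map_gammaFiltration [Nonempty ↥X] [Nonempty ↥Y] {k : ℕ} {x : KY}
    (hx : x ∈ LambdaRing.gammaFiltration PY k) : g x ∈ LambdaRing.gammaFiltration PX k := by
  unfold LambdaRing.gammaFiltration at hx ⊢
  split_ifs with h
  · trivial
  rw [if_neg h] at hx
  induction hx using AddSubgroup.closure_induction with
  | mem y hy =>
    obtain ⟨l, h0, hl, rfl⟩ := hy
    refine AddSubgroup.subset_closure ⟨l.map fun p => (p.1, g p.2), ?_, ?_, ?_⟩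
    · intro p hp
      obtain ⟨q, hq, rfl⟩ := List.mem_map.1 hp
      rw [map_aug hKX hKY hg]
      exact h0 q hq
    · rw [List.map_map]
      exact hl
    · show ringHom hKX hKY hg _ = _
      rw [map_list_prod, List.map_map, List.map_map]
      refine congrArg List.prod (List.map_congr_left fun p _ => ?_)
      show ringHom hKX hKY hg (LambdaRing.gamma p.1 p.2) = LambdaRing.gamma p.1 (g p.2)
      unfold LambdaRing.gamma
      split_ifs
      · exact (ringHom hKX hKY hg).map_one
      · rw [map_sum]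
        refine Finset.sum_congr rfl fun j _ => ?_
        rw [(ringHom hKX hKY hg).map_mul, map_natCast]
        split_ifs
        · rw [(ringHom hKX hKY hg).map_zero]
        · exact congrArg _ (map_lam hKX hKY hg j p.2)
  | zero => rw [g.map_zero]; exact zero_mem _
  | add a b _ _ ha hb => rw [g.map_add]; exact add_mem ha hb
  | neg a _ ha => rw [g.map_neg]; exact neg_mem ha

end Groth.Agent.H22Alg.KPullLam
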