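import Groth.Agent.H22Alg.ExtPowHom
import Groth.Agent.H10Coh.TwistExact
import Groth.Agent.H10Coh.TensorTilde
import Groth.Agent.H17.PrinOmega

/-! # Exterior powers of a twist by an invertible module. -/

set_option autoImplicit false
set_option linter.style.haveILetI false

universe u

open CategoryTheory AlgebraicGeometry Opposite TopologicalSpace exteriorPower

noncomputable section

namespace Groth.Agent.H22Alg.ExtPowTwist

open ExtPowAlg ExtPowSheaf H11Tilde H11Ample

variable {X : Scheme.{u}} {i : ℕ} {E M L : X.Modules}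

/-- Tensoring with a section, on sections. -/
def tmL (A : X.Modules) {U : X.Opens} (l : Γ(L, U)) : Γ(A, U) →ₗ[Γ(X, U)] Γ(CohB1.tensorMod A L, U) where
  toFun m := tm m l
  map_add' a b := tm_add_left a b l
  map_smul' r a := tm_smul_left r a l

theorem bijective_tmL (A : X.Modules) {U : X.Opens} {l : Γ(L, U)} (hl : IsGen L l) :
    Function.Bijective (tmL A l) := by
  have h := bijective_tm (F := A) hl (le_refl U)
  simp only [H10Coh.mres_self] at h
  exact h

theorem exists_unit_smul {U : X.Opens} {l l' : Γ(L, U)} (hl : IsGen L l) (hl' : IsGen L l') :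
    ∃ c : Γ(X, U), IsUnit c ∧ l' = c • l := by
  obtain ⟨c, hc⟩ := exists_coeff hl l'
  obtain ⟨d, hd⟩ := exists_coeff hl' l
  refine ⟨c, IsUnit.of_mul_eq_one (a := c) d ?_, hc⟩
  have h := hl.bijective (le_refl U)
  refine h.1 ?_
  show (c * d) • _ = (1 : Γ(X, U)) • _
  rw [H10Coh.mres_self, one_smul, mul_comm, ← smul_smul, ← hc, ← hd]

/-- `Λ^i (E ⊗ L) ≅ Λ^i E ⊗ L^i`. -/
theorem nonempty_iso (hE : Coh.IsQCoh E) (hL : PicF.IsInvertible L) (hM : ExtPow.IsExtPow i E M) {M' : X.Modules}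
    (hM' : ExtPow.IsExtPow i (CohB1.tensorMod E L) M') :
    Nonempty (M' ≅ CohB1.tensorMod M (CohB1.tensorPow L i)) := by
  obtain ⟨φ₀, hφ₀⟩ := hM
  obtain ⟨φ₀', hφ₀'⟩ := hM'
  let φ : ∀ U : X.Opens, IsAffineOpen U → (Γ(M, U) ≃ₗ[Γ(X, U)] ↥(⋀[Γ(X, U)]^i Γ(E, U))) :=
    fun U hU => φ₀ ⟨U, hU⟩
  let φ' : ∀ U : X.Opens, IsAffineOpen U →
      (Γ(M', U) ≃ₗ[Γ(X, U)] ↥(⋀[Γ(X, U)]^i Γ(CohB1.tensorMod E L, U))) := fun U hU => φ₀' ⟨U, hU⟩
  have hφ : ∀ (U V : X.Opens) (hU : IsAffineOpen U) (hV : IsAffineOpen V) (h : V ≤ U) (e : Fin i → Γ(E, U)),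
      M.presheaf.map (homOfLE h).op ((φ U hU).symm (ιMulti Γ(X, U) i e)) =
        (φ V hV).symm (ιMulti Γ(X, V) i fun j => E.presheaf.map (homOfLE h).op (e j)) :=
    fun U V hU hV h e => hφ₀ ⟨U, hU⟩ ⟨V, hV⟩ h e
  have hφ' : ∀ (U V : X.Opens) (hU : IsAffineOpen U) (hV : IsAffineOpen V) (h : V ≤ U)
      (e : Fin i → Γ(CohB1.tensorMod E L, U)),
      M'.presheaf.map (homOfLE h).op ((φ' U hU).symm (ιMulti Γ(X, U) i e)) =
        (φ' V hV).symm (ιMulti Γ(X, V) i fun j => (CohB1.tensorMod E L).presheaf.map (homOfLE h).op (e j)) :=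
    fun U V hU hV h e => hφ₀' ⟨U, hU⟩ ⟨V, hV⟩ h e
  let B : X.Opens → Prop := fun U => IsAffineOpen U ∧ ∃ l : Γ(L, U), IsGen L l
  have hB : ∀ (W : X.Opens) (x : X), x ∈ W → ∃ U, B U ∧ x ∈ U ∧ U ≤ W := fun W x hx => by
    obtain ⟨V, e, hxV, he⟩ := exists_gen hL x
    obtain ⟨U, hU, hxU, hle⟩ := exists_isAffineOpen_mem_and_subset (x := x) (U := W ⊓ V) ⟨hx, hxV⟩
    exact ⟨U, ⟨hU, _, he.res (fun y hy => (hle hy).2)⟩, hxU, fun y hy => (hle hy).1⟩
  -- the local map
  let aE : ∀ (U : X.Opens) (l : Γ(L, U)), IsGen L l → (Γ(E, U) ≃ₗ[Γ(X, U)] Γ(CohB1.tensorMod E L, U)) :=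
    fun U l hl => LinearEquiv.ofBijective (tmL E l) (bijective_tmL E hl)
  let ψ : ∀ (U : X.Opens), IsAffineOpen U → ∀ (l : Γ(L, U)), IsGen L l → (Γ(M', U) →ₗ[Γ(X, U)] Γ(M, U)) :=
    fun U hU l hl => (φ U hU).symm.toLinearMap ∘ₗ exteriorPower.map i (aE U l hl).symm.toLinearMap ∘ₗ
      (φ' U hU).toLinearMap
  let ν₀ : ∀ (U : X.Opens), IsAffineOpen U → ∀ (l : Γ(L, U)), IsGen L l →
      (Γ(M', U) →ₗ[Γ(X, U)] Γ(CohB1.tensorMod M (CohB1.tensorPow L i), U)) :=
    fun U hU l hl => tmL M (spow l i) ∘ₗ ψ U hU l hl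
  have hgen : ∀ (U : X.Opens) (hU : IsAffineOpen U) (l : Γ(L, U)) (hl : IsGen L l) (e : Fin i → Γ(E, U)),
      ν₀ U hU l hl ((φ' U hU).symm (ιMulti Γ(X, U) i fun j => tm (e j) l)) =
        tm ((φ U hU).symm (ιMulti Γ(X, U) i e) : Γ(M, U)) (spow l i) := fun U hU l hl e => by
    show tm _ _ = tm _ _
    refine congrArg (fun z => tm z (spow l i)) ?_
    show (φ U hU).symm (exteriorPower.map i (aE U l hl).symm.toLinearMap ((φ' U hU) _)) = _
    refine congrArg (φ U hU).symm ?_
    refine (congrArg _ (LinearEquiv.apply_symm_apply _ _)).trans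
      ((exteriorPower.map_apply_ιMulti _ _).trans (congrArg _ (funext fun j => ?_)))
    exact (aE U l hl).symm_apply_apply (e j)
  have hsurj : ∀ (U : X.Opens) (l : Γ(L, U)), IsGen L l → ∀ (y : Γ(CohB1.tensorMod E L, U)), ∃ e : Γ(E, U), tm e l = y :=
    fun U l hl => (bijective_tmL E hl).2
  -- independence of the generator
  have hindep : ∀ (U : X.Opens) (hU : IsAffineOpen U) (l l' : Γ(L, U)) (hl : IsGen L l) (hl' : IsGen L l'),
      ν₀ U hU l hl = ν₀ U hU l' hl' := fun U hU l l' hl hl' => by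
    obtain ⟨c, -, rfl⟩ := exists_unit_smul hl hl'
    refine LinearMap.ext fun x => ?_
    obtain ⟨y, rfl⟩ := (φ' U hU).symm.surjective x
    induction y using ExtPowAlg.induction with
    | hgen v =>
      choose e he using fun j => hsurj U (c • l) hl' (v j)
      obtain rfl : v = fun j => tm (e j) (c • l) := funext fun j => (he j).symm
      rw [hgen U hU (c • l) hl' e]
      have he2 : (fun j => tm (e j) (c • l)) = fun j => tm (c • e j) l :=
        funext fun j => (tm_smul_right c (e j) l).trans (tm_smul_left c (e j) l).symm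
      rw [he2, hgen U hU l hl (fun j => c • e j), spow_smul, tm_smul_right,
        show (ιMulti Γ(X, U) i fun j => c • e j) = c ^ i • ιMulti Γ(X, U) i e by
          rw [show (c ^ i : Γ(X, U)) = ∏ _j : Fin i, c by simp]
          exact (ιMulti Γ(X, U) i).toMultilinearMap.map_smul_univ (fun _ => c) e]
      refine (congrArg (fun z => tm z (spow l i)) ((φ U hU).symm.map_smul (c ^ i) _)).trans ?_
      exact tm_smul_left _ _ _
    | h0 => simp
    | hadd x y hx hy => simp only [map_add]; rw [hx, hy]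
    | hsmul r x hx =>
      rw [LinearEquiv.map_smul]
      exact (map_smul (ν₀ U hU l hl) r _).trans
        ((congrArg (r • ·) hx).trans (map_smul (ν₀ U hU (c • l) hl') r _).symm)
  obtain ⟨g, hg⟩ := H17.PrinOmega.exists_hom_of_basis M' (CohB1.tensorMod M (CohB1.tensorPow L i)) B hB
    (fun U hU => ν₀ U hU.1 hU.2.choose hU.2.choose_spec) (fun U U' hU hU' h s => by
      let l := hU.2.choose
      have hl : IsGen L l := hU.2.choose_spec
      rw [hindep U' hU'.1 _ (L.presheaf.map (homOfLE h).op l) hU'.2.choose_spec (hl.res h)]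
      obtain ⟨y, rfl⟩ := (φ' U hU.1).symm.surjective s
      induction y using ExtPowAlg.induction with
      | hgen v =>
        choose e he using fun j => hsurj U l hl (v j)
        obtain rfl : v = fun j => tm (e j) l := funext fun j => (he j).symm
        refine (congrArg _ (hφ' U U' hU.1 hU'.1 h _)).trans ?_
        have hv : (fun j => (CohB1.tensorMod E L).presheaf.map (homOfLE h).op (tm (e j) l)) =
            fun j => tm (E.presheaf.map (homOfLE h).op (e j)) (L.presheaf.map (homOfLE h).op l) :=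
          funext fun j => tm_res h (e j) l
        rw [hv]
        refine (hgen U' hU'.1 _ (hl.res h) _).trans ?_
        rw [hgen U hU.1 l hl e, tm_res, spow_res]
        exact congrArg (fun z => tm z _) (hφ U U' hU.1 hU'.1 h e).symm
      | h0 => simp
      | hadd x y hx hy => simp only [map_add]; rw [hx, hy]
      | hsmul r x hx =>
        rw [LinearEquiv.map_smul]
        refine (congrArg _ (Scheme.Modules.map_smul M' _ r _)).trans ?_
        refine (map_smul (ν₀ U' hU'.1 _ (hl.res h)) _ _).trans ?_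
        refine (congrArg (_ • ·) hx).trans ?_
        refine (Scheme.Modules.map_smul _ _ r _).symm.trans ?_
        exact congrArg _ (map_smul (ν₀ U hU.1 l hl) r _).symm)
  haveI : IsIso g := ExtPowHom.isIso_of_bijective g B hB fun U hU => by
    rw [show (g.app U : Γ(M', U) → _) = ν₀ U hU.1 hU.2.choose hU.2.choose_spec from funext (hg U hU)]
    exact (bijective_tmL M (isGen_spow hU.2.choose_spec i)).comp
      (((φ U hU.1).symm.bijective).comp
        (⟨exteriorPower.map_injective (aE U _ hU.2.choose_spec).toLinearMap (LinearEquiv.comp_coe _ _ |>.trans (by simp)),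
          exteriorPower.map_surjective (aE U _ hU.2.choose_spec).symm.surjective⟩ |> fun hb =>
            Function.Bijective.comp hb (φ' U hU.1).bijective))
  exact ⟨asIso g⟩

end Groth.Agent.H22Alg.ExtPowTwist
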