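import Mathlib

/-! # Euler characteristics of finite resolutions by objects of a class `P` (resolution theorem for `K₀`). -/

set_option autoImplicit false
set_option linter.unusedSectionVars false

universe v u w

open CategoryTheory CategoryTheory.Limits ZeroObject

noncomputable section

namespace Groth.Agent.H22Alg.ResEuler

variable {C : Type u} [Category.{v} C] [Abelian C] {G : Type w} [AddCommGroup G]

variable (P A : C → Prop) (c : C → G)

/-- The standing hypotheses: `P` is closed under extensions and kernels of epimorphisms, every object of `A` is a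
quotient of an object of `P`, and `A` is closed under kernels and extensions; `c` is additive on `P`. -/
structure Ctx : Prop where
  zero : ∀ M, IsZero M → P M
  ext : ∀ S : ShortComplex C, S.ShortExact → P S.X₁ → P S.X₃ → P S.X₂
  ker : ∀ S : ShortComplex C, S.ShortExact → P S.X₂ → P S.X₃ → P S.X₁
  le : ∀ M, P M → A M
  aker : ∀ S : ShortComplex C, S.ShortExact → A S.X₂ → A S.X₃ → A S.X₁
  aext : ∀ S : ShortComplex C, S.ShortExact → A S.X₁ → A S.X₃ → A S.X₂
  cover : ∀ M, A M → ∃ (E : C) (g : E ⟶ M), P E ∧ Epi g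
  add : ∀ S : ShortComplex C, S.ShortExact → P S.X₁ → P S.X₂ → P S.X₃ → c S.X₂ = c S.X₁ + c S.X₃

/-- `Val n M a`: there is a resolution of `M` of length at most `n` by objects of `P` with Euler sum `a`. -/
def Val : ℕ → C → G → Prop
  | 0, M, a => A M ∧ P M ∧ a = c M
  | n + 1, M, a => A M ∧ ∃ (E : C) (g : E ⟶ M) (b : G), P E ∧ Epi g ∧ Val n (kernel g) b ∧ a = c E - b

variable {P A c} (h : Ctx P A c)

theorem Val.mem {n : ℕ} {M : C} {a : G} (hv : Val P A c n M a) : A M := by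
  cases n <;> exact hv.1

include h

theorem P_iso {M N : C} (e : M ≅ N) (hM : P M) : P N := by
  have hS : (ShortComplex.mk (0 : (0 : C) ⟶ N) e.inv (by simp)).ShortExact :=
    { exact := (ShortComplex.exact_iff_mono _ rfl).2 inferInstance
      mono_f := ⟨fun _ _ _ => (isZero_zero C).eq_of_tgt _ _⟩
      epi_g := inferInstance }
  exact h.ext _ hS (h.zero _ (isZero_zero C)) hM

theorem A_iso {M N : C} (e : M ≅ N) (hM : A M) : A N := by
  have hS : (ShortComplex.mk (0 : (0 : C) ⟶ N) e.inv (by simp)).ShortExact :=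
    { exact := (ShortComplex.exact_iff_mono _ rfl).2 inferInstance
      mono_f := ⟨fun _ _ _ => (isZero_zero C).eq_of_tgt _ _⟩
      epi_g := inferInstance }
  exact h.aext _ hS (h.le _ (h.zero _ (isZero_zero C))) hM

theorem c_zero {M : C} (hM : IsZero M) : c M = 0 := by
  have hS : (ShortComplex.mk (0 : M ⟶ M) (0 : M ⟶ M) (by simp)).ShortExact :=
    { exact := ShortComplex.exact_of_isZero_X₂ _ hM
      mono_f := ⟨fun _ _ _ => hM.eq_of_tgt _ _⟩
      epi_g := ⟨fun _ _ _ => hM.eq_of_src _ _⟩ }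
  exact left_eq_add.1 (h.add _ hS (h.zero _ hM) (h.zero _ hM) (h.zero _ hM))

theorem c_iso {M N : C} (e : M ≅ N) (hM : P M) : c M = c N := by
  have hS : (ShortComplex.mk (0 : (0 : C) ⟶ M) e.hom (by simp)).ShortExact :=
    { exact := (ShortComplex.exact_iff_mono _ rfl).2 inferInstance
      mono_f := ⟨fun _ _ _ => (isZero_zero C).eq_of_tgt _ _⟩
      epi_g := inferInstance }
  have h2 : c M = c 0 + c N := h.add _ hS (h.zero _ (isZero_zero C)) hM (P_iso h e hM)
  rw [c_zero h (isZero_zero C), zero_add] at h2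
  exact h2

theorem val_iso : ∀ {n : ℕ} {M N : C} {a : G}, (M ≅ N) → Val P A c n M a → Val P A c n N a
  | 0, _, _, _, e, hv => ⟨A_iso h e hv.1, P_iso h e hv.2.1, hv.2.2.trans (c_iso h e hv.2.1)⟩
  | n + 1, _, _, _, e, ⟨hA, E, g, b, hE, hg, hK, ha⟩ =>
    ⟨A_iso h e hA, E, g ≫ e.hom, b, hE, epi_comp _ _, val_iso (kernelCompMono g e.hom).symm hK, ha⟩

/-- A resolution from a short exact sequence. -/
theorem val_of_shortExact {n : ℕ} {S : ShortComplex C} (hS : S.ShortExact) {b : G} (hE : P S.X₂)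
    (h₁ : Val P A c n S.X₁ b) (h₃ : A S.X₃) : Val P A c (n + 1) S.X₃ (c S.X₂ - b) := by
  haveI := hS.mono_f
  exact ⟨h₃, S.X₂, S.g, b, hE, hS.epi_g, val_iso h
    (IsLimit.conePointUniqueUpToIso hS.fIsKernel (limit.isLimit _)) h₁, rfl⟩

theorem val_zero {M : C} (hM : IsZero M) : ∀ n, Val P A c n M 0
  | 0 => ⟨h.le _ (h.zero _ hM), h.zero _ hM, (c_zero h hM).symm⟩
  | n + 1 => ⟨h.le _ (h.zero _ hM), M, 𝟙 M, 0, h.zero _ hM, inferInstance,
      val_zero (IsZero.of_mono (kernel.ι (𝟙 M)) hM) n, by rw [c_zero h hM, sub_zero]⟩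

theorem val_succ : ∀ {n : ℕ} {M : C} {a : G}, Val P A c n M a → Val P A c (n + 1) M a
  | 0, M, _, ⟨hA, hP, ha⟩ => ⟨hA, M, 𝟙 M, 0, hP, inferInstance,
      val_zero h ((isZero_zero C).of_iso (kernel.ofMono (𝟙 M))) 0, by rw [ha, sub_zero]⟩
  | n + 1, _, _, ⟨hA, E, g, b, hE, hg, hK, ha⟩ => ⟨hA, E, g, b, hE, hg, val_succ hK, ha⟩

theorem val_mono {n m : ℕ} (hnm : n ≤ m) {M : C} {a : G} (hv : Val P A c n M a) : Val P A c m M a := by
  induction m, hnm using Nat.le_induction with
  | base => exact hv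
  | succ m _ ih => exact val_succ h ih

omit h in
theorem shortExact_kernel {M N : C} (g : M ⟶ N) [Epi g] :
    (ShortComplex.mk (kernel.ι g) g (kernel.condition g)).ShortExact :=
  { exact := ShortComplex.exact_kernel g }

omit h in
theorem shortExact_kernels {X Y Z : C} (u : X ⟶ Y) [Epi u] (v : Y ⟶ Z) :
    (ShortComplex.mk (kernel.lift (u ≫ v) (kernel.ι u) (by simp) : kernel u ⟶ kernel (u ≫ v))
      (kernel.lift v (kernel.ι (u ≫ v) ≫ u) (by simp)) (by
        rw [← cancel_mono (kernel.ι v)]; simp)).ShortExact where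
  mono_f := mono_of_mono_fac (kernel.lift_ι _ _ _)
  exact := by
    refine ShortComplex.exact_of_f_is_kernel _ (KernelFork.IsLimit.ofι' _ _ fun {T} k hk => ?_)
    have h1 : k ≫ kernel.ι (u ≫ v) ≫ u = 0 := by
      have := hk =≫ kernel.ι v
      simpa using this
    exact ⟨kernel.lift u (k ≫ kernel.ι (u ≫ v)) (by simpa using h1), by
      rw [← cancel_mono (kernel.ι (u ≫ v))]; simp⟩
  epi_g := by
    rw [epi_iff_surjective_up_to_refinements]
    intro T y
    obtain ⟨T', π, hπ, x, hx⟩ := surjective_up_to_refinements_of_epi u (y ≫ kernel.ι v)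
    refine ⟨T', π, hπ, kernel.lift (u ≫ v) x ?_, ?_⟩
    · rw [← Category.assoc, ← hx]
      simp
    · rw [← cancel_mono (kernel.ι v)]
      simpa using hx

omit h in
theorem shortExact_pullback_snd {X Y Z : C} (f : X ⟶ Z) (g : Y ⟶ Z) [Epi f] :
    (ShortComplex.mk (pullback.lift (kernel.ι f) 0 (by simp) : kernel f ⟶ pullback f g) (pullback.snd f g)
      (pullback.lift_snd _ _ _)).ShortExact := by
  haveI : Mono (pullback.lift (kernel.ι f) 0 (by simp) : kernel f ⟶ pullback f g) :=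
    mono_of_mono_fac (pullback.lift_fst (kernel.ι f) 0 _)
  refine ShortComplex.ShortExact.mk' (ShortComplex.exact_of_f_is_kernel _ ?_) ‹_› (inferInstanceAs (Epi (pullback.snd f g)))
  refine KernelFork.IsLimit.ofι' _ _ fun {T} k hk => ?_
  exact ⟨kernel.lift f (k ≫ pullback.fst f g) (by
    rw [Category.assoc, pullback.condition, ← Category.assoc, hk, zero_comp]), by
    apply pullback.hom_ext
    · erw [Category.assoc, pullback.lift_fst, kernel.lift_ι]
    · erw [Category.assoc, pullback.lift_snd, comp_zero]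
      exact hk.symm⟩

omit h in
theorem shortExact_pullback_fst {X Y Z : C} (f : X ⟶ Z) (g : Y ⟶ Z) [Epi g] :
    (ShortComplex.mk (pullback.lift 0 (kernel.ι g) (by simp) : kernel g ⟶ pullback f g) (pullback.fst f g)
      (pullback.lift_fst _ _ _)).ShortExact := by
  haveI : Mono (pullback.lift 0 (kernel.ι g) (by simp) : kernel g ⟶ pullback f g) :=
    mono_of_mono_fac (pullback.lift_snd 0 (kernel.ι g) _)
  refine ShortComplex.ShortExact.mk' (ShortComplex.exact_of_f_is_kernel _ ?_) ‹_› (inferInstanceAs (Epi (pullback.fst f g)))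
  refine KernelFork.IsLimit.ofι' _ _ fun {T} k hk => ?_
  exact ⟨kernel.lift g (k ≫ pullback.snd f g) (by
    rw [Category.assoc, ← pullback.condition, ← Category.assoc, hk, zero_comp]), by
    apply pullback.hom_ext
    · erw [Category.assoc, pullback.lift_fst, comp_zero]
      exact hk.symm
    · erw [Category.assoc, pullback.lift_snd, kernel.lift_ι]⟩

omit h in
/-- The statement that extensions by objects of `P` preserve the length of resolutions. -/
abbrev ExtAt (P A : C → Prop) (c : C → G) (n : ℕ) : Prop :=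
  ∀ S : ShortComplex C, S.ShortExact → P S.X₃ → A S.X₁ → A S.X₂ →
    (∀ b, Val P A c n S.X₁ b → Val P A c n S.X₂ (b + c S.X₃)) ∧
      ∀ a, Val P A c n S.X₂ a → Val P A c n S.X₁ (a - c S.X₃)

/-- Any cover of a module with a resolution of length `n + 1` has kernel with a resolution of length `n`. -/
theorem kernel_cover {n : ℕ} (hext : ExtAt P A c n) (M : C) (a : G) (hM : Val P A c (n + 1) M a) (E : C)
    (g : E ⟶ M) (hg : Epi g) (hE : P E) : Val P A c n (kernel g) (c E - a) := by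
  obtain ⟨hA, E₀, g₀, b₀, hE₀, hg₀, hK₀, rfl⟩ := hM
  have hK : A (kernel g) := h.aker _ (shortExact_kernel g) (h.le _ hE) hA
  have hX : A (pullback g₀ g) := h.aext _ (shortExact_pullback_snd g₀ g) hK₀.mem (h.le _ hE)
  have h1 := (hext _ (shortExact_pullback_snd g₀ g) hE hK₀.mem hX).1 b₀ hK₀
  have h2 := (hext _ (shortExact_pullback_fst g₀ g) hE₀ hK hX).2 _ h1
  rwa [show c E - (c E₀ - b₀) = b₀ + c E - c E₀ by abel]

theorem extAt : ∀ n, ExtAt P A c n
  | 0 => fun S hS h₃ hA₁ hA₂ => by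
    refine ⟨fun b hb => ?_, fun a ha => ?_⟩
    · obtain ⟨-, hP, rfl⟩ := hb
      exact ⟨hA₂, h.ext _ hS hP h₃, (h.add _ hS hP (h.ext _ hS hP h₃) h₃).symm⟩
    · obtain ⟨-, hP, rfl⟩ := ha
      have hP₁ := h.ker _ hS hP h₃
      exact ⟨hA₁, hP₁, by rw [h.add _ hS hP₁ hP h₃, add_sub_cancel_right]⟩
  | n + 1 => fun S hS h₃ hA₁ hA₂ => by
    have hk := kernel_cover h (extAt n)
    haveI := hS.epi_g
    haveI := hS.mono_f
    obtain ⟨L, u, hL, hu⟩ := h.cover _ hA₂
    have hT := shortExact_kernels u S.g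
    have hL' : P (kernel (u ≫ S.g)) := h.ker _ (shortExact_kernel (u ≫ S.g)) hL h₃
    have hcL : c L = c (kernel (u ≫ S.g)) + c S.X₃ := h.add _ (shortExact_kernel (u ≫ S.g)) hL' hL h₃
    let e : kernel S.g ≅ S.X₁ := IsLimit.conePointUniqueUpToIso (limit.isLimit _) hS.fIsKernel
    refine ⟨fun b hb => ?_, fun a ha => ?_⟩
    · have hk' := hk _ b (val_iso h e.symm hb) _ (kernel.lift S.g (kernel.ι (u ≫ S.g) ≫ u) (by simp)) hT.epi_g hL'
      have hR := val_iso h (IsLimit.conePointUniqueUpToIso (limit.isLimit _) (hT.fIsKernel)) hk'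
      refine ⟨hA₂, L, u, _, hL, hu, hR, ?_⟩
      rw [hcL]; abel
    · have hR := hk _ a ha L u hu hL
      have h1 := val_of_shortExact h hT hL' hR (A_iso h e.symm hA₁)
      have h1' := val_iso h e h1
      rwa [show a - c S.X₃ = c (kernel (u ≫ S.g)) - (c L - a) by rw [hcL]; abel]

theorem main (n : ℕ) : ExtAt P A c n ∧
    ∀ (M : C) (a : G), Val P A c (n + 1) M a → ∀ (E : C) (g : E ⟶ M), Epi g → P E →
      Val P A c n (kernel g) (c E - a) := ⟨extAt h n, kernel_cover h (extAt h n)⟩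

/-- The Euler sum does not depend on the resolution. -/
theorem val_unique : ∀ {n : ℕ} {M : C} {a a' : G}, Val P A c n M a → Val P A c n M a' → a = a'
  | 0, _, _, _, ha, ha' => ha.2.2.trans ha'.2.2.symm
  | n + 1, M, a, a', ha, ha' => by
    obtain ⟨hA, E, g, b, hE, hg, hK, rfl⟩ := ha
    have hK' := (main h n).2 M a' ha' E g hg hE
    rw [val_unique hK hK', sub_sub_cancel]

theorem val_unique' {n m : ℕ} {M : C} {a a' : G} (ha : Val P A c n M a) (ha' : Val P A c m M a') : a = a' :=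
  val_unique h (val_mono h (le_max_left n m) ha) (val_mono h (le_max_right n m) ha')

omit h in
theorem shortExact_kernels_map {S T : ShortComplex C} (φ : S ⟶ T) (hS : S.ShortExact) (hT : T.ShortExact)
    [Epi φ.τ₁] :
    (ShortComplex.mk (kernel.map φ.τ₁ φ.τ₂ S.f T.f φ.comm₁₂) (kernel.map φ.τ₂ φ.τ₃ S.g T.g φ.comm₂₃)
      (by rw [← cancel_mono (kernel.ι φ.τ₃)]; simp)).ShortExact where
  mono_f := by
    haveI := hS.mono_f
    exact mono_of_mono_fac (kernel.lift_ι _ _ _)
  exact := by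
    haveI := hT.mono_f
    haveI := hS.mono_f
    refine ShortComplex.exact_of_f_is_kernel _ (KernelFork.IsLimit.ofι' _ _ fun {Z} k hk => ?_)
    have h1 : (k ≫ kernel.ι φ.τ₂) ≫ S.g = 0 := by
      have := hk =≫ kernel.ι φ.τ₃
      simpa using this
    let l := hS.fIsKernel.lift (KernelFork.ofι _ h1)
    have hl : l ≫ S.f = k ≫ kernel.ι φ.τ₂ := Fork.IsLimit.lift_ι hS.fIsKernel
    refine ⟨kernel.lift φ.τ₁ l ?_, ?_⟩
    · rw [← cancel_mono T.f, Category.assoc, φ.comm₁₂, ← Category.assoc, hl, Category.assoc, kernel.condition,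
        comp_zero, zero_comp]
    · rw [← cancel_mono (kernel.ι φ.τ₂)]
      simpa using hl
  epi_g := by
    haveI := hS.epi_g
    haveI := hT.mono_f
    rw [epi_iff_surjective_up_to_refinements]
    intro Z y
    obtain ⟨Z', π, hπ, x, hx⟩ := surjective_up_to_refinements_of_epi S.g (y ≫ kernel.ι φ.τ₃)
    have h1 : (x ≫ φ.τ₂) ≫ T.g = 0 := by
      rw [Category.assoc, φ.comm₂₃, ← Category.assoc, ← hx, Category.assoc, Category.assoc, kernel.condition,
        comp_zero, comp_zero]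
    let l := hT.fIsKernel.lift (KernelFork.ofι _ h1)
    have hl : l ≫ T.f = x ≫ φ.τ₂ := Fork.IsLimit.lift_ι hT.fIsKernel
    obtain ⟨Z'', π', hπ', z, hz⟩ := surjective_up_to_refinements_of_epi φ.τ₁ l
    refine ⟨Z'', π' ≫ π, epi_comp _ _, kernel.lift φ.τ₂ (π' ≫ x - z ≫ S.f) ?_, ?_⟩
    · rw [Preadditive.sub_comp, Category.assoc, Category.assoc, ← φ.comm₁₂, ← Category.assoc z, ← hz,
        Category.assoc, hl, sub_self]
    · rw [← cancel_mono (kernel.ι φ.τ₃)]
      simp [S.zero, ← hx]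

/-- Euler sums are additive on short exact sequences. -/
theorem val_add : ∀ (n : ℕ) (S : ShortComplex C), S.ShortExact → ∀ a b d : G,
    Val P A c n S.X₁ a → Val P A c n S.X₂ b → Val P A c n S.X₃ d → b = a + d
  | 0, S, hS, a, b, d, h₁, h₂, h₃ => by
    rw [h₁.2.2, h₂.2.2, h₃.2.2]
    exact h.add _ hS h₁.2.1 h₂.2.1 h₃.2.1
  | n + 1, S, hS, a, b, d, h₁, h₂, h₃ => by
    haveI := hS.epi_g
    obtain ⟨L₁, u₁, hL₁, hu₁⟩ := h.cover _ h₁.mem
    obtain ⟨L, u, hL, hu⟩ := h.cover _ h₂.mem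
    have hR : (ShortComplex.mk (biprod.inl : L₁ ⟶ L₁ ⊞ L) biprod.snd biprod.inl_snd).ShortExact :=
      (ShortComplex.Splitting.ofHasBinaryBiproduct L₁ L).shortExact
    let φ : ShortComplex.mk (biprod.inl : L₁ ⟶ L₁ ⊞ L) biprod.snd biprod.inl_snd ⟶ S :=
      ShortComplex.homMk u₁ (biprod.desc (u₁ ≫ S.f) u) (u ≫ S.g) (by simp) (by ext <;> simp [S.zero])
    haveI : Epi φ.τ₁ := hu₁
    haveI : Epi φ.τ₂ := by
      haveI : Epi ((biprod.inr : L ⟶ L₁ ⊞ L) ≫ biprod.desc (u₁ ≫ S.f) u) := by rw [biprod.inr_desc]; exact hu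
      exact epi_of_epi (biprod.inr : L ⟶ L₁ ⊞ L) (biprod.desc (u₁ ≫ S.f) u)
    haveI : Epi φ.τ₃ := epi_comp u S.g
    have hP : P (L₁ ⊞ L) := h.ext _ hR hL₁ hL
    have e := val_add n _ (shortExact_kernels_map φ hR hS) _ _ _
      ((main h n).2 _ a h₁ L₁ φ.τ₁ inferInstance hL₁) ((main h n).2 _ b h₂ (L₁ ⊞ L) φ.τ₂ inferInstance hP)
      ((main h n).2 _ d h₃ L φ.τ₃ inferInstance hL)
    have e' : c (L₁ ⊞ L) = c L₁ + c L := h.add _ hR hL₁ hP hL
    rw [e'] at e
    calc b = c L₁ + c L - (c L₁ + c L - b) := by abel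
    _ = c L₁ + c L - (c L₁ - a + (c L - d)) := by rw [e]
    _ = a + d := by abel

end Groth.Agent.H22Alg.ResEuler
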