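import Mathlib
import Groth.Agent.H17.DimIneqScheme
import Groth.Agent.H17.Fibre
import Groth.Agent.H8Props.FibreDimSemicont
import Groth.Agent.H8Props.FieldDimFormula
import Groth.Agent.H22Alg.FibreCount

/-!
Bounding fibre dimensions by generic fibre dimensions and the dimension of the base.
-/

set_option autoImplicit false
set_option linter.style.haveILetI false

universe u

open CategoryTheory CategoryTheory.Limits AlgebraicGeometry TopologicalSpace Topology
open Groth.Agent.H8Props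

namespace Groth.Agent.H22Alg

variable {X Y : Scheme.{u}}

theorem exists_nat_ringKrullDim' (R : Type u) [CommRing R] [IsLocalRing R] [IsNoetherianRing R] :
    ∃ n : ℕ, ringKrullDim R = n := by
  have h1 : ringKrullDim R ≠ ⊤ := ringKrullDim_ne_top
  have h2 : ringKrullDim R ≠ ⊥ := ne_bot_of_le_ne_bot (by simp) ringKrullDim_nonneg_of_nontrivial
  lift ringKrullDim R to ℕ∞ using h2 with m
  induction m using ENat.recTopCoe with
  | top => exact absurd rfl h1
  | coe n => exact ⟨n, rfl⟩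

theorem exists_nat_fibreDimAt (f : X ⟶ Y) [LocallyOfFiniteType f] (x : X) :
    ∃ N : ℕ, FlatMor.fibreDimAt f x = N := by
  haveI := FieldDim.locallyOfFiniteType_fiberToSpec f (f x)
  haveI := FieldDim.isNoetherianRing_fibre_stalk f x
  obtain ⟨t, ht, -⟩ := FieldDim.fibreDimAt_eq f x
  haveI : Nontrivial (X.presheaf.stalk x ⧸ (IsLocalRing.maximalIdeal (Y.presheaf.stalk (f x))).map (f.stalkMap x).hom) :=
    Ideal.Quotient.nontrivial_iff.mpr fun h =>
      (IsLocalRing.maximalIdeal.isMaximal (X.presheaf.stalk x)).ne_top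
        (top_le_iff.mp (h.ge.trans (IsLocalRing.map_maximalIdeal_le (f.stalkMap x).hom)))
  haveI : IsLocalRing (X.presheaf.stalk x ⧸ (IsLocalRing.maximalIdeal (Y.presheaf.stalk (f x))).map (f.stalkMap x).hom) :=
    IsLocalRing.of_surjective' (Ideal.Quotient.mk _) Ideal.Quotient.mk_surjective
  obtain ⟨n, hn⟩ := exists_nat_ringKrullDim'
    (X.presheaf.stalk x ⧸ (IsLocalRing.maximalIdeal (Y.presheaf.stalk (f x))).map (f.stalkMap x).hom)
  exact ⟨n + t, by rw [ht, hn]; norm_cast⟩

theorem trdeg_le_fibreDimAt (f : X ⟶ Y) [LocallyOfFiniteType f] (x : X) {d : ℕ}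
    (h : FlatMor.fibreDimAt f x ≤ d) :
    (letI := (f.residueFieldMap x).hom.toAlgebra;
    Algebra.trdeg (Y.residueField (f.base x)) (X.residueField x)) ≤ d := by
  obtain ⟨t, ht, ht'⟩ := FieldDim.fibreDimAt_eq f x
  rw [ht'] 
  haveI : Nontrivial (X.presheaf.stalk x ⧸ (IsLocalRing.maximalIdeal (Y.presheaf.stalk (f x))).map (f.stalkMap x).hom) :=
    Ideal.Quotient.nontrivial_iff.mpr fun h =>
      (IsLocalRing.maximalIdeal.isMaximal (X.presheaf.stalk x)).ne_top
        (top_le_iff.mp (h.ge.trans (IsLocalRing.map_maximalIdeal_le (f.stalkMap x).hom)))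
  rw [ht] at h
  have : (t : WithBot ℕ∞) ≤ d := (le_add_of_nonneg_left ringKrullDim_nonneg_of_nontrivial).trans h
  exact_mod_cast this

/-- The point of the fibre which computes the fibre dimension. -/
theorem exists_generization_computing (f : X ⟶ Y) [LocallyOfFiniteType f] (x : X) :
    ∃ x0 : X, x0 ⤳ x ∧ f x0 = f x ∧ ∃ N : ℕ, FlatMor.fibreDimAt f x = N ∧ FlatMor.fibreDimAt f x0 = N ∧
      (letI := (f.residueFieldMap x0).hom.toAlgebra;
        Algebra.trdeg (Y.residueField (f.base x0)) (X.residueField x0)) = N := by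
  haveI := FieldDim.locallyOfFiniteType_fiberToSpec f (f x)
  obtain ⟨N, hN⟩ := exists_nat_fibreDimAt f x
  have hsup : FlatMor.fibreDimAt f x = ⨆ η : {η : f.fiber (f x) // η ⤳ f.asFiber x}, FieldDim.cdim η.1 :=
    FieldDim.localDim_eq (k := Y.residueField (f x)) (f.fiberToSpecResidueField (f x)) (f.asFiber x)
  obtain ⟨u, hu, huN⟩ : ∃ u : f.fiber (f x), u ⤳ f.asFiber x ∧ FieldDim.cdim u = N := by
    by_contra hcon
    push Not at hcon
    have hlt : ∀ η : {η : f.fiber (f x) // η ⤳ f.asFiber x}, ∃ s : ℕ, FieldDim.cdim η.1 = s ∧ s < N := by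
      rintro ⟨η, hη⟩
      obtain ⟨s, hs, -⟩ := FieldDim.exists_trdeg_fiber f η
      refine ⟨s, hs, lt_of_le_of_ne ?_ fun e => hcon η hη (by rw [hs, e])⟩
      have : (s : WithBot ℕ∞) ≤ N := by
        rw [← hs, ← hN, hsup]; exact le_iSup (fun η : {η : f.fiber (f x) // η ⤳ f.asFiber x} => FieldDim.cdim η.1) ⟨η, hη⟩
      exact_mod_cast this
    obtain ⟨s0, hs0, hs0'⟩ := hlt ⟨f.asFiber x, specializes_rfl⟩
    have : (N : WithBot ℕ∞) ≤ ((N - 1 : ℕ) : WithBot ℕ∞) := by
      rw [← hN, hsup]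
      refine iSup_le fun η => ?_
      obtain ⟨s, hs, hs'⟩ := hlt η
      rw [hs]
      exact_mod_cast (show s ≤ N - 1 by omega)
    have : N ≤ N - 1 := by exact_mod_cast this
    omega
  let x0 := f.fiberι (f x) u
  have hx0 : x0 ⤳ x := by
    have := hu.map (f.fiberι (f x)).continuous
    rwa [f.fiberι_asFiber] at this
  have hfx0 : f x0 = f x := (f.range_fiberι (f x)).subset (Set.mem_range_self u)
  obtain ⟨s, hs, hs'⟩ := FieldDim.exists_trdeg_fiber f u
  obtain rfl : s = N := by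
    have : (s : WithBot ℕ∞) = N := hs.symm.trans huN
    exact_mod_cast this
  refine ⟨x0, hx0, hfx0, s, hN, le_antisymm (hN ▸ FieldDim.fibreDimAt_le_of_specializes f hx0) ?_, hs'⟩
  rw [FieldDim.fibreDimAt_eq_localDim f u, FieldDim.localDim_eq (k := Y.residueField (f x))
    (f.fiberToSpecResidueField (f x)), ← hs]
  exact le_iSup (fun η : {η : f.fiber (f x) // η ⤳ u} => FieldDim.cdim η.1) ⟨u, specializes_rfl⟩

/-- Over a locally Noetherian base: either the fibre dimension at `x` is computed by a generic point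
of `X`, or it is less than `d + dim O_{f x}`. -/
theorem fibreDimAt_dichotomy_noetherian [IsLocallyNoetherian Y] (f : X ⟶ Y) [LocallyOfFiniteType f]
    (x : X) (d : ℕ) (hgen : ∀ η : X, η ⤳ x → (∀ ζ, ζ ⤳ η → ζ = η) → FlatMor.fibreDimAt f η ≤ d) :
    (∃ η : X, η ⤳ x ∧ (∀ ζ, ζ ⤳ η → ζ = η) ∧ f η = f x ∧ FlatMor.fibreDimAt f x = FlatMor.fibreDimAt f η) ∨
      FlatMor.fibreDimAt f x + 1 ≤ (d : WithBot ℕ∞) + ringKrullDim (Y.presheaf.stalk (f x)) := by
  obtain ⟨x0, hx0, hfx0, N, hN, hN0, htr⟩ := exists_generization_computing f x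
  by_cases hmax : ∀ ζ, ζ ⤳ x0 → ζ = x0
  · exact Or.inl ⟨x0, hx0, hmax, hfx0, hN.trans hN0.symm⟩
  right
  push Not at hmax
  obtain ⟨ζ, hζ, hne⟩ := hmax
  obtain ⟨b, hb, hineq⟩ := Groth.Agent.H17.DimIneq.scheme_ineq f x0 d fun ξ hξ hξx => by
    refine trdeg_le_fibreDimAt f ξ (hgen ξ (hξx.trans hx0) fun z hz => ?_)
    have hsub : closure ({ξ} : Set X) ⊆ closure {z} :=
      closure_minimal (Set.singleton_subset_iff.mpr hz.mem_closure) isClosed_closure
    exact (show IsGenericPoint z (closure {ξ}) from hξ.eq_of_ge isIrreducible_singleton.closure hsub).eq rfl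
  have h1 : (1 : WithBot ℕ∞) ≤ ringKrullDim (X.presheaf.stalk x0) := by
    rw [AlgebraicGeometry.ringKrullDim_stalk_eq_coheight]
    rw [← WithBot.coe_one, WithBot.coe_le_coe, Order.one_le_iff_pos, pos_iff_ne_zero, ne_eq, Order.coheight_eq_zero]
    intro hm
    exact hne (hζ.antisymm ((hm hζ) : x0 ⤳ ζ)).eq
  have h := hineq 1 (by exact_mod_cast h1)
  rw [htr] at h
  have hbY : ringKrullDim (Y.presheaf.stalk (f x)) = b := hfx0 ▸ hb
  rw [hN, hbY]
  induction b using ENat.recTopCoe with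
  | top =>
    rw [show ((d : WithBot ℕ∞)) = ((d : ℕ∞) : WithBot ℕ∞) from rfl, ← WithBot.coe_add, add_top]
    exact le_top
  | coe b =>
    simp only [Cardinal.ofENat_nat] at h
    have h' : 1 + N ≤ b + d := by exact_mod_cast h
    have : ((N + 1 : ℕ) : WithBot ℕ∞) ≤ ((d + b : ℕ) : WithBot ℕ∞) := by exact_mod_cast (show N + 1 ≤ d + b by omega)
    push_cast at this
    exact_mod_cast this

/-- The same with only the local ring at `f x` Noetherian. -/
theorem fibreDimAt_dichotomy (f : X ⟶ Y) [LocallyOfFiniteType f]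
    (x : X) [IsNoetherianRing (Y.presheaf.stalk (f x))] (d : ℕ)
    (hgen : ∀ η : X, η ⤳ x → (∀ ζ, ζ ⤳ η → ζ = η) → FlatMor.fibreDimAt f η ≤ d) :
    (∃ η : X, η ⤳ x ∧ (∀ ζ, ζ ⤳ η → ζ = η) ∧ f η = f x ∧ FlatMor.fibreDimAt f x = FlatMor.fibreDimAt f η) ∨
      FlatMor.fibreDimAt f x + 1 ≤ (d : WithBot ℕ∞) + ringKrullDim (Y.presheaf.stalk (f x)) := by
  let R := Y.presheaf.stalk (f x)
  let s := Y.fromSpecStalk (f x)
  let g' := pullback.fst f s
  let f' := pullback.snd f s
  have hc : IsPullback g' f' f s := IsPullback.of_hasPullback f s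
  haveI : LocallyOfFiniteType f' := MorphismProperty.pullback_snd _ _ inferInstance
  haveI : IsPreimmersion g' := inferInstance
  have hrange : ∀ z : X, z ∈ Set.range g' ↔ f z ⤳ f x := fun z => by
    rw [Scheme.Pullback.range_fst, Scheme.range_fromSpecStalk]; rfl
  obtain ⟨x', hx'⟩ := (hrange x).mpr specializes_rfl
  have hfx' : f' x' = IsLocalRing.closedPoint R := by
    refine s.isEmbedding.injective ?_
    rw [← Scheme.Hom.comp_apply, ← hc.w, Scheme.Hom.comp_apply, hx', Scheme.fromSpecStalk_closedPoint]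
  have hmax : ∀ η' : ↑(pullback f s), (∀ ζ, ζ ⤳ η' → ζ = η') → ∀ ζ, ζ ⤳ g' η' → ζ = g' η' := by
    intro η' hη' ζ hζ
    obtain ⟨ζ', rfl⟩ := (hrange ζ).mpr ((hζ.map f.continuous).trans ((hrange _).mp ⟨η', rfl⟩))
    rw [hη' ζ' (g'.isEmbedding.isInducing.specializes_iff.mp hζ)]
  have hdimR : ringKrullDim ((Spec R).presheaf.stalk (IsLocalRing.closedPoint R)) = ringKrullDim R := by
    have h := @FieldDim.ringKrullDim_stalk_chart _ R _ (𝟙 (Spec R)) (@IsOpenImmersion.of_isIso _ _ _ (IsIso.id (Spec R))) (IsLocalRing.closedPoint R)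
    exact h.trans (IsLocalRing.maximalIdeal_height_eq_ringKrullDim (R := Y.presheaf.stalk (f x)))
  have hbc : ∀ z, FlatMor.fibreDimAt f' z = FlatMor.fibreDimAt f (g' z) :=
    FieldDim.fibreDimAt_baseChange f hc
  rcases fibreDimAt_dichotomy_noetherian f' x' d (fun η hη hm => by
    rw [hbc]; have := hη.map g'.continuous; rw [hx'] at this; exact hgen _ this (hmax η hm)) with ⟨η, hη, hm, hfη, heq⟩ | h
  · have h1 := hη.map g'.continuous
    rw [hx'] at h1
    refine Or.inl ⟨g' η, h1, hmax η hm, ?_, ?_⟩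
    · rw [← Scheme.Hom.comp_apply, hc.w, Scheme.Hom.comp_apply, hfη, hfx', Scheme.fromSpecStalk_closedPoint]
    · rwa [hbc, hbc, hx'] at heq
  · right
    rw [hfx', hdimR, hbc, hx'] at h
    exact h

theorem quasiFiniteAt_of_fibreDimAt_le_zero (f : X ⟶ Y) [LocallyOfFiniteType f] (x : X)
    (h : FlatMor.fibreDimAt f x ≤ 0) : f.QuasiFiniteAt x := by
  haveI := FieldDim.locallyOfFiniteType_fiberToSpec f (f x)
  have hsup : FlatMor.fibreDimAt f x = ⨆ η : {η : f.fiber (f x) // η ⤳ f.asFiber x}, FieldDim.cdim η.1 :=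
    FieldDim.localDim_eq (k := Y.residueField (f x)) (f.fiberToSpecResidueField (f x)) (f.asFiber x)
  have hcl : ∀ u, u ⤳ f.asFiber x → IsClosed ({u} : Set (f.fiber (f x))) := fun u hu => by
    rw [FibreCount.isClosed_iff_cdim_eq_zero (k := Y.residueField (f x)) (f.fiberToSpecResidueField (f x))]
    refine le_antisymm (le_trans ?_ h) (FibreCount.cdim_nonneg _)
    rw [hsup]
    exact le_iSup (fun η : {η : f.fiber (f x) // η ⤳ f.asFiber x} => FieldDim.cdim η.1) ⟨u, hu⟩
  rw [Groth.Agent.H17.quasiFiniteAt_iff_isClosed_and_max]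
  refine ⟨hcl _ specializes_rfl, fun u hu => ?_⟩
  have := hu.mem_closure
  rw [(hcl u hu).closure_eq] at this
  exact this.symm

end Groth.Agent.H22Alg

namespace Groth.Agent.H22Alg

open TopologicalSpace

/-- A point without proper generizations is the generic point of an irreducible component. -/
theorem closure_mem_irreducibleComponents_of_max {X : Scheme.{u}} {η : X} (h : ∀ ζ, ζ ⤳ η → ζ = η) :
    closure ({η} : Set X) ∈ irreducibleComponents X := by
  refine ⟨isIrreducible_singleton.closure, fun T hT hsub => ?_⟩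
  have hgen := hT.closure.isGenericPoint_genericPoint isClosed_closure
  refine subset_closure.trans ?_
  rw [← hgen.def, h _ (hgen.specializes (subset_closure (hsub (subset_closure rfl))))]

theorem max_of_isGenericPoint {X : Scheme.{u}} {Z : Set X} (hZ : Z ∈ irreducibleComponents X) {η : X}
    (hη : IsGenericPoint η Z) : ∀ ζ, ζ ⤳ η → ζ = η := fun ζ hζ => by
  have hsub : Z ⊆ closure {ζ} := hη.def ▸ closure_minimal (Set.singleton_subset_iff.mpr hζ.mem_closure) isClosed_closure
  exact (show IsGenericPoint ζ Z from hZ.eq_of_ge isIrreducible_singleton.closure hsub).eq hη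

theorem exists_max_generization {X : Scheme.{u}} (x : X) : ∃ η : X, η ⤳ x ∧ ∀ ζ, ζ ⤳ η → ζ = η := by
  obtain ⟨η, h, hc⟩ := Groth.Agent.H8Props.FieldDim.exists_component_generization x
  exact ⟨η, h, max_of_isGenericPoint hc rfl⟩

end Groth.Agent.H22Alg
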