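import Mathlib.Algebra.Homology.ShortComplex.ModuleCat
import Mathlib.Algebra.Homology.QuasiIso

/-!
Element criteria for maps induced on the homology of complexes of modules.
-/

universe v u

open CategoryTheory Limits

namespace Groth.Agent.H22Alg.HomologyElt

variable {R : Type u} [Ring R] {ι : Type*} {c : ComplexShape ι}
  {C D : HomologicalComplex (ModuleCat.{v} R) c} (f : C ⟶ D) {i j k : ι}

theorem iCycles_injective (K : HomologicalComplex (ModuleCat.{v} R) c) (i : ι) :
    Function.Injective (K.iCycles i) :=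
  (ModuleCat.mono_iff_injective _).mp inferInstance

theorem d_iCycles (K : HomologicalComplex (ModuleCat.{v} R) c) (i k : ι) (z : K.cycles i) :
    K.d i k (K.iCycles i z) = 0 := by
  have h := K.iCycles_d i k
  simpa only [ModuleCat.hom_comp, ModuleCat.hom_zero, LinearMap.comp_apply, LinearMap.zero_apply] using (congrArg (fun g => g.hom z) h)

theorem exists_cycle (K : HomologicalComplex (ModuleCat.{v} R) c) (hk : c.next i = k) (x : K.X i)
    (hx : K.d i k x = 0) : ∃ z : K.cycles i, K.iCycles i z = x := by
  let φ : ModuleCat.of R (LinearMap.ker (K.d i k).hom) ⟶ K.X i := ModuleCat.ofHom (Submodule.subtype _)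
  have hφ : φ ≫ K.d i k = 0 := by ext y; exact y.2
  refine ⟨K.liftCycles φ k hk hφ ⟨x, hx⟩, ?_⟩
  have h := K.liftCycles_i φ k hk hφ
  simpa only [φ, ModuleCat.hom_ofHom, Submodule.subtype_apply, ModuleCat.hom_comp, ModuleCat.hom_zero, LinearMap.comp_apply, LinearMap.zero_apply] using (congrArg (fun g => g.hom ⟨x, hx⟩) h)

theorem homologyπ_eq_zero_iff (K : HomologicalComplex (ModuleCat.{v} R) c) (hj : c.prev i = j) (z : K.cycles i) :
    K.homologyπ i z = 0 ↔ ∃ a : K.X j, K.d j i a = K.iCycles i z := by
  constructor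
  · intro h
    obtain ⟨a, ha⟩ := (ShortComplex.moduleCat_exact_iff _).mp
      (ShortComplex.exact_of_g_is_cokernel (ShortComplex.mk (K.toCycles j i) (K.homologyπ i) (K.toCycles_comp_homologyπ j i))
        (K.homologyIsCokernel j i hj)) z h
    refine ⟨a, ?_⟩
    rw [← ha]
    have h' := K.toCycles_i j i
    simpa only [ModuleCat.hom_comp, ModuleCat.hom_zero, LinearMap.comp_apply, LinearMap.zero_apply] using (congrArg (fun g => g.hom a) h').symm
  · rintro ⟨a, ha⟩
    have h' := K.toCycles_i j i
    have : K.toCycles j i a = z := iCycles_injective K i (by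
      rw [← ha]
      simpa only [ModuleCat.hom_comp, LinearMap.comp_apply] using congrArg (fun g => g.hom a) h')
    rw [← this]
    have h2 := K.toCycles_comp_homologyπ j i
    simpa only [ModuleCat.hom_comp, ModuleCat.hom_zero, LinearMap.comp_apply, LinearMap.zero_apply] using (congrArg (fun g => g.hom a) h2)

theorem homologyπ_surjective (K : HomologicalComplex (ModuleCat.{v} R) c) (i : ι) :
    Function.Surjective (K.homologyπ i) :=
  (ModuleCat.epi_iff_surjective _).mp inferInstance

theorem map_homologyπ (z : C.cycles i) :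
    HomologicalComplex.homologyMap f i (C.homologyπ i z) = D.homologyπ i (HomologicalComplex.cyclesMap f i z) := by
  have h := HomologicalComplex.homologyπ_naturality f i
  simpa only [ModuleCat.hom_comp, ModuleCat.hom_zero, LinearMap.comp_apply, LinearMap.zero_apply] using (congrArg (fun g => g.hom z) h)

theorem i_cyclesMap (z : C.cycles i) :
    D.iCycles i (HomologicalComplex.cyclesMap f i z) = f.f i (C.iCycles i z) := by
  have h := HomologicalComplex.cyclesMap_i f i
  simpa only [ModuleCat.hom_comp, ModuleCat.hom_zero, LinearMap.comp_apply, LinearMap.zero_apply] using (congrArg (fun g => g.hom z) h)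

theorem injective_homologyMap_iff (hj : c.prev i = j) (hk : c.next i = k) :
    Function.Injective (HomologicalComplex.homologyMap f i) ↔
      ∀ x : C.X i, C.d i k x = 0 → ∀ b : D.X j, D.d j i b = f.f i x → ∃ a : C.X j, C.d j i a = x := by
  constructor
  · intro h x hx b hb
    obtain ⟨z, rfl⟩ := exists_cycle C hk x hx
    refine (homologyπ_eq_zero_iff C hj z).mp (h ?_)
    rw [map_zero, map_homologyπ, homologyπ_eq_zero_iff D hj]
    exact ⟨b, by rw [hb, i_cyclesMap]⟩
  · intro h
    rw [injective_iff_map_eq_zero]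
    intro η hη
    obtain ⟨z, rfl⟩ := homologyπ_surjective C i η
    rw [map_homologyπ, homologyπ_eq_zero_iff D hj] at hη
    obtain ⟨b, hb⟩ := hη
    rw [i_cyclesMap] at hb
    exact (homologyπ_eq_zero_iff C hj z).mpr (h _ (d_iCycles C i k z) b hb)

theorem surjective_homologyMap_iff (hj : c.prev i = j) (hk : c.next i = k) :
    Function.Surjective (HomologicalComplex.homologyMap f i) ↔
      ∀ y : D.X i, D.d i k y = 0 → ∃ (x : C.X i) (b : D.X j), C.d i k x = 0 ∧ f.f i x + D.d j i b = y := by
  constructor
  · intro h y hy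
    obtain ⟨w, rfl⟩ := exists_cycle D hk y hy
    obtain ⟨η, hη⟩ := h (D.homologyπ i w)
    obtain ⟨z, rfl⟩ := homologyπ_surjective C i η
    rw [map_homologyπ, ← sub_eq_zero, ← map_sub, homologyπ_eq_zero_iff D hj] at hη
    obtain ⟨b, hb⟩ := hη
    refine ⟨C.iCycles i z, -b, d_iCycles C i k z, ?_⟩
    rw [map_neg, hb, map_sub, i_cyclesMap]
    abel
  · intro h η
    obtain ⟨w, rfl⟩ := homologyπ_surjective D i η
    obtain ⟨x, b, hx, hb⟩ := h (D.iCycles i w) (d_iCycles D i k w)
    obtain ⟨z, rfl⟩ := exists_cycle C hk x hx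
    refine ⟨C.homologyπ i z, ?_⟩
    rw [map_homologyπ, ← sub_eq_zero, ← map_sub, homologyπ_eq_zero_iff D hj]
    exact ⟨-b, by rw [map_neg, map_sub, i_cyclesMap, ← hb]; abel⟩

theorem mono_homologyMap_iff (hj : c.prev i = j) (hk : c.next i = k) :
    Mono (HomologicalComplex.homologyMap f i) ↔
      ∀ x : C.X i, C.d i k x = 0 → ∀ b : D.X j, D.d j i b = f.f i x → ∃ a : C.X j, C.d j i a = x :=
  (ModuleCat.mono_iff_injective _).trans (injective_homologyMap_iff f hj hk)

theorem epi_homologyMap_iff (hj : c.prev i = j) (hk : c.next i = k) :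
    Epi (HomologicalComplex.homologyMap f i) ↔
      ∀ y : D.X i, D.d i k y = 0 → ∃ (x : C.X i) (b : D.X j), C.d i k x = 0 ∧ f.f i x + D.d j i b = y :=
  (ModuleCat.epi_iff_surjective _).trans (surjective_homologyMap_iff f hj hk)

end Groth.Agent.H22Alg.HomologyElt
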