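import Mathlib
import Groth.Agent.H22Alg.FiniteLength

/-!
Growth and additivity of Hilbert–Samuel functions `t ↦ length (M / I^t M)`.
-/

universe u

namespace Groth.Agent.H22Alg

open Filter IsLocalRing Pointwise

variable {A : Type u} [CommRing A]

/-- The Hilbert–Samuel function. -/
noncomputable def samuelLen (I : Ideal A) (M : Type u) [AddCommGroup M] [Module A M] (t : ℕ) : ℕ :=
  (Module.length A (M ⧸ (I ^ t • (⊤ : Submodule A M)))).toNat

theorem samuelLen_zero (I : Ideal A) (M : Type u) [AddCommGroup M] [Module A M] :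
    samuelLen I M 0 = 0 := by
  have : Subsingleton (M ⧸ (I ^ 0 • (⊤ : Submodule A M))) := by
    rw [Submodule.Quotient.subsingleton_iff, pow_zero, Ideal.one_eq_top, Submodule.top_smul]
  simp [samuelLen]

theorem samuelLen_congr (I : Ideal A) {M N : Type u} [AddCommGroup M] [Module A M]
    [AddCommGroup N] [Module A N] (e : M ≃ₗ[A] N) (t : ℕ) :
    samuelLen I M t = samuelLen I N t := by
  have h : (I ^ t • (⊤ : Submodule A M)).map (e : M →ₗ[A] N) = I ^ t • ⊤ := by
    rw [Submodule.map_smul'', Submodule.map_top, LinearEquiv.range]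
  rw [samuelLen, samuelLen, (Submodule.Quotient.equiv _ _ e h).length_eq]

variable [IsNoetherianRing A] [IsLocalRing A] {I : Ideal A}

/-- Quotients by submodules containing `I^t M` have finite length. -/
theorem length_quot_ne_top (hI : ∃ n : ℕ, maximalIdeal A ^ n ≤ I) {M : Type u} [AddCommGroup M]
    [Module A M] [Module.Finite A M] {N : Submodule A M} {t : ℕ}
    (hN : I ^ t • (⊤ : Submodule A M) ≤ N) : Module.length A (M ⧸ N) ≠ ⊤ := by
  obtain ⟨n, hn⟩ := hI
  refine length_ne_top_of_support_maximal fun p hp => ?_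
  have h1 : I ^ t ≤ p.asIdeal := by
    refine le_trans (fun a ha => Module.mem_annihilator.mpr fun x => ?_)
      (Module.mem_support_iff_of_finite.mp hp)
    obtain ⟨x, rfl⟩ := Submodule.Quotient.mk_surjective _ x
    rw [← Submodule.Quotient.mk_smul, Submodule.Quotient.mk_eq_zero]
    exact hN (Submodule.smul_mem_smul ha Submodule.mem_top)
  have h2 : maximalIdeal A ^ (n * t) ≤ p.asIdeal := by
    rw [pow_mul]; exact (Ideal.pow_right_mono hn t).trans h1
  have h3 : maximalIdeal A ≤ p.asIdeal := p.isPrime.le_of_pow_le h2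
  rw [← (maximalIdeal.isMaximal A).eq_of_le p.isPrime.ne_top h3]
  exact maximalIdeal.isMaximal A

theorem samuelLen_cast (hI : ∃ n : ℕ, maximalIdeal A ^ n ≤ I) (M : Type u) [AddCommGroup M]
    [Module A M] [Module.Finite A M] (t : ℕ) :
    (samuelLen I M t : ℕ∞) = Module.length A (M ⧸ (I ^ t • (⊤ : Submodule A M))) :=
  ENat.coe_toNat (length_quot_ne_top hI le_rfl)

section exact

variable {M' M M'' : Type u} [AddCommGroup M'] [Module A M'] [AddCommGroup M] [Module A M]
  [AddCommGroup M''] [Module A M''] [Module.Finite A M'] [Module.Finite A M] [Module.Finite A M'']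
  (f : M' →ₗ[A] M) (g : M →ₗ[A] M'')

omit [IsNoetherianRing A] [IsLocalRing A] [Module.Finite A M'] [Module.Finite A M]
  [Module.Finite A M''] in
theorem pow_smul_le_comap (J : Ideal A) :
    J • (⊤ : Submodule A M') ≤ (J • (⊤ : Submodule A M)).comap f :=
  Submodule.smul_top_le_comap_smul_top J f

omit [IsLocalRing A] [Module.Finite A M'] [Module.Finite A M''] in
/-- Artin–Rees, pulled back along an injection. -/
theorem exists_comap_pow_smul_le (I : Ideal A) (hf : Function.Injective f) :
    ∃ c : ℕ, ∀ t, (I ^ (t + c) • (⊤ : Submodule A M)).comap f ≤ I ^ t • (⊤ : Submodule A M') := by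
  obtain ⟨c, hc⟩ := Ideal.exists_pow_inf_eq_pow_smul I (LinearMap.range f)
  refine ⟨c, fun t x hx => ?_⟩
  have h1 : f x ∈ I ^ (t + c) • (⊤ : Submodule A M) ⊓ LinearMap.range f := ⟨hx, x, rfl⟩
  rw [hc _ (Nat.le_add_left c t), Nat.add_sub_cancel] at h1
  have h2 : f x ∈ (I ^ t • (⊤ : Submodule A M')).map f := by
    rw [Submodule.map_smul'', Submodule.map_top]
    exact Submodule.smul_mono le_rfl inf_le_right h1
  obtain ⟨z, hz, hzx⟩ := h2
  exact hf hzx ▸ hz

theorem samuelLen_exact (hI : ∃ n : ℕ, maximalIdeal A ^ n ≤ I) (hg : Function.Surjective g)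
    (hfg : LinearMap.range f = LinearMap.ker g) (t : ℕ) :
    samuelLen I M t =
      (Module.length A (M' ⧸ (I ^ t • (⊤ : Submodule A M)).comap f)).toNat + samuelLen I M'' t := by
  set N := I ^ t • (⊤ : Submodule A M) with hN
  have hmap : N.map g = I ^ t • ⊤ := by
    rw [hN, Submodule.map_smul'', Submodule.map_top, LinearMap.range_eq_top.mpr hg]
  have hgle : N ≤ (I ^ t • (⊤ : Submodule A M'')).comap g := Submodule.map_le_iff_le_comap.mp hmap.le
  let f1 : (M' ⧸ N.comap f) →ₗ[A] M ⧸ N := Submodule.mapQ _ _ f le_rfl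
  let g1 : (M ⧸ N) →ₗ[A] M'' ⧸ (I ^ t • (⊤ : Submodule A M'')) := Submodule.mapQ _ _ g hgle
  have hf1 : Function.Injective f1 := by
    rw [← LinearMap.ker_eq_bot, eq_bot_iff]
    intro x hx
    obtain ⟨x, rfl⟩ := Submodule.Quotient.mk_surjective _ x
    simpa [f1, Submodule.Quotient.mk_eq_zero] using hx
  have hg1 : Function.Surjective g1 := by
    intro z
    obtain ⟨z, rfl⟩ := Submodule.Quotient.mk_surjective _ z
    obtain ⟨y, rfl⟩ := hg z
    exact ⟨Submodule.Quotient.mk y, rfl⟩
  have hex : Function.Exact f1 g1 := by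
    intro y
    obtain ⟨y, rfl⟩ := Submodule.Quotient.mk_surjective _ y
    constructor
    · intro hy
      have hy' : g y ∈ N.map g := by
        rw [hmap]; simpa [g1, Submodule.Quotient.mk_eq_zero] using hy
      obtain ⟨w, hw, hgw⟩ := hy'
      have : y - w ∈ LinearMap.range f := by rw [hfg]; simp [hgw]
      obtain ⟨v, hv⟩ := this
      refine ⟨Submodule.Quotient.mk v, ?_⟩
      rw [show f1 (Submodule.Quotient.mk v) = Submodule.Quotient.mk (f v) from rfl, hv,
        Submodule.Quotient.eq]
      simpa using hw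
    · rintro ⟨v, hv⟩
      obtain ⟨v, rfl⟩ := Submodule.Quotient.mk_surjective _ v
      rw [← hv, show g1 (f1 (Submodule.Quotient.mk v)) = Submodule.Quotient.mk (g (f v)) from rfl,
        LinearMap.mem_ker.mp (hfg ▸ LinearMap.mem_range_self f v), Submodule.Quotient.mk_zero]
  rw [samuelLen, Module.length_eq_add_of_exact f1 g1 hf1 hg1 hex,
    ENat.toNat_add (length_quot_ne_top hI (pow_smul_le_comap f _)) (length_quot_ne_top hI le_rfl)]
  rfl

theorem samuelLen_le_add (hI : ∃ n : ℕ, maximalIdeal A ^ n ≤ I) (hg : Function.Surjective g)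
    (hfg : LinearMap.range f = LinearMap.ker g) (t : ℕ) :
    samuelLen I M t ≤ samuelLen I M' t + samuelLen I M'' t := by
  rw [samuelLen_exact f g hI hg hfg t]
  gcongr
  refine ENat.toNat_le_toNat ?_ (length_quot_ne_top hI le_rfl)
  exact Module.length_le_of_surjective
    (Submodule.factor (pow_smul_le_comap f (I ^ t))) (Submodule.factor_surjective _)

/-- Additivity of the normalized limits of Hilbert–Samuel functions. -/
theorem tendsto_samuelLen_add (hI : ∃ n : ℕ, maximalIdeal A ^ n ≤ I) (hf : Function.Injective f)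
    (hg : Function.Surjective g) (hfg : LinearMap.range f = LinearMap.ker g) (d : ℕ) (e' e'' : ℝ)
    (h' : Tendsto (fun t : ℕ => (d.factorial : ℝ) * (samuelLen I M' t : ℝ) / (t : ℝ) ^ d) atTop (nhds e'))
    (h'' : Tendsto (fun t : ℕ => (d.factorial : ℝ) * (samuelLen I M'' t : ℝ) / (t : ℝ) ^ d) atTop (nhds e'')) :
    Tendsto (fun t : ℕ => (d.factorial : ℝ) * (samuelLen I M t : ℝ) / (t : ℝ) ^ d) atTop (nhds (e' + e'')) := by
  set K : ℕ → ℕ := fun t => (Module.length A (M' ⧸ (I ^ t • (⊤ : Submodule A M)).comap f)).toNat with hK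
  have hle : ∀ t, K t ≤ samuelLen I M' t := fun t =>
    ENat.toNat_le_toNat (Module.length_le_of_surjective
      (Submodule.factor (pow_smul_le_comap f (I ^ t))) (Submodule.factor_surjective _))
      (length_quot_ne_top hI le_rfl)
  obtain ⟨c, hc⟩ := exists_comap_pow_smul_le f I hf
  have hge : ∀ t, samuelLen I M' t ≤ K (t + c) := fun t =>
    ENat.toNat_le_toNat (Module.length_le_of_surjective
      (Submodule.factor (hc t)) (Submodule.factor_surjective _))
      (length_quot_ne_top hI (pow_smul_le_comap f _))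
  suffices hKlim : Tendsto (fun t : ℕ => (d.factorial : ℝ) * (K t : ℝ) / (t : ℝ) ^ d) atTop (nhds e') by
    refine (hKlim.add h'').congr fun t => ?_
    rw [samuelLen_exact f g hI hg hfg t, Nat.cast_add, mul_add, add_div]
  rw [← tendsto_add_atTop_iff_nat c]
  have hlow : Tendsto (fun t : ℕ => ((d.factorial : ℝ) * (samuelLen I M' t : ℝ) / (t : ℝ) ^ d) *
      ((t : ℝ) / ((t : ℝ) + c)) ^ d) atTop (nhds e') := by
    simpa using h'.mul ((tendsto_natCast_div_add_atTop (c : ℝ)).pow d)
  have hup := (tendsto_add_atTop_iff_nat c).mpr h'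
  refine tendsto_of_tendsto_of_tendsto_of_le_of_le' hlow hup ?_ ?_
  · filter_upwards [eventually_gt_atTop 0] with t ht
    have htpos : (0 : ℝ) < t := by exact_mod_cast ht
    rw [div_pow, div_mul_div_comm, Nat.cast_add]
    rw [show (t : ℝ) ^ d * ((t : ℝ) + c) ^ d = ((t : ℝ) + c) ^ d * (t : ℝ) ^ d from mul_comm _ _,
      mul_div_mul_right _ _ (by positivity)]
    gcongr
    exact_mod_cast hge t
  · refine Eventually.of_forall fun t => ?_
    gcongr
    exact_mod_cast hle _

end exact

/-- If `dim Supp N ≤ e` then `length (N / I^t N) = O(t^e)`. -/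
theorem exists_samuelLen_le (hI : ∃ n : ℕ, maximalIdeal A ^ n ≤ I) :
    ∀ (e : ℕ) (N : Type u) [AddCommGroup N] [Module A N] [Module.Finite A N],
      Module.supportDim A N ≤ e → ∃ C : ℕ, ∀ t, samuelLen I N t ≤ C * (t + 1) ^ e := by
  intro e
  induction e with
  | zero =>
    intro N _ _ _ hN
    refine ⟨(Module.length A N).toNat, fun t => ?_⟩
    rw [pow_zero, mul_one]
    exact ENat.toNat_le_toNat (Module.length_le_of_surjective (Submodule.mkQ _)
      (Submodule.mkQ_surjective _)) (length_ne_top_of_supportDim_le_zero hN)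
  | succ e ih =>
    intro N _ _ _
    induction ‹Module.Finite A N› using IsNoetherianRing.induction_on_isQuotientEquivQuotientPrime A with
    | subsingleton N =>
      intro _
      exact ⟨0, fun t => by simp [samuelLen]⟩
    | quotient N p eN =>
      intro hN
      by_cases hx : ∃ x ∈ I, x ∈ maximalIdeal A ∧ x ∉ p.asIdeal
      · obtain ⟨x, hxI, hxm, hxp⟩ := hx
        let T := QuotSMulTop x N
        have hreg : IsSMulRegular N x := by
          intro a b hab
          apply eN.injective
          have h : x • eN a = x • eN b := by simpa only [← map_smul] using congrArg eN hab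
          obtain ⟨a', ha'⟩ := Ideal.Quotient.mk_surjective (eN a)
          obtain ⟨b', hb'⟩ := Ideal.Quotient.mk_surjective (eN b)
          rw [← ha', ← hb'] at h ⊢
          refine Ideal.Quotient.eq.mpr ?_
          have h2 : x * (a' - b') ∈ p.asIdeal := by
            rw [mul_sub]; exact Ideal.Quotient.eq.mp h
          exact (p.isPrime.mem_or_mem h2).resolve_left hxp
        have hT : Module.supportDim A T ≤ e := by
          have h1 := Module.supportDim_quotSMulTop_succ_eq_supportDim hreg hxm
          rw [← h1] at hN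
          push_cast at hN
          exact ENat.WithBot.add_le_add_one_right_iff.mp hN
        obtain ⟨C, hC⟩ := ih T hT
        refine ⟨C, fun t => ?_⟩
        induction t with
        | zero => simp [samuelLen_zero]
        | succ t iht =>
          let f : N →ₗ[A] N := x • LinearMap.id
          have hrange : LinearMap.range f = LinearMap.ker (Submodule.mkQ (x • (⊤ : Submodule A N))) := by
            rw [Submodule.ker_mkQ]
            ext y
            simp [f, Submodule.mem_smul_pointwise_iff_exists]
          have h1 := samuelLen_exact (I := I) f (Submodule.mkQ (x • (⊤ : Submodule A N))) hI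
            (Submodule.mkQ_surjective _) hrange (t + 1)
          have hle : I ^ t • (⊤ : Submodule A N) ≤ (I ^ (t + 1) • (⊤ : Submodule A N)).comap f := by
            intro y hy
            rw [Submodule.mem_comap, LinearMap.smul_apply, LinearMap.id_apply]
            rw [pow_succ', Submodule.mul_smul]
            exact Submodule.smul_mem_smul hxI hy
          have h2 : samuelLen I N (t + 1) ≤ samuelLen I N t + samuelLen I T (t + 1) := by
            rw [h1]
            gcongr
            · exact ENat.toNat_le_toNat (Module.length_le_of_surjective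
                (Submodule.factor hle) (Submodule.factor_surjective _)) (length_quot_ne_top hI le_rfl)

          calc samuelLen I N (t + 1) ≤ samuelLen I N t + samuelLen I T (t + 1) := h2
            _ ≤ C * (t + 1) ^ (e + 1) + C * (t + 1 + 1) ^ e := add_le_add iht (hC _)
            _ ≤ C * ((t + 1) * (t + 1 + 1) ^ e) + C * (t + 1 + 1) ^ e := by
              gcongr
              rw [pow_succ']
              gcongr
              omega
            _ = C * (t + 1 + 1) ^ (e + 1) := by ring
      · -- then `p` is the maximal ideal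
        push Not at hx
        obtain ⟨n, hn⟩ := hI
        have hpm : maximalIdeal A ≤ p.asIdeal := by
          refine p.isPrime.le_of_pow_le (n := n + 1) fun y hy => ?_
          exact hx y (hn (Ideal.pow_le_pow_right n.le_succ hy))
            (Ideal.pow_le_self (Nat.succ_ne_zero n) hy)
        have hfin : Module.length A N ≠ ⊤ := by
          refine length_ne_top_of_support_maximal fun q hq => ?_
          rw [eN.support_eq, Module.support_eq_zeroLocus, Ideal.annihilator_quotient,
            PrimeSpectrum.mem_zeroLocus] at hq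
          rw [← (maximalIdeal.isMaximal A).eq_of_le q.isPrime.ne_top (hpm.trans hq)]
          exact maximalIdeal.isMaximal A
        refine ⟨(Module.length A N).toNat, fun t => ?_⟩
        calc samuelLen I N t ≤ (Module.length A N).toNat :=
              ENat.toNat_le_toNat (Module.length_le_of_surjective (Submodule.mkQ _)
                (Submodule.mkQ_surjective _)) hfin
          _ ≤ _ := Nat.le_mul_of_pos_right _ (by positivity)
    | exact N₁ N₂ N₃ f g hf hg hfg ih₁ ih₃ =>
      intro hN
      obtain ⟨C₁, h₁⟩ := ih₁ ((Module.supportDim_le_of_injective f hf).trans hN)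
      obtain ⟨C₃, h₃⟩ := ih₃ ((Module.supportDim_le_of_surjective g hg).trans hN)
      refine ⟨C₁ + C₃, fun t => ?_⟩
      calc samuelLen I N₂ t ≤ samuelLen I N₁ t + samuelLen I N₃ t :=
            samuelLen_le_add f g hI hg (LinearMap.exact_iff.mp hfg).symm t
        _ ≤ _ := by rw [add_mul]; exact add_le_add (h₁ t) (h₃ t)

/-- If `dim Supp N < d` the normalized Hilbert–Samuel function tends to `0`. -/
theorem tendsto_samuelLen_zero (hI : ∃ n : ℕ, maximalIdeal A ^ n ≤ I) (N : Type u) [AddCommGroup N]
    [Module A N] [Module.Finite A N] (e d : ℕ) (he : e < d) (hN : Module.supportDim A N ≤ e) :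
    Tendsto (fun t : ℕ => (d.factorial : ℝ) * (samuelLen I N t : ℝ) / (t : ℝ) ^ d) atTop (nhds 0) := by
  obtain ⟨C, hC⟩ := exists_samuelLen_le hI e N hN
  have hb : Tendsto (fun t : ℕ => ((d.factorial : ℝ) * C * 2 ^ e) * (1 / (t : ℝ))) atTop (nhds 0) := by
    simpa using tendsto_one_div_atTop_nhds_zero_nat.const_mul ((d.factorial : ℝ) * C * 2 ^ e)
  refine squeeze_zero' (Eventually.of_forall fun t => by positivity) ?_ hb
  filter_upwards [eventually_gt_atTop 0] with t ht
  have ht1 : (1 : ℝ) ≤ t := by exact_mod_cast ht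
  have h1 : (samuelLen I N t : ℝ) ≤ C * (2 * (t : ℝ)) ^ e := by
    calc (samuelLen I N t : ℝ) ≤ ((C * (t + 1) ^ e : ℕ) : ℝ) := by exact_mod_cast hC t
      _ ≤ _ := by push_cast; gcongr; linarith
  have h2 : (t : ℝ) ^ (e + 1) ≤ (t : ℝ) ^ d := pow_le_pow_right₀ ht1 he
  calc (d.factorial : ℝ) * (samuelLen I N t : ℝ) / (t : ℝ) ^ d
      ≤ (d.factorial : ℝ) * (C * (2 * (t : ℝ)) ^ e) / (t : ℝ) ^ (e + 1) := by
        apply div_le_div₀ (by positivity) (by gcongr) (by positivity) h2
    _ = _ := by
        rw [mul_pow, pow_succ]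
        field_simp

end Groth.Agent.H22Alg
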