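import Groth.Agent.H11Ample.Tensor
import Groth.Agent.H11Ample.RelComp
import Groth.Prelude.Def_DCoh4

/-! # A section of a large twist generating at finitely many points. -/

set_option autoImplicit false
set_option linter.style.haveILetI false

universe u

open CategoryTheory CategoryTheory.Limits AlgebraicGeometry Opposite TopologicalSpace

noncomputable section

namespace Groth.Agent.H22Alg.GenSection

open Groth.Agent.H11Ample Groth.Agent.H11Tilde

variable {X : Scheme.{u}}

/-- If each chosen section generates at its own point and not at the others, the sum generates at all. -/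
theorem mem_gen_sum {M : X.Modules} (hM : PicF.IsInvertible M) {T : Type*} [Fintype T] (p : T → X)
    (t : T → Γ(M, ⊤)) (h₁ : ∀ w, p w ∈ gen M (t w)) (h₂ : ∀ v w, v ≠ w → p w ∉ gen M (t v)) (w : T) :
    p w ∈ gen M (∑ v, t v) := by
  classical
  obtain ⟨V, e, hyV, he⟩ := exists_gen hM (p w)
  choose c hc using fun v => exists_coeff he (M.presheaf.map (homOfLE le_top).op (t v))
  have hsum : M.presheaf.map (homOfLE (le_top : V ≤ ⊤)).op (∑ v, t v) = (∑ v, c v) • e := by
    rw [Finset.sum_smul]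
    exact (map_sum _ _ _).trans (Finset.sum_congr rfl fun v _ => hc v)
  refine ((gen_inf_eq_basicOpen he _ _ hsum).ge ((X.mem_basicOpen _ _ hyV).2 ?_)).1
  rw [map_sum, ← Finset.add_sum_erase _ _ (Finset.mem_univ w)]
  have h1 : IsUnit (X.presheaf.germ V (p w) hyV (c w)) :=
    (X.mem_basicOpen _ _ hyV).1 ((gen_inf_eq_basicOpen he (t w) (c w) (hc w)).le ⟨h₁ w, hyV⟩)
  have h2 : ∑ v ∈ Finset.univ.erase w, X.presheaf.germ V (p w) hyV (c v) ∈
      IsLocalRing.maximalIdeal (X.presheaf.stalk (p w)) :=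
    Ideal.sum_mem _ fun v hv => (IsLocalRing.mem_maximalIdeal _).2 fun hu =>
      h₂ v w (Finset.ne_of_mem_erase hv)
        ((gen_inf_eq_basicOpen he (t v) (c v) (hc v)).ge ((X.mem_basicOpen _ _ hyV).2 hu)).1
  by_contra hne
  refine (IsLocalRing.mem_maximalIdeal _).1 ?_ h1
  have := Ideal.sub_mem _ ((IsLocalRing.mem_maximalIdeal _).2 hne) h2
  rwa [add_sub_cancel_right] at this

/-- For an invertible `E` and an ample `L`, all large twists `E ⊗ L^j` have a section generating at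
a given finite set of points. -/
theorem exists_section_finite [CompactSpace X] [QuasiSeparatedSpace X] {L E : X.Modules}
    (hA : CohB1.IsAmple L) (hE : PicF.IsInvertible E) {Z : Set X} (hZ : Z.Finite) :
    ∃ J : ℕ, ∀ j, J ≤ j → ∃ g : Γ(CohB1.tensorMod E (CohB1.tensorPow L j), ⊤),
      Z ⊆ gen (CohB1.tensorMod E (CohB1.tensorPow L j)) g := by
  classical
  obtain ⟨hL, -, -⟩ := isAmple_iff.1 hA
  let Z₀ := hZ.toFinset
  let T := {w : X // w ∈ Z₀ ∧ ∀ v ∈ Z₀, w ⤳ v → v ⤳ w}
  haveI : Finite T := Finite.of_injective (fun w : T => (⟨w.1, w.2.1⟩ : Z₀))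
    fun a b h => Subtype.ext (congrArg (fun q : Z₀ => q.1) h)
  haveI : Fintype T := Fintype.ofFinite T
  let A : T → X.Opens := fun w => ⟨⋂ v ∈ {v : T | v.1 ≠ w.1}, (closure {v.1})ᶜ,
    Set.Finite.isOpen_biInter (Set.toFinite _) fun v _ => isClosed_closure.isOpen_compl⟩
  have hA' : ∀ w : T, w.1 ∈ A w := fun w =>
    Set.mem_iInter₂.2 fun v hv hmem => hv ((specializes_iff_mem_closure.2 hmem).antisymm
      (v.2.2 w.1 w.2.1 (specializes_iff_mem_closure.2 hmem))).eq
  choose k s hk hxs hsA hs using fun w : T => exists_affine_gen_le hA (hA' w)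
  obtain ⟨n₀, hn₀⟩ := eventually_globallyGenerated hA (isCoh_of_isInvertible hE)
  refine ⟨n₀ + ∑ w, k w, fun j hj => ?_⟩
  let M := CohB1.tensorMod E (CohB1.tensorPow L j)
  have hM : PicF.IsInvertible M := isInvertible_tensor hE (isInvertible_tensorPow hL j)
  suffices key : ∀ w : T, ∃ t : Γ(M, ⊤), w.1 ∈ gen M t ∧ gen M t ≤ A w by
    choose t ht₁ ht₂ using key
    refine ⟨∑ w, t w, fun z hz => ?_⟩
    obtain ⟨w, hw, hzw, hmax⟩ := exists_maximal_special (hZ.mem_toFinset.2 hz)
    refine hzw.mem_open (gen M _).isOpen (mem_gen_sum hM (fun w : T => w.1) t ht₁ (fun v w hne hmem => ?_) ⟨w, hw, hmax⟩)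
    exact Set.mem_iInter₂.1 (ht₂ v hmem) w (fun e => hne (Subtype.ext e).symm) (subset_closure rfl)
  intro w
  obtain ⟨i, rfl⟩ : ∃ i, j = i + k w :=
    ⟨j - k w, by have := Finset.single_le_sum (f := k) (fun _ _ => Nat.zero_le _) (Finset.mem_univ w); omega⟩
  have hi : n₀ ≤ i := by
    have := Finset.single_le_sum (f := k) (fun _ _ => Nat.zero_le _) (Finset.mem_univ w); omega
  have hM₀ : PicF.IsInvertible (CohB1.tensorMod E (CohB1.tensorPow L i)) := isInvertible_tensor hE (isInvertible_tensorPow hL i)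
  obtain ⟨g, hg⟩ := exists_mem_gen_of_isGloballyGenerated hM₀ (hn₀ i hi) w.1
  obtain ⟨φ⟩ := exists_iso_assoc hE (isInvertible_tensorPow hL i) (isInvertible_tensorPow hL (k w))
  obtain ⟨a, -⟩ := exists_iso_add hL i (k w)
  obtain ⟨ψ⟩ : Nonempty (CohB1.tensorMod E (CohB1.tensorMod (CohB1.tensorPow L i) (CohB1.tensorPow L (k w))) ≅ M) :=
    ⟨((DCoh.tensorBi (X := X)).obj E).mapIso a⟩
  refine ⟨(φ ≪≫ ψ).hom.app ⊤ (tm g (s w)), ?_, ?_⟩
  · rw [gen_iso, gen_tm hM₀ (isInvertible_tensorPow hL _)]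
    exact ⟨hg, hxs w⟩
  · rw [gen_iso, gen_tm hM₀ (isInvertible_tensorPow hL _)]
    exact inf_le_right.trans (hsA w)

end Groth.Agent.H22Alg.GenSection
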