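import Groth.Agent.H22Alg.DevLength
import Groth.Agent.H29RR.Degree
import Groth.Agent.H28Int.Core
import Groth.Agent.H10Coh.TensorTilde

/-! # Euler characteristics of twists by a vector bundle in dimension one. -/

set_option autoImplicit false
set_option linter.style.haveILetI false

universe u

open CategoryTheory CategoryTheory.Limits AlgebraicGeometry TopologicalSpace MonoidalCategory

noncomputable section

namespace Groth.Agent.H22Alg.DegBundle

variable (k : Type u) [Field k] {X : Scheme.{u}} [X.Over (Spec (CommRingCat.of k))]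
  [IsProper (X ↘ Spec (CommRingCat.of k))]

omit [IsProper (X ↘ Spec (CommRingCat.of k))] [X.Over (Spec (CommRingCat.of k))] in
theorem finite_closed_of_dim_zero [IsNoetherian X] {G : X.Modules} (hG : Coh.IsCoh G)
    (h : topologicalKrullDim (CohB1.support G) ≤ ((0 : ℕ) : WithBot ℕ∞)) :
    (CohB1.support G).Finite ∧ ∀ z ∈ CohB1.support G, IsClosed ({z} : Set X) := by
  have hge : ∀ y : X, (0 : WithBot ℕ∞) ≤ topologicalKrullDim (closure ({y} : Set X)) := fun y => by
    haveI : Nonempty (closure ({y} : Set X)) := ⟨⟨y, subset_closure rfl⟩⟩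
    haveI : Nonempty (IrreducibleCloseds (closure ({y} : Set X))) :=
      ⟨⟨closure {⟨y, subset_closure rfl⟩}, isIrreducible_singleton.closure, isClosed_closure⟩⟩
    exact Order.krullDim_nonneg
  refine ⟨(DevLength.finite_points hG h).subset fun z hz => ⟨hz, le_antisymm
    (DevLength.dim_closure_le hG h hz) (by simpa using hge z)⟩, fun z hz => ?_⟩
  have hcl : closure ({z} : Set X) = {z} := by
    refine Set.Subset.antisymm (fun y hy => ?_) subset_closure
    by_contra hne
    exact absurd (DevLength.dim_closure_lt (specializes_iff_mem_closure.2 hy) hne (d := 0)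
      (DevLength.dim_closure_le hG h hz)) (not_lt.2 (by simpa using hge y))
  exact hcl ▸ isClosed_closure

theorem euler_tensor_finite {G V : X.Modules} {m : ℕ} (hG : Coh.IsCoh G)
    (h : topologicalKrullDim (CohB1.support G) ≤ ((0 : ℕ) : WithBot ℕ∞))
    (hV : FlatMod.IsFinLocFreeOfRank m V) :
    Curv2.euler k X (CohB1.tensorMod G V) = m * Curv2.euler k X G := by
  haveI := H28Int.isNoetherian k (X := X)
  obtain ⟨hfin, hcl⟩ := finite_closed_of_dim_zero hG h
  have hsub : ∀ y, y ∉ CohB1.support G → Subsingleton (G.presheaf.stalk y) := fun y hy => not_not.1 hy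
  have hT : ∀ y, y ∉ CohB1.support G → Subsingleton ((CohB1.tensorMod G V).presheaf.stalk y) := fun y hy =>
    not_not.1 fun h => hy (H25Euler.support_tensor_subset G V h)
  rw [H25Euler.euler_eq_sum _ 1 fun p hp => H25Par.subsingleton_HH_of_finite_support _ hfin hcl hT hp,
    H25Euler.euler_eq_sum _ 1 fun p hp => H25Par.subsingleton_HH_of_finite_support _ hfin hcl hsub hp]
  simp only [Finset.sum_range_one, pow_zero, one_mul]
  have e : ∀ y : CohB1.support G,
      H25Par.Stk k (CohB1.tensorMod G V) y.1 ≃ₗ[k] (Fin m → H25Par.Stk k G y.1) := fun y => by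
    obtain ⟨hf, hfn, hr⟩ := H25Par.finrank_stalk hV y.1
    haveI := hf
    haveI := hfn
    let R := X.presheaf.stalk y.1
    let φ : (CohB1.tensorMod G V).presheaf.stalk y.1 ≃ₗ[R] (Fin m → G.presheaf.stalk y.1) :=
      (H16Derived.KFlat.Stalk.stalkEquiv G V y.1).symm ≪≫ₗ
        TensorProduct.congr (LinearEquiv.refl _ _) ((Module.finBasisOfFinrankEq R _ hr).equivFun) ≪≫ₗ
          TensorProduct.piScalarRight R R _ (Fin m)
    exact
      { φ with
        map_smul' := fun a x => φ.map_smul (H25Par.constStalk (k := k) y.1 a) x }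
  let swap : (∀ y : CohB1.support G, Fin m → H25Par.Stk k G y.1) ≃ₗ[k] (Fin m → ∀ y : CohB1.support G, H25Par.Stk k G y.1) :=
    { toFun := fun f i y => f y i
      invFun := fun f y i => f i y
      map_add' := fun _ _ => rfl
      map_smul' := fun _ _ => rfl
      left_inv := fun _ => rfl
      right_inv := fun _ => rfl }
  haveI := H10Coh.finite_HH_proper k X G hG 0
  let eG := LinearEquiv.ofBijective _ (H25Par.germs_bijective (k := k) G hfin hcl hsub)
  haveI : Module.Finite k (∀ y : CohB1.support G, H25Par.Stk k G y.1) := Module.Finite.equiv eG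
  rw [LinearEquiv.finrank_eq ((LinearEquiv.ofBijective _ (H25Par.germs_bijective (k := k) _ hfin hcl hT)) ≪≫ₗ
    LinearEquiv.piCongrRight e ≪≫ₗ swap), LinearEquiv.finrank_eq eG, Module.finrank_pi_fintype,
    Finset.sum_const, Finset.card_univ, Fintype.card_fin, smul_eq_mul]
  push_cast
  rfl

/-- The twist defect by a bundle. -/
def ψ (V : X.Modules) (m : ℕ) (F : X.Modules) : ℤ :=
  Curv2.euler k X (CohB1.tensorMod F V) - m * Curv2.euler k X F

theorem isAddFn_ψ {m : ℕ} {V : X.Modules} (hV : FlatMod.IsFinLocFreeOfRank m V) :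
    H28Int.IsAddFn (ψ k V m) := by
  have hVf : FlatMod.IsFinLocFree V := fun y => let ⟨U, hU⟩ := hV y; ⟨U, m, hU⟩
  haveI := H28Int.isNoetherian k (X := X)
  exact
    { congr := fun {A B} a => by
        show _ - _ = _ - _
        rw [H25Euler.euler_congr a, H25Euler.euler_congr (PicGrp.tensorModIso a (Iso.refl V))]
      add := fun S hS h₁ h₂ h₃ => by
        have hS' := H16Derived.KFlat.Stalk.isFlatObj_of_isFlat (H16Derived.KFlat.Stalk.isFlat_of_isFinLocFree hVf) _ hS
        have hadd := H25Euler.euler_add (k := k) (X := X)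
          (S := S.map ((DCoh.tensorBi (X := X)).flip.obj V)) hS'
          (show Coh.IsCoh (CohB1.tensorMod S.X₁ V) from H10Coh.TT.isCoh_tensorMod h₁ (H16Derived.KFlat.Stalk.isCoh_of_isFinLocFree hVf))
          (show Coh.IsCoh (CohB1.tensorMod S.X₂ V) from H10Coh.TT.isCoh_tensorMod h₂ (H16Derived.KFlat.Stalk.isCoh_of_isFinLocFree hVf))
          (show Coh.IsCoh (CohB1.tensorMod S.X₃ V) from H10Coh.TT.isCoh_tensorMod h₃ (H16Derived.KFlat.Stalk.isCoh_of_isFinLocFree hVf))
        change Curv2.euler k X (CohB1.tensorMod S.X₂ V) = Curv2.euler k X (CohB1.tensorMod S.X₁ V) +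
          Curv2.euler k X (CohB1.tensorMod S.X₃ V) at hadd
        show _ - _ = (_ - _) + (_ - _)
        rw [hadd, H25Euler.euler_add (k := k) hS h₁ h₂ h₃]
        ring }

theorem ψ_eq_zero {m : ℕ} {V : X.Modules} (hV : FlatMod.IsFinLocFreeOfRank m V) :
    ∀ G, Coh.IsCoh G → topologicalKrullDim (CohB1.support G) < ((1 : ℕ) : WithBot ℕ∞) → ψ k V m G = 0 := by
  intro G hG hd
  have hd0 : topologicalKrullDim (CohB1.support G) ≤ ((0 : ℕ) : WithBot ℕ∞) := by
    rcases hD : topologicalKrullDim (CohB1.support G) with _ | p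
    · exact bot_le
    · rw [hD] at hd
      have : p < (1 : ℕ∞) := WithBot.coe_lt_coe.1 hd
      exact WithBot.coe_le_coe.2 (ENat.lt_one_iff_eq_zero.1 this).le
  show _ - _ = (0 : ℤ)
  rw [euler_tensor_finite k hG hd0 hV, sub_self]

theorem ψ_structure {m : ℕ} {V : X.Modules} :
    ψ k V m (Coh.structureModule X) = Curv2.deg k X V m := by
  show _ - _ = _
  rw [H25Euler.euler_congr (H10Coh.Tw.leftUnitIso V)]
  rfl

/-- The twist defect of a bundle is proportional to the rank of the other bundle. -/
theorem defect_eq (hdim : topologicalKrullDim X ≤ 1) {n m : ℕ} {E V : X.Modules}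
    (hE : FlatMod.IsFinLocFreeOfRank n E) (hV : FlatMod.IsFinLocFreeOfRank m V) :
    Curv2.euler k X (CohB1.tensorMod E V) - m * Curv2.euler k X E =
      n * (Curv2.euler k X V - m * Curv2.euler k X (Coh.structureModule X)) := by
  haveI := H28Int.isNoetherian k (X := X)
  have hEf : FlatMod.IsFinLocFree E := fun y => let ⟨U, hU⟩ := hE y; ⟨U, n, hU⟩
  let ψ := DegBundle.ψ k V m
  have hψ : H28Int.IsAddFn ψ := isAddFn_ψ k hV
  have h0 := ψ_eq_zero k (X := X) hV
  have hd1 : ∀ F : X.Modules, topologicalKrullDim (CohB1.support F) ≤ ((1 : ℕ) : WithBot ℕ∞) := fun F =>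
    (Topology.IsInducing.subtypeVal.topologicalKrullDim_le).trans hdim
  have h1 := DevLength.eq_finsum hψ h0 (H16Derived.KFlat.Stalk.isCoh_of_isFinLocFree hEf) (hd1 E)
  have h2 := DevLength.eq_finsum hψ h0 (H10Coh.isCoh_structureModule' X) (hd1 _)
  have hψO : ψ (Coh.structureModule X) = Curv2.euler k X V - m * Curv2.euler k X (Coh.structureModule X) := by
    show _ - _ = _
    rw [H25Euler.euler_congr (H10Coh.Tw.leftUnitIso V)]
  rw [← hψO, h2, mul_finsum]
  refine h1.trans (finsum_congr fun ξ => ?_)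
  split_ifs with h
  · obtain ⟨hf, hfn, hr⟩ := H25Par.finrank_stalk hE ξ
    haveI := hf
    haveI := hfn
    have e1 : Function.Bijective (fun r : X.presheaf.stalk ξ => r • H29Ref.oneStalk ξ) :=
      H06EGA9.bijective_smul_oneStalk ξ
    have hlen : DevLength.len E ξ = n * DevLength.len (Coh.structureModule X) ξ := by
      show Module.length _ _ = _ * Module.length _ _
      rw [Module.length_of_free_of_finite, hr]
      congr 1
      exact (LinearEquiv.ofBijective (LinearMap.toSpanSingleton _ _ (H29Ref.oneStalk ξ)) e1).length_eq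
    rw [hlen, ENat.toNat_mul, ENat.toNat_natCast]
    push_cast
    ring
  · rw [mul_zero]

end Groth.Agent.H22Alg.DegBundle
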