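import Groth.Agent.H22Alg.Herbrand
import Groth.Agent.H22Alg.FiniteLength
import Mathlib.RingTheory.Ideal.AssociatedPrime.Finiteness
import Mathlib.RingTheory.Localization.Module
import Mathlib.Algebra.Module.LocalizedModule.Exact
import Mathlib.RingTheory.OrderOfVanishing.Basic
import Mathlib.Algebra.Module.Submodule.Pointwise

/-!
The length formula `length (M/xM) - length (ker x) = Σ ord_{R/q}(x) · length (M_q)`.
-/

universe u

namespace Groth.Agent.H22Alg

open scoped Pointwise

variable {R : Type u} [CommRing R]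

/-- Length of the localization at a prime. -/
noncomputable abbrev locLen (R : Type u) [CommRing R] (M : Type u) [AddCommGroup M] [Module R M]
    (p : PrimeSpectrum R) : ℕ∞ :=
  Module.length (Localization.AtPrime p.asIdeal) (LocalizedModule p.asIdeal.primeCompl M)

theorem locLen_exact {N₁ N₂ N₃ : Type u} [AddCommGroup N₁] [Module R N₁] [AddCommGroup N₂] [Module R N₂]
    [AddCommGroup N₃] [Module R N₃] (f : N₁ →ₗ[R] N₂) (g : N₂ →ₗ[R] N₃) (hf : Function.Injective f)
    (hg : Function.Surjective g) (hfg : Function.Exact f g) (p : PrimeSpectrum R) :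
    locLen R N₂ p = locLen R N₁ p + locLen R N₃ p :=
  Module.length_eq_add_of_exact (LocalizedModule.map p.asIdeal.primeCompl f)
    (LocalizedModule.map p.asIdeal.primeCompl g) (LocalizedModule.map_injective _ f hf)
    (LocalizedModule.map_surjective _ g hg)
    (IsLocalizedModule.map_exact p.asIdeal.primeCompl _ _ _ f g hfg)

theorem locLen_eq_zero {N : Type u} [AddCommGroup N] [Module R N] (p : PrimeSpectrum R)
    (h : p ∉ Module.support R N) : locLen R N p = 0 := by
  have : Subsingleton (LocalizedModule p.asIdeal.primeCompl N) := Module.notMem_support_iff.mp h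
  exact Module.length_eq_zero

theorem locLen_eq_one {N : Type u} [AddCommGroup N] [Module R N] (q : PrimeSpectrum R)
    (e : N ≃ₗ[R] R ⧸ q.asIdeal) : locLen R N q = 1 := by
  refine Module.length_eq_one_iff.mpr ?_
  set S := q.asIdeal.primeCompl
  set g : N := e.symm (Ideal.Quotient.mk _ 1)
  have hgen : ∀ n : N, ∃ r : R, n = r • g := fun n => by
    obtain ⟨r, hr⟩ := Ideal.Quotient.mk_surjective (e n)
    refine ⟨r, e.injective ?_⟩
    rw [map_smul, e.apply_symm_apply, ← hr]
    show _ = Ideal.Quotient.mk _ r * Ideal.Quotient.mk _ 1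
    rw [map_one, mul_one]
  have hann : ∀ r : R, r • g = 0 → r ∈ q.asIdeal := fun r hr => by
    rw [← map_smul, LinearEquiv.map_eq_zero_iff] at hr
    rw [← Ideal.Quotient.eq_zero_iff_mem, ← hr]
    show _ = Ideal.Quotient.mk _ r * Ideal.Quotient.mk _ 1
    rw [map_one, mul_one]
  rw [isSimpleModule_iff_toSpanSingleton_surjective]
  refine ⟨⟨⟨LocalizedModule.mk g 1, 0, fun h => ?_⟩⟩, fun z hz w => ?_⟩
  · rw [← LocalizedModule.zero_mk (1 : S), LocalizedModule.mk_eq] at h
    obtain ⟨u, hu⟩ := h
    simp only [one_smul, smul_zero] at hu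
    exact u.2 (hann _ hu)
  · induction z using LocalizedModule.induction_on with
    | _ n s =>
      induction w using LocalizedModule.induction_on with
      | _ m t =>
        obtain ⟨r, rfl⟩ := hgen n
        obtain ⟨a, rfl⟩ := hgen m
        have hr : r ∈ S := fun hr => hz (by
          have : r • g = 0 := e.injective (by
            rw [map_smul, e.apply_symm_apply, map_zero]
            show Ideal.Quotient.mk q.asIdeal r * Ideal.Quotient.mk q.asIdeal 1 = 0
            rw [Ideal.Quotient.eq_zero_iff_mem.mpr hr, zero_mul])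
          rw [this, LocalizedModule.zero_mk])
        refine ⟨Localization.mk (a * (s : R)) (⟨r, hr⟩ * t), ?_⟩
        rw [LinearMap.toSpanSingleton_apply, LocalizedModule.mk_smul_mk, LocalizedModule.mk_eq]
        refine ⟨1, ?_⟩
        simp only [Submonoid.smul_def, Submonoid.coe_mul, Submonoid.coe_one, one_smul, smul_smul]
        congr 1
        ring

theorem length_perH_zero_smul {N : Type u} [AddCommGroup N] [Module R N] (x : R) :
    Module.length R (CycAlg.perH (0 : N →ₗ[R] N) (x • LinearMap.id)) =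
        Module.length R (N ⧸ x • (⊤ : Submodule R N)) ∧
      Module.length R (CycAlg.perH (x • LinearMap.id) (0 : N →ₗ[R] N)) =
        Module.length R (LinearMap.ker (LinearMap.lsmul R N x)) := by
  constructor
  · refine LinearEquiv.length_eq (Submodule.Quotient.equiv _ _ (LinearEquiv.ofTop _ LinearMap.ker_zero) ?_)
    ext w
    rw [Submodule.mem_smul_pointwise_iff_exists]
    constructor
    · rintro ⟨v, ⟨n, hn⟩, rfl⟩
      exact ⟨n, trivial, hn⟩
    · rintro ⟨n, -, rfl⟩
      exact ⟨⟨x • n, by simp⟩, ⟨n, rfl⟩, rfl⟩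
  · refine LinearEquiv.length_eq ((Submodule.quotEquivOfEqBot _ ?_).trans (LinearEquiv.ofEq _ _ ?_))
    · rw [eq_bot_iff]
      rintro ⟨w, hw⟩ ⟨v, hv⟩
      exact Subtype.ext hv.symm
    · ext w; rfl

theorem herbrand_smul_exact {N₁ N₂ N₃ : Type u} [AddCommGroup N₁] [Module R N₁] [AddCommGroup N₂]
    [Module R N₂] [AddCommGroup N₃] [Module R N₃] (x : R) (f : N₁ →ₗ[R] N₂) (g : N₂ →ₗ[R] N₃)
    (hf : Function.Injective f) (hg : Function.Surjective g) (hfg : Function.Exact f g)
    (h₁ : CycAlg.FinCoh R (0 : N₁ →ₗ[R] N₁) (x • LinearMap.id))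
    (h₃ : CycAlg.FinCoh R (0 : N₃ →ₗ[R] N₃) (x • LinearMap.id)) :
    CycAlg.herbrand R (0 : N₂ →ₗ[R] N₂) (x • LinearMap.id) =
      CycAlg.herbrand R (0 : N₁ →ₗ[R] N₁) (x • LinearMap.id) +
        CycAlg.herbrand R (0 : N₃ →ₗ[R] N₃) (x • LinearMap.id) :=
  (herbrand_shortExact (φ₁ := (0 : N₁ →ₗ[R] N₁)) (ψ₁ := x • LinearMap.id)
    (φ₂ := (0 : N₂ →ₗ[R] N₂)) (ψ₂ := x • LinearMap.id) (φ₃ := (0 : N₃ →ₗ[R] N₃))
    (ψ₃ := x • LinearMap.id) ⟨LinearMap.zero_comp _, LinearMap.comp_zero _⟩
    (f₁ := f) (g₁ := f) (f₂ := g) (g₂ := g) (by simp) (by ext; simp) (by simp) (by ext; simp) hf hf hg hg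
    (LinearMap.exact_iff.mp hfg).symm (LinearMap.exact_iff.mp hfg).symm (Or.inr (Or.inl ⟨h₁, h₃⟩))).2.2.2

variable [IsNoetherianRing R] [IsLocalRing R] {M : Type u} [AddCommGroup M] [Module R M]
  [Module.Finite R M]

/-- The non-maximal primes of the support. -/
def lowPrimes (R : Type u) [CommRing R] [IsLocalRing R] (M : Type u) [AddCommGroup M] [Module R M] :
    Set (PrimeSpectrum R) :=
  {p | p ∈ Module.support R M ∧ p.asIdeal ≠ IsLocalRing.maximalIdeal R}

theorem lowPrimes_minimal (h1 : Module.supportDim R M ≤ 1) {p q : PrimeSpectrum R}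
    (hp : p ∈ lowPrimes R M) (hq : q ∈ Module.support R M) (hqp : q ≤ p) : q = p := by
  by_contra hne
  let mm : PrimeSpectrum R := ⟨IsLocalRing.maximalIdeal R, inferInstance⟩
  have hlt : p < mm :=
    lt_of_le_of_ne (IsLocalRing.le_maximalIdeal p.isPrime.ne_top) fun e => hp.2 (by rw [e])
  have h2 : (2 : WithBot ℕ∞) ≤ Module.supportDim R M := by
    refine le_trans ?_ (Order.LTSeries.length_le_krullDim
      (RelSeries.fromListIsChain [(⟨q, hq⟩ : Module.support R M), ⟨p, hp.1⟩,
        ⟨mm, Module.mem_support_mono hlt.le hp.1⟩] (by simp)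
        (.cons_cons (show q < p from lt_of_le_of_ne hqp hne) (List.isChain_pair.mpr hlt))))
    simp
  exact absurd (h2.trans h1) (by simp)

theorem lowPrimes_finite (h1 : Module.supportDim R M ≤ 1) : (lowPrimes R M).Finite := by
  refine Set.Finite.of_finite_image (f := PrimeSpectrum.asIdeal) ?_ fun a _ b _ h => PrimeSpectrum.ext h
  refine ((Module.annihilator R M).finite_minimalPrimes_of_isNoetherianRing).subset ?_
  rintro _ ⟨p, hp, rfl⟩
  have hsupp := Module.support_eq_zeroLocus (R := R) (M := M)
  refine ⟨⟨p.isPrime, ?_⟩, fun J hJ hJp => ?_⟩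
  · have := hp.1
    rw [hsupp, PrimeSpectrum.mem_zeroLocus] at this
    exact this
  · have : (⟨J, hJ.1⟩ : PrimeSpectrum R) = p := lowPrimes_minimal h1 hp (by
      rw [hsupp, PrimeSpectrum.mem_zeroLocus]; exact hJ.2) hJp
    rw [← this]

theorem support_ker_lsmul_subset {N : Type u} [AddCommGroup N] [Module R N] (x : R)
    {p : PrimeSpectrum R} (hp : p ∈ Module.support R (LinearMap.ker (LinearMap.lsmul R N x))) :
    p ∈ Module.support R N ∧ x ∈ p.asIdeal := by
  refine ⟨Module.support_subset_of_injective _ (Submodule.subtype_injective _) hp, ?_⟩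
  by_contra hxp
  obtain ⟨m, hm⟩ := Module.mem_support_iff'.mp hp
  exact hm x hxp (Subtype.ext m.2)

theorem support_quotient_smul {N : Type u} [AddCommGroup N] [Module R N] [Module.Finite R N] (x : R)
    (p : PrimeSpectrum R) :
    p ∈ Module.support R (N ⧸ x • (⊤ : Submodule R N)) ↔ p ∈ Module.support R N ∧ x ∈ p.asIdeal := by
  rw [← Submodule.ideal_span_singleton_smul, Module.support_quotient]
  simp [PrimeSpectrum.mem_zeroLocus]

theorem eq_maximal_of_mem {x : R} (h0 : Module.supportDim R (M ⧸ x • (⊤ : Submodule R M)) ≤ 0)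
    {p : PrimeSpectrum R} (hp : p ∈ Module.support R M) (hx : x ∈ p.asIdeal) :
    p.asIdeal = IsLocalRing.maximalIdeal R :=
  IsLocalRing.eq_maximalIdeal (isMaximal_of_mem_support_of_supportDim_le_zero h0 p
    ((support_quotient_smul x p).mpr ⟨hp, hx⟩))

theorem finCoh_smul {x : R} (h0 : Module.supportDim R (M ⧸ x • (⊤ : Submodule R M)) ≤ 0)
    {N : Type u} [AddCommGroup N] [Module R N] [Module.Finite R N]
    (hN : Module.support R N ⊆ Module.support R M) :
    CycAlg.FinCoh R (0 : N →ₗ[R] N) (x • LinearMap.id) := by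
  constructor
  · rw [(length_perH_zero_smul x).1]
    refine (length_ne_top_of_support_maximal fun p hp => ?_).lt_top
    rw [support_quotient_smul] at hp
    rw [eq_maximal_of_mem h0 (hN hp.1) hp.2]; infer_instance
  · rw [(length_perH_zero_smul x).2]
    refine (length_ne_top_of_support_maximal fun p hp => ?_).lt_top
    obtain ⟨a, b⟩ := support_ker_lsmul_subset x hp
    rw [eq_maximal_of_mem h0 (hN a) b]; infer_instance

/-- The weighted sum of local lengths. -/
noncomputable def locSum (S : Finset (PrimeSpectrum R)) (x : R) (N : Type u) [AddCommGroup N]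
    [Module R N] : ℕ∞ :=
  ∑ p ∈ S, Ring.ord (R ⧸ p.asIdeal) (Ideal.Quotient.mk p.asIdeal x) * locLen R N p

/-- The induction predicate: the length formula for a module supported inside that of `M`. -/
structure GoodLen (S : Finset (PrimeSpectrum R)) (x : R) (M : Type u) [AddCommGroup M] [Module R M]
    (N : Type u) [AddCommGroup N] [Module R N] : Prop where
  eq : Module.support R N ⊆ Module.support R M →
    ∃ n : ℕ, locSum S x N = n ∧ CycAlg.herbrand R (0 : N →ₗ[R] N) (x • LinearMap.id) = n

theorem exists_locSum_eq_herbrand {x : R} (h1 : Module.supportDim R M ≤ 1)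
    (h0 : Module.supportDim R (M ⧸ x • (⊤ : Submodule R M)) ≤ 0) (S : Finset (PrimeSpectrum R))
    (hS : ∀ p, p ∈ S ↔ p ∈ lowPrimes R M)
    (N : Type u) [AddCommGroup N] [Module R N] [Module.Finite R N]
    (hN : Module.support R N ⊆ Module.support R M) :
    ∃ n : ℕ, locSum S x N = n ∧ CycAlg.herbrand R (0 : N →ₗ[R] N) (x • LinearMap.id) = n := by
  suffices h : GoodLen S x M N from h.eq hN
  have hfd := ‹Module.Finite R N›
  refine IsNoetherianRing.induction_on_isQuotientEquivQuotientPrime R hfd
    (motive := fun N [AddCommGroup N] [Module R N] [Module.Finite R N] => GoodLen S x M N) ?_ ?_ ?_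
  · intro N _ _ _ _
    constructor
    intro _
    refine ⟨0, ?_, ?_⟩
    · refine Finset.sum_eq_zero fun p _ => ?_
      rw [locLen_eq_zero p (by simp [Module.support_eq_empty]), mul_zero]
    · unfold CycAlg.herbrand
      rw [(length_perH_zero_smul (R := R) (N := N) x).1, (length_perH_zero_smul (R := R) (N := N) x).2,
        Module.length_eq_zero, Module.length_eq_zero]
      simp
  · intro N _ _ _ q e
    constructor
    intro hN
    have hqsupp : ∀ p, p ∈ Module.support R N ↔ q ≤ p := fun p => by
      rw [e.support_eq, Module.support_eq_zeroLocus, Ideal.annihilator_quotient, PrimeSpectrum.mem_zeroLocus]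
      rfl
    have hqM : q ∈ Module.support R M := hN ((hqsupp q).mpr le_rfl)
    by_cases hq : q.asIdeal = IsLocalRing.maximalIdeal R
    · refine ⟨0, ?_, ?_⟩
      · refine Finset.sum_eq_zero fun p hp => ?_
        rw [locLen_eq_zero p, mul_zero]
        intro hpN
        have hle : IsLocalRing.maximalIdeal R ≤ p.asIdeal := hq ▸ (hqsupp p).mp hpN
        exact ((hS p).mp hp).2 ((IsLocalRing.maximalIdeal.isMaximal R).eq_of_le p.isPrime.ne_top hle).symm
      · have hfl : Module.length R N ≠ ⊤ := length_ne_top_of_support_maximal fun p hp => by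
          have hle : IsLocalRing.maximalIdeal R ≤ p.asIdeal := hq ▸ (hqsupp p).mp hp
          rw [← (IsLocalRing.maximalIdeal.isMaximal R).eq_of_le p.isPrime.ne_top hle]
          infer_instance
        rw [(finCoh_herbrand_of_length (0 : N →ₗ[R] N) (x • LinearMap.id)
          ⟨LinearMap.zero_comp _, LinearMap.comp_zero _⟩ hfl.lt_top hfl.lt_top).2, sub_self]
        rfl
    · have hxq : x ∉ q.asIdeal := fun h => hq (eq_maximal_of_mem h0 hqM h)
      have hsum : locSum S x N = Ring.ord (R ⧸ q.asIdeal) (Ideal.Quotient.mk q.asIdeal x) := by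
        rw [locSum, Finset.sum_eq_single q]
        · rw [locLen_eq_one q e, mul_one]
        · intro p hp hne
          rw [locLen_eq_zero p, mul_zero]
          exact fun hpN => hne (lowPrimes_minimal h1 ((hS p).mp hp) hqM ((hqsupp p).mp hpN)).symm
        · exact fun h => absurd ((hS q).mpr ⟨hqM, hq⟩) h
      obtain ⟨eL, eK⟩ := length_perH_zero_smul (R := R) (N := N) x
      have hK : Module.length R (LinearMap.ker (LinearMap.lsmul R N x)) = 0 := by
        rw [Module.length_eq_zero_iff, Submodule.subsingleton_iff_eq_bot, eq_bot_iff]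
        intro n hn
        have h2 : Ideal.Quotient.mk q.asIdeal x * e n = 0 := by
          have := congrArg e (show x • n = 0 from hn)
          rwa [map_smul, map_zero, Algebra.smul_def] at this
        rcases mul_eq_zero.mp h2 with h | h
        · exact absurd (Ideal.Quotient.eq_zero_iff_mem.mp h) hxq
        · exact e.injective (by rw [h, map_zero])
      have hL : Module.length R (N ⧸ x • (⊤ : Submodule R N)) =
          Ring.ord (R ⧸ q.asIdeal) (Ideal.Quotient.mk q.asIdeal x) := by
        unfold Ring.ord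
        rw [← Module.length_eq_of_surjective (R := R ⧸ q.asIdeal) (M := (R ⧸ q.asIdeal) ⧸ Ideal.span _)
          Ideal.Quotient.mk_surjective]
        refine LinearEquiv.length_eq ((Submodule.Quotient.equiv _
          ((Ideal.span {Ideal.Quotient.mk q.asIdeal x}).restrictScalars R) e ?_).trans
          (Submodule.Quotient.restrictScalarsEquiv R _))
        ext z
        rw [Submodule.restrictScalars_mem, Ideal.mem_span_singleton', Submodule.mem_map]
        simp only [Submodule.mem_smul_pointwise_iff_exists, Submodule.mem_top, true_and]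
        constructor
        · rintro ⟨_, ⟨n, rfl⟩, rfl⟩
          exact ⟨e n, by rw [LinearEquiv.coe_coe, map_smul, Algebra.smul_def, mul_comm]; rfl⟩
        · rintro ⟨a, rfl⟩
          exact ⟨x • e.symm a, ⟨_, rfl⟩, by
            rw [LinearEquiv.coe_coe, map_smul, e.apply_symm_apply, Algebra.smul_def, mul_comm]; rfl⟩
      have hne := (finCoh_smul h0 hN).1.ne
      rw [eL, hL] at hne
      obtain ⟨n, hn, hn'⟩ := toNat_eq hne
      refine ⟨n, hsum.trans hn, ?_⟩
      unfold CycAlg.herbrand
      rw [eL, eK, hK, hL, hn']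
      simp
  · intro N₁ _ _ _ N₂ _ _ _ N₃ _ _ _ f g hf hg hfg ih₁ ih₃
    constructor
    intro hN₂
    have s1 : Module.support R N₁ ⊆ Module.support R M := (Module.support_subset_of_injective f hf).trans hN₂
    have s3 : Module.support R N₃ ⊆ Module.support R M := (Module.support_subset_of_surjective g hg).trans hN₂
    obtain ⟨n₁, a₁, b₁⟩ := ih₁.eq s1
    obtain ⟨n₃, a₃, b₃⟩ := ih₃.eq s3
    refine ⟨n₁ + n₃, ?_, ?_⟩
    · rw [Nat.cast_add, ← a₁, ← a₃, locSum, locSum, locSum, ← Finset.sum_add_distrib]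
      exact Finset.sum_congr rfl fun p _ => by rw [locLen_exact f g hf hg hfg, mul_add]
    · rw [herbrand_smul_exact x f g hf hg hfg (finCoh_smul h0 s1) (finCoh_smul h0 s3), b₁, b₃]
      push_cast; rfl

/-- The length formula. -/
theorem length_quot_smul_eq_finsum {x : R} (h1 : Module.supportDim R M ≤ 1)
    (h0 : Module.supportDim R (M ⧸ x • (⊤ : Submodule R M)) ≤ 0) :
    Module.length R (M ⧸ x • (⊤ : Submodule R M)) =
      Module.length R (LinearMap.ker (LinearMap.lsmul R M x)) +
        ∑ᶠ (p : PrimeSpectrum R) (_ : p ∈ lowPrimes R M),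
          Ring.ord (R ⧸ p.asIdeal) (Ideal.Quotient.mk p.asIdeal x) * locLen R M p := by
  have hfin := lowPrimes_finite (M := M) h1
  rw [finsum_mem_eq_finite_toFinset_sum _ hfin]
  obtain ⟨n, hn, he⟩ := exists_locSum_eq_herbrand h1 h0 hfin.toFinset (fun p => hfin.mem_toFinset) M subset_rfl
  obtain ⟨f1, f2⟩ := finCoh_smul h0 (N := M) subset_rfl
  obtain ⟨eL, eK⟩ := length_perH_zero_smul (R := R) (N := M) x
  unfold CycAlg.herbrand at he
  rw [eL, eK] at he
  rw [eL] at f1
  rw [eK] at f2
  obtain ⟨l, hl, -⟩ := toNat_eq f1.ne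
  obtain ⟨k, hk, -⟩ := toNat_eq f2.ne
  rw [hl, hk, ENat.toNat_natCast, ENat.toNat_natCast] at he
  change _ = _ + locSum hfin.toFinset x M
  rw [hl, hk, hn, ← Nat.cast_add, Nat.cast_inj]
  omega

end Groth.Agent.H22Alg
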