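import Mathlib
import Groth.Agent.H11Proj.AwayBaseChange
import Groth.Prelude.Def_CohB1

/-!
# Base change of projective space along a ring map
-/

set_option autoImplicit false
universe u

open CategoryTheory CategoryTheory.Limits AlgebraicGeometry MvPolynomial

noncomputable section

namespace Groth.Agent.H22Alg.PnBC

variable (n : ℕ) (R' R : Type u) [CommRing R'] [CommRing R] [Algebra R' R]

/-- The graded map of coefficients. -/
def coeffMap : CohB1.polyGrading n R' →+*ᵍ CohB1.polyGrading n R where
  toRingHom := MvPolynomial.map (algebraMap R' R)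
  map_mem {i p} hp := (mem_homogeneousSubmodule i _).2
    (((mem_homogeneousSubmodule i p).1 hp).map (algebraMap R' R))

theorem irrelevant_le :
    HomogeneousIdeal.irrelevant (CohB1.polyGrading n R) ≤
      (HomogeneousIdeal.irrelevant (CohB1.polyGrading n R')).map (coeffMap n R' R) := by
  intro p hp
  change p ∈ Ideal.map (coeffMap n R' R) (HomogeneousIdeal.irrelevant (CohB1.polyGrading n R')).toIdeal
  have h0 : coeff 0 p = 0 := by
    have h := (HomogeneousIdeal.mem_irrelevant_iff _ p).1 hp
    rw [GradedRing.proj_apply] at h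
    have h2 : homogeneousComponent 0 p = 0 := by
      rw [← decomposition.decompose'_apply]
      exact h
    have h3 := congrArg (coeff 0) h2
    rw [coeff_homogeneousComponent] at h3
    simpa using h3
  rw [p.as_sum]
  refine Ideal.sum_mem _ fun d hd => ?_
  have hd0 : d ≠ 0 := fun e => (MvPolynomial.mem_support_iff.1 hd) (e ▸ h0)
  obtain ⟨i, hi⟩ := Finsupp.support_nonempty_iff.2 hd0
  obtain ⟨e, rfl⟩ : ∃ e, d = Finsupp.single i 1 + e := by
    refine ⟨d - Finsupp.single i 1, (add_tsub_cancel_of_le ?_).symm⟩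
    rw [Finsupp.single_le_iff]
    exact Nat.one_le_iff_ne_zero.2 (Finsupp.mem_support_iff.1 hi)
  rw [monomial_single_add, pow_one]
  refine Ideal.mul_mem_right _ _ ?_
  have hX : (X i : MvPolynomial (Fin (n + 1)) R') ∈
      (HomogeneousIdeal.irrelevant (CohB1.polyGrading n R')).toIdeal :=
    HomogeneousIdeal.mem_irrelevant_of_mem _ one_pos ((mem_homogeneousSubmodule 1 _).2 (isHomogeneous_X R' i))
  have := Ideal.mem_map_of_mem (coeffMap n R' R) hX
  rwa [show (coeffMap n R' R) (X i : MvPolynomial (Fin (n + 1)) R') = X i from MvPolynomial.map_X _ i] at this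

theorem isPullback_projSpace :
    IsPullback (Proj.map (coeffMap n R' R) (irrelevant_le n R' R)) (CohB1.ProjSpace.toSpec n R)
      (CohB1.ProjSpace.toSpec n R') (Spec.map (CommRingCat.ofHom (algebraMap R' R))) := by
  letI : Algebra (MvPolynomial (Fin (n + 1)) R') (MvPolynomial (Fin (n + 1)) R) :=
    MvPolynomial.algebraMvPolynomial
  have hB0 : ∀ r : R', algebraMap R' (MvPolynomial (Fin (n + 1)) R') r ∈ CohB1.polyGrading n R' 0 :=
    fun r => (mem_homogeneousSubmodule 0 _).2 (isHomogeneous_C _ r)
  have hA0 : ∀ r : R, algebraMap R (MvPolynomial (Fin (n + 1)) R) r ∈ CohB1.polyGrading n R 0 :=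
    fun r => (mem_homogeneousSubmodule 0 _).2 (isHomogeneous_C _ r)
  exact H11Proj.map_isPullback (R := R) (R' := R') (coeffMap n R' R) (fun _ => rfl) (irrelevant_le n R' R) hB0 hA0

/-- Projective space over the spectrum of a ring. -/
theorem isPullback_projSpaceOver (R : Type u) [CommRing R] :
    ∃ φ : CohB1.ProjSpaceOver n (Spec (CommRingCat.of R)) ≅ CohB1.ProjSpace n R,
      φ.hom ≫ CohB1.ProjSpace.toSpec n R = CohB1.ProjSpaceOver.toBase n (Spec (CommRingCat.of R)) := by
  letI : Algebra (ULift.{u} ℤ) R := ((Int.castRingHom R).comp ULift.ringEquiv.toRingHom).toAlgebra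
  have h := isPullback_projSpace n (ULift.{u} ℤ) R
  rw [show Spec.map (CommRingCat.ofHom (algebraMap (ULift.{u} ℤ) R)) = specULiftZIsTerminal.from _ from
    specULiftZIsTerminal.hom_ext _ _] at h
  exact ⟨h.isoPullback.symm, h.isoPullback_inv_snd⟩

end Groth.Agent.H22Alg.PnBC
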