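import Groth.Agent.H22Alg.KosTwist
import Groth.Agent.H22Alg.RegSheaf
import Groth.Agent.H22Alg.ExactVanish
import Groth.Agent.H11Ample.Pullback
import Groth.Agent.H11Ample.ToPn

/-! # Castelnuovo–Mumford regularity on P^n_T for quasi-coherent or arbitrary modules. -/

set_option autoImplicit false
set_option linter.style.haveILetI false

universe u

open CategoryTheory CategoryTheory.Limits AlgebraicGeometry ZeroObject
open Groth.Agent.H11Tilde Groth.Agent.H11Ample
attribute [local instance] HasDerivedCategory.standard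
attribute [local instance 10000] Groth.Agent.H10Coh.hasSheafifyAb Groth.Agent.H10Coh.hasWeakSheafifyAb Groth.Agent.H10Coh.hasExtAb Groth.Agent.H10Coh.enoughInjAb

noncomputable section

namespace Groth.Agent.H22Alg.CMReg

variable {n : ℕ} {T : Scheme.{u}}

variable (n T) in
/-- The morphism to P^n over ℤ. -/
abbrev fstP : KRR.PY n T ⟶ CohB1.ProjSpace n (ULift.{u} ℤ) :=
  pullback.fst (CohB1.ProjSpace.toSpec n (ULift.{u} ℤ)) (specULiftZIsTerminal.from T)

variable (n T) in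
/-- The coordinates as sections of O(1), extended by zero. -/
def coords (k : ℕ) : Γ(Twist.twistOver n T 1, ⊤) :=
  if h : k < n + 1 then pullTop (fstP n T) (ProjUP.coord n (ULift.{u} ℤ) ⟨k, h⟩) else 0

theorem gen_coords {k : ℕ} (h : k < n + 1) :
    gen (Twist.twistOver n T 1) (coords n T k) =
      fstP n T ⁻¹ᵁ Proj.basicOpen (CohB1.polyGrading n (ULift.{u} ℤ)) (MvPolynomial.X ⟨k, h⟩) := by
  have := gen_smul_pullSect (fstP n T) (isInvertible_twist (n := n) (R := ULift.{u} ℤ))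
    (ProjUP.coord n (ULift.{u} ℤ) ⟨k, h⟩) (isUnit_one (M := Γ(KRR.PY n T, ⊤)))
  rw [one_smul, gen_coord] at this
  rw [coords, dif_pos h]
  exact this

theorem coords_cover (z : ↥(KRR.PY n T)) :
    ∃ k < n + 1, z ∈ gen (Twist.twistOver n T 1) (coords n T k) := by
  obtain ⟨i, hi⟩ := exists_mem_basicOpen_X (n := n) (R := ULift.{u} ℤ) ((fstP n T) z)
  exact ⟨i.1, i.2, (gen_coords i.2).ge hi⟩

variable (n T) in
/-- The twists of `G` along O(1). -/
abbrev B (G : (KRR.PY n T).Modules) (t : ℕ) : (KRR.PY n T).Modules := KosTwist.A (Twist.twistOver n T 1) G t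

/-- Symmetry of the tensor product. -/
def comm' {X : Scheme.{u}} (M N : X.Modules) :
    CohB1.tensorMod M N ≅ ((DCoh.tensorBi (X := X)).obj N).obj M :=
  (CohB1.sheafifyMod X).mapIso
    (show (CohB1.tensorPre M N : X.PresheafOfModules) ≅ (CohB1.tensorPre N M : X.PresheafOfModules) from
      (β_ (CohB1.toPMod M) (CohB1.toPMod N)))

theorem nonempty_B_iso (F : (KRR.PY n T).Modules) (c : ℤ) :
    ∀ (t : ℕ) (a : ℤ), a = c + t → Nonempty (B n T (KRR.twF n T c F) t ≅ KRR.twF n T a F)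
  | 0, a, h => by
    obtain rfl : a = c := by simpa using h
    exact ⟨Iso.refl _⟩
  | t + 1, a, h => by
    obtain ⟨e⟩ := nonempty_B_iso F c t (c + t) rfl
    obtain ⟨e'⟩ := RegSheaf.nonempty_twF_twF (n := n) (T := T) 1 (c + t) a (by rw [h]; push_cast; ring) F
    exact ⟨comm' _ _ ≪≫ ((DCoh.tensorBi (X := KRR.PY n T)).obj (Twist.twistOver n T 1)).mapIso e ≪≫ e'⟩

/-- Vanishing of the higher direct image in one degree. -/
def Van (q : ℕ) (M : (KRR.PY n T).Modules) : Prop :=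
  IsZero ((Coh.RpushAb (KRR.pr n T) q).obj (Coh.toAb M))

theorem van_iso {q : ℕ} {M N : (KRR.PY n T).Modules} (e : M ≅ N) (h : Van q M) : Van q N :=
  RegSheaf.isZero_congr _ _ e h

theorem van_zero {q : ℕ} : Van q (0 : (KRR.PY n T).Modules) := by
  have hz : IsZero (Coh.toAb (0 : (KRR.PY n T).Modules)) := (H10Coh.shF _).map_isZero (isZero_zero _)
  rcases q with _ | m
  · exact ((Coh.pushAb (KRR.pr n T)).map_isZero hz).of_iso ((Coh.pushAb (KRR.pr n T)).rightDerivedZeroIsoSelf.app _)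
  · haveI : Injective (Coh.toAb (0 : (KRR.PY n T).Modules)) := hz.injective
    exact (Coh.pushAb (KRR.pr n T)).isZero_rightDerived_obj_injective_succ m _

theorem van_biprod {q : ℕ} {M N : (KRR.PY n T).Modules} (hM : Van q M) (hN : Van q N) : Van q (M ⊞ N) :=
  RegSheaf.isZero_mid (Coh.pushAb (KRR.pr n T))
    (RegSheaf.shortExact_toAb (ShortComplex.Splitting.ofHasBinaryBiproduct M N).shortExact) q hM hN

variable (n T) in
/-- The Koszul differential. -/
abbrev dd (G : (KRR.PY n T).Modules) (t j : ℕ) :=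
  KosLine.d (B n T G) (KosTwist.mul (Twist.twistOver n T 1) G (coords n T)) (n + 1) t j

theorem dd_comp (G : (KRR.PY n T).Modules) (t j : ℕ) : dd n T G t j ≫ dd n T G t (j + 1) = 0 :=
  KosLine.d_d (fun k l s => KosTwist.mul_comm' _ _ _ (RegSheaf.isInvertible_twistOver 1) k l s) _ _ _

theorem dd_exact (G : (KRR.PY n T).Modules) (t : ℕ) :
    Mono (dd n T G t 0) ∧ ∀ j, (ShortComplex.mk _ _ (dd_comp G t j)).Exact :=
  KosTwist.exact (RegSheaf.isInvertible_twistOver 1) coords_cover t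

theorem dd_comp_sh (G : (KRR.PY n T).Modules) (t j : ℕ) :
    (H10Coh.shF (KRR.PY n T)).map (dd n T G t j) ≫ (H10Coh.shF (KRR.PY n T)).map (dd n T G t (j + 1)) = 0 := by
  rw [← Functor.map_comp, dd_comp, Functor.map_zero]

theorem dd_exact_sh (G : (KRR.PY n T).Modules) (t : ℕ) :
    Mono ((H10Coh.shF (KRR.PY n T)).map (dd n T G t 0)) ∧
      ∀ j, (ShortComplex.mk _ _ (dd_comp_sh G t j)).Exact :=
  ⟨haveI := (dd_exact G t).1; inferInstance, fun j => ((dd_exact G t).2 j).map (H10Coh.shF _)⟩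

theorem isZero_L_sh (G : (KRR.PY n T).Modules) (t j : ℕ) (h : n + 1 < j) :
    IsZero ((H10Coh.shF (KRR.PY n T)).obj (KosLine.L (B n T G) (n + 1) t j)) :=
  (H10Coh.shF _).map_isZero (KosLine.isZero_L _ _ _ h)

theorem van_L (G : (KRR.PY n T).Modules) (t j q : ℕ) (h : j ≤ n + 1 → Van q (B n T G (t + j))) :
    Van q (KosLine.L (B n T G) (n + 1) t j) :=
  KosLine.mem_L (Van q) van_zero (fun _ _ => van_biprod) (n + 1) t j h

/-- Regularity is stable under twisting by O(1). -/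
theorem reg_twist_one {F : (KRR.PY n T).Modules} (hreg : KRR.IsRegSheaf n T F) :
    KRR.IsRegSheaf n T (KRR.twF n T 1 F) := by
  intro i hi
  show Van i _
  obtain ⟨e⟩ := RegSheaf.nonempty_twF_twF (n := n) (T := T) (-(i : ℤ)) 1 (1 - i) (by ring) F
  refine van_iso e.symm ?_
  set G := KRR.twF n T (-((i + n : ℕ) : ℤ)) F with hG
  obtain ⟨a⟩ := nonempty_B_iso F (-((i + n : ℕ) : ℤ)) (n + 1) (1 - i) (by push_cast; ring)
  refine van_iso a ?_
  refine van_iso (@asIso _ _ _ _ _ (KosLine.isIso_top (n + 1) 0 (n + 1) (Nat.zero_add _))) ?_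
  refine ExactVanish.isZero_top (Coh.pushAb (KRR.pr n T)) (dd_comp_sh G 0) (dd_exact_sh G 0).2
    (dd_exact_sh G 0).1 (n + 1) i (isZero_L_sh G 0 _ (by omega)) fun j e hje => ?_
  refine van_L G 0 j (i + e) fun _ => ?_
  obtain ⟨b⟩ := nonempty_B_iso F (-((i + n : ℕ) : ℤ)) (0 + j) (-((i + e : ℕ) : ℤ)) (by omega)
  exact van_iso b.symm (hreg (i + e) (by omega))

/-- Regularity is stable under twisting by O(m), m ≥ 0. -/
theorem reg_twist {F : (KRR.PY n T).Modules} (hreg : KRR.IsRegSheaf n T F) :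
    ∀ m : ℕ, KRR.IsRegSheaf n T (KRR.twF n T (m : ℤ) F)
  | 0 => fun i hi => by
    obtain ⟨e⟩ := RegSheaf.nonempty_twF_twF (n := n) (T := T) (-(i : ℤ)) 0 (-(i : ℤ)) (by ring) F
    exact van_iso e.symm (hreg i hi)
  | m + 1 => fun i hi => by
    obtain ⟨e⟩ := RegSheaf.nonempty_twF_twF (n := n) (T := T) 1 (m : ℤ) ((m + 1 : ℕ) : ℤ) (by push_cast; ring) F
    exact van_iso (((DCoh.tensorBi (X := KRR.PY n T)).obj (Twist.twistOver n T (-(i : ℤ)))).mapIso e)
      (reg_twist_one (reg_twist hreg m) i hi)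

/-- Vanishing of R^q p_*(F(a)) for regular F, a + q ≥ 0, q ≥ 1. -/
theorem van_of_reg {F : (KRR.PY n T).Modules} (hreg : KRR.IsRegSheaf n T F) {q : ℕ} (hq : 1 ≤ q) (a : ℤ)
    (h : 0 ≤ a + q) : Van q (KRR.twF n T a F) := by
  obtain ⟨m, hm⟩ := Int.eq_ofNat_of_zero_le h
  obtain ⟨e⟩ := RegSheaf.nonempty_twF_twF (n := n) (T := T) (-(q : ℤ)) (m : ℤ) a (by omega) F
  exact van_iso e (reg_twist hreg m q hq)

/-- R^i p_* F = 0 for regular F. -/
theorem van_self {F : (KRR.PY n T).Modules} (hreg : KRR.IsRegSheaf n T F) {i : ℕ} (hi : 1 ≤ i) : Van i F := by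
  obtain ⟨e⟩ := RegSheaf.nonempty_twF_zero (n := n) (T := T) F
  exact van_iso e (van_of_reg hreg hi 0 (by omega))

/-- Sections of F(m+1) over preimages are locally sums of products of sections of F(m) by the coordinates. -/
theorem exists_lift {F : (KRR.PY n T).Modules} (hreg : KRR.IsRegSheaf n T F) (m : ℕ) (W : T.Opens)
    (S : Γ(B n T (KRR.twF n T (-(n : ℤ)) F) (n + m + 1), KRR.pr n T ⁻¹ᵁ W)) (y : T) (hy : y ∈ W) :
    ∃ (W' : T.Opens) (hW' : W' ≤ W) (s : ℕ → Γ(B n T (KRR.twF n T (-(n : ℤ)) F) (n + m), KRR.pr n T ⁻¹ᵁ W')),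
      y ∈ W' ∧ (B n T (KRR.twF n T (-(n : ℤ)) F) (n + m + 1)).presheaf.map
          (homOfLE ((KRR.pr n T).preimage_mono hW')).op S =
        ∑ k ∈ Finset.range (n + 1), (KosTwist.mul (Twist.twistOver n T 1) (KRR.twF n T (-(n : ℤ)) F)
          (coords n T) k (n + m)).app (KRR.pr n T ⁻¹ᵁ W') (s k) := by
  let G := KRR.twF n T (-(n : ℤ)) F
  have hepi : Epi ((Coh.pushAb (KRR.pr n T)).map ((H10Coh.shF (KRR.PY n T)).map (dd n T G m n))) := by
    refine ExactVanish.epi_map_last (Coh.pushAb (KRR.pr n T)) (dd_comp_sh G m) (dd_exact_sh G m).2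
      (dd_exact_sh G m).1 n (isZero_L_sh G m _ (by omega)) fun j e hje => ?_
    refine van_L G m j (1 + e) fun _ => ?_
    obtain ⟨b⟩ := nonempty_B_iso F (-(n : ℤ)) (m + j) (-(n : ℤ) + (m + j : ℕ)) rfl
    exact van_iso b.symm (van_of_reg hreg (by omega) _ (by omega))
  have h : m + (n + 1) = n + m + 1 := by omega
  obtain ⟨q, hq⟩ := KosLine.exists_d_top (B n T G) (KosTwist.mul (Twist.twistOver n T 1) G (coords n T)) n m (n + m) h
  haveI := KosLine.isIso_top (A := B n T G) (n + 1) m (n + m + 1) h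
  let Φ := (Scheme.Modules.pushforward (KRR.pr n T)).map (dd n T G m n ≫ KosLine.top (B n T G) (n + 1) m (n + m + 1) h)
  haveI : Epi Φ := by
    haveI : Epi ((Scheme.Modules.pushforward (KRR.pr n T)).map (dd n T G m n)) := by
      haveI : Epi ((H10Coh.shF T).map ((Scheme.Modules.pushforward (KRR.pr n T)).map (dd n T G m n))) := hepi
      exact (H10Coh.shF T).epi_of_epi_map ‹_›
    show Epi ((Scheme.Modules.pushforward (KRR.pr n T)).map (_ ≫ _))
    rw [Functor.map_comp]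
    infer_instance
  obtain ⟨W', hW', hyW', σ, hσ⟩ := H10Coh.exists_nhds_lift_of_epi Φ W S y hy
  refine ⟨W', hW', fun k => (q k).app (KRR.pr n T ⁻¹ᵁ W') σ, hyW', hσ.symm.trans ?_⟩
  show (dd n T G m n ≫ KosLine.top (B n T G) (n + 1) m (n + m + 1) h).app (KRR.pr n T ⁻¹ᵁ W') σ = _
  rw [hq]
  induction Finset.range (n + 1) using Finset.induction_on with
  | empty => rfl
  | insert k s hk ih =>
    rw [Finset.sum_insert hk, Finset.sum_insert hk, ← ih]
    rfl

end Groth.Agent.H22Alg.CMReg
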