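import Groth.Agent.H22Alg.CohCech
import Groth.Agent.H22Alg.CMReg
import Groth.Agent.H10Coh.Pn.Results
import Groth.Agent.H10Coh.AmpleVanishing
import Groth.Agent.H10Coh.SheafHom.Flat
import Groth.Agent.H26Smooth.ProjSmooth
import Groth.Agent.H27Weil.Geometry

/-! # Higher direct images of `p^* M ⊗ O(d)`, `d ≥ -n`, on `P^n_T`. -/

set_option autoImplicit false
set_option linter.style.haveILetI false

universe u

open CategoryTheory CategoryTheory.Limits AlgebraicGeometry TopologicalSpace Opposite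
open Groth.Agent.H11Tilde Groth.Agent.H11Ample
attribute [local instance 10000] Groth.Agent.H10Coh.hasSheafifyAb Groth.Agent.H10Coh.hasWeakSheafifyAb Groth.Agent.H10Coh.hasExtAb Groth.Agent.H10Coh.enoughInjAb

noncomputable section

namespace Groth.Agent.H22Alg.PnVan

variable {n : ℕ} {T : Scheme.{u}}

/-- The integers in the ambient universe. -/
abbrev Zu : Type u := ULift.{u} ℤ

@[reducible] def algZ (S : Type u) [CommRing S] : Algebra Zu.{u} S :=
  ((Int.castRingHom S).comp (ULift.ringEquiv (R := ℤ)).toRingHom).toAlgebra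

attribute [local instance] algZ

variable (n T) in
theorem flat_pr : Flat (KRR.pr n T) := by
  haveI : Flat (CohB1.ProjSpace.toSpec n Zu.{u}) := by
    haveI := H26Smooth.smooth_toSpec n Zu.{u}
    infer_instance
  exact MorphismProperty.pullback_snd (P := @Flat) _ _ ‹_›

theorem flat_toSpec : Flat (CohB1.ProjSpace.toSpec n Zu.{u}) := by
  haveI := H26Smooth.smooth_toSpec n Zu.{u}
  infer_instance

theorem finLocFree_of_inv {X : Scheme.{u}} {L : X.Modules} (h : PicF.IsInvertible L) : FlatMod.IsFinLocFree L := fun x =>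
  let ⟨U, hxU, ⟨e⟩⟩ := h x
  ⟨U, 1, hxU, ⟨e ≪≫ (coproductUniqueIso fun _ : Fin 1 => Coh.structureModule (↑U)).symm⟩⟩

theorem finLocFree_Od (d : ℤ) : FlatMod.IsFinLocFree (Twist.twistProjSpace n Zu.{u} d) :=
  finLocFree_of_inv (RegSheaf.isInvertible_twistProjSpace n _ d)

theorem subsingleton_Od {d : ℤ} (hd : -(n : ℤ) ≤ d) (p : ℕ) :
    Subsingleton (Coh.HH (CohB1.ProjSpace n Zu.{u}) (Twist.twistProjSpace n Zu.{u} d) (p + 1)) :=
  H10Coh.Pn.subsingleton_HH_Od (R := Zu.{u}) (p + 1) (by omega) (by omega)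

theorem exists_cover : ∃ (ι : Type u) (_ : Finite ι) (U : ι → (CohB1.ProjSpace n Zu.{u}).Opens), LeadBC.GoodCover U := by
  haveI : IsProper (CohB1.ProjSpace n Zu.{u} ↘ Spec (CommRingCat.of Zu.{u})) :=
    inferInstanceAs (IsProper (CohB1.ProjSpace.toSpec n Zu.{u}))
  exact LeadBC.exists_goodCover Zu.{u}

variable (n T) in
/-- The part of `P^n_T` over an open of `T`. -/
abbrev PW (W : T.Opens) : Scheme.{u} := (KRR.pr n T ⁻¹ᵁ W).toScheme

variable {W : T.Opens} (hW : IsAffineOpen W)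

/-- It lies over the affine scheme. -/
@[reducible] def overW : (PW n T W).Over (Spec (CommRingCat.of Γ(T, W))) :=
  ⟨(KRR.pr n T ∣_ W) ≫ hW.isoSpec.hom⟩

variable (n T W) in
/-- Its map to the absolute projective space. -/
abbrev qW : PW n T W ⟶ CohB1.ProjSpace n Zu.{u} := (KRR.pr n T ⁻¹ᵁ W).ι ≫ CMReg.fstP n T

theorem isPullback_W :
    letI := overW (n := n) hW
    IsPullback (qW n T W) (PW n T W ↘ Spec (CommRingCat.of Γ(T, W)))
      (CohB1.ProjSpace n Zu.{u} ↘ Spec (CommRingCat.of Zu.{u}))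
      (Spec.map (CommRingCat.ofHom (algebraMap Zu.{u} Γ(T, W)))) := by
  have h := ((isPullback_morphismRestrict (KRR.pr n T) W).flip).paste_horiz
    (IsPullback.of_hasPullback (CohB1.ProjSpace.toSpec n Zu.{u}) (specULiftZIsTerminal.from T))
  refine IsPullback.of_iso h (Iso.refl _) (Iso.refl _) hW.isoSpec (Iso.refl _) ?_ ?_ ?_ ?_
  · simp [qW]
  · exact (Category.id_comp _).symm
  · simp; rfl
  · exact specULiftZIsTerminal.hom_ext _ _ 

theorem finLocFree_qF (d : ℤ) :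
    FlatMod.IsFinLocFree (LeadBC.qF (qW n T W) (Twist.twistProjSpace n Zu.{u} d)) :=
  H16Derived.KFlat.Stalk.isFinLocFree_pullback _ (finLocFree_Od d)

include hW in
theorem subsingleton_qF {d : ℤ} (hd : -(n : ℤ) ≤ d) (p : ℕ) :
    Subsingleton (Coh.HH (PW n T W) (LeadBC.qF (qW n T W) (Twist.twistProjSpace n Zu.{u} d)) (p + 1)) := by
  letI := overW (n := n) hW
  obtain ⟨ι, hι, U, hU⟩ := exists_cover (n := n)
  haveI : IsProper (CohB1.ProjSpace n Zu.{u} ↘ Spec (CommRingCat.of Zu.{u})) :=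
    inferInstanceAs (IsProper (CohB1.ProjSpace.toSpec n Zu.{u}))
  haveI : Flat (CohB1.ProjSpace n Zu.{u} ↘ Spec (CommRingCat.of Zu.{u})) := flat_toSpec
  haveI := H8Props.FinLocFree.isQCoh_of_isFinLocFree _ (finLocFree_Od (n := n) d)
  exact CohCech.subsingleton_bc Zu.{u} _ Γ(T, W) (isPullback_W hW) hU
    (H10Coh.SheafHom.isFlatOver_of_isFinLocFree _ _ (finLocFree_Od d)) (subsingleton_Od hd) p

theorem subsingleton_qF_tensor {d : ℤ} (hd : -(n : ℤ) ≤ d) (M : ModuleCat.{u} Γ(T, W)) (p : ℕ) :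
    letI := overW (n := n) hW
    Subsingleton (Coh.HH (PW n T W)
      ((CohIII.tensorAFunctor Γ(T, W) (LeadBC.qF (qW n T W) (Twist.twistProjSpace n Zu.{u} d))).obj M) (p + 1)) := by
  letI := overW (n := n) hW
  obtain ⟨ι, hι, U, hU⟩ := exists_cover (n := n)
  haveI hp : IsProper (PW n T W ↘ Spec (CommRingCat.of Γ(T, W))) :=
    MorphismProperty.of_isPullback (P := @IsProper) (isPullback_W hW)
      (inferInstanceAs (IsProper (CohB1.ProjSpace.toSpec n Zu.{u})))
  haveI : Flat (PW n T W ↘ Spec (CommRingCat.of Γ(T, W))) :=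
    MorphismProperty.of_isPullback (P := @Flat) (isPullback_W hW) flat_toSpec
  haveI := H8Props.FinLocFree.isQCoh_of_isFinLocFree _ (finLocFree_qF (n := n) (W := W) d)
  exact CohCech.subsingleton_tensor Γ(T, W) _ (LeadBC.goodCover_preU _ _ (isPullback_W hW) U hU)
    (H10Coh.SheafHom.isFlatOver_of_isFinLocFree _ _ (finLocFree_qF d)) (subsingleton_qF hW hd) M p

theorem nonempty_restrict_iso (d : ℤ) (M : T.Modules) (hM : Coh.IsQCoh M) :
    letI := overW (n := n) hW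
    ∃ N : ModuleCat.{u} Γ(T, W),
      Nonempty ((CohIII.tensorAFunctor Γ(T, W) (LeadBC.qF (qW n T W) (Twist.twistProjSpace n Zu.{u} d))).obj N ≅
        (KRR.twF n T d ((Scheme.Modules.pullback (KRR.pr n T)).obj M)).restrict (KRR.pr n T ⁻¹ᵁ W).ι) := by
  letI := overW (n := n) hW
  haveI := H29Fitt.isQCoh_pullback hW.fromSpec M hM
  let N := (moduleSpecΓFunctor (R := Γ(T, W))).obj ((Scheme.Modules.pullback hW.fromSpec).obj M)
  let U := KRR.pr n T ⁻¹ᵁ W
  let f := PW n T W ↘ Spec (CommRingCat.of Γ(T, W))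
  have hw : f ≫ hW.fromSpec = U.ι ≫ KRR.pr n T := by
    show ((KRR.pr n T ∣_ W) ≫ hW.isoSpec.hom) ≫ hW.fromSpec = _
    rw [Category.assoc, hW.isoSpec_hom, hW.toSpecΓ_fromSpec, morphismRestrict_ι]
  obtain ⟨e⟩ := H10Coh.Tw.nonempty_restrict_tensor U ((Scheme.Modules.pullback (KRR.pr n T)).obj M)
    (RegSheaf.isInvertible_twistOver (n := n) (T := T) d)
  let a : (Scheme.Modules.pullback f).obj ((tilde.functor Γ(T, W)).obj N) ≅
      ((Scheme.Modules.pullback (KRR.pr n T)).obj M).restrict U.ι :=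
    (Scheme.Modules.pullback f).mapIso (H10Coh.tildeIso _) ≪≫
      (Scheme.Modules.pullbackComp f hW.fromSpec).app M ≪≫ (Scheme.Modules.pullbackCongr hw).app M ≪≫
      ((Scheme.Modules.pullbackComp U.ι (KRR.pr n T)).app M).symm ≪≫
      ((Scheme.Modules.restrictFunctorIsoPullback U.ι).app _).symm
  let b : LeadBC.qF (qW n T W) (Twist.twistProjSpace n Zu.{u} d) ≅ (Twist.twistOver n T d).restrict U.ι :=
    ((Scheme.Modules.pullbackComp U.ι (CMReg.fstP n T)).app _).symm ≪≫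
      ((Scheme.Modules.restrictFunctorIsoPullback U.ι).app _).symm
  exact ⟨N, ⟨PicGrp.tensorModIso a b ≪≫ e ≪≫
    (Scheme.Modules.restrictFunctor U.ι).mapIso (H10Coh.Tw.commIso _ _)⟩⟩

theorem subsingleton_HnM {d : ℤ} (hd : -(n : ℤ) ≤ d) (M : T.Modules) (hM : Coh.IsQCoh M) (p : ℕ) (hW : IsAffineOpen W) :
    Subsingleton (H10Coh.HnM (KRR.twF n T d ((Scheme.Modules.pullback (KRR.pr n T)).obj M)) (p + 1)
      (KRR.pr n T ⁻¹ᵁ W)) := by
  obtain ⟨N, ⟨e⟩⟩ := nonempty_restrict_iso (n := n) hW d M hM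
  refine H10Coh.subsingleton_HnM_image (KRR.pr n T ⁻¹ᵁ W).ι _ (p + 1) ⊤ _ (Scheme.Opens.ι_image_top _) ?_
  exact (H10Coh.HHEquiv _ _).symm.toEquiv.subsingleton_congr.2
    (H10Coh.subsingleton_HH_of_iso e _ (subsingleton_qF_tensor hW hd N p))

/-- `R^i p_* (p^* M ⊗ O(d)) = 0` for `i ≥ 1`, `d ≥ -n`, `M` quasi-coherent. -/
theorem van_pullback {i : ℕ} (hi : 1 ≤ i) {d : ℤ} (hd : -(n : ℤ) ≤ d) (M : T.Modules) (hM : Coh.IsQCoh M) :
    CMReg.Van i (KRR.twF n T d ((Scheme.Modules.pullback (KRR.pr n T)).obj M)) := by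
  obtain ⟨m, rfl⟩ : ∃ m, i = m + 1 := ⟨i - 1, by omega⟩
  exact H10Coh.isZero_rpush_of_vanishing (KRR.pr n T).base _ m (H10Coh.affB T) (H10Coh.isBasis_affB T)
    fun V hV => subsingleton_HnM hd M hM m hV

end Groth.Agent.H22Alg.PnVan
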