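import Mathlib
import Groth.Agent.H17.Fibre
import Groth.Prelude.Def_Cyc

/-! The degree of a finite flat morphism is the sum over a fibre of multiplicity times residue degree. -/

set_option autoImplicit false
set_option linter.style.haveILetI false
universe u
open CategoryTheory AlgebraicGeometry IsLocalRing Limits

namespace Groth.Agent.H22Alg.FiniteDegree

variable {X Y : Scheme.{u}} (f : X ⟶ Y)

/-- The multiplicity of `x` in its fibre. -/
noncomputable def mult (x : X) : ℕ :=
  (Module.length (X.presheaf.stalk x)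
      (X.presheaf.stalk x ⧸ Ideal.map (f.stalkMap x).hom (maximalIdeal (Y.presheaf.stalk (f x))))).toNat

theorem length_quot_congr {A A' : Type u} [CommRing A] [CommRing A'] (e : A ≃+* A') (I : Ideal A) :
    Module.length A' (A' ⧸ I.map e.toRingHom) = Module.length A (A ⧸ I) := by
  letI := e.toRingHom.toAlgebra
  rw [← Module.length_eq_of_surjective (S := A) (R := A') (M := A' ⧸ I.map e.toRingHom) e.surjective]
  let l : A →ₗ[A] (A' ⧸ I.map e.toRingHom) :=
    ((Ideal.Quotient.mkₐ A (I.map e.toRingHom)).comp (Algebra.ofId A A')).toLinearMap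
  have hl : Function.Surjective l := Ideal.Quotient.mk_surjective.comp e.surjective
  have hk : LinearMap.ker l = I := by
    ext a
    change Ideal.Quotient.mk (I.map e.toRingHom) (e a) = 0 ↔ a ∈ I
    rw [Ideal.Quotient.eq_zero_iff_mem, Ideal.mem_map_iff_of_surjective e.toRingHom e.surjective]
    exact ⟨fun ⟨b, hb, hab⟩ => e.injective hab ▸ hb, fun h => ⟨a, h, rfl⟩⟩
  exact ((Submodule.quotEquivOfEq _ _ hk.symm).trans (l.quotKerEquivOfSurjective hl)).length_eq.symm

theorem finsum_primesOver (R B : Type u) [CommRing R] [CommRing B] [Algebra R B] [Module.Finite R B]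
    [Module.Flat R B] (p : PrimeSpectrum R) :
    ∑ᶠ q ∈ p.asIdeal.primesOver B, q.ramificationIdx R * q.inertiaDeg R = Module.rankAtStalk B p := by
  rw [Module.rankAtStalk_eq]
  have hfin : (p.asIdeal.primesOver B).Finite := Algebra.QuasiFinite.finite_primesOver p.asIdeal
  letI := hfin.fintype
  rw [← finsum_set_coe_eq_finsum_mem, finsum_eq_sum_of_fintype]
  exact Ideal.sum_ramification_inertia_eq_finrank_fiber p.asIdeal B

variable {V : Y.Opens}

theorem isPullback_fromSpec [IsAffineHom f] (hV : IsAffineOpen V) :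
    IsPullback (hV.preimage f).fromSpec (Spec.map (f.app V)) f hV.fromSpec := by
  refine IsPullback.of_iso (isPullback_morphismRestrict f V).flip (hV.preimage f).isoSpec (Iso.refl _)
    hV.isoSpec (Iso.refl _) ?_ ?_ ?_ ?_
  · rw [← IsAffineOpen.isoSpec_inv_ι, Iso.hom_inv_id_assoc]
    simp
  · rw [← cancel_mono hV.fromSpec, Category.assoc, Category.assoc, Scheme.Hom.app_eq_appLE, IsAffineOpen.SpecMap_appLE_fromSpec f hV (hV.preimage f),
      ← IsAffineOpen.isoSpec_inv_ι, ← IsAffineOpen.isoSpec_inv_ι]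
    simp
  · simp
  · rw [← IsAffineOpen.isoSpec_inv_ι, Iso.hom_inv_id_assoc]
    simp

theorem finrank_eq_rankAtStalk [IsFinite f] [Flat f] (hV : IsAffineOpen V) (y : V) :
    letI := (f.app V).hom.toAlgebra
    f.finrank y = Module.rankAtStalk Γ(X, f ⁻¹ᵁ V) (hV.primeIdealOf y) := by
  letI := (f.app V).hom.toAlgebra
  have h := isPullback_fromSpec f hV
  haveI : IsFinite (Spec.map (f.app V)) := MorphismProperty.of_isPullback h inferInstance
  haveI : Flat (Spec.map (f.app V)) := MorphismProperty.of_isPullback h inferInstance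
  haveI : Module.Finite Γ(Y, V) Γ(X, f ⁻¹ᵁ V) := (IsFinite.SpecMap_iff _).mp ‹_›
  haveI : Module.Flat Γ(Y, V) Γ(X, f ⁻¹ᵁ V) := Flat.SpecMap_iff.mp ‹_›
  have := Scheme.Hom.finrank_of_isPullback _ _ _ _ h (hV.primeIdealOf y)
  rw [hV.fromSpec_primeIdealOf] at this
  rw [← this]
  exact Scheme.Hom.finrank_SpecMap_algebraMap Γ(Y, V) Γ(X, f ⁻¹ᵁ V) _

theorem stalk_data (hV : IsAffineOpen V) (hU : IsAffineOpen (f ⁻¹ᵁ V)) (x : (f ⁻¹ᵁ V : X.Opens)) :
    letI := (f.app V).hom.toAlgebra
    (hU.primeIdealOf x).asIdeal.ramificationIdx Γ(Y, V) = mult f x.1 ∧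
      (hU.primeIdealOf x).asIdeal.inertiaDeg Γ(Y, V) = f.residueDegree x.1 ∧
      (hU.primeIdealOf x).asIdeal.LiesOver (hV.primeIdealOf ⟨f x.1, x.2⟩).asIdeal := by
  letI := (f.app V).hom.toAlgebra
  letI := TopCat.Presheaf.algebra_section_stalk X.presheaf x
  letI := TopCat.Presheaf.algebra_section_stalk Y.presheaf (⟨f x.1, x.2⟩ : V)
  haveI := hU.isLocalization_stalk x
  haveI := hV.isLocalization_stalk ⟨f x.1, x.2⟩
  set p := (hV.primeIdealOf ⟨f x.1, x.2⟩).asIdeal
  set q := (hU.primeIdealOf x).asIdeal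
  have hnat : ∀ r : Γ(Y, V), f.stalkMap x.1 (algebraMap Γ(Y, V) (Y.presheaf.stalk (f x.1)) r) =
      algebraMap Γ(X, f ⁻¹ᵁ V) (X.presheaf.stalk x.1) (algebraMap Γ(Y, V) Γ(X, f ⁻¹ᵁ V) r) := fun r =>
    Scheme.Hom.germ_stalkMap_apply f V x.1 x.2 r
  have hover : q.LiesOver p := ⟨by
    ext r
    rw [Ideal.under_def, Ideal.mem_comap]
    by_contra h
    rw [not_iff] at h
    have hq := IsLocalization.AtPrime.isUnit_to_map_iff (X.presheaf.stalk x.1) q (algebraMap Γ(Y, V) Γ(X, f ⁻¹ᵁ V) r)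
    have hp := IsLocalization.AtPrime.isUnit_to_map_iff (Y.presheaf.stalk (f x.1)) p r
    rw [← hnat] at hq
    simp only [Ideal.mem_primeCompl_iff] at hp hq
    have := isUnit_map_iff (f.stalkMap x.1).hom (algebraMap Γ(Y, V) (Y.presheaf.stalk (f x.1)) r)
    tauto⟩
  refine ⟨?_, ?_, hover⟩
  · rw [Ideal.ramificationIdx_def, ← Ideal.over_def q p]
    let e := (IsLocalization.algEquiv q.primeCompl (Localization.AtPrime q) (X.presheaf.stalk x.1)).toRingEquiv
    rw [mult, ← length_quot_congr e]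
    have h1 : Ideal.map (f.stalkMap x.1).hom (maximalIdeal (Y.presheaf.stalk (f x.1))) =
        (p.map (algebraMap Γ(Y, V) (Localization.AtPrime q))).map e.toRingHom := by
      rw [← IsLocalization.AtPrime.map_eq_maximalIdeal p (Y.presheaf.stalk (f x.1)), Ideal.map_map, Ideal.map_map]
      congr 1
      ext r
      refine (hnat r).trans ?_
      change _ = e (algebraMap Γ(Y, V) (Localization.AtPrime q) r)
      rw [IsScalarTower.algebraMap_apply Γ(Y, V) Γ(X, f ⁻¹ᵁ V) (Localization.AtPrime q)]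
      exact ((IsLocalization.algEquiv q.primeCompl (Localization.AtPrime q) (X.presheaf.stalk x.1)).commutes _).symm
    rw [h1]
  · haveI : q.LiesOver p := hover
    letI := Localization.AtPrime.algebraOfLiesOver p q
    rw [Ideal.inertiaDeg_eq p q, Scheme.Hom.residueDegree]
    letI : Algebra (Y.residueField (f x.1)) (X.residueField x.1) := (f.residueFieldMap x.1).hom.toAlgebra
    let e1 : p.ResidueField ≃+* Y.residueField (f x.1) :=
      ResidueField.mapEquiv (IsLocalization.algEquiv p.primeCompl (Localization.AtPrime p) (Y.presheaf.stalk (f x.1))).toRingEquiv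
    let e2 : q.ResidueField ≃+* X.residueField x.1 :=
      ResidueField.mapEquiv (IsLocalization.algEquiv q.primeCompl (Localization.AtPrime q) (X.presheaf.stalk x.1)).toRingEquiv
    refine Algebra.finrank_eq_of_equiv_equiv e1 e2 ?_
    refine RingHom.cancel_right (residue_surjective (R := Localization.AtPrime p)) |>.mp ?_
    refine IsLocalization.ringHom_ext p.primeCompl ?_
    ext r
    simp only [RingHom.comp_apply]
    change (f.residueFieldMap x.1).hom (residue (Y.presheaf.stalk (f x.1))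
        (IsLocalization.algEquiv p.primeCompl (Localization.AtPrime p) (Y.presheaf.stalk (f x.1)) (algebraMap Γ(Y, V) _ r))) =
      e2 (algebraMap p.ResidueField q.ResidueField (residue (Localization.AtPrime p) (algebraMap Γ(Y, V) _ r)))
    have h2 : algebraMap p.ResidueField q.ResidueField (residue (Localization.AtPrime p) (algebraMap Γ(Y, V) _ r)) =
        residue (Localization.AtPrime q) (algebraMap Γ(X, f ⁻¹ᵁ V) _ (algebraMap Γ(Y, V) Γ(X, f ⁻¹ᵁ V) r)) := by
      rw [← IsScalarTower.algebraMap_apply Γ(Y, V) Γ(X, f ⁻¹ᵁ V) (Localization.AtPrime q),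
        IsScalarTower.algebraMap_apply Γ(Y, V) (Localization.AtPrime p) (Localization.AtPrime q)]
      rfl
    rw [h2]
    change _ = residue (X.presheaf.stalk x.1) (IsLocalization.algEquiv q.primeCompl (Localization.AtPrime q) (X.presheaf.stalk x.1) _)
    rw [AlgEquiv.commutes, AlgEquiv.commutes, ← hnat r]
    rfl

open scoped Classical in
theorem finsum_fibre_eq_finrank [IsFinite f] [Flat f] (y : Y) :
    ∑ᶠ x ∈ f ⁻¹' {y}, mult f x * f.residueDegree x = f.finrank y := by
  obtain ⟨V, hV, hyV, -⟩ := exists_isAffineOpen_mem_and_subset (X := Y) (x := y) (U := ⊤) trivial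
  have hU : IsAffineOpen (f ⁻¹ᵁ V) := hV.preimage f
  letI := (f.app V).hom.toAlgebra
  haveI : Module.Finite Γ(Y, V) Γ(X, f ⁻¹ᵁ V) := IsFinite.finite_app f V hV
  haveI : Flat (Spec.map (f.app V)) := MorphismProperty.of_isPullback (isPullback_fromSpec f hV) inferInstance
  haveI : Module.Flat Γ(Y, V) Γ(X, f ⁻¹ᵁ V) := Flat.SpecMap_iff.mp ‹_›
  rw [finrank_eq_rankAtStalk f hV ⟨y, hyV⟩, ← finsum_primesOver]
  refine finsum_mem_eq_of_bijOn (fun x => if h : x ∈ f ⁻¹ᵁ V then (hU.primeIdealOf ⟨x, h⟩).asIdeal else ⊥) ⟨?_, ?_, ?_⟩ ?_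
  · intro x hx
    obtain rfl : f x = y := hx
    simp only [dif_pos (show x ∈ f ⁻¹ᵁ V from hyV)]
    exact ⟨(hU.primeIdealOf ⟨x, hyV⟩).2, (stalk_data f hV hU ⟨x, hyV⟩).2.2⟩
  · intro a (ha : f a = y) b (hb : f b = y) h
    subst ha
    have hb' : b ∈ f ⁻¹ᵁ V := by show f b ∈ V; rwa [hb]
    change (if h : a ∈ f ⁻¹ᵁ V then (hU.primeIdealOf ⟨a, h⟩).asIdeal else ⊥) = (if h : b ∈ f ⁻¹ᵁ V then (hU.primeIdealOf ⟨b, h⟩).asIdeal else ⊥) at h
    rw [dif_pos (show a ∈ f ⁻¹ᵁ V from hyV), dif_pos hb'] at h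
    have := congrArg hU.fromSpec (PrimeSpectrum.ext h)
    rwa [hU.fromSpec_primeIdealOf, hU.fromSpec_primeIdealOf] at this
  · rintro Q ⟨hQ, hQp⟩
    let q : PrimeSpectrum Γ(X, f ⁻¹ᵁ V) := ⟨Q, hQ⟩
    have hqU : hU.fromSpec q ∈ f ⁻¹ᵁ V := by rw [← SetLike.mem_coe, ← hU.range_fromSpec]; exact ⟨q, rfl⟩
    have hpq : hU.primeIdealOf ⟨hU.fromSpec q, hqU⟩ = q :=
      hU.fromSpec.isOpenEmbedding.injective (hU.fromSpec_primeIdealOf _)
    have hover := (stalk_data f hV hU ⟨hU.fromSpec q, hqU⟩).2.2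
    rw [hpq] at hover
    refine ⟨hU.fromSpec q, ?_, (dif_pos hqU).trans (congrArg PrimeSpectrum.asIdeal hpq)⟩
    show f (hU.fromSpec q) = y
    have h1 : hV.primeIdealOf ⟨f (hU.fromSpec q), hqU⟩ = hV.primeIdealOf ⟨y, hyV⟩ :=
      PrimeSpectrum.ext ((hover.over).trans hQp.over.symm)
    have := congrArg hV.fromSpec h1
    rwa [hV.fromSpec_primeIdealOf, hV.fromSpec_primeIdealOf] at this
  · intro x hx
    obtain rfl : f x = y := hx
    have hd := stalk_data f hV hU ⟨x, hyV⟩
    simp only [dif_pos (show x ∈ f ⁻¹ᵁ V from hyV)]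
    rw [hd.1, hd.2.1]

theorem hasRelDim_zero [IsFinite f] : Cyc.HasRelDim f 0 := by
  intro y T hT
  haveI : IsFinite (f.fiberToSpecResidueField y) := MorphismProperty.pullback_snd _ _ inferInstance
  haveI : IsLocallyNoetherian (f.fiber y) := Groth.Agent.H17.isLocallyNoetherian_fiber f y
  haveI : DiscreteTopology (f.fiber y) := inferInstance
  obtain ⟨a, ha⟩ := hT.1.1
  have hs : T = {a} := hT.1.2.subsingleton.eq_singleton_of_mem ha
  haveI : Subsingleton T := by rw [hs]; infer_instance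
  haveI : Nonempty T := ⟨⟨a, ha⟩⟩
  haveI : Subsingleton (TopologicalSpace.IrreducibleCloseds T) := ⟨fun A B => SetLike.coe_injective <| by
    obtain ⟨a, ha⟩ := A.isIrreducible'.1
    obtain ⟨b, hb⟩ := B.isIrreducible'.1
    ext z
    exact ⟨fun _ => (Subsingleton.elim b z) ▸ hb, fun _ => (Subsingleton.elim a z) ▸ ha⟩⟩
  haveI : Nonempty (TopologicalSpace.IrreducibleCloseds T) := ⟨⟨Set.univ, by
    exact ⟨Set.univ_nonempty, (Set.subsingleton_of_subsingleton).isPreirreducible⟩, isClosed_univ⟩⟩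
  exact le_antisymm Order.krullDim_nonpos_of_subsingleton Order.krullDim_nonneg

end Groth.Agent.H22Alg.FiniteDegree
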