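import Groth.Agent.H28Int.Curves
import Groth.Agent.H28Int.Positive
import Groth.Agent.H22Alg.DevLength
import Groth.Agent.H11Ample.ToPn
import Groth.Agent.H11Ample.Tensor
import Groth.Agent.H17.Reduced
import Groth.Agent.H25Euler.Mult
import Groth.Agent.H11Sym.InvertibleInverse
import Mathlib.AlgebraicGeometry.ZariskisMainTheorem

/-! # Generated invertible modules that are ample on curves. -/

set_option autoImplicit false
set_option linter.style.haveILetI false
universe u

open CategoryTheory CategoryTheory.Limits AlgebraicGeometry TopologicalSpace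
open Groth.Agent.H8Props.FieldDim (cdim)

noncomputable section

namespace Groth.Agent.H22Alg.GenCurves

variable {X : Scheme.{u}}

theorem exists_fin_gen [CompactSpace X] {L : X.Modules} (hL : PicF.IsInvertible L)
    (hgen : Curv2.IsGloballyGenerated L) :
    ∃ (n : ℕ) (v : Fin (n + 1) → Γ(L, ⊤)), ∀ x, ∃ i, x ∈ H11Ample.gen L (v i) := by
  choose g hg using fun x : X => H11Ample.exists_mem_gen_of_isGloballyGenerated hL hgen x
  obtain ⟨S, hS⟩ := CompactSpace.elim_nhds_subcover (fun x => (H11Ample.gen L (g x) : Set X))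
    (fun x => (H11Ample.gen L (g x)).isOpen.mem_nhds (hg x))
  refine ⟨S.card, Fin.cons 0 fun i => g (S.equivFin.symm i).1, fun x => ?_⟩
  obtain ⟨y, hy, hxy⟩ := Set.mem_iUnion₂.1 (hS.ge (Set.mem_univ x))
  exact ⟨(S.equivFin ⟨y, hy⟩).succ, by simpa using hxy⟩

/-- An infinite closed subset contains a curve. -/
theorem exists_curve [IsNoetherian X] {S : Set X} (hS : IsClosed S) (hinf : S.Infinite) :
    ∃ w, closure ({w} : Set X) ⊆ S ∧ topologicalKrullDim (closure ({w} : Set X)) = 1 := by
  haveI : QuasiSober S := hS.isClosedEmbedding_subtypeVal.quasiSober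
  have h1 : ∃ w ∈ S, ¬ IsClosed ({w} : Set X) := by
    by_contra hne
    simp only [not_exists, not_and, not_not] at hne
    obtain ⟨Z, hZf, hZ⟩ := H25Euler.exists_finite_generizing S
    refine hinf ((hZf.image Subtype.val).subset fun y hy => ?_)
    obtain ⟨η, hη, hs⟩ := hZ ⟨y, hy⟩
    refine ⟨η, hη, ?_⟩
    have h := ((subtype_specializes_iff _ _).1 hs).mem_closed (hne η.1 η.2) rfl
    exact h.symm
  let T : Set (Closeds X) := {C | ∃ w ∈ S, ¬ IsClosed ({w} : Set X) ∧ (C : Set X) = closure {w}}
  obtain ⟨w₀, hw₀, hw₀c⟩ := h1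
  obtain ⟨C, ⟨w, hwS, hwc, hC⟩, hmin⟩ :=
    wellFounded_lt.has_min T ⟨⟨closure {w₀}, isClosed_closure⟩, w₀, hw₀, hw₀c, rfl⟩
  have hsub : closure ({w} : Set X) ⊆ S := closure_minimal (Set.singleton_subset_iff.2 hwS) hS
  refine ⟨w, hsub, ?_⟩
  let Y := closure ({w} : Set X)
  haveI : QuasiSober Y := isClosed_closure.isClosedEmbedding_subtypeVal.quasiSober
  have hclosed : ∀ y ∈ Y, y ≠ w → IsClosed ({y} : Set X) := fun y hy hne => by
    by_contra hyc
    refine hmin ⟨closure {y}, isClosed_closure⟩ ⟨y, hsub hy, hyc, rfl⟩ (lt_of_le_of_ne ?_ fun e => hne ?_)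
    · show closure ({y} : Set X) ⊆ C
      rw [hC]
      exact closure_minimal (Set.singleton_subset_iff.2 hy) isClosed_closure
    · have hwy : w ∈ closure ({y} : Set X) := by
        have : closure ({y} : Set X) = C := congrArg (fun D : Closeds X => (D : Set X)) e
        rw [this, hC]
        exact subset_closure rfl
      exact ((specializes_iff_mem_closure.2 hwy).antisymm (specializes_iff_mem_closure.2 hy)).eq
  apply le_antisymm
  · refine Order.krullDim_le_one_iff.2 fun Z => ?_
    let z := Z.2.genericPoint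
    have hz : closure ({z} : Set Y) = (Z : Set Y) := Z.2.closure_genericPoint Z.3
    by_cases hzw : z.1 = w
    · refine Or.inr fun Z' _ y hy => ?_
      show y ∈ (Z : Set Y)
      rw [← hz, ← specializes_iff_mem_closure, subtype_specializes_iff, hzw]
      exact specializes_iff_mem_closure.2 y.2
    · refine Or.inl fun Z' hle y hy => ?_
      have hs : ∀ t ∈ (Z : Set Y), t = z := fun t ht => by
        rw [← hz, ← specializes_iff_mem_closure, subtype_specializes_iff] at ht
        exact Subtype.ext (ht.mem_closed (hclosed _ z.2 hzw) rfl)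
      obtain ⟨t, ht⟩ := Z'.2.nonempty
      show y ∈ (Z' : Set Y)
      rwa [hs y hy, ← hs t (hle ht)]
  · obtain ⟨y, hy, hne⟩ : ∃ y ∈ Y, y ≠ w := by
      by_contra h
      simp only [not_exists, not_and, not_not] at h
      have : Y = {w} := Set.Subset.antisymm (fun y hy => h y hy) (Set.singleton_subset_iff.2 (subset_closure rfl))
      exact hwc (this ▸ isClosed_closure)
    let A : IrreducibleCloseds Y :=
      ⟨closure {⟨y, hy⟩}, isIrreducible_singleton.closure, isClosed_closure⟩
    let B : IrreducibleCloseds Y :=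
      ⟨closure {⟨w, subset_closure rfl⟩}, isIrreducible_singleton.closure, isClosed_closure⟩
    have hlt : A < B := by
      refine lt_of_le_of_ne ?_ fun e => hne ?_
      · show closure ({⟨y, hy⟩} : Set Y) ⊆ closure {⟨w, subset_closure rfl⟩}
        refine closure_minimal (Set.singleton_subset_iff.2 ?_) isClosed_closure
        rw [← specializes_iff_mem_closure, subtype_specializes_iff]
        exact specializes_iff_mem_closure.2 hy
      · have hmem : (⟨w, subset_closure rfl⟩ : Y) ∈ (A : Set Y) := by
          rw [e]; exact subset_closure rfl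
        have h' := (subtype_specializes_iff _ _).1 (specializes_iff_mem_closure.2 hmem)
        exact (h'.antisymm (specializes_iff_mem_closure.2 hy)).eq
    exact Order.one_le_krullDim_iff.2 ⟨A, B, hlt⟩

variable (k : Type u) [Field k] [X.Over (Spec (CommRingCat.of k))] [IsProper (X ↘ Spec (CommRingCat.of k))]
  {P : Scheme.{u}} [P.Over (Spec (CommRingCat.of k))] [IsSeparated (P ↘ Spec (CommRingCat.of k))]

omit [IsSeparated (P ↘ Spec (CommRingCat.of k))] in
include k in
theorem not_ample_of_const {Y : Scheme.{u}} [Y.Over (Spec (CommRingCat.of k))]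
    [IsProper (Y ↘ Spec (CommRingCat.of k))] [IsProper (P ↘ Spec (CommRingCat.of k))] [IsIntegral Y]
    (hY : topologicalKrullDim Y = 1) (h : Y ⟶ P) (hh : h ≫ (P ↘ Spec (CommRingCat.of k)) = Y ↘ Spec (CommRingCat.of k))
    {p : P} (hconst : ∀ y, h y = p) {A : P.Modules} (hA : PicF.IsInvertible A) {L : Y.Modules}
    (e : (Scheme.Modules.pullback h).obj A ≅ L) : ¬ CohB1.IsAmple L := fun hamp => by
  haveI := H28Int.isNoetherian k (X := Y)
  have hLi := hamp.1
  obtain ⟨M, hM, ⟨φ⟩⟩ := H11Sym.exists_inverse hLi
  let O := Coh.structureModule Y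
  have hO : Coh.IsCoh O := H11Ample.isCoh_of_isInvertible (H28Int.isInvertible_structureModule Y)
  have hd : topologicalKrullDim (CohB1.support O) ≤ ((1 : ℕ) : WithBot ℕ∞) :=
    (Topology.IsInducing.subtypeVal.topologicalKrullDim_le).trans hY.le
  have hnil : ∀ B ∈ ([] : List Y.Modules), PicF.IsInvertible B := by simp
  have hc : ∀ {B B' : Y.Modules}, (B ≅ B') → H28Int.D k [B] O = H28Int.D k [B'] O := fun {B B'} ψ => by
    show Curv2.euler k Y _ - Curv2.euler k Y _ = Curv2.euler k Y _ - Curv2.euler k Y _
    rw [H25Euler.euler_congr (PicGrp.tensorModIso ψ (Iso.refl O))]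
  have h0 : H28Int.D k [L] O = 0 := (hc e).symm.trans (H28Int.Curves.D_pullback_const k h hconst hA)
  have hsum := H28Int.D_cons_tensor k hnil hLi hM hO (A := L) (B := M) (F := O) (by simpa using hd)
  rw [hc (H10Coh.Tw.commIso L M ≪≫ φ), H28Int.D_cons_structure k hnil, h0, zero_add] at hsum
  have hpos := (H28Int.pos_of_ample k [M] (fun B hB => ⟨L, hamp, by
    obtain rfl := List.mem_singleton.1 hB
    exact ⟨H10Coh.Tw.commIso L _ ≪≫ φ⟩⟩) O hO (by simpa using hd)).2 ⟨genericPoint Y, H25Euler.mem_support_structure _, ?_⟩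
  · rw [← hsum] at hpos
    exact lt_irrefl _ hpos
  · rw [H22Alg.VarDim.cdim_genericPoint Y, hY]
    simp

include k in
/-- A morphism pulling back an invertible module to one ample on every curve is finite. -/
theorem isFinite_of_curves [IsProper (P ↘ Spec (CommRingCat.of k))] (r : X ⟶ P)
    (hr : r ≫ (P ↘ Spec (CommRingCat.of k)) = X ↘ Spec (CommRingCat.of k))
    {A : P.Modules} (hA : PicF.IsInvertible A) {L : X.Modules} (τ : (Scheme.Modules.pullback r).obj A ≅ L)
    (hcurves : ∀ C : X.IdealSheafData, IsIntegral C.subscheme → topologicalKrullDim (C.support : Set X) = 1 →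
      CohB1.IsAmple ((Scheme.Modules.pullback C.subschemeι).obj L)) : IsFinite r := by
  haveI := H28Int.isNoetherian k (X := X)
  haveI : IsProper (r ≫ (P ↘ Spec (CommRingCat.of k))) := hr.symm ▸ inferInstance
  haveI : IsProper r := IsProper.of_comp r (P ↘ Spec (CommRingCat.of k))
  suffices hqf : r.quasiFiniteLocus = ⊤ by
    haveI := r.quasiFiniteLocus_eq_top_iff.1 hqf
    exact .of_isProper_of_locallyQuasiFinite _
  by_contra hne
  have hnon : ((r.quasiFiniteLocus : Set X)ᶜ).Nonempty := by
    rw [Set.nonempty_compl]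
    exact fun e => hne (Opens.ext e)
  obtain ⟨x, hxc, hx⟩ := r.quasiFiniteLocus.isOpen.isClosed_compl.exists_closed_singleton hnon
  have hinf : (r ⁻¹' {r x}).Infinite := fun hfin => hxc (by
    have : Finite (r.fiber (r x)) := (r.fiberHomeo (r x)).finite_iff.mpr hfin.to_subtype
    exact Scheme.Hom.quasiFiniteAt_iff_isOpen_singleton_asFiber.mpr (isOpen_discrete _))
  have hp : IsClosed ({r x} : Set P) := by
    have := r.isClosedMap _ hx
    rwa [Set.image_singleton] at this
  obtain ⟨w, hwS, hw⟩ := exists_curve (hp.preimage r.continuous) hinf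
  let J := Scheme.IdealSheafData.vanishingIdeal (DevLength.cl w)
  haveI : IrreducibleSpace J.subscheme := by
    obtain ⟨t, ht⟩ : w ∈ Set.range J.subschemeι := by
      rw [H17.range_vanishingIdeal_subschemeι]
      exact subset_closure rfl
    have h1 : closure ({t} : Set J.subscheme) = Set.univ := Set.eq_univ_of_forall fun y => by
      refine (J.subschemeι.isEmbedding.isInducing.specializes_iff.1 ?_).mem_closure
      rw [ht, specializes_iff_mem_closure]
      have h' := Set.mem_range_self (f := J.subschemeι) y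
      rw [H17.range_vanishingIdeal_subschemeι] at h'
      exact h'
    have h' : IsIrreducible (Set.univ : Set J.subscheme) := h1 ▸ isIrreducible_singleton.closure
    exact (irreducibleSpace_def _).2 h'
  haveI : IsReduced J.subscheme := H17.isReduced_vanishingIdeal_subscheme _
  haveI : IsIntegral J.subscheme := isIntegral_of_irreducibleSpace_of_isReduced _
  have hsupp : (J.support : Set X) = closure {w} := Scheme.IdealSheafData.coe_support_vanishingIdeal _
  letI : J.subscheme.Over (Spec (CommRingCat.of k)) := ⟨(J.subschemeι ≫ r) ≫ (P ↘ Spec (CommRingCat.of k))⟩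
  haveI : IsProper (J.subscheme ↘ Spec (CommRingCat.of k)) :=
    inferInstanceAs (IsProper ((J.subschemeι ≫ r) ≫ (P ↘ Spec (CommRingCat.of k))))
  have hJdim : topologicalKrullDim J.subscheme = 1 := by
    rw [← hw, J.subschemeι.isClosedEmbedding.isEmbedding.toHomeomorph.isHomeomorph.topologicalKrullDim_eq,
      H17.range_vanishingIdeal_subschemeι]
    rfl
  refine not_ample_of_const k hJdim (J.subschemeι ≫ r) rfl (p := r x) (fun y => ?_) hA
    ((Scheme.Modules.pullbackComp _ _).symm.app A ≪≫ (Scheme.Modules.pullback J.subschemeι).mapIso τ)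
    (hcurves J inferInstance (by rw [hsupp]; exact hw))
  have : J.subschemeι y ∈ closure ({w} : Set X) := by
    have h' := Set.mem_range_self (f := J.subschemeι) y
    rw [H17.range_vanishingIdeal_subschemeι] at h'
    exact h'
  exact hwS this

end Groth.Agent.H22Alg.GenCurves
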