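import Mathlib.RingTheory.Length
import Mathlib.RingTheory.FiniteLength
import Mathlib.RingTheory.KrullDimension.Zero
import Mathlib.RingTheory.DedekindDomain.Basic
import Mathlib.RingTheory.Artinian.Ring
import Mathlib.RingTheory.Localization.FractionRing
import Mathlib.RingTheory.Localization.Integral
import Mathlib.RingTheory.Jacobson.Ideal
import Mathlib.RingTheory.Ideal.GoingUp
import Mathlib.RingTheory.OrderOfVanishing.Basic
import Mathlib.RingTheory.Spectrum.Maximal.Basic
import Mathlib.Algebra.Algebra.Subalgebra.Basic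

/-!
The Krull–Akizuki theorem (for subrings of the fraction field), and semilocal one-dimensional domains.
-/

universe u v

namespace Groth.Agent.H22Alg

variable {B : Type u} [CommRing B] [IsDomain B] {K : Type v} [Field K] [Algebra B K] [IsFractionRing B K]

theorem length_quot_smul_top_le_of_fg [IsNoetherianRing B] [Ring.KrullDimLE 1 B] {a : B} (ha : a ≠ 0)
    (N : Submodule B K) (hN : N.FG) :
    Module.length B (↥N ⧸ LinearMap.range (LinearMap.lsmul B ↥N a)) ≤ Ring.ord B a := by
  classical
  by_cases hN0 : N = ⊥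
  · have : Subsingleton ↥N := by rw [hN0]; infer_instance
    have : Subsingleton (↥N ⧸ LinearMap.range (LinearMap.lsmul B ↥N a)) :=
      (Submodule.Quotient.mk_surjective _).subsingleton
    rw [Module.length_eq_zero]; exact zero_le
  obtain ⟨s, rfl⟩ := hN
  obtain ⟨c, hc⟩ := IsLocalization.exist_integer_multiples_of_finset (nonZeroDivisors B) s
  have hc0 : algebraMap B K c ≠ 0 := IsFractionRing.to_map_ne_zero_of_mem_nonZeroDivisors c.2
  set N := Submodule.span B (s : Set K)
  have hmem : ∀ x ∈ N, ∃ b : B, algebraMap B K b = algebraMap B K c * x := by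
    intro x hx
    induction hx using Submodule.span_induction with
    | mem x hx => obtain ⟨b, hb⟩ := hc x hx; exact ⟨b, by rw [hb, Algebra.smul_def]⟩
    | zero => exact ⟨0, by simp⟩
    | add x y _ _ hx hy =>
      obtain ⟨p, hp⟩ := hx; obtain ⟨q, hq⟩ := hy
      exact ⟨p + q, by rw [map_add, hp, hq, mul_add]⟩
    | smul r x _ hx =>
      obtain ⟨p, hp⟩ := hx
      exact ⟨r * p, by rw [map_mul, hp, Algebra.smul_def]; ring⟩
  choose φ hφ using fun x : ↥N => hmem x x.2
  let ψ : ↥N →ₗ[B] B :=
    { toFun := φ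
      map_add' := fun x y => by
        apply IsFractionRing.injective B K
        rw [map_add, hφ, hφ, hφ]; exact mul_add _ _ _
      map_smul' := fun r x => by
        apply IsFractionRing.injective B K
        simp only [RingHom.id_apply, smul_eq_mul, map_mul, hφ]
        show _ * (r • (x : K)) = _
        rw [Algebra.smul_def]; ring }
  have hψ : Function.Injective ψ := fun x y h => by
    have := congrArg (algebraMap B K) (show φ x = φ y from h)
    rw [hφ, hφ] at this
    exact Subtype.ext (mul_left_cancel₀ hc0 this)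
  set I : Ideal B := LinearMap.range ψ
  let μ : B →ₗ[B] B := LinearMap.mulLeft B a
  have hμ : Function.Injective μ := mul_right_injective₀ ha
  have hI : I ≠ ⊥ := by
    obtain ⟨x, hx, hx0⟩ := (Submodule.ne_bot_iff _).mp hN0
    refine (Submodule.ne_bot_iff _).mpr ⟨ψ ⟨x, hx⟩, ⟨_, rfl⟩, fun h => hx0 ?_⟩
    exact congrArg Subtype.val (hψ (h.trans ψ.map_zero.symm))
  have hfin : Module.length B (B ⧸ I) ≠ ⊤ := by
    obtain ⟨z, hz, hz0⟩ := (Submodule.ne_bot_iff _).mp hI
    exact ne_top_of_le_ne_top (Ring.ord_ne_top (mem_nonZeroDivisors_of_ne_zero hz0))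
      (Module.length_le_of_surjective (Submodule.factor ((Ideal.span_singleton_le_iff_mem _).mpr hz))
        (Submodule.factor_surjective _))
  have hsplit : ∀ {X : Type v} [AddCommGroup X] [Module B X] (f : X →ₗ[B] B) (g : X →ₗ[B] X),
      Function.Injective f →
      Module.length B (B ⧸ LinearMap.range (f ∘ₗ g)) =
        Module.length B (X ⧸ LinearMap.range g) + Module.length B (B ⧸ LinearMap.range f) := by
    intro X _ _ f g hf
    have hsub : LinearMap.range (f ∘ₗ g) ≤ LinearMap.range f := LinearMap.range_comp_le_range _ _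
    refine Module.length_eq_add_of_exact
      (Submodule.mapQ (LinearMap.range g) (LinearMap.range (f ∘ₗ g)) f (by rintro _ ⟨w, rfl⟩; exact ⟨w, rfl⟩))
      (Submodule.factor hsub) ?_ (Submodule.factor_surjective hsub) ?_
    · rw [injective_iff_map_eq_zero]
      intro z hz
      obtain ⟨y, rfl⟩ := Submodule.Quotient.mk_surjective _ z
      rw [Submodule.mapQ_apply, Submodule.Quotient.mk_eq_zero] at hz
      obtain ⟨w, hw⟩ := hz
      rw [Submodule.Quotient.mk_eq_zero]
      exact ⟨w, hf hw⟩
    · intro z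
      obtain ⟨z, rfl⟩ := Submodule.Quotient.mk_surjective _ z
      show Submodule.Quotient.mk z = 0 ↔ _
      rw [Submodule.Quotient.mk_eq_zero]
      constructor
      · rintro ⟨y, rfl⟩
        exact ⟨Submodule.Quotient.mk y, rfl⟩
      · rintro ⟨w, hw⟩
        obtain ⟨y, rfl⟩ := Submodule.Quotient.mk_surjective _ w
        rw [Submodule.mapQ_apply, Submodule.Quotient.eq] at hw
        have := Submodule.sub_mem _ (LinearMap.mem_range_self f y) (hsub hw)
        rwa [sub_sub_cancel] at this
  have h1 := hsplit ψ (LinearMap.lsmul B ↥N a) hψ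
  have e : ψ ∘ₗ LinearMap.lsmul B ↥N a = μ ∘ₗ ψ := LinearMap.ext fun x => map_smul ψ a x
  have h2 : Module.length B (B ⧸ LinearMap.range (μ ∘ₗ ψ)) =
      Module.length B (B ⧸ I) + Ring.ord B a := by
    have hsub : LinearMap.range (μ ∘ₗ ψ) ≤ LinearMap.range μ := LinearMap.range_comp_le_range _ _
    have hμspan : LinearMap.range μ = Ideal.span {a} := by
      ext x
      rw [Ideal.mem_span_singleton', LinearMap.mem_range]
      exact ⟨fun ⟨y, hy⟩ => ⟨y, (mul_comm y a).trans hy⟩, fun ⟨y, hy⟩ => ⟨y, (mul_comm a y).trans hy⟩⟩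
    unfold Ring.ord
    rw [← (Submodule.quotEquivOfEq _ _ hμspan).length_eq]
    refine Module.length_eq_add_of_exact
      (Submodule.mapQ I (LinearMap.range (μ ∘ₗ ψ)) μ (by rintro _ ⟨w, rfl⟩; exact ⟨w, rfl⟩))
      (Submodule.factor hsub) ?_ (Submodule.factor_surjective hsub) ?_
    · rw [injective_iff_map_eq_zero]
      intro z hz
      obtain ⟨y, rfl⟩ := Submodule.Quotient.mk_surjective _ z
      rw [Submodule.mapQ_apply, Submodule.Quotient.mk_eq_zero] at hz
      obtain ⟨w, hw⟩ := hz
      rw [Submodule.Quotient.mk_eq_zero]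
      exact ⟨w, hμ hw⟩
    · intro z
      obtain ⟨z, rfl⟩ := Submodule.Quotient.mk_surjective _ z
      show Submodule.Quotient.mk z = 0 ↔ _
      rw [Submodule.Quotient.mk_eq_zero]
      constructor
      · rintro ⟨y, rfl⟩
        exact ⟨Submodule.Quotient.mk y, rfl⟩
      · rintro ⟨w, hw⟩
        obtain ⟨y, rfl⟩ := Submodule.Quotient.mk_surjective _ w
        rw [Submodule.mapQ_apply, Submodule.Quotient.eq] at hw
        have := Submodule.sub_mem _ (LinearMap.mem_range_self μ y) (hsub hw)
        rwa [sub_sub_cancel] at this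
  rw [e, h2, add_comm (Module.length B (↥N ⧸ _))] at h1
  exact (ENat.add_right_injective_of_ne_top hfin h1).ge

variable (C : Subalgebra B K)

theorem exists_algebraMap_mem {I : Ideal C} (hI : I ≠ ⊥) : ∃ b : B, b ≠ 0 ∧ algebraMap B C b ∈ I := by
  obtain ⟨⟨c, hc⟩, hcI, hc0⟩ := (Submodule.ne_bot_iff _).mp hI
  obtain ⟨p, q, hq, rfl⟩ := IsFractionRing.div_surjective B c
  have hq0 : algebraMap B K q ≠ 0 := IsFractionRing.to_map_ne_zero_of_mem_nonZeroDivisors hq
  refine ⟨p, fun hp => hc0 (Subtype.ext (by simp [hp])), ?_⟩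
  have : algebraMap B C p = algebraMap B C q * ⟨_, hc⟩ := Subtype.ext (by
    show algebraMap B K p = algebraMap B K q * (algebraMap B K p / algebraMap B K q)
    field_simp)
  rw [this]
  exact I.mul_mem_left _ hcI

variable [IsNoetherianRing B] [Ring.KrullDimLE 1 B]

/-- Krull–Akizuki: the fundamental length bound. -/
theorem length_quot_le {a : B} (ha : a ≠ 0) :
    Module.length B (C ⧸ (Ideal.span {algebraMap B C a}).restrictScalars B) ≤ Ring.ord B a := by
  set Q := C ⧸ (Ideal.span {algebraMap B C a}).restrictScalars B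
  by_contra hlt
  rw [not_le] at hlt
  obtain ⟨n, hn⟩ := ENat.ne_top_iff_exists.mp hlt.ne_top
  have hle1 : ((n + 1 : ℕ) : ℕ∞) ≤ Module.length B Q := by
    rw [Nat.cast_add, Nat.cast_one]; exact Order.add_one_le_of_lt (hn ▸ hlt)
  have hle2 : ((n + 1 : ℕ) : WithBot ℕ∞) ≤ Order.krullDim (Submodule B Q) := by
    rw [← Module.coe_length]; exact WithBot.coe_le_coe.mpr hle1
  obtain ⟨c, hc⟩ := Order.le_krullDim_iff.mp hle2
  have hstep : ∀ i : Fin c.length, ∃ z : C, Submodule.Quotient.mk z ∈ c i.succ ∧ (Submodule.Quotient.mk z : Q) ∉ c i.castSucc := fun i => by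
    obtain ⟨q, hq1, hq2⟩ := SetLike.exists_of_lt (show c i.castSucc < c i.succ from c.step i)
    obtain ⟨z, rfl⟩ := Submodule.Quotient.mk_surjective _ q
    exact ⟨z, hq1, hq2⟩
  choose z hz1 hz2 using hstep
  let g : Fin c.length → K := fun i => (z i : K)
  set N : Submodule B K := Submodule.span B (Set.range g)
  have hNC : ∀ x ∈ N, x ∈ C := fun x hx =>
    (Submodule.span_le (p := Subalgebra.toSubmodule C)).mpr (by rintro _ ⟨i, rfl⟩; exact (z i).2) hx
  let f : ↥N →ₗ[B] Q := (Submodule.mkQ _) ∘ₗ
    (LinearMap.codRestrict (Subalgebra.toSubmodule C) N.subtype fun x => hNC x x.2 : ↥N →ₗ[B] C)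
  have hsub : LinearMap.range (LinearMap.lsmul B ↥N a) ≤ LinearMap.ker f := by
    rintro _ ⟨x, rfl⟩
    rw [LinearMap.mem_ker, LinearMap.lsmul_apply, map_smul]
    obtain ⟨y, hy⟩ := Submodule.Quotient.mk_surjective _ (f x)
    rw [← hy, ← Submodule.Quotient.mk_smul, Submodule.Quotient.mk_eq_zero, Submodule.restrictScalars_mem,
      Ideal.mem_span_singleton']
    exact ⟨y, by rw [Algebra.smul_def, mul_comm]⟩
  have hle : Module.length B (LinearMap.range f) ≤ Ring.ord B a := by
    refine le_trans ?_ (length_quot_smul_top_le_of_fg ha N (Submodule.fg_span (Set.finite_range g)))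
    exact Module.length_le_of_surjective ((LinearMap.range (LinearMap.lsmul B ↥N a)).liftQ f.rangeRestrict
      (by rw [LinearMap.ker_rangeRestrict]; exact hsub))
      (fun y => by obtain ⟨x, rfl⟩ := f.surjective_rangeRestrict y; exact ⟨Submodule.Quotient.mk x, rfl⟩)
  have hmem : ∀ i, (Submodule.Quotient.mk (z i) : Q) ∈ LinearMap.range f := fun i =>
    ⟨⟨g i, Submodule.subset_span ⟨i, rfl⟩⟩, rfl⟩
  let c' : LTSeries (Submodule B (LinearMap.range f)) :=
    { length := c.length
      toFun := fun i => (c i).comap (LinearMap.range f).subtype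
      step := fun i => by
        show (c i.castSucc).comap _ < (c i.succ).comap _
        refine lt_of_le_of_ne (Submodule.comap_mono (c.step i).le) fun e => hz2 i ?_
        have : (⟨_, hmem i⟩ : LinearMap.range f) ∈ (c i.succ).comap (LinearMap.range f).subtype := hz1 i
        rw [← e] at this
        exact this }
  have h'' := Order.LTSeries.length_le_krullDim c'
  rw [show c'.length = n + 1 from hc, ← Module.coe_length] at h''
  have h3 : ((n + 1 : ℕ) : ℕ∞) ≤ Module.length B (LinearMap.range f) := WithBot.coe_le_coe.mp h''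
  have h4 := h3.trans hle
  rw [← hn, Nat.cast_le] at h4
  omega

theorem quot_finite_length {a : B} (ha : a ≠ 0) :
    IsFiniteLength B (C ⧸ Ideal.span {algebraMap B C a}) := by
  rw [← Module.length_ne_top_iff, ← (Submodule.Quotient.restrictScalarsEquiv B _).length_eq]
  exact ne_top_of_le_ne_top (Ring.ord_ne_top (mem_nonZeroDivisors_of_ne_zero ha)) (length_quot_le C ha)

theorem isNoetherianRing_subalgebra : IsNoetherianRing C := by
  refine (isNoetherianRing_iff_ideal_fg C).mpr fun I => ?_
  by_cases hI : I = ⊥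
  · rw [hI]; exact Submodule.fg_bot
  obtain ⟨a, ha, haI⟩ := exists_algebraMap_mem C hI
  set J := Ideal.span {algebraMap B C a}
  obtain ⟨hnoeth, -⟩ := isFiniteLength_iff_isNoetherian_isArtinian.mp (quot_finite_length C ha)
  have : IsNoetherian C (C ⧸ J) := isNoetherian_of_tower B hnoeth
  refine Submodule.fg_of_fg_map_of_fg_inf_ker J.mkQ (IsNoetherian.noetherian _) ?_
  rw [Submodule.ker_mkQ, inf_eq_right.mpr ((Ideal.span_singleton_le_iff_mem _).mpr haI)]
  exact ⟨{algebraMap B C a}, by simp [J]⟩

theorem dimensionLEOne_subalgebra : Ring.DimensionLEOne C := by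
  refine ⟨fun {P} hP hPp => ?_⟩
  obtain ⟨a, ha, haP⟩ := exists_algebraMap_mem C hP
  obtain ⟨-, hart⟩ := isFiniteLength_iff_isNoetherian_isArtinian.mp (quot_finite_length C ha)
  set J := Ideal.span {algebraMap B C a}
  have : IsArtinianRing (C ⧸ J) := isArtinian_of_tower B hart
  have hJ : J ≤ P := (Ideal.span_singleton_le_iff_mem _).mpr haP
  have : (P.map (Ideal.Quotient.mk J)).IsPrime :=
    Ideal.map_isPrime_of_surjective Ideal.Quotient.mk_surjective (by rwa [Ideal.mk_ker])
  have := IsArtinianRing.isMaximal_of_isPrime (P.map (Ideal.Quotient.mk J))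
  have e : (P.map (Ideal.Quotient.mk J)).comap (Ideal.Quotient.mk J) = P := by
    rw [Ideal.comap_map_of_surjective _ Ideal.Quotient.mk_surjective, ← RingHom.ker_eq_comap_bot, Ideal.mk_ker,
      sup_of_le_left hJ]
  rw [← e]
  exact Ideal.comap_isMaximal_of_surjective _ Ideal.Quotient.mk_surjective

omit [IsDomain B] [IsFractionRing B K] [IsNoetherianRing B] [Ring.KrullDimLE 1 B] in
theorem algebraMap_ne_zero_of_ne_zero [IsDomain B] [IsFractionRing B K] {a : B} (ha : a ≠ 0) :
    algebraMap B C a ≠ 0 := fun h =>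
  IsFractionRing.to_map_ne_zero_of_mem_nonZeroDivisors (mem_nonZeroDivisors_of_ne_zero ha)
    (congrArg Subtype.val h : algebraMap B K a = 0)

theorem exists_ne_zero_mem_jacobson (hsl : Finite (MaximalSpectrum B)) (hnf : ¬ IsField B) :
    ∃ j : B, j ≠ 0 ∧ j ∈ (⊥ : Ideal B).jacobson := by
  classical
  have := Fintype.ofFinite (MaximalSpectrum B)
  have hne : ∀ m : MaximalSpectrum B, ∃ x ∈ m.asIdeal, x ≠ 0 := fun m =>
    (Submodule.ne_bot_iff _).mp fun h => hnf (Ring.isField_iff_maximal_bot.mpr (h ▸ m.isMaximal))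
  choose x hx hx0 using hne
  refine ⟨∏ m, x m, Finset.prod_ne_zero_iff.mpr fun m _ => hx0 m, ?_⟩
  rw [Ideal.jacobson, Submodule.mem_sInf]
  rintro m ⟨-, hm⟩
  rw [← Finset.mul_prod_erase _ _ (Finset.mem_univ (⟨m, hm⟩ : MaximalSpectrum B))]
  exact Ideal.mul_mem_right _ m (hx ⟨m, hm⟩)

theorem finite_maximalSpectrum_subalgebra (hsl : Finite (MaximalSpectrum B)) (hnf : ¬ IsField B) :
    Finite (MaximalSpectrum C) := by
  by_cases hCf : IsField C
  · let := hCf.toField
    exact Finite.of_injective (fun _ : MaximalSpectrum C => ())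
      fun m m' _ => MaximalSpectrum.ext (by rw [Ideal.eq_bot_of_prime (I := m.asIdeal), Ideal.eq_bot_of_prime (I := m'.asIdeal)])
  obtain ⟨j, hj, hjJ⟩ := exists_ne_zero_mem_jacobson (B := B) hsl hnf
  obtain ⟨-, hart⟩ := isFiniteLength_iff_isNoetherian_isArtinian.mp (quot_finite_length C hj)
  set J := Ideal.span {algebraMap B C j}
  have : IsArtinianRing (C ⧸ J) := isArtinian_of_tower B hart
  have := isNoetherianRing_subalgebra C
  have hmem : ∀ m : MaximalSpectrum C, J ≤ m.asIdeal := fun m => by
    refine (Ideal.span_singleton_le_iff_mem _).mpr ?_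
    have hne : m.asIdeal.comap (algebraMap B C) ≠ ⊥ := by
      obtain ⟨b, hb, hbm⟩ := exists_algebraMap_mem C (I := m.asIdeal)
        (fun h => hCf (Ring.isField_iff_maximal_bot.mpr (h ▸ m.isMaximal)))
      exact (Submodule.ne_bot_iff _).mpr ⟨b, hbm, hb⟩
    have := Ideal.isMaximal_of_isPrime_of_ne_bot (m.asIdeal.comap (algebraMap B C)) hne
    exact (Submodule.mem_sInf.mp hjJ) _ ⟨bot_le, this⟩
  refine Finite.of_injective (fun m : MaximalSpectrum C =>
    (⟨m.asIdeal.map (Ideal.Quotient.mk J), Ideal.map_isPrime_of_surjective Ideal.Quotient.mk_surjective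
      (by rw [Ideal.mk_ker]; exact hmem m)⟩ : PrimeSpectrum (C ⧸ J))) fun m m' h => MaximalSpectrum.ext ?_
  have e : ∀ P : Ideal C, J ≤ P → (P.map (Ideal.Quotient.mk J)).comap (Ideal.Quotient.mk J) = P := fun P hP => by
    rw [Ideal.comap_map_of_surjective _ Ideal.Quotient.mk_surjective, ← RingHom.ker_eq_comap_bot, Ideal.mk_ker,
      sup_of_le_left hP]
  rw [← e _ (hmem m), ← e _ (hmem m')]
  exact congrArg (Ideal.comap _) (congrArg PrimeSpectrum.asIdeal h)

theorem exists_pow_mem_span {x b : B} (hb : b ∈ (⊥ : Ideal B).jacobson) (hx : x ≠ 0) :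
    ∃ n : ℕ, b ^ n ∈ Ideal.span {x} := by
  show b ∈ (Ideal.span {x}).radical
  rw [Ideal.radical_eq_sInf, Submodule.mem_sInf]
  rintro P ⟨hP, hPp⟩
  have : P ≠ ⊥ := fun h => hx (by rw [h, Ideal.span_singleton_le_iff_mem] at hP; exact hP)
  exact (Submodule.mem_sInf.mp hb) _ ⟨bot_le, Ideal.isMaximal_of_isPrime_of_ne_bot P this⟩

theorem exists_mul_pow_mem_range {b : B} (hb : b ∈ (⊥ : Ideal B).jacobson) (x : K) :
    ∃ n : ℕ, x * algebraMap B K b ^ n ∈ (algebraMap B K).range := by
  obtain ⟨p, q, hq, rfl⟩ := IsFractionRing.div_surjective B x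
  obtain ⟨n, hn⟩ := exists_pow_mem_span hb (nonZeroDivisors.ne_zero hq)
  obtain ⟨c, hc⟩ := Ideal.mem_span_singleton'.mp hn
  refine ⟨n, p * c, ?_⟩
  have hq0 : algebraMap B K q ≠ 0 := IsFractionRing.to_map_ne_zero_of_mem_nonZeroDivisors hq
  rw [← map_pow, ← hc, map_mul, map_mul]
  field_simp

/-- The conductor statement: a power of an element of the Jacobson radical of the integral closure moves
any element into `B`. -/
theorem exists_pow_mul_mem_range_of_integral (x y : integralClosure B K)
    (hx : x ∈ (⊥ : Ideal (integralClosure B K)).jacobson) :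
    ∃ n : ℕ, (x ^ n * y).1 ∈ (algebraMap B K).range := by
  classical
  set C : Subalgebra B K := Algebra.adjoin B ({x.1, y.1} : Set K)
  have hCle : C ≤ integralClosure B K := Algebra.adjoin_le (by
    rintro _ (rfl | rfl)
    · exact x.2
    · exact y.2)
  have hCfg : (Subalgebra.toSubmodule C).FG := fg_adjoin_of_finite (Set.toFinite _) (by
    rintro _ (rfl | rfl)
    · exact x.2
    · exact y.2)
  obtain ⟨s, hs⟩ := hCfg
  obtain ⟨c, hc⟩ := IsLocalization.exist_integer_multiples_of_finset (nonZeroDivisors B) s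
  have hcC : ∀ z ∈ C, (c : B) • z ∈ (algebraMap B K).range := by
    intro z hz
    have hz' : z ∈ Submodule.span B (s : Set K) := hs ▸ hz
    induction hz' using Submodule.span_induction with
    | mem w hw => exact hc w hw
    | zero => exact ⟨0, by simp⟩
    | add w w' hw hw' h1 h2 =>
      obtain ⟨p, hp⟩ := h1 (hs ▸ hw : w ∈ Subalgebra.toSubmodule C)
      obtain ⟨q, hq⟩ := h2 (hs ▸ hw' : w' ∈ Subalgebra.toSubmodule C)
      exact ⟨p + q, by rw [map_add, hp, hq, smul_add]⟩
    | smul r w hw h1 =>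
      obtain ⟨p, hp⟩ := h1 (hs ▸ hw : w ∈ Subalgebra.toSubmodule C)
      exact ⟨r * p, by rw [smul_comm, Algebra.smul_def, map_mul, hp]⟩
  let := (Subalgebra.inclusion hCle).toRingHom.toAlgebra
  have : Algebra.IsIntegral C (integralClosure B K) := by
    have : IsScalarTower B C (integralClosure B K) := IsScalarTower.of_algebraMap_eq fun r => rfl
    have : Algebra.IsIntegral B (integralClosure B K) := inferInstance
    exact ⟨fun z => (Algebra.IsIntegral.isIntegral (R := B) z).tower_top⟩
  let xC : C := ⟨x.1, Algebra.subset_adjoin (Set.mem_insert _ _)⟩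
  have hinj : Function.Injective (algebraMap C (integralClosure B K)) := fun a b h =>
    Subtype.ext (show (a : K) = b from congrArg (fun z : integralClosure B K => (z : K)) h)
  have hxC : xC ∈ (⊥ : Ideal C).jacobson := by
    rw [Ideal.jacobson, Submodule.mem_sInf]
    rintro m ⟨-, hm⟩
    obtain ⟨M, hMmax, hMm⟩ := Ideal.exists_ideal_over_maximal_of_isIntegral (S := integralClosure B K) m
      (by rw [(RingHom.injective_iff_ker_eq_bot _).mp hinj]; exact bot_le)
    rw [← hMm, Ideal.mem_comap]
    exact (Submodule.mem_sInf.mp hx) _ ⟨bot_le, hMmax⟩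
  have hcC' : algebraMap B C c ≠ 0 := algebraMap_ne_zero_of_ne_zero C (nonZeroDivisors.ne_zero c.2)
  have := dimensionLEOne_subalgebra C
  have hrad : xC ∈ (Ideal.span {algebraMap B C c}).radical := by
    rw [Ideal.radical_eq_sInf, Submodule.mem_sInf]
    rintro P ⟨hP, hPp⟩
    have : P ≠ ⊥ := fun h => hcC' (by rw [h, Ideal.span_singleton_le_iff_mem] at hP; exact hP)
    exact (Submodule.mem_sInf.mp hxC) _ ⟨bot_le, hPp.isMaximal this⟩
  obtain ⟨n, hn⟩ := hrad
  obtain ⟨d, hd⟩ := Ideal.mem_span_singleton'.mp hn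
  refine ⟨n, ?_⟩
  have e : (x ^ n * y).1 = (c : B) • ((d : K) * y.1) := by
    have h := congrArg Subtype.val hd
    simp only [MulMemClass.coe_mul, SubmonoidClass.coe_pow, Subalgebra.coe_algebraMap] at h
    simp only [MulMemClass.coe_mul, SubmonoidClass.coe_pow, Algebra.smul_def]
    rw [← show (d : K) * algebraMap B K c = (x : K) ^ n from h]
    ring
  rw [e]
  exact hcC _ (C.mul_mem d.2 (Algebra.subset_adjoin (Set.mem_insert_of_mem _ rfl)))

theorem mem_jacobson_of_integralClosure (b : B)
    (hb : algebraMap B (integralClosure B K) b ∈ (⊥ : Ideal (integralClosure B K)).jacobson) :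
    b ∈ (⊥ : Ideal B).jacobson := by
  rw [Ideal.jacobson, Submodule.mem_sInf]
  rintro m ⟨-, hm⟩
  have hinj : Function.Injective (algebraMap B (integralClosure B K)) := fun a b h =>
    IsFractionRing.injective B K (congrArg Subtype.val h)
  obtain ⟨M, hMmax, hMm⟩ := Ideal.exists_ideal_over_maximal_of_isIntegral (S := integralClosure B K) m
    (by rw [(RingHom.injective_iff_ker_eq_bot _).mp hinj]; exact bot_le)
  rw [← hMm, Ideal.mem_comap]
  exact (Submodule.mem_sInf.mp hb) _ ⟨bot_le, hMmax⟩

theorem isDedekindDomain_integralClosure : IsDedekindDomain (integralClosure B K) := by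
  have := isNoetherianRing_subalgebra (integralClosure B K)
  have := dimensionLEOne_subalgebra (integralClosure B K)
  have : IsIntegrallyClosed (integralClosure B K) := by
    rw [isIntegrallyClosed_iff K]
    · intro z hz
      exact ⟨⟨z, isIntegral_trans (A := integralClosure B K) z hz⟩, rfl⟩
  exact { }

end Groth.Agent.H22Alg
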