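import Mathlib
import Groth.Prelude.Def_Curv2
import Groth.Agent.H22Alg.KrullAkizuki

/-!
The normalization of a one-dimensional integral locally Noetherian scheme.
-/

universe u

open CategoryTheory AlgebraicGeometry

namespace Groth.Agent.H22Alg.NormalizationDimOne

theorem isDedekindDomain_of_ringEquiv {A B : Type*} [CommRing A] [CommRing B] [IsDomain B]
    [IsDedekindDomain A] (e : A ≃+* B) : IsDedekindDomain B := by
  haveI := isNoetherianRing_of_ringEquiv A e
  haveI : Ring.DimensionLEOne B := ⟨fun {P} hP hPp => by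
    haveI := hPp
    have h1 : P.comap e ≠ ⊥ := fun h => hP (by
      rw [← Ideal.map_comap_of_surjective e e.surjective P, h, Ideal.map_bot])
    have := Ring.DimensionLEOne.maximalOfPrime h1 inferInstance
    rw [← Ideal.map_comap_of_surjective e e.surjective P]
    exact Ideal.map_isMaximal_of_equiv e⟩
  haveI : IsIntegrallyClosed B := IsIntegrallyClosed.of_equiv e
  exact { }

variable (X : Scheme.{u}) [IsIntegral X]

/-- The sections of the normalization over an affine open are the integral closure in the function field. -/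
theorem exists_obj_iso [QuasiCompact (X.fromSpecStalk (genericPoint X))]
    [QuasiSeparated (X.fromSpecStalk (genericPoint X))] {U : X.Opens} (hU : IsAffineOpen U) [Nonempty U] :
    ∃ φ : integralClosure Γ(X, U) X.functionField ≃+* Γ(Curv2.normalization X, (Curv2.normalizationι X) ⁻¹ᵁ U),
      ∀ b, φ (algebraMap _ _ b) = (Curv2.normalizationι X).app U b := by
  have hgen : genericPoint X ∈ U := ((genericPoint_spec X).mem_open_set_iff U.isOpen).mpr (by simpa using ‹Nonempty U›)
  have htop : (X.fromSpecStalk (genericPoint X)) ⁻¹ᵁ U = ⊤ := by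
    rw [eq_top_iff]
    intro z _
    have hz : (X.fromSpecStalk (genericPoint X)) z ∈ Set.range (X.fromSpecStalk (genericPoint X)) := ⟨z, rfl⟩
    rw [Scheme.range_fromSpecStalk] at hz
    show (X.fromSpecStalk (genericPoint X)) z ∈ U
    exact (hz : (X.fromSpecStalk (genericPoint X)) z ⤳ genericPoint X).mem_open U.isOpen hgen
  letI := ((X.fromSpecStalk (genericPoint X)).app U).hom.toAlgebra
  let ψ : X.functionField ⟶ Γ(Spec (X.presheaf.stalk (genericPoint X)), (X.fromSpecStalk (genericPoint X)) ⁻¹ᵁ U) :=
    (Scheme.ΓSpecIso (X.presheaf.stalk (genericPoint X))).inv ≫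
      (Spec (X.presheaf.stalk (genericPoint X))).presheaf.map (homOfLE le_top).op
  haveI : IsIso ψ := by
    have : IsIso (homOfLE (le_top : (X.fromSpecStalk (genericPoint X)) ⁻¹ᵁ U ≤ ⊤)) := ⟨homOfLE htop.ge, rfl, rfl⟩
    infer_instance
  let e : X.functionField ≃ₐ[Γ(X, U)] Γ(Spec (X.presheaf.stalk (genericPoint X)), (X.fromSpecStalk (genericPoint X)) ⁻¹ᵁ U) :=
    AlgEquiv.ofRingEquiv (f := (asIso ψ).commRingCatIsoToRingEquiv) (fun b => by
      show ψ.hom (X.presheaf.germ U (genericPoint X) hgen b) = (X.fromSpecStalk (genericPoint X)).app U b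
      rw [Scheme.fromSpecStalk_app hgen]
      rfl)
  refine ⟨e.mapIntegralClosure.toRingEquiv.trans ((X.fromSpecStalk (genericPoint X)).normalizationObjIso hU).symm.commRingCatIsoToRingEquiv, fun b => ?_⟩
  show ((X.fromSpecStalk (genericPoint X)).normalizationObjIso hU).inv.hom (e.mapIntegralClosure (algebraMap _ _ b)) = (X.fromSpecStalk (genericPoint X)).fromNormalization.app U b
  rw [(X.fromSpecStalk (genericPoint X)).fromNormalization_app hU, AlgEquiv.commutes]
  rfl

theorem krullDimLE_one {U : X.Opens} (hU : IsAffineOpen U) (hdim : topologicalKrullDim X = 1) :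
    Ring.KrullDimLE 1 Γ(X, U) := by
  refine Ring.krullDimLE_iff.mpr ?_
  rw [← PrimeSpectrum.topologicalKrullDim_eq_ringKrullDim]
  exact le_of_le_of_eq (hU.fromSpec.isOpenEmbedding.isInducing.topologicalKrullDim_le) (by rw [hdim]; rfl)

theorem isIntegralHom_normalizationι [QuasiCompact (X.fromSpecStalk (genericPoint X))]
    [QuasiSeparated (X.fromSpecStalk (genericPoint X))] : IsIntegralHom (Curv2.normalizationι X) :=
  inferInstanceAs (IsIntegralHom (X.fromSpecStalk (genericPoint X)).fromNormalization)

variable [IsLocallyNoetherian X]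

theorem isNoetherianRing_sections {U : X.Opens} (hU : IsAffineOpen U) : IsNoetherianRing Γ(X, U) :=
  IsLocallyNoetherian.component_noetherian ⟨U, hU⟩

variable [QuasiCompact (X.fromSpecStalk (genericPoint X))] [QuasiSeparated (X.fromSpecStalk (genericPoint X))]

theorem isDedekindDomain_preimage (hdim : topologicalKrullDim X = 1) {U : X.Opens} (hU : IsAffineOpen U) [Nonempty U] :
    IsDedekindDomain Γ(Curv2.normalization X, (Curv2.normalizationι X) ⁻¹ᵁ U) := by
  haveI := functionField_isFractionRing_of_isAffineOpen X U hU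
  haveI := krullDimLE_one X hU hdim
  haveI := isNoetherianRing_sections X hU
  haveI := isDedekindDomain_integralClosure (B := Γ(X, U)) (K := X.functionField)
  obtain ⟨φ, -⟩ := exists_obj_iso X hU
  haveI := φ.toMulEquiv.symm.isDomain
  exact isDedekindDomain_of_ringEquiv φ

section algebra

variable {B : Type u} [CommRing B] [IsDomain B] [IsNoetherianRing B] [Ring.KrullDimLE 1 B]
  {K : Type u} [Field K] [Algebra B K] [IsFractionRing B K]

theorem finite_primes_over (P : Ideal B) :
    Set.Finite {Q : PrimeSpectrum (integralClosure B K) | Q.asIdeal.comap (algebraMap B _) = P} := by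
  rcases eq_or_ne P ⊥ with rfl | hP
  · refine Set.Subsingleton.finite fun Q hQ Q' hQ' => PrimeSpectrum.ext ?_
    rw [Ideal.eq_bot_of_comap_eq_bot hQ, Ideal.eq_bot_of_comap_eq_bot hQ']
  · obtain ⟨a, haP, ha⟩ := Submodule.exists_mem_ne_zero_of_ne_bot hP
    set J := Ideal.span {algebraMap B (integralClosure B K) a}
    obtain ⟨-, hart⟩ := isFiniteLength_iff_isNoetherian_isArtinian.mp (quot_finite_length (integralClosure B K) ha)
    haveI : IsArtinianRing (integralClosure B K ⧸ J) := isArtinian_of_tower B hart
    refine (Set.finite_range (PrimeSpectrum.comap (Ideal.Quotient.mk J))).subset fun Q hQ => ?_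
    rw [range_comap_of_surjective _ _ Ideal.Quotient.mk_surjective, Ideal.mk_ker,
      PrimeSpectrum.mem_zeroLocus, SetLike.coe_subset_coe, Ideal.span_singleton_le_iff_mem, ← Ideal.mem_comap,
      (hQ : Q.asIdeal.comap _ = P)]
    exact haP

theorem exists_residue_generators (Q : Ideal (integralClosure B K)) [Q.IsPrime] :
    ∃ s : Finset (integralClosure B K), ∀ c, ∃ b : B, algebraMap B _ b ∉ Q ∧
      ∃ d ∈ Submodule.span B (s : Set (integralClosure B K)), algebraMap B _ b * c - d ∈ Q := by
  classical
  by_cases hQ : Q = ⊥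
  · subst hQ
    refine ⟨{1}, fun c => ?_⟩
    obtain ⟨b', b, hb⟩ := IsLocalization.exists_mk'_eq (nonZeroDivisors B) (c : K)
    have hinj : Function.Injective (algebraMap B (integralClosure B K)) := fun u v h =>
      IsFractionRing.injective B K (congrArg (Subtype.val : integralClosure B K → K) h)
    refine ⟨b, fun h => nonZeroDivisors.ne_zero b.2 (hinj ?_), algebraMap B _ b', ?_, ?_⟩
    · rw [map_zero]; exact (Submodule.mem_bot _).mp h
    · rw [Finset.coe_singleton, Algebra.algebraMap_eq_smul_one]
      exact Submodule.smul_mem _ _ (Submodule.subset_span rfl)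
    · rw [Submodule.mem_bot, sub_eq_zero]
      apply Subtype.ext
      show algebraMap B K b * (c : K) = algebraMap B K b'
      rw [← hb, mul_comm, IsLocalization.mk'_spec]
  · obtain ⟨a, ha, haQ⟩ := exists_algebraMap_mem (integralClosure B K) hQ
    set J := Ideal.span {algebraMap B (integralClosure B K) a}
    have hfin := quot_finite_length (integralClosure B K) ha
    haveI := (isFiniteLength_iff_isNoetherian_isArtinian.mp hfin).1
    obtain ⟨t, ht⟩ := (IsNoetherian.noetherian (⊤ : Submodule B (integralClosure B K ⧸ J)))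
    choose g hg using Ideal.Quotient.mk_surjective (I := J)
    refine ⟨t.image g, fun c => ⟨1, by rw [map_one]; exact (Ideal.ne_top_iff_one Q).mp ‹Q.IsPrime›.ne_top, ?_⟩⟩
    have hc : Ideal.Quotient.mk J c ∈ (Submodule.span B (t.image g : Set (integralClosure B K))).map
        (Ideal.Quotient.mkₐ B J).toLinearMap := by
      rw [Submodule.map_span, Finset.coe_image, ← Set.image_comp]
      have : (Ideal.Quotient.mkₐ B J).toLinearMap ∘ g = id := funext hg
      rw [this, Set.image_id, ht]
      trivial
    obtain ⟨d, hd, hdc⟩ := hc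
    refine ⟨d, hd, (Ideal.span_singleton_le_iff_mem _).mpr haQ ?_⟩
    rw [map_one, one_mul]
    exact Ideal.Quotient.eq.mp hdc.symm

end algebra

theorem mem_primeIdealOf_iff {Y : Scheme.{u}} {V : Y.Opens} (hV : IsAffineOpen V) {y : Y} (hy : y ∈ V) (w : Γ(Y, V)) :
    w ∈ (hV.primeIdealOf ⟨y, hy⟩).asIdeal ↔ Y.evaluation V y hy w = 0 := by
  have h : hV.primeIdealOf ⟨y, hy⟩ ∈ hV.fromSpec ⁻¹ᵁ Y.basicOpen w ↔ y ∈ Y.basicOpen w := by
    show hV.fromSpec (hV.primeIdealOf ⟨y, hy⟩) ∈ Y.basicOpen w ↔ _
    rw [hV.fromSpec_primeIdealOf]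
  rw [hV.fromSpec_preimage_basicOpen] at h
  rw [Scheme.evaluation_eq_zero_iff_notMem_basicOpen, ← h]
  exact not_not.symm

theorem comap_primeIdealOf {U : X.Opens} (hU : IsAffineOpen U) (y : ↥(Curv2.normalization X))
    (hy : Curv2.normalizationι X y ∈ U) (hV : IsAffineOpen ((Curv2.normalizationι X) ⁻¹ᵁ U)) :
    (hV.primeIdealOf ⟨y, hy⟩).asIdeal.comap ((Curv2.normalizationι X).app U).hom =
      (hU.primeIdealOf ⟨_, hy⟩).asIdeal := by
  ext b
  refine (mem_primeIdealOf_iff hV hy _).trans ((Iff.trans ?_ (mem_primeIdealOf_iff hU hy b).symm))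
  exact (Eq.congr_left (Scheme.evaluation_naturality_apply _ y hy b).symm).trans
    (map_eq_zero ((Curv2.normalizationι X).residueFieldMap y).hom)

theorem finite_fibre (hdim : topologicalKrullDim X = 1) (x : X) :
    Finite {y : ↥(Curv2.normalization X) // (Curv2.normalizationι X).base y = x} := by
  obtain ⟨U, hU, hxU, -⟩ := exists_isAffineOpen_mem_and_subset (show x ∈ (⊤ : X.Opens) from trivial)
  haveI : Nonempty U := ⟨⟨x, hxU⟩⟩
  haveI := functionField_isFractionRing_of_isAffineOpen X U hU
  haveI := krullDimLE_one X hU hdim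
  haveI := isNoetherianRing_sections X hU
  haveI : IsIntegralHom (Curv2.normalizationι X) := isIntegralHom_normalizationι X
  have hV : IsAffineOpen ((Curv2.normalizationι X) ⁻¹ᵁ U) := hU.preimage _
  obtain ⟨φ, hφ⟩ := exists_obj_iso X hU
  haveI := (finite_primes_over (K := X.functionField) (hU.primeIdealOf ⟨x, hxU⟩).asIdeal).to_subtype
  have hmem : ∀ y : {y : ↥(Curv2.normalization X) // (Curv2.normalizationι X).base y = x},
      Curv2.normalizationι X y.1 ∈ U := fun y => by
    show (Curv2.normalizationι X).base y.1 ∈ U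
    rw [y.2]; exact hxU
  refine Finite.of_injective (β := {Q : PrimeSpectrum (integralClosure Γ(X, U) X.functionField) |
      Q.asIdeal.comap (algebraMap _ _) = (hU.primeIdealOf ⟨x, hxU⟩).asIdeal})
    (fun y => ⟨PrimeSpectrum.comap φ.toRingHom (hV.primeIdealOf ⟨y.1, hmem y⟩), ?_⟩) ?_
  · obtain ⟨y, rfl⟩ := y
    show Ideal.comap (algebraMap _ _) (Ideal.comap φ.toRingHom _) = _
    rw [Ideal.comap_comap, show φ.toRingHom.comp (algebraMap _ _) = ((Curv2.normalizationι X).app U).hom from
      RingHom.ext hφ]
    exact comap_primeIdealOf X hU y _ hV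
  · intro y y' h
    have h1 := PrimeSpectrum.comap_injective_of_surjective _ φ.surjective (congrArg Subtype.val h)
    have h2 := congrArg hV.fromSpec h1
    rw [hV.fromSpec_primeIdealOf, hV.fromSpec_primeIdealOf] at h2
    exact Subtype.ext h2

theorem finite_residueField (hdim : topologicalKrullDim X = 1) (y : ↥(Curv2.normalization X)) :
    letI := ((Curv2.normalizationι X).residueFieldMap y).hom.toAlgebra
    Module.Finite (X.residueField ((Curv2.normalizationι X).base y)) ((Curv2.normalization X).residueField y) := by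
  classical
  obtain ⟨U, hU, hxU, -⟩ := exists_isAffineOpen_mem_and_subset
    (show Curv2.normalizationι X y ∈ (⊤ : X.Opens) from trivial)
  haveI : Nonempty U := ⟨⟨_, hxU⟩⟩
  haveI := functionField_isFractionRing_of_isAffineOpen X U hU
  haveI := krullDimLE_one X hU hdim
  haveI := isNoetherianRing_sections X hU
  haveI : IsIntegralHom (Curv2.normalizationι X) := isIntegralHom_normalizationι X
  have hV : IsAffineOpen ((Curv2.normalizationι X) ⁻¹ᵁ U) := hU.preimage _
  obtain ⟨φ, hφ⟩ := exists_obj_iso X hU
  letI := ((Curv2.normalizationι X).residueFieldMap y).hom.toAlgebra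
  let ν := Curv2.normalizationι X
  let κx := X.residueField (ν y)
  let κy := (Curv2.normalization X).residueField y
  let ev := ((Curv2.normalization X).evaluation (ν ⁻¹ᵁ U) y hxU).hom
  let evC : integralClosure Γ(X, U) X.functionField →+* κy := ev.comp φ.toRingHom
  let evB := (X.evaluation U (ν y) hxU).hom
  have hev : ∀ b, evC (algebraMap _ _ b) = algebraMap κx κy (evB b) := fun b => by
    show ev (φ (algebraMap _ _ b)) = _
    rw [hφ]
    exact (Scheme.evaluation_naturality_apply ν y hxU b).symm
  haveI : (RingHom.ker evC).IsPrime := RingHom.ker_isPrime _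
  obtain ⟨s, hs⟩ := exists_residue_generators (B := Γ(X, U)) (K := X.functionField) (RingHom.ker evC)
  let S : Submodule κx κy := Submodule.span κx (s.image evC : Set κy)
  have hsub : ∀ d ∈ Submodule.span Γ(X, U) (s : Set (integralClosure Γ(X, U) X.functionField)), evC d ∈ S := by
    intro d hd
    induction hd using Submodule.span_induction with
    | mem d hd => exact Submodule.subset_span (Finset.mem_coe.mpr (Finset.mem_image_of_mem evC hd))
    | zero => rw [map_zero]; exact zero_mem _
    | add a b _ _ ha hb => rw [map_add]; exact add_mem ha hb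
    | smul b d _ hd =>
      rw [Algebra.smul_def, map_mul, hev, ← Algebra.smul_def]
      exact Submodule.smul_mem _ _ hd
  have hC : ∀ c, evC c ∈ S := fun c => by
    obtain ⟨b, hb, d, hd, hbd⟩ := hs c
    rw [RingHom.mem_ker, map_sub, map_mul, sub_eq_zero, hev] at hbd
    have hb0 : evB b ≠ 0 := fun h => hb (by rw [RingHom.mem_ker, hev, h, map_zero])
    have h := Submodule.smul_mem S (evB b)⁻¹ (hsub d hd)
    rwa [← hbd, Algebra.smul_def, ← mul_assoc, ← map_mul, inv_mul_cancel₀ hb0, map_one, one_mul] at h
  let A₀ := Algebra.adjoin κx (Set.range evC)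
  have hA₀ : Subalgebra.toSubmodule A₀ ≤ S := by
    have hset : (Submonoid.closure (Set.range evC) : Set κy) = Set.range evC :=
      congrArg (fun M : Submonoid κy => (M : Set κy)) (Submonoid.closure_eq (MonoidHom.mrange evC.toMonoidHom))
    rw [Algebra.adjoin_eq_span, hset, Submodule.span_le]
    rintro _ ⟨c, rfl⟩
    exact hC c
  haveI : Module.Finite κx (Subalgebra.toSubmodule A₀) := Submodule.finiteDimensional_of_le hA₀
  haveI : FiniteDimensional κx A₀ := this
  have hall : ∀ w, ev w ∈ A₀ := fun w => by
    obtain ⟨c, rfl⟩ := φ.surjective w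
    exact Algebra.subset_adjoin ⟨c, rfl⟩
  have htop : A₀ = ⊤ := by
    refine eq_top_iff.mpr fun z _ => ?_
    obtain ⟨z, rfl⟩ := (Curv2.normalization X).residue_surjective y z
    letI := TopCat.Presheaf.algebra_section_stalk (Curv2.normalization X).presheaf
      (⟨y, hxU⟩ : ((ν ⁻¹ᵁ U : (Curv2.normalization X).Opens)))
    haveI := hV.isLocalization_stalk ⟨y, hxU⟩
    obtain ⟨⟨w, v⟩, hwv⟩ := IsLocalization.surj (hV.primeIdealOf ⟨y, hxU⟩).asIdeal.primeCompl z
    have h := congrArg ((Curv2.normalization X).residue y).hom hwv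
    rw [map_mul] at h
    change ((Curv2.normalization X).residue y).hom z * ev v.1 = ev w at h
    have hv : ev v.1 ≠ 0 := fun h0 => v.2 ((mem_primeIdealOf_iff hV hxU v.1).mpr h0)
    rw [eq_div_iff hv |>.mpr h, div_eq_mul_inv]
    refine mul_mem (hall w) ?_
    exact A₀.inv_mem_of_algebraic (x := ⟨ev v.1, hall v.1⟩)
      (Algebra.IsAlgebraic.isAlgebraic (⟨ev v.1, hall v.1⟩ : A₀) |>.algebraMap)
  haveI : FiniteDimensional κx (⊤ : Subalgebra κx κy) := htop ▸ ‹FiniteDimensional κx A₀›
  exact Module.Finite.equiv (Subalgebra.topEquiv (R := κx) (A := κy)).toLinearEquiv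

theorem isLocallyNoetherian_normalization (hdim : topologicalKrullDim X = 1) :
    IsLocallyNoetherian (Curv2.normalization X) := by
  haveI : IsIntegralHom (Curv2.normalizationι X) := isIntegralHom_normalizationι X
  let S := fun U : X.affineOpens => (⟨(Curv2.normalizationι X) ⁻¹ᵁ U.1, U.2.preimage _⟩ : (Curv2.normalization X).affineOpens)
  refine (isLocallyNoetherian_iff_of_iSup_eq_top (S := S) (Scheme.Hom.iSup_preimage_eq_top _ (iSup_affineOpens_eq_top X))).mpr fun U => ?_
  rcases isEmpty_or_nonempty U.1 with h | h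
  · haveI : Subsingleton Γ(Curv2.normalization X, (Curv2.normalizationι X) ⁻¹ᵁ U.1) := by
      have hU : U.1 = ⊥ := le_bot_iff.mp fun x hx => (h.false ⟨x, hx⟩).elim
      rw [hU, Scheme.Hom.preimage_bot]
      infer_instance
    infer_instance
  · haveI := isDedekindDomain_preimage X hdim U.2
    infer_instance

theorem isDedekindDomain_affineOpen (hdim : topologicalKrullDim X = 1) {V : (Curv2.normalization X).Opens}
    (hV : IsAffineOpen V) (hne : (V : Set ↥(Curv2.normalization X)).Nonempty) :
    IsDedekindDomain Γ(Curv2.normalization X, V) := by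
  haveI : Nonempty V := hne.to_subtype
  haveI : AlgebraicGeometry.IsIntegral (Curv2.normalization X) := by delta Curv2.normalization; infer_instance
  haveI := isLocallyNoetherian_normalization X hdim
  haveI : IsNoetherianRing Γ(Curv2.normalization X, V) := IsLocallyNoetherian.component_noetherian ⟨V, hV⟩
  haveI : IsIntegralHom (Curv2.normalizationι X) := isIntegralHom_normalizationι X
  suffices IsDedekindDomainDvr Γ(Curv2.normalization X, V) from inferInstance
  refine { is_dvr_at_nonzero_prime := fun Q hQ hQp => ?_ }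
  let q : PrimeSpectrum Γ(Curv2.normalization X, V) := ⟨Q, hQp⟩
  obtain ⟨y, hy, hyq⟩ : ∃ y, ∃ hy : y ∈ V, hV.primeIdealOf ⟨y, hy⟩ = q := by
    refine ⟨hV.fromSpec q, hV.range_fromSpec.le ⟨q, rfl⟩, hV.fromSpec.isOpenEmbedding.injective ?_⟩
    rw [hV.fromSpec_primeIdealOf]
  obtain ⟨U, hU, hxU, -⟩ := exists_isAffineOpen_mem_and_subset
    (show Curv2.normalizationι X y ∈ (⊤ : X.Opens) from trivial)
  haveI : Nonempty U := ⟨⟨_, hxU⟩⟩
  let W := (Curv2.normalizationι X) ⁻¹ᵁ U
  have hW : IsAffineOpen W := hU.preimage _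
  haveI := isDedekindDomain_preimage X hdim hU
  let stk := (Curv2.normalization X).presheaf.stalk y
  letI algV := TopCat.Presheaf.algebra_section_stalk (Curv2.normalization X).presheaf (⟨y, hy⟩ : V)
  haveI locV : IsLocalization.AtPrime stk Q := by
    have h := hV.isLocalization_stalk ⟨y, hy⟩
    rw [hyq] at h
    exact h
  letI algW := TopCat.Presheaf.algebra_section_stalk (Curv2.normalization X).presheaf (⟨y, hxU⟩ : W)
  haveI locW : IsLocalization.AtPrime stk (hW.primeIdealOf ⟨y, hxU⟩).asIdeal := hW.isLocalization_stalk ⟨y, hxU⟩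
  have hnf : ¬ IsField stk := IsLocalization.AtPrime.not_isField Γ(Curv2.normalization X, V) hQ stk
  have hP : (hW.primeIdealOf ⟨y, hxU⟩).asIdeal ≠ ⊥ := fun h => hnf (by
    have hM : (hW.primeIdealOf ⟨y, hxU⟩).asIdeal.primeCompl = nonZeroDivisors Γ(Curv2.normalization X, W) := by
      ext a; simp [h, Ideal.primeCompl, mem_nonZeroDivisors_iff_ne_zero]
    haveI : IsFractionRing Γ(Curv2.normalization X, W) stk := by
      unfold IsFractionRing; rw [← hM]; exact locW
    exact (IsFractionRing.toField Γ(Curv2.normalization X, W)).toIsField)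
  haveI := IsLocalization.AtPrime.isDiscreteValuationRing_of_dedekind_domain Γ(Curv2.normalization X, W) hP stk
  exact IsDiscreteValuationRing.RingEquivClass.isDiscreteValuationRing
    (IsLocalization.algEquiv Q.primeCompl stk (Localization.AtPrime Q)).toRingEquiv

end Groth.Agent.H22Alg.NormalizationDimOne
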