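import Mathlib
import Groth.Prelude.Def_Brnch

/-!
Counting geometric branches: the number of embeddings of the residue fields of a finite algebra
over a local ring is bounded by the length of its cokernel plus one; transport of the normalization
of a reduced ring to `CAlg2.normRed`.
-/

universe u

namespace Groth.Agent.H22Alg

open IsLocalRing

theorem finite_maximalSpectrum_of_finite (A B : Type u) [CommRing A] [IsLocalRing A] [CommRing B]
    [Algebra A B] [Module.Finite A B] : Finite (MaximalSpectrum B) := by
  have hlie : ∀ M : MaximalSpectrum B, M.asIdeal.LiesOver (maximalIdeal A) := fun M =>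
    ⟨((isMaximal_iff A).mp (Ideal.isMaximal_comap_of_isIntegral_of_isMaximal M.asIdeal)).symm⟩
  have : Finite ((maximalIdeal A).primesOver B) :=
    Set.finite_coe_iff.mpr (Algebra.QuasiFinite.finite_primesOver _)
  refine Finite.of_injective
    (fun M => (⟨M.asIdeal, M.isMaximal.isPrime, hlie M⟩ : (maximalIdeal A).primesOver B)) ?_
  exact fun a b h => MaximalSpectrum.ext (congrArg Subtype.val h)

/-- The embeddings of the residue fields of a finite algebra over a local ring number at most the
length of the cokernel plus one. -/
theorem card_sigma_emb_le_length_add_one (A B : Type u) [CommRing A] [IsLocalRing A] [CommRing B]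
    [Algebra A B] [Module.Finite A B] :
    ENat.card (Σ M : MaximalSpectrum B, {σ : B ⧸ M.asIdeal →+* AlgebraicClosure (ResidueField A) //
        σ.comp (algebraMap A (B ⧸ M.asIdeal)) =
          (algebraMap (ResidueField A) (AlgebraicClosure (ResidueField A))).comp (residue A)}) ≤
      Module.length A (B ⧸ LinearMap.range (Algebra.linearMap A B)) + 1 := by
  classical
  have := finite_maximalSpectrum_of_finite A B
  let := Fintype.ofFinite (MaximalSpectrum B)
  let k := ResidueField A
  have hmax : ∀ M : MaximalSpectrum B, ∀ a ∈ maximalIdeal A, algebraMap A (B ⧸ M.asIdeal) a = 0 := by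
    intro M a ha
    rw [← (isMaximal_iff A).mp (Ideal.isMaximal_comap_of_isIntegral_of_isMaximal (R := A) M.asIdeal)] at ha
    exact Ideal.Quotient.eq_zero_iff_mem.mpr ha
  let C := ∀ M : MaximalSpectrum B, B ⧸ M.asIdeal
  let φ : B →ₗ[A] C := LinearMap.pi fun M => (Ideal.Quotient.mkₐ A M.asIdeal).toLinearMap
  have hφ : Function.Surjective φ := fun c => by
    obtain ⟨r, hr⟩ := Ideal.pi_quotient_surjective
      (fun i j hij => Ideal.isCoprime_iff_sup_eq.mpr
        (i.isMaximal.coprime_of_ne j.isMaximal fun h => hij (MaximalSpectrum.ext h))) c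
    exact ⟨r, funext hr⟩
  let N : Submodule A C := LinearMap.range (φ ∘ₗ Algebra.linearMap A B)
  have hN : Module.length A N ≤ 1 := by
    let ψ : (A ⧸ maximalIdeal A) →ₗ[A] C :=
      Submodule.liftQ _ (φ ∘ₗ Algebra.linearMap A B) fun a ha => funext fun M => hmax M a ha
    have hr : LinearMap.range ψ = N := Submodule.range_liftQ _ _ _
    rw [← hr]
    refine (Module.length_le_of_surjective ψ.rangeRestrict ψ.surjective_rangeRestrict).trans ?_
    have : IsSimpleModule A (A ⧸ maximalIdeal A) :=
      isSimpleModule_iff_isCoatom.mpr (Ideal.isMaximal_def.mp inferInstance)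
    exact le_of_eq (Module.length_eq_one A _)
  have hQ : Module.length A (C ⧸ N) ≤
      Module.length A (B ⧸ LinearMap.range (Algebra.linearMap A B)) := by
    refine Module.length_le_of_surjective (Submodule.mapQ _ N φ ?_) fun y => ?_
    · rintro _ ⟨a, rfl⟩; exact ⟨a, rfl⟩
    · obtain ⟨c, rfl⟩ := Submodule.Quotient.mk_surjective _ y
      obtain ⟨b, rfl⟩ := hφ c
      exact ⟨Submodule.Quotient.mk b, rfl⟩
  have hC : Module.length A C ≤ Module.length A (B ⧸ LinearMap.range (Algebra.linearMap A B)) + 1 := by
    rw [Module.length_eq_add_of_exact N.subtype N.mkQ N.injective_subtype (Submodule.mkQ_surjective N)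
      (LinearMap.exact_subtype_mkQ N), add_comm]
    exact add_le_add hQ hN
  refine le_trans ?_ hC
  have hM : ∀ M : MaximalSpectrum B,
      Finite {σ : B ⧸ M.asIdeal →+* AlgebraicClosure (ResidueField A) //
        σ.comp (algebraMap A (B ⧸ M.asIdeal)) =
          (algebraMap (ResidueField A) (AlgebraicClosure (ResidueField A))).comp (residue A)} ∧
      ENat.card {σ : B ⧸ M.asIdeal →+* AlgebraicClosure (ResidueField A) //
        σ.comp (algebraMap A (B ⧸ M.asIdeal)) =
          (algebraMap (ResidueField A) (AlgebraicClosure (ResidueField A))).comp (residue A)} ≤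
        Module.length A (B ⧸ M.asIdeal) := by
    intro M
    let F := B ⧸ M.asIdeal
    letI : Field F := Ideal.Quotient.field M.asIdeal
    letI : Algebra k F := (Ideal.Quotient.lift (maximalIdeal A) (algebraMap A F) (hmax M)).toAlgebra
    have : IsScalarTower A k F := IsScalarTower.of_algebraMap_eq fun _ => rfl
    have : Module.Finite k F := Module.Finite.of_restrictScalars_finite A k F
    let e : {σ : F →+* AlgebraicClosure k //
        σ.comp (algebraMap A F) = (algebraMap k (AlgebraicClosure k)).comp (residue A)} →
        (F →ₐ[k] AlgebraicClosure k) := fun σ =>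
      { σ.1 with
        commutes' := fun x => by
          obtain ⟨a, rfl⟩ := Ideal.Quotient.mk_surjective x
          exact RingHom.congr_fun σ.2 a }
    have he : Function.Injective e := fun σ τ h => Subtype.ext (RingHom.ext fun x => AlgHom.congr_fun h x)
    have : Finite {σ : F →+* AlgebraicClosure k //
        σ.comp (algebraMap A F) = (algebraMap k (AlgebraicClosure k)).comp (residue A)} :=
      Finite.of_injective e he
    refine ⟨this, ?_⟩
    show ENat.card {σ : F →+* AlgebraicClosure k //
        σ.comp (algebraMap A F) = (algebraMap k (AlgebraicClosure k)).comp (residue A)} ≤ _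
    rw [ENat.card_eq_coe_natCard, Module.length_eq_of_surjective (R := k) (M := F)
      (S := A) Ideal.Quotient.mk_surjective, Module.length_eq_finrank]
    exact_mod_cast (Nat.card_le_card_of_injective e he).trans (card_algHom_le_finrank k F _)
  have := fun M => (hM M).1
  rw [ENat.card_eq_coe_natCard, Nat.card_sigma, Nat.cast_sum, Module.length_pi_of_fintype]
  refine Finset.sum_le_sum fun M _ => ?_
  rw [← ENat.card_eq_coe_natCard]
  exact (hM M).2

/-- For reduced `A`, the normalization agrees with `CAlg2.normRed A`, compatibly with the maps from `A`. -/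
theorem exists_algEquiv_normRed (A : Type u) [CommRing A] [IsReduced A] :
    Nonempty (integralClosure A (FractionRing A) ≃ₐ[A] CAlg2.normRed A) := by
  let Ar := CAlg2.red A
  let Q' := FractionRing Ar
  have hbij : Function.Bijective (algebraMap A Ar) := by
    refine ⟨(injective_iff_map_eq_zero _).mpr fun x hx => ?_, Ideal.Quotient.mk_surjective⟩
    have := Ideal.Quotient.eq_zero_iff_mem.mp hx
    rwa [nilradical_eq_zero] at this
  let e := RingEquiv.ofBijective _ hbij
  have : IsFractionRing A Q' := by
    exact IsLocalization.of_ringEquiv_left e (M₁ := nonZeroDivisors Ar)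
      (MulEquivClass.map_nonZeroDivisors e.toMulEquiv)
      fun x => IsScalarTower.algebraMap_apply A Ar Q' x
  let E := FractionRing.algEquiv A Q'
  have hint : ∀ x : Q', IsIntegral A x ↔ IsIntegral Ar x := fun x =>
    ⟨IsIntegral.tower_top, fun h => by
      have : Algebra.IsIntegral A Ar := Algebra.IsIntegral.of_surjective (Algebra.ofId A Ar) hbij.2
      exact isIntegral_trans (R := A) x h⟩
  let f : integralClosure A (FractionRing A) →ₐ[A] CAlg2.normRed A :=
    { toFun := fun x => ⟨E x.1, (hint _).mp (x.2.map E.toAlgHom)⟩
      map_one' := Subtype.ext (map_one E)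
      map_zero' := Subtype.ext (map_zero E)
      map_mul' := fun x y => Subtype.ext (map_mul E _ _)
      map_add' := fun x y => Subtype.ext (map_add E _ _)
      commutes' := fun a => Subtype.ext (E.commutes a) }
  exact ⟨AlgEquiv.ofBijective f
    ⟨fun x y h => Subtype.ext (E.injective (congrArg Subtype.val h)),
      fun y => ⟨⟨E.symm y.1, ((hint _).mpr y.2).map E.symm.toAlgHom⟩, Subtype.ext (E.apply_symm_apply _)⟩⟩⟩

end Groth.Agent.H22Alg
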