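import Mathlib
import Groth.Agent.H02CA.N2
import Groth.Agent.H22Alg.FiniteLength

/-!
The normalization of a reduced Noetherian ring in its total ring of fractions: the total ring of
fractions is a finite product of fields, the normalization is finite when the minimal prime quotients
are N-2, its localizations are normal domains, and its cokernel has finite length in dimension one.
-/

universe u

namespace Groth.Agent.H22Alg

open nonZeroDivisors

variable (A : Type u) [CommRing A] [IsNoetherianRing A] [IsReduced A]

theorem isReduced_fractionRing : IsReduced (FractionRing A) := inferInstance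

theorem isArtinianRing_fractionRing : IsArtinianRing (FractionRing A) := by
  have : IsNoetherianRing (FractionRing A) := IsLocalization.isNoetherianRing A⁰ _ inferInstance
  rw [isArtinianRing_iff_krullDimLE_zero]
  refine Ring.krullDimLE_zero_iff_forall_minimalPrimes_isMaximal.mpr fun P hP => ?_
  obtain ⟨m, hm, hle⟩ := P.exists_le_maximal hP.1.1.ne_top
  have hdis : Disjoint (A⁰ : Set A) (m.comap (algebraMap A (FractionRing A)) : Set A) :=
    ((IsLocalization.isPrime_iff_isPrime_disjoint A⁰ _ m).mp hm.isPrime).2
  obtain ⟨q, hq, hqle⟩ : ∃ q ∈ minimalPrimes A, m.comap (algebraMap A (FractionRing A)) ≤ q := by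
    refine ((Ideal.subset_union_prime_finite (minimalPrimes.finite_of_isNoetherianRing A)
      (f := id) ⊥ ⊥ fun q hq _ _ => hq.1.1).1 ?_)
    intro x hx
    by_contra hc
    refine Set.disjoint_left.mp hdis ?_ hx
    rw [SetLike.mem_coe, mem_nonZeroDivisors_iff_right]
    intro y hy
    have hy' : ∀ q ∈ minimalPrimes A, y ∈ q := fun q hq =>
      (hq.1.1.mem_or_mem (hy.symm ▸ q.zero_mem)).resolve_right fun hxq =>
        hc (Set.mem_biUnion hq hxq)
    have : y ∈ nilradical A := by
      rw [nilradical_eq_sInf, Submodule.mem_sInf]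
      intro J hJ
      haveI : Ideal.IsPrime J := hJ
      obtain ⟨q, hq, hqJ⟩ := Ideal.exists_minimalPrimes_le (I := (⊥ : Ideal A)) (J := J) bot_le
      exact hqJ (hy' q hq)
    simpa [nilradical_eq_zero] using this
  have hPp : (P.comap (algebraMap A (FractionRing A))).IsPrime := hP.1.1.comap _
  have hqP : q ≤ P.comap (algebraMap A (FractionRing A)) :=
    hq.2 ⟨hPp, bot_le⟩ ((Ideal.comap_mono hle).trans hqle)
  have : m ≤ P := by
    rw [← IsLocalization.map_under A⁰ (FractionRing A) m, ← IsLocalization.map_under A⁰ (FractionRing A) P]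
    exact Ideal.map_mono (hqle.trans hqP)
  rwa [le_antisymm hle this]

variable {A}

/-- The factors of the total ring of fractions are fraction fields of minimal prime quotients. -/
theorem exists_isFractionRing_factor (m : Ideal (FractionRing A)) [m.IsMaximal] :
    ∃ p ∈ minimalPrimes A, p = m.comap (algebraMap A (FractionRing A)) ∧
      ∀ x : FractionRing A ⧸ m, ∃ a b : A, b ∉ p ∧
        x * algebraMap A _ b = algebraMap A _ a := by
  have := isArtinianRing_fractionRing A
  refine ⟨m.comap (algebraMap A (FractionRing A)), ?_, rfl, fun x => ?_⟩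
  · have hm := m.mem_minimalPrimes_of_krullDimLE_zero
    have hm' : m ∈ ((⊥ : Ideal A).map (algebraMap A (FractionRing A))).minimalPrimes := by
      rw [Ideal.map_bot]; exact hm
    rw [IsLocalization.minimalPrimes_map A⁰ (FractionRing A)] at hm'
    exact hm'
  · obtain ⟨z, rfl⟩ := Ideal.Quotient.mk_surjective x
    obtain ⟨⟨a, s⟩, hz⟩ := IsLocalization.surj A⁰ z
    exact ⟨a, s, fun hs => Ideal.IsPrime.ne_top inferInstance
      (m.eq_top_of_isUnit_mem hs (IsLocalization.map_units _ s)),
      congrArg (Ideal.Quotient.mk m) hz⟩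

theorem finite_integralClosure_factor
    (h : ∀ p ∈ minimalPrimes A, ∀ _ : p.IsPrime, CAlg.IsN2 (A ⧸ p))
    (m : Ideal (FractionRing A)) [m.IsMaximal] :
    Module.Finite A (integralClosure A (FractionRing A ⧸ m)) := by
  let K := FractionRing A ⧸ m
  letI : Field K := Ideal.Quotient.field m
  obtain ⟨p, hp, hpm, hsurj⟩ := exists_isFractionRing_factor m
  have : p.IsPrime := hp.1.1
  have hker : ∀ a ∈ p, algebraMap A K a = 0 := fun a ha => by
    rw [hpm] at ha
    exact Ideal.Quotient.eq_zero_iff_mem.mpr ha
  letI : Algebra (A ⧸ p) K := (Ideal.Quotient.lift p (algebraMap A K) hker).toAlgebra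
  have : IsScalarTower A (A ⧸ p) K := IsScalarTower.of_algebraMap_eq fun _ => rfl
  have hinj : Function.Injective (algebraMap (A ⧸ p) K) := by
    refine (injective_iff_map_eq_zero _).mpr fun x hx => ?_
    obtain ⟨a, rfl⟩ := Ideal.Quotient.mk_surjective x
    refine Ideal.Quotient.eq_zero_iff_mem.mpr ?_
    rw [hpm]
    exact (Ideal.Quotient.eq_zero_iff_mem (I := m)).mp hx
  have : FaithfulSMul (A ⧸ p) K := (faithfulSMul_iff_algebraMap_injective _ _).mpr hinj
  have : IsFractionRing (A ⧸ p) K := IsFractionRing.of_field (A ⧸ p) K fun z => by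
    obtain ⟨a, b, hb, hz⟩ := hsurj z
    refine ⟨Ideal.Quotient.mk p a, Ideal.Quotient.mk p b, ?_⟩
    have hb' : algebraMap A K b ≠ 0 := fun h0 => hb (by
      rw [hpm]; exact (Ideal.Quotient.eq_zero_iff_mem (I := m)).mp h0)
    show z = algebraMap A K a / algebraMap A K b
    rw [← hz, mul_div_assoc, div_self hb', mul_one]
  have hfin : Module.Finite (A ⧸ p) (integralClosure (A ⧸ p) K) :=
    H02CA.finite_integralClosure_of_isN2 (h p hp inferInstance) K K
  have : Module.Finite A (integralClosure (A ⧸ p) K) := Module.Finite.trans (A ⧸ p) _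
  have hmem : ∀ x : integralClosure (A ⧸ p) K, (x : K) ∈ integralClosure A K := fun x =>
    isIntegral_trans (R := A) (x : K) x.2
  refine Module.Finite.of_surjective
    ((((integralClosure (A ⧸ p) K).val.restrictScalars A).codRestrict _ hmem).toLinearMap) fun y =>
      ⟨⟨y.1, y.2.tower_top⟩, rfl⟩

/-- The normalization of a reduced Noetherian ring with N-2 minimal prime quotients is finite. -/
theorem finite_integralClosure_fractionRing
    (h : ∀ p ∈ minimalPrimes A, ∀ _ : p.IsPrime, CAlg.IsN2 (A ⧸ p)) :
    Module.Finite A (integralClosure A (FractionRing A)) := by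
  have := isArtinianRing_fractionRing A
  have (m : MaximalSpectrum (FractionRing A)) :
      Module.Finite A (integralClosure A (FractionRing A ⧸ m.asIdeal)) :=
    finite_integralClosure_factor h m.asIdeal
  let φ : integralClosure A (FractionRing A) →ₗ[A]
      ∀ m : MaximalSpectrum (FractionRing A), integralClosure A (FractionRing A ⧸ m.asIdeal) :=
    LinearMap.pi fun m => (((Ideal.Quotient.mkₐ A m.asIdeal).comp
      (integralClosure A (FractionRing A)).val).codRestrict _
        fun x => x.2.map (Ideal.Quotient.mkₐ A m.asIdeal)).toLinearMap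
  refine Module.Finite.of_injective φ fun x y hxy => Subtype.ext ?_
  exact (IsArtinianRing.equivPi (FractionRing A)).injective
    (funext fun m => congrArg Subtype.val (congrFun hxy m))

/-- The local rings of the normalization of a reduced Noetherian ring are normal domains. -/
theorem isDomain_and_isIntegrallyClosed_localization (P : Ideal (integralClosure A (FractionRing A)))
    [P.IsPrime] :
    IsDomain (Localization.AtPrime P) ∧ IsIntegrallyClosed (Localization.AtPrime P) := by
  classical
  have := isArtinianRing_fractionRing A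
  let Q := FractionRing A
  let B := integralClosure A Q
  let E := IsArtinianRing.equivPi Q
  have hidem : ∀ m : MaximalSpectrum Q, IsIntegral A (E.symm (Pi.single m 1)) := fun m => by
    refine ⟨Polynomial.X ^ 2 - Polynomial.X, Polynomial.monic_X_pow_sub (Polynomial.degree_X_le.trans_lt (by norm_num)), ?_⟩
    rw [Polynomial.eval₂_sub, Polynomial.eval₂_pow, Polynomial.eval₂_X, sq, ← map_mul,
      ← Pi.single_mul]
    simp
  let e : MaximalSpectrum Q → B := fun m => ⟨_, hidem m⟩
  have := Fintype.ofFinite (MaximalSpectrum Q)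
  obtain ⟨m, hm⟩ : ∃ m, e m ∉ P := by
    by_contra! hall
    refine (Ideal.IsPrime.ne_top inferInstance : P ≠ ⊤) ((Ideal.eq_top_iff_one _).mpr ?_)
    have : ∑ m, e m = 1 := Subtype.ext (by
      rw [AddSubmonoidClass.coe_finsetSum, OneMemClass.coe_one]
      show ∑ m, E.symm (Pi.single m 1) = 1
      rw [← map_sum, Finset.univ_sum_single]
      exact map_one E.symm)
    exact this ▸ Ideal.sum_mem _ fun m _ => hall m
  let K := Q ⧸ m.asIdeal
  letI : Field K := Ideal.Quotient.field m.asIdeal
  let π : B →ₐ[A] K := (Ideal.Quotient.mkₐ A m.asIdeal).comp B.val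
  have hzero : ∀ x : B, π x = 0 → x * e m = 0 := fun x hx => Subtype.ext (E.injective (by
    funext j
    show E ((x : Q) * E.symm (Pi.single m 1)) j = E 0 j
    rw [map_mul, E.apply_symm_apply, map_zero, Pi.mul_apply]
    by_cases hj : j = m
    · subst hj
      rw [Pi.single_eq_same, mul_one]; exact hx
    · simp [Pi.single_eq_of_ne hj]))
  have hunit : ∀ s : P.primeCompl, IsUnit (π.toRingHom s) := fun s => IsUnit.mk0 _ fun h0 => by
    have := hzero s h0
    exact (‹P.IsPrime›.mem_or_mem (this ▸ P.zero_mem : (s : B) * e m ∈ P)).elim s.2 hm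
  let L := Localization.AtPrime P
  letI : Algebra L K := (IsLocalization.lift (M := P.primeCompl) hunit).toAlgebra
  have hLK : ∀ x : B, algebraMap L K (algebraMap B L x) = π x :=
    fun x => IsLocalization.lift_eq hunit x
  have hinj : Function.Injective (algebraMap L K) := by
    refine (injective_iff_map_eq_zero _).mpr fun z hz => ?_
    obtain ⟨⟨x, s⟩, hxs⟩ := IsLocalization.surj P.primeCompl z
    simp only at hxs
    have hx : π x = 0 := by rw [← hLK, ← hxs, map_mul, hz, zero_mul]
    have h1 : algebraMap B L x * algebraMap B L (e m) = 0 := by rw [← map_mul, hzero x hx, map_zero]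
    have hu : IsUnit (algebraMap B L (e m)) := IsLocalization.map_units L (⟨e m, hm⟩ : P.primeCompl)
    rw [hu.mul_left_eq_zero, ← hxs] at h1
    exact (IsLocalization.map_units L s).mul_left_eq_zero.mp h1
  have : IsDomain L := hinj.isDomain _
  refine ⟨this, ?_⟩
  have hA : ∀ a : A, algebraMap L K (algebraMap A L a) = algebraMap A K a := fun a => by
    rw [IsScalarTower.algebraMap_apply A B L, hLK]; exact π.commutes a
  have : FaithfulSMul L K := (faithfulSMul_iff_algebraMap_injective _ _).mpr hinj
  have : IsFractionRing L K := IsFractionRing.of_field L K fun z => by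
    obtain ⟨p, hp, hpm, hsurj⟩ := exists_isFractionRing_factor m.asIdeal
    obtain ⟨a, b, hb, hz⟩ := hsurj z
    refine ⟨algebraMap A L a, algebraMap A L b, ?_⟩
    have hb' : algebraMap A K b ≠ 0 := fun h0 => hb (by
      rw [hpm]; exact (Ideal.Quotient.eq_zero_iff_mem (I := m.asIdeal)).mp h0)
    rw [hA, hA, ← hz, mul_div_assoc, div_self hb', mul_one]
  have : IsScalarTower A L K := IsScalarTower.of_algebraMap_eq fun a => (hA a).symm
  letI : Algebra B K := π.toRingHom.toAlgebra
  letI : SMul B K := Algebra.toSMul
  have hBLK : IsScalarTower B L K := IsScalarTower.of_algebraMap_eq fun x => (hLK x).symm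
  have : IsScalarTower A B K := IsScalarTower.of_algebraMap_eq fun a => (π.commutes a).symm
  refine (isIntegrallyClosed_iff K).mpr fun {z} hz => ?_
  obtain ⟨s, hs⟩ := @IsIntegral.exists_multiple_integral_of_isLocalization B _ P.primeCompl K _ _ L _ _ _ _ hBLK z hz
  have hsA : IsIntegral A (π s * z) := by
    have : Algebra.IsIntegral A B := ⟨fun x => (isIntegral_algHom_iff B.val
      (fun a b h => Subtype.ext h)).mp x.2⟩
    exact isIntegral_trans (R := A) (π s * z) hs
  obtain ⟨f, hf, hf0⟩ := hsA
  let w : Q := E.symm (Pi.single m (π s * z))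
  have hw : IsIntegral A w := by
    refine ⟨Polynomial.X * f, Polynomial.monic_X.mul hf, E.injective (funext fun j => ?_)⟩
    rw [map_zero, Pi.zero_apply]
    have hj : ∀ g : Polynomial A, E (g.eval₂ (algebraMap A Q) w) j
        = g.eval₂ (algebraMap A (Q ⧸ j.asIdeal)) (Pi.single (M := fun i : MaximalSpectrum Q => Q ⧸ i.asIdeal) m (π s * z) j) := fun g => by
      show Ideal.Quotient.mk j.asIdeal (g.eval₂ (algebraMap A Q) w) = _
      rw [Polynomial.hom_eval₂]
      congr 1
      exact congrFun (E.apply_symm_apply _) j
    rw [hj, Polynomial.eval₂_mul, Polynomial.eval₂_X]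
    by_cases h : j = m
    · subst h
      rw [Pi.single_eq_same, hf0, mul_zero]
    · rw [Pi.single_eq_of_ne h, zero_mul]
  refine ⟨IsLocalization.mk' L (⟨w, hw⟩ : B) s, ?_⟩
  refine mul_left_cancel₀ (hunit s).ne_zero ?_
  show π (s : B) * algebraMap L K _ = π s * z
  rw [← hLK, ← map_mul, IsLocalization.mk'_spec', hLK, hLK]
  exact (congrFun (E.apply_symm_apply _) m).trans (Pi.single_eq_same m _)

/-- In dimension at most one the cokernel of the normalization has finite length. -/
theorem length_normalization_quotient_ne_top [Ring.KrullDimLE 1 A]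
    [Module.Finite A (integralClosure A (FractionRing A))] :
    Module.length A (integralClosure A (FractionRing A) ⧸
      LinearMap.range (Algebra.linearMap A (integralClosure A (FractionRing A)))) ≠ ⊤ := by
  classical
  let B := integralClosure A (FractionRing A)
  obtain ⟨T, hT⟩ := (Module.Finite.fg_top (R := A) (M := B))
  obtain ⟨c, hc⟩ := IsLocalization.exist_integer_multiples_of_finset A⁰ (T.image (Subtype.val : B → _))
  have hcB : ∀ x : B, (c : A) • x ∈ LinearMap.range (Algebra.linearMap A B) := by
    intro x
    have hx : x ∈ Submodule.span A (T : Set B) := hT ▸ trivial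
    induction hx using Submodule.span_induction with
    | mem x hx =>
      obtain ⟨a, ha⟩ := hc x.1 (Finset.mem_image_of_mem _ hx)
      exact ⟨a, Subtype.ext ha⟩
    | zero => simp
    | add a b _ _ ha hb => rw [smul_add]; exact add_mem ha hb
    | smul r a _ ha => rw [smul_comm]; exact Submodule.smul_mem _ _ ha
  refine length_ne_top_of_support_maximal fun p hp => ?_
  rcases (Ring.krullDimLE_one_iff (R := A)).mp inferInstance p.asIdeal inferInstance with h | h
  · exfalso
    obtain ⟨y, hy⟩ := Module.mem_support_iff'.mp hp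
    obtain ⟨x, rfl⟩ := Submodule.Quotient.mk_surjective _ y
    refine hy c (fun hcp => Set.disjoint_left.mp
      (Ideal.disjoint_nonZeroDivisors_of_mem_minimalPrimes h) hcp c.2) ?_
    rw [← Submodule.Quotient.mk_smul]
    exact (Submodule.Quotient.mk_eq_zero _).mpr (hcB x)
  · exact h

end Groth.Agent.H22Alg
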