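import Groth.Agent.H22Alg.ExtPowAlg
import Groth.Agent.H29Fitt.Sheaf
import Groth.Prelude.Def_ExtPow2
import Groth.Prelude.Def_CohB1

/-! # Existence of exterior powers of quasi-coherent modules. -/

set_option autoImplicit false
set_option linter.style.haveILetI false

universe u

open CategoryTheory AlgebraicGeometry Opposite TopologicalSpace exteriorPower

noncomputable section

namespace Groth.Agent.H22Alg.ExtPowSheaf

open ExtPowAlg

variable {X : Scheme.{u}} (i : ℕ) (E : X.Modules)

/-- The sections of the presheaf exterior power. -/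
abbrev Sec (U : X.Opens) : Type u := ↥(⋀[Γ(X, U)]^i Γ(E, U))

/-- The restriction as a semilinear map. -/
def resₛ {U V : X.Opens} (h : V ≤ U) : Γ(E, U) →ₛₗ[(X.presheaf.map (homOfLE h).op).hom] Γ(E, V) where
  toFun := E.presheaf.map (homOfLE h).op
  map_add' := map_add _
  map_smul' r m := Scheme.Modules.map_smul E _ r m

/-- The restriction of the presheaf exterior power. -/
def res {U V : X.Opens} (h : V ≤ U) : Sec i E U →ₛₗ[(X.presheaf.map (homOfLE h).op).hom] Sec i E V :=
  wmap i _ (resₛ E h)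

theorem res_ιMulti {U V : X.Opens} (h : V ≤ U) (e : Fin i → Γ(E, U)) :
    res i E h (ιMulti _ i e) = ιMulti _ i fun j => E.presheaf.map (homOfLE h).op (e j) :=
  wmap_ιMulti i _ (resₛ E h) e

theorem res_self {U : X.Opens} (x : Sec i E U) : res i E (le_refl U) x = x :=
  wmap_id i _ (CommRingCat.hom_ext_iff.1 (X.presheaf.map_id _)) _
    (fun m => ConcreteCategory.congr_hom (E.presheaf.map_id _) m) x

theorem res_res {U V W : X.Opens} (h : V ≤ U) (h' : W ≤ V) (x : Sec i E U) :
    res i E h' (res i E h x) = res i E (h'.trans h) x :=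
  wmap_comp i _ _ _ (CommRingCat.hom_ext_iff.1 (X.presheaf.map_comp (homOfLE h).op (homOfLE h').op).symm) _ _ _
    (fun m => (ConcreteCategory.congr_hom (E.presheaf.map_comp (homOfLE h).op (homOfLE h').op) m).symm) x

/-- The underlying presheaf of abelian groups. -/
def preAb : X.Opensᵒᵖ ⥤ Ab.{u} where
  obj U := AddCommGrpCat.of (Sec i E U.unop)
  map f := AddCommGrpCat.ofHom (res i E f.unop.le).toAddMonoidHom
  map_id U := AddCommGrpCat.hom_ext (AddMonoidHom.ext fun x => res_self i E x)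
  map_comp f g := AddCommGrpCat.hom_ext (AddMonoidHom.ext fun x => (res_res i E f.unop.le g.unop.le x).symm)

instance (U : X.Opensᵒᵖ) : Module (X.ringCatSheaf.obj.obj U) ((preAb i E).obj U) :=
  inferInstanceAs (Module Γ(X, U.unop) (Sec i E U.unop))

/-- The presheaf exterior power. -/
def pre : X.PresheafOfModules :=
  PresheafOfModules.ofPresheaf (R := X.ringCatSheaf.obj) (preAb i E) fun _ _ f r m =>
    (res i E f.unop.le).map_smulₛₗ r m

/-- The exterior power. -/
def sheaf : X.Modules := (CohB1.sheafifyMod X).obj (pre i E)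

/-- The unit on sections. -/
def η (U : X.Opens) : Sec i E U →ₗ[Γ(X, U)] Γ(sheaf i E, U) where
  toFun x := ((PresheafOfModules.sheafificationAdjunction (R := X.ringCatSheaf) (𝟙 X.ringCatSheaf.obj)).unit.app
    (pre i E)).app (op U) x
  map_add' x y := map_add (((PresheafOfModules.sheafificationAdjunction (R := X.ringCatSheaf)
    (𝟙 X.ringCatSheaf.obj)).unit.app (pre i E)).app (op U)).hom x y
  map_smul' r x := LinearMap.map_smul (((PresheafOfModules.sheafificationAdjunction (R := X.ringCatSheaf)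
    (𝟙 X.ringCatSheaf.obj)).unit.app (pre i E)).app (op U)).hom r x

theorem η_res {U V : X.Opens} (h : V ≤ U) (x : Sec i E U) :
    (sheaf i E).presheaf.map (homOfLE h).op (η i E U x) = η i E V (res i E h x) :=
  ((PresheafOfModules.naturality_apply ((PresheafOfModules.sheafificationAdjunction (R := X.ringCatSheaf)
    (𝟙 X.ringCatSheaf.obj)).unit.app (pre i E)) (homOfLE h).op x)).symm

theorem toPresheaf_unit :
    (PresheafOfModules.toPresheaf X.ringCatSheaf.obj).map
      ((PresheafOfModules.sheafificationAdjunction (R := X.ringCatSheaf) (𝟙 X.ringCatSheaf.obj)).unit.app (pre i E)) =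
      CategoryTheory.toSheafify (Opens.grothendieckTopology X) (pre i E).presheaf := rfl

theorem exists_eq_on_cover {U : X.Opens} {x y : Sec i E U} (h : η i E U x = η i E U y) (p : X) (hp : p ∈ U) :
    ∃ (V : X.Opens) (hV : V ≤ U), p ∈ V ∧ res i E hV x = res i E hV y := by
  obtain ⟨V, f, hf, hpV⟩ := CategoryTheory.Presheaf.equalizerSieve_mem (Opens.grothendieckTopology X)
    (CategoryTheory.toSheafify (Opens.grothendieckTopology X) (pre i E).presheaf) (X := op U) x y h p hp
  exact ⟨V, f.le, hpV, hf⟩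

theorem exists_lift_on_cover {U : X.Opens} (t : Γ(sheaf i E, U)) (p : X) (hp : p ∈ U) :
    ∃ (V : X.Opens) (hV : V ≤ U), p ∈ V ∧ ∃ x : Sec i E V, η i E V x = (sheaf i E).presheaf.map (homOfLE hV).op t := by
  obtain ⟨V, f, ⟨x, hx⟩, hpV⟩ := CategoryTheory.Presheaf.imageSieve_mem (Opens.grothendieckTopology X)
    (CategoryTheory.toSheafify (Opens.grothendieckTopology X) (pre i E).presheaf) (U := op U) t p hp
  exact ⟨V, f.le, hpV, x, hx⟩

variable {i E}

theorem isLocalizedModule_res (hE : Coh.IsQCoh E) {U : X.Opens} (hU : IsAffineOpen U) (f : Γ(X, U)) :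
    letI := Module.compHom (Sec i E (X.basicOpen f)) (algebraMap Γ(X, U) Γ(X, X.basicOpen f))
    IsLocalizedModule (Submonoid.powers f)
      ({ toFun := res i E (X.basicOpen_le f)
         map_add' := map_add _
         map_smul' := (res i E (X.basicOpen_le f)).map_smulₛₗ } : Sec i E U →ₗ[Γ(X, U)] Sec i E (X.basicOpen f)) := by
  letI := Module.compHom (Sec i E (X.basicOpen f)) (algebraMap Γ(X, U) Γ(X, X.basicOpen f))
  haveI : IsScalarTower Γ(X, U) Γ(X, X.basicOpen f) (Sec i E (X.basicOpen f)) :=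
    ⟨fun a c m => by
      change (algebraMap Γ(X, U) Γ(X, X.basicOpen f) a * c) • m = _
      rw [mul_smul]; rfl⟩
  letI := Module.compHom Γ(E, X.basicOpen f) (algebraMap Γ(X, U) Γ(X, X.basicOpen f))
  haveI := hU.isLocalization_basicOpen f
  haveI : IsScalarTower Γ(X, U) Γ(X, X.basicOpen f) Γ(E, X.basicOpen f) :=
    ⟨fun a c m => by
      change (algebraMap Γ(X, U) Γ(X, X.basicOpen f) a * c) • m = _
      rw [mul_smul]; rfl⟩
  haveI := H29Fitt.isLocalizedModule_resLin E hE hU f
  refine (isLocalizedModule_iff_isBaseChange (Submonoid.powers f) Γ(X, X.basicOpen f) _).2 ?_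
  refine H27DR.isBaseChange_exteriorPower (IsLocalizedModule.isBaseChange (Submonoid.powers f) Γ(X, X.basicOpen f)
    (H29Fitt.resLin E f)) _ fun m => ?_
  exact res_ιMulti i E (X.basicOpen_le f) m

/-- A finite standard cover inside a given cover. -/
theorem exists_finite_cover {U : X.Opens} (hU : IsAffineOpen U) (P : X.Opens → Prop)
    (hP : ∀ p ∈ U, ∃ V : X.Opens, p ∈ V ∧ P V) (hmono : ∀ V V' : X.Opens, V' ≤ V → P V → P V') :
    ∃ t : Finset Γ(X, U), Ideal.span (t : Set Γ(X, U)) = ⊤ ∧ ∀ f ∈ t, P (X.basicOpen f) := by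
  let S : Set Γ(X, U) := {f | P (X.basicOpen f)}
  have hS : Ideal.span S = ⊤ := by
    rw [← hU.iSup_basicOpen_eq_self_iff]
    refine le_antisymm (iSup_le fun f => X.basicOpen_le f.1) fun p hp => ?_
    obtain ⟨V, hpV, hV⟩ := hP p hp
    obtain ⟨f, hfV, hpf⟩ := hU.exists_basicOpen_le ⟨p, hpV⟩ hp
    exact Opens.mem_iSup.2 ⟨⟨f, hmono _ _ hfV hV⟩, hpf⟩
  obtain ⟨t, htS, ht⟩ := Submodule.mem_span_finite_of_mem_span ((Ideal.eq_top_iff_one _).1 hS)
  exact ⟨t, (Ideal.eq_top_iff_one _).2 ht, fun f hf => htS hf⟩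

theorem injective_η (hE : Coh.IsQCoh E) {U : X.Opens} (hU : IsAffineOpen U) : Function.Injective (η i E U) := by
  intro x y hxy
  obtain ⟨t, ht, hPt⟩ := exists_finite_cover hU (fun V => ∃ h : V ≤ U, res i E h x = res i E h y)
    (fun p hp => by
      obtain ⟨V, hV, hpV, h⟩ := exists_eq_on_cover i E hxy p hp
      exact ⟨V, hpV, hV, h⟩)
    (fun V V' hle ⟨hV, h⟩ => ⟨hle.trans hV, by rw [← res_res i E hV hle, h, res_res i E hV hle]⟩)
  letI := fun r : (t : Set Γ(X, U)) =>
    Module.compHom (Sec i E (X.basicOpen r.1)) (algebraMap Γ(X, U) Γ(X, X.basicOpen r.1))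
  haveI := fun r : (t : Set Γ(X, U)) => isLocalizedModule_res (i := i) hE hU r.1
  exact Module.eq_of_isLocalized_span (t : Set Γ(X, U)) ht _
    (fun r : (t : Set Γ(X, U)) =>
      ({ toFun := res i E (X.basicOpen_le r.1)
         map_add' := map_add _
         map_smul' := (res i E (X.basicOpen_le r.1)).map_smulₛₗ } :
        Sec i E U →ₗ[Γ(X, U)] Sec i E (X.basicOpen r.1))) x y
    fun r => (hPt r.1 r.2).2

theorem surjective_η (hE : Coh.IsQCoh E) {U : X.Opens} (hU : IsAffineOpen U) : Function.Surjective (η i E U) := by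
  intro t₀
  obtain ⟨t, ht, hPt⟩ := exists_finite_cover hU (fun V => ∃ (h : V ≤ U) (x : Sec i E V),
      η i E V x = (sheaf i E).presheaf.map (homOfLE h).op t₀)
    (fun p hp => by
      obtain ⟨V, hV, hpV, x, hx⟩ := exists_lift_on_cover i E t₀ p hp
      exact ⟨V, hpV, hV, x, hx⟩)
    (fun V V' hle ⟨hV, x, hx⟩ => ⟨hle.trans hV, res i E hle x, by
      rw [← η_res, hx, ← ConcreteCategory.comp_apply, ← Functor.map_comp]; rfl⟩)
  choose hle s hs using fun r : t => hPt r.1 r.2
  letI := fun r : t =>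
    Module.compHom (Sec i E (X.basicOpen r.1)) (algebraMap Γ(X, U) Γ(X, X.basicOpen r.1))
  haveI := fun r : t => isLocalizedModule_res (i := i) hE hU r.1
  let ℓ : ∀ r : t, Sec i E U →ₗ[Γ(X, U)] Sec i E (X.basicOpen r.1) := fun r =>
    { toFun := res i E (X.basicOpen_le r.1)
      map_add' := map_add _
      map_smul' := (res i E (X.basicOpen_le r.1)).map_smulₛₗ }
  have hspan : Ideal.span (Set.range fun r : t => r.1) = ⊤ := by
    rw [show (Set.range fun r : t => r.1) = (t : Set Γ(X, U)) from Subtype.range_coe]; exact ht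
  obtain ⟨m, hm⟩ := ExtPowAlg.exists_glue (fun r : t => r.1) hspan ℓ s fun a b x y k ha hb => by
    let g := a.1 * b.1
    have hga : X.basicOpen g ≤ X.basicOpen a.1 := by rw [Scheme.basicOpen_mul]; exact inf_le_left
    have hgb : X.basicOpen g ≤ X.basicOpen b.1 := by rw [Scheme.basicOpen_mul]; exact inf_le_right
    letI := Module.compHom (Sec i E (X.basicOpen g)) (algebraMap Γ(X, U) Γ(X, X.basicOpen g))
    haveI := isLocalizedModule_res (i := i) hE hU g
    let ℓg : Sec i E U →ₗ[Γ(X, U)] Sec i E (X.basicOpen g) :=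
      { toFun := res i E (X.basicOpen_le g)
        map_add' := map_add _
        map_smul' := (res i E (X.basicOpen_le g)).map_smulₛₗ }
    have hst : res i E hga (s a) = res i E hgb (s b) := injective_η hE (hU.basicOpen g) (by
      rw [← η_res, ← η_res, hs, hs, ← ConcreteCategory.comp_apply, ← ConcreteCategory.comp_apply,
        ← Functor.map_comp, ← Functor.map_comp]
      rfl)
    have hres : ∀ (c : {r // r ∈ t}) (hgc : X.basicOpen g ≤ X.basicOpen c.1) (z : Sec i E U) (q : Γ(X, U)),
        q • s c = ℓ c z → ℓg z = q • res i E hgc (s c) := fun c hgc z q hq => by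
      show res i E (X.basicOpen_le g) z = _
      rw [← res_res i E (X.basicOpen_le c.1) hgc z, show res i E (X.basicOpen_le c.1) z = q • s c from hq.symm]
      refine ((res i E hgc).map_smulₛₗ _ _).trans (congrArg (· • res i E hgc (s c)) ?_)
      exact (ConcreteCategory.congr_hom
        (X.presheaf.map_comp (homOfLE (X.basicOpen_le c.1)).op (homOfLE hgc).op) q).symm
    have e : ℓg (b.1 ^ k • x) = ℓg (a.1 ^ k • y) := by
      rw [map_smul, map_smul, hres a hga x _ ha, hres b hgb y _ hb, hst, smul_comm]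
    obtain ⟨⟨_, r, rfl⟩, hr⟩ := (IsLocalizedModule.eq_iff_exists (Submonoid.powers g) ℓg).1 e
    exact ⟨r, hr⟩
  refine ⟨m, TopCat.Sheaf.eq_of_locally_eq' (⟨(sheaf i E).presheaf, (sheaf i E).isSheaf⟩ :
    TopCat.Sheaf AddCommGrpCat.{u} X.carrier) (fun r : t => X.basicOpen r.1) U (fun r => homOfLE (hle r)) ?_ _ _ ?_⟩
  · intro p hp
    rw [← hU.iSup_basicOpen_eq_self_iff.2 ht] at hp
    obtain ⟨r, hr⟩ := Opens.mem_iSup.1 hp
    exact Opens.mem_iSup.2 ⟨⟨r.1, r.2⟩, hr⟩
  · intro r
    exact (η_res i E (hle r) m).trans ((congrArg (η i E (X.basicOpen r.1)) (hm r)).trans (hs r))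

/-- The identification over an affine open. -/
def loc (hE : Coh.IsQCoh E) (U : X.affineOpens) : Γ(sheaf i E, U.1) ≃ₗ[Γ(X, U.1)] Sec i E U.1 :=
  (LinearEquiv.ofBijective (η i E U.1) ⟨injective_η hE U.2, surjective_η hE U.2⟩).symm

theorem loc_symm_apply (hE : Coh.IsQCoh E) (U : X.affineOpens) (x : Sec i E U.1) :
    (loc hE U).symm x = η i E U.1 x := rfl

theorem isExtPow_sheaf (hE : Coh.IsQCoh E) : ExtPow.IsExtPow i E (sheaf i E) :=
  ⟨fun U => loc hE U, fun U V h e => by
    show (sheaf i E).presheaf.map (homOfLE h).op (η i E U.1 (ιMulti _ i e)) = η i E V.1 _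
    rw [η_res, res_ιMulti]
    rfl⟩

/-- Exterior powers of quasi-coherent modules exist. -/
theorem exists_isExtPow (i : ℕ) {E : X.Modules} (hE : Coh.IsQCoh E) : ∃ L, ExtPow.IsExtPow i E L :=
  ⟨sheaf i E, isExtPow_sheaf hE⟩

end Groth.Agent.H22Alg.ExtPowSheaf
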