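import Mathlib
import Groth.Prelude.Def_Brnch
import Groth.Prelude.Def_Curv2
import Groth.Agent.H22Alg.NormalizationDimOne
import Groth.Agent.H9Hens.BranchCount
import Groth.Agent.H9Hens.BranchSum
import Groth.Agent.H22Alg.BranchBound

/-!
# Branches of an integral scheme and the fibres of its normalization
-/

set_option autoImplicit false
set_option linter.style.haveILetI false

noncomputable section

universe u

open CategoryTheory AlgebraicGeometry TopologicalSpace IsLocalRing

namespace Groth.Agent.H22Alg.BranchNorm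

theorem enat_card_le {α : Type*} {b : ℕ∞} (h : ∀ t : Finset α, (t.card : ℕ∞) ≤ b) : ENat.card α ≤ b := by
  rcases finite_or_infinite α with hf | hi
  · haveI := Fintype.ofFinite α
    rw [ENat.card_eq_coe_fintype_card]
    exact h Finset.univ
  · rw [ENat.card_eq_top_of_infinite]
    refine (eq_top_iff.1 ?_)
    refine ENat.eq_top_iff_forall_ge.2 fun n => ?_
    obtain ⟨t, ht⟩ := Infinite.exists_subset_card_eq α n
    exact ht ▸ h t

/-- The sum of a family of cardinalities is the cardinality of the disjoint union. -/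
theorem tsum_card {ι : Type*} (β : ι → Type*) : ∑' i, ENat.card (β i) = ENat.card (Σ i, β i) := by
  classical
  rw [(hasSum_of_isLUB _ (isLUB_iSup (f := fun s : Finset ι => ∑ i ∈ s, ENat.card (β i)))).tsum_eq]
  refine le_antisymm (iSup_le fun s => ?_) (enat_card_le fun t => ?_)
  · rw [← Finset.sum_coe_sort, ← H9Hens.enatCard_sigma]
    refine ENat.card_le_card_of_injective (f := fun z : Σ i : s, β i => (⟨z.1.1, z.2⟩ : Σ i, β i)) ?_
    rintro ⟨⟨i, hi⟩, a⟩ ⟨⟨j, hj⟩, b⟩ h
    obtain ⟨rfl, h⟩ := Sigma.mk.inj_iff.1 h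
    obtain rfl := eq_of_heq h
    rfl
  · refine le_iSup_of_le (t.image Sigma.fst) ?_
    rw [← Finset.sum_coe_sort, ← H9Hens.enatCard_sigma]
    refine le_trans (le_of_eq ?_) (ENat.card_le_card_of_injective
      (f := fun z : t => (⟨⟨z.1.1, Finset.mem_image_of_mem _ z.2⟩, z.1.2⟩ : Σ i : ↥(t.image Sigma.fst), β i)) ?_)
    · rw [ENat.card_eq_coe_fintype_card, Fintype.card_coe]
    · rintro ⟨⟨i, a⟩, hi⟩ ⟨⟨j, b⟩, hj⟩ h
      obtain ⟨h1, h⟩ := Sigma.mk.inj_iff.1 h
      obtain rfl : i = j := congrArg Subtype.val h1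
      obtain rfl := eq_of_heq h
      rfl

section Algebra

variable {B : Type*} [CommRing B] {A : Type*} [CommRing A] [IsLocalRing A] [Algebra B A]
  {L : Type*} [Field L] [Algebra B L] [Algebra A L] [IsScalarTower B A L]

/-- The inclusion of integral closures. -/
def incl : integralClosure B L →+* integralClosure A L where
  toFun x := ⟨x.1, IsIntegral.tower_top x.2⟩
  map_one' := rfl
  map_mul' _ _ := rfl
  map_zero' := rfl
  map_add' _ _ := rfl

variable (p : Ideal B) [p.IsPrime] [IsLocalization.AtPrime A p]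

theorem isLocalization_integralClosure :
    letI := (incl (B := B) (A := A) (L := L)).toAlgebra
    IsLocalization (Algebra.algebraMapSubmonoid (integralClosure B L) p.primeCompl) (integralClosure A L) := by
  letI := (incl (B := B) (A := A) (L := L)).toAlgebra
  have hcomm : ∀ b : B, incl (algebraMap B (integralClosure B L) b) =
      algebraMap A (integralClosure A L) (algebraMap B A b) := fun b =>
    Subtype.ext (IsScalarTower.algebraMap_apply B A L b)
  refine ⟨⟨?_, ?_, ?_⟩⟩
  · rintro ⟨_, s, hs, rfl⟩
    show IsUnit (incl (algebraMap B (integralClosure B L) s))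
    rw [hcomm]
    exact (IsLocalization.map_units A (⟨s, hs⟩ : p.primeCompl)).map _
  · intro z
    obtain ⟨⟨m, hm⟩, hmz⟩ := IsIntegral.exists_multiple_integral_of_isLocalization p.primeCompl (z.1 : L) z.2
    refine ⟨⟨⟨_, hmz⟩, _, m, hm, rfl⟩, Subtype.ext ?_⟩
    show (z.1 : L) * algebraMap B L m = (⟨m, hm⟩ : p.primeCompl) • z.1
    rw [Submonoid.smul_def, Algebra.smul_def, mul_comm]
  · intro x y h
    have hxy : x = y := Subtype.ext (congrArg (fun z : integralClosure A L => (z : L)) h)
    exact ⟨1, by rw [hxy]⟩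

/-- Maximal ideals of the integral closure over a local ring are the primes over the closed point. -/
theorem nonempty_maximalSpectrum_equiv :
    Nonempty (MaximalSpectrum (integralClosure A L) ≃
      {Q : PrimeSpectrum (integralClosure B L) // Q.asIdeal.comap (algebraMap B _) = p}) := by
  letI := (incl (B := B) (A := A) (L := L)).toAlgebra
  haveI := isLocalization_integralClosure (L := L) (A := A) p
  let M := Algebra.algebraMapSubmonoid (integralClosure B L) p.primeCompl
  have hcomm : ∀ b : B, algebraMap (integralClosure B L) (integralClosure A L) (algebraMap B _ b) =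
      algebraMap A (integralClosure A L) (algebraMap B A b) := fun b =>
    Subtype.ext (IsScalarTower.algebraMap_apply B A L b)
  have hover : ∀ m : MaximalSpectrum (integralClosure A L),
      (m.asIdeal.comap (algebraMap (integralClosure B L) _)).comap (algebraMap B _) = p := fun m => by
    haveI := m.isMaximal
    haveI : Algebra.IsIntegral A (integralClosure A L) := inferInstance
    have h1 : m.asIdeal.comap (algebraMap A (integralClosure A L)) = maximalIdeal A :=
      eq_maximalIdeal (Ideal.isMaximal_comap_of_isIntegral_of_isMaximal m.asIdeal)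
    rw [← IsLocalization.AtPrime.comap_maximalIdeal (S := A) p, ← h1, Ideal.under_def, Ideal.comap_comap, Ideal.comap_comap]
    exact congrArg (fun f : B →+* _ => m.asIdeal.comap f) (RingHom.ext hcomm)
  have hdisj : ∀ Q : Ideal (integralClosure B L), Q.comap (algebraMap B _) = p →
      Disjoint (M : Set (integralClosure B L)) Q := fun Q hQ => by
    rw [Set.disjoint_left]
    rintro _ ⟨s, hs, rfl⟩ hsQ
    exact hs (hQ ▸ hsQ)
  refine ⟨Equiv.ofBijective (fun m => ⟨⟨m.asIdeal.comap (algebraMap _ _), inferInstance⟩, hover m⟩) ⟨?_, ?_⟩⟩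
  · intro m m' h
    refine MaximalSpectrum.ext ?_
    rw [← IsLocalization.map_comap M (integralClosure A L) m.asIdeal,
      ← IsLocalization.map_comap M (integralClosure A L) m'.asIdeal]
    exact congrArg (Ideal.map _) (congrArg PrimeSpectrum.asIdeal (congrArg Subtype.val h))
  · rintro ⟨⟨Q, hQp⟩, hQ⟩
    have hd := hdisj Q hQ
    have hc : (Q.map (algebraMap _ (integralClosure A L))).comap (algebraMap _ _) = Q :=
      IsLocalization.comap_map_of_isPrime_disjoint M _ hQp hd
    haveI := IsLocalization.isPrime_of_isPrime_disjoint M (integralClosure A L) Q hQp hd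
    obtain ⟨m, hm, hQm⟩ := Ideal.exists_le_maximal (Q.map (algebraMap _ (integralClosure A L))) (Ideal.IsPrime.ne_top inferInstance)
    refine ⟨⟨m, hm⟩, Subtype.ext (PrimeSpectrum.ext ?_)⟩
    have hle : Q ≤ m.comap (algebraMap (integralClosure B L) (integralClosure A L)) :=
      hc.symm.le.trans (Ideal.comap_mono hQm)
    refine (le_antisymm hle ?_).symm
    -- incomparability over the common prime
    haveI : (m.comap (algebraMap (integralClosure B L) (integralClosure A L))).IsPrime := inferInstance
    by_contra hne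
    have hlt : Q < m.comap (algebraMap (integralClosure B L) (integralClosure A L)) :=
      lt_of_le_of_ne hle fun h => hne h.ge
    obtain ⟨x, hx, hxQ⟩ := SetLike.exists_of_lt hlt
    have hxint : IsIntegral B x := Algebra.IsIntegral.isIntegral x
    have := Ideal.comap_lt_comap_of_integral_mem_sdiff (R := B) hle ⟨hx, hxQ⟩ hxint
    rw [hQ, hover ⟨m, hm⟩] at this
    exact lt_irrefl p this

variable {Ω : Type*} [Field Ω]

include p in
/-- Homomorphisms from the integral closure extend uniquely to the localization. -/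
theorem nonempty_hom_equiv [Algebra A Ω] :
    Nonempty ((integralClosure A L →ₐ[A] Ω) ≃
      {g : integralClosure B L →+* Ω //
        g.comp (algebraMap B (integralClosure B L)) = (algebraMap A Ω).comp (algebraMap B A)}) := by
  letI := (incl (B := B) (A := A) (L := L)).toAlgebra
  haveI := isLocalization_integralClosure (L := L) (A := A) p
  let M := Algebra.algebraMapSubmonoid (integralClosure B L) p.primeCompl
  have hcomm : ∀ b : B, algebraMap (integralClosure B L) (integralClosure A L) (algebraMap B _ b) =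
      algebraMap A (integralClosure A L) (algebraMap B A b) := fun b =>
    Subtype.ext (IsScalarTower.algebraMap_apply B A L b)
  refine ⟨Equiv.ofBijective (fun f => ⟨f.toRingHom.comp (algebraMap _ _), RingHom.ext fun b => ?_⟩) ⟨?_, ?_⟩⟩
  · simp [hcomm]
  · intro f f' h
    exact AlgHom.coe_ringHom_injective (IsLocalization.ringHom_ext M (congrArg Subtype.val h))
  · rintro ⟨g, hg⟩
    have hu : ∀ y : M, IsUnit (g y) := by
      rintro ⟨_, s, hs, rfl⟩
      have h := RingHom.congr_fun hg s
      rw [RingHom.comp_apply] at h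
      show IsUnit (g (algebraMap B _ s))
      rw [h]
      exact (IsLocalization.map_units A (⟨s, hs⟩ : p.primeCompl)).map (algebraMap A Ω)
    let F : integralClosure A L →+* Ω := IsLocalization.lift hu
    have hF : F.comp (algebraMap A (integralClosure A L)) = algebraMap A Ω := by
      refine IsLocalization.ringHom_ext p.primeCompl (RingHom.ext fun b => ?_)
      show F (algebraMap A _ (algebraMap B A b)) = _
      rw [← hcomm]
      exact (IsLocalization.lift_eq hu _).trans (RingHom.congr_fun hg b)
    exact ⟨⟨F, fun a => RingHom.congr_fun hF a⟩, Subtype.ext (IsLocalization.lift_comp hu)⟩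

end Algebra

variable (X : Scheme.{u}) [IsIntegral X] [QuasiCompact (X.fromSpecStalk (genericPoint X))]
  [QuasiSeparated (X.fromSpecStalk (genericPoint X))] (x : X)

/-- An algebraic closure of the residue field at `x`. -/
abbrev Ω : Type u := AlgebraicClosure (ResidueField (X.presheaf.stalk x))

theorem exists_evaluation_div {Y : Scheme.{u}} {V : Y.Opens} (hV : IsAffineOpen V) {y : Y} (hy : y ∈ V)
    (z : Y.residueField y) : ∃ a b : Γ(Y, V), Y.evaluation V y hy b ≠ 0 ∧
      z * Y.evaluation V y hy b = Y.evaluation V y hy a := by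
  obtain ⟨w, rfl⟩ := Ideal.Quotient.mk_surjective z
  letI := TopCat.Presheaf.algebra_section_stalk Y.presheaf (⟨y, hy⟩ : V)
  haveI := hV.isLocalization_stalk ⟨y, hy⟩
  obtain ⟨⟨a, b⟩, hab⟩ := IsLocalization.surj (hV.primeIdealOf ⟨y, hy⟩).asIdeal.primeCompl w
  refine ⟨a, b, fun h => b.2 ((H22Alg.NormalizationDimOne.mem_primeIdealOf_iff hV hy _).2 h), ?_⟩
  exact (map_mul (residue (Y.presheaf.stalk y)) _ _).symm.trans (congrArg (residue (Y.presheaf.stalk y)) hab)

theorem comap_primeIdealOf {U : X.Opens} (hU : IsAffineOpen U) (y : ↥(Curv2.normalization X))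
    (hy : Curv2.normalizationι X y ∈ U) (hV : IsAffineOpen ((Curv2.normalizationι X) ⁻¹ᵁ U)) :
    (hV.primeIdealOf ⟨y, hy⟩).asIdeal.comap ((Curv2.normalizationι X).app U).hom =
      (hU.primeIdealOf ⟨_, hy⟩).asIdeal := by
  ext b
  refine (H22Alg.NormalizationDimOne.mem_primeIdealOf_iff hV hy _).trans
    ((Iff.trans ?_ (H22Alg.NormalizationDimOne.mem_primeIdealOf_iff hU hy b).symm))
  exact (Eq.congr_left (Scheme.evaluation_naturality_apply _ y hy b).symm).trans
    (map_eq_zero ((Curv2.normalizationι X).residueFieldMap y).hom)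

theorem nonempty_emb_equiv (y : {y : ↥(Curv2.normalization X) // (Curv2.normalizationι X).base y = x})
    {U : X.Opens} (hU : IsAffineOpen U) (hx : x ∈ U) (hy : y.1 ∈ (Curv2.normalizationι X) ⁻¹ᵁ U) :
    letI := ((Curv2.normalizationι X).residueFieldMap y.1).hom.toAlgebra
    Nonempty (Field.Emb (X.residueField ((Curv2.normalizationι X).base y.1))
      ((Curv2.normalization X).residueField y.1) ≃
        {e : (Curv2.normalization X).residueField y.1 →+* Ω X x //
          ∀ b : Γ(X, U), e ((Curv2.normalization X).evaluation _ y.1 hy ((Curv2.normalizationι X).app U b)) =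
            Brnch.toClosure (X.presheaf.stalk x) (X.presheaf.germ U x hx b)}) := by
  obtain ⟨y, rfl⟩ := y
  haveI : IsIntegralHom (Curv2.normalizationι X) := H22Alg.NormalizationDimOne.isIntegralHom_normalizationι X
  letI := ((Curv2.normalizationι X).residueFieldMap y).hom.toAlgebra
  let K := X.residueField ((Curv2.normalizationι X).base y)
  have hnat : ∀ b : Γ(X, U), algebraMap K ((Curv2.normalization X).residueField y)
      (X.evaluation U _ hx b) =
        (Curv2.normalization X).evaluation _ y hy ((Curv2.normalizationι X).app U b) :=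
    fun b => Scheme.evaluation_naturality_apply _ y hy b
  haveI halg : Algebra.IsAlgebraic K ((Curv2.normalization X).residueField y) := by
    refine ⟨fun z => ?_⟩
    have hint : ∀ w : Γ(Curv2.normalization X, (Curv2.normalizationι X) ⁻¹ᵁ U),
        IsIntegral K ((Curv2.normalization X).evaluation _ y hy w) := fun w => by
      obtain ⟨P, hP, h0⟩ := IsIntegralHom.isIntegral_app (f := Curv2.normalizationι X) U hU w
      refine ⟨P.map (X.evaluation U _ hx).hom, hP.map _, ?_⟩
      rw [Polynomial.eval₂_map, show (algebraMap K _).comp (X.evaluation U _ hx).hom =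
        ((Curv2.normalization X).evaluation _ y hy).hom.comp ((Curv2.normalizationι X).app U).hom from
          RingHom.ext hnat]
      exact (Polynomial.hom_eval₂ _ _ _ _).symm.trans (by rw [h0, map_zero])
    obtain ⟨a, b, hb, hab⟩ := exists_evaluation_div (hU.preimage (Curv2.normalizationι X)) hy z
    rw [show z = (Curv2.normalization X).evaluation _ y hy a * ((Curv2.normalization X).evaluation _ y hy b)⁻¹ from
      (eq_mul_inv_iff_mul_eq₀ hb).2 hab]
    exact ((hint a).isAlgebraic).mul (hint b).isAlgebraic.inv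
  let ΩK : Type u := AlgebraicClosure K
  refine ⟨(Field.embEquivOfIsAlgClosed K ((Curv2.normalization X).residueField y) ΩK).trans
    { toFun := fun e => ⟨e.toRingHom, fun b => ?_⟩
      invFun := fun e => ⟨e.1, fun c => ?_⟩
      left_inv := fun e => AlgHom.ext fun _ => rfl
      right_inv := fun e => Subtype.ext rfl }⟩
  · show e ((Curv2.normalization X).evaluation _ y hy ((Curv2.normalizationι X).app U b)) = _
    rw [← hnat, AlgHom.commutes]
    rfl
  · have h : e.1.comp (algebraMap K ((Curv2.normalization X).residueField y)) =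
        (algebraMap K ΩK : K →+* ΩK) := by
      refine Ideal.Quotient.ringHom_ext ?_
      letI := TopCat.Presheaf.algebra_section_stalk X.presheaf (⟨_, hx⟩ : U)
      haveI := hU.isLocalization_stalk ⟨_, hx⟩
      refine IsLocalization.ringHom_ext (hU.primeIdealOf ⟨_, hx⟩).asIdeal.primeCompl (RingHom.ext fun b => ?_)
      exact (congrArg e.1 (hnat b)).trans (e.2 b)
    exact RingHom.congr_fun h c

theorem nonempty_fibre_hom_equiv {U : X.Opens} (hU : IsAffineOpen U) (hx : x ∈ U) :
    Nonempty ((Σ y : {y : ↥(Curv2.normalization X) // (Curv2.normalizationι X).base y = x},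
      letI := ((Curv2.normalizationι X).residueFieldMap y.1).hom.toAlgebra
      Field.Emb (X.residueField ((Curv2.normalizationι X).base y.1)) ((Curv2.normalization X).residueField y.1)) ≃
      {g : Γ(Curv2.normalization X, (Curv2.normalizationι X) ⁻¹ᵁ U) →+* Ω X x //
        g.comp ((Curv2.normalizationι X).app U).hom =
          (Brnch.toClosure (X.presheaf.stalk x)).comp (X.presheaf.germ U x hx).hom}) := by
  haveI : IsIntegralHom (Curv2.normalizationι X) := H22Alg.NormalizationDimOne.isIntegralHom_normalizationι X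
  let N := Curv2.normalization X
  let V := (Curv2.normalizationι X) ⁻¹ᵁ U
  have hV : IsAffineOpen V := hU.preimage _
  have hmem : ∀ y : {y : ↥N // (Curv2.normalizationι X).base y = x}, y.1 ∈ V := fun y => by
    show (Curv2.normalizationι X).base y.1 ∈ U
    rw [y.2]; exact hx
  choose e he using fun y => (⟨Classical.choice (nonempty_emb_equiv X x y hU hx (hmem y)), trivial⟩ : ∃ _ : _, True)
  refine ⟨(Equiv.sigmaCongrRight e).trans (Equiv.ofBijective (fun z =>
    ⟨z.2.1.comp (N.evaluation V z.1.1 (hmem z.1)).hom, RingHom.ext fun b => z.2.2 b⟩) ⟨?_, ?_⟩)⟩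
  · rintro ⟨y, f⟩ ⟨y', f'⟩ h
    have hg : f.1.comp (N.evaluation V y.1 (hmem y)).hom = f'.1.comp (N.evaluation V y'.1 (hmem y')).hom :=
      congrArg Subtype.val h
    have hQ : hV.primeIdealOf ⟨y.1, hmem y⟩ = hV.primeIdealOf ⟨y'.1, hmem y'⟩ := by
      refine PrimeSpectrum.ext (Ideal.ext fun w => ?_)
      rw [H22Alg.NormalizationDimOne.mem_primeIdealOf_iff, H22Alg.NormalizationDimOne.mem_primeIdealOf_iff]
      have := RingHom.congr_fun hg w
      exact ⟨fun h0 => (map_eq_zero f'.1).1 (this.symm.trans ((congrArg f.1 h0).trans (map_zero _))),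
        fun h0 => (map_eq_zero f.1).1 (this.trans ((congrArg f'.1 h0).trans (map_zero _)))⟩
    have hy := congrArg hV.fromSpec hQ
    rw [hV.fromSpec_primeIdealOf, hV.fromSpec_primeIdealOf] at hy
    obtain rfl : y = y' := Subtype.ext hy
    congr 1
    refine Subtype.ext (RingHom.ext fun z => ?_)
    obtain ⟨a, b, hb, hab⟩ := exists_evaluation_div hV (hmem y) z
    have ha := RingHom.congr_fun hg a
    have hb' := RingHom.congr_fun hg b
    simp only [RingHom.comp_apply] at ha hb'
    refine mul_right_cancel₀ ((map_ne_zero f.1).2 hb) ?_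
    show f.1 z * f.1 (N.evaluation V y.1 _ b) = f'.1 z * f.1 (N.evaluation V y.1 _ b)
    rw [← map_mul, hab, ha, hb', ← map_mul, hab]
  · rintro ⟨g, hg⟩
    let q : PrimeSpectrum Γ(N, V) := ⟨RingHom.ker g, RingHom.ker_isPrime g⟩
    let y0 := hV.fromSpec q
    have hy0 : y0 ∈ V := hV.range_fromSpec.le ⟨q, rfl⟩
    have hq : hV.primeIdealOf ⟨y0, hy0⟩ = q :=
      hV.fromSpec.isOpenEmbedding.injective (hV.fromSpec_primeIdealOf _)
    have hy0x : (Curv2.normalizationι X).base y0 = x := by
      have h1 : (hV.primeIdealOf ⟨y0, hy0⟩).asIdeal.comap ((Curv2.normalizationι X).app U).hom =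
          (hU.primeIdealOf ⟨x, hx⟩).asIdeal := by
        rw [hq]
        ext b
        show g ((Curv2.normalizationι X).app U b) = 0 ↔ _
        rw [show g ((Curv2.normalizationι X).app U b) = Brnch.toClosure _ (X.presheaf.germ U x hx b) from
          RingHom.congr_fun hg b, H22Alg.NormalizationDimOne.mem_primeIdealOf_iff]
        show algebraMap (ResidueField _) (Ω X x) (residue _ (X.presheaf.germ U x hx b)) = 0 ↔ _
        rw [map_eq_zero]
        rfl
      rw [comap_primeIdealOf X hU y0 hy0 hV] at h1
      have h2 := congrArg hU.fromSpec (PrimeSpectrum.ext h1)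
      rwa [hU.fromSpec_primeIdealOf, hU.fromSpec_primeIdealOf] at h2
    letI := TopCat.Presheaf.algebra_section_stalk N.presheaf (⟨y0, hy0⟩ : V)
    haveI := hV.isLocalization_stalk ⟨y0, hy0⟩
    have hu : ∀ w : (hV.primeIdealOf ⟨y0, hy0⟩).asIdeal.primeCompl, IsUnit (g w) := fun w =>
      isUnit_iff_ne_zero.2 fun h0 => w.2 ((congrArg PrimeSpectrum.asIdeal hq).ge h0)
    let G : N.presheaf.stalk y0 →+* Ω X x := IsLocalization.lift hu
    have hG : ∀ w, G w = 0 ↔ w ∈ maximalIdeal (N.presheaf.stalk y0) := fun w => by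
      obtain ⟨a, s, rfl⟩ := IsLocalization.exists_mk'_eq (hV.primeIdealOf ⟨y0, hy0⟩).asIdeal.primeCompl w
      rw [IsLocalization.AtPrime.mk'_mem_maximal_iff (N.presheaf.stalk y0) (hV.primeIdealOf ⟨y0, hy0⟩).asIdeal,
        IsLocalization.lift_mk', Units.mul_left_eq_zero, hq]
      rfl
    have hG0 : ∀ w ∈ maximalIdeal (N.presheaf.stalk y0), G w = 0 := fun w hw => (hG w).2 hw
    let G' : N.presheaf.stalk y0 ⧸ maximalIdeal (N.presheaf.stalk y0) →+* Ω X x :=
      Ideal.Quotient.lift (maximalIdeal (N.presheaf.stalk y0)) G hG0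
    let G'' : N.residueField y0 →+* Ω X x := G'
    have hev : ∀ w : Γ(N, V), G'' (N.evaluation V y0 hy0 w) = g w := fun w => by
      show G' (Ideal.Quotient.mk _ (N.presheaf.germ V y0 hy0 w)) = g w
      rw [Ideal.Quotient.lift_mk]
      exact IsLocalization.lift_eq hu w
    exact ⟨⟨⟨y0, hy0x⟩, ⟨G'', fun b => (hev _).trans (RingHom.congr_fun hg b)⟩⟩,
      Subtype.ext (RingHom.ext hev)⟩

theorem minimalPrimes_finite : (minimalPrimes (X.presheaf.stalk x)).Finite := by
  haveI : IsDomain (X.presheaf.stalk x) := inferInstance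
  rw [IsDomain.minimalPrimes_eq_singleton_bot]
  exact Set.finite_singleton _

theorem exists_normRed_equiv :
    Nonempty (CAlg2.normRed (X.presheaf.stalk x) ≃ₐ[X.presheaf.stalk x]
      integralClosure (X.presheaf.stalk x) X.functionField) := by
  obtain ⟨e⟩ := H22Alg.exists_algEquiv_normRed (X.presheaf.stalk x)
  exact ⟨e.symm.trans (FractionRing.algEquiv (X.presheaf.stalk x) X.functionField).mapIntegralClosure⟩

/-- The branches are the points of the normalization over the point. -/
theorem numBranchesAt_eq :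
    Brnch.numBranchesAt X x =
      ENat.card {y : ↥(Curv2.normalization X) // (Curv2.normalizationι X).base y = x} := by
  obtain ⟨U, hU, hx, -⟩ := exists_isAffineOpen_mem_and_subset (show x ∈ (⊤ : X.Opens) from trivial)
  haveI : Nonempty U := ⟨⟨x, hx⟩⟩
  haveI := functionField_isFractionRing_of_isAffineOpen X U hU
  haveI : IsIntegralHom (Curv2.normalizationι X) := H22Alg.NormalizationDimOne.isIntegralHom_normalizationι X
  have hV : IsAffineOpen ((Curv2.normalizationι X) ⁻¹ᵁ U) := hU.preimage _
  letI := TopCat.Presheaf.algebra_section_stalk X.presheaf (⟨x, hx⟩ : U)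
  haveI := hU.isLocalization_stalk ⟨x, hx⟩
  haveI : IsScalarTower Γ(X, U) (X.presheaf.stalk x) X.functionField := functionField_isScalarTower X U ⟨x, hx⟩
  obtain ⟨φ, hφ⟩ := H22Alg.NormalizationDimOne.exists_obj_iso X hU
  obtain ⟨e⟩ := exists_normRed_equiv X x
  obtain ⟨e'⟩ := nonempty_maximalSpectrum_equiv (B := Γ(X, U)) (A := X.presheaf.stalk x) (L := X.functionField)
    (hU.primeIdealOf ⟨x, hx⟩).asIdeal
  rw [Brnch.numBranchesAt, Brnch.numBranches, if_pos (minimalPrimes_finite X x)]
  have hcomap : φ.toRingHom.comp (algebraMap _ _) = ((Curv2.normalizationι X).app U).hom := RingHom.ext hφ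
  have hmem : ∀ y : {y : ↥(Curv2.normalization X) // (Curv2.normalizationι X).base y = x},
      (Curv2.normalizationι X).base y.1 ∈ U := fun y => by rw [y.2]; exact hx
  refine ENat.card_congr (Equiv.trans ?_ (e'.trans (Equiv.ofBijective
    (fun y : {y : ↥(Curv2.normalization X) // (Curv2.normalizationι X).base y = x} =>
      (⟨PrimeSpectrum.comap φ.toRingHom (hV.primeIdealOf ⟨y.1, hmem y⟩), ?_⟩ :
        {Q : PrimeSpectrum (integralClosure Γ(X, U) X.functionField) //
          Q.asIdeal.comap (algebraMap _ _) = (hU.primeIdealOf ⟨x, hx⟩).asIdeal})) ⟨?_, ?_⟩).symm))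
  · exact
      { toFun := fun m => ⟨m.asIdeal.comap e.symm.toRingHom, by
          haveI := m.isMaximal; exact Ideal.comap_isMaximal_of_surjective _ e.symm.surjective⟩
        invFun := fun m => ⟨m.asIdeal.comap e.toRingHom, by
          haveI := m.isMaximal; exact Ideal.comap_isMaximal_of_surjective _ e.surjective⟩
        left_inv := fun m => MaximalSpectrum.ext (Ideal.ext fun z => by simp)
        right_inv := fun m => MaximalSpectrum.ext (Ideal.ext fun z => by simp) }
  · obtain ⟨y, rfl⟩ := y
    show Ideal.comap (algebraMap _ _) (Ideal.comap φ.toRingHom _) = _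
    rw [Ideal.comap_comap, hcomap]
    exact comap_primeIdealOf X hU y _ hV
  · intro y y' h
    have h1 := PrimeSpectrum.comap_injective_of_surjective _ φ.surjective (congrArg Subtype.val h)
    have h2 := congrArg hV.fromSpec h1
    rw [hV.fromSpec_primeIdealOf, hV.fromSpec_primeIdealOf] at h2
    exact Subtype.ext h2
  · rintro ⟨Q, hQ⟩
    let q : PrimeSpectrum Γ(Curv2.normalization X, (Curv2.normalizationι X) ⁻¹ᵁ U) :=
      PrimeSpectrum.comap φ.symm.toRingHom Q
    have hy0 : hV.fromSpec q ∈ (Curv2.normalizationι X) ⁻¹ᵁ U := hV.range_fromSpec.le ⟨q, rfl⟩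
    have hq : hV.primeIdealOf ⟨_, hy0⟩ = q :=
      hV.fromSpec.isOpenEmbedding.injective (hV.fromSpec_primeIdealOf _)
    have hQq : PrimeSpectrum.comap φ.toRingHom q = Q := PrimeSpectrum.ext (Ideal.ext fun z => by simp [q])
    have hyx : (Curv2.normalizationι X).base (hV.fromSpec q) = x := by
      have h1 := comap_primeIdealOf X hU (hV.fromSpec q) hy0 hV
      rw [hq, ← hcomap, ← Ideal.comap_comap] at h1
      have h2 : Q.asIdeal.comap (algebraMap _ _) = (hU.primeIdealOf ⟨_, hy0⟩).asIdeal := by
        rw [← hQq]; exact h1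
      have h3 := congrArg hU.fromSpec (PrimeSpectrum.ext (h2.symm.trans hQ))
      rwa [hU.fromSpec_primeIdealOf, hU.fromSpec_primeIdealOf] at h3
    refine ⟨⟨_, hyx⟩, Subtype.ext ?_⟩
    show PrimeSpectrum.comap φ.toRingHom (hV.primeIdealOf ⟨_, hy0⟩) = Q
    rw [hq, hQq]

/-- The geometric branches are the geometric points of the normalization over the point. -/
theorem numGeomBranchesAt_eq :
    Brnch.numGeomBranchesAt X x =
      ∑' y : {y : ↥(Curv2.normalization X) // (Curv2.normalizationι X).base y = x},
        (letI := ((Curv2.normalizationι X).residueFieldMap y.1).hom.toAlgebra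
         ENat.card (Field.Emb (X.residueField ((Curv2.normalizationι X).base y.1))
           ((Curv2.normalization X).residueField y.1))) := by
  obtain ⟨U, hU, hx, -⟩ := exists_isAffineOpen_mem_and_subset (show x ∈ (⊤ : X.Opens) from trivial)
  haveI : Nonempty U := ⟨⟨x, hx⟩⟩
  haveI := functionField_isFractionRing_of_isAffineOpen X U hU
  letI := TopCat.Presheaf.algebra_section_stalk X.presheaf (⟨x, hx⟩ : U)
  haveI := hU.isLocalization_stalk ⟨x, hx⟩
  haveI : IsScalarTower Γ(X, U) (X.presheaf.stalk x) X.functionField := functionField_isScalarTower X U ⟨x, hx⟩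
  obtain ⟨φ, hφ⟩ := H22Alg.NormalizationDimOne.exists_obj_iso X hU
  obtain ⟨e⟩ := exists_normRed_equiv X x
  letI : Algebra (X.presheaf.stalk x) (Ω X x) := (Brnch.toClosure (X.presheaf.stalk x)).toAlgebra
  obtain ⟨e₁⟩ := H9Hens.nonempty_sigma_emb_equiv (X.presheaf.stalk x)
  obtain ⟨e₂⟩ := nonempty_hom_equiv (B := Γ(X, U)) (A := X.presheaf.stalk x) (L := X.functionField) (Ω := Ω X x)
    (hU.primeIdealOf ⟨x, hx⟩).asIdeal
  obtain ⟨e₃⟩ := nonempty_fibre_hom_equiv X x hU hx
  rw [tsum_card, Brnch.numGeomBranchesAt, Brnch.numGeomBranches, if_pos (minimalPrimes_finite X x)]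
  refine ENat.card_congr ((e₁.trans ((AlgEquiv.arrowCongr e AlgEquiv.refl).trans e₂)).trans
    (Equiv.trans ?_ e₃.symm))
  exact
    { toFun := fun g => ⟨g.1.comp φ.symm.toRingHom, RingHom.ext fun b => by
        show g.1 (φ.symm ((Curv2.normalizationι X).app U b)) = _
        rw [← hφ, RingEquiv.symm_apply_apply]
        exact RingHom.congr_fun g.2 b⟩
      invFun := fun g => ⟨g.1.comp φ.toRingHom, RingHom.ext fun b => by
        show g.1 (φ (algebraMap _ _ b)) = _
        rw [hφ]
        exact RingHom.congr_fun g.2 b⟩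
      left_inv := fun g => Subtype.ext (RingHom.ext fun z => by simp)
      right_inv := fun g => Subtype.ext (RingHom.ext fun z => by simp) }

end Groth.Agent.H22Alg.BranchNorm
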