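import Mathlib

/-!
Closures of products of subsets over a field.
-/

universe u

open CategoryTheory CategoryTheory.Limits AlgebraicGeometry

namespace Groth.Agent.H22Alg

/-- In a product over a field, each projection restricted to a fibre of the other is open. -/
theorem isOpenMap_fiber_fst {X Y S : Scheme.{u}} [IsIntegral S] [Subsingleton S] (f : X ⟶ S) (g : Y ⟶ S)
    {P : Scheme.{u}} (p : P ⟶ X) (q : P ⟶ Y) (h : IsPullback p q f g) (b : Y) :
    IsOpenMap (q.fiberι b ≫ p) := by
  have hc : IsPullback (q.fiberι b ≫ p) (q.fiberToSpecResidueField b) f (Y.fromSpecResidueField b ≫ g) :=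
    (IsPullback.of_hasPullback q (Y.fromSpecResidueField b)).paste_horiz h
  haveI : UniversallyOpen (Y.fromSpecResidueField b ≫ g) := inferInstance
  haveI : UniversallyOpen (q.fiberι b ≫ p) :=
    MorphismProperty.of_isPullback hc.flip (inferInstance : UniversallyOpen (Y.fromSpecResidueField b ≫ g))
  exact Scheme.Hom.isOpenMap _

theorem preimage_closure_inter_subset {X Y S : Scheme.{u}} [IsIntegral S] [Subsingleton S] (f : X ⟶ S) (g : Y ⟶ S)
    {P : Scheme.{u}} (p : P ⟶ X) (q : P ⟶ Y) (h : IsPullback p q f g) (A : Set X) (B : Set Y) :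
    p ⁻¹' closure A ∩ q ⁻¹' B ⊆ closure (p ⁻¹' A ∩ q ⁻¹' B) := by
  rintro z ⟨hz, hzB⟩
  rw [mem_closure_iff]
  intro W hW hzW
  obtain ⟨u, hu⟩ := (q.range_fiberι (q z)).ge (rfl : q z = q z)
  let π := q.fiberι (q z) ≫ p
  have hopen : IsOpen (π '' ((q.fiberι (q z)) ⁻¹' W)) :=
    isOpenMap_fiber_fst f g p q h (q z) _ (hW.preimage (q.fiberι (q z)).continuous)
  obtain ⟨a, ⟨v, hv, rfl⟩, haA⟩ := mem_closure_iff.mp hz _ hopen
    ⟨u, (show q.fiberι (q z) u ∈ W by rwa [hu]), by simp [π, hu]⟩
  refine ⟨q.fiberι (q z) v, hv, by simpa [π] using haA, ?_⟩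
  have : q (q.fiberι (q z) v) = q z := (q.range_fiberι (q z)).le (Set.mem_range_self v)
  rwa [Set.mem_preimage, this]

theorem closure_prod {X Y S : Scheme.{u}} [IsIntegral S] [Subsingleton S] (f : X ⟶ S) (g : Y ⟶ S)
    {P : Scheme.{u}} (p : P ⟶ X) (q : P ⟶ Y) (h : IsPullback p q f g) (A : Set X) (B : Set Y) :
    closure (p ⁻¹' A ∩ q ⁻¹' B) = p ⁻¹' closure A ∩ q ⁻¹' closure B := by
  refine le_antisymm (closure_minimal (Set.inter_subset_inter (Set.preimage_mono subset_closure)
    (Set.preimage_mono subset_closure)) ((isClosed_closure.preimage p.continuous).inter (isClosed_closure.preimage q.continuous))) ?_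
  have h1 := preimage_closure_inter_subset g f q p h.flip B (closure A)
  rw [Set.inter_comm (p ⁻¹' closure A)]
  refine h1.trans (closure_minimal ?_ isClosed_closure)
  rw [Set.inter_comm]
  exact preimage_closure_inter_subset f g p q h A B

end Groth.Agent.H22Alg
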