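import Mathlib

/-!
A criterion for the surjectivity of residue field maps of affine morphisms.
-/

universe u

open AlgebraicGeometry CategoryTheory

namespace Groth.Agent.H22Alg

/-- The value of an element at a point of the spectrum. -/
noncomputable def specEv (T : CommRingCat.{u}) (x : Spec T) : T ⟶ (Spec T).residueField x :=
  (Scheme.ΓSpecIso T).inv ≫ (Spec T).presheaf.germ ⊤ x trivial ≫ (Spec T).residue x

theorem specEv_eq (T : CommRingCat.{u}) (x : Spec T) :
    specEv T x = CommRingCat.ofHom (algebraMap T _) ≫ (Scheme.Spec.residueFieldIso T x).inv :=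
  (Scheme.Spec.algebraMap_residueFieldIso_inv T x).symm

theorem specEv_eq_zero_iff (T : CommRingCat.{u}) (x : Spec T) (a : T) :
    (specEv T x).hom a = 0 ↔ a ∈ x.asIdeal := by
  haveI : x.asIdeal.IsPrime := x.isPrime
  rw [specEv_eq]
  show (Scheme.Spec.residueFieldIso T x).inv.hom (algebraMap T _ a) = 0 ↔ _
  rw [map_eq_zero_iff _ (Scheme.Spec.residueFieldIso T x).inv.hom.injective]
  exact Ideal.algebraMap_residueField_eq_zero

theorem exists_eq_specEv_div (T : CommRingCat.{u}) (x : Spec T) (z : (Spec T).residueField x) :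
    ∃ a b : T, b ∉ x.asIdeal ∧ z * (specEv T x).hom b = (specEv T x).hom a := by
  haveI : x.asIdeal.IsPrime := x.isPrime
  obtain ⟨u, v, hv, huv⟩ := IsFractionRing.div_surjective (A := T ⧸ x.asIdeal)
    ((Scheme.Spec.residueFieldIso T x).hom.hom z)
  obtain ⟨a, rfl⟩ := Ideal.Quotient.mk_surjective u
  obtain ⟨b, rfl⟩ := Ideal.Quotient.mk_surjective v
  have hb : b ∉ x.asIdeal := fun h =>
    IsFractionRing.to_map_ne_zero_of_mem_nonZeroDivisors (K := x.asIdeal.ResidueField) hv
      (by rw [Ideal.Quotient.eq_zero_iff_mem.mpr h, map_zero])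
  refine ⟨a, b, hb, ?_⟩
  have hz : z = (Scheme.Spec.residueFieldIso T x).inv.hom ((Scheme.Spec.residueFieldIso T x).hom.hom z) := by
    rw [← RingHom.comp_apply, ← CommRingCat.hom_comp, Iso.hom_inv_id]
    rfl
  rw [hz, ← huv, specEv_eq]
  show _ * (Scheme.Spec.residueFieldIso T x).inv.hom (algebraMap T _ b) =
    (Scheme.Spec.residueFieldIso T x).inv.hom (algebraMap T _ a)
  rw [← map_mul]
  congr 1
  rw [Ideal.algebraMap_quotient_residueField_mk, Ideal.algebraMap_quotient_residueField_mk, div_mul_cancel₀]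
  exact fun h => hb (Ideal.algebraMap_residueField_eq_zero.mp h)

theorem residueFieldMap_specEv {S T : CommRingCat.{u}} (φ : S ⟶ T) (x : Spec T) (c : S) :
    ((Spec.map φ).residueFieldMap x).hom ((specEv S ((Spec.map φ) x)).hom c) = (specEv T x).hom (φ.hom c) := by
  have h := Scheme.Γevaluation_naturality_apply (Spec.map φ) x ((Scheme.ΓSpecIso S).inv.hom c)
  refine Eq.trans h ?_
  have h2 := congrArg (fun g => g.hom c) (Scheme.ΓSpecIso_inv_naturality φ)
  change (Scheme.ΓSpecIso T).inv.hom (φ.hom c) = (Spec.map φ).appTop.hom ((Scheme.ΓSpecIso S).inv.hom c) at h2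
  show (Spec T).Γevaluation x ((Spec.map φ).appTop.hom ((Scheme.ΓSpecIso S).inv.hom c)) = _
  rw [← h2]
  rfl

/-- Residue field maps are surjective when every element is, at every prime, a fraction of the image. -/
theorem surjective_residueFieldMap {S T : CommRingCat.{u}} (φ : S ⟶ T) (x : Spec T)
    (h : ∀ y : T, ∃ s c : S, φ.hom s ∉ x.asIdeal ∧ φ.hom s * y - φ.hom c ∈ x.asIdeal) :
    Function.Surjective ((Spec.map φ).residueFieldMap x).hom := by
  let f := ((Spec.map φ).residueFieldMap x).hom
  have hy : ∀ y : T, (specEv T x).hom y ∈ f.fieldRange := by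
    intro y
    obtain ⟨s, c, hs, hc⟩ := h y
    rw [← specEv_eq_zero_iff, map_sub, map_mul, sub_eq_zero] at hc
    have hs' : (specEv T x).hom (φ.hom s) ≠ 0 := fun h0 => hs ((specEv_eq_zero_iff T x _).mp h0)
    have : (specEv T x).hom y = (specEv T x).hom (φ.hom c) / (specEv T x).hom (φ.hom s) := by
      rw [eq_div_iff hs', mul_comm, hc]
    rw [this]
    exact div_mem ⟨_, residueFieldMap_specEv φ x c⟩ ⟨_, residueFieldMap_specEv φ x s⟩
  intro z
  obtain ⟨a, b, hb, hab⟩ := exists_eq_specEv_div T x z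
  have hb' : (specEv T x).hom b ≠ 0 := fun h0 => hb ((specEv_eq_zero_iff T x _).mp h0)
  have : z = (specEv T x).hom a / (specEv T x).hom b := by rw [eq_div_iff hb', hab]
  rw [this]
  exact div_mem (hy a) (hy b)

end Groth.Agent.H22Alg
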