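import Groth.Agent.H22Alg.CMStep
import Groth.Agent.S1647
import Groth.Agent.H10Coh.GGFibre
import Groth.Agent.H28Vert.Cartier
import Groth.Agent.H28Vert.QuotTensor
import Groth.Agent.H28Int.Vanishing
import Groth.Agent.H17.Seshadri.Jets
import Groth.Agent.S14059
import Groth.Agent.S12905
import Groth.Agent.H13AlgSp.QfFibre

/-!
# Regularity of ideals of fat points
-/

set_option autoImplicit false
set_option linter.style.haveILetI false
set_option linter.unusedSectionVars false
set_option backward.isDefEq.respectTransparency.types false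
universe u

open CategoryTheory CategoryTheory.Limits AlgebraicGeometry Opposite TopologicalSpace
open scoped TensorProduct
attribute [local instance 10000] Groth.Agent.H10Coh.hasSheafifyAb Groth.Agent.H10Coh.hasWeakSheafifyAb Groth.Agent.H10Coh.hasExtAb Groth.Agent.H10Coh.enoughInjAb

noncomputable section

namespace Groth.Agent.H22Alg.FatPoints

variable {X : Scheme.{u}}

/-- A finite set of closed points has dimension at most zero. -/
theorem dim_le_zero_of_closed_points {S : Set X} (h : ∀ s ∈ S, IsClosed ({s} : Set X)) (hS : IsClosed S) :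
    topologicalKrullDim S ≤ (0 : ℕ) := by
  haveI : QuasiSober S := hS.isClosedEmbedding_subtypeVal.quasiSober
  refine H13AlgSp.topologicalKrullDim_le_zero_of_no_spec fun a b hab => Subtype.ext ?_
  have h1 := (hab.map continuous_subtype_val).mem_closed (h _ a.2) rfl
  exact h1.symm

/-- The inclusion of a smaller ideal into a larger one. -/
def incl {A B : X.IdealSheafData} (h : A ≤ B) : ClSub.idealMod A ⟶ ClSub.idealMod B :=
  kernel.lift (ClSub.toSubscheme B) (ClSub.idealModι A) (H28Vert.le_of_ideal h)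

theorem incl_ι {A B : X.IdealSheafData} (h : A ≤ B) : incl h ≫ ClSub.idealModι B = ClSub.idealModι A :=
  kernel.lift_ι _ _ _

instance {A B : X.IdealSheafData} (h : A ≤ B) : Mono (incl h) := by
  haveI : Mono (ClSub.idealModι A) := inferInstanceAs (Mono (kernel.ι _))
  exact mono_of_mono_fac (incl_ι h)

theorem idealSect_incl {A B : X.IdealSheafData} (h : A ≤ B) (U : X.Opens) (a : Γ(ClSub.idealMod A, U)) :
    OmegaSh.idealSect B U ((incl h).app U a) = OmegaSh.idealSect A U a := by
  rw [OmegaSh.idealSect_apply, OmegaSh.idealSect_apply]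
  exact congrArg (OmegaSh.fnSect X U) congr($(congrArg (fun f => Scheme.Modules.Hom.app f U) (incl_ι h)) a)

theorem mem_range_incl {A B : X.IdealSheafData} (h : A ≤ B) {U : X.Opens} (hU : IsAffineOpen U)
    (z : Γ(ClSub.idealMod B, U)) (hz : OmegaSh.idealSect B U z ∈ A.ideal ⟨U, hU⟩) :
    z ∈ Set.range ((incl h).app U) := by
  obtain ⟨a, ha⟩ := (H29Blow.mem_ideal_iff_exists_idealSect A hU _).1 hz
  exact ⟨a, H29Blow.idealSect_injective B U ((idealSect_incl h U a).trans ha)⟩

theorem π_app_eq_zero {A B : X.IdealSheafData} (h : A ≤ B) {U : X.Opens} (hU : IsAffineOpen U)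
    (z : Γ(ClSub.idealMod B, U)) (hz : OmegaSh.idealSect B U z ∈ A.ideal ⟨U, hU⟩) :
    (cokernel.π (incl h)).app U z = 0 := by
  obtain ⟨a, rfl⟩ := mem_range_incl h hU z hz
  exact congr($(congrArg (fun f => Scheme.Modules.Hom.app f U) (cokernel.condition (incl h))) a)

/-- Germs of a cokernel come from small affine neighbourhoods. -/
theorem exists_lift {M N : X.Modules} (π : M ⟶ N) [Epi π] (x : X) (v : N.presheaf.stalk x) {W : X.Opens}
    (hxW : x ∈ W) : ∃ (U : X.Opens) (_ : IsAffineOpen U) (_ : U ≤ W) (hx : x ∈ U) (z : Γ(M, U)),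
      N.presheaf.germ U x hx (π.app U z) = v := by
  obtain ⟨V, hxV, t, rfl⟩ := N.presheaf.exists_germ_eq v
  obtain ⟨V', hV', hxV', z, hz⟩ := H10Coh.exists_nhds_lift_of_epi π V t x hxV
  obtain ⟨U, hU, hxU, hUle⟩ := exists_isAffineOpen_mem_and_subset (U := V' ⊓ W) (x := x) ⟨hxV', hxW⟩
  refine ⟨U, hU, fun a ha => (hUle ha).2, hxU, M.presheaf.map (homOfLE (fun a ha => (hUle ha).1 : U ≤ V')).op z, ?_⟩
  rw [H11Tilde.app_map_apply, hz, TopCat.Presheaf.germ_res_apply, TopCat.Presheaf.germ_res_apply]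

theorem mem_pointIdeal_germ {x : X} (hx : IsClosed ({x} : Set X)) {U : X.Opens} (hU : IsAffineOpen U) (hxU : x ∈ U) :
    IsLocalRing.maximalIdeal (X.presheaf.stalk x) =
      Ideal.map (X.presheaf.germ U x hxU).hom ((W4c2seshadripos.pointIdeal x hx).ideal ⟨U, hU⟩) := by
  rw [H17.Seshadri.pointIdeal_ideal x hx ⟨U, hU⟩ hxU]
  letI := TopCat.Presheaf.algebra_section_stalk X.presheaf (⟨x, hxU⟩ : U)
  haveI := hU.isLocalization_stalk ⟨x, hxU⟩
  exact (IsLocalization.AtPrime.map_eq_maximalIdeal (hU.primeIdealOf ⟨x, hxU⟩).asIdeal (X.presheaf.stalk x)).symm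

theorem mul_le_left' (B m : X.IdealSheafData) : B * m ≤ B := fun U => by
  rw [Scheme.IdealSheafData.ideal_mul, Pi.mul_apply]
  exact Ideal.mul_le_left (I := B.ideal U) (J := m.ideal U) |>.trans le_rfl

variable (p : X) (hp : IsClosed ({p} : Set X)) (B : X.IdealSheafData)

/-- The step module. -/
abbrev Qt : X.Modules := cokernel (incl (mul_le_left' B (W4c2seshadripos.pointIdeal p hp)))

theorem Qt_stalk_eq_zero {y : X} (hy : y ≠ p) (v : (Qt p hp B).presheaf.stalk y) : v = 0 := by
  let m := W4c2seshadripos.pointIdeal p hp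
  obtain ⟨U, hU, hUW, hyU, z, rfl⟩ := exists_lift (cokernel.π (incl (mul_le_left' B m))) y v
    (W := ⟨{p}ᶜ, hp.isOpen_compl⟩) (by simpa using hy)
  rw [π_app_eq_zero (mul_le_left' B m) hU z, map_zero]
  have htop : m.ideal ⟨U, hU⟩ = ⊤ := H17.Seshadri.ideal_eq_top m ⟨U, hU⟩ fun w hw hs =>
    hUW hw ((H17.Seshadri.mem_support_pointIdeal p hp w).1 hs)
  rw [Scheme.IdealSheafData.ideal_mul, Pi.mul_apply, htop, Ideal.mul_top]
  exact (H29Blow.mem_ideal_iff_exists_idealSect B hU _).2 ⟨z, rfl⟩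

theorem Qt_smul_eq_zero (a : X.presheaf.stalk p) (ha : a ∈ IsLocalRing.maximalIdeal (X.presheaf.stalk p))
    (v : (Qt p hp B).presheaf.stalk p) : a • v = 0 := by
  let m := W4c2seshadripos.pointIdeal p hp
  obtain ⟨U, hU, -, hpU, z, rfl⟩ := exists_lift (cokernel.π (incl (mul_le_left' B m))) p v
    (W := ⊤) trivial
  rw [mem_pointIdeal_germ hp hU hpU] at ha
  let w := (Qt p hp B).presheaf.germ U p hpU ((cokernel.π (incl (mul_le_left' B m))).app U z)
  let T : Ideal (X.presheaf.stalk p) := LinearMap.ker (LinearMap.toSpanSingleton (X.presheaf.stalk p) _ w)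
  suffices h : Ideal.map (X.presheaf.germ U p hpU).hom (m.ideal ⟨U, hU⟩) ≤ T from h ha
  rw [Ideal.map_le_iff_le_comap]
  intro r hr
  show (X.presheaf.germ U p hpU).hom r • w = 0
  rw [← H06Mod.germ_smul, ← (cokernel.π (incl (mul_le_left' B m))).app_smul r z,
    π_app_eq_zero (mul_le_left' B m) hU (r • z), map_zero]
  rw [H29Blow.idealSect_smul, mul_comm r, Scheme.IdealSheafData.ideal_mul, Pi.mul_apply]
  exact Ideal.mul_mem_mul ((H29Blow.mem_ideal_iff_exists_idealSect B hU _).2 ⟨z, rfl⟩) hr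

theorem support_Qt : CohB1.support (Qt p hp B) ⊆ {p} := fun y hy => by
  by_contra h
  refine (H25Euler.notMem_support_iff _ y).2 ?_ hy
  haveI : Subsingleton ((Qt p hp B).presheaf.stalk y) :=
    ⟨fun a b => by rw [Qt_stalk_eq_zero p hp B h a, Qt_stalk_eq_zero p hp B h b]⟩
  exact @ModuleCat.isZero_of_subsingleton _ _ _ (show Subsingleton ↥((DerSch.stalkFunctor X y).obj (Qt p hp B)) from this)

theorem Qt_tensor_smul_eq_zero (L : X.Modules) (a : X.presheaf.stalk p)
    (ha : a ∈ IsLocalRing.maximalIdeal (X.presheaf.stalk p))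
    (v : (CohB1.tensorMod (Qt p hp B) L).presheaf.stalk p) : a • v = 0 := by
  let e := ((H16Derived.KFlat.Stalk.rightIso L p).app (Qt p hp B)).toLinearEquiv
  refine e.injective ((e.map_smul a v).trans (Eq.trans ?_ (map_zero e).symm))
  generalize e v = w
  refine TensorProduct.induction_on w (smul_zero a) (fun q l => ?_) fun s t hs ht => ?_
  · rw [TensorProduct.smul_tmul']
    exact (congrArg (fun c : ↥((DerSch.stalkFunctor X p).obj (Qt p hp B)) => c ⊗ₜ[X.presheaf.stalk p] l)
      (Qt_smul_eq_zero p hp B a ha q)).trans (TensorProduct.zero_tmul _ _)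
  · rw [smul_add, hs, ht, add_zero]

section Scalar

variable (k : Type u) [Field k] [IsAlgClosed k] (f : X ⟶ Spec (CommRingCat.of k)) [LocallyOfFiniteType f]

include hp f in
/-- A quotient killed by the maximal ideal at a rational point is hit by global sections. -/
theorem surjective_app_top {M G : X.Modules} (π : M ⟶ G) [Epi π] (hM : Curv2.IsGloballyGenerated M)
    (hsupp : CohB1.support G ⊆ {p})
    (hkill : ∀ a ∈ IsLocalRing.maximalIdeal (X.presheaf.stalk p), ∀ v : G.presheaf.stalk p, a • v = 0) :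
    Function.Surjective (π.app ⊤) := by
  intro t
  let g := fun s : Γ(G, ⊤) => G.presheaf.germ ⊤ p trivial s
  let S : Submodule (X.presheaf.stalk p) (G.presheaf.stalk p) :=
    { carrier := Set.range fun s : Γ(M, ⊤) => g (π.app ⊤ s)
      add_mem' := by rintro _ _ ⟨a, rfl⟩ ⟨b, rfl⟩; exact ⟨a + b, by simp [g, map_add]⟩
      zero_mem' := ⟨0, by simp [g]⟩
      smul_mem' := by
        rintro c _ ⟨s, rfl⟩
        obtain ⟨r, hr⟩ := (S14059.resMap_bijective f p hp).2 (X.residue p c)
        let r' : Γ(X, ⊤) := Coh.toGlobal f r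
        refine ⟨r' • s, ?_⟩
        have hc : c - X.presheaf.germ ⊤ p trivial (Coh.toGlobal f r) ∈
            IsLocalRing.maximalIdeal (X.presheaf.stalk p) := by
          rw [← IsLocalRing.residue_eq_zero_iff, map_sub, sub_eq_zero]
          exact hr.symm
        have h0 := hkill _ hc (g (π.app ⊤ s))
        rw [sub_smul, sub_eq_zero] at h0
        show g (π.app ⊤ _) = _
        rw [π.app_smul]
        exact (H06Mod.germ_smul G ⊤ trivial r' _).trans h0.symm }
  have hS : S = ⊤ := by
    refine Submodule.eq_top_iff'.2 fun v => ?_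
    obtain ⟨U, -, -, hpU, z, rfl⟩ := exists_lift π p v (W := ⊤) trivial
    let ψ := Algz.stalkMapₗ π p
    have hz : M.presheaf.germ U p hpU z ∈ Submodule.span (X.presheaf.stalk p)
        (Set.range fun s : Γ(M, ⊤) => M.presheaf.germ ⊤ p trivial s) := by
      rw [H10Coh.GGFibre.span_globals M hM p]; trivial
    have hψ : ∀ (V : X.Opens) (hV : p ∈ V) (a : Γ(M, V)),
        ψ (M.presheaf.germ V p hV a) = G.presheaf.germ V p hV (π.app V a) :=
      fun V hV a => TopCat.Presheaf.stalkFunctor_map_germ_apply V p hV π.mapPresheaf a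
    rw [← hψ]
    have hle : Submodule.span (X.presheaf.stalk p)
        (Set.range fun s : Γ(M, ⊤) => M.presheaf.germ ⊤ p trivial s) ≤ S.comap ψ := by
      rw [Submodule.span_le]
      rintro _ ⟨s, rfl⟩
      exact ⟨s, (hψ ⊤ trivial s).symm⟩
    exact hle hz
  obtain ⟨s, hs⟩ : g t ∈ S := hS ▸ Submodule.mem_top
  refine ⟨s, TopCat.Presheaf.section_ext ⟨G.presheaf, G.isSheaf⟩ ⊤ _ _ fun y hy => ?_⟩
  by_cases hyp : y = p
  · subst hyp; exact hs
  · haveI : Subsingleton (G.presheaf.stalk y) :=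
      ModuleCat.subsingleton_of_isZero ((H25Euler.notMem_support_iff G y).1 fun h => hyp (hsupp h))
    exact Subsingleton.elim _ _

end Scalar

section Proj

variable {k : Type u} [Field k] [IsAlgClosed k] {n : ℕ}

local notation "P" => CohB1.ProjSpace n k
local notation "O" => fun a : ℤ => Twist.twistProjSpace n k a

theorem isCoh_ideal (A : (P).IdealSheafData) : Coh.IsCoh (ClSub.idealMod A) := by
  haveI : IsProper (CohB1.ProjSpace.toSpec n k) := inferInstance
  haveI : IsProper (P ↘ Spec (CommRingCat.of k)) := inferInstanceAs (IsProper (CohB1.ProjSpace.toSpec n k))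
  haveI := H28Int.isNoetherian k (X := P)
  exact H10Coh.isCoh_kernel _ (H10Coh.isCoh_structureModule' P) (LeadDev.isCoh_push_structure A.subschemeι).1

theorem reg_top : CMField.Reg O (ClSub.idealMod (⊤ : (P).IdealSheafData)) (0 : ℤ) := by
  haveI : IsIso (ClSub.idealModι (⊤ : (P).IdealSheafData)) := by
    haveI : Mono (ClSub.idealModι (⊤ : (P).IdealSheafData)) := inferInstanceAs (Mono (kernel.ι _))
    haveI : Epi (ClSub.idealModι (⊤ : (P).IdealSheafData)) := by
      refine H11Tilde.epi_of_locally_surjective _ fun W t x hx => ?_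
      obtain ⟨U, hU, hxU, hUW⟩ := exists_isAffineOpen_mem_and_subset hx
      obtain ⟨a, ha⟩ := (H29Blow.mem_ideal_iff_exists_idealSect (⊤ : (P).IdealSheafData) hU
        ((Coh.structureModule P).presheaf.map (homOfLE hUW).op t)).1
        (by rw [Scheme.IdealSheafData.ideal_top]; trivial)
      exact ⟨U, hUW, hxU, a, ha⟩
    exact isIso_of_mono_of_epi _
  intro i hi
  obtain ⟨e⟩ : Nonempty (CohB1.tensorMod (ClSub.idealMod (⊤ : (P).IdealSheafData)) (O ((0 : ℤ) - i)) ≅ O ((0 : ℤ) - i)) :=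
    ⟨PicGrp.tensorModIso (asIso (ClSub.idealModι (⊤ : (P).IdealSheafData))) (Iso.refl _) ≪≫ H10Coh.Tw.leftUnitIso _⟩
  refine H10Coh.Tw.subsingleton_of_iso e.symm ?_
  by_cases hn : i ≤ n
  · exact CMField.van_twist k n hi (by omega)
  · exact CMField.van_high k n (by omega) (H11Ample.isCoh_of_isInvertible ((CMField.setup k n).fam.inv _)).1

theorem reg_step (q : P) (hq : IsClosed ({q} : Set P)) (B : (P).IdealSheafData) {m : ℤ}
    (h : CMField.Reg O (ClSub.idealMod B) m) :
    CMField.Reg O (ClSub.idealMod (B * W4c2seshadripos.pointIdeal q hq)) (m + 1) := by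
  haveI : IsProper (CohB1.ProjSpace.toSpec n k) := inferInstance
  haveI : IsProper (P ↘ Spec (CommRingCat.of k)) := inferInstanceAs (IsProper (CohB1.ProjSpace.toSpec n k))
  haveI := H28Int.isNoetherian k (X := P)
  haveI : (P).IsSeparated := Scheme.IsSeparated.mk (by
    rw [← terminal.comp_from (CohB1.ProjSpace.toSpec n k)]; infer_instance)
  let ι₀ := incl (mul_le_left' B (W4c2seshadripos.pointIdeal q hq))
  have hS : (ShortComplex.mk ι₀ (cokernel.π ι₀) (cokernel.condition ι₀)).ShortExact :=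
    ShortComplex.ShortExact.mk' (ShortComplex.exact_cokernel ι₀) inferInstance inferInstance
  have hQ : Coh.IsCoh (Qt q hq B) := H10Coh.isCoh_cokernel ι₀ (isCoh_ideal _).1 (isCoh_ideal _)
  have h' := CMField.reg_succ (CMField.setup k n) h
  intro i hi
  have hinv := (CMField.setup k n).fam.inv (m + 1 - i)
  have hS' := H10Coh.Tw.shortExact_seq hS hinv
  rcases Nat.lt_or_ge i 2 with hi2 | hi2
  · obtain rfl : i = 1 := by omega
    have h2 : CMField.Van 1 (CohB1.tensorMod (ClSub.idealMod B) (O (m + 1 - 1))) := h' 1 le_rfl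
    have hgg : Curv2.IsGloballyGenerated (CohB1.tensorMod (ClSub.idealMod B) (O (m + 1 - (1 : ℕ)))) := by
      have e : (m + 1 - (1 : ℕ) : ℤ) = m := by push_cast; ring
      show Curv2.IsGloballyGenerated (CohB1.tensorMod _ (Twist.twistProjSpace n k _))
      rw [e]
      exact S1647.result k n _ (isCoh_ideal B) m ((CMField.reg_iff (isCoh_ideal B) m).1 h)
    haveI := H10Coh.Tw.epi_map (cokernel.π ι₀) hinv
    exact CMStep.van_left_one hS' h2 (surjective_app_top q hq k (CohB1.ProjSpace.toSpec n k)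
      (LimSh.tensorModMap (cokernel.π ι₀) _) hgg
      ((H25Euler.support_tensor_subset _ _).trans (support_Qt q hq B))
      fun a ha v => Qt_tensor_smul_eq_zero q hq B _ a ha v)
  · obtain ⟨j, rfl⟩ : ∃ j, i = j + 1 := ⟨i - 1, by omega⟩
    refine CMStep.van_left (H10Coh.shortExact_sh hS') (h' (j + 1) hi) ?_
    exact H28Int.subsingleton_HnM_of_support ⟨{q}, hq⟩ 0
      (dim_le_zero_of_closed_points (fun s hs => by rw [Set.mem_singleton_iff.1 hs]; exact hq) hq) _
      (H11Ample.isCoh_tensor hQ hinv).1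
      ((H25Euler.support_tensor_subset _ _).trans (support_Qt q hq B)) j (by omega)

theorem reg_mul_pow (q : P) (hq : IsClosed ({q} : Set P)) (e : ℕ) (B : (P).IdealSheafData) {m : ℤ}
    (h : CMField.Reg O (ClSub.idealMod B) m) :
    CMField.Reg O (ClSub.idealMod (B * W4c2seshadripos.pointIdeal q hq ^ e)) (m + e) := by
  induction e with
  | zero => simpa using h
  | succ e ih =>
    rw [pow_succ, ← mul_assoc, Nat.cast_succ, ← add_assoc]
    exact reg_step q hq _ ih

theorem reg_prod {ι : Type*} (s : Finset ι) (q : ι → P) (hq : ∀ j, IsClosed ({q j} : Set P)) (e : ι → ℕ) :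
    CMField.Reg O (ClSub.idealMod (∏ j ∈ s, W4c2seshadripos.pointIdeal (q j) (hq j) ^ e j))
      (∑ j ∈ s, (e j : ℤ)) := by
  classical
  induction s using Finset.induction with
  | empty =>
    rw [Finset.prod_empty, Finset.sum_empty]
    exact reg_top
  | insert a s ha ih =>
    rw [Finset.prod_insert ha, Finset.sum_insert ha, mul_comm, add_comm]
    exact reg_mul_pow (q a) (hq a) (e a) _ ih

theorem reg_add {F : (P).Modules} {m : ℤ} (h : CMField.Reg O F m) :
    ∀ c : ℕ, CMField.Reg O F (m + c)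
  | 0 => by simpa using h
  | c + 1 => by
    rw [Nat.cast_succ, ← add_assoc]
    exact CMField.reg_succ (CMField.setup k n) (reg_add h c)

/-- The ideal of a finite subscheme is regular. -/
theorem reg_ker {Z : Scheme.{u}} (i : Z ⟶ P) [IsClosedImmersion i] [Finite Z] (μ : Z → ℕ)
    (hμ : ∀ z : Z, IsLocalRing.maximalIdeal (Z.presheaf.stalk z) ^ (μ z + 1) = ⊥) :
    CMField.Reg O (ClSub.idealMod i.ker) ((∑ᶠ z : Z, (μ z : ℤ)) + (Nat.card Z : ℤ)) := by
  classical
  letI : Fintype Z := Fintype.ofFinite Z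
  haveI : IsProper (P ↘ Spec (CommRingCat.of k)) := inferInstanceAs (IsProper (CohB1.ProjSpace.toSpec n k))
  haveI := H28Int.isNoetherian k (X := P)
  haveI : LocallyOfFiniteType (i ≫ CohB1.ProjSpace.toSpec n k) := inferInstance
  haveI : JacobsonSpace Z := LocallyOfFiniteType.jacobsonSpace (i ≫ CohB1.ProjSpace.toSpec n k)
  haveI : DiscreteTopology Z := inferInstance
  have hcl : ∀ z : Z, IsClosed ({i z} : Set P) := fun z => by
    rw [← Set.image_singleton]
    exact i.isClosedEmbedding.isClosedMap _ (isClosed_discrete _)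
  let J := ∏ z : Z, W4c2seshadripos.pointIdeal (i z) (hcl z) ^ (μ z + 1)
  have hreg : CMField.Reg O (ClSub.idealMod J) ((∑ᶠ z : Z, (μ z : ℤ)) + (Nat.card Z : ℤ)) := by
    have e : (∑ᶠ z : Z, (μ z : ℤ)) + (Nat.card Z : ℤ) = ∑ z : Z, ((μ z + 1 : ℕ) : ℤ) := by
      rw [finsum_eq_sum_of_fintype, Nat.card_eq_fintype_card]
      push_cast
      rw [Finset.sum_add_distrib]
      simp
    rw [e]
    exact reg_prod Finset.univ (fun z => i z) hcl (fun z => μ z + 1)
  have hrange : ∀ y : P, y ∉ Set.range i → ∀ (V : (P).affineOpens) (hy : y ∈ V.1),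
      H28Vert.stalkId i.ker V hy = ⊤ := by
    intro y hy V hyV
    obtain ⟨W, hW, hyW, hWle⟩ := exists_isAffineOpen_mem_and_subset
      (U := V.1 ⊓ ⟨(Set.range i)ᶜ, i.isClosedEmbedding.isClosed_range.isOpen_compl⟩) (x := y) ⟨hyV, hy⟩
    rw [← H28Vert.stalkId_of_le i.ker (U := ⟨W, hW⟩) (V := V) (fun a ha => (hWle ha).1) hyW, H28Vert.stalkId,
      H17.Seshadri.ideal_eq_top i.ker ⟨W, hW⟩ (fun w hw hs => (hWle hw).2 (by
        have := i.support_ker
        rw [i.isClosedEmbedding.isClosed_range.closure_eq] at this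
        exact this.le hs)), Ideal.map_top]
  have hle : J ≤ i.ker := H28Vert.le_of_stalk _ _ fun y V hy => by
    by_cases hyr : y ∈ Set.range i
    · obtain ⟨z, rfl⟩ := hyr
      refine le_trans ?_ ((H17.ker_stalkMap_eq_map i V.2 z hy).le.trans_eq ?_)
      · rw [H28Vert.stalkId_prod]
        refine Ideal.prod_le_inf.trans ((Finset.inf_le (Finset.mem_univ z)).trans ?_)
        have hm := mem_pointIdeal_germ (hcl z) V.2 hy
        rw [H28Vert.stalkId, ← hm]
        intro a ha
        rw [RingHom.mem_ker]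
        have h1 := Ideal.mem_map_of_mem (i.stalkMap z).hom ha
        rw [Ideal.map_pow] at h1
        have h2 : Ideal.map (i.stalkMap z).hom (IsLocalRing.maximalIdeal _) ≤
            IsLocalRing.maximalIdeal (Z.presheaf.stalk z) := by
          rw [Ideal.map_le_iff_le_comap, IsLocalRing.maximalIdeal_comap]
        exact (hμ z).le (Ideal.pow_right_mono h2 _ h1)
      · rw [H28Vert.stalkId, Scheme.Hom.ker_apply]
    · rw [hrange y hyr V hy]; exact le_top
  have hsupp : CohB1.support (cokernel (incl hle)) ⊆ Set.range i := fun y hy => by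
    by_contra hyr
    refine (H25Euler.notMem_support_iff _ y).2 ?_ hy
    refine @ModuleCat.isZero_of_subsingleton _ _ _
      (show Subsingleton ↥((DerSch.stalkFunctor P y).obj (cokernel (incl hle))) from
        ⟨fun a b => ?_⟩)
    have h0 : ∀ v : (cokernel (incl hle)).presheaf.stalk y, v = 0 := fun v => by
      obtain ⟨U, hU, hUW, hyU, w, rfl⟩ := exists_lift (cokernel.π (incl hle)) y v
        (W := ⟨(Set.range i)ᶜ, i.isClosedEmbedding.isClosed_range.isOpen_compl⟩) hyr
      rw [π_app_eq_zero hle hU w, map_zero]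
      have hJ : ∀ z : Z, (W4c2seshadripos.pointIdeal (i z) (hcl z)).ideal ⟨U, hU⟩ = ⊤ := fun z =>
        H17.Seshadri.ideal_eq_top _ ⟨U, hU⟩ fun w hw hs => hUW hw
          ⟨z, ((H17.Seshadri.mem_support_pointIdeal (i z) (hcl z) w).1 hs).symm⟩
      have hprod : ∀ s : Finset Z,
          (∏ z ∈ s, W4c2seshadripos.pointIdeal (i z) (hcl z) ^ (μ z + 1)).ideal ⟨U, hU⟩ = ⊤ := fun s => by
        induction s using Finset.induction with
        | empty => exact congrFun Scheme.IdealSheafData.ideal_top _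
        | insert a s ha ih =>
          rw [Finset.prod_insert ha, Scheme.IdealSheafData.ideal_mul, Pi.mul_apply, ih,
            Scheme.IdealSheafData.ideal_pow, Pi.pow_apply, hJ, Ideal.mul_top, ← Ideal.one_eq_top, one_pow]
      rw [hprod]
      trivial
    exact (h0 a).trans (h0 b).symm
  have hcs : IsClosed (CohB1.support (cokernel (incl hle))) :=
    H10Coh.isClosed_support _ (H10Coh.isCoh_cokernel _ (isCoh_ideal J).1 (isCoh_ideal _)).2
  exact (CMField.reg_iff (isCoh_ideal _) _).2 (S12905.result k n _ _ (isCoh_ideal J) (isCoh_ideal _) (incl hle)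
    (dim_le_zero_of_closed_points (fun s hs => by obtain ⟨z, rfl⟩ := hsupp hs; exact hcl z) hcs) _
    ((CMField.reg_iff (isCoh_ideal J) _).1 hreg))

/-- The vanishing and regularity statement. -/
theorem main {Z : Scheme.{u}} (i : Z ⟶ P) [IsClosedImmersion i] [Finite Z] (μ : Z → ℕ)
    (hμ : ∀ z : Z, IsLocalRing.maximalIdeal (Z.presheaf.stalk z) ^ (μ z + 1) = ⊥) :
    (∀ j : ℤ, (∑ᶠ z : Z, (μ z : ℤ)) + (Nat.card Z : ℤ) - 1 ≤ j →
      Subsingleton (Coh.HH P (CohB1.tensorMod (ClSub.idealMod i.ker) (Twist.twistProjSpace n k j)) 1)) ∧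
    Curv2.IsMRegular k n (ClSub.idealMod i.ker) ((∑ᶠ z : Z, (μ z : ℤ)) + (Nat.card Z : ℤ)) := by
  have h := reg_ker i μ hμ
  refine ⟨fun j hj => ?_, (CMField.reg_iff (isCoh_ideal _) _).1 h⟩
  obtain ⟨c, hc⟩ := Int.eq_ofNat_of_zero_le (show 0 ≤ j - ((∑ᶠ z : Z, (μ z : ℤ)) + (Nat.card Z : ℤ) - 1) by omega)
  refine CMField.van_iff.1 ?_
  have h1 := reg_add h c 1 le_rfl
  rwa [show (∑ᶠ z : Z, (μ z : ℤ)) + (Nat.card Z : ℤ) + (c : ℤ) - ((1 : ℕ) : ℤ) = j by push_cast; omega] at h1

end Proj

end Groth.Agent.H22Alg.FatPoints
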