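import Groth.Agent.H22Alg.KLFK0
import Groth.Agent.H13CInt.Spread
import Groth.Agent.H24FSch.ModSysPush
import Groth.Agent.H16Derived.ProjFormula.ClosedImm

/-! # Push-forward on `K(X)` along regular closed immersions: existence of resolutions. -/

set_option autoImplicit false
set_option linter.style.haveILetI false

universe v u w

open CategoryTheory CategoryTheory.Limits AlgebraicGeometry ZeroObject
attribute [local instance] HasDerivedCategory.standard

noncomputable section

namespace Groth.Agent.H22Alg.KPushCl

open ResEuler KLFRes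

section Alg

variable {R : Type u} [CommRing R] [IsLocalRing R] [IsNoetherianRing R]

theorem pd_quotient (rs : List R) (reg : RingTheory.Sequence.IsRegular R rs) :
    HasProjectiveDimensionLE (ModuleCat.of R (R ⧸ Ideal.ofList rs)) rs.length := by
  have h := ModuleCat.projectiveDimension_quotient_eq_length.{u} rs reg
  have e : ModuleCat.of R (Shrink.{u} (R ⧸ Ideal.ofList rs)) ≅ ModuleCat.of R (R ⧸ Ideal.ofList rs) :=
    (Shrink.linearEquiv R _).toModuleIso
  rw [projectiveDimension_eq_of_iso e] at h
  exact (projectiveDimension_le_iff _ _).1 h.le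

theorem pd_pi (Q : Type u) [AddCommGroup Q] [Module R Q] (n : ℕ) [HasProjectiveDimensionLE (ModuleCat.of R Q) n] :
    ∀ r : ℕ, HasProjectiveDimensionLE (ModuleCat.of R (Fin r → Q)) n
  | 0 => by
    haveI := (ModuleCat.isZero_of_subsingleton (ModuleCat.of R (Fin 0 → Q))).hasProjectiveDimensionLT_zero
    exact hasProjectiveDimensionLT_of_ge _ 0 (n + 1) (Nat.zero_le _)
  | r + 1 => by
    haveI := pd_pi Q n r
    let e : ModuleCat.of R Q ⊞ ModuleCat.of R (Fin r → Q) ≅ ModuleCat.of R (Fin (r + 1) → Q) :=
      ModuleCat.biprodIsoProd _ _ ≪≫ (Fin.consLinearEquiv R fun _ : Fin (r + 1) => Q).toModuleIso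
    exact hasProjectiveDimensionLT_of_iso e (n + 1)

/-- A finite free module over a quotient by a regular sequence has finite projective dimension. -/
theorem pd_of_free {S : Type u} [CommRing S] [IsLocalRing S] (φ : R →+* S) (hφ : Function.Surjective φ)
    (rs : List R) (reg : RingTheory.Sequence.IsRegular R rs) (hker : RingHom.ker φ = Ideal.ofList rs)
    {A : Type u} [AddCommGroup A] [Module S A] [Module.Free S A] [Module.Finite S A]
    {M : Type u} [AddCommGroup M] [Module R M] (p : M →+ A) (hp : Function.Bijective p)
    (hsmul : ∀ (r : R) (m : M), p (r • m) = φ r • p m) :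
    HasProjectiveDimensionLE (ModuleCat.of R M) rs.length := by
  letI := Module.compHom A φ
  let b := Module.Free.chooseBasis S A
  letI := Fintype.ofFinite (Module.Free.ChooseBasisIndex S A)
  let eS : A ≃ₗ[S] (Fin (Fintype.card (Module.Free.ChooseBasisIndex S A)) → S) :=
    (b.reindex (Fintype.equivFin _)).equivFun
  letI := φ.toAlgebra
  let q : (R ⧸ Ideal.ofList rs) ≃ₗ[R] S :=
    ((Submodule.quotEquivOfEq _ _ hker.symm).trans
      (Ideal.quotientKerAlgEquivOfSurjective (f := Algebra.ofId R S) hφ).toLinearEquiv)
  haveI := pd_quotient rs reg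
  haveI := pd_pi (R := R) (R ⧸ Ideal.ofList rs) rs.length (Fintype.card (Module.Free.ChooseBasisIndex S A))
  let E : (Fin (Fintype.card (Module.Free.ChooseBasisIndex S A)) → R ⧸ Ideal.ofList rs) ≃ₗ[R] M :=
    (LinearEquiv.piCongrRight fun _ => q).trans
      ({ toFun := fun v => (AddEquiv.ofBijective p hp).symm (eS.symm v)
         invFun := fun m => eS (p m)
         map_add' := fun v w => by rw [map_add, map_add]
         map_smul' := fun r v => (AddEquiv.ofBijective p hp).injective (by
           rw [RingHom.id_apply, AddEquiv.apply_symm_apply]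
           refine Eq.trans ?_ (hsmul r _).symm
           show eS.symm (φ r • v) = φ r • (AddEquiv.ofBijective p hp) ((AddEquiv.ofBijective p hp).symm (eS.symm v))
           rw [AddEquiv.apply_symm_apply, map_smul])
         left_inv := fun v => (congrArg eS ((AddEquiv.ofBijective p hp).apply_symm_apply _)).trans
           (eS.apply_symm_apply v)
         right_inv := fun m => (congrArg (AddEquiv.ofBijective p hp).symm (eS.symm_apply_apply _)).trans
           ((AddEquiv.ofBijective p hp).symm_apply_apply m) } : (Fin _ → S) ≃ₗ[R] M)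
  exact hasProjectiveDimensionLT_of_iso E.toModuleIso (rs.length + 1)

end Alg

variable {X Y : Scheme.{u}} (f : X ⟶ Y)

/-- The stalks of the direct image of a bundle along a regular closed immersion have finite projective dimension. -/
theorem exists_pd_push [IsLocallyNoetherian Y] (hf : Mor2.IsRegularClosedImmersion f) {F : X.Modules}
    (hF : FlatMod.IsFinLocFree F) (y : Y) :
    ∃ n : ℕ, HasProjectiveDimensionLE (ModuleCat.of (Y.presheaf.stalk y)
      (((Scheme.Modules.pushforward f).obj F).presheaf.stalk y)) n := by
  haveI := hf.1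
  by_cases hy : y ∈ Set.range f.base
  · obtain ⟨x, rfl⟩ := hy
    obtain ⟨rs, hrs, hI⟩ := H13CInt.isRegularIdeal_ker_stalkMap f hf x
    haveI := H8Props.FinLocFree.free_stalk F hF x
    haveI := H06Mod.finite_stalk F (H29Fitt.isFT_of_isFP _ (H8Props.FinLocFree.isFP_of_isFinLocFree _ hF)) x
    exact ⟨rs.length, pd_of_free (f.stalkMap x).hom (f.stalkMap_surjective x) rs hrs hI.symm
      (H16Derived.ProjFormula.pushStalk f F x) (H16Derived.ProjFormula.pushStalk_bijective f F x)
      (H16Derived.ProjFormula.pushStalk_smul f F x)⟩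
  · haveI := H16Derived.ProjFormula.subsingleton_stalk_push f F y hy
    haveI : Subsingleton (ModuleCat.of (Y.presheaf.stalk y)
        (((Scheme.Modules.pushforward f).obj F).presheaf.stalk y)) :=
      H16Derived.ProjFormula.subsingleton_stalk_push f F y hy
    haveI := (ModuleCat.isZero_of_subsingleton (ModuleCat.of (Y.presheaf.stalk y)
        (((Scheme.Modules.pushforward f).obj F).presheaf.stalk y))).hasProjectiveDimensionLT_zero
    exact ⟨0, hasProjectiveDimensionLT_of_ge _ 0 1 (Nat.zero_le _)⟩

theorem isCoh_push [IsLocallyNoetherian X] [IsClosedImmersion f] {F : X.Modules} (hF : FlatMod.IsFinLocFree F) :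
    Coh.IsCoh ((Scheme.Modules.pushforward f).obj F) :=
  H24FSch.isCoh_pushforward_of_isClosedImmersion f (H16Derived.KFlat.Stalk.isCoh_of_isFinLocFree hF)

theorem shortExact_push [IsClosedImmersion f] {S : ShortComplex X.Modules} (hS : S.ShortExact) :
    (S.map (Scheme.Modules.pushforward f)).ShortExact := by
  haveI := H16Derived.ProjFormula.preservesHomology_push f
  haveI : (Scheme.Modules.pushforward f).IsRightAdjoint :=
    (Scheme.Modules.pullbackPushforwardAdjunction f).isRightAdjoint
  haveI := hS.mono_f
  haveI := hS.epi_g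
  exact { exact := hS.exact.map _
          mono_f := inferInstanceAs (Mono ((Scheme.Modules.pushforward f).map S.f))
          epi_g := LeadProper.epi_push_map_of_isClosedImmersion f S.g }

variable [IsNoetherian X] [IsNoetherian Y] (hYe : KRR.HasEnoughLocFree Y)

include hYe in
theorem exists_val_push (hf : Mor2.IsRegularClosedImmersion f) {F : X.Modules} (hF : FlatMod.IsFinLocFree F) :
    ∃ n a, Val (vb Y) (coh Y) (KRR.cl Y) n ((Scheme.Modules.pushforward f).obj F) a := by
  haveI := hf.1
  exact exists_val_of_pd hYe _ (ctxK hYe) (isCoh_push f hF) (exists_pd_push f hf hF)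

include hYe in
/-- The push-forward along a regular closed immersion on `K₀` of bundles. -/
theorem exists_pushCl (hf : Mor2.IsRegularClosedImmersion f) :
    ∃ g : SGA6.Kvb X →+ SGA6.Kvb Y, ∀ F : X.Modules, FlatMod.IsFinLocFree F → ∀ n a,
      Val (vb Y) (coh Y) (KRR.cl Y) n ((Scheme.Modules.pushforward f).obj F) a → g (KRR.cl X F) = a := by
  classical
  haveI := hf.1
  have hc := ctxK hYe
  choose nn aa haa using fun F (hF : FlatMod.IsFinLocFree (X := X) F) => exists_val_push f hYe hf hF
  let c : X.Modules → SGA6.Kvb Y := fun F => if hF : FlatMod.IsFinLocFree F then aa F hF else 0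
  obtain ⟨g, hg⟩ := KModel.exists_lift c fun S hS h₁ h₂ h₃ => by
    simp only [c, dif_pos h₁, dif_pos h₂, dif_pos h₃]
    exact val_add hc (max (nn _ h₁) (max (nn _ h₂) (nn _ h₃))) _ (shortExact_push f hS) _ _ _
      (val_mono hc (le_max_left _ _) (haa _ h₁))
      (val_mono hc ((le_max_left _ _).trans (le_max_right _ _)) (haa _ h₂))
      (val_mono hc ((le_max_right _ _).trans (le_max_right _ _)) (haa _ h₃))
  refine ⟨g, fun F hF n a hv => ?_⟩
  rw [hg F hF]
  simp only [c, dif_pos hF]
  exact val_unique' hc (haa F hF) hv

end Groth.Agent.H22Alg.KPushCl
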