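import Mathlib
import Groth.Agent.H22Alg.MumfordStep
import Groth.Agent.H29RR.P1Split
import Groth.Agent.H3CAlg.FormsDim
import Groth.Agent.H25Euler.Additive

/-!
# Mumford's uniform bound for the regularity of submodules of free modules
-/

set_option autoImplicit false
set_option linter.style.haveILetI false
universe u

open CategoryTheory CategoryTheory.Limits AlgebraicGeometry Opposite TopologicalSpace
open Groth.Agent Groth.Agent.H11Tilde Groth.Agent.H11Ample
attribute [local instance 10000] Groth.Agent.H10Coh.hasSheafifyAb Groth.Agent.H10Coh.hasWeakSheafifyAb Groth.Agent.H10Coh.hasExtAb Groth.Agent.H10Coh.enoughInjAb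

noncomputable section

namespace Groth.Agent.H22Alg.MumfordBound

open MvPolynomial (X bind₁)

/-- The binomial coefficient at a shifted argument in the binomial basis. -/
theorem choose_sub_one : ∀ (j : ℕ) (r : ℤ), Ring.choose (r - 1) j =
    ∑ i ∈ Finset.range (j + 1), (-1 : ℤ) ^ (j - i) * Ring.choose r i
  | 0, r => by simp [Ring.choose_zero_right]
  | j + 1, r => by
    have h := Ring.choose_succ_succ (r - 1) j
    rw [sub_add_cancel] at h
    have h' : Ring.choose (r - 1) (j + 1) = Ring.choose r (j + 1) - Ring.choose (r - 1) j := by omega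
    rw [h', choose_sub_one j r, Finset.sum_range_succ _ (j + 1), Nat.sub_self, pow_zero, one_mul,
      sub_eq_add_neg, add_comm, ← Finset.sum_neg_distrib]
    refine congrArg₂ (· + ·) (Finset.sum_congr rfl fun i hi => ?_) rfl
    rw [show j + 1 - i = j - i + 1 by have := Finset.mem_range.1 hi; omega, pow_succ]
    ring

/-- The coefficients of the hyperplane section. -/
def cutCoeff (n : ℕ) (i : Fin (n + 1)) : MvPolynomial (Fin (n + 2)) ℤ :=
  ∑ j : Fin (n + 1), if (i : ℕ) ≤ j then (-1) ^ ((j : ℕ) - i) * X j.succ else 0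

theorem sum_cutCoeff (n : ℕ) (a : Fin (n + 2) → ℤ) (r : ℤ) :
    ∑ i : Fin (n + 1), MvPolynomial.eval a (cutCoeff n i) * Ring.choose r (i : ℕ) =
      (∑ j : Fin (n + 2), a j * Ring.choose r (j : ℕ)) - ∑ j : Fin (n + 2), a j * Ring.choose (r - 1) (j : ℕ) := by
  rw [← Finset.sum_sub_distrib, Fin.sum_univ_succ (n := n + 1)]
  simp only [Fin.val_zero, Ring.choose_zero_right, sub_self, zero_add]
  have h : ∀ j : Fin (n + 1), a j.succ * Ring.choose r (j.succ : ℕ) - a j.succ * Ring.choose (r - 1) (j.succ : ℕ) =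
      ∑ i : Fin (n + 1), (if (i : ℕ) ≤ j then (-1) ^ ((j : ℕ) - i) * a j.succ else 0) * Ring.choose r (i : ℕ) := by
    intro j
    have e := Ring.choose_succ_succ (r - 1) (j : ℕ)
    rw [sub_add_cancel] at e
    rw [Fin.val_succ, e, show ∀ x y z : ℤ, x * (y + z) - x * z = x * y from fun x y z => by ring,
      choose_sub_one, Finset.mul_sum]
    simp only [ite_mul, zero_mul]
    rw [Fin.sum_univ_eq_sum_range (fun i => if i ≤ (j : ℕ) then (-1) ^ ((j : ℕ) - i) * a j.succ * Ring.choose r i else 0),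
      ← Finset.sum_filter]
    refine Finset.sum_congr ?_ fun i _ => by ring
    ext i
    simp only [Finset.mem_range, Finset.mem_filter]
    omega
  simp only [h]
  rw [Finset.sum_comm]
  refine Finset.sum_congr rfl fun i _ => ?_
  rw [cutCoeff, map_sum, Finset.sum_mul]
  refine Finset.sum_congr rfl fun j _ => ?_
  split <;> simp

/-- `C(t, j) ≤ M^j` for `0 ≤ t ≤ M`. -/
theorem choose_le_pow {t M : ℤ} (ht : 0 ≤ t) (hM : t ≤ M) (j : ℕ) : 0 ≤ Ring.choose t j ∧ Ring.choose t j ≤ M ^ j := by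
  obtain ⟨m, rfl⟩ := Int.eq_ofNat_of_zero_le ht
  rw [Ring.choose_natCast]
  refine ⟨Int.natCast_nonneg _, ?_⟩
  refine le_trans ?_ (pow_le_pow_left₀ ht hM j)
  exact_mod_cast Nat.choose_le_pow m j

section

variable {k : Type u} [Field k] {n : ℕ}

local notation "P" => CohB1.ProjSpace n k

theorem proper_toSpec : IsProper (P ↘ Spec (CommRingCat.of k)) :=
  inferInstanceAs (IsProper (CohB1.ProjSpace.toSpec n k))

set_option backward.isDefEq.respectTransparency false in
theorem hhlin_injective {S : ShortComplex (CohB1.ProjSpace n k).Modules} (hS : S.ShortExact) :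
    Function.Injective (Canon.HHlin k S.f 0) := by
  haveI : Mono ((SheafOfModules.toSheaf (CohB1.ProjSpace n k).ringCatSheaf).map S.f) := (H10Coh.shortExact_sh hS).mono_f
  rw [injective_iff_map_eq_zero]
  intro x hx
  change x.comp (Abelian.Ext.mk₀ _) (add_zero 0) = 0 at hx
  obtain ⟨φ, rfl⟩ := (Abelian.Ext.mk₀_bijective _ _).2 x
  rw [Abelian.Ext.mk₀_comp_mk₀, ← Abelian.Ext.mk₀_zero] at hx
  have h2 := (Abelian.Ext.mk₀_bijective _ _).1 hx
  rw [show φ = 0 from zero_of_comp_mono _ h2, Abelian.Ext.mk₀_zero]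

/-- `h⁰` of a twisted submodule of a free module. -/
theorem h0_le {F : (CohB1.ProjSpace n k).Modules} (hF : Coh.IsCoh F) (hn : n ≠ 0) {p : ℕ}
    (ι₀ : F ⟶ FlatMod.freeMod (CohB1.ProjSpace n k) p) [Mono ι₀] (t : ℕ) :
    Module.finrank k (Coh.HH (CohB1.ProjSpace n k) (CohB1.tensorMod F (Twist.twistProjSpace n k (t : ℤ))) 0) ≤
      p * (t + n).choose n := by
  haveI := proper_toSpec (k := k) (n := n)
  haveI := CMHyper.noetherian k n
  let L := Twist.twistProjSpace n k (t : ℤ)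
  have hL : PicF.IsInvertible L := (CMField.setup k n).fam.inv _
  have hS : (ShortComplex.mk ι₀ (cokernel.π ι₀) (cokernel.condition ι₀)).ShortExact :=
    { exact := ShortComplex.exact_cokernel _ }
  have hT := H10Coh.Tw.shortExact_seq hS hL
  let B := (DCoh.tensorBi (X := CohB1.ProjSpace n k)).flip.obj L
  haveI : PreservesColimitsOfShape (Discrete (Fin p)) B := inferInstance
  let c : CohB1.tensorMod (FlatMod.freeMod (CohB1.ProjSpace n k) p) L ≅ ∐ fun _ : Fin p => L :=
    (PreservesCoproduct.iso B (fun _ : Fin p => Coh.structureModule (CohB1.ProjSpace n k))) ≪≫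
      Sigma.mapIso fun _ : Fin p => H10Coh.Tw.leftUnitIso L
  obtain ⟨hsum, hfin⟩ := H29RR.PnPic.finrank_h0_sum (k := k) hn fun _ : Fin p => (t : ℤ)
  have hfree : Coh.IsCoh (FlatMod.freeMod (CohB1.ProjSpace n k) p) :=
    H10Coh.isCoh_sigma _ fun _ => H10Coh.isCoh_structureModule' _
  haveI := H10Coh.finite_HH_proper k _ _ (H11Ample.isCoh_tensor hfree hL) 0
  haveI hmono : Mono (LimSh.tensorModMap ι₀ L) := hT.mono_f
  have hinj : Function.Injective (Canon.HHlin k (LimSh.tensorModMap ι₀ L) 0) :=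
    hhlin_injective (S := ShortComplex.mk (LimSh.tensorModMap ι₀ L) (cokernel.π _) (cokernel.condition _))
      { exact := ShortComplex.exact_cokernel _ }
  refine (LinearMap.finrank_le_finrank_of_injective hinj).trans ?_
  rw [CurveAmple.finrank_HH_congr c]
  refine (le_of_eq hsum).trans (le_of_eq ?_)
  rw [Finset.sum_const, Finset.card_univ, Fintype.card_fin, smul_eq_mul, H29RR.PnPic.finrank_h0_nat,
    (H3CAlg.finrank_homogeneous (k := k) n t).2]

/-- The Euler characteristic when the higher cohomology above one vanishes. -/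
theorem euler_two {M : (CohB1.ProjSpace n k).Modules}
    (h : ∀ i, 2 ≤ i → CMField.Van i M) :
    Curv2.euler k (CohB1.ProjSpace n k) M =
      (Module.finrank k (Coh.HH (CohB1.ProjSpace n k) M 0) : ℤ) - Module.finrank k (Coh.HH (CohB1.ProjSpace n k) M 1) := by
  haveI := proper_toSpec (k := k) (n := n)
  rw [H25Euler.euler_eq_sum M 2 fun i hi => CMField.van_iff.1 (h i hi)]
  simp [Finset.sum_range_succ, sub_eq_add_neg]

/-- Additivity along the hyperplane sequence. -/
theorem euler_seq {F₁ : (CohB1.ProjSpace n k).Modules}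
    (κ : CohB1.tensorMod F₁ (Twist.twistProjSpace n k (-1)) ⟶ F₁) [Mono κ] (hF₁ : Coh.IsCoh F₁) (d : ℤ) :
    Curv2.euler k (CohB1.ProjSpace n k) (CohB1.tensorMod F₁ (Twist.twistProjSpace n k d)) =
      Curv2.euler k (CohB1.ProjSpace n k) (CohB1.tensorMod F₁ (Twist.twistProjSpace n k (d - 1))) +
        Curv2.euler k (CohB1.ProjSpace n k) (CohB1.tensorMod (cokernel κ) (Twist.twistProjSpace n k d)) := by
  haveI := proper_toSpec (k := k) (n := n)
  haveI := CMHyper.noetherian k n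
  have hs := CMField.setup k n
  have hC : Coh.IsCoh (cokernel κ) :=
    H10Coh.isCoh_cokernel κ (H11Ample.isCoh_tensor hF₁ (hs.fam.inv (-1))).1 hF₁
  obtain ⟨f, w, hS⟩ := CMHyper.seq_shortExact (F := F₁) (ι := κ) d
  have h := H25Euler.euler_add (k := k) (S := ShortComplex.mk f _ w) hS
    (H11Ample.isCoh_tensor hF₁ (hs.fam.inv (d - 1))) (H11Ample.isCoh_tensor hF₁ (hs.fam.inv d))
    (H11Ample.isCoh_tensor hC (hs.fam.inv d))
  exact h

/-- Twists of a twist. -/
theorem nonempty_twist_twist (F : (CohB1.ProjSpace n k).Modules) (d : ℤ) :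
    Nonempty (CohB1.tensorMod (CohB1.tensorMod F (Twist.twistProjSpace n k 1)) (Twist.twistProjSpace n k d) ≅
      CohB1.tensorMod F (Twist.twistProjSpace n k (d + 1))) := by
  obtain ⟨v⟩ := (CMField.setup k n).fam.add 1 d
  exact ⟨H10Coh.Tw.assoc _ _ _ ≪≫ PicGrp.tensorModIso (Iso.refl F)
    (v ≪≫ eqToIso (congrArg (Twist.twistProjSpace n k) (by ring)))⟩

/-- The Euler characteristics of a hyperplane section. -/
theorem euler_cut {F : (CohB1.ProjSpace (n + 1) k).Modules} (hF : Coh.IsCoh F) {G : (CohB1.ProjSpace n k).Modules}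
    (hG : Coh.IsCoh G) (e : CohB1.ProjSpace n k ⟶ CohB1.ProjSpace (n + 1) k) [IsClosedImmersion e]
    (hek : e ≫ CohB1.ProjSpace.toSpec (n + 1) k = CohB1.ProjSpace.toSpec n k)
    (κ : CohB1.tensorMod (CohB1.tensorMod F (Twist.twistProjSpace (n + 1) k 1))
          (Twist.twistProjSpace (n + 1) k (-1)) ⟶ CohB1.tensorMod F (Twist.twistProjSpace (n + 1) k 1)) [Mono κ]
    (hiso : ∀ d : ℤ, Nonempty (CohB1.tensorMod (cokernel κ) (Twist.twistProjSpace (n + 1) k d) ≅
        (Coh.push e).obj (CohB1.tensorMod G (Twist.twistProjSpace n k (d + 1))))) (r : ℤ) :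
    Curv2.euler k (CohB1.ProjSpace n k) (CohB1.tensorMod G (Twist.twistProjSpace n k r)) =
      Curv2.euler k (CohB1.ProjSpace (n + 1) k) (CohB1.tensorMod F (Twist.twistProjSpace (n + 1) k r)) -
        Curv2.euler k (CohB1.ProjSpace (n + 1) k) (CohB1.tensorMod F (Twist.twistProjSpace (n + 1) k (r - 1))) := by
  haveI := proper_toSpec (k := k) (n := n + 1)
  haveI := proper_toSpec (k := k) (n := n)
  haveI := CMHyper.noetherian k (n + 1)
  haveI := CMHyper.noetherian k n
  have hadd := euler_seq κ (H11Ample.isCoh_tensor hF ((CMField.setup k (n + 1)).fam.inv 1)) (r - 1)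
  obtain ⟨e₁⟩ := nonempty_twist_twist F (r - 1)
  obtain ⟨e₂⟩ := nonempty_twist_twist F (r - 1 - 1)
  rw [H25Euler.euler_congr e₁, H25Euler.euler_congr e₂, sub_add_cancel, sub_add_cancel] at hadd
  obtain ⟨e₃⟩ := hiso (r - 1)
  haveI : (CohB1.tensorMod G (Twist.twistProjSpace n k (r - 1 + 1))).IsQuasicoherent :=
    (H11Ample.isCoh_tensor hG ((CMField.setup k n).fam.inv _)).1
  have hp := H28Int.Push.euler_push k e hek (CohB1.tensorMod G (Twist.twistProjSpace n k (r - 1 + 1)))
  rw [H25Euler.euler_congr e₃, hp, sub_add_cancel] at hadd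
  omega

/-- The regularity step. -/
theorem reg_step {F : (CohB1.ProjSpace (n + 1) k).Modules} (hF : Coh.IsCoh F) {G : (CohB1.ProjSpace n k).Modules}
    (hG : Coh.IsCoh G) (e : CohB1.ProjSpace n k ⟶ CohB1.ProjSpace (n + 1) k) [IsClosedImmersion e]
    (κ : CohB1.tensorMod (CohB1.tensorMod F (Twist.twistProjSpace (n + 1) k 1))
          (Twist.twistProjSpace (n + 1) k (-1)) ⟶ CohB1.tensorMod F (Twist.twistProjSpace (n + 1) k 1)) [Mono κ]
    (hiso : ∀ d : ℤ, Nonempty (CohB1.tensorMod (cokernel κ) (Twist.twistProjSpace (n + 1) k d) ≅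
        (Coh.push e).obj (CohB1.tensorMod G (Twist.twistProjSpace n k (d + 1))))) {M₀ : ℤ}
    (hregG : CMField.Reg (fun d : ℤ => Twist.twistProjSpace n k d) G M₀) :
    (∀ i, 2 ≤ i → CMField.Van i (CohB1.tensorMod F (Twist.twistProjSpace (n + 1) k (M₀ - 1)))) ∧
      ∀ μ : ℤ, M₀ + (Module.finrank k (Coh.HH (CohB1.ProjSpace (n + 1) k)
          (CohB1.tensorMod F (Twist.twistProjSpace (n + 1) k (M₀ - 1))) 1) : ℤ) ≤ μ →
        CMField.Reg (fun d : ℤ => Twist.twistProjSpace (n + 1) k d) F μ := by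
  haveI := CMHyper.noetherian k (n + 1)
  have hF₁ : Coh.IsCoh (CohB1.tensorMod F (Twist.twistProjSpace (n + 1) k 1)) :=
    H11Ample.isCoh_tensor hF ((CMField.setup k (n + 1)).fam.inv 1)
  have hregC : CMField.Reg (fun d : ℤ => Twist.twistProjSpace (n + 1) k d) (cokernel κ) (M₀ - 1) := by
    intro i hi
    obtain ⟨e₃⟩ := hiso (M₀ - 1 - i)
    refine H10Coh.Tw.subsingleton_of_iso e₃.symm
      (MumfordStep.van_push (H11Ample.isCoh_tensor hG ((CMField.setup k n).fam.inv _)) ?_)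
    have := hregG i hi
    rwa [show M₀ - 1 - (i : ℤ) + 1 = M₀ - i by ring]
  refine ⟨fun i hi => ?_, fun μ hμ i hi => ?_⟩
  · obtain ⟨e₁⟩ := nonempty_twist_twist F (M₀ - 1 - 1)
    have h2 := H10Coh.Tw.subsingleton_of_iso e₁
      (CMHyper.van_two hF₁ hregC hi (j := M₀ - 1 - 1) (by omega))
    rwa [sub_add_cancel] at h2
  · have hh1 : (CMHyper.h1 (CohB1.tensorMod F (Twist.twistProjSpace (n + 1) k 1)) (M₀ - 1 - 1) : ℤ) =
        Module.finrank k (Coh.HH (CohB1.ProjSpace (n + 1) k)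
          (CohB1.tensorMod F (Twist.twistProjSpace (n + 1) k (M₀ - 1))) 1) := by
      obtain ⟨e₁⟩ := nonempty_twist_twist F (M₀ - 1 - 1)
      have h2 := CurveAmple.finrank_HH_congr (k := k) e₁ 1
      rw [sub_add_cancel] at h2
      exact congrArg Nat.cast h2
    obtain ⟨e₁⟩ := nonempty_twist_twist F (μ - i - 1)
    have h2 : CMField.Van i (CohB1.tensorMod F (Twist.twistProjSpace (n + 1) k (μ - i - 1 + 1))) := by
      refine H10Coh.Tw.subsingleton_of_iso e₁ ?_
      rcases hi.lt_or_eq with h | h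
      · exact CMHyper.van_two hF₁ hregC h (by omega)
      · subst h
        exact CMHyper.van_one hF₁ hregC (by rw [hh1]; push_cast; omega)
    rwa [sub_add_cancel] at h2

end

/-- The regularity bound over infinite fields. -/
theorem exists_bound (p : ℕ) : ∀ n : ℕ, ∃ Pol : MvPolynomial (Fin (n + 1)) ℤ,
    ∀ (k : Type u) [Field k] [Infinite k] (F : (CohB1.ProjSpace n k).Modules),
      Coh.IsCoh F → (∃ ι : F ⟶ FlatMod.freeMod (CohB1.ProjSpace n k) p, Mono ι) →
      ∀ a : Fin (n + 1) → ℤ,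
        (∀ r : ℤ, Curv2.euler k (CohB1.ProjSpace n k) (CohB1.tensorMod F (Twist.twistProjSpace n k r)) =
          ∑ j : Fin (n + 1), a j * Ring.choose r (j : ℕ)) →
        CMField.Reg (fun d : ℤ => Twist.twistProjSpace n k d) F (MvPolynomial.eval a Pol) := by
  intro n
  induction n with
  | zero =>
    refine ⟨0, fun k _ _ F hF _ a _ i hi => ?_⟩
    exact CMField.van_high k 0 (by omega) (H11Ample.isCoh_tensor hF ((CMField.setup k 0).fam.inv _)).1
  | succ n ih =>
    obtain ⟨Pol', hPol'⟩ := ih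
    let M : MvPolynomial (Fin (n + 2)) ℤ := bind₁ (cutCoeff n) Pol' ^ 2 + 1
    refine ⟨M + (p : MvPolynomial (Fin (n + 2)) ℤ) * (((n + 1 : ℕ) : MvPolynomial (Fin (n + 2)) ℤ) + M) ^ (n + 1) +
      ∑ j : Fin (n + 2), X j ^ 2 * M ^ (j : ℕ), fun k _ _ F hF ⟨ι₀, hι⟩ a ha => ?_⟩
    haveI := hι
    haveI := proper_toSpec (k := k) (n := n + 1)
    haveI := proper_toSpec (k := k) (n := n)
    haveI := CMHyper.noetherian k (n + 1)
    haveI := CMHyper.noetherian k n
    obtain ⟨G, j, e, κ, hG, hj, hκ, he, hek, hiso⟩ := MumfordStep.exists_cut hF ι₀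
    haveI := hκ
    haveI := he
    have hs' := CMField.setup k n
    -- the Euler characteristics of the cut
    have hχ : ∀ r : ℤ, Curv2.euler k (CohB1.ProjSpace n k) (CohB1.tensorMod G (Twist.twistProjSpace n k r)) =
        ∑ i : Fin (n + 1), MvPolynomial.eval a (cutCoeff n i) * Ring.choose r (i : ℕ) := by
      intro r
      rw [sum_cutCoeff n a r, ← ha r, ← ha (r - 1)]
      exact euler_cut hF hG e hek κ hiso r
    let m₀ := MvPolynomial.eval a (bind₁ (cutCoeff n) Pol')
    let M₀ := MvPolynomial.eval a M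
    have hM₀ : M₀ = m₀ ^ 2 + 1 := by simp [M₀, M, m₀]
    have hM1 : 1 ≤ M₀ := by rw [hM₀]; nlinarith
    have hmM : m₀ ≤ M₀ := by rw [hM₀]; nlinarith
    have hregG : CMField.Reg (fun d : ℤ => Twist.twistProjSpace n k d) G M₀ := by
      have h1 := hPol' k G hG ⟨j, hj⟩ _ hχ
      have e1 : MvPolynomial.eval (fun i => MvPolynomial.eval a (cutCoeff n i)) Pol' = m₀ :=
        (MvPolynomial.eval₂Hom_bind₁ (RingHom.id ℤ) a (cutCoeff n) Pol').symm
      rw [e1] at h1
      obtain ⟨t, ht⟩ := Int.le.dest hmM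
      exact ht ▸ CMField.reg_add hs' h1 t
    obtain ⟨hhigh, hreg⟩ := reg_step hF hG e κ hiso hregG
    let h1 := Module.finrank k (Coh.HH (CohB1.ProjSpace (n + 1) k)
      (CohB1.tensorMod F (Twist.twistProjSpace (n + 1) k (M₀ - 1))) 1)
    let μ := MvPolynomial.eval a (M + (p : MvPolynomial (Fin (n + 2)) ℤ) *
      (((n + 1 : ℕ) : MvPolynomial (Fin (n + 2)) ℤ) + M) ^ (n + 1) + ∑ j : Fin (n + 2), X j ^ 2 * M ^ (j : ℕ))
    have hμ : M₀ + h1 ≤ μ := by
      obtain ⟨t, ht⟩ := Int.eq_ofNat_of_zero_le (show 0 ≤ M₀ - 1 by omega)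
      have hh0 := h0_le hF (Nat.succ_ne_zero n) ι₀ t
      have he := euler_two hhigh
      rw [ha (M₀ - 1)] at he
      rw [ht] at he
      have hb : ((t + (n + 1)).choose (n + 1) : ℤ) ≤ ((n + 1 : ℕ) + M₀) ^ (n + 1) := by
        refine le_trans ?_ (pow_le_pow_left₀ (Int.natCast_nonneg (t + (n + 1)))
          (show ((t + (n + 1) : ℕ) : ℤ) ≤ (n + 1 : ℕ) + M₀ by push_cast; omega) (n + 1))
        exact_mod_cast Nat.choose_le_pow _ _
      have hsum : -(∑ j : Fin (n + 2), a j * Ring.choose (t : ℤ) (j : ℕ)) ≤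
          ∑ j : Fin (n + 2), a j ^ 2 * M₀ ^ (j : ℕ) := by
        rw [← Finset.sum_neg_distrib]
        refine Finset.sum_le_sum fun j _ => ?_
        obtain ⟨h₀, h₁⟩ := choose_le_pow (Int.natCast_nonneg t) (show (t : ℤ) ≤ M₀ by omega) (j : ℕ)
        have hsq : -(a j) ≤ a j ^ 2 ∧ (0 : ℤ) ≤ a j ^ 2 := ⟨by rcases le_or_gt 0 (a j) with h | h <;> nlinarith, sq_nonneg _⟩
        nlinarith [mul_le_mul_of_nonneg_right hsq.1 h₀, mul_le_mul_of_nonneg_left h₁ hsq.2]
      have hμ' : μ = M₀ + (p : ℤ) * ((n + 1 : ℕ) + M₀) ^ (n + 1) + ∑ j : Fin (n + 2), a j ^ 2 * M₀ ^ (j : ℕ) := by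
        simp [μ, M₀]
      have hp : ((Module.finrank k (Coh.HH (CohB1.ProjSpace (n + 1) k)
          (CohB1.tensorMod F (Twist.twistProjSpace (n + 1) k ((t : ℕ) : ℤ))) 0) : ℕ) : ℤ) ≤ (p : ℤ) * ((n + 1 : ℕ) + M₀) ^ (n + 1) := by
        refine le_trans (Int.ofNat_le.2 hh0) ?_
        push_cast
        exact mul_le_mul_of_nonneg_left (by exact_mod_cast hb) (Int.natCast_nonneg p)
      have h1e : h1 = Module.finrank k (Coh.HH (CohB1.ProjSpace (n + 1) k) (CohB1.tensorMod F (Twist.twistProjSpace (n + 1) k (t : ℤ))) 1) := by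
        simp only [h1]
        rw [ht]
      rw [hμ', h1e]
      linarith [hp, hsum, he]
    exact hreg μ hμ

end Groth.Agent.H22Alg.MumfordBound
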