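import Mathlib
import Groth.Agent.H22Alg.MumfordBound
import Groth.Agent.H22Alg.PnBC
import Groth.Agent.S4406
import Groth.Agent.H28Int.FieldExt
import Groth.Agent.H16Derived.KFlat.RestrictD
import Groth.Agent.H16Derived.KFlat.SheafAssoc

/-!
# Mumford's bound over an arbitrary field
-/

set_option autoImplicit false
set_option linter.style.haveILetI false
universe u

open CategoryTheory CategoryTheory.Limits AlgebraicGeometry Opposite TopologicalSpace
open Groth.Agent

noncomputable section

namespace Groth.Agent.H22Alg.MumfordField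

variable (n : ℕ) (k K : Type u) [Field k] [Field K] [Algebra k K]

/-- The projection `P^n_K → P^n_k`. -/
def q : CohB1.ProjSpace n K ⟶ CohB1.ProjSpace n k :=
  Proj.map (PnBC.coeffMap n k K) (PnBC.irrelevant_le n k K)

theorem isPullback_q : IsPullback (q n k K) (CohB1.ProjSpace n K ↘ Spec (CommRingCat.of K))
    (CohB1.ProjSpace n k ↘ Spec (CommRingCat.of k)) (Spec.map (CommRingCat.ofHom (algebraMap k K))) :=
  PnBC.isPullback_projSpace n k K

theorem flat_q : AlgebraicGeometry.Flat (q n k K) := by
  haveI : AlgebraicGeometry.Flat (Spec.map (CommRingCat.ofHom (algebraMap k K))) :=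
    (HasRingHomProperty.Spec_iff (P := @AlgebraicGeometry.Flat)).2 (RingHom.flat_algebraMap_iff.2 inferInstance)
  exact MorphismProperty.of_isPullback (P := @AlgebraicGeometry.Flat) (isPullback_q n k K).flip inferInstance

theorem nonempty_pull_twist (d : ℤ) :
    Nonempty ((Scheme.Modules.pullback (q n k K)).obj (Twist.twistProjSpace n k d) ≅ Twist.twistProjSpace n K d) := by
  letI : Algebra (MvPolynomial (Fin (n + 1)) k) (MvPolynomial (Fin (n + 1)) K) := MvPolynomial.algebraMvPolynomial
  exact S4406.result (R := K) (R' := k) (CohB1.polyGrading n k) (CohB1.polyGrading n K) (PnBC.coeffMap n k K)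
    (fun _ => rfl) (PnBC.irrelevant_le n k K) d

variable {n k}

theorem nonempty_pull_tensor {F : (CohB1.ProjSpace n k).Modules} (d : ℤ) :
    Nonempty ((Scheme.Modules.pullback (q n k K)).obj (CohB1.tensorMod F (Twist.twistProjSpace n k d)) ≅
      CohB1.tensorMod ((Scheme.Modules.pullback (q n k K)).obj F) (Twist.twistProjSpace n K d)) := by
  obtain ⟨t⟩ := nonempty_pull_twist n k K d
  exact ⟨(show (Scheme.Modules.pullback (q n k K)).obj
      (((DCoh.tensorBi (X := CohB1.ProjSpace n k)).flip.obj (Twist.twistProjSpace n k d)).obj F) ≅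
        ((DCoh.tensorBi (X := CohB1.ProjSpace n K)).flip.obj
          ((Scheme.Modules.pullback (q n k K)).obj (Twist.twistProjSpace n k d))).obj
          ((Scheme.Modules.pullback (q n k K)).obj F) from
      (H16Derived.KFlat.Stalk.pullTensorLIso (q n k K) (Twist.twistProjSpace n k d)).app F) ≪≫
    PicGrp.tensorModIso (Iso.refl _) t⟩

/-- Mumford's regularity bound. -/
theorem exists_bound (p n : ℕ) : ∃ Pol : MvPolynomial (Fin (n + 1)) ℤ,
    ∀ (k : Type u) [Field k] (F : (CohB1.ProjSpace n k).Modules),
      Coh.IsCoh F → (∃ ι : F ⟶ FlatMod.freeMod (CohB1.ProjSpace n k) p, Mono ι) →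
      ∀ a : Fin (n + 1) → ℤ,
        (∀ r : ℤ, Curv2.euler k (CohB1.ProjSpace n k) (CohB1.tensorMod F (Twist.twistProjSpace n k r)) =
          ∑ j : Fin (n + 1), a j * Ring.choose r (j : ℕ)) →
        CMField.Reg (fun d : ℤ => Twist.twistProjSpace n k d) F (MvPolynomial.eval a Pol) := by
  obtain ⟨Pol, hPol⟩ := MumfordBound.exists_bound.{u} p n
  refine ⟨Pol, fun k _ F hF ⟨ι, hι⟩ a ha => ?_⟩
  haveI := hι
  let K := AlgebraicClosure k
  haveI : Infinite K := IsAlgClosed.instInfinite
  haveI := MumfordBound.proper_toSpec (k := k) (n := n)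
  haveI := MumfordBound.proper_toSpec (k := K) (n := n)
  haveI := CMHyper.noetherian k n
  haveI := CMHyper.noetherian K n
  haveI := flat_q n k K
  haveI := H16Derived.KFlat.Stalk.preservesFiniteLimits_pullback_of_flat (q n k K)
  let qs := Scheme.Modules.pullback (q n k K)
  haveI : Mono (qs.map ι) := inferInstance
  have hG : Coh.IsCoh (qs.obj F) := H17.ConsProp.isCoh_pullback _ hF
  have hreg := hPol K (qs.obj F) hG ⟨qs.map ι ≫ (MumfordStep.pullFreeIso (q n k K) p).hom, mono_comp _ _⟩ a
    (fun r => by
      obtain ⟨e⟩ := nonempty_pull_tensor (F := F) K r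
      rw [← H25Euler.euler_congr e, H28Int.FieldExt.euler_bc K (isPullback_q n k K)
        (H11Ample.isCoh_tensor hF ((CMField.setup k n).fam.inv r))]
      exact ha r)
  intro i hi
  obtain ⟨e⟩ := nonempty_pull_tensor (F := F) K (MvPolynomial.eval a Pol - i)
  haveI := CMField.van_iff.1 (H10Coh.Tw.subsingleton_of_iso e.symm (hreg i hi))
  have h1 := H28Int.FieldExt.finrank_HH_bc K (isPullback_q n k K)
    (H11Ample.isCoh_tensor hF ((CMField.setup k n).fam.inv (MvPolynomial.eval a Pol - i))) i
  rw [Module.finrank_zero_of_subsingleton] at h1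
  haveI := H10Coh.finite_HH_proper k _ _
    (H11Ample.isCoh_tensor hF ((CMField.setup k n).fam.inv (MvPolynomial.eval a Pol - i))) i
  exact CMField.van_iff.2 (Module.finrank_zero_iff.1 h1.symm)

/-- The vanishing above the dimension identifies the two Euler characteristics. -/
theorem euler_eq_eulerCharLE {k : Type u} [Field k] {n : ℕ} {M : (CohB1.ProjSpace n k).Modules} (hM : Coh.IsQCoh M) :
    Curv2.euler k (CohB1.ProjSpace n k) M = FGA.eulerCharLE k (CohB1.ProjSpace n k) M n := by
  haveI := MumfordBound.proper_toSpec (k := k) (n := n)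
  exact H25Euler.euler_eq_sum M (n + 1) fun i hi => CMField.van_iff.1 (CMField.van_high k n (by omega) hM)

end Groth.Agent.H22Alg.MumfordField
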