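import Mathlib
import Groth.Agent.H22Alg.MumfordField
import Groth.Agent.H10Coh.Stab.TwistInt
import Groth.Agent.H11Ample.Converse
import Groth.Agent.S10829
import Groth.Agent.S4466
import Groth.Agent.H29RR.BundleTwist

/-!
# Euler characteristics of twists in the binomial basis
-/

set_option autoImplicit false
set_option linter.style.haveILetI false
universe u

open CategoryTheory CategoryTheory.Limits AlgebraicGeometry Opposite TopologicalSpace
open Groth.Agent Polynomial

noncomputable section

namespace Groth.Agent.H22Alg.MumfordHilb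

/-- The binomial coefficient as a polynomial. -/
def choosePoly (j : ℕ) : ℚ[X] := C ((j.factorial : ℚ)⁻¹) * descPochhammer ℚ j

theorem eval_choosePoly (j : ℕ) (r : ℤ) : (choosePoly j).eval (r : ℚ) = (Ring.choose r j : ℤ) := by
  have h2 : (descPochhammer ℤ j).eval r = (j.factorial : ℤ) * Ring.choose r j := by
    rw [Polynomial.eval_eq_smeval, Ring.descPochhammer_eq_factorial_smul_choose, nsmul_eq_mul]
  have h3 : (descPochhammer ℚ j).eval (r : ℚ) = (j.factorial : ℚ) * (Ring.choose r j : ℤ) := by
    rw [← descPochhammer_map (Int.castRingHom ℚ), Polynomial.eval_intCast_map, Int.cast_id, h2, eq_intCast]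
    push_cast
    rfl
  rw [choosePoly, eval_mul, eval_C, h3, ← mul_assoc, inv_mul_cancel₀ (by exact_mod_cast j.factorial_ne_zero), one_mul]

theorem natDegree_choosePoly (j : ℕ) : (choosePoly j).natDegree ≤ j :=
  (natDegree_C_mul_le _ _).trans (descPochhammer_natDegree ℚ j).le

/-- The coefficients in the binomial basis. -/
def newton (f : ℤ → ℤ) (j : ℕ) : ℤ := (fwdDiff (1 : ℤ))^[j] f 0

/-- An integral valued polynomial function in the binomial basis. -/
theorem eq_newton_sum {n : ℕ} {f : ℤ → ℤ} {Q : ℚ[X]} (hQ : Q.natDegree ≤ n)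
    (hf : ∀ r : ℤ, (f r : ℚ) = Q.eval (r : ℚ)) (r : ℤ) :
    f r = ∑ j : Fin (n + 1), newton f j * Ring.choose r (j : ℕ) := by
  let Q' : ℚ[X] := ∑ j : Fin (n + 1), C (newton f j : ℚ) * choosePoly j
  have hQ' : ∀ r : ℤ, Q'.eval (r : ℚ) = ((∑ j : Fin (n + 1), newton f j * Ring.choose r (j : ℕ) : ℤ) : ℚ) := by
    intro r
    simp only [Q', eval_finsetSum, eval_mul, eval_C, eval_choosePoly]
    push_cast
    rfl
  have heq : Q = Q' := by
    refine Polynomial.eq_of_natDegree_lt_card_of_eval_eq' Q Q'
      ((Finset.range (n + 1)).image (Nat.cast : ℕ → ℚ)) ?_ ?_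
    · intro x hx
      obtain ⟨m, hm, rfl⟩ := Finset.mem_image.1 hx
      have h := shift_eq_sum_fwdDiff_iter (1 : ℤ) f m 0
      rw [zero_add, nsmul_eq_mul, mul_one] at h
      rw [← Int.cast_natCast, ← hf, hQ', h]
      congr 1
      rw [Fin.sum_univ_eq_sum_range (fun j => newton f j * Ring.choose (m : ℤ) j)]
      refine (Finset.sum_subset (Finset.range_subset_range.2 (Finset.mem_range.1 hm)) fun j _ hj => ?_).symm.trans
        (Finset.sum_congr rfl fun j _ => ?_) |>.symm
      · rw [Ring.choose_natCast, Nat.choose_eq_zero_of_lt (by simpa using hj), Nat.cast_zero, mul_zero]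
      · rw [Ring.choose_natCast, nsmul_eq_mul, mul_comm]
        rfl
    · rw [Finset.card_image_of_injective _ Nat.cast_injective, Finset.card_range]
      refine max_lt (Nat.lt_succ_of_le hQ) (Nat.lt_succ_of_le ?_)
      refine natDegree_sum_le_of_forall_le _ _ fun j _ => (natDegree_C_mul_le _ _).trans
        ((natDegree_choosePoly _).trans (Nat.le_of_lt_succ j.2))
  have := hf r
  rw [heq, hQ'] at this
  exact_mod_cast this

variable {k : Type u} [Field k] {n : ℕ}

/-- Euler characteristics of twists are polynomial of degree at most the dimension. -/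
theorem exists_poly {F : (CohB1.ProjSpace n k).Modules} (hF : Coh.IsCoh F) :
    ∃ Q : ℚ[X], Q.natDegree ≤ n ∧ ∀ r : ℤ,
      (Curv2.euler k (CohB1.ProjSpace n k) (CohB1.tensorMod F (Twist.twistProjSpace n k r)) : ℚ) = Q.eval (r : ℚ) := by
  haveI := MumfordBound.proper_toSpec (k := k) (n := n)
  have hfam := H10Coh.Stab.isTwistFamily_projSpace n k
  have hA : CohB1.IsAmple (Twist.twistProjSpace n k 1) := H11Ample.isAmple_twistProjSpace n k
  have hd : topologicalKrullDim (CohB1.support F) < ((n + 1 : ℕ) : WithBot ℕ∞) := by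
    refine lt_of_le_of_lt ((topologicalKrullDim_subspace_le _ _).trans (S10829.result k n).le) ?_
    exact_mod_cast Nat.lt_succ_self n
  obtain ⟨Q, hQ⟩ := H25Euler.exists_hilbPoly (k := k) hA hF hd
  refine ⟨Q, ?_, fun r => H10Coh.Stab.int_of_isHilbPoly hfam hA hF hd hQ r⟩
  refine natDegree_le_iff_coeff_eq_zero.2 fun m hm => ?_
  exact H25Euler.coeff_hilbPoly_eq_zero hA hF hQ hd hm

theorem euler_eq_newton {F : (CohB1.ProjSpace n k).Modules} (hF : Coh.IsCoh F) (r : ℤ) :
    Curv2.euler k (CohB1.ProjSpace n k) (CohB1.tensorMod F (Twist.twistProjSpace n k r)) =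
      ∑ j : Fin (n + 1), newton (fun r => Curv2.euler k (CohB1.ProjSpace n k)
        (CohB1.tensorMod F (Twist.twistProjSpace n k r))) j * Ring.choose r (j : ℕ) := by
  obtain ⟨Q, hQ, hf⟩ := exists_poly hF
  exact eq_newton_sum hQ hf r

/-- The Euler characteristic of a twisted free module. -/
theorem euler_free_twist (r : ℕ) (hn : 0 < n) (t : ℤ) :
    Curv2.euler k (CohB1.ProjSpace n k)
        (CohB1.tensorMod (FlatMod.freeMod (CohB1.ProjSpace n k) r) (Twist.twistProjSpace n k t)) =
      r * Ring.choose (t + n) n := by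
  haveI := MumfordBound.proper_toSpec (k := k) (n := n)
  let L := Twist.twistProjSpace n k t
  let B := (DCoh.tensorBi (X := CohB1.ProjSpace n k)).flip.obj L
  haveI : PreservesColimitsOfShape (Discrete (Fin r)) B := inferInstance
  let c : CohB1.tensorMod (FlatMod.freeMod (CohB1.ProjSpace n k) r) L ≅ ∐ fun _ : Fin r => L :=
    (PreservesCoproduct.iso B (fun _ : Fin r => Coh.structureModule (CohB1.ProjSpace n k))) ≪≫
      Sigma.mapIso fun _ : Fin r => H10Coh.Tw.leftUnitIso L
  rw [H25Euler.euler_congr c]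
  have h1 : Curv2.euler k (CohB1.ProjSpace n k) (∐ fun _ : Fin r => L) =
      r * Curv2.euler k (CohB1.ProjSpace n k) L := by
    refine H29RR.euler_of_decomposition (fun i => Sigma.ι (fun _ : Fin r => L) i)
      (fun i => Sigma.desc fun j => if j = i then 𝟙 _ else 0) (fun i => by simp) (fun i j h => by simp [h]) ?_
    refine Sigma.hom_ext _ _ fun j => ?_
    rw [Preadditive.comp_sum, Finset.sum_eq_single j]
    · simp
    · intro i _ hij
      simp [Ne.symm hij]
    · intro h; exact absurd (Finset.mem_univ j) h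
  haveI := CMHyper.noetherian k n
  rw [h1, MumfordField.euler_eq_eulerCharLE
    ((H11Ample.isCoh_of_isInvertible ((H10Coh.Stab.isTwistFamily_projSpace n k).inv t)).1)]
  exact congrArg _ (S4466.result k n hn t)

end Groth.Agent.H22Alg.MumfordHilb
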