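import Groth.Agent.H22Alg.MumfordField
import Groth.Agent.H22Alg.MumfordHilb
import Groth.Agent.H22Alg.MumfordStep
import Groth.Agent.H24Hilb.ClosedCounit
import Groth.Agent.H10Coh.Serre
import Groth.Agent.H10Coh.Stab.TwistInt
import Groth.Agent.H25Euler.ParOne
import Groth.Agent.H28Int.Push
import Groth.Agent.H10Coh.Proj.Coherent
import Groth.Agent.LeadProper.PushRpush
import Groth.Agent.H16Derived.ProjFormula.ClosedImm

/-! # Uniform vanishing for quotients of a free module with fixed Hilbert polynomial. -/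

set_option autoImplicit false
set_option linter.style.haveILetI false

universe u

open CategoryTheory CategoryTheory.Limits AlgebraicGeometry Opposite TopologicalSpace TensorProduct
attribute [local instance] Groth.Agent.H06Mod.stalkAlgebra

namespace Groth.Agent.H22Alg.MumfordQuot

open CMField

noncomputable section

section unit

variable {X Y : Scheme.{u}} (f : X ⟶ Y) [IsClosedImmersion f]

theorem pullStalk_surjective (F : Y.Modules) (x : X) : Function.Surjective (H06Mod.pullStalk f F x) := by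
  have hsurj : Function.Surjective (f.stalkMap x).hom := f.stalkMap_surjective x
  let A := Y.presheaf.stalk (f.base x)
  let B := X.presheaf.stalk x
  let M := F.presheaf.stalk (f.base x)
  intro z
  obtain ⟨t, rfl⟩ := (H06Mod.pullStalkEquiv f F x).surjective z
  induction t using TensorProduct.induction_on with
  | zero => exact ⟨0, (map_zero _).trans (map_zero _).symm⟩
  | add a b ha hb =>
    obtain ⟨m, hm⟩ := ha
    obtain ⟨m', hm'⟩ := hb
    exact ⟨m + m', by rw [map_add, hm, hm', map_add]⟩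
  | tmul r m =>
    obtain ⟨s, rfl⟩ := hsurj r
    refine ⟨s • m, ?_⟩
    refine ((H06Mod.pullStalkLin_tmul f F x 1 (s • m)).trans (one_smul _ _)).symm.trans ?_
    show H06Mod.pullStalkEquiv f F x ((1 : B) ⊗ₜ[A] (s • m)) = _
    congr 1
    rw [TensorProduct.tmul_smul, TensorProduct.smul_tmul', Algebra.smul_def, mul_one]
    rfl

theorem epi_unit (F : Y.Modules) :
    Epi ((Scheme.Modules.pullbackPushforwardAdjunction f).unit.app F) := by
  refine (H8Props.FunDescent.epi_iff _).2 fun y => ?_
  show Function.Surjective ((TopCat.Presheaf.stalkFunctor Ab.{u} y).map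
    ((Scheme.Modules.pullbackPushforwardAdjunction f).unit.app F).mapPresheaf)
  by_cases hy : y ∈ Set.range f.base
  · obtain ⟨x, rfl⟩ := hy
    intro b
    obtain ⟨a, ha⟩ := pullStalk_surjective f F x (H24Hilb.Closed.pushStalk f _ x b)
    exact ⟨a, (H24Hilb.Closed.pushStalk_bijective f _ x).1 ((H24Hilb.Closed.pushStalk_unit f F x a).trans ha)⟩
  · exact fun b => ⟨(0 : F.presheaf.stalk y), @Subsingleton.elim _
      (H24Hilb.Closed.subsingleton_stalk_push f ((Scheme.Modules.pullback f).obj F) y hy) _ b⟩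

end unit


section main

variable {k : Type u} [Field k] {n : ℕ}

local notation "P" => CohB1.ProjSpace n k
local notation "O" => fun d : ℤ => Twist.twistProjSpace n k d

theorem isCoh_free {X : Scheme.{u}} [IsLocallyNoetherian X] (N : ℕ) : Coh.IsCoh (FlatMod.freeMod X N) :=
  H10Coh.isCoh_sigma _ fun _ => H10Coh.isCoh_structureModule' X

theorem shortExact_kernel {X : Scheme.{u}} {A B : X.Modules} (g : A ⟶ B) [Epi g] :
    (ShortComplex.mk (kernel.ι g) g (kernel.condition g)).ShortExact :=
  { exact := ShortComplex.exact_kernel g }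

/-- The regularity of the kernels of quotients of `O^N` with given Hilbert polynomial. -/
theorem exists_reg_kernel (N : ℕ) (f : ℤ → ℤ) :
    ∃ m₀ : ℤ, ∀ (E : (P).Modules) (g : FlatMod.freeMod P N ⟶ E), Coh.IsCoh E → Epi g →
      (∀ t : ℤ, Curv2.euler k P (CohB1.tensorMod E (Twist.twistProjSpace n k t)) = f t) →
      Reg O (kernel g) m₀ := by
  haveI := CMHyper.noetherian k n
  rcases Nat.eq_zero_or_pos n with hn | hn
  · exact ⟨0, fun E g hE _ _ i hi => van_high k n (by omega)
      (H11Ample.isCoh_tensor (H10Coh.isCoh_kernel g (isCoh_free N) hE.1) ((setup k n).fam.inv _)).1⟩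
  obtain ⟨Pol, hPol⟩ := MumfordField.exists_bound.{u} N n
  let h : ℤ → ℤ := fun t => N * Ring.choose (t + n) n - f t
  refine ⟨MvPolynomial.eval (fun j : Fin (n + 1) => MumfordHilb.newton h j) Pol, fun E g hE hg hE' => ?_⟩
  haveI := hg
  haveI := MumfordBound.proper_toSpec (k := k) (n := n)
  have hK : Coh.IsCoh (kernel g) := H10Coh.isCoh_kernel g (isCoh_free N) hE.1
  have hh : (fun r : ℤ => Curv2.euler k P (CohB1.tensorMod (kernel g) (Twist.twistProjSpace n k r))) = h := by
    funext r
    have hi := (setup k n).fam.inv r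
    have := H25Euler.euler_add (k := k) (H10Coh.Tw.shortExact_seq (shortExact_kernel g) hi)
      (H11Ample.isCoh_tensor hK hi) (H11Ample.isCoh_tensor (isCoh_free N) hi) (H11Ample.isCoh_tensor hE hi)
    change Curv2.euler k P (CohB1.tensorMod (FlatMod.freeMod P N) _) = Curv2.euler k P (CohB1.tensorMod (kernel g) _) +
      Curv2.euler k P (CohB1.tensorMod E _) at this
    simp only [h]
    rw [← MumfordHilb.euler_free_twist (k := k) N hn r, ← hE' r]
    linarith
  refine hPol k (kernel g) hK ⟨kernel.ι g, inferInstance⟩ _ fun r => ?_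
  have := MumfordHilb.euler_eq_newton hK r
  rw [hh] at this
  exact this

end main


theorem isGloballyGenerated_pullback {X Y : Scheme.{u}} (f : X ⟶ Y) {M : Y.Modules}
    (h : Curv2.IsGloballyGenerated M) : Curv2.IsGloballyGenerated ((Scheme.Modules.pullback f).obj M) := by
  obtain ⟨I, p, hp⟩ := h
  haveI : @Epi Y.Modules _ _ _ p := hp
  haveI : (Scheme.Modules.pullback f).IsLeftAdjoint :=
    (Scheme.Modules.pullbackPushforwardAdjunction f).isLeftAdjoint
  haveI : (Scheme.Modules.pullback f).PreservesEpimorphisms :=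
    Functor.preservesEpimorphisms_of_adjunction (Scheme.Modules.pullbackPushforwardAdjunction f)
  haveI : PreservesColimitsOfSize.{u, u} (Scheme.Modules.pullback f) :=
    (Scheme.Modules.pullbackPushforwardAdjunction f).leftAdjoint_preservesColimits
  let e : (Scheme.Modules.pullback f).obj (∐ fun _ : I => Coh.structureModule Y) ≅
      ∐ fun _ : I => Coh.structureModule X :=
    (PreservesCoproduct.iso (Scheme.Modules.pullback f) fun _ : I => Coh.structureModule Y) ≪≫
      Sigma.mapIso fun _ => H16Derived.KFlat.Stalk.structurePullbackIso f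
  let p' : (∐ fun _ : I => Coh.structureModule Y) ⟶ M := p
  haveI : Epi p' := hp
  haveI : Epi ((Scheme.Modules.pullback f).map p') := (Scheme.Modules.pullback f).map_epi p'
  exact ⟨I, e.inv ≫ (Scheme.Modules.pullback f).map p', @epi_comp _ _ _ _ _ e.inv inferInstance _ ‹_›⟩

section quot

variable {k : Type u} [Field k] {n : ℕ} {X : Scheme.{u}} [X.Over (Spec (CommRingCat.of k))]
  [IsProper (X ↘ Spec (CommRingCat.of k))] (ι : X ⟶ CohB1.ProjSpace n k) [IsClosedImmersion ι]

local notation "P" => CohB1.ProjSpace n k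
set_option quotPrecheck false in
local notation "OX" => fun d : ℤ => (Scheme.Modules.pullback ι).obj (Twist.twistProjSpace n k d)

omit [X.Over (Spec (CommRingCat.of k))] [IsProper (X ↘ Spec (CommRingCat.of k))] in
theorem van_transfer {M : X.Modules} (hM : Coh.IsCoh M) {i : ℕ} {d : ℤ}
    (h : Van i (CohB1.tensorMod ((Coh.push ι).obj M) (Twist.twistProjSpace n k d))) :
    Subsingleton (Coh.HH X (CohB1.tensorMod M ((Scheme.Modules.pullback ι).obj (Twist.twistProjSpace n k d))) i) := by
  obtain ⟨e⟩ := H10Coh.Tw.nonempty_push_tensor_iso ι M ((setup k n).fam.inv d)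
  have h1 := H10Coh.Tw.subsingleton_of_iso e h
  have hi := H11Ample.isInvertible_pullback ι ((setup k n).fam.inv d)
  haveI := CMHyper.noetherian k n
  haveI : IsLocallyNoetherian X := LocallyOfFiniteType.isLocallyNoetherian ι
  haveI : (CohB1.tensorMod M ((Scheme.Modules.pullback ι).obj (Twist.twistProjSpace n k d))).IsQuasicoherent := (H11Ample.isCoh_tensor hM hi).1
  exact van_iff.1 ((H10Coh.affineLerayEquiv ι (CohB1.tensorMod M ((Scheme.Modules.pullback ι).obj (Twist.twistProjSpace n k d))) i ⊤).toEquiv.subsingleton_congr.1 h1)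

theorem euler_transfer (hι : ι ≫ CohB1.ProjSpace.toSpec n k = X ↘ Spec (CommRingCat.of k))
    {L : X.Modules} (eL : L ≅ (Scheme.Modules.pullback ι).obj (Twist.twistProjSpace n k 1)) {F : X.Modules} (hF : Coh.IsCoh F) {Q : Polynomial ℚ}
    (hQ : ShStab.IsHilbPoly k X L F Q) (t : ℤ) :
    (Curv2.euler k P (CohB1.tensorMod ((Coh.push ι).obj F) (Twist.twistProjSpace n k t)) : ℚ) = Q.eval (t : ℚ) := by
  haveI := CMHyper.noetherian k n
  haveI := MumfordBound.proper_toSpec (k := k) (n := n)
  haveI : CompactSpace X := QuasiCompact.compactSpace_of_compactSpace (X ↘ Spec (CommRingCat.of k))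
  haveI : IsLocallyNoetherian X := LocallyOfFiniteType.isLocallyNoetherian ι
  have hfam : H10Coh.Stab.IsTwistFamily OX := (H10Coh.Stab.isTwistFamily_projSpace n k).pullback ι
  have hA : CohB1.IsAmple ((Scheme.Modules.pullback ι).obj (Twist.twistProjSpace n k 1)) :=
    H11Ample.isAmple_pullback_of_isAffineHom ι (H11Ample.isAmple_twistProjSpace n k)
  have hd : topologicalKrullDim (CohB1.support F) < ((n + 1 : ℕ) : WithBot ℕ∞) := by
    refine lt_of_le_of_lt (((topologicalKrullDim_subspace_le _ _).trans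
      ι.isClosedEmbedding.isInducing.topologicalKrullDim_le).trans (S10829.result k n).le) ?_
    exact_mod_cast Nat.lt_succ_self n
  have hQ' : ShStab.IsHilbPoly k X ((Scheme.Modules.pullback ι).obj (Twist.twistProjSpace n k 1)) F Q := fun m =>
    (congrArg (fun z : ℤ => (z : ℚ)) (H25Euler.euler_congr (k := k)
      (PicGrp.tensorModIso (Iso.refl F) (H10Coh.Tw.tensorPowIso eL m))).symm).trans (hQ m)
  rw [← H10Coh.Stab.int_of_isHilbPoly hfam hA hF hd hQ' t]
  obtain ⟨e⟩ := H10Coh.Tw.nonempty_push_tensor_iso ι F ((setup k n).fam.inv t)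
  haveI : (CohB1.tensorMod F ((Scheme.Modules.pullback ι).obj (Twist.twistProjSpace n k t))).IsQuasicoherent := (H11Ample.isCoh_tensor hF (hfam.inv t)).1
  rw [H25Euler.euler_congr e, H28Int.Push.euler_push k ι hι]

omit [X.Over (Spec (CommRingCat.of k))] [IsProper (X ↘ Spec (CommRingCat.of k))] in
theorem gg_transfer {M : X.Modules} {d : ℤ}
    (h : Curv2.IsGloballyGenerated (CohB1.tensorMod ((Coh.push ι).obj M) (Twist.twistProjSpace n k d))) :
    Curv2.IsGloballyGenerated (CohB1.tensorMod M ((Scheme.Modules.pullback ι).obj (Twist.twistProjSpace n k d))) := by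
  obtain ⟨e⟩ := H10Coh.Tw.nonempty_push_tensor_iso ι M ((setup k n).fam.inv d)
  haveI := H24Hilb.Closed.isIso_counit_of_isClosedImmersion ι (CohB1.tensorMod M ((Scheme.Modules.pullback ι).obj (Twist.twistProjSpace n k d)))
  exact H11Ample.isGloballyGenerated_of_iso (@asIso _ _ _ _ _ (H24Hilb.Closed.isIso_counit_of_isClosedImmersion ι (CohB1.tensorMod M ((Scheme.Modules.pullback ι).obj (Twist.twistProjSpace n k d)))))
    (isGloballyGenerated_pullback ι (H11Ample.isGloballyGenerated_of_iso e h))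

theorem exists_uniform (hι : ι ≫ CohB1.ProjSpace.toSpec n k = X ↘ Spec (CommRingCat.of k))
    (L : X.Modules) (hL : Nonempty (L ≅ (Scheme.Modules.pullback ι).obj (Twist.twistProjSpace n k 1))) (N : ℕ) (Q : Polynomial ℚ) :
    ∃ l₀ : ℕ, ∀ (F : X.Modules) (q : FlatMod.freeMod X N ⟶ F),
      Coh.IsCoh F → Epi q → ShStab.IsHilbPoly k X L F Q →
        ∀ l : ℕ, l₀ ≤ l →
          (∀ i : ℕ, 0 < i → Subsingleton (Coh.HH X (ShStab.twist X L F l) i)) ∧
          (∀ i : ℕ, 0 < i → Subsingleton (Coh.HH X (ShStab.twist X L (kernel q) l) i)) ∧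
          Curv2.IsGloballyGenerated (ShStab.twist X L (kernel q) l) := by
  haveI := CMHyper.noetherian k n
  haveI := MumfordBound.proper_toSpec (k := k) (n := n)
  haveI : IsLocallyNoetherian X := LocallyOfFiniteType.isLocallyNoetherian ι
  haveI := H16Derived.ProjFormula.preservesHomology_push ι
  haveI : (Scheme.Modules.pushforward ι).IsRightAdjoint :=
    (Scheme.Modules.pullbackPushforwardAdjunction ι).isRightAdjoint
  obtain ⟨eL⟩ := hL
  have hs := setup k n
  obtain ⟨m₀, hm₀⟩ := exists_reg_kernel (k := k) (n := n) N fun t => ⌊Q.eval (t : ℚ)⌋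
  let E₀ : (P).Modules := (Coh.push ι).obj (FlatMod.freeMod X N)
  have hE₀ : Coh.IsCoh E₀ := H10Coh.isCoh_push_of_isFinite ι _ (isCoh_free N)
  obtain ⟨l₁, hl₁⟩ := CMHyper.exists_van hE₀
  refine ⟨(max (max m₀ l₁) 0).toNat + n + 1, fun F q hF hq hQ => ?_⟩
  haveI : Epi q := hq
  haveI := epi_unit ι (FlatMod.freeMod P N)
  let u₀ : FlatMod.freeMod P N ⟶ E₀ :=
    (Scheme.Modules.pullbackPushforwardAdjunction ι).unit.app _ ≫
      (Scheme.Modules.pushforward ι).map (MumfordStep.pullFreeIso ι N).hom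
  haveI hu₀ : Epi u₀ := @epi_comp _ _ _ _ _ _ (epi_unit ι (FlatMod.freeMod P N)) _ inferInstance
  let v : E₀ ⟶ (Coh.push ι).obj F := (Scheme.Modules.pushforward ι).map q
  haveI hv : Epi v := LeadProper.epi_push_map_of_isClosedImmersion ι q
  let g : FlatMod.freeMod P N ⟶ (Coh.push ι).obj F := u₀ ≫ v
  haveI hg : Epi g := epi_comp _ _
  have hE : Coh.IsCoh ((Coh.push ι).obj F) := H10Coh.isCoh_push_of_isFinite ι _ hF
  have hreg := hm₀ _ g hE hg fun t => by
    rw [← euler_transfer ι hι eL hF hQ t, Int.floor_intCast]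
  have hG : Coh.IsCoh (kernel q) := H10Coh.isCoh_kernel q (isCoh_free N) hF.1
  have hGP : Coh.IsCoh ((Coh.push ι).obj (kernel q)) := H10Coh.isCoh_push_of_isFinite ι _ hG
  let S : ShortComplex (P).Modules :=
    (ShortComplex.mk (kernel.ι q) q (kernel.condition q)).map (Scheme.Modules.pushforward ι)
  have hS : S.ShortExact :=
    { exact := (shortExact_kernel q).exact.map _
      mono_f := inferInstanceAs (Mono ((Scheme.Modules.pushforward ι).map (kernel.ι q)))
      epi_g := hv }
  have vanF : ∀ j : ℤ, m₀ ≤ j → 0 ≤ j → ∀ i, 1 ≤ i →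
      Van i (CohB1.tensorMod ((Coh.push ι).obj F) (Twist.twistProjSpace n k j)) := fun j hj hj0 i hi => by
    refine H10Coh.Tw.subsingleton_X₃ (H10Coh.shortExact_sh (H10Coh.Tw.shortExact_seq (shortExact_kernel g) (hs.fam.inv j))) ?_ ?_
    · exact CMStep.van_free k n N hi (by omega) (Iso.refl _)
    · obtain ⟨t, ht⟩ := Int.le.dest (show m₀ ≤ j + ((i + 1 : ℕ) : ℤ) by omega)
      have := reg_add hs hreg t (i + 1) (by omega)
      rwa [show m₀ + (t : ℤ) - ((i + 1 : ℕ) : ℤ) = j by omega] at this
  have vanG : ∀ j : ℤ, m₀ ≤ j → l₁ ≤ j → 0 ≤ j → ∀ i, 1 ≤ i →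
      Van i (CohB1.tensorMod ((Coh.push ι).obj (kernel q)) (Twist.twistProjSpace n k j)) := fun j hj hj1 hj0 i hi => by
    have hT := H10Coh.Tw.shortExact_seq hS (hs.fam.inv j)
    obtain ⟨p, rfl⟩ : ∃ p, i = p + 1 := ⟨i - 1, by omega⟩
    rcases Nat.eq_zero_or_pos p with rfl | hp
    · refine CMStep.van_left_one hT (hl₁ j hj1 1 le_rfl) ?_
      have h1 : Van 1 (CohB1.tensorMod (kernel g) (Twist.twistProjSpace n k j)) := by
        obtain ⟨t, ht⟩ := Int.le.dest (show m₀ ≤ j + 1 by omega)
        have := reg_add hs hreg t 1 le_rfl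
        rwa [show m₀ + (t : ℤ) - ((1 : ℕ) : ℤ) = j by omega] at this
      have hsurj := H10Coh.surjective_app_of_subsingleton_HnM
        (H10Coh.Tw.shortExact_seq (shortExact_kernel g) (hs.fam.inv j)) ⊤ h1
      intro y
      obtain ⟨x, hx⟩ := hsurj y
      refine ⟨(LimSh.tensorModMap u₀ (Twist.twistProjSpace n k j)).app ⊤ x, Eq.trans ?_ hx⟩
      show (LimSh.tensorModMap v (Twist.twistProjSpace n k j)).app ⊤ _ =
        (LimSh.tensorModMap (u₀ ≫ v) (Twist.twistProjSpace n k j)).app ⊤ x
      rw [LimSh.tensorModMap_comp u₀ v]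
      rfl
    · exact CMStep.van_left (H10Coh.shortExact_sh hT) (hl₁ j hj1 (p + 1) (by omega)) (vanF j hj hj0 p hp)
  intro l hl
  have hfam : H10Coh.Stab.IsTwistFamily OX := (H10Coh.Stab.isTwistFamily_projSpace n k).pullback ι
  obtain ⟨ep⟩ := hfam.nonempty_tensorPow l
  let tw : ∀ M : X.Modules, ShStab.twist X L M l ≅ CohB1.tensorMod M ((Scheme.Modules.pullback ι).obj (Twist.twistProjSpace n k l)) := fun M =>
    PicGrp.tensorModIso (Iso.refl M) (H10Coh.Tw.tensorPowIso eL l ≪≫ ep)
  refine ⟨fun i hi => ?_, fun i hi => ?_, ?_⟩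
  · exact van_iff.1 (H10Coh.Tw.subsingleton_of_iso (tw F).symm
      (van_iff.2 (van_transfer ι hF (vanF l (by omega) (by omega) i hi))))
  · exact van_iff.1 (H10Coh.Tw.subsingleton_of_iso (tw _).symm
      (van_iff.2 (van_transfer ι hG (vanG l (by omega) (by omega) (by omega) i hi))))
  · refine H11Ample.isGloballyGenerated_of_iso (tw _).symm (gg_transfer ι ?_)
    refine CMField.isGloballyGenerated hs (H11Ample.isAmple_twistProjSpace n k) hGP fun i hi => ?_
    by_cases hin : i ≤ n
    · exact vanG _ (by omega) (by omega) (by omega) i hi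
    · exact van_high k n (by omega) (H11Ample.isCoh_tensor hGP (hs.fam.inv _)).1

end quot

end

end Groth.Agent.H22Alg.MumfordQuot
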