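import Groth.Agent.H22Alg.BoundedCoker
import Groth.Agent.H22Alg.MumfordQuot
import Groth.Agent.H22Alg.CMStep

/-! # Regular sheaves with given Hilbert polynomial form a bounded family. -/

set_option autoImplicit false
set_option linter.style.haveILetI false

universe u

open CategoryTheory CategoryTheory.Limits AlgebraicGeometry Opposite TopologicalSpace

namespace Groth.Agent.H22Alg.MumfordBdd

open CMField

noncomputable section

section proj

variable {k : Type u} [Field k] {n : ℕ}

local notation "P" => CohB1.ProjSpace n k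
local notation "O" => fun d : ℤ => Twist.twistProjSpace n k d

theorem finrank_h0_eq_euler {M : (P).Modules} (h : ∀ i, 1 ≤ i → Van i M) :
    (Module.finrank k (Coh.HH P M 0) : ℤ) = Curv2.euler k P M := by
  rw [H25Euler.euler_eq_sum M 1 fun i hi => van_iff.1 (h i hi)]
  simp

theorem van_at {E : (P).Modules} {m : ℤ} (h : Reg O E m) {j : ℤ} (hj : m - 1 ≤ j) :
    ∀ i, 1 ≤ i → Van i (CohB1.tensorMod E (Twist.twistProjSpace n k j)) := fun i hi => by
  obtain ⟨t, ht⟩ := Int.le.dest (show m ≤ j + (i : ℤ) by omega)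
  have := reg_add (setup k n) h t i hi
  rwa [show m + (t : ℤ) - (i : ℤ) = j by omega] at this

/-- A regular module with given Hilbert function is the cokernel of a map between two fixed modules. -/
theorem exists_presentation (m : ℤ) (f : ℤ → ℤ) :
    ∃ a b : ℕ, ∀ E : (P).Modules, Coh.IsCoh E → Reg O E m →
      (∀ d : ℤ, Curv2.euler k P (CohB1.tensorMod E (Twist.twistProjSpace n k d)) = f d) →
      ∃ u : (∐ fun _ : Fin b => Twist.twistProjSpace n k (-(m + 1))) ⟶ ∐ fun _ : Fin a => Twist.twistProjSpace n k (-m),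
        Nonempty (cokernel u ≅ E) := by
  haveI := CMHyper.noetherian k n
  haveI := MumfordBound.proper_toSpec (k := k) (n := n)
  let a := (f m).toNat
  let A : (P).Modules := ∐ fun _ : Fin a => Twist.twistProjSpace n k (-m)
  refine ⟨a, (Curv2.euler k P (CohB1.tensorMod A (Twist.twistProjSpace n k (m + 1))) - f (m + 1)).toNat,
    fun E hE hreg hf => ?_⟩
  have hs := setup k n
  obtain ⟨a', φ, hφ, hK, ha'⟩ := CMStep.exists_step_le hE hreg
  obtain rfl : a' = a := by
    have h1 := finrank_h0_eq_euler (van_at hreg (j := m) (by omega))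
    rw [hf] at h1
    show a' = (f m).toNat
    rw [← h1, Int.toNat_natCast]
    exact ha'
  haveI := hφ
  have hA : Coh.IsCoh A := H10Coh.isCoh_sigma _ fun _ => H11Ample.isCoh_of_isInvertible (hs.fam.inv (-m))
  have hKc : Coh.IsCoh (kernel φ) := H10Coh.isCoh_kernel φ hA hE.1
  obtain ⟨b', ψ, hψ, -, hb'⟩ := CMStep.exists_step_le hKc hK
  obtain rfl : b' = (Curv2.euler k P (CohB1.tensorMod A (Twist.twistProjSpace n k (m + 1))) - f (m + 1)).toNat := by
    have hi := hs.fam.inv (m + 1)
    have h1 := finrank_h0_eq_euler (van_at hK (j := m + 1) (by omega))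
    have h2 := H25Euler.euler_add (k := k)
      (H10Coh.Tw.shortExact_seq (MumfordQuot.shortExact_kernel φ) hi)
      (H11Ample.isCoh_tensor hKc hi) (H11Ample.isCoh_tensor hA hi) (H11Ample.isCoh_tensor hE hi)
    change Curv2.euler k P (CohB1.tensorMod A _) = Curv2.euler k P (CohB1.tensorMod (kernel φ) _) +
      Curv2.euler k P (CohB1.tensorMod E _) at h2
    rw [hf] at h2
    have h3 : Curv2.euler k P (CohB1.tensorMod A (Twist.twistProjSpace n k (m + 1))) - f (m + 1) =
        (Module.finrank k (Coh.HH P (CohB1.tensorMod (kernel φ) (Twist.twistProjSpace n k (m + 1))) 0) : ℤ) := by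
      linarith
    rw [h3, Int.toNat_natCast]
    exact hb'
  haveI := hψ
  exact ⟨ψ ≫ kernel.ι φ, ⟨(cokernelEpiComp ψ (kernel.ι φ)) ≪≫
    (cokernelIsCokernel (kernel.ι φ)).coconePointUniqueUpToIso (MumfordQuot.shortExact_kernel φ).gIsCokernel⟩⟩

end proj

section main

variable {k : Type u} [Field k] {n : ℕ} {X : Scheme.{u}} [X.Over (Spec (CommRingCat.of k))]
  [IsProper (X ↘ Spec (CommRingCat.of k))] (ι : X ⟶ CohB1.ProjSpace n k) [IsClosedImmersion ι]

omit [X.Over (Spec (CommRingCat.of k))] [IsProper (X ↘ Spec (CommRingCat.of k))] in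
theorem van_push_iff {M : X.Modules} (hM : Coh.IsCoh M) (i : ℕ) (d : ℤ) :
    Van i (CohB1.tensorMod ((Coh.push ι).obj M) (Twist.twistProjSpace n k d)) ↔
      Subsingleton (Coh.HH X (Pic13.twistOn k ι M d) i) := by
  refine ⟨MumfordQuot.van_transfer ι hM, fun h => ?_⟩
  obtain ⟨e⟩ := H10Coh.Tw.nonempty_push_tensor_iso ι M ((setup k n).fam.inv d)
  haveI := CMHyper.noetherian k n
  haveI : IsLocallyNoetherian X := LocallyOfFiniteType.isLocallyNoetherian ι
  haveI : (Pic13.twistOn k ι M d).IsQuasicoherent :=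
    (H11Ample.isCoh_tensor hM (H11Ample.isInvertible_pullback ι ((setup k n).fam.inv d))).1
  exact H10Coh.Tw.subsingleton_of_iso e.symm
    ((H10Coh.affineLerayEquiv ι (Pic13.twistOn k ι M d) i ⊤).toEquiv.subsingleton_congr.2 (van_iff.2 h))

theorem isBounded (hι : ι ≫ CohB1.ProjSpace.toSpec n k = X ↘ Spec (CommRingCat.of k)) (m : ℤ) (φ : Polynomial ℚ) :
    Pic13.IsBounded k X (fun F : X.Modules => Coh.IsCoh F ∧ Pic13.IsMRegular k ι F m ∧
      ∀ d : ℤ, (FGA.eulerCharLE k X (Pic13.twistOn k ι F d) n : ℚ) = φ.eval (d : ℚ)) := by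
  haveI := CMHyper.noetherian k n
  haveI := MumfordBound.proper_toSpec (k := k) (n := n)
  haveI : IsLocallyNoetherian X := LocallyOfFiniteType.isLocallyNoetherian ι
  have hs := setup k n
  obtain ⟨a, b, hab⟩ := exists_presentation (k := k) (n := n) m fun d => ⌊φ.eval (d : ℚ)⌋
  let A : X.Modules := (Scheme.Modules.pullback ι).obj (∐ fun _ : Fin a => Twist.twistProjSpace n k (-m))
  let B : X.Modules := (Scheme.Modules.pullback ι).obj (∐ fun _ : Fin b => Twist.twistProjSpace n k (-(m + 1)))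
  refine BoundedCoker.isBounded_cokernels (A := A) (B := B)
    (H17.ConsProp.isCoh_pullback ι (H10Coh.isCoh_sigma _ fun _ => H11Ample.isCoh_of_isInvertible (hs.fam.inv _)))
    (H17.ConsProp.isCoh_pullback ι (H10Coh.isCoh_sigma _ fun _ => H11Ample.isCoh_of_isInvertible (hs.fam.inv _)))
    _ fun F hF => ?_
  obtain ⟨hc, hreg, hφ⟩ := hF
  have hE : Coh.IsCoh ((Coh.push ι).obj F) := H10Coh.isCoh_push_of_isFinite ι _ hc
  obtain ⟨u, ⟨e⟩⟩ := hab _ hE (fun i hi => (van_push_iff ι hc i _).2 (hreg i hi)) fun d => by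
    have hi := hs.fam.inv d
    haveI : (Pic13.twistOn k ι F d).IsQuasicoherent :=
      (H11Ample.isCoh_tensor hc (H11Ample.isInvertible_pullback ι hi)).1
    obtain ⟨e⟩ := H10Coh.Tw.nonempty_push_tensor_iso ι F hi
    have h1 : Curv2.euler k X (Pic13.twistOn k ι F d) = FGA.eulerCharLE k X (Pic13.twistOn k ι F d) n :=
      H25Euler.euler_eq_sum _ (n + 1) fun i hi' =>
        (van_push_iff ι hc i d).1 (van_high k n (by omega) (H11Ample.isCoh_tensor hE hi).1)
    haveI : (CohB1.tensorMod F ((Scheme.Modules.pullback ι).obj (Twist.twistProjSpace n k d))).IsQuasicoherent :=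
      (H11Ample.isCoh_tensor hc (H11Ample.isInvertible_pullback ι hi)).1
    rw [H25Euler.euler_congr e, H28Int.Push.euler_push k ι hι]
    show Curv2.euler k X (Pic13.twistOn k ι F d) = _
    rw [h1, ← hφ d, Int.floor_intCast]
  haveI : (Scheme.Modules.pullback ι).IsLeftAdjoint :=
    (Scheme.Modules.pullbackPushforwardAdjunction ι).isLeftAdjoint
  haveI : (Scheme.Modules.pullback ι).Additive :=
    (Scheme.Modules.pullbackPushforwardAdjunction ι).left_adjoint_additive
  exact ⟨(Scheme.Modules.pullback ι).map u, ⟨(PreservesCokernel.iso (Scheme.Modules.pullback ι) u).symm ≪≫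
    (Scheme.Modules.pullback ι).mapIso e ≪≫
    @asIso _ _ _ _ _ (H24Hilb.Closed.isIso_counit_of_isClosedImmersion ι F)⟩⟩

end main

end

end Groth.Agent.H22Alg.MumfordBdd
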