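import Mathlib

/-! # Resolutions spliced from short exact sequences. -/

set_option autoImplicit false

universe v u

open CategoryTheory CategoryTheory.Limits

noncomputable section

namespace Groth.Agent.H22Alg.SyzResolution

variable {C : Type u} [Category.{v} C] [Abelian C] {L Z : ℕ → C} (π : ∀ k, L k ⟶ Z k) (ι : ∀ k, Z (k + 1) ⟶ L k)
  (w : ∀ k, ι k ≫ π k = 0)

/-- The spliced complex. -/
def cx : ChainComplex C ℕ :=
  ChainComplex.of L (fun k => π (k + 1) ≫ ι k) (fun k => by
    rw [Category.assoc, ← Category.assoc (ι (k + 1)), w (k + 1), zero_comp, comp_zero])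

theorem cx_d (k : ℕ) : (cx π ι w).d (k + 1) k = (π (k + 1) ≫ ι k : L (k + 1) ⟶ L k) :=
  ChainComplex.of_d L (fun k => π (k + 1) ≫ ι k) k

theorem d_comp : (cx π ι w).d 1 0 ≫ π 0 = 0 := by
  refine (congrArg (· ≫ π 0) (cx_d π ι w 0)).trans ((Category.assoc _ _ _).trans ?_)
  rw [w 0]
  exact comp_zero

/-- The augmentation. -/
def aug : cx π ι w ⟶ (ChainComplex.single₀ C).obj (Z 0) :=
  (ChainComplex.toSingle₀Equiv _ _).symm ⟨π 0, d_comp π ι w⟩

theorem quasiIso_aug (h : ∀ k, (ShortComplex.mk (ι k) (π k) (w k)).ShortExact) : QuasiIso (aug π ι w) := by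
  refine ⟨fun n => ?_⟩
  haveI : ∀ k, Epi (π k) := fun k => (h k).epi_g
  haveI : ∀ k, Mono (ι k) := fun k => (h k).mono_f
  cases n with
  | zero =>
    rw [ChainComplex.quasiIsoAt₀_iff, ShortComplex.quasiIso_iff_of_zeros']
    · refine (ShortComplex.exact_and_epi_g_iff_of_iso
        (S₂ := ShortComplex.mk ((cx π ι w).d 1 0) (π 0) (d_comp π ι w)) ?_).2 ⟨?_, inferInstanceAs (Epi (π 0))⟩
      · exact ShortComplex.isoMk (Iso.refl _) (Iso.refl _) (Iso.refl _)
          ((Category.id_comp _).trans (Category.comp_id _).symm)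
          (by
            show 𝟙 _ ≫ π 0 = (aug π ι w).f 0 ≫ 𝟙 _
            rw [aug, ChainComplex.toSingle₀Equiv_symm_apply_f_zero]
            exact (Category.id_comp _).trans (Category.comp_id _).symm)
      · let ψ : ShortComplex.mk ((cx π ι w).d 1 0) (π 0) (d_comp π ι w) ⟶ ShortComplex.mk (ι 0) (π 0) (w 0) :=
          ShortComplex.homMk (π 1) (𝟙 _) (𝟙 _) ((cx_d π ι w 0).symm.trans (Category.comp_id _).symm)
            ((Category.id_comp _).trans (Category.comp_id _).symm)
        have : Epi ψ.τ₁ := inferInstanceAs (Epi (π 1))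
        have : IsIso ψ.τ₂ := inferInstanceAs (IsIso (𝟙 _))
        have : Mono ψ.τ₃ := inferInstanceAs (Mono (𝟙 _))
        exact (ShortComplex.exact_iff_of_epi_of_isIso_of_mono ψ).mpr (h 0).exact
    all_goals rfl
  | succ n =>
    rw [quasiIsoAt_iff_exactAt']
    · rw [HomologicalComplex.exactAt_iff' _ (n + 1 + 1) (n + 1) n (by simp) (by simp)]
      have w' : ι (n + 1) ≫ (cx π ι w).d (n + 1) n = 0 := by
        refine (congrArg (ι (n + 1) ≫ ·) (cx_d π ι w n)).trans ((Category.assoc _ _ _).symm.trans ?_)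
        rw [w (n + 1)]
        exact zero_comp
      let ψ : (cx π ι w).sc' (n + 1 + 1) (n + 1) n ⟶ ShortComplex.mk (ι (n + 1)) _ w' :=
        ShortComplex.homMk (π (n + 1 + 1)) (𝟙 _) (𝟙 _) ((cx_d π ι w (n + 1)).symm.trans (Category.comp_id _).symm)
          ((Category.id_comp _).trans (Category.comp_id _).symm)
      have : Epi ψ.τ₁ := inferInstanceAs (Epi (π (n + 1 + 1)))
      have : IsIso ψ.τ₂ := inferInstanceAs (IsIso (𝟙 _))
      have : Mono ψ.τ₃ := inferInstanceAs (Mono (𝟙 _))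
      refine (ShortComplex.exact_iff_of_epi_of_isIso_of_mono ψ).mpr ?_
      let φ : ShortComplex.mk (ι (n + 1)) (π (n + 1)) (w (n + 1)) ⟶ ShortComplex.mk (ι (n + 1)) _ w' :=
        ShortComplex.homMk (𝟙 _) (𝟙 _) (ι n) ((Category.id_comp _).trans (Category.comp_id _).symm)
          ((Category.id_comp _).trans (cx_d π ι w n))
      have : Epi φ.τ₁ := inferInstanceAs (Epi (𝟙 _))
      have : IsIso φ.τ₂ := inferInstanceAs (IsIso (𝟙 _))
      have : Mono φ.τ₃ := inferInstanceAs (Mono (ι n))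
      exact (ShortComplex.exact_iff_of_epi_of_isIso_of_mono φ).mp (h (n + 1)).exact
    · exact ChainComplex.exactAt_succ_single_obj _ _

end Groth.Agent.H22Alg.SyzResolution
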