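import Groth.Agent.H22Alg.ResEuler
import Groth.Agent.H22Alg.SyzResolution
import Groth.Agent.H22Alg.KModel
import Groth.Agent.H27KZero.Coherent
import Groth.Agent.H10Coh.FinType2
import Groth.Agent.H16Derived.KFlat.PerfCoh
import Groth.Agent.H8Props.FlatLocus.Sheaf
import Groth.Agent.H06Mod.StalkExact
import Groth.Agent.H06Mod.StalkFinite

/-! # Finite locally free resolutions of coherent modules and their classes in `K(X)`. -/

set_option autoImplicit false
set_option linter.style.haveILetI false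

universe v u w

open CategoryTheory CategoryTheory.Limits AlgebraicGeometry ZeroObject

noncomputable section

namespace Groth.Agent.H22Alg.KLFRes

open ResEuler H16Derived.KFlat.Stalk

variable {X : Scheme.{u}}

theorem isFlat_mid {S : ShortComplex X.Modules} (hS : S.ShortExact) (h₁ : FlatMod.IsFlat S.X₁)
    (h₃ : FlatMod.IsFlat S.X₃) : FlatMod.IsFlat S.X₂ := fun x => by
  haveI : Module.Flat (X.presheaf.stalk x) (S.X₁.presheaf.stalk x) := h₁ x
  haveI : Module.Flat (X.presheaf.stalk x) (S.X₃.presheaf.stalk x) := h₃ x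
  exact H06Mod.flat_of_exact_middle (H06Mod.stalkLin S.f x) (H06Mod.stalkLin S.g x)
    (H06Mod.stalk_injective S hS x) (H06Mod.stalk_exact S hS x) (H06Mod.stalk_surjective S hS x)

variable [IsLocallyNoetherian X]

theorem finLocFree_of_coh_flat {M : X.Modules} (hM : Coh.IsCoh M) (h : FlatMod.IsFlat M) :
    FlatMod.IsFinLocFree M := isFinLocFree_of_isFP_flat (H10Coh.isFP_of_isCoh M hM) h

theorem finLocFree_mid {S : ShortComplex X.Modules} (hS : S.ShortExact) (h₁ : FlatMod.IsFinLocFree S.X₁)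
    (h₃ : FlatMod.IsFinLocFree S.X₃) : FlatMod.IsFinLocFree S.X₂ :=
  finLocFree_of_coh_flat (H27KZero.isCoh_extension hS (isCoh_of_isFinLocFree h₁) (isCoh_of_isFinLocFree h₃))
    (isFlat_mid hS (isFlat_of_isFinLocFree h₁) (isFlat_of_isFinLocFree h₃))

theorem isCoh_left {S : ShortComplex X.Modules} (hS : S.ShortExact) (h₂ : Coh.IsCoh S.X₂)
    (h₃ : Coh.IsCoh S.X₃) : Coh.IsCoh S.X₁ :=
  haveI := hS.mono_f
  H10Coh.isCoh_of_iso (IsLimit.conePointUniqueUpToIso (limit.isLimit _) hS.fIsKernel)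
    (H10Coh.isCoh_kernel S.g h₂ h₃.1)

variable (X) in
/-- Bundles. -/
abbrev vb : X.Modules → Prop := fun M => FlatMod.IsFinLocFree M

variable (X) in
/-- Coherent modules. -/
abbrev coh : X.Modules → Prop := fun M => Coh.IsCoh M

/-- The context of bundles inside coherent modules. -/
theorem ctx (hX : KRR.HasEnoughLocFree X) {G : Type w} [AddCommGroup G] (c : X.Modules → G)
    (hc : ∀ S : ShortComplex X.Modules, S.ShortExact → FlatMod.IsFinLocFree S.X₁ → FlatMod.IsFinLocFree S.X₂ →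
      FlatMod.IsFinLocFree S.X₃ → c S.X₂ = c S.X₁ + c S.X₃) : Ctx (vb X) (coh X) c where
  zero _ h := isFinLocFree_of_isZero h
  ext _ hS h₁ h₃ := finLocFree_mid hS h₁ h₃
  ker _ hS h₂ h₃ := isFinLocFree_left hS h₂ h₃
  le _ h := isCoh_of_isFinLocFree h
  aker _ hS h₂ h₃ := isCoh_left hS h₂ h₃
  aext _ hS h₁ h₃ := H27KZero.isCoh_extension hS h₁ h₃
  cover M hM := let ⟨E, p, hE, hp⟩ := hX M hM; ⟨E, p, hE, hp⟩
  add := hc

/-- The context with values in `K(X)`. -/
theorem ctxK (hX : KRR.HasEnoughLocFree X) : Ctx (vb X) (coh X) (KRR.cl X) :=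
  ctx hX _ fun _ hS h₁ h₂ h₃ => KModel.cl_add hS h₁ h₂ h₃

variable {G : Type w} [AddCommGroup G] {c : X.Modules → G}

theorem val_of_seq (h : Ctx (vb X) (coh X) c) : ∀ (n : ℕ) (M : X.Modules) (K : ℕ → X.Modules)
    (d : ∀ j, K (j + 1) ⟶ K j) (g : K 0 ⟶ M) (w : d 0 ≫ g = 0) (w' : ∀ j, d (j + 1) ≫ d j = 0),
    Epi g → (ShortComplex.mk (d 0) g w).Exact → (∀ j, (ShortComplex.mk (d (j + 1)) (d j) (w' j)).Exact) →
    (∀ j, FlatMod.IsFinLocFree (K j)) → (∀ j, n < j → IsZero (K j)) → Coh.IsCoh M →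
    Val (vb X) (coh X) c n M (∑ k ∈ Finset.range (n + 1), (-1 : ℤ) ^ k • c (K k))
  | 0, M, K, d, g, w, w', hg, hex, _, hK, hz, hM => by
    haveI : Mono g := hex.mono_g ((hz 1 Nat.zero_lt_one).eq_of_src _ _)
    haveI := isIso_of_mono_of_epi g
    refine val_iso h (asIso g) ⟨h.le _ (hK 0), hK 0, ?_⟩
    simp
  | n + 1, M, K, d, g, w, w', hg, hex, hexs, hK, hz, hM => by
    have wl : d (0 + 1) ≫ kernel.lift g (d 0) w = 0 := by
      rw [← cancel_mono (kernel.ι g), Category.assoc, kernel.lift_ι, zero_comp]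
      exact w' 0
    have hl : Epi (kernel.lift g (d 0) w) := (ShortComplex.exact_iff_epi_kernel_lift _).1 hex
    have hex' : (ShortComplex.mk (d (0 + 1)) (kernel.lift g (d 0) w) wl).Exact := by
      let ψ : ShortComplex.mk (d (0 + 1)) (kernel.lift g (d 0) w) wl ⟶ ShortComplex.mk (d (0 + 1)) (d 0) (w' 0) :=
        ShortComplex.homMk (𝟙 _) (𝟙 _) (kernel.ι g) (by simp) (by simp)
      haveI : Epi ψ.τ₁ := inferInstanceAs (Epi (𝟙 _))
      haveI : IsIso ψ.τ₂ := inferInstanceAs (IsIso (𝟙 _))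
      haveI : Mono ψ.τ₃ := inferInstanceAs (Mono (kernel.ι g))
      exact (ShortComplex.exact_iff_of_epi_of_isIso_of_mono ψ).2 (hexs 0)
    have hKer : Coh.IsCoh (kernel g) := h.aker _ (shortExact_kernel g) (h.le _ (hK 0)) hM
    have hv := val_of_seq h n (kernel g) (fun j => K (j + 1)) (fun j => d (j + 1)) (kernel.lift g (d 0) w) wl
      (fun j => w' (j + 1)) hl hex' (fun j => hexs (j + 1)) (fun j => hK _) (fun j hj => hz _ (by omega)) hKer
    refine ⟨hM, K 0, g, _, hK 0, hg, hv, ?_⟩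
    rw [Finset.sum_range_succ', pow_zero, one_smul, add_comm, sub_eq_add_neg, ← Finset.sum_neg_distrib]
    congr 1
    exact Finset.sum_congr rfl fun k _ => by rw [pow_succ, mul_neg, mul_one, neg_smul]

theorem quasiIso₀ {F : X.Modules} {L : ChainComplex X.Modules ℕ}
    (π : L ⟶ (ChainComplex.single₀ X.Modules).obj F) [QuasiIso π] :
    Epi (show L.X 0 ⟶ F from π.f 0) ∧ ∃ w, (ShortComplex.mk (L.d 1 0) (show L.X 0 ⟶ F from π.f 0) w).Exact := by
  have h0 : QuasiIsoAt π 0 := inferInstance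
  rw [ChainComplex.quasiIsoAt₀_iff, ShortComplex.quasiIso_iff_of_zeros'] at h0
  · obtain ⟨h1, h2⟩ := h0
    exact ⟨h2, (π.comm 1 0).symm.trans (by rw [HomologicalComplex.single_obj_d]; exact comp_zero), h1⟩
  all_goals first | rfl | exact HomologicalComplex.shape _ _ _ (by simp)

/-- The Euler sum of a resolution. -/
theorem val_of_isLFRes (h : Ctx (vb X) (coh X) c) {F : X.Modules} {n : ℕ} {L : ChainComplex X.Modules ℕ}
    {π : L ⟶ (ChainComplex.single₀ X.Modules).obj F} (hL : KRR.IsLFRes F n L π) (hF : Coh.IsCoh F) :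
    Val (vb X) (coh X) c n F (∑ k ∈ Finset.range (n + 1), (-1 : ℤ) ^ k • c (L.X k)) := by
  haveI := hL.quasiIso
  obtain ⟨he, w, hex⟩ := quasiIso₀ π
  refine val_of_seq h n F L.X (fun j => L.d (j + 1) j) (show L.X 0 ⟶ F from π.f 0) w (fun j => L.d_comp_d _ _ _)
    he hex (fun j => ?_) hL.finLocFree hL.isZero hF
  have hj : QuasiIsoAt π (j + 1) := inferInstance
  rw [quasiIsoAt_iff_exactAt' _ _ (ChainComplex.exactAt_succ_single_obj _ _),
    HomologicalComplex.exactAt_iff' _ (j + 1 + 1) (j + 1) j (by simp) (by simp)] at hj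
  exact hj

theorem exists_seq_of_val : ∀ (n : ℕ) (M : X.Modules) (a : G), Val (vb X) (coh X) c n M a →
    ∃ (L Z : ℕ → X.Modules) (π : ∀ k, L k ⟶ Z k) (ι : ∀ k, Z (k + 1) ⟶ L k) (w : ∀ k, ι k ≫ π k = 0),
      (∀ k, (ShortComplex.mk (ι k) (π k) (w k)).ShortExact) ∧ (∀ k, FlatMod.IsFinLocFree (L k)) ∧
      (∀ k, n < k → IsZero (L k)) ∧ Nonempty (Z 0 ≅ M)
  | 0, M, a, hv => by
    refine ⟨fun | 0 => M | _ + 1 => 0, fun | 0 => M | _ + 1 => 0, fun | 0 => 𝟙 M | _ + 1 => 𝟙 _, fun _ => 0,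
      fun _ => zero_comp, fun k => ?_, fun k => ?_, fun k hk => ?_, ⟨Iso.refl _⟩⟩
    · cases k with
      | zero => exact { exact := (ShortComplex.exact_iff_mono _ rfl).2 (inferInstanceAs (Mono (𝟙 M)))
                        mono_f := ⟨fun _ _ _ => (isZero_zero _).eq_of_tgt _ _⟩
                        epi_g := inferInstanceAs (Epi (𝟙 M)) }
      | succ k => exact { exact := ShortComplex.exact_of_isZero_X₂ _ (isZero_zero _)
                          mono_f := ⟨fun _ _ _ => (isZero_zero _).eq_of_tgt _ _⟩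
                          epi_g := inferInstanceAs (Epi (𝟙 _)) }
    · cases k with
      | zero => exact hv.2.1
      | succ k => exact isFinLocFree_of_isZero (isZero_zero _)
    · cases k with
      | zero => omega
      | succ k => exact isZero_zero _
  | n + 1, M, a, ⟨_, E, g, b, hE, hg, hK, _⟩ => by
    obtain ⟨L, Z, π, ι, w, hS, hL, hz, ⟨e⟩⟩ := exists_seq_of_val n (kernel g) b hK
    refine ⟨fun | 0 => E | k + 1 => L k, fun | 0 => M | k + 1 => Z k, fun | 0 => g | k + 1 => π k,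
      fun | 0 => e.hom ≫ kernel.ι g | k + 1 => ι k, fun k => ?_, fun k => ?_, fun k => ?_, fun k hk => ?_,
      ⟨Iso.refl _⟩⟩
    · cases k with
      | zero => exact (Category.assoc _ _ _).trans (by rw [kernel.condition, comp_zero])
      | succ k => exact w k
    · cases k with
      | zero =>
        let i : ShortComplex.mk (kernel.ι g) g (kernel.condition g) ≅
            ShortComplex.mk (e.hom ≫ kernel.ι g) g (by rw [Category.assoc, kernel.condition, comp_zero]) :=
          ShortComplex.isoMk e.symm (Iso.refl _) (Iso.refl _) (by simp) (by simp)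
        exact ShortComplex.shortExact_of_iso i (shortExact_kernel g)
      | succ k => exact hS k
    · cases k with
      | zero => exact hE
      | succ k => exact hL k
    · cases k with
      | zero => omega
      | succ k => exact hz k (by omega)

theorem hasLFRes_of_val {n : ℕ} {M : X.Modules} {a : G} (hv : Val (vb X) (coh X) c n M a) : KRR.HasLFRes M := by
  obtain ⟨L, Z, π, ι, w, hS, hL, hz, ⟨e⟩⟩ := exists_seq_of_val n M a hv
  haveI := SyzResolution.quasiIso_aug π ι w hS
  exact ⟨n, SyzResolution.cx π ι w,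
    SyzResolution.aug π ι w ≫ (ChainComplex.single₀ X.Modules).map e.hom, ⟨hL, hz, inferInstance⟩⟩

theorem exists_val_of_hasLFRes (h : Ctx (vb X) (coh X) c) {F : X.Modules} (hF : Coh.IsCoh F)
    (hr : KRR.HasLFRes F) : ∃ n a, Val (vb X) (coh X) c n F a := by
  obtain ⟨n, L, π, hL⟩ := hr
  exact ⟨n, _, val_of_isLFRes h hL hF⟩

section Pd

theorem isFlatAt_iff {M : X.Modules} (x : X) :
    FlatMod.IsFlatOverAt (𝟙 X) M x ↔ FlatMod.IsFlatAt M x := by
  have e : FlatMod.moduleStalkOver (𝟙 X) M x =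
      (FlatMod.moduleStalk M x : Module (X.presheaf.stalk x) (M.presheaf.stalk x)) := by
    refine Module.ext' _ _ fun r m => ?_
    show @HSMul.hSMul (X.presheaf.stalk x) (M.presheaf.stalk x) (M.presheaf.stalk x) _
      ((Scheme.Hom.stalkMap (𝟙 X) x).hom r) m = @HSMul.hSMul (X.presheaf.stalk x) _ _ _ r m
    rw [Scheme.Hom.stalkMap_id]
    rfl
  show @Module.Flat (X.presheaf.stalk x) (M.presheaf.stalk x) _ _ (FlatMod.moduleStalkOver (𝟙 X) M x) ↔ _
  rw [e]
  exact Iff.rfl

variable [CompactSpace X] (hX : KRR.HasEnoughLocFree X) (M : X.Modules)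

include hX in
/-- A coherent module with stalks of finite projective dimension has a finite resolution. -/
theorem exists_val_of_pd (h : Ctx (vb X) (coh X) c) (hM : Coh.IsCoh M)
    (hpd : ∀ x : X, ∃ n : ℕ, HasProjectiveDimensionLE (ModuleCat.of (X.presheaf.stalk x) (M.presheaf.stalk x)) n) :
    ∃ n a, Val (vb X) (coh X) c n M a := by
  classical
  choose E p hE hp using hX
  let next : {K : X.Modules // Coh.IsCoh K} → {K : X.Modules // Coh.IsCoh K} := fun K =>
    ⟨kernel (p K.1 K.2), H10Coh.isCoh_kernel _ (isCoh_of_isFinLocFree (hE K.1 K.2)) K.2.1⟩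
  let W : ℕ → X.Opens := fun k => ⟨{x | FlatMod.IsFlatOverAt (𝟙 X) (next^[k] ⟨M, hM⟩).1 x},
    H8Props.FlatLocus.isOpen_setOf_isFlatOverAt (𝟙 X) _ (H10Coh.isFP_of_isCoh _ (next^[k] ⟨M, hM⟩).2)⟩
  have hsucc : ∀ k, next^[k + 1] ⟨M, hM⟩ = next (next^[k] ⟨M, hM⟩) := fun k =>
    Function.iterate_succ_apply' next k _
  have hse : ∀ (K : {K : X.Modules // Coh.IsCoh K}), (ShortComplex.mk (kernel.ι (p K.1 K.2)) (p K.1 K.2)
      (kernel.condition _)).ShortExact := fun K => haveI := hp K.1 K.2; shortExact_kernel _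
  have hmono : ∀ k, W k ≤ W (k + 1) := fun k x hx => by
    show FlatMod.IsFlatOverAt (𝟙 X) (next^[k + 1] ⟨M, hM⟩).1 x
    rw [hsucc, isFlatAt_iff]
    haveI : Module.Flat (X.presheaf.stalk x) ((next^[k] ⟨M, hM⟩).1.presheaf.stalk x) := (isFlatAt_iff x).1 hx
    haveI : Module.Flat (X.presheaf.stalk x) ((E _ (next^[k] ⟨M, hM⟩).2).presheaf.stalk x) :=
      isFlat_of_isFinLocFree (hE _ (next^[k] ⟨M, hM⟩).2) x
    exact H8Props.flat_of_exact (H06Mod.stalkLin _ x) (H06Mod.stalkLin (p _ (next^[k] ⟨M, hM⟩).2) x)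
      (H06Mod.stalk_injective _ (hse _) x) (H06Mod.stalk_exact _ (hse _) x) (H06Mod.stalk_surjective _ (hse _) x)
  have hreach : ∀ (n k : ℕ) (x : X), HasProjectiveDimensionLE
      (ModuleCat.of (X.presheaf.stalk x) ((next^[k] ⟨M, hM⟩).1.presheaf.stalk x)) n → x ∈ W (k + n) := by
    intro n
    induction n with
    | zero =>
      intro k x hn
      simp only [HasProjectiveDimensionLE, zero_add] at hn
      rw [← projective_iff_hasProjectiveDimensionLT_one, ← IsProjective.iff_projective] at hn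
      exact (isFlatAt_iff x).2 (show Module.Flat (X.presheaf.stalk x) _ from inferInstance)
    | succ n ih =>
      intro k x hn
      rw [show k + (n + 1) = k + 1 + n by omega]
      refine ih (k + 1) x ?_
      rw [hsucc]
      let K := next^[k] ⟨M, hM⟩
      haveI := H8Props.FinLocFree.free_stalk _ (hE K.1 K.2) x
      let T : ShortComplex (ModuleCat (X.presheaf.stalk x)) := ShortComplex.mk
        (ModuleCat.ofHom (H06Mod.stalkLin (kernel.ι (p K.1 K.2)) x)) (ModuleCat.ofHom (H06Mod.stalkLin (p K.1 K.2) x))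
        (ModuleCat.hom_ext (LinearMap.ext fun z => ((H06Mod.stalk_exact _ (hse K) x) _).2 ⟨z, rfl⟩))
      have hT : T.ShortExact :=
        { exact := (ShortComplex.ShortExact.moduleCat_exact_iff_function_exact _).2 (H06Mod.stalk_exact _ (hse K) x)
          mono_f := (ModuleCat.mono_iff_injective _).2 (H06Mod.stalk_injective _ (hse K) x)
          epi_g := (ModuleCat.epi_iff_surjective _).2 (H06Mod.stalk_surjective _ (hse K) x) }
      haveI : Module.Projective (X.presheaf.stalk x) ((E K.1 K.2).presheaf.stalk x) := inferInstance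
      exact (hT.hasProjectiveDimensionLT_X₃_iff n
        ((IsProjective.iff_projective _).1 ‹Module.Projective _ _›)).1 hn
  have hcov : (⊤ : X.Opens) ≤ iSup W := fun x _ => by
    obtain ⟨n, hn⟩ := hpd x
    exact TopologicalSpace.Opens.mem_iSup.2 ⟨0 + n, hreach n 0 x hn⟩
  obtain ⟨N, hN⟩ := isCompact_univ.elim_directed_cover (fun k => (W k : Set X)) (fun k => (W k).2)
    (fun x _ => by simpa using hcov (TopologicalSpace.Opens.mem_top x))
    (Monotone.directed_le (f := fun k => (W k : Set X)) (monotone_nat_of_le_succ fun k => hmono k))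
  have key : ∀ j k, j + k = N → ∃ a, Val (vb X) (coh X) c j (next^[k] ⟨M, hM⟩).1 a := fun j => by
    induction j with
    | zero =>
      intro k hk
      rw [zero_add] at hk
      subst hk
      exact ⟨_, (next^[k] ⟨M, hM⟩).2,
        finLocFree_of_coh_flat (next^[k] ⟨M, hM⟩).2 fun x => (isFlatAt_iff x).1 (hN (Set.mem_univ x)), rfl⟩
    | succ j ih =>
      intro k hk
      obtain ⟨b, hb⟩ := ih (k + 1) (by omega)
      rw [hsucc] at hb
      exact ⟨_, (next^[k] ⟨M, hM⟩).2, E _ (next^[k] ⟨M, hM⟩).2, p _ _, b, hE _ _, hp _ _, hb, rfl⟩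
  obtain ⟨a, ha⟩ := key N 0 (add_zero _)
  exact ⟨N, a, ha⟩

end Pd

end Groth.Agent.H22Alg.KLFRes
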