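import Groth.Agent.H22Alg.ExtPowHom
import Groth.Agent.H17.KoszSh.Resolution
import Groth.Agent.H06Mod.StalkFinite

/-! # Koszul complexes exist; the complex of a surjective cosection is exact. -/

set_option autoImplicit false
set_option linter.style.haveILetI false

universe u v

open CategoryTheory CategoryTheory.Limits AlgebraicGeometry Opposite TopologicalSpace exteriorPower
open Groth.Agent.H17.KoszSh

noncomputable section

namespace Groth.Agent.H22Alg.Koszul

section Alg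

variable {R : Type u} [CommRing R] {M : Type v} [AddCommGroup M] [Module R M]

theorem deg_top (p : ℕ) : deg (⊤ : Submodule R M) p = ⋀[R]^p M := by
  rw [deg, Submodule.map_top]

/-- The contraction in degree `p`. -/
def dL (φ : M →ₗ[R] R) (p : ℕ) : ↥(⋀[R]^(p + 1) M) →ₗ[R] ↥(⋀[R]^p M) :=
  ((contract φ).comp (⋀[R]^(p + 1) M).subtype).codRestrict _ fun x =>
    deg_top (R := R) (M := M) p ▸ contract_mem φ ((deg_top (R := R) (M := M) (p + 1)).symm ▸ x.2)

theorem coe_dL (φ : M →ₗ[R] R) (p : ℕ) (x : ↥(⋀[R]^(p + 1) M)) :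
    (dL φ p x : ExteriorAlgebra R M) = contract φ x := rfl

theorem dL_ιMulti (φ : M →ₗ[R] R) (p : ℕ) (e : Fin (p + 1) → M) :
    dL φ p (ιMulti R (p + 1) e) = KoszSh.dGen φ p e :=
  Subtype.ext (by rw [coe_dL, coe_dGen, exteriorPower.ιMulti_apply_coe])

theorem dL_dL (φ : M →ₗ[R] R) (p : ℕ) (x : ↥(⋀[R]^(p + 2) M)) : dL φ p (dL φ (p + 1) x) = 0 :=
  Subtype.ext (by rw [coe_dL, coe_dL, contract_contract]; rfl)

/-- The homotopy. -/
theorem exists_preimage {φ : M →ₗ[R] R} {e : M} (he : φ e = 1) (p : ℕ) (x : ↥(⋀[R]^p M))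
    (hx : contract φ (x : ExteriorAlgebra R M) = 0) : ∃ y, dL φ p y = x := by
  have hy : ExteriorAlgebra.ι R e * (x : ExteriorAlgebra R M) ∈ ⋀[R]^(p + 1) M :=
    deg_top (R := R) (M := M) (p + 1) ▸ ι_mul_mem_deg (W := ⊤) trivial ((deg_top (R := R) (M := M) p).symm ▸ x.2)
  refine ⟨⟨_, hy⟩, Subtype.ext ?_⟩
  rw [coe_dL, contract_ι_mul, he, one_smul, hx, mul_zero, sub_zero]

theorem contract_zero_deg (φ : M →ₗ[R] R) (x : ↥(⋀[R]^0 M)) : contract φ (x : ExteriorAlgebra R M) = 0 := by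
  have hx : (x : ExteriorAlgebra R M) ∈ deg (⊤ : Submodule R M) 0 := by rw [deg_top]; exact x.2
  obtain ⟨r, hr⟩ := mem_deg_zero_iff.1 hx
  rw [← hr, contract_algebraMap]

end Alg

variable {X : Scheme.{u}} {E : X.Modules} (s : E ⟶ Coh.structureModule X)

theorem secForm_res {U V : X.Opens} (h : V ≤ U) (x : Γ(E, U)) :
    KoszSh.secForm s V (E.presheaf.map (homOfLE h).op x) =
      X.presheaf.map (homOfLE h).op (KoszSh.secForm s U x) :=
  ConcreteCategory.congr_hom (s.mapPresheaf.naturality (homOfLE h).op) x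

/-- Koszul complexes exist. -/
theorem nonempty_cx (hE : Coh.IsQCoh E) : Nonempty (KoszSh.Cx E s) := by
  choose L hL using fun p => ExtPowSheaf.exists_isExtPow p hE
  choose φ hφ using hL
  let φ' : ∀ (p : ℕ) (U : X.affineOpens), Γ(L p, U.1) ≃ₗ[Γ(X, U.1)] ↥(⋀[Γ(X, U.1)]^p Γ(E, U.1)) := fun p U => φ p U
  have key : ∀ p, ∃ d : L (p + 1) ⟶ L p, ∀ (U : X.affineOpens) (x : Γ(L (p + 1), U.1)),
      d.app U.1 x = (φ' p U).symm (dL (KoszSh.secForm s U.1) p (φ' (p + 1) U x)) := fun p =>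
    H17.AffHom.exists_hom (fun U => (φ' p U).symm.toLinearMap ∘ₗ dL (KoszSh.secForm s U.1) p ∘ₗ
      (φ' (p + 1) U).toLinearMap) fun U V h x => by
      obtain ⟨y, rfl⟩ := (φ' (p + 1) U).symm.surjective x
      simp only [LinearMap.comp_apply, LinearEquiv.coe_coe, LinearEquiv.apply_symm_apply]
      induction y using ExtPowAlg.induction with
      | hgen e =>
        have h1 : (L (p + 1)).presheaf.map (homOfLE h).op ((φ' (p + 1) U).symm (ιMulti _ (p + 1) e)) =
            (φ' (p + 1) V).symm (ιMulti _ (p + 1) fun j => E.presheaf.map (homOfLE h).op (e j)) := hφ (p + 1) U V h e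
        rw [h1, LinearEquiv.apply_symm_apply, dL_ιMulti, dL_ιMulti, KoszSh.dGen, KoszSh.dGen, map_sum, map_sum,
          map_sum]
        refine Finset.sum_congr rfl fun i _ => ?_
        rw [map_smul, map_smul, Scheme.Modules.map_smul, secForm_res]
        refine congrArg₂ (· • ·) ?_ (hφ p U V h _).symm
        rw [map_mul, map_pow, map_neg, map_one]
      | h0 => simp
      | hadd a b ha hb => simp only [map_add, ha, hb]
      | hsmul r a ha => simp only [map_smul, Scheme.Modules.map_smul, ha]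
  choose d hd using key
  refine ⟨{
    K := ChainComplex.of L d fun p => H17.AffHom.hom_ext fun U x => ?_
    loc := fun p U => φ' p U
    loc_res := fun p U V h e => hφ p U V h e
    rule := fun p U e => ?_ }⟩
  · show (d p).app U.1 ((d (p + 1)).app U.1 x) = (0 : Γ(L p, U.1))
    rw [hd, hd, LinearEquiv.apply_symm_apply, dL_dL, map_zero]
  · have h1 : (d p).app U.1 ((φ' (p + 1) U).symm (ιMulti _ (p + 1) e)) =
        (φ' p U).symm (KoszSh.dGen (KoszSh.secForm s U.1) p e) := by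
      rw [hd, LinearEquiv.apply_symm_apply, dL_ιMulti]
    refine Eq.trans ?_ h1
    exact congrArg (fun k : L (p + 1) ⟶ L p => k.app U.1 ((φ' (p + 1) U).symm (ιMulti _ (p + 1) e))) (ChainComplex.of_d L d p)

variable {s}

theorem exists_unit_section [Epi s] (x : X) :
    ∃ (U : X.affineOpens) (e : Γ(E, U.1)), x ∈ U.1 ∧ KoszSh.secForm s U.1 e = 1 := by
  obtain ⟨a, ha⟩ := H06Mod.surjective_stalk_of_epi s x
    ((Coh.structureModule X).presheaf.germ ⊤ x trivial (1 : Γ(X, ⊤)))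
  obtain ⟨W, hW, m, rfl⟩ := E.presheaf.exists_germ_eq a
  replace ha := (H06Mod.stalkLin_germ s x W hW m).symm.trans ha
  obtain ⟨W', hW', i, j, h⟩ := (Coh.structureModule X).presheaf.germ_eq (U := W) (V := ⊤) x hW trivial _ _ ha
  obtain ⟨U, hU, hxU, hle⟩ := exists_isAffineOpen_mem_and_subset (x := x) (U := W') hW'
  have hle' : U ≤ W' := hle
  refine ⟨⟨U, hU⟩, E.presheaf.map (homOfLE (hle'.trans i.le)).op m, hxU, ?_⟩
  rw [secForm_res]
  have h1 : X.presheaf.map i.op (KoszSh.secForm s W m) = X.presheaf.map j.op (1 : Γ(X, ⊤)) := h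
  rw [map_one] at h1
  rw [show (homOfLE (hle'.trans i.le)).op = i.op ≫ (homOfLE hle').op from Subsingleton.elim _ _, Functor.map_comp]
  show X.presheaf.map (homOfLE hle').op (X.presheaf.map i.op _) = 1
  rw [h1, map_one]

theorem unit_res {U V : X.Opens} (h : V ≤ U) {e : Γ(E, U)} (he : KoszSh.secForm s U e = 1) :
    KoszSh.secForm s V (E.presheaf.map (homOfLE h).op e) = 1 := by
  rw [secForm_res, he, map_one]

theorem exists_cover_basis [Epi s] (W : X.Opens) (x : X) (hx : x ∈ W) :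
    ∃ (V : X.affineOpens) (e : Γ(E, V.1)), V.1 ≤ W ∧ x ∈ V.1 ∧ KoszSh.secForm s V.1 e = 1 := by
  obtain ⟨U, e, hxU, he⟩ := exists_unit_section (s := s) x
  obtain ⟨V, hV, hxV, hle⟩ := exists_isAffineOpen_mem_and_subset (x := x) (U := W ⊓ U.1) ⟨hx, hxU⟩
  exact ⟨⟨V, hV⟩, _, fun y hy => (hle hy).1, hxV, unit_res (fun y hy => (hle hy).2) he⟩

theorem epi_d [Epi s] (C : KoszSh.Cx E s) : Epi (C.K.d 1 0) := by
  refine H11Tilde.epi_of_locally_surjective _ fun W t x hx => ?_
  obtain ⟨V, e, hVW, hxV, he⟩ := exists_cover_basis (s := s) W x hx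
  let t' : Γ(C.K.X 0, V.1) := (C.K.X 0).presheaf.map (homOfLE hVW).op t
  obtain ⟨y, hy⟩ := exists_preimage he 0 (C.loc 0 V t') (contract_zero_deg _ _)
  refine ⟨V.1, hVW, hxV, (C.loc 1 V).symm y, (C.loc 0 V).injective (Subtype.ext ?_)⟩
  rw [loc_d, LinearEquiv.apply_symm_apply, ← hy]
  rfl

theorem exact_succ [Epi s] (C : KoszSh.Cx E s) (p : ℕ) : (C.K.sc' (p + 2) (p + 1) p).Exact := by
  refine H11Tilde.exact_of_locally _ fun W t ht x hx => ?_
  obtain ⟨V, e, hVW, hxV, he⟩ := exists_cover_basis (s := s) W x hx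
  let t' : Γ(C.K.X (p + 1), V.1) := (C.K.X (p + 1)).presheaf.map (homOfLE hVW).op t
  have ht' : (C.K.d (p + 1) p).app V.1 t' = 0 :=
    (ConcreteCategory.congr_hom ((C.K.d (p + 1) p).mapPresheaf.naturality (homOfLE hVW).op) t).trans
      ((congrArg ((C.K.X p).presheaf.map (homOfLE hVW).op) ht).trans (map_zero _))
  obtain ⟨y, hy⟩ := exists_preimage he (p + 1) (C.loc (p + 1) V t') (by rw [← loc_d, ht', map_zero]; rfl)
  refine ⟨V.1, hVW, hxV, (C.loc (p + 2) V).symm y, (C.loc (p + 1) V).injective (Subtype.ext ?_)⟩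
  show (C.loc (p + 1) V ((C.K.d (p + 2) (p + 1)).app V.1 _) : ExteriorAlgebra Γ(X, V.1) Γ(E, V.1)) = _
  rw [loc_d, LinearEquiv.apply_symm_apply]
  exact congrArg Subtype.val hy

end Groth.Agent.H22Alg.Koszul
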