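import Groth.Agent.H22Alg.SeqExt

/-! # The sequence k ↦ C(k, n) under the (n+1)-st difference; uniqueness for recurrences. -/

set_option autoImplicit false

open Polynomial

noncomputable section

namespace Groth.Agent.H22Alg.SeqExt

variable {R : Type*} [CommRing R]

theorem aeval_choose : ∀ n : ℕ,
    aeval (shift (G := R)) ((1 - X : ℤ[X]) ^ (n + 1)) (fun k : ℕ => (k.choose n : R)) = 0
  | 0 => by
    funext k
    simp [shift, LinearMap.funLeft_apply]
  | n + 1 => by
    have h : aeval (shift (G := R)) (1 - X : ℤ[X]) (fun k : ℕ => (k.choose (n + 1) : R)) =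
        -(fun k : ℕ => (k.choose n : R)) := by
      funext k
      simp [shift, LinearMap.funLeft_apply, Nat.choose_succ_succ]
    rw [pow_succ (1 - X : ℤ[X]) (n + 1), map_mul, Module.End.mul_apply, h, map_neg, aeval_choose n, neg_zero]

theorem rec_choose (n : ℕ) : Rec (n + 1) 0 (fun k : ℕ => (k.choose n : R)) := fun m _ => by
  rw [← aeval_apply, aeval_choose]
  rfl

variable {G : Type*} [AddCommGroup G]

theorem eq_of_rec {r : ℕ} {f g : ℕ → G} (hf : Rec r 0 f) (hg : Rec r 0 g) (h : ∀ k, k < r → f k = g k)
    (k : ℕ) : f k = g k := by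
  induction k using Nat.strong_induction_on with
  | _ k ih =>
    by_cases hk : k < r
    · exact h k hk
    obtain ⟨m, rfl⟩ : ∃ m, k = m + r := ⟨k - r, by omega⟩
    have e₁ := hf m (Nat.zero_le _)
    have e₂ := hg m (Nat.zero_le _)
    rw [val_one_sub_X_pow, Finset.sum_range_succ] at e₁ e₂
    rw [Finset.sum_congr rfl fun j hj => by rw [ih (m + j) (by rw [Finset.mem_range] at hj; omega)]] at e₁
    have e := add_left_cancel (e₁.trans e₂.symm)
    simp only [Nat.choose_self, Nat.cast_one, mul_one] at e
    rcases neg_one_pow_eq_or ℤ r with h1 | h1 <;> simpa [h1] using e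

end Groth.Agent.H22Alg.SeqExt
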