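import Groth.Agent.H22Alg.KReg
import Groth.Agent.H22Alg.PnDeg0
import Groth.Agent.H16Derived.ProjFormula.Map
import Groth.Agent.H22Alg.SeqBinom

/-! # p_K on classes of bundles with acyclic twists; the classes p_K[O(d)]. -/

set_option autoImplicit false
set_option linter.style.haveILetI false

universe v u

open CategoryTheory CategoryTheory.Limits AlgebraicGeometry ZeroObject
open Groth.Agent.H11Tilde Groth.Agent.H11Ample
attribute [local instance] HasDerivedCategory.standard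
attribute [local instance 10000] Groth.Agent.H10Coh.hasSheafifyAb Groth.Agent.H10Coh.hasWeakSheafifyAb Groth.Agent.H10Coh.hasExtAb Groth.Agent.H10Coh.enoughInjAb

noncomputable section

namespace Groth.Agent.H22Alg.KPush

variable {n : ℕ} {Y : Scheme.{u}}

variable (n Y) in
/-- Acyclic bundles. -/
abbrev acyc : ObjectProperty (KRR.PY n Y).Modules :=
  fun M => FlatMod.IsFinLocFree M ∧ ∀ i : ℕ, 1 ≤ i → CMReg.Van i M

theorem acyc_of_isZero {M : (KRR.PY n Y).Modules} (h : IsZero M) : acyc n Y M :=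
  ⟨H16Derived.KFlat.Stalk.isFinLocFree_of_isZero h, fun _ _ =>
    CMReg.van_iso ((isZero_zero _).iso h) CMReg.van_zero⟩

theorem van_mid {S : ShortComplex (KRR.PY n Y).Modules} (hS : S.ShortExact) (i : ℕ)
    (h₁ : CMReg.Van i S.X₁) (h₃ : CMReg.Van i S.X₃) : CMReg.Van i S.X₂ :=
  RegSheaf.isZero_mid (Coh.pushAb (KRR.pr n Y)) (RegSheaf.shortExact_toAb hS) i h₁ h₃

theorem van_right {S : ShortComplex (KRR.PY n Y).Modules} (hS : S.ShortExact) (i : ℕ)
    (h₂ : CMReg.Van i S.X₂) (h₁ : CMReg.Van (i + 1) S.X₁) : CMReg.Van i S.X₃ :=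
  RegSheaf.isZero_right (Coh.pushAb (KRR.pr n Y)) (RegSheaf.shortExact_toAb hS) i h₂ h₁

theorem acyc_biprod {M N : (KRR.PY n Y).Modules} (hM : acyc n Y M) (hN : acyc n Y N) : acyc n Y (M ⊞ N) :=
  ⟨H16Derived.KFlat.Stalk.isFinLocFree_biprod hM.1 hN.1, fun i hi =>
    van_mid (S := ShortComplex.mk (biprod.inl : M ⟶ M ⊞ N) biprod.snd biprod.inl_snd) (KReg.biprod_split M N) i
      (hM.2 i hi) (hN.2 i hi)⟩

theorem acyc_step {K : ℕ → (KRR.PY n Y).Modules} {d : ∀ j, K j ⟶ K (j + 1)} (w : ∀ j, d j ≫ d (j + 1) = 0)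
    (hex : ∀ j, (ShortComplex.mk (d j) (d (j + 1)) (w j)).Exact) (j : ℕ) (i : ℕ)
    (h₂ : CMReg.Van i (K j)) (h₁ : CMReg.Van (i + 1) (kernel (d j))) : CMReg.Van i (kernel (d (j + 1))) :=
  van_right (S := ShortComplex.mk (kernel.ι (d j)) (ExactVanish.toCycles w j)
    (by rw [← cancel_mono (kernel.ι (d (j + 1)))]; simp [ExactVanish.toCycles]))
    (KTelescope.shortExact_cycles w hex j) i h₂ h₁

theorem acyc_cycles {G : (KRR.PY n Y).Modules} (hG : FlatMod.IsFinLocFree G) (t : ℕ)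
    (ha : ∀ i, i ≤ n + 1 → ∀ q : ℕ, 1 ≤ q → CMReg.Van q (CMReg.B n Y G (t + i))) :
    ∀ j, acyc n Y (kernel (CMReg.dd n Y G t j))
  | 0 => haveI := (CMReg.dd_exact G t).1
      acyc_of_isZero ((isZero_zero _).of_iso (kernel.ofMono _))
  | j + 1 => ⟨KReg.finLocFree_cycles hG t (j + 1), fun q hq => acyc_step (CMReg.dd_comp G t) (CMReg.dd_exact G t).2 j q
      ((KosLine.mem_L (acyc n Y) (acyc_of_isZero (isZero_zero _)) (fun _ _ => acyc_biprod) (n + 1) t j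
        fun hj => ⟨KReg.finLocFree_B hG _, ha _ hj⟩).2 q hq)
      ((acyc_cycles hG t ha j).2 (q + 1) (by omega))⟩

theorem van_B {E : (KRR.PY n Y).Modules} {m : ℕ}
    (h : ∀ k, m ≤ k → ∀ q : ℕ, 1 ≤ q → CMReg.Van q (KRR.twF n Y (k : ℤ) E)) (i : ℕ) (q : ℕ) (hq : 1 ≤ q) :
    CMReg.Van q (CMReg.B n Y (KRR.twF n Y (m : ℤ) E) i) := by
  obtain ⟨e⟩ := CMReg.nonempty_B_iso E (m : ℤ) i ((m + i : ℕ) : ℤ) (by push_cast; ring)
  exact CMReg.van_iso e.symm (h (m + i) (by omega) q hq)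

theorem rec_acyc {A : Type*} [AddCommGroup A] (c : (KRR.PY n Y).Modules → A)
    (hc : KTelescope.Additive (acyc n Y) c) {E : (KRR.PY n Y).Modules} (hE : FlatMod.IsFinLocFree E) {m₀ : ℕ}
    (h : ∀ k, m₀ ≤ k → ∀ q : ℕ, 1 ≤ q → CMReg.Van q (KRR.twF n Y (k : ℤ) E)) :
    SeqExt.Rec (n + 1) m₀ (fun k => c (KRR.twF n Y (k : ℤ) E)) := fun m hm =>
  KReg.koszul_sum _ c hc (fun _ => acyc_of_isZero) (fun _ _ => acyc_biprod) E m
    (fun i _ => ⟨KReg.finLocFree_B (RegBundle.finLocFree_twF _ hE) i, van_B (fun k hk => h k (hm.trans hk)) i⟩)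
    (fun i _ => ⟨RegBundle.finLocFree_twF _ hE, h _ (by omega)⟩)
    (fun j => acyc_cycles (RegBundle.finLocFree_twF _ hE) 0
      (fun i _ => by rw [Nat.zero_add]; exact van_B (fun k hk => h k (hm.trans hk)) i) j)

theorem push_additive [IsLocallyNoetherian Y] : KTelescope.Additive (acyc n Y)
    (fun M => KRR.cl Y ((Scheme.Modules.pushforward (KRR.pr n Y)).obj M)) := fun S hS h₁ h₂ h₃ =>
  KModel.cl_add (KReg.shortExact_push hS (h₁.2 1 le_rfl)) (RegBundle.finLocFree_push_of_van h₁.1 h₁.2)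
    (RegBundle.finLocFree_push_of_van h₂.1 h₂.2) (RegBundle.finLocFree_push_of_van h₃.1 h₃.2)

/-- The push-forward on K₀ of a bundle with acyclic non-negative twists. -/
theorem push_acyc [IsNoetherian Y] {A : Type*} [AddCommGroup A] (g : SGA6.Kvb (KRR.PY n Y) →+ A)
    (ψ : SGA6.Kvb Y →+ A)
    (hg : ∀ F : (KRR.PY n Y).Modules, FlatMod.IsFinLocFree F → KRR.IsRegSheaf n Y F →
      g (KRR.cl _ F) = ψ (KRR.cl Y ((Scheme.Modules.pushforward (KRR.pr n Y)).obj F)))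
    {E : (KRR.PY n Y).Modules} (hE : FlatMod.IsFinLocFree E)
    (h : ∀ k : ℕ, ∀ q : ℕ, 1 ≤ q → CMReg.Van q (KRR.twF n Y (k : ℤ) E)) :
    g (KRR.cl _ E) = ψ (KRR.cl Y ((Scheme.Modules.pushforward (KRR.pr n Y)).obj E)) := by
  obtain ⟨m₀, hm₀⟩ := RegBundle.exists_reg_twist (RegBundle.isCoh_vb hE)
  let f : ℕ → A := fun k => g (KReg.fK n Y E k)
  let f' : ℕ → A := fun k => ψ (KRR.cl Y ((Scheme.Modules.pushforward (KRR.pr n Y)).obj (KRR.twF n Y (k : ℤ) E)))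
  have hf : SeqExt.Rec (n + 1) 0 f := fun m hm => by
    rw [← SeqExt.val_map g, KReg.rec_fK hE m hm, map_zero]
  have hf' : SeqExt.Rec (n + 1) 0 f' := fun m hm => by
    rw [← SeqExt.val_map ψ, rec_acyc (fun M => KRR.cl Y ((Scheme.Modules.pushforward (KRR.pr n Y)).obj M))
      push_additive hE (fun k _ => h k) m hm, map_zero]
  have h0 : f 0 = f' 0 := by
    rw [← SeqExt.ext_zero (n + 1) f, ← SeqExt.ext_zero (n + 1) f',
      SeqExt.ext_eq n.succ_ne_zero hf (Nat.zero_le 0) (Nat.zero_le m₀),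
      SeqExt.ext_eq n.succ_ne_zero hf' (Nat.zero_le 0) (Nat.zero_le m₀)]
    exact SeqExt.ext_congr n.succ_ne_zero fun k hk => hg _ (RegBundle.finLocFree_twF _ hE) (hm₀ k hk)
  obtain ⟨e⟩ := RegSheaf.nonempty_twF_zero (n := n) (T := Y) E
  have e1 : f 0 = g (KRR.cl _ E) := congrArg g (KModel.cl_iso e (RegBundle.finLocFree_twF _ hE))
  have e2 : f' 0 = ψ (KRR.cl Y ((Scheme.Modules.pushforward (KRR.pr n Y)).obj E)) :=
    congrArg ψ (KModel.cl_iso ((Scheme.Modules.pushforward (KRR.pr n Y)).mapIso e)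
      (RegBundle.finLocFree_push_of_van (RegBundle.finLocFree_twF _ hE) (h 0)))
  rw [← e1, h0, e2]

variable (n Y) in
/-- The bundle O(d). -/
abbrev Od (d : ℤ) : (KRR.PY n Y).Modules := KRR.twF n Y d (Coh.structureModule (KRR.PY n Y))

theorem finLocFree_structure (X : Scheme.{u}) : FlatMod.IsFinLocFree (Coh.structureModule X) :=
  PnVan.finLocFree_of_inv (PnDeg0.isInvertible_structure X)

theorem van_Od {d : ℤ} (hd : -(n : ℤ) ≤ d) {i : ℕ} (hi : 1 ≤ i) : CMReg.Van i (Od n Y d) := by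
  obtain ⟨e⟩ := H11Ample.nonempty_pullback_structureModule_iso (KRR.pr n Y)
  exact CMReg.van_iso (((DCoh.tensorBi (X := KRR.PY n Y)).obj (Twist.twistOver n Y d)).mapIso e)
    (PnVan.van_pullback hi hd (Coh.structureModule Y)
      (H8Props.FinLocFree.isQCoh_of_isFinLocFree _ (finLocFree_structure Y)))

theorem van_twF_Od {d : ℤ} (hd : -(n : ℤ) ≤ d) (k q : ℕ) (hq : 1 ≤ q) :
    CMReg.Van q (KRR.twF n Y (k : ℤ) (Od n Y d)) := by
  obtain ⟨e⟩ := RegSheaf.nonempty_twF_twF (n := n) (T := Y) (k : ℤ) d (k + d) rfl (Coh.structureModule (KRR.PY n Y))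
  exact CMReg.van_iso e.symm (van_Od (by omega) hq)

theorem nonempty_Od (d : ℤ) : Nonempty (Od n Y d ≅ Twist.twistOver n Y d) :=
  ⟨(H16Derived.ProjFormula.ρ (KRR.PY n Y)).app (Twist.twistOver n Y d)⟩

theorem isZero_push_Od {d : ℤ} (hd : -(n : ℤ) ≤ d) (hd' : d < 0) :
    IsZero ((Scheme.Modules.pushforward (KRR.pr n Y)).obj (Od n Y d)) := by
  obtain ⟨e⟩ := nonempty_Od (n := n) (Y := Y) d
  exact (PnDeg0.isZero_push_twist_neg hd hd').of_iso ((Scheme.Modules.pushforward (KRR.pr n Y)).mapIso e)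

/-- p_K [O(d)] = 0 for -n ≤ d < 0. -/
theorem push_Od_neg [IsNoetherian Y] {A : Type*} [AddCommGroup A] (g : SGA6.Kvb (KRR.PY n Y) →+ A)
    (ψ : SGA6.Kvb Y →+ A)
    (hg : ∀ F : (KRR.PY n Y).Modules, FlatMod.IsFinLocFree F → KRR.IsRegSheaf n Y F →
      g (KRR.cl _ F) = ψ (KRR.cl Y ((Scheme.Modules.pushforward (KRR.pr n Y)).obj F)))
    {d : ℤ} (hd : -(n : ℤ) ≤ d) (hd' : d < 0) : g (KRR.cl _ (Od n Y d)) = 0 := by
  rw [push_acyc g ψ hg (RegBundle.finLocFree_twF _ (finLocFree_structure _)) (van_twF_Od hd),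
    KModel.cl_isZero (isZero_push_Od hd hd'), map_zero]

/-- p_K [O] = [O]. -/
theorem push_structure [IsNoetherian Y] {A : Type*} [AddCommGroup A] (g : SGA6.Kvb (KRR.PY n Y) →+ A)
    (ψ : SGA6.Kvb Y →+ A)
    (hg : ∀ F : (KRR.PY n Y).Modules, FlatMod.IsFinLocFree F → KRR.IsRegSheaf n Y F →
      g (KRR.cl _ F) = ψ (KRR.cl Y ((Scheme.Modules.pushforward (KRR.pr n Y)).obj F))) :
    g (KRR.cl _ (Coh.structureModule (KRR.PY n Y))) = ψ (KRR.cl Y (Coh.structureModule Y)) := by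
  obtain ⟨e⟩ := RegSheaf.nonempty_twF_zero (n := n) (T := Y) (Coh.structureModule (KRR.PY n Y))
  obtain ⟨e'⟩ := PnDeg0.nonempty_push_structure (n := n) (T := Y)
  rw [push_acyc g ψ hg (finLocFree_structure _) fun k q hq =>
    van_Od (d := (k : ℤ)) (by omega) hq, ← KModel.cl_iso e' (finLocFree_structure Y)]

theorem cl_twF_twF {a b c : ℤ} (h : c = a + b) {F : (KRR.PY n Y).Modules} (hF : FlatMod.IsFinLocFree F) :
    KRR.cl (KRR.PY n Y) (KRR.twF n Y a (KRR.twF n Y b F)) = KRR.cl (KRR.PY n Y) (KRR.twF n Y c F) := by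
  obtain ⟨e⟩ := RegSheaf.nonempty_twF_twF (n := n) (T := Y) a b c h F
  exact KModel.cl_iso (M := KRR.twF n Y a (KRR.twF n Y b F)) (N := KRR.twF n Y c F) e
    (RegBundle.finLocFree_twF a (RegBundle.finLocFree_twF b hF))

theorem cl_twF_zero {F : (KRR.PY n Y).Modules} (hF : FlatMod.IsFinLocFree F) :
    KRR.cl (KRR.PY n Y) (KRR.twF n Y 0 F) = KRR.cl (KRR.PY n Y) F := by
  obtain ⟨e⟩ := RegSheaf.nonempty_twF_zero (n := n) (T := Y) F
  exact KModel.cl_iso (M := KRR.twF n Y 0 F) (N := F) e (RegBundle.finLocFree_twF 0 hF)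

/-- p_K [O(m)] = C(n+m, m). -/
theorem push_Od_nat [IsNoetherian Y] {A : Type*} [CommRing A] (g : SGA6.Kvb (KRR.PY n Y) →+ A)
    (ψ : SGA6.Kvb Y →+ A)
    (hg : ∀ F : (KRR.PY n Y).Modules, FlatMod.IsFinLocFree F → KRR.IsRegSheaf n Y F →
      g (KRR.cl _ F) = ψ (KRR.cl Y ((Scheme.Modules.pushforward (KRR.pr n Y)).obj F)))
    (hψ : ψ (KRR.cl Y (Coh.structureModule Y)) = 1) (m : ℕ) :
    g (KRR.cl _ (Od n Y (m : ℤ))) = ((n + m).choose m : A) := by
  have hO := finLocFree_structure (KRR.PY n Y)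
  have hE : FlatMod.IsFinLocFree (Od n Y (-(n : ℤ))) := RegBundle.finLocFree_twF _ hO
  let f : ℕ → A := fun k => g (KReg.fK n Y (Od n Y (-(n : ℤ))) k)
  have hf : SeqExt.Rec (n + 1) 0 f := fun a ha => by
    rw [← SeqExt.val_map g, KReg.rec_fK hE a ha, map_zero]
  have hfk : ∀ k : ℕ, f k = g (KRR.cl _ (Od n Y ((k : ℤ) - n))) := fun k =>
    congrArg g (cl_twF_twF (a := (k : ℤ)) (b := -(n : ℤ)) (c := (k : ℤ) - n) (sub_eq_add_neg _ _) hO)
  have hbase : ∀ k, k < n + 1 → f k = (k.choose n : A) := fun k hk => by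
    rcases Nat.lt_succ_iff_lt_or_eq.1 hk with hk' | hk'
    · rw [hfk, push_Od_neg g ψ hg (by omega) (by omega), Nat.choose_eq_zero_of_lt hk', Nat.cast_zero]
    · rw [hfk, show ((k : ℤ) - n) = 0 by omega, hk', Nat.choose_self, Nat.cast_one, cl_twF_zero hO,
        push_structure g ψ hg, hψ]
  have key := (hfk (n + m)).symm.trans (SeqExt.eq_of_rec hf (SeqExt.rec_choose n) hbase (n + m))
  rw [show (((n + m : ℕ) : ℤ) - n) = (m : ℤ) by push_cast; ring] at key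
  rw [key, Nat.choose_symm_add]

end Groth.Agent.H22Alg.KPush
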