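import Groth.Agent.H22Alg.KExists
import Groth.Agent.H22Alg.KAmple
import Groth.Agent.H22Alg.PnDeg0
import Groth.Agent.H22Alg.PBRel
import Groth.Agent.H22Alg.KosTwist
import Groth.Agent.H11Sym.InvertibleInverse
import Groth.Agent.H10Coh.SerreVanishing2

/-! # Products of more than `dim X` classes `[L] - 1` vanish in the presence of an ample module. -/

set_option autoImplicit false
set_option linter.style.haveILetI false

universe v u

open CategoryTheory CategoryTheory.Limits AlgebraicGeometry Opposite TopologicalSpace LambdaRing ZeroObject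
open Groth.Agent.H11Tilde Groth.Agent.H11Ample
attribute [local instance] HasDerivedCategory.standard

noncomputable section

namespace Groth.Agent.H22Alg.KLineVanish

variable {X : Scheme.{u}}

/-- A sum of sections generates where exactly one of them does. -/
theorem mem_gen_sum {M : X.Modules} (hM : PicF.IsInvertible M) {ι : Type*} [Fintype ι] (t : ι → Γ(M, ⊤))
    {y : X} {w : ι} (hw : y ∈ gen M (t w)) (hne : ∀ v, v ≠ w → y ∉ gen M (t v)) : y ∈ gen M (∑ v, t v) := by
  classical
  let g : ι → M.presheaf.stalk y := fun v => M.presheaf.germ ⊤ y trivial (t v)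
  have hb : Function.Bijective fun r : X.presheaf.stalk y => r • g w := (mem_gen_iff hM _ y).1 hw
  choose a ha using fun v => hb.2 (g v)
  beta_reduce at ha
  have hsum : M.presheaf.germ ⊤ y trivial (∑ v, t v) = (∑ v, a v) • g w := by
    rw [Finset.sum_smul]
    exact (map_sum _ _ _).trans (Finset.sum_congr rfl fun v _ => (ha v).symm)
  have haw : a w = 1 := hb.1 (by
    show a w • g w = (1 : X.presheaf.stalk y) • g w
    rw [ha w, one_smul])
  have hnu : ∀ v ∈ Finset.univ.erase w, a v ∈ IsLocalRing.maximalIdeal (X.presheaf.stalk y) := fun v hv => by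
    refine (IsLocalRing.mem_maximalIdeal _).2 fun hu => hne v (Finset.ne_of_mem_erase hv) ?_
    rw [mem_gen_iff hM]
    refine Eq.mpr (congrArg Function.Bijective (funext fun r => ?_)) (hb.comp hu.unit.mulRight.bijective)
    show r • g v = (r * a v) • g w
    rw [mul_smul, ha v]
  have hu : IsUnit (∑ v, a v) := by
    rw [← Finset.add_sum_erase _ _ (Finset.mem_univ w), haw]
    by_contra hn
    refine (IsLocalRing.maximalIdeal.isMaximal (X.presheaf.stalk y)).ne_top ((Ideal.eq_top_iff_one _).2 ?_)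
    simpa using Ideal.sub_mem _ ((IsLocalRing.mem_maximalIdeal _).2 hn) (Ideal.sum_mem _ hnu)
  rw [mem_gen_iff hM]
  refine Eq.mpr (congrArg Function.Bijective (funext fun r => ?_)) (hb.comp hu.unit.mulRight.bijective)
  show r • M.presheaf.germ ⊤ y trivial (∑ v, t v) = (r * ∑ v, a v) • g w
  rw [hsum, mul_smul]

/-- With an ample module, suitable twists have sections generating at any finite set of points. -/
theorem exists_avoid [CompactSpace X] [QuasiSeparatedSpace X] {A L : X.Modules} (hA : CohB1.IsAmple A)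
    (hL : PicF.IsInvertible L) {F : Set X} (hF : F.Finite) :
    ∃ (M : ℕ) (σ : Γ(CohB1.tensorMod L (CohB1.tensorPow A M), ⊤)) (τ : Γ(CohB1.tensorPow A M, ⊤)),
      F ⊆ (gen _ σ : Set X) ∧ F ⊆ (gen _ τ : Set X) := by
  classical
  have hAi := isInvertible_of_isAmple hA
  obtain ⟨k₀, s₀, hk₀, hFs₀, -, -⟩ := exists_affine_gen_nhd_finite hA hF (U := ⊤) (fun _ _ => trivial)
  let F₀ := hF.toFinset
  let T := {w : X // w ∈ F₀ ∧ ∀ v ∈ F₀, w ⤳ v → v ⤳ w}
  haveI : Finite T := Finite.of_injective (fun w : T => (⟨w.1, w.2.1⟩ : F₀))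
    fun a b h => Subtype.ext (congrArg (fun q : F₀ => q.1) h)
  haveI : Fintype T := Fintype.ofFinite T
  choose VL eL hxL heL using fun w : T => exists_gen hL w.1
  choose VA eA hxA heA using fun w : T => exists_gen hAi w.1
  let W : T → X.Opens := fun w => VL w ⊓ VA w ⊓ ⟨⋂ v ∈ {v : T | v.1 ≠ w.1}, (closure {v.1})ᶜ,
    Set.Finite.isOpen_biInter (Set.toFinite _) fun v _ => isClosed_closure.isOpen_compl⟩
  have hW : ∀ w : T, w.1 ∈ W w := fun w => by
    refine ⟨⟨hxL w, hxA w⟩, Set.mem_iInter₂.2 fun v hv hmem => hv ?_⟩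
    have hvw : v.1 ⤳ w.1 := specializes_iff_mem_closure.2 hmem
    exact (hvw.antisymm (v.2.2 w.1 w.2.1 hvw)).eq
  choose k s hk hxs hsW hs using fun w : T => exists_affine_gen_le hA (hW w)
  have hgA : ∀ w, IsGen A (A.presheaf.map (homOfLE ((hsW w).trans (inf_le_left.trans inf_le_right))).op (eA w)) :=
    fun w => (heA w).res _
  have hgL : ∀ w, IsGen L (L.presheaf.map (homOfLE ((hsW w).trans (inf_le_left.trans inf_le_left))).op (eL w)) :=
    fun w => (heL w).res _
  choose N hN using fun w : T => exists_extend_pow hAi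
    (H8Props.FinLocFree.isQCoh_of_isFinLocFree _ (KModel.finLocFree_invertible hL)) (hk w) (s w) (hgA w)
    (L.presheaf.map (homOfLE ((hsW w).trans (inf_le_left.trans inf_le_left))).op (eL w))
  let K := ∏ w, k w
  have hK : 0 < K := Finset.prod_pos fun w _ => hk w
  have hdiv : ∀ w, ∃ (t : Γ(CohB1.tensorPow A K, ⊤)), gen _ t = gen _ (s w) := fun w => by
    obtain ⟨d, hd⟩ : k w ∣ K := Finset.dvd_prod_of_mem k (Finset.mem_univ w)
    obtain ⟨φ, -⟩ := exists_iso_mul hAi (k w) d
    obtain ⟨t, ht⟩ := exists_section_of_eq hd.symm (φ.hom.app ⊤ (spow (s w) d))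
    refine ⟨t, ?_⟩
    rw [ht, gen_iso, gen_spow (isInvertible_tensorPow hAi _) _ d (Nat.pos_of_mul_pos_left (hd ▸ hK))]
  choose t ht using hdiv
  let q := Finset.univ.sup N + K + 1
  let M := k₀ * q
  have hq : q ≤ M := Nat.le_mul_of_pos_left q hk₀
  let n := M - K
  have hn : ∀ w, N w ≤ n := fun w => by
    have := Finset.le_sup (f := N) (Finset.mem_univ w)
    omega
  choose S c hc hS using fun w => hN w n (hn w)
  have hSmem : ∀ w : T, w.1 ∈ gen _ (S w) := fun w => by
    refine mem_gen_of_isGen (W := gen _ (s w)) ?_ (hxs w)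
    rw [hS w]
    exact isGen_tm ((hgL w).smul (hc w)) (isGen_spow (hgA w) n)
  have hnK : n + K = M := by omega
  obtain ⟨φ, -⟩ := exists_iso_add hAi n K
  let ι : CohB1.tensorMod (CohB1.tensorMod L (CohB1.tensorPow A n)) (CohB1.tensorPow A K) ≅
      CohB1.tensorMod L (CohB1.tensorPow A M) :=
    H10Coh.Tw.assoc L (CohB1.tensorPow A n) (CohB1.tensorPow A K) ≪≫
      PicGrp.tensorModIso (Iso.refl L) (φ ≪≫ eqToIso (congrArg (CohB1.tensorPow A) hnK))
  let σw : T → Γ(CohB1.tensorMod L (CohB1.tensorPow A M), ⊤) := fun w => ι.hom.app ⊤ (tm (S w) (t w))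
  have hσw : ∀ w, gen _ (σw w) = gen _ (S w) ⊓ gen _ (s w) := fun w => by
    rw [gen_iso, gen_tm (isInvertible_tensor hL (isInvertible_tensorPow hAi n)) (isInvertible_tensorPow hAi K), ht w]
  obtain ⟨φ₀, -⟩ := exists_iso_mul hAi k₀ q
  refine ⟨M, ∑ w, σw w, φ₀.hom.app ⊤ (spow s₀ q), fun z hz => ?_, ?_⟩
  · obtain ⟨w, hw, hzw, hmax⟩ := exists_maximal_special (hF.mem_toFinset.2 hz)
    refine hzw.mem_open (gen _ _).isOpen ?_
    refine mem_gen_sum (isInvertible_tensor hL (isInvertible_tensorPow hAi M)) σw (w := ⟨w, hw, hmax⟩) ?_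
      fun v hv hmem => ?_
    · rw [hσw]
      exact ⟨hSmem ⟨w, hw, hmax⟩, hxs ⟨w, hw, hmax⟩⟩
    · rw [hσw] at hmem
      exact Set.mem_iInter₂.1 (hsW v hmem.2).2 ⟨w, hw, hmax⟩ (fun e => hv (Subtype.ext e.symm)) (subset_closure rfl)
  · rw [gen_iso, gen_spow (isInvertible_tensorPow hAi k₀) s₀ q (by omega)]
    exact hFs₀

section Model

variable {K : Type v} [CommRing K] [LambdaOps K] {P : PosStructure K} {φ : SGA6.Kvb X →+ K}

/-- `Σ_{i ≤ n} (-1)^i λ^i`. -/
abbrev alt (n : ℕ) (x : K) : K := ∑ i ∈ Finset.range (n + 1), (-1 : K) ^ i * LambdaOps.lam i x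

theorem alt_add_line {n : ℕ} {y l : K} (hy : ∀ i, n < i → LambdaOps.lam i y = 0)
    (hl : ∀ i, 2 ≤ i → LambdaOps.lam i l = 0) :
    (∀ i, n + 1 < i → LambdaOps.lam i (y + l) = 0) ∧ alt (n + 1) (y + l) = alt n y * (1 - l) := by
  have hrec : ∀ i, LambdaOps.lam (i + 1) (y + l) = LambdaOps.lam (i + 1) y + LambdaOps.lam i y * l := fun i => by
    rw [LambdaOps.lam_add, Finset.sum_range_succ, Finset.sum_range_succ, Nat.sub_self, LambdaOps.lam_zero,
      show i + 1 - i = 1 by omega, LambdaOps.lam_one, mul_one, Finset.sum_eq_zero fun j hj => by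
        rw [hl _ (by have := Finset.mem_range.1 hj; omega), mul_zero], zero_add, add_comm]
  refine ⟨fun i hi => ?_, ?_⟩
  · obtain ⟨i, rfl⟩ := Nat.exists_eq_add_of_le' (show 1 ≤ i by omega)
    rw [hrec, hy _ (by omega), hy i (by omega), zero_mul, add_zero]
  · have key : ∀ m, alt (m + 1) (y + l) = alt m y * (1 - l) + (-1) ^ (m + 1) * LambdaOps.lam (m + 1) y := by
      intro m
      induction m with
      | zero =>
        simp only [alt, zero_add, Finset.sum_range_succ, Finset.sum_range_zero, LambdaOps.lam_zero, LambdaOps.lam_one]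
        ring
      | succ m ih =>
        rw [alt, Finset.sum_range_succ, show (∑ i ∈ Finset.range (m + 1 + 1), (-1 : K) ^ i * LambdaOps.lam i (y + l)) =
          alt (m + 1) (y + l) from rfl, ih, hrec, alt, alt, Finset.sum_range_succ _ (m + 1)]
        ring
    rw [key, hy (n + 1) (by omega), mul_zero, add_zero]

/-- A list of invertible modules with sections. -/
abbrev Secs (X : Scheme.{u}) := List (Σ' (B : X.Modules), Γ(B, ⊤))

/-- The common zero set. -/
def zset (l : Secs X) : Set X := {x | ∀ p ∈ l, x ∉ gen p.1 p.2}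

variable (hK : KRR.IsModel X K P φ)

include hK in
theorem lam_line {N : X.Modules} (hN : PicF.IsInvertible N) (i : ℕ) (hi : 2 ≤ i) :
    LambdaOps.lam i (φ (KRR.cl X N)) = 0 :=
  P.lam_eq_zero _ ((hK.mem_pos_iff _).2 ⟨1, N, le_rfl, KModel.finLocFreeOfRank_invertible hN, rfl⟩) i
    (by rw [KModel.aug_line hK hN]; exact_mod_cast hi)

include hK in
theorem exists_dual (l : Secs X) (hl : ∀ p ∈ l, PicF.IsInvertible p.1) :
    ∃ (E : X.Modules) (u : E ⟶ Coh.structureModule X), FlatMod.IsFinLocFree E ∧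
      P.aug (φ (KRR.cl X E)) = l.length ∧ (∀ i, l.length < i → LambdaOps.lam i (φ (KRR.cl X E)) = 0) ∧
      alt l.length (φ (KRR.cl X E)) * (l.map fun p => φ (KRR.cl X p.1)).prod =
        (l.map fun p => φ (KRR.cl X p.1) - 1).prod ∧
      ∀ p ∈ l, ∀ x ∈ gen p.1 p.2, ∃ (V : X.Opens) (_ : x ∈ V) (m : Γ(E, V)), IsUnit (show Γ(X, V) from u.app V m) := by
  induction l with
  | nil =>
    refine ⟨0, 0, KModel.finLocFree_zero (isZero_zero _), ?_, fun i hi => ?_, ?_, fun p hp => by simp at hp⟩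
    · rw [KModel.cl_isZero (isZero_zero _), map_zero, map_zero]; simp
    · rw [KModel.cl_isZero (isZero_zero _), map_zero]
      exact H27Lambda.lam_zero_of_pos hi
    · simp [alt, LambdaOps.lam_zero]
  | cons p l ih =>
    obtain ⟨E, u, hE, haug, hlam, halt, hgen⟩ := ih fun q hq => hl q (List.mem_cons_of_mem _ hq)
    have hB := hl p List.mem_cons_self
    obtain ⟨N, hN, ⟨e⟩⟩ := H11Sym.exists_inverse hB
    let N' := CohB1.tensorMod N (Coh.structureModule X)
    let t : N' ⟶ Coh.structureModule X := KosTwist.tensorLeftMap N (homOfGlobal p.1 p.2) ≫ e.hom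
    have hN' : PicF.IsInvertible N' := isInvertible_tensor hN (PnDeg0.isInvertible_structure X)
    have hN'f := KModel.finLocFree_invertible hN'
    have hinv : φ (KRR.cl X N') * φ (KRR.cl X p.1) = 1 := by
      rw [show φ (KRR.cl X N') = φ (KRR.cl X N) from by
          rw [show N' = CohB1.tensorMod N (Coh.structureModule X) from rfl,
            KModel.map_tensorMod hK (KModel.finLocFree_invertible hN) KModel.finLocFree_structure, hK.map_one, mul_one],
        ← KModel.map_tensorMod hK (KModel.finLocFree_invertible hN) (KModel.finLocFree_invertible hB), ← hK.map_one]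
      exact congrArg φ (KModel.cl_iso e (KModel.finLocFree_tensorMod (KModel.finLocFree_invertible hN)
        (KModel.finLocFree_invertible hB)))
    have hcl : φ (KRR.cl X (E ⊞ N')) = φ (KRR.cl X E) + φ (KRR.cl X N') := by
      rw [← map_add]; exact congrArg φ (KModel.cl_biprod hE hN'f)
    obtain ⟨h1, h2⟩ := alt_add_line (l := φ (KRR.cl X N')) hlam (lam_line hK hN')
    refine ⟨E ⊞ N', biprod.desc u t, H16Derived.KFlat.Stalk.isFinLocFree_biprod hE hN'f, ?_, ?_, ?_, ?_⟩
    · rw [hcl, map_add, haug, KModel.aug_line hK hN', List.length_cons]; push_cast; rfl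
    · rw [hcl, List.length_cons]; exact h1
    · rw [hcl, List.length_cons, h2, List.map_cons, List.prod_cons, List.map_cons, List.prod_cons]
      linear_combination (φ (KRR.cl X p.1) - 1) * halt - alt l.length (φ (KRR.cl X E)) *
        (l.map fun p => φ (KRR.cl X p.1)).prod * hinv
    · intro q hq x hx
      rcases List.mem_cons.1 hq with rfl | hq'
      · obtain ⟨V, e₀, hxV, he₀⟩ := exists_gen hN x
        let D := V ⊓ gen q.1 q.2
        let n₀ := N.presheaf.map (homOfLE (inf_le_left : D ≤ V)).op e₀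
        let b₀ := q.1.presheaf.map (homOfLE (le_top : D ≤ ⊤)).op q.2
        refine ⟨D, ⟨hxV, hx⟩, (biprod.inr : N' ⟶ E ⊞ N').app D (tm n₀ (one D)), ?_⟩
        have h3 : (biprod.desc u t).app D ((biprod.inr : N' ⟶ E ⊞ N').app D (tm n₀ (one D))) =
            t.app D (tm n₀ (one D)) :=
          congr($(congrArg (fun g => Scheme.Modules.Hom.app g D) (biprod.inr_desc u t)) _)
        have h4 : t.app D (tm n₀ (one D)) = e.hom.app D (tm n₀ b₀) := by
          refine congrArg (e.hom.app D) ((KosTwist.map_tm_right N (homOfGlobal q.1 q.2) n₀ (one D)).trans ?_)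
          exact congrArg (tm n₀) (one_smul Γ(X, D) b₀)
        have h5 : IsGen q.1 b₀ := by
          have := (isGen_gen q.2).res (inf_le_right : D ≤ gen q.1 q.2)
          rwa [H10Coh.mres_mres] at this
        have h6 := (isGen_tm (he₀.res (inf_le_left : D ≤ V)) h5).map_iso e
        obtain ⟨c, hc⟩ := exists_coeff h6 (one D)
        rw [h3, h4]
        exact IsUnit.of_mul_eq_one_right c hc.symm
      · obtain ⟨V, hxV, m, hm⟩ := hgen q hq' x hx
        refine ⟨V, hxV, (biprod.inl : E ⟶ E ⊞ N').app V m, ?_⟩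
        rw [show (biprod.desc u t).app V ((biprod.inl : E ⟶ E ⊞ N').app V m) = u.app V m from
          congr($(congrArg (fun g => Scheme.Modules.Hom.app g V) (biprod.inl_desc u t)) _)]
        exact hm

include hK in
/-- Invertible modules with sections without common zero: `Π ([B] - 1) = 0`. -/
theorem prod_eq_zero [ConnectedSpace ↥X] (l : Secs X) (hl : ∀ p ∈ l, PicF.IsInvertible p.1)
    (hz : zset l = ∅) : (l.map fun p => φ (KRR.cl X p.1) - 1).prod = 0 := by
  obtain ⟨E, u, hE, haug, hlam, halt, hgen⟩ := exists_dual hK l hl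
  haveI : Epi u := by
    refine epi_of_locally_surjective u fun W t x hx => ?_
    obtain ⟨p, hp, hxp⟩ : ∃ p ∈ l, x ∈ gen p.1 p.2 := by
      by_contra hn
      push Not at hn
      exact (Set.eq_empty_iff_forall_notMem.1 hz x) hn
    obtain ⟨V, hxV, m, hm⟩ := hgen p hp x hxp
    refine ⟨V ⊓ W, inf_le_right, ⟨hxV, hx⟩, ?_⟩
    obtain ⟨d, hd⟩ := hm.exists_left_inv
    obtain ⟨t', ht'⟩ : ∃ t' : Γ(X, V ⊓ W), (show Γ(Coh.structureModule X, V ⊓ W) from t') =
        (Coh.structureModule X).presheaf.map (homOfLE (inf_le_right : V ⊓ W ≤ W)).op t := ⟨_, rfl⟩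
    obtain ⟨z, hz⟩ : ∃ z : Γ(X, V), (show Γ(Coh.structureModule X, V) from z) = u.app V m := ⟨_, rfl⟩
    refine ⟨(t' * X.presheaf.map (homOfLE (inf_le_left : V ⊓ W ≤ V)).op d) •
      E.presheaf.map (homOfLE (inf_le_left : V ⊓ W ≤ V)).op m, ?_⟩
    rw [Scheme.Modules.Hom.app_smul, app_map_apply, ← ht', ← hz]
    have hd' : d * z = 1 := (congrArg (d * ·) hz).trans hd
    refine Eq.trans (b := (show Γ(Coh.structureModule X, V ⊓ W) from
      (t' * X.presheaf.map (homOfLE (inf_le_left : V ⊓ W ≤ V)).op d) * X.presheaf.map (homOfLE (inf_le_left : V ⊓ W ≤ V)).op z)) rfl ?_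
    refine congrArg (fun a : Γ(X, V ⊓ W) => (show Γ(Coh.structureModule X, V ⊓ W) from a)) ?_
    rw [mul_assoc, ← map_mul, hd', map_one, mul_one]
  have hO := KModel.finLocFree_structure (X := X)
  have hS : (ShortComplex.mk (kernel.ι u) u (kernel.condition u)).ShortExact :=
    { exact := ShortComplex.exact_kernel u }
  have hM := H16Derived.KFlat.Stalk.isFinLocFree_left hS hE hO
  obtain ⟨m, hm⟩ := KModel.exists_rank hM
  have hadd : φ (KRR.cl X E) = φ (KRR.cl X (kernel u)) + 1 := by
    rw [← hK.map_one, ← map_add]; exact congrArg φ (KModel.cl_add hS hM hE hO)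
  have hlen : l.length = m + 1 := by
    have h := congrArg P.aug hadd
    rw [haug, map_add, hK.aug_cl m _ hm, map_one] at h
    omega
  have hk : ∀ i, m < i → LambdaOps.lam i (φ (KRR.cl X (kernel u))) = 0 := fun i hi => by
    obtain hz0 | hz0 := Nat.eq_zero_or_pos m
    · subst hz0
      rw [KModel.cl_isZero (PBRel.isZero_of_rank_zero hm), map_zero]
      exact H27Lambda.lam_zero_of_pos hi
    · exact P.lam_eq_zero _ ((hK.mem_pos_iff _).2 ⟨m, _, hz0, hm, rfl⟩) i
        (by rw [hK.aug_cl m _ hm]; exact_mod_cast hi)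
  rw [← halt, hlen, hadd, (alt_add_line hk (H27Lambda.lam_one_eq_zero P)).2, sub_self, mul_zero, zero_mul]

end Model

section Descent

/-- A chain of `m + 1` distinct points, each specialising to the previous one. -/
def HasChain (m : ℕ) (Z : Set X) : Prop :=
  ∃ f : Fin (m + 1) → X, (∀ i, f i ∈ Z) ∧ ∀ i : Fin m, f i.succ ⤳ f i.castSucc ∧ f i.succ ≠ f i.castSucc

theorem not_hasChain_univ {d : ℕ} (hd : topologicalKrullDim X ≤ d) : ¬ HasChain (d + 1) (Set.univ : Set X) := by
  rintro ⟨f, -, hf⟩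
  let c : LTSeries (TopologicalSpace.IrreducibleCloseds X) :=
    { length := d + 1
      toFun := fun i => ⟨closure {f i}, isIrreducible_singleton.closure, isClosed_closure⟩
      step := fun i => by
        show (⟨closure {f i.castSucc}, _, _⟩ : TopologicalSpace.IrreducibleCloseds X) < ⟨closure {f i.succ}, _, _⟩
        refine lt_of_le_of_ne ?_ fun h => (hf i).2 ?_
        · exact closure_minimal (Set.singleton_subset_iff.2 (hf i).1.mem_closure) isClosed_closure
        · have h' : closure ({f i.castSucc} : Set X) = closure {f i.succ} :=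
            congrArg TopologicalSpace.IrreducibleCloseds.carrier h
          exact ((inseparable_iff_closure_eq.2 h').eq).symm }
  have := (Order.LTSeries.length_le_krullDim c).trans hd
  simp only [c, Nat.cast_le] at this
  omega

variable [IsNoetherian X]

theorem exists_generic (Z : Set X) (hZ : IsClosed Z) :
    ∃ F : Set X, F.Finite ∧ F ⊆ Z ∧ ∀ x ∈ Z, ∃ η ∈ F, η ⤳ x := by
  haveI : NoetherianSpace X := inferInstance
  obtain ⟨S, hSf, hS, hZS⟩ := NoetherianSpace.exists_finite_set_closeds_irreducible (⟨Z, hZ⟩ : Closeds X)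
  haveI := hSf.to_subtype
  let g : S → X := fun C => (hS C.1 C.2).genericPoint
  have hg : ∀ C : S, IsGenericPoint (g C) (C.1 : Set X) := fun C => by
    have h := (hS C.1 C.2).isGenericPoint_genericPoint_closure
    rwa [C.1.isClosed.closure_eq] at h
  refine ⟨Set.range g, Set.finite_range g, ?_, fun x hx => ?_⟩
  · rintro _ ⟨C, rfl⟩
    have h1 : C.1 ≤ (⟨Z, hZ⟩ : Closeds X) := hZS ▸ le_sSup C.2
    exact h1 (hg C).mem
  · have h1 : (⟨Z, hZ⟩ : Closeds X) ≤ ⟨⋃ C ∈ S, (C : Set X), hSf.isClosed_biUnion fun C _ => C.isClosed⟩ :=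
      hZS.le.trans (sSup_le fun C hC => fun y hy => Set.mem_biUnion hC hy)
    obtain ⟨C, hC, hxC⟩ := Set.mem_iUnion₂.1 (h1 hx)
    exact ⟨g ⟨C, hC⟩, ⟨_, rfl⟩, (hg ⟨C, hC⟩).specializes hxC⟩

theorem not_hasChain_inter {Z : Set X} {F : Set X} (hF : F ⊆ Z) (hgen : ∀ x ∈ Z, ∃ η ∈ F, η ⤳ x) {m : ℕ}
    (h : ¬ HasChain (m + 1) Z) {U : X.Opens} (hFU : F ⊆ (U : Set X)) : ¬ HasChain m {x | x ∈ Z ∧ x ∉ U} := by
  rintro ⟨f, hfm, hf⟩
  obtain ⟨η, hη, hηx⟩ := hgen _ (hfm (Fin.last m)).1
  refine h ⟨Fin.snoc f η, fun i => ?_, fun i => ?_⟩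
  · cases i using Fin.lastCases with
    | last => rw [Fin.snoc_last]; exact hF hη
    | cast j => rw [Fin.snoc_castSucc]; exact (hfm j).1
  · cases i using Fin.lastCases with
    | last =>
      rw [Fin.succ_last, Fin.snoc_last, Fin.snoc_castSucc]
      exact ⟨hηx, fun e => (hfm (Fin.last m)).2 (e ▸ hFU hη)⟩
    | cast j =>
      rw [Fin.succ_castSucc, Fin.snoc_castSucc, Fin.snoc_castSucc]
      exact hf j

theorem isClosed_zset (l : Secs X) : IsClosed (zset l) := by
  have : zset l = ⋂ p ∈ {p | p ∈ l}, ((gen p.1 p.2 : Set X))ᶜ := by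
    ext x; simp [zset]
  rw [this]
  exact isClosed_biInter fun p _ => (gen p.1 p.2).isOpen.isClosed_compl

variable [ConnectedSpace ↥X] {K : Type v} [CommRing K] [LambdaOps K] {P : PosStructure K} {φ : SGA6.Kvb X →+ K}
  (hK : KRR.IsModel X K P φ) {A : X.Modules} (hA : CohB1.IsAmple A)

include hK hA

theorem descent : ∀ (m : ℕ) (l : Secs X), (∀ p ∈ l, PicF.IsInvertible p.1) →
    (∀ n, m ≤ n → ¬ HasChain n (zset l)) →
    ∀ u : Fin m → K, (∀ j, P.IsLine (u j)) → (l.map fun p => φ (KRR.cl X p.1) - 1).prod * ∏ j, (u j - 1) = 0 := by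
  intro m
  induction m with
  | zero =>
    intro l hl hc u _
    rw [prod_eq_zero hK l hl (Set.eq_empty_iff_forall_notMem.2 fun x hx =>
      hc 0 le_rfl ⟨fun _ => x, fun _ => hx, fun i => i.elim0⟩), zero_mul]
  | succ m ih =>
    intro l hl hc u hu
    haveI : QuasiSeparatedSpace X := quasiSeparatedSpace_of_isAmple hA
    obtain ⟨r, L, -, hL, hLu⟩ := (hK.mem_pos_iff _).1 (hu 0).1
    obtain rfl : r = 1 := by
      have h := hK.aug_cl r L hL
      rw [hLu, (hu 0).2] at h
      omega
    have hLi := KExists.isInvertible_of_rank_one hL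
    obtain ⟨F, hFf, hFZ, hgen⟩ := exists_generic (zset l) (isClosed_zset l)
    obtain ⟨N, σ, τ, hσ, hτ⟩ := exists_avoid hA hLi hFf
    have hAi := isInvertible_of_isAmple hA
    have hAN := isInvertible_tensorPow hAi N
    have step : ∀ (B : X.Modules) (s : Γ(B, ⊤)), PicF.IsInvertible B → F ⊆ (gen B s : Set X) →
        (φ (KRR.cl X B) - 1) * ((l.map fun p => φ (KRR.cl X p.1) - 1).prod * ∏ j : Fin m, (u j.succ - 1)) = 0 := by
      intro B s hB hs
      have h := ih (⟨B, s⟩ :: l) (fun p hp => by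
          rcases List.mem_cons.1 hp with rfl | hp'
          · exact hB
          · exact hl p hp') (fun n hn hch => ?_) (fun j => u j.succ) (fun j => hu _)
      · rw [List.map_cons, List.prod_cons, mul_assoc] at h
        exact h
      · refine not_hasChain_inter hFZ hgen (hc (n + 1) (by omega)) hs ?_
        obtain ⟨f, hf1, hf2⟩ := hch
        exact ⟨f, fun i => ⟨fun p hp => hf1 i p (List.mem_cons_of_mem _ hp), hf1 i ⟨B, s⟩ List.mem_cons_self⟩, hf2⟩
    have h1 := step _ σ (isInvertible_tensor hLi hAN) hσ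
    have h2 := step _ τ hAN hτ
    rw [KModel.map_tensorMod hK (KModel.finLocFree_invertible hLi) (KModel.finLocFree_invertible hAN), hLu] at h1
    obtain ⟨N', hN', ⟨e⟩⟩ := H11Sym.exists_inverse hAN
    have hinv : φ (KRR.cl X N') * φ (KRR.cl X (CohB1.tensorPow A N)) = 1 := by
      rw [← KModel.map_tensorMod hK (KModel.finLocFree_invertible hN') (KModel.finLocFree_invertible hAN), ← hK.map_one]
      exact congrArg φ (KModel.cl_iso e (KModel.finLocFree_tensorMod (KModel.finLocFree_invertible hN')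
        (KModel.finLocFree_invertible hAN)))
    rw [Fin.prod_univ_succ]
    linear_combination φ (KRR.cl X N') * (h1 - h2) -
      (u 0 - 1) * ((l.map fun p => φ (KRR.cl X p.1) - 1).prod * ∏ j : Fin m, (u j.succ - 1)) * hinv

/-- Products of more than `dim X` classes `[L] - 1` vanish. -/
theorem prod_line_sub_one_eq_zero {d : ℕ} (hd : topologicalKrullDim X ≤ d) {m : ℕ} (hm : d < m)
    (u : Fin m → K) (hu : ∀ j, P.IsLine (u j)) : ∏ j, (u j - 1) = 0 := by
  have h := descent hK hA m [] (fun p hp => by simp at hp) (fun n hn ⟨f, _, hf⟩ => ?_) u hu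
  · simpa using h
  · obtain ⟨j, rfl⟩ := Nat.exists_eq_add_of_le (show d + 1 ≤ n by omega)
    exact not_hasChain_univ hd ⟨fun i => f (i.castLE (by omega)), fun i => trivial, fun i => by
      exact hf (i.castLE (by omega))⟩

end Descent

end Groth.Agent.H22Alg.KLineVanish
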