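import Groth.Agent.H06EGA14.Chevalley3
import Groth.Agent.H06EGA14.ValuationDim
import Groth.Agent.H06EGA14.EquidimStalk

/-! # Equidimensional irreducible components through a point (EGA IV 13.3.2, 14.4.10). -/

set_option autoImplicit false
set_option linter.style.haveILetI false
set_option backward.isDefEq.respectTransparency false
universe u

open CategoryTheory CategoryTheory.Limits AlgebraicGeometry TopologicalSpace Topology

namespace Groth.Agent.H22Alg.EquidimComponent

open H8Props.FieldDim

variable {X S : Scheme.{u}} (f : X ⟶ S) [LocallyOfFiniteType f]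

theorem closure_mem_components {Z : Scheme.{u}} {η : Z} (hmax : ∀ ζ, ζ ⤳ η → ζ = η) :
    closure ({η} : Set Z) ∈ irreducibleComponents Z :=
  H06Equidim.closure_singleton_mem_irreducibleComponents η hmax

/-- A component whose generic fibre dimension reaches the fibre dimension at `x` is equidimensional at `x`. -/
theorem exists_component_equidim (η x : X) (hη : η ⤳ x) (hmax : ∀ ζ, ζ ⤳ η → ζ = η)
    (hmaxS : ∀ w, w ⤳ f η → w = f η) (hle : FlatMor.fibreDimAt f x ≤ cdim (f.asFiber η)) :
    ∃ W : TopologicalSpace.Closeds X, (W : Set X) ∈ irreducibleComponents (X : Type u) ∧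
      ∃ w : ↥((Scheme.IdealSheafData.vanishingIdeal W).subscheme),
        (Scheme.IdealSheafData.vanishingIdeal W).subschemeι.base w = x ∧
        EGA43.IsEquidimAt ((Scheme.IdealSheafData.vanishingIdeal W).subschemeι ≫ f) w := by
  let W : TopologicalSpace.Closeds X := ⟨closure {η}, isClosed_closure⟩
  refine ⟨W, closure_mem_components hmax, ?_⟩
  let i := (Scheme.IdealSheafData.vanishingIdeal W).subschemeι
  have hri : Set.range i = (W : Set X) := by
    rw [Scheme.IdealSheafData.range_subschemeι]
    rfl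
  obtain ⟨w, hw⟩ : x ∈ Set.range i := hri.ge hη.mem_closure
  obtain ⟨η', hη'⟩ : η ∈ Set.range i := hri.ge (subset_closure rfl)
  have hgen : ∀ z, η' ⤳ z := fun z => i.isEmbedding.isInducing.specializes_iff.1
    (by rw [hη']; exact specializes_iff_mem_closure.2 (hri.le ⟨z, rfl⟩))
  have hmax' : ∀ ζ, ζ ⤳ η' → ζ = η' := fun ζ hζ => (hζ.antisymm (hgen ζ)).eq
  obtain ⟨e, he, -⟩ := H06Equidim.exists_trdeg_asFiber f η
  let O : (Scheme.IdealSheafData.vanishingIdeal W).subscheme.Opens :=
    i ⁻¹ᵁ ⟨_, isOpen_fibreDimAt_le f e⟩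
  have hwO : w ∈ O := by
    show FlatMor.fibreDimAt f (i w) ≤ (e : ℕ)
    rw [hw, ← he]
    exact hle
  have hdim : ∀ z : O.toScheme, FlatMor.fibreDimAt (O.ι ≫ i ≫ f) z = (e : ℕ) := by
    intro z
    rw [H06Equidim.fibreDimAt_opens_ι (i ≫ f) O z]
    refine le_antisymm ((H06EGA14.fibreDimAt_comp_closedImmersion_le i f _).trans z.2) ?_
    refine le_trans ?_ (fibreDimAt_le_of_specializes (i ≫ f) (hgen _))
    rw [← H06Equidim.cdim_asFiber_eq_fibreDimAt (i ≫ f) η' hmax',
      H06EGA14.cdim_asFiber_comp_closedImmersion i f η', hη', he]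
  refine ⟨w, hw, e, O, hwO, fun T hT => ?_, fun z T hT => ?_⟩
  · obtain ⟨θ, rfl, hθ⟩ := mem_irreducibleComponents_iff
      (show T ∈ irreducibleComponents O.toScheme from hT)
    refine ⟨closure {f η}, closure_mem_components hmaxS, ?_, ?_⟩
    · show f (i w) ∈ _
      rw [hw]
      exact (hη.map f.continuous).mem_closure
    · have h1 : η' ∈ O := (hgen w).mem_open O.2 hwO
      have hθη : θ = ⟨η', h1⟩ := by
        refine (hθ _ ((O.ι.isEmbedding.isInducing.specializes_iff (x := ⟨η', h1⟩)).1 ?_)).symm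
        exact hgen _
      subst hθη
      refine (H06Equidim.closure_image_closure_singleton (O.ι ≫ i ≫ f) _).trans ?_
      show closure {f (i η')} = _
      rw [hη']
  · exact H06Equidim.dim_component_fibre_of_fibreDimAt (O.ι ≫ i ≫ f) _ hdim _ T hT

/-- A morphism universally open is universally open at every point. -/
theorem isUnivOpenAt {X S : Scheme.{u}} (f : X ⟶ S) [UniversallyOpen f] (x : X) :
    EGA43.IsUnivOpenAt f x := fun _ g x' _ _ hU =>
  (pullback.snd f g).isOpenMap.image_mem_nhds hU

/-- Equidimensional at a point ⇒ a component through it is equidimensional there. -/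
theorem of_isEquidimAt (x : X) (h : EGA43.IsEquidimAt f x) :
    ∃ W : TopologicalSpace.Closeds X, (W : Set X) ∈ irreducibleComponents (X : Type u) ∧
      ∃ w : ↥((Scheme.IdealSheafData.vanishingIdeal W).subscheme),
        (Scheme.IdealSheafData.vanishingIdeal W).subschemeι.base w = x ∧
        EGA43.IsEquidimAt ((Scheme.IdealSheafData.vanishingIdeal W).subschemeι ≫ f) w := by
  obtain ⟨η, hη, hmax, hmaxS, -, hd⟩ := H06EGA14.exists_generic_of_isEquidimAt f x h
  exact exists_component_equidim f η x hη hmax hmaxS hd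

/-- Universally open ⇒ a component through each point is equidimensional there. -/
theorem of_universallyOpen [UniversallyOpen f] (x : X) :
    ∃ W : TopologicalSpace.Closeds X, (W : Set X) ∈ irreducibleComponents (X : Type u) ∧
      ∃ w : ↥((Scheme.IdealSheafData.vanishingIdeal W).subscheme),
        (Scheme.IdealSheafData.vanishingIdeal W).subschemeι.base w = x ∧
        EGA43.IsEquidimAt ((Scheme.IdealSheafData.vanishingIdeal W).subschemeι ≫ f) w := by
  obtain ⟨ξ, hξ, -, hξmax, hξd⟩ := H06EGA14.exists_maximal_generization f x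
  obtain ⟨η₀, hη₀, hT₀⟩ := exists_component_generization (f ξ)
  have hmax₀ := H06Equidim.eq_of_specializes_of_component hT₀
  obtain ⟨η, hη, hfη, hmax, hd⟩ := H06EGA14.exists_generic_of_le_dim_inter' f ξ η₀ hmax₀
    (fun U hU => H06EGA14.le_dim_inter_of_isUnivOpenAt' f ξ hξmax (isUnivOpenAt f ξ) U hU η₀ hη₀) hξmax
  refine exists_component_equidim f η x (hη.trans hξ) hmax (hfη.symm ▸ hmax₀) (le_of_eq ?_)
  rw [hd, ← H06EGA14.cdim_asFiber_eq_fibreDimAt_of_fibre f ξ hξmax, hξd]

/-- (iv) ⇒ (iii). -/
theorem of_maximal_points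
    (h : ∀ x : X, (∀ x' : X, f.base x' = f.base x → x ∈ closure ({x'} : Set X) → x' = x) →
      ∃ W : TopologicalSpace.Closeds X, (W : Set X) ∈ irreducibleComponents (X : Type u) ∧
      ∃ w : ↥((Scheme.IdealSheafData.vanishingIdeal W).subscheme),
        (Scheme.IdealSheafData.vanishingIdeal W).subschemeι.base w = x ∧
        EGA43.IsEquidimAt ((Scheme.IdealSheafData.vanishingIdeal W).subschemeι ≫ f) w)
    (x : X) :
    ∃ W : TopologicalSpace.Closeds X, (W : Set X) ∈ irreducibleComponents (X : Type u) ∧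
      ∃ w : ↥((Scheme.IdealSheafData.vanishingIdeal W).subscheme),
        (Scheme.IdealSheafData.vanishingIdeal W).subschemeι.base w = x ∧
        EGA43.IsEquidimAt ((Scheme.IdealSheafData.vanishingIdeal W).subschemeι ≫ f) w := by
  obtain ⟨ξ, hξ, -, hξmax, hξd⟩ := H06EGA14.exists_maximal_generization f x
  obtain ⟨W, hW, w, hw, hequi⟩ := h ξ fun x' h1 h2 => hξmax x' h1 (specializes_iff_mem_closure.2 h2)
  let i := (Scheme.IdealSheafData.vanishingIdeal W).subschemeι
  have hri : Set.range i = (W : Set X) := by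
    rw [Scheme.IdealSheafData.range_subschemeι]
    rfl
  obtain ⟨η', hη', hmax', hmaxS, -, hd⟩ := H06EGA14.exists_generic_of_isEquidimAt (i ≫ f) w hequi
  obtain ⟨θ, hθ, hθmax⟩ := mem_irreducibleComponents_iff hW
  obtain ⟨θ', hθ'⟩ : θ ∈ Set.range i := by rw [hri, hθ]; exact subset_closure rfl
  obtain rfl : θ' = η' := hmax' θ' (i.isEmbedding.isInducing.specializes_iff.1
    (by rw [hθ']; exact specializes_iff_mem_closure.2 (hθ.le (hri.le ⟨η', rfl⟩))))
  refine exists_component_equidim f (i θ') x ((hη'.map i.continuous).trans ?_) (hθ'.symm ▸ hθmax) hmaxS ?_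
  · rw [hw]; exact hξ
  · rw [← hξd, ← hw, ← H06EGA14.cdim_asFiber_comp_closedImmersion i f w,
      ← H06EGA14.cdim_asFiber_comp_closedImmersion i f θ']
    exact (H06Equidim.cdim_asFiber_le_fibreDimAt (i ≫ f) w).trans hd

end Groth.Agent.H22Alg.EquidimComponent
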