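import Mathlib
import Groth.Prelude.Def_Frob
import Groth.Prelude.Def_Flat
import Groth.Agent.H7Flat.UnivHomeo
import Groth.Agent.H27Perf.Basic

/-! Absolute and relative Frobenius are universal homeomorphisms. -/

set_option autoImplicit false
set_option linter.style.haveILetI false
universe u

open AlgebraicGeometry CategoryTheory CategoryTheory.Limits FrobSch

namespace Groth.Agent.H22Alg.Frobenius

variable {p : ℕ} [Fact p.Prime] (X : Scheme.{u}) [IsCharP X p]

theorem isAffineHom_frob : IsAffineHom (frob X p) :=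
  ⟨fun U hU => by simpa using hU⟩

theorem isIntegralHom_frob : IsIntegralHom (frob X p) := by
  haveI := isAffineHom_frob (p := p) X
  refine ⟨fun U _ s => ?_⟩
  have h : ∀ t : Γ(X, U), (powHom p Γ(X, U) (natCast_eq_zero_app X p U)).IsIntegralElem t := fun t => by
    refine ⟨Polynomial.X ^ p - Polynomial.C t,
      Polynomial.monic_X_pow_sub_C _ (Fact.out : p.Prime).ne_zero, ?_⟩
    rw [Polynomial.eval₂_sub, Polynomial.eval₂_X_pow, Polynomial.eval₂_C]
    exact sub_eq_zero.mpr rfl
  exact h s

theorem universallyInjective_frob : UniversallyInjective (frob X p) := by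
  refine ((tfae_universallyInjective (frob X p)).out 0 1).2 ?_
  intro K _ a b hab
  haveI : IsCharP (Spec (CommRingCat.of K)) p := IsCharP.of_hom a p
  have hK : ((p : ℕ) : (CommRingCat.of K)) = 0 := H27Perf.natCast_eq_zero_of_isCharP_Spec
  change a ≫ frob X p = b ≫ frob X p at hab
  rw [← FrobSch.frob_comp p a, ← FrobSch.frob_comp p b] at hab
  obtain ⟨⟨x, α⟩, rfl⟩ := (Scheme.SpecToEquivOfField K X).symm.surjective a
  obtain ⟨⟨y, β⟩, rfl⟩ := (Scheme.SpecToEquivOfField K X).symm.surjective b
  rw [H27Perf.frob_Spec] at hab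
  let φ := CommRingCat.ofHom (powHom p (CommRingCat.of K) hK)
  have h1 : (Scheme.SpecToEquivOfField K X).symm ⟨x, α ≫ φ⟩ = (Scheme.SpecToEquivOfField K X).symm ⟨y, β ≫ φ⟩ := by
    show Spec.map (α ≫ φ) ≫ X.fromSpecResidueField x = Spec.map (β ≫ φ) ≫ X.fromSpecResidueField y
    rw [Spec.map_comp, Spec.map_comp, Category.assoc, Category.assoc]
    exact hab
  obtain ⟨rfl, h2⟩ := Sigma.mk.inj_iff.mp ((Scheme.SpecToEquivOfField K X).symm.injective h1)
  have h3 : α = β := by
    ext z
    have h4 : α z ^ p = β z ^ p := ConcreteCategory.congr_hom (eq_of_heq h2) z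
    exact (powHom p (CommRingCat.of K) hK).injective h4
  subst h3
  rfl

theorem isUnivHomeo_frob : FlatMor.IsUnivHomeo (frob X p) :=
  (H7Flat.isUnivHomeo_iff _).mpr ⟨isIntegralHom_frob X, universallyInjective_frob X, ⟨fun x => ⟨x, rfl⟩⟩⟩

theorem isPurelyInseparable_of_universallyInjective {Y Z : Scheme.{u}} (f : Y ⟶ Z) [UniversallyInjective f] (y : Y) :
    (f.residueFieldMap y).hom.IsPurelyInseparable :=
  ((((tfae_universallyInjective f).out 0 2 :
    UniversallyInjective f ↔ Function.Injective f ∧ ∀ x, (f.residueFieldMap x).hom.IsPurelyInseparable)).1 ‹_›).2 y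

variable {X} {S : Scheme.{u}} [IsCharP S p] (f : X ⟶ S)

theorem isUnivHomeo_relFrob : FlatMor.IsUnivHomeo (relFrob f p) := by
  refine H7Flat.isUnivHomeo_of_comp_left _ (pullback.fst f (frob S p)) ?_ ?_
  · rw [relFrob_fst]
    exact isUnivHomeo_frob X
  · intro X' Y' i₁ i₂ f' hf'
    exact isUnivHomeo_frob S _ _ _ (hf'.paste_vert (IsPullback.of_hasPullback f (frob S p)))

end Groth.Agent.H22Alg.Frobenius
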