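import Mathlib.RingTheory.OrderOfVanishing.Basic
import Mathlib.RingTheory.Ideal.AssociatedPrime.Finiteness
import Mathlib.RingTheory.Ideal.MinimalPrime.Localization
import Mathlib.RingTheory.Ideal.KrullsHeightTheorem
import Mathlib.RingTheory.HopkinsLevitzki
import Mathlib.LinearAlgebra.Matrix.ToLin
import Mathlib.LinearAlgebra.Matrix.NonsingularInverse
import Mathlib.LinearAlgebra.Quotient.Pi
import Mathlib.LinearAlgebra.Matrix.Block
import Mathlib.RingTheory.Localization.Basic

/-!
The length of the cokernel of a square matrix equals the order of vanishing of its determinant.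
-/

universe u v

open Matrix

namespace Groth.Agent.H22Alg

variable {A : Type u} [CommRing A]

/-- The length of the cokernel of a square matrix. -/
noncomputable def cokerLength {ι : Type} [Fintype ι] (M : Matrix ι ι A) : ℕ∞ :=
  Module.length A ((ι → A) ⧸ LinearMap.range M.mulVecLin)

theorem mulVec_injective_of_det {ι : Type} [Fintype ι] [DecidableEq ι] (M : Matrix ι ι A)
    (h : M.det ∈ nonZeroDivisors A) : Function.Injective M.mulVecLin := by
  rw [← LinearMap.ker_eq_bot, LinearMap.ker_eq_bot']
  intro v hv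
  rw [Matrix.mulVecLin_apply] at hv
  have := congrArg (M.adjugate *ᵥ ·) hv
  simp only [Matrix.mulVec_mulVec, Matrix.adjugate_mul, Matrix.smul_mulVec, Matrix.one_mulVec,
    Matrix.mulVec_zero] at this
  funext i
  exact h.2 (v i) (by simpa [mul_comm] using congrFun this i)

theorem cokerLength_mul {ι : Type} [Fintype ι] [DecidableEq ι] (M N : Matrix ι ι A)
    (hM : M.det ∈ nonZeroDivisors A) :
    cokerLength (M * N) = cokerLength N + cokerLength M := by
  have hle : LinearMap.range (M * N).mulVecLin ≤ LinearMap.range M.mulVecLin := by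
    rw [Matrix.mulVecLin_mul]; exact LinearMap.range_comp_le_range _ _
  refine Module.length_eq_add_of_exact
    (Submodule.mapQ (LinearMap.range N.mulVecLin) (LinearMap.range (M * N).mulVecLin) M.mulVecLin ?_)
    (Submodule.factor hle) ?_ (Submodule.factor_surjective hle) ?_
  · rintro _ ⟨v, rfl⟩
    exact ⟨v, by simp [Matrix.mulVec_mulVec]⟩
  · rw [← LinearMap.ker_eq_bot, LinearMap.ker_eq_bot']
    intro x hx
    obtain ⟨x, rfl⟩ := Submodule.Quotient.mk_surjective _ x
    rw [Submodule.mapQ_apply, Submodule.Quotient.mk_eq_zero] at hx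
    obtain ⟨v, hv⟩ := hx
    rw [Submodule.Quotient.mk_eq_zero]
    refine ⟨v, mulVec_injective_of_det M hM ?_⟩
    rw [← hv, Matrix.mulVecLin_mul, LinearMap.comp_apply]
  · intro y
    obtain ⟨y, rfl⟩ := Submodule.Quotient.mk_surjective _ y
    rw [show Submodule.factor hle (Submodule.Quotient.mk y) = Submodule.Quotient.mk y from rfl,
      Submodule.Quotient.mk_eq_zero]
    constructor
    · rintro ⟨x, rfl⟩
      exact ⟨Submodule.Quotient.mk x, rfl⟩
    · rintro ⟨x, hx⟩
      obtain ⟨x, rfl⟩ := Submodule.Quotient.mk_surjective _ x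
      rw [Submodule.mapQ_apply, Submodule.Quotient.eq] at hx
      have := sub_mem (show M.mulVecLin x ∈ LinearMap.range M.mulVecLin from ⟨x, rfl⟩) (hle hx)
      simpa using this

theorem cokerLength_diagonal {ι : Type} [Fintype ι] [DecidableEq ι] (d : ι → A) :
    cokerLength (Matrix.diagonal d) = ∑ i, Ring.ord A (d i) := by
  have : LinearMap.range (Matrix.diagonal d).mulVecLin =
      Submodule.pi Set.univ (fun i => Ideal.span {d i}) := by
    ext v
    simp only [LinearMap.mem_range, Submodule.mem_pi, Set.mem_univ, true_implies,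
      Matrix.mulVecLin_apply, Ideal.mem_span_singleton]
    constructor
    · rintro ⟨w, rfl⟩ i
      exact ⟨w i, by simp [Matrix.mulVec_diagonal]⟩
    · intro h
      choose w hw using h
      exact ⟨w, funext fun i => by simp [Matrix.mulVec_diagonal, hw i]⟩
  rw [cokerLength, this, LinearEquiv.length_eq (Submodule.quotientPi _), Module.length_pi_of_fintype]
  rfl

theorem cokerLength_of_isUnit_det {ι : Type} [Fintype ι] [DecidableEq ι] (M : Matrix ι ι A)
    (h : IsUnit M.det) : cokerLength M = 0 := by
  rw [cokerLength, Module.length_eq_zero_iff, Submodule.Quotient.subsingleton_iff]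
  rw [eq_top_iff]
  intro v _
  exact ⟨M⁻¹ *ᵥ v, by simp [Matrix.mulVec_mulVec, Matrix.mul_nonsing_inv _ h]⟩

/-- Prime avoidance in the form `a + I ⊄ ⋃ p`. -/
theorem exists_add_notMem (s : Finset (Ideal A)) (hs : ∀ p ∈ s, p.IsPrime) (a : A) (I : Ideal A)
    (h : ∀ p ∈ s, a ∉ p ∨ ¬ I ≤ p) : ∃ x ∈ I, ∀ p ∈ s, a + x ∉ p := by
  classical
  induction s using Finset.strongInduction with
  | H s ih =>
    rcases s.eq_empty_or_nonempty with rfl | hne
    · exact ⟨0, I.zero_mem, by simp⟩
    obtain ⟨p, hp, hmin⟩ := s.exists_minimal hne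
    obtain ⟨x, hx, hxs⟩ := ih (s.erase p) (Finset.erase_ssubset hp)
      (fun q hq => hs q (Finset.mem_of_mem_erase hq)) (fun q hq => h q (Finset.mem_of_mem_erase hq))
    by_cases hxp : a + x ∈ p
    swap
    · refine ⟨x, hx, fun q hq => ?_⟩
      by_cases e : q = p
      · exact e ▸ hxp
      · exact hxs q (Finset.mem_erase.mpr ⟨e, hq⟩)
    have hIp : ¬ I ≤ p := by
      rcases h p hp with ha | hI
      · exact fun hle => ha (by simpa using p.sub_mem hxp (hle hx))
      · exact hI
    have hnot : ¬ I * (∏ q ∈ s.erase p, q) ≤ p := by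
      intro hle
      rcases (hs p hp).mul_le.mp hle with h1 | h1
      · exact hIp h1
      · obtain ⟨q, hq, hqp⟩ := (hs p hp).prod_le.mp h1
        obtain ⟨hne', hqs⟩ := Finset.mem_erase.mp hq
        exact hne' (le_antisymm hqp (hmin hqs hqp))
    obtain ⟨y, hy, hyp⟩ := Set.not_subset.mp hnot
    refine ⟨x + y, I.add_mem hx ((Ideal.mul_le_left : I * (∏ q ∈ s.erase p, q) ≤ I) hy), fun q hq => ?_⟩
    by_cases e : q = p
    · subst e
      exact fun hmem => hyp (by
        have := q.sub_mem hmem hxp
        rwa [add_sub_add_left_eq_sub, add_sub_cancel_left] at this)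
    · have hqe := Finset.mem_erase.mpr ⟨e, hq⟩
      intro hmem
      have hyq : y ∈ q := by
        have hle : I * (∏ r ∈ s.erase p, r) ≤ q :=
          Ideal.mul_le_right.trans (Ideal.prod_le_inf.trans (Finset.inf_le hqe))
        exact hle hy
      exact hxs q hqe (by simpa [← add_assoc] using q.sub_mem hmem hyq)

theorem exists_colOp [IsNoetherianRing A] {n : ℕ} (M : Matrix (Fin (n + 1)) (Fin (n + 1)) A)
    (hM : M.det ∈ nonZeroDivisors A) :
    ∃ E : Matrix (Fin (n + 1)) (Fin (n + 1)) A, E.det = 1 ∧ (M * E) 0 0 ∈ nonZeroDivisors A := by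
  classical
  rcases subsingleton_or_nontrivial A with hA | hA
  · exact ⟨1, Subsingleton.elim _ _, ⟨fun x _ => Subsingleton.elim _ _, fun x _ => Subsingleton.elim _ _⟩⟩
  set I : Ideal A := Ideal.span (Set.range fun j : Fin n => M 0 j.succ)
  have hass := biUnion_associatedPrimes_eq_compl_nonZeroDivisors A
  obtain ⟨x, hx, hxs⟩ := exists_add_notMem (associatedPrimes.finite A A).toFinset
    (fun p hp => ((associatedPrimes.finite A A).mem_toFinset.mp hp).1) (M 0 0) I
    (fun p hp => by
      rw [Set.Finite.mem_toFinset] at hp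
      by_contra hcon
      push Not at hcon
      have hd : M.det ∈ p := by
        rw [Matrix.det_succ_row_zero]
        refine Ideal.sum_mem _ fun j _ => ?_
        refine p.mul_mem_right _ (p.mul_mem_left _ ?_)
        refine Fin.cases hcon.1 (fun j => hcon.2 (Ideal.subset_span ⟨j, rfl⟩)) j
      have : M.det ∈ ⋃ q ∈ associatedPrimes A A, (q : Set A) := Set.mem_biUnion hp hd
      rw [hass] at this
      exact this hM)
  obtain ⟨c, hc⟩ := (Submodule.mem_span_range_iff_exists_fun A).mp hx
  let E : Matrix (Fin (n + 1)) (Fin (n + 1)) A :=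
    Matrix.of fun i j => if i = j then 1 else if j = 0 then Fin.cases (0 : A) c i else 0
  refine ⟨E, ?_, ?_⟩
  · rw [Matrix.det_of_isLowerTriangular E]
    · simp [E]
    · intro i j (hij : i < j)
      have h1 : i ≠ j := ne_of_lt hij
      have h2 : j ≠ 0 := fun h => by simp [h] at hij
      simp [E, h1, h2]
  · have e : (M * E) 0 0 = M 0 0 + x := by
      rw [← hc]
      simp [Matrix.mul_apply, E, Fin.sum_univ_succ, mul_comm]
    rw [e]
    by_contra hnz
    have : M 0 0 + x ∈ ⋃ q ∈ associatedPrimes A A, (q : Set A) := by rw [hass]; exact hnz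
    obtain ⟨q, hq, hxq⟩ := Set.mem_iUnion₂.mp this
    exact hxs q ((associatedPrimes.finite A A).mem_toFinset.mpr hq) hxq

theorem cokerLength_succ_block {n : ℕ} (D : Matrix (Fin n) (Fin n) A)
    (H : Matrix (Fin (n + 1)) (Fin (n + 1)) A) (h00 : H 0 0 = 1) (h0 : ∀ j : Fin n, H 0 j.succ = 0)
    (h1 : ∀ i : Fin n, H i.succ 0 = 0) (hD : ∀ i j, H i.succ j.succ = D i j) :
    cokerLength H = cokerLength D := by
  let π : (Fin (n + 1) → A) →ₗ[A] (Fin n → A) ⧸ LinearMap.range D.mulVecLin :=
    (Submodule.mkQ _).comp (LinearMap.funLeft A A Fin.succ)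
  have hker : LinearMap.ker π = LinearMap.range H.mulVecLin := by
    ext v
    simp only [π, LinearMap.mem_ker, LinearMap.comp_apply, Submodule.mkQ_apply,
      Submodule.Quotient.mk_eq_zero, LinearMap.mem_range, Matrix.mulVecLin_apply]
    constructor
    · rintro ⟨w, hw⟩
      refine ⟨Fin.cons (v 0) w, funext fun i => ?_⟩
      refine Fin.cases ?_ (fun i => ?_) i
      · simp [Matrix.mulVec, dotProduct, Fin.sum_univ_succ, h00, h0]
      · have := congrFun hw i
        simpa [Matrix.mulVec, dotProduct, Fin.sum_univ_succ, LinearMap.funLeft_apply, h1, hD] using this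
    · rintro ⟨w, rfl⟩
      refine ⟨fun i => w i.succ, funext fun i => ?_⟩
      simp [Matrix.mulVec, dotProduct, Fin.sum_univ_succ, LinearMap.funLeft_apply, h1, hD]
  have hπ : Function.Surjective π := (Submodule.mkQ_surjective _).comp
    (fun w => ⟨Fin.cons 0 w, funext fun i => by simp [LinearMap.funLeft_apply]⟩)
  rw [cokerLength, ← hker]
  exact (π.quotKerEquivOfSurjective hπ).length_eq

theorem cokerLength_eq_ord_det_of_finite [IsNoetherianRing A]
    (hfin : ∀ a ∈ nonZeroDivisors A, Ring.ord A a ≠ ⊤) :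
    ∀ {n : ℕ} (M : Matrix (Fin n) (Fin n) A), M.det ∈ nonZeroDivisors A →
      cokerLength M = Ring.ord A M.det := by
  intro n
  induction n with
  | zero =>
    intro M _
    rw [Matrix.det_isEmpty, Ring.ord_one]
    exact cokerLength_of_isUnit_det M (by simp)
  | succ n ih =>
    intro M₀ hM₀
    obtain ⟨E, hE, ha⟩ := exists_colOp M₀ hM₀
    set M := M₀ * E with hMdef
    have hdet : M.det = M₀.det := by rw [hMdef, Matrix.det_mul, hE, mul_one]
    have hlen : cokerLength M₀ = cokerLength M := by
      rw [hMdef, cokerLength_mul _ _ hM₀, cokerLength_of_isUnit_det E (by simp [hE]), zero_add]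
    rw [hlen, ← hdet]
    have hM : M.det ∈ nonZeroDivisors A := hdet ▸ hM₀
    clear_value M
    set a := M 0 0 with ha0
    let F₁ : Matrix (Fin (n + 1)) (Fin (n + 1)) A := Matrix.diagonal (Fin.cases 1 fun _ => a)
    let F₂ : Matrix (Fin (n + 1)) (Fin (n + 1)) A := Matrix.of fun i j =>
      if i = j then 1 else if i = 0 then -M 0 j else 0
    let D : Matrix (Fin n) (Fin n) A := Matrix.of fun i j =>
      a * M i.succ j.succ - M i.succ 0 * M 0 j.succ
    let G₁ : Matrix (Fin (n + 1)) (Fin (n + 1)) A := Matrix.diagonal (Fin.cases a fun _ => 1)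
    let G₂ : Matrix (Fin (n + 1)) (Fin (n + 1)) A := Matrix.of fun i j =>
      if i = j then 1 else if j = 0 then M i 0 else 0
    let H : Matrix (Fin (n + 1)) (Fin (n + 1)) A := Matrix.of fun i j : Fin (n + 1) =>
      Fin.cases (Fin.cases (1 : A) (fun _ => 0) j) (fun i' => Fin.cases 0 (fun j' => D i' j') j) i
    have hF2 : F₂.det = 1 := by
      rw [Matrix.det_of_isUpperTriangular]
      · simp [F₂]
      · intro i j (hij : j < i)
        have h1 : i ≠ j := ne_of_gt hij
        have h2 : i ≠ 0 := fun h => by simp [h] at hij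
        simp [F₂, h1, h2]
    have hG2 : G₂.det = 1 := by
      rw [Matrix.det_of_isLowerTriangular G₂]
      · simp [G₂]
      · intro i j (hij : i < j)
        have h1 : i ≠ j := ne_of_lt hij
        have h2 : j ≠ 0 := fun h => by simp [h] at hij
        simp [G₂, h1, h2]
    have hF1 : F₁.det = a ^ n := by simp [F₁, Fin.prod_univ_succ]
    have hG1 : G₁.det = a := by simp [G₁, Fin.prod_univ_succ]
    have hH : H.det = D.det := by
      rw [Matrix.det_succ_row_zero, Fin.sum_univ_succ, Finset.sum_eq_zero (fun j _ => by simp [H]), add_zero]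
      have e : H.submatrix Fin.succ (Fin.succAbove 0) = D := by ext i j; simp [H]
      rw [e]
      simp [H]
    have heq : M * (F₁ * F₂) = G₁ * G₂ * H := by
      ext i j
      refine Fin.cases ?_ (fun i => ?_) i <;> refine Fin.cases ?_ (fun j => ?_) j <;>
        simp [Matrix.mul_apply, F₁, F₂, G₁, G₂, H, D, Matrix.diagonal, Fin.sum_univ_succ, ← ha0,
          (Fin.succ_ne_zero _).symm] <;> ring
    have hdeteq : M.det * a ^ n = a * D.det := by
      have := congrArg Matrix.det heq
      simpa [Matrix.det_mul, hF1, hF2, hG1, hG2, hH] using this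
    have hD : D.det ∈ nonZeroDivisors A :=
      (mul_mem_nonZeroDivisors.mp (hdeteq ▸ Submonoid.mul_mem _ hM (pow_mem ha n))).2
    have hlenF : cokerLength (F₁ * F₂) = Ring.ord A (a ^ n) := by
      rw [cokerLength_mul _ _ (by rw [hF1]; exact pow_mem ha n), cokerLength_of_isUnit_det F₂ (by simp [hF2]),
        zero_add, cokerLength_diagonal, Fin.sum_univ_succ]
      simp [Ring.ord_pow, ha]
    have hlenG : cokerLength (G₁ * G₂) = Ring.ord A a := by
      rw [cokerLength_mul _ _ (by rw [hG1]; exact ha), cokerLength_of_isUnit_det G₂ (by simp [hG2]),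
        zero_add, cokerLength_diagonal, Fin.sum_univ_succ]
      simp
    have key := congrArg cokerLength heq
    rw [cokerLength_mul _ _ hM, hlenF, cokerLength_mul _ _ (by
      rw [Matrix.det_mul, hG1, hG2, mul_one]; exact ha), hlenG, cokerLength_succ_block D H rfl (fun _ => rfl) (fun _ => rfl) (fun _ _ => rfl),
      ih D hD, ← Ring.ord_mul _ ha, mul_comm D.det a, ← hdeteq, Ring.ord_mul' _ hM, add_comm (Ring.ord A (a ^ n))] at key
    exact WithTop.add_right_cancel (hfin _ (pow_mem ha n)) key

end Groth.Agent.H22Alg
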