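import Mathlib
import Groth.Agent.H22Alg.DevLength
import Groth.Agent.H22Alg.DetLength
import Groth.Agent.H22Alg.ExtPowSum
import Groth.Agent.H29RR.GenBundle
import Groth.Agent.H29RR.BundleTwist
import Groth.Agent.H25Euler.Kill
import Groth.Agent.H8Props.FlatDimOneBase

/-!
# The cokernel of a frame and the cokernel of its determinant
-/

set_option autoImplicit false
set_option linter.style.haveILetI false

noncomputable section

universe u

open CategoryTheory CategoryTheory.Limits AlgebraicGeometry TopologicalSpace Opposite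

namespace Groth.Agent.H22Alg.DetDeg

theorem ιMulti_eq_det_smul {R N : Type*} [CommRing R] [AddCommGroup N] [Module R N] {n : ℕ}
    (b : Module.Basis (Fin n) R N) (v : Fin n → N) :
    exteriorPower.ιMulti R n v = b.det v • exteriorPower.ιMulti R n b := by
  have h : exteriorPower.ιMulti R n (M := N) =
      (LinearMap.toSpanSingleton R _ (exteriorPower.ιMulti R n b)).compAlternatingMap b.det := by
    refine Module.Basis.ext_alternating b fun i hi => ?_
    let σ := Equiv.ofBijective i (Finite.injective_iff_bijective.1 hi)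
    have e : (fun j => b (i j)) = (b : Fin n → N) ∘ σ := rfl
    rw [e, AlternatingMap.map_perm, AlternatingMap.map_perm]
    congr 1
    simp [LinearMap.compAlternatingMap_apply, b.det_self]
  conv_lhs => rw [h]
  rfl

theorem bijective_smul_ιMulti {R N : Type*} [CommRing R] [AddCommGroup N] [Module R N] {n : ℕ}
    (b : Module.Basis (Fin n) R N) :
    Function.Bijective fun r : R => r • exteriorPower.ιMulti R n b := by
  refine ⟨fun r r' h => ?_, fun z => ?_⟩
  · have h1 := congrArg (exteriorPower.alternatingMapLinearEquiv b.det) h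
    simpa [b.det_self] using h1
  · have hz : z ∈ Submodule.span R (Set.range (exteriorPower.ιMulti R n (M := N))) := by
      rw [exteriorPower.ιMulti_span]; trivial
    induction hz using Submodule.span_induction with
    | mem w hw =>
      obtain ⟨v, rfl⟩ := hw
      exact ⟨b.det v, (ιMulti_eq_det_smul b v).symm⟩
    | zero => exact ⟨0, zero_smul _ _⟩
    | add x y _ _ hx hy =>
      obtain ⟨r, rfl⟩ := hx
      obtain ⟨r', rfl⟩ := hy
      exact ⟨r + r', add_smul _ _ _⟩
    | smul a x _ hx =>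
      obtain ⟨r, rfl⟩ := hx
      exact ⟨a * r, mul_smul _ _ _⟩

variable {X : Scheme.{u}} {E : X.Modules} {n : ℕ}

theorem exists_stalkBasis (hE : Coh.IsQCoh E) {U : X.Opens} (hU : IsAffineOpen U)
    (b : Module.Basis (Fin n) Γ(X, U) Γ(E, U)) {x : X} (hx : x ∈ U) :
    ∃ bx : Module.Basis (Fin n) (X.presheaf.stalk x) (E.presheaf.stalk x),
      ∀ i, bx i = E.presheaf.germ U x hx (b i) := by
  letI := TopCat.Presheaf.algebra_section_stalk X.presheaf (⟨x, hx⟩ : U)
  letI := Module.compHom (E.presheaf.stalk x) (algebraMap Γ(X, U) (X.presheaf.stalk x))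
  haveI : IsScalarTower Γ(X, U) (X.presheaf.stalk x) (E.presheaf.stalk x) :=
    .of_algebraMap_smul fun _ _ => rfl
  haveI : IsLocalization (hU.primeIdealOf ⟨x, hx⟩).asIdeal.primeCompl (X.presheaf.stalk x) :=
    hU.isLocalization_stalk ⟨x, hx⟩
  haveI : IsLocalizedModule (hU.primeIdealOf ⟨x, hx⟩).asIdeal.primeCompl (H29Fitt.germLin E (⟨x, hx⟩ : U)) :=
    H29Fitt.isLocalizedModule_germLin E hE hU ⟨x, hx⟩
  exact ⟨b.ofIsLocalizedModule (X.presheaf.stalk x) (hU.primeIdealOf ⟨x, hx⟩).asIdeal.primeCompl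
    (H29Fitt.germLin E (⟨x, hx⟩ : U)),
    fun i => Module.Basis.ofIsLocalizedModule_apply _ _ _ _ i⟩

/-- The map from the free module given by sections. -/
def frame (σ : Fin n → Γ(E, ⊤)) : FlatMod.freeMod X n ⟶ E :=
  Sigma.desc fun i => H11Tilde.homOfGlobal E (σ i)

theorem app_ι_frame (σ : Fin n → Γ(E, ⊤)) (i : Fin n) :
    (frame σ).app ⊤ ((Sigma.ι (fun _ : Fin n => Coh.structureModule X) i).app ⊤ (1 : Γ(X, ⊤))) = σ i := by
  show ((Sigma.ι (fun _ : Fin n => Coh.structureModule X) i) ≫ frame σ).app ⊤ (1 : Γ(X, ⊤)) = σ i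
  rw [frame, Sigma.ι_desc]
  exact H11Ample.val_homOfGlobal (σ i)

theorem exists_stalk_frame (σ : Fin n → Γ(E, ⊤)) (x : X) :
    ∃ e : (Fin n → X.presheaf.stalk x) →ₗ[X.presheaf.stalk x] (FlatMod.freeMod X n).presheaf.stalk x,
      Function.Surjective e ∧
      ∀ a, H06Mod.stalkLin (frame σ) x (e a) = ∑ i, a i • E.presheaf.germ ⊤ x trivial (σ i) := by
  let e : (Fin n → X.presheaf.stalk x) →ₗ[X.presheaf.stalk x] (FlatMod.freeMod X n).presheaf.stalk x :=
    Fintype.linearCombination _ fun i => (FlatMod.freeMod X n).presheaf.germ ⊤ x trivial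
      ((Sigma.ι (fun _ : Fin n => Coh.structureModule X) i).app ⊤ (1 : Γ(X, ⊤)))
  refine ⟨e, LinearMap.range_eq_top.1 ?_, fun a => ?_⟩
  · rw [Fintype.range_linearCombination]
    have h := H29RR.spansStalks_of_epi (𝟙 (FlatMod.freeMod X n)) x
    simpa only [Category.comp_id] using h
  · simp only [e, Fintype.linearCombination_apply, map_sum, map_smul]
    exact Finset.sum_congr rfl fun i _ => by rw [H29RR.germ_app, app_ι_frame]

theorem frame_stalk (hE : Coh.IsQCoh E) (σ : Fin n → Γ(E, ⊤)) {U : X.Opens} (hU : IsAffineOpen U)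
    (b : Module.Basis (Fin n) Γ(X, U) Γ(E, U)) (M : Matrix (Fin n) (Fin n) Γ(X, U))
    (hM : ∀ i, E.presheaf.map (homOfLE (le_top : U ≤ ⊤)).op (σ i) = ∑ j, M j i • b j)
    {x : X} (hx : x ∈ U) :
    ∃ (bx : Module.Basis (Fin n) (X.presheaf.stalk x) (E.presheaf.stalk x))
      (e : (Fin n → X.presheaf.stalk x) →ₗ[X.presheaf.stalk x] (FlatMod.freeMod X n).presheaf.stalk x),
      Function.Surjective e ∧ (∀ i, bx i = E.presheaf.germ U x hx (b i)) ∧
      ∀ a, H06Mod.stalkLin (frame σ) x (e a) =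
        bx.equivFun.symm ((M.map (X.presheaf.germ U x hx)).mulVec a) := by
  obtain ⟨bx, hbx⟩ := exists_stalkBasis hE hU b hx
  obtain ⟨e, he, hφ⟩ := exists_stalk_frame σ x
  refine ⟨bx, e, he, hbx, fun a => ?_⟩
  have hg : ∀ i, E.presheaf.germ ⊤ x trivial (σ i) = ∑ j, X.presheaf.germ U x hx (M j i) • bx j := fun i => by
    have h := congrArg (E.presheaf.germ U x hx) (hM i)
    rw [TopCat.Presheaf.germ_res_apply, map_sum] at h
    rw [h]
    exact Finset.sum_congr rfl fun j _ => by rw [H06Mod.germ_smul, hbx]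
  rw [hφ, Module.Basis.equivFun_symm_apply]
  simp only [hg, Finset.smul_sum, smul_smul, Matrix.mulVec, dotProduct, Matrix.map_apply, Finset.sum_smul]
  rw [Finset.sum_comm]
  exact Finset.sum_congr rfl fun j _ => Finset.sum_congr rfl fun i _ => by rw [mul_comm]

/-- A chart of a frame. -/
structure Chart (σ : Fin n → Γ(E, ⊤)) (x : X) where
  U : X.Opens
  hU : IsAffineOpen U
  hx : x ∈ U
  b : Module.Basis (Fin n) Γ(X, U) Γ(E, U)
  M : Matrix (Fin n) (Fin n) Γ(X, U)
  hM : ∀ i, E.presheaf.map (homOfLE (le_top : U ≤ ⊤)).op (σ i) = ∑ j, M j i • b j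

theorem nonempty_chart (hE : FlatMod.IsFinLocFreeOfRank n E) (σ : Fin n → Γ(E, ⊤)) (x : X) :
    Nonempty (Chart σ x) := by
  obtain ⟨V, hxV, ⟨e⟩⟩ := hE x
  obtain ⟨U, hU, hxU, hUV⟩ := exists_isAffineOpen_mem_and_subset (x := x) (U := V) hxV
  obtain ⟨b⟩ := H8Props.FinLocFree.exists_basis_of_chart E e hUV
  let v : Fin n → Γ(E, U) := fun i => E.presheaf.map (homOfLE (le_top : U ≤ ⊤)).op (σ i)
  exact ⟨⟨U, hU, hxU, b, b.toMatrix v, fun i => (Module.Basis.sum_toMatrix_smul_self b v i).symm⟩⟩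

variable {σ : Fin n → Γ(E, ⊤)}

/-- The determinant germ of a chart. -/
def Chart.detGerm {x : X} (c : Chart σ x) : X.presheaf.stalk x := X.presheaf.germ c.U x c.hx c.M.det

theorem Chart.det_map {x : X} (c : Chart σ x) :
    (c.M.map (X.presheaf.germ c.U x c.hx)).det = c.detGerm :=
  (RingHom.map_det (X.presheaf.germ c.U x c.hx).hom c.M).symm

theorem mono_frame (hE : Coh.IsQCoh E)
    (h : ∀ x, ∃ c : Chart σ x, c.detGerm ∈ nonZeroDivisors (X.presheaf.stalk x)) : Mono (frame σ) := by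
  refine Preadditive.mono_of_kernel_zero ((H16Derived.KFlat.Stalk.isZero_of_stalk fun y => by
    obtain ⟨c, hc⟩ := h y
    obtain ⟨bx, e, he, -, hφ⟩ := frame_stalk hE σ c.hU c.b c.M c.hM c.hx
    have hinj : Function.Injective (H06Mod.stalkLin (frame σ) y) := by
      refine (injective_iff_map_eq_zero _).2 fun w hw => ?_
      obtain ⟨a, rfl⟩ := he w
      rw [hφ, LinearEquiv.map_eq_zero_iff] at hw
      have ha : a = 0 := mulVec_injective_of_det _ (c.det_map ▸ hc) (hw.trans (Matrix.mulVecLin _).map_zero.symm)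
      rw [ha, map_zero]
    haveI : Subsingleton ((DerSch.stalkFunctor X y).obj (kernel (frame σ))) :=
      H10Coh.subsingleton_stalk_kernel (frame σ) y hinj
    exact ModuleCat.isZero_of_subsingleton _).eq_of_src _ _)

theorem length_coker (hE : Coh.IsQCoh E) {x : X} (c : Chart σ x)
    [IsNoetherianRing (X.presheaf.stalk x)] [Ring.KrullDimLE 1 (X.presheaf.stalk x)]
    (hc : c.detGerm ∈ nonZeroDivisors (X.presheaf.stalk x)) :
    DevLength.len (cokernel (frame σ)) x = Ring.ord (X.presheaf.stalk x) c.detGerm := by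
  obtain ⟨bx, e, he, -, hφ⟩ := frame_stalk hE σ c.hU c.b c.M c.hM c.hx
  let Mx := c.M.map (X.presheaf.germ c.U x c.hx)
  let π := H06Mod.stalkLin (cokernel.π (frame σ)) x
  have hπ : Function.Surjective π :=
    (ModuleCat.epi_iff_surjective _).1 (inferInstance : Epi ((DerSch.stalkFunctor X x).map (cokernel.π (frame σ))))
  let q := π ∘ₗ bx.equivFun.symm.toLinearMap
  have hq : Function.Surjective q := hπ.comp bx.equivFun.symm.surjective
  have hker : LinearMap.ker q = LinearMap.range Mx.mulVecLin := by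
    apply le_antisymm
    · intro v hv
      have hT : ((ShortComplex.mk (frame σ) (cokernel.π (frame σ)) (cokernel.condition _)).map
          (DerSch.stalkFunctor X x)).Exact := (ShortComplex.exact_cokernel (frame σ)).map _
      obtain ⟨w, hw⟩ := (ShortComplex.moduleCat_exact_iff _).1 hT (bx.equivFun.symm v) hv
      obtain ⟨a, rfl⟩ := he w
      exact ⟨a, bx.equivFun.symm.injective ((hφ a).symm.trans hw)⟩
    · rintro _ ⟨a, rfl⟩
      show π (bx.equivFun.symm (Mx.mulVec a)) = 0
      rw [← hφ a]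
      show π (H06Mod.stalkLin (frame σ) x _) = 0
      rw [← H29RR.stalkLin_comp]
      show ((DerSch.stalkFunctor X x).map (frame σ ≫ cokernel.π (frame σ))).hom _ = 0
      rw [cokernel.condition, Functor.map_zero]
      rfl
  have hdet : Mx.det = c.detGerm := c.det_map
  rw [← hdet, ← cokerLength_eq_ord_det_of_finite (fun a ha => Ring.ord_ne_top ha) Mx (hdet ▸ hc)]
  exact ((Submodule.quotEquivOfEq _ _ hker).symm ≪≫ₗ q.quotKerEquivOfSurjective hq).length_eq.symm

/-- The determinant of a frame, as a section of the top exterior power. -/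
def detSec (σ : Fin n → Γ(E, ⊤)) : Γ(ExtPowSheaf.sheaf n E, ⊤) :=
  ExtPowSheaf.η n E ⊤ (exteriorPower.ιMulti _ n σ)

/-- The induced chart of the determinant. -/
theorem exists_detChart (hE : Coh.IsQCoh E) {x : X} (c : Chart σ x) :
    ∃ d : Chart (fun _ : Fin 1 => detSec σ) x, d.detGerm = c.detGerm ∧
      H11Tilde.IsGen (ExtPowSheaf.sheaf n E) (d.b 0) ∧
      (ExtPowSheaf.sheaf n E).presheaf.map (homOfLE (le_top : d.U ≤ ⊤)).op (detSec σ) = d.M 0 0 • d.b 0 := by
  let ω : Γ(ExtPowSheaf.sheaf n E, c.U) := ExtPowSheaf.η n E c.U (exteriorPower.ιMulti _ n c.b)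
  have hω : Function.Bijective fun r : Γ(X, c.U) => r • ω := by
    have h := (ExtPowSheaf.loc hE ⟨c.U, c.hU⟩).symm.bijective.comp (bijective_smul_ιMulti c.b)
    refine (congrArg Function.Bijective (funext fun r => ?_)).mp h
    show ExtPowSheaf.η n E c.U (r • _) = _
    rw [map_smul]
  let b1 : Module.Basis (Fin 1) Γ(X, c.U) Γ(ExtPowSheaf.sheaf n E, c.U) :=
    (Module.Basis.singleton (Fin 1) Γ(X, c.U)).map
      (LinearEquiv.ofBijective (LinearMap.toSpanSingleton Γ(X, c.U) _ ω) hω)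
  have hb1 : b1 0 = ω := by simp [b1]
  have hval : (ExtPowSheaf.sheaf n E).presheaf.map (homOfLE (le_top : c.U ≤ ⊤)).op (detSec σ) = c.M.det • ω := by
    rw [detSec, ExtPowSheaf.η_res, ExtPowSheaf.res_ιMulti, ιMulti_eq_det_smul c.b, map_smul,
      Module.Basis.det_apply]
    refine congrArg (fun m : Matrix (Fin n) (Fin n) Γ(X, c.U) => m.det • ω) ?_
    ext j i
    rw [Module.Basis.toMatrix_apply, c.hM i, c.b.repr_sum_self (fun j => c.M j i)]
  let M1 : Matrix (Fin 1) (Fin 1) Γ(X, c.U) := Matrix.of fun _ _ => c.M.det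
  have hM1 : ∀ i j, M1 i j = c.M.det := fun _ _ => rfl
  refine ⟨⟨c.U, c.hU, c.hx, b1, M1, fun i => ?_⟩, ?_, ?_, ?_⟩
  · rw [Fin.sum_univ_one]
    simp only [hM1, hb1]
    exact hval
  · show X.presheaf.germ c.U x c.hx M1.det = _
    rw [Matrix.det_fin_one, hM1]
    rfl
  · intro y hy
    obtain ⟨by1, hby⟩ := exists_stalkBasis (ExtPowSheaf.exists_isExtPow n hE |> fun _ => ExtPowHom.isQCoh_sheaf hE)
      c.hU b1 hy
    refine (congrArg Function.Bijective (funext fun r => ?_)).mp
      (by1.equivFun.symm.bijective.comp (LinearEquiv.funUnique (Fin 1) (X.presheaf.stalk y) (X.presheaf.stalk y)).symm.bijective)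
    show by1.equivFun.symm (fun _ => r) = _
    rw [Module.Basis.equivFun_symm_apply, Fin.sum_univ_one, hby]
  · show _ = M1 0 0 • b1 0
    simp only [hM1, hb1]
    exact hval

theorem gen_detSec_inter (hE : Coh.IsQCoh E) {x : X} (c : Chart σ x) :
    x ∈ H11Ample.gen (ExtPowSheaf.sheaf n E) (detSec σ) ↔ IsUnit c.detGerm := by
  obtain ⟨d, hd, hgen, hval⟩ := exists_detChart hE c
  have h := H11Ample.gen_inf_eq_basicOpen hgen (detSec σ) _ hval
  rw [← hd, Chart.detGerm, Matrix.det_fin_one]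
  refine ⟨fun hx => (X.mem_basicOpen _ x d.hx).1 (h.le ⟨hx, d.hx⟩),
    fun hu => (h.ge ((X.mem_basicOpen _ x d.hx).2 hu)).1⟩

variable {k : Type u} [Field k] [X.Over (Spec (CommRingCat.of k))] [IsProper (X ↘ Spec (CommRingCat.of k))]

theorem euler_freeMod (r : ℕ) :
    Curv2.euler k X (FlatMod.freeMod X r) = r * Curv2.euler k X (Coh.structureModule X) := by
  refine H29RR.euler_of_decomposition (fun i => Sigma.ι (fun _ : Fin r => Coh.structureModule X) i)
    (fun i => Sigma.desc fun j => if j = i then 𝟙 _ else 0) (fun i => by simp) (fun i j h => by simp [h]) ?_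
  refine Sigma.hom_ext _ _ fun j => ?_
  rw [Preadditive.comp_sum, Finset.sum_eq_single j]
  · simp
  · intro i _ hij
    simp [Ne.symm hij]
  · intro h; exact absurd (Finset.mem_univ j) h

/-- Points where a regular determinant is not a unit form a set of dimension zero. -/
theorem dim_support_lt [IsLocallyNoetherian X] (hdim : topologicalKrullDim X ≤ 1) {Z : Set X} (hZ : IsClosed Z)
    (hreg : ∀ x ∈ Z, ∃ (U : X.Opens) (hx : x ∈ U) (f : Γ(X, U)), Disjoint (X.basicOpen f : Set X) Z ∧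
      X.presheaf.germ U x hx f ∈ nonZeroDivisors (X.presheaf.stalk x)) :
    topologicalKrullDim Z < ((1 : ℕ) : WithBot ℕ∞) := by
  refine H25Euler.dim_lt_of_forall_ne Z hZ (fun z hz => ?_)
    (lt_of_le_of_lt hdim (WithBot.coe_lt_coe.2 (by exact_mod_cast Nat.one_lt_two)))
  obtain ⟨U, hx, f, hdis, hf⟩ := hreg z hz
  obtain ⟨p, hp⟩ : (minimalPrimes (X.presheaf.stalk z)).Nonempty :=
    Set.nonempty_coe_sort.1 (Ideal.nonempty_minimalPrimes (bot_lt_top (α := Ideal (X.presheaf.stalk z))).ne)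
  haveI : p.IsPrime := hp.1.1
  let ξ := X.fromSpecStalk z ⟨p, inferInstance⟩
  have hspec : ξ ⤳ z := by
    have : ξ ∈ Set.range (X.fromSpecStalk z) := ⟨_, rfl⟩
    rwa [Scheme.range_fromSpecStalk] at this
  refine ⟨ξ, hspec, fun hξZ => ?_⟩
  have hmem : (⟨p, inferInstance⟩ : PrimeSpectrum (X.presheaf.stalk z)) ∈
      X.fromSpecStalk z ⁻¹ᵁ X.basicOpen f := by
    rw [Scheme.preimage_basicOpen, Scheme.fromSpecStalk_app hx, CommRingCat.comp_apply, CommRingCat.comp_apply,
      Scheme.basicOpen_res, basicOpen_eq_of_affine]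
    refine ⟨hspec.mem_open U.2 hx, fun hfp => ?_⟩
    exact Set.disjoint_left.1 (Ideal.disjoint_nonZeroDivisors_of_mem_minimalPrimes hp) hfp hf
  exact Set.disjoint_left.1 hdis hmem hξZ

/-- A frame which is regular everywhere has the same degree as its determinant. -/
theorem euler_sub_eq (hE : FlatMod.IsFinLocFreeOfRank n E) (hdim : topologicalKrullDim X ≤ 1)
    (h : ∀ x, ∃ c : Chart σ x, c.detGerm ∈ nonZeroDivisors (X.presheaf.stalk x)) :
    Curv2.euler k X E - n * Curv2.euler k X (Coh.structureModule X) =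
      Curv2.euler k X (ExtPowSheaf.sheaf n E) - Curv2.euler k X (Coh.structureModule X) := by
  haveI := H28Int.isNoetherian k (X := X)
  have hEf : FlatMod.IsFinLocFree E := fun y => let ⟨U, hU⟩ := hE y; ⟨U, n, hU⟩
  have hEq := H8Props.FinLocFree.isQCoh_of_isFinLocFree _ hEf
  have hLf := ExtPowHom.finLocFree_of_isExtPow hEf (ExtPowSheaf.isExtPow_sheaf (i := n) hEq)
  have hLq := H8Props.FinLocFree.isQCoh_of_isFinLocFree _ hLf
  let τ : Fin 1 → Γ(ExtPowSheaf.sheaf n E, ⊤) := fun _ => detSec σ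
  have h' : ∀ x, ∃ d : Chart τ x, d.detGerm ∈ nonZeroDivisors (X.presheaf.stalk x) := fun x => by
    obtain ⟨c, hc⟩ := h x
    obtain ⟨d, hd, -, -⟩ := exists_detChart hEq c
    exact ⟨d, hd ▸ hc⟩
  haveI := mono_frame hEq h
  haveI := mono_frame hLq h'
  have hEc := H16Derived.KFlat.Stalk.isCoh_of_isFinLocFree hEf
  have hLc := H16Derived.KFlat.Stalk.isCoh_of_isFinLocFree hLf
  have hadd : ∀ (r : ℕ) {F : X.Modules}, Coh.IsCoh F → ∀ (ρ : Fin r → Γ(F, ⊤)) [Mono (frame ρ)],
      Coh.IsCoh (cokernel (frame ρ)) ∧ Curv2.euler k X F - r * Curv2.euler k X (Coh.structureModule X) =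
        Curv2.euler k X (cokernel (frame ρ)) := fun r F hF ρ _ => by
    have hfree : Coh.IsCoh (FlatMod.freeMod X r) := H16Derived.KFlat.Stalk.isCoh_of_isFinLocFree
      (KModel.finLocFree_free r)
    have hC := H10Coh.isCoh_cokernel (frame ρ) hfree.1 hF
    refine ⟨hC, ?_⟩
    have hS : (ShortComplex.mk (frame ρ) (cokernel.π (frame ρ)) (cokernel.condition _)).ShortExact :=
      { exact := ShortComplex.exact_cokernel _ }
    have h1 := (H28Int.isAddFn_euler k (X := X)).add _ hS hfree hF hC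
    rw [← euler_freeMod (k := k) r, h1]
    ring
  obtain ⟨hC₁, e₁⟩ := hadd n hEc σ
  obtain ⟨hC₂, e₂⟩ := hadd 1 hLc τ
  have hlen : ∀ x, DevLength.len (cokernel (frame σ)) x = DevLength.len (cokernel (frame τ)) x := fun x => by
    haveI : Ring.KrullDimLE 1 (X.presheaf.stalk x) :=
      (Ring.krullDimLE_iff).2 ((H8Props.FlatDimOneBase.ringKrullDim_stalk_le X x).trans (by exact_mod_cast hdim))
    obtain ⟨c, hc⟩ := h x
    obtain ⟨d, hd, -, -⟩ := exists_detChart hEq c
    rw [length_coker hEq c hc, length_coker hLq d (hd ▸ hc), hd]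
  have hsupp : ∀ {F : X.Modules}, Coh.IsCoh F →
      (∀ x, DevLength.len F x = DevLength.len (cokernel (frame σ)) x) →
      topologicalKrullDim (CohB1.support F) ≤ ((0 : ℕ) : WithBot ℕ∞) := fun {F} hF hlenF => by
    let Z : Set X := (H11Ample.gen (ExtPowSheaf.sheaf n E) (detSec σ) : Set X)ᶜ
    have hsub : CohB1.support F ⊆ Z := fun x hx hxg => by
      haveI : Ring.KrullDimLE 1 (X.presheaf.stalk x) :=
        (Ring.krullDimLE_iff).2 ((H8Props.FlatDimOneBase.ringKrullDim_stalk_le X x).trans (by exact_mod_cast hdim))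
      obtain ⟨c, hc⟩ := h x
      have h0 : DevLength.len F x = 0 := by
        rw [hlenF, length_coker hEq c hc]
        exact Ring.ord_of_isUnit ((gen_detSec_inter hEq c).1 hxg)
      exact hx (Module.length_eq_zero_iff.1 h0)
    have hlt : topologicalKrullDim Z < ((1 : ℕ) : WithBot ℕ∞) := by
      refine dim_support_lt hdim (Opens.isOpen _).isClosed_compl fun x _ => ?_
      obtain ⟨c, hc⟩ := h x
      obtain ⟨d, hd, hgen, hval⟩ := exists_detChart hEq c
      refine ⟨d.U, d.hx, d.M.det, Set.disjoint_left.2 fun y hy hyZ => hyZ ?_, (show d.detGerm ∈ _ from hd ▸ hc)⟩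
      rw [Matrix.det_fin_one] at hy
      exact ((H11Ample.gen_inf_eq_basicOpen hgen (detSec σ) _ hval).ge hy).1
    refine (H28Int.dim_le_of_subset hsub).trans ?_
    rcases hD : topologicalKrullDim Z with _ | p
    · exact bot_le
    · rw [hD] at hlt
      exact WithBot.coe_le_coe.2 (ENat.lt_one_iff_eq_zero.1 (WithBot.coe_lt_coe.1 hlt)).le
  have hψ0 : ∀ G : X.Modules, Coh.IsCoh G → topologicalKrullDim (CohB1.support G) < ((0 : ℕ) : WithBot ℕ∞) →
      Curv2.euler k X G = 0 := fun G _ hG => by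
    refine (H28Int.isAddFn_euler k (X := X)).zero (H16Derived.KFlat.Stalk.isZero_of_stalk fun y => ?_)
    haveI : Subsingleton (G.presheaf.stalk y) := by
      by_contra hy
      haveI : Nonempty (CohB1.support G) := ⟨⟨y, hy⟩⟩
      haveI : Nonempty (IrreducibleCloseds (CohB1.support G)) :=
        ⟨⟨closure {⟨y, hy⟩}, isIrreducible_singleton.closure, isClosed_closure⟩⟩
      exact absurd hG (not_lt.2 (by exact_mod_cast Order.krullDim_nonneg))
    haveI : Subsingleton ((DerSch.stalkFunctor X y).obj G) := ‹Subsingleton (G.presheaf.stalk y)›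
    exact ModuleCat.isZero_of_subsingleton _
  rw [e₁, show Curv2.euler k X (ExtPowSheaf.sheaf n E) - Curv2.euler k X (Coh.structureModule X) =
    Curv2.euler k X (cokernel (frame τ)) by rw [← e₂]; push_cast; ring,
    DevLength.eq_finsum (H28Int.isAddFn_euler k (X := X)) hψ0 hC₁ (hsupp hC₁ fun _ => rfl),
    DevLength.eq_finsum (H28Int.isAddFn_euler k (X := X)) hψ0 hC₂ (hsupp hC₂ fun x => (hlen x).symm)]
  simp only [hlen]

end Groth.Agent.H22Alg.DetDeg
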