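import Groth.Agent.H22Alg.SnapperPoly
import Groth.Agent.H28Bc.EulerConst
import Groth.Agent.H12Pic.AlgEquivEuler
import Groth.Agent.H29RR.Degree
import Groth.Agent.H7Flat.FibreDim
import Groth.Agent.H7Flat.FibreDimConstructible
import Groth.Agent.H06EGA9.FlatConstructible
import Groth.Agent.H16Derived.KFlat.PerfCohLocal
import Groth.Agent.H16Derived.KFlat.PerfAmp
import Groth.Agent.H17.ConsModModels
import Mathlib.Combinatorics.Nullstellensatz

/-! # Local constancy of the Snapper polynomials of the fibres. -/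

set_option autoImplicit false
set_option linter.style.haveILetI false

universe u

open CategoryTheory CategoryTheory.Limits AlgebraicGeometry TopologicalSpace

noncomputable section

namespace Groth.Agent.H22Alg.SnapperConst

open Groth.Agent.H25Theta (pb pT pC pI tI pO)

theorem isFP_tensor {X : Scheme.{u}} {G M : X.Modules} (hG : CohB1.IsFP G) (hM : PicF.IsInvertible M) :
    CohB1.IsFP (CohB1.tensorMod G M) := by
  refine H16Derived.KFlat.Stalk.isFP_of_local fun x => ?_
  obtain ⟨U, hxU, ⟨eM⟩⟩ := hM x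
  refine ⟨U.toScheme, U.ι, inferInstance, by rw [Scheme.Opens.opensRange_ι]; exact hxU, ?_⟩
  let eM' : pb U.ι M ≅ Coh.structureModule U.toScheme :=
    ((Scheme.Modules.restrictFunctorIsoPullback U.ι).app M).symm ≪≫ eM
  exact H16Derived.KFlat.Stalk.isFP_of_iso
    ((Scheme.Modules.restrictFunctorIsoPullback U.ι).app _ ≪≫ pT U.ι G M ≪≫ tI (Iso.refl _) eM' ≪≫
      H10Coh.Tw.rightUnitIso _).symm (H06EGA9.isFP_pullback U.ι hG)

theorem isFP_isFlatOver_tensorPows {X S : Scheme.{u}} (f : X ⟶ S) {F : X.Modules} (hF : CohB1.IsFP F)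
    (hfl : FlatMod.IsFlatOver f F) :
    ∀ (r : ℕ) (L : Fin r → X.Modules), (∀ i, PicF.IsInvertible (L i)) → ∀ n : Fin r → ℕ,
      CohB1.IsFP (Curv2.tensorPows F r L n) ∧ FlatMod.IsFlatOver f (Curv2.tensorPows F r L n)
  | 0, _, _, _ => ⟨hF, hfl⟩
  | r + 1, L, hL, n => by
    obtain ⟨h1, h2⟩ := isFP_isFlatOver_tensorPows f hF hfl r (fun i => L i.castSucc) (fun i => hL _)
      (fun i => n i.castSucc)
    have hP := H11Ample.isInvertible_tensorPow (hL (Fin.last r)) (n (Fin.last r))
    exact ⟨isFP_tensor h1 hP, fun x => H12Pic.AlgEquivEuler.isFlatOverAt_tensor f hP (h2 x)⟩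

theorem nonempty_pullback_tensorPows {X Z : Scheme.{u}} (g : Z ⟶ X) (F : X.Modules) :
    ∀ (r : ℕ) (L : Fin r → X.Modules), (∀ j, PicF.IsInvertible (L j)) → ∀ n : Fin r → ℕ,
      Nonempty (pb g (Curv2.tensorPows F r L n) ≅ Curv2.tensorPows (pb g F) r (fun j => pb g (L j)) n)
  | 0, _, _, _ => ⟨Iso.refl _⟩
  | r + 1, L, hL, n => by
    obtain ⟨e⟩ := nonempty_pullback_tensorPows g F r (fun j => L j.castSucc) (fun j => hL _) (fun j => n j.castSucc)
    obtain ⟨eP⟩ := H11Ample.exists_iso_pullback_tensorPow g (hL (Fin.last r)) (n (Fin.last r))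
    exact ⟨pT g _ _ ≪≫ tI e eP⟩

/-- The Euler characteristics of the twists of the fibres are locally constant, uniformly in the twists. -/
theorem exists_nhd_euler_eq {X S : Scheme.{u}} (f : X ⟶ S) [IsProper f] [LocallyOfFinitePresentation f]
    (F : X.Modules) (hF : CohB1.IsFP F) (hfl : FlatMod.IsFlatOver f F) (t : ℕ) (L : Fin t → X.Modules)
    (hL : ∀ i, PicF.IsInvertible (L i)) (s : S) :
    ∃ U : S.Opens, s ∈ U ∧ ∀ s' : S, s' ∈ U → ∀ n : Fin t → ℕ,
      @Curv2.euler (S.residueField s') _ (f.fiber s') ⟨f.fiberToSpecResidueField s'⟩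
            (pb (f.fiberι s') (Curv2.tensorPows F t L n)) =
        @Curv2.euler (S.residueField s) _ (f.fiber s) ⟨f.fiberToSpecResidueField s⟩
            (pb (f.fiberι s) (Curv2.tensorPows F t L n)) := by
  obtain ⟨d, hd⟩ := H7Flat.exists_nat_dim_fiber f s
  let grid := Fintype.piFinset fun _ : Fin t => Finset.range (d + 1)
  have hlc : ∀ n : Fin t → ℕ, IsLocallyConstant (fun y : S => PerfAux.eulerChar f (Curv2.tensorPows F t L n) y) :=
    fun n => by
      obtain ⟨h1, h2⟩ := isFP_isFlatOver_tensorPows f hF hfl t L hL n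
      haveI : (Curv2.tensorPows F t L n).IsQuasicoherent := H29Fitt.isQCoh_of_isFP _ h1
      exact H28Bc.isLocallyConstant_eulerChar f _ h1 h2
  let U : S.Opens := ⟨{y : S | topologicalKrullDim (f.fiber y) ≤ (d : WithBot ℕ∞)} ∩
      ⋂ n ∈ grid, {y : S | PerfAux.eulerChar f (Curv2.tensorPows F t L n) y =
        PerfAux.eulerChar f (Curv2.tensorPows F t L n) s},
    (H7Flat.isOpen_dim_fiber_le f f.isClosedMap _).inter
      (isOpen_biInter_finset fun n _ => (hlc n).isOpen_fiber _)⟩
  refine ⟨U, ⟨hd, Set.mem_iInter₂.2 fun n _ => rfl⟩, fun s' hs' n => ?_⟩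
  have hpoly : ∀ y : S, topologicalKrullDim (f.fiber y) ≤ (d : WithBot ℕ∞) →
      ∃ P : MvPolynomial (Fin t) ℚ, P.totalDegree ≤ d ∧ ∀ m : Fin t → ℕ,
        (@Curv2.euler (S.residueField y) _ (f.fiber y) ⟨f.fiberToSpecResidueField y⟩
            (pb (f.fiberι y) (Curv2.tensorPows F t L m)) : ℚ) = MvPolynomial.eval (fun i => (m i : ℚ)) P := by
    intro y hy
    letI : (f.fiber y).Over (Spec (CommRingCat.of (S.residueField y))) := ⟨f.fiberToSpecResidueField y⟩
    haveI : IsProper (f.fiber y ↘ Spec (CommRingCat.of (S.residueField y))) :=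
      MorphismProperty.of_isPullback (IsPullback.of_hasPullback f (S.fromSpecResidueField y)) inferInstance
    haveI : IsNoetherian (f.fiber y) := H29RR.isNoetherian_of_proper (k := S.residueField y)
    have hc : Coh.IsCoh (pb (f.fiberι y) F) := H17.ConsProp.isCoh_of_isFP (H06EGA9.isFP_pullback _ hF)
    obtain ⟨P, hP, hP'⟩ := Snapper.exists_poly (S.residueField y) hc (d := d)
      ((Topology.IsInducing.topologicalKrullDim_le Topology.IsEmbedding.subtypeVal.isInducing).trans hy)
      (L := fun j => pb (f.fiberι y) (L j)) (fun j => H11Ample.isInvertible_pullback _ (hL j))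
    refine ⟨P, hP, fun m => ?_⟩
    obtain ⟨e⟩ := nonempty_pullback_tensorPows (f.fiberι y) F t L hL m
    rw [← hP', H25Euler.euler_congr e]
  obtain ⟨P', hP', hP'e⟩ := hpoly s' hs'.1
  obtain ⟨P, hP, hPe⟩ := hpoly s hd
  have heq : P' - P = 0 := by
    refine MvPolynomial.eq_zero_of_eval_zero_at_prod_finset _
      (fun _ => (Finset.range (d + 1)).image (Nat.cast : ℕ → ℚ)) (fun i => ?_) fun x hx => ?_
    · rw [Finset.card_image_of_injective _ Nat.cast_injective, Finset.card_range, Nat.lt_succ_iff]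
      exact ((MvPolynomial.degreeOf_le_totalDegree _ _).trans (MvPolynomial.totalDegree_sub _ _)).trans
        (max_le hP' hP)
    · choose m hm hxm using fun i => Finset.mem_image.1 (hx i)
      obtain rfl : (fun i => (m i : ℚ)) = x := funext hxm
      rw [map_sub, sub_eq_zero, ← hP'e, ← hPe, Int.cast_inj]
      exact Set.mem_iInter₂.1 hs'.2 m (Fintype.mem_piFinset.2 hm)
  rw [← Int.cast_inj (α := ℚ), hP'e, hPe, sub_eq_zero.1 heq]

end Groth.Agent.H22Alg.SnapperConst
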