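import Groth.Agent.H22Alg.TwistPoint
import Groth.Agent.H22Alg.SnapperConst
import Groth.Agent.H10Inj.FlatTwist
import Groth.Agent.H28Int.FieldExt
import Groth.Agent.H7Flat.FlatAtDescent
import Groth.Agent.H22Alg.FlatSurj
import Groth.Agent.H11Ample.RelAmple
import Groth.Agent.H10Coh.Proper2

/-! # Flatness and Hilbert polynomials. -/

set_option autoImplicit false
set_option linter.style.haveILetI false
set_option linter.unusedSectionVars false

universe u

open CategoryTheory CategoryTheory.Limits AlgebraicGeometry Opposite TopologicalSpace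

noncomputable section

namespace Groth.Agent.H22Alg.HilbertFlat

open Groth.Agent.LeadBC Groth.Agent.H10Coh Groth.Agent.H11Tilde Groth.Agent.H11Ample
open Groth.Agent.H25Theta (pb pT pC pI tI pO)

attribute [local instance 10000] H10Coh.hasSheafifyAb H10Coh.hasWeakSheafifyAb H10Coh.hasExtAb H10Coh.enoughInjAb

/-- The Euler characteristic on the fibre. -/
abbrev fibEuler {X S : Scheme.{u}} (f : X ⟶ S) (G : X.Modules) (s : S) : ℤ :=
  @Curv2.euler (S.residueField s) _ (f.fiber s) ⟨f.fiberToSpecResidueField s⟩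
    ((Scheme.Modules.pullback (f.fiberι s)).obj G)

/-- Euler characteristics of fibres are unchanged by base change. -/
theorem fibEuler_baseChange {X S X' S' : Scheme.{u}} {f : X ⟶ S} {g : S' ⟶ S} {g' : X' ⟶ X} {f' : X' ⟶ S'}
    (h : IsPullback g' f' f g) [IsProper f] {G : X.Modules} (hG : Coh.IsCoh G) (s' : S') :
    fibEuler f' (pb g' G) s' = fibEuler f G (g s') := by
  letI : Algebra (S.residueField (g s')) (S'.residueField s') := (g.residueFieldMap s').hom.toAlgebra
  letI : (f.fiber (g s')).Over (Spec (CommRingCat.of (S.residueField (g s')))) := ⟨f.fiberToSpecResidueField (g s')⟩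
  letI : (f'.fiber s').Over (Spec (CommRingCat.of (S'.residueField s'))) := ⟨f'.fiberToSpecResidueField s'⟩
  haveI : IsProper (f.fiber (g s') ↘ Spec (CommRingCat.of (S.residueField (g s')))) :=
    MorphismProperty.of_isPullback (IsPullback.of_hasPullback f (S.fromSpecResidueField (g s'))) inferInstance
  have hcond : (f'.fiberι s' ≫ g') ≫ f = (f'.fiberToSpecResidueField s' ≫ Spec.map (g.residueFieldMap s')) ≫
      S.fromSpecResidueField (g s') := by
    rw [Category.assoc, h.w, ← Category.assoc, f'.fiber_fac s', Category.assoc, Category.assoc,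
      Scheme.Hom.SpecMap_residueFieldMap_fromSpecResidueField]
  let q : f'.fiber s' ⟶ f.fiber (g s') := pullback.lift (f'.fiberι s' ≫ g')
    (f'.fiberToSpecResidueField s' ≫ Spec.map (g.residueFieldMap s')) hcond
  have hq : q ≫ f.fiberι (g s') = f'.fiberι s' ≫ g' := pullback.lift_fst _ _ _
  have hsq : IsPullback q (f'.fiber s' ↘ Spec (CommRingCat.of (S'.residueField s')))
      (f.fiber (g s') ↘ Spec (CommRingCat.of (S.residueField (g s'))))
      (Spec.map (CommRingCat.ofHom (algebraMap (S.residueField (g s')) (S'.residueField s')))) := by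
    refine IsPullback.of_right ?_ (pullback.lift_snd _ _ _)
      (IsPullback.of_hasPullback f (S.fromSpecResidueField (g s')))
    show IsPullback (q ≫ f.fiberι (g s')) _ f (Spec.map (g.residueFieldMap s') ≫ S.fromSpecResidueField (g s'))
    rw [hq, Scheme.Hom.SpecMap_residueFieldMap_fromSpecResidueField]
    exact (IsPullback.of_hasPullback f' (S'.fromSpecResidueField s')).paste_horiz h
  show Curv2.euler (S'.residueField s') (f'.fiber s') (pb (f'.fiberι s') (pb g' G)) = _
  refine (H25Euler.euler_congr (pC (f'.fiberι s') g' hq.symm G ≪≫ (pC q (f.fiberι (g s')) rfl G).symm)).trans ?_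
  exact H28Int.FieldExt.euler_bc _ hsq (H17.ConsProp.isCoh_pullback _ hG)

/-- Flatness transfers along a bijective algebra map. -/
theorem flat_of_bijective {A B M : Type*} [CommRing A] [CommRing B] [Algebra A B]
    (h : Function.Bijective (algebraMap A B)) [AddCommGroup M] [Module A M] [Module B M] [IsScalarTower A B M]
    [Module.Flat A M] : Module.Flat B M := by
  haveI : IsLocalization (⊥ : Submonoid A) A := IsLocalization.self (by simp)
  haveI : IsLocalization (⊥ : Submonoid A) B :=
    IsLocalization.isLocalization_of_algEquiv (⊥ : Submonoid A) (AlgEquiv.ofBijective (Algebra.ofId A B) h)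
  haveI : IsLocalizedModule (⊥ : Submonoid A) (LinearMap.id : M →ₗ[A] M) :=
    { map_units := fun x => by rw [Submonoid.mem_bot.1 x.2, map_one]; exact isUnit_one
      surj := fun y => ⟨(y, 1), one_smul _ y⟩
      exists_of_eq := fun h => ⟨1, congrArg _ h⟩ }
  exact Module.Flat.of_isLocalizedModule (R := A) B ⊥ LinearMap.id

section Affine

variable {A : Type u} [CommRing A] {X : Scheme.{u}} [X.Over (Spec (CommRingCat.of A))]

/-- Flat sections of all large twists give flatness. -/
theorem isFlatOver_of_flat_HH [IsProper (X ↘ Spec (CommRingCat.of A))] {L : X.Modules} (hA : CohB1.IsAmple L)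
    (F : X.Modules) (hF : Coh.IsQCoh F) (N : ℕ)
    (h : ∀ n, N ≤ n → Module.Flat A (Coh.HH X (CohB1.tensorMod F (CohB1.tensorPow L n)) 0)) :
    FlatMod.IsFlatOver (X ↘ Spec (CommRingCat.of A)) F := by
  intro x
  let f : X ⟶ Spec (CommRingCat.of A) := X ↘ Spec (CommRingCat.of A)
  obtain ⟨hL, hc, hW⟩ := isAmple_iff.1 hA
  haveI := hc
  haveI : QuasiSeparatedSpace X := quasiSeparatedSpace_of_isAmple hA
  haveI : F.IsQuasicoherent := hF
  obtain ⟨k, s, hk, hxs, hs⟩ := hW x
  have hLk : PicF.IsInvertible (CohB1.tensorPow L k) := isInvertible_tensorPow hL k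
  let φ : A →+* Γ(X, ⊤) := LeadBC.sc A (⊤ : X.Opens)
  have hflat := H10Inj.FlatTwist.flat_sections_gen F hF hLk (Z := (⊤ : X.Opens)) isCompact_univ s φ N fun n hn => by
    obtain ⟨e₁⟩ := H10Inj.FlatTwist.nonempty_twN_iso F (CohB1.tensorPow L k) n
    obtain ⟨e₂, -⟩ := exists_iso_mul hL k n
    let e : H10Inj.FlatTwist.twN F (CohB1.tensorPow L k) n ≅ CohB1.tensorMod F (CohB1.tensorPow L (k * n)) :=
      e₁ ≪≫ PicGrp.tensorModIso (Iso.refl F) e₂
    haveI := h (k * n) (hn.trans (Nat.le_mul_of_pos_left n hk))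
    letI : Module A Γ(H10Inj.FlatTwist.twN F (CohB1.tensorPow L k) n, (⊤ : X.Opens)) := Module.compHom _ φ
    exact Module.Flat.of_linearEquiv
      ((TwistFibre.hh0Lin (H10Inj.FlatTwist.twN F (CohB1.tensorPow L k) n)).symm.trans
        ((LeadBC.HMod A (X := X) 0).mapIso e).toLinearEquiv :
        Γ(H10Inj.FlatTwist.twN F (CohB1.tensorPow L k) n, (⊤ : X.Opens)) ≃ₗ[A]
          Coh.HH X (CohB1.tensorMod F (CohB1.tensorPow L (k * n))) 0)
  let U : X.Opens := ⊤ ⊓ gen (CohB1.tensorPow L k) s
  have hU : IsAffineOpen U := by rw [show U = gen (CohB1.tensorPow L k) s from top_inf_eq _]; exact hs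
  refine (H8Props.FlatLocus.flat_sections_over_iff f F hF (V := ⊤) (isAffineOpen_top _) hU
    (fun _ _ => trivial)).1 ?_ ⟨x, trivial, hxs⟩
  let e := (Scheme.ΓSpecIso (CommRingCat.of A)).commRingCatIsoToRingEquiv
  letI : Algebra A Γ(Spec (CommRingCat.of A), ⊤) := e.symm.toRingHom.toAlgebra
  letI := Module.compHom Γ(F, U) (f.appLE ⊤ U (fun _ _ => trivial)).hom
  letI m2 : Module A Γ(F, U) :=
    Module.compHom _ ((X.presheaf.map (homOfLE (inf_le_left : U ≤ ⊤)).op).hom.comp φ)
  haveI : Module.Flat A Γ(F, U) := hflat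
  haveI : IsScalarTower A Γ(Spec (CommRingCat.of A), ⊤) Γ(F, U) := .of_algebraMap_smul fun a y => by
    show (f.appLE ⊤ U _).hom (e.symm a) • y = (X.presheaf.map (homOfLE (inf_le_left : U ≤ ⊤)).op) (φ a) • y
    refine congrArg (· • y) ?_
    exact congr($((f.appLE_map (U := ⊤) (V := ⊤) (V' := U) le_top (homOfLE (inf_le_left : U ≤ ⊤)).op).symm)
      ((Scheme.ΓSpecIso (CommRingCat.of A)).inv a))
  exact flat_of_bijective (A := A) (B := Γ(Spec (CommRingCat.of A), ⊤)) e.symm.bijective

/-- Over a reduced local base, equality of the Hilbert polynomials at the closed and minimal points gives flatness. -/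
theorem isFlatOver_of_euler_eq [IsNoetherianRing A] [IsLocalRing A] [_root_.IsReduced A]
    [IsProper (X ↘ Spec (CommRingCat.of A))] {L : X.Modules} (hA : CohB1.IsAmple L)
    (F : X.Modules) (hF : Coh.IsCoh F)
    (h : ∀ q : PrimeSpectrum A, q.asIdeal ∈ minimalPrimes A → ∀ n : ℕ,
      fibEuler (X ↘ Spec (CommRingCat.of A)) (CohB1.tensorMod F (CohB1.tensorPow L n)) q =
        fibEuler (X ↘ Spec (CommRingCat.of A)) (CohB1.tensorMod F (CohB1.tensorPow L n)) (IsLocalRing.closedPoint A)) :
    FlatMod.IsFlatOver (X ↘ Spec (CommRingCat.of A)) F := by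
  choose N hN using fun q : PrimeSpectrum A => TwistFibre.exists_fibDim_eq_euler hA F hF q
  have hfin : {q : PrimeSpectrum A | q.asIdeal ∈ minimalPrimes A}.Finite :=
    (minimalPrimes.finite_of_isNoetherianRing A).preimage
      (fun _ _ _ _ h => PrimeSpectrum.ext h)
  refine isFlatOver_of_flat_HH hA F hF.1 (hfin.toFinset.sup N + N (IsLocalRing.closedPoint A)) fun n hn => ?_
  haveI : IsLocallyNoetherian X := LocallyOfFiniteType.isLocallyNoetherian (X ↘ Spec (CommRingCat.of A))
  haveI : CompactSpace X := QuasiCompact.compactSpace_of_compactSpace (X ↘ Spec (CommRingCat.of A))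
  haveI : IsNoetherian X := ⟨⟩
  haveI := H10Coh.finite_HH_proper A X (CohB1.tensorMod F (CohB1.tensorPow L n))
    (isCoh_tensor hF (isInvertible_tensorPow (isAmple_iff.1 hA).1 n)) 0
  haveI : Module.Free A (Coh.HH X (CohB1.tensorMod F (CohB1.tensorPow L n)) 0) :=
    H06FlatCx.free_of_fibDim_eq _ fun q hq => by
      have := Finset.le_sup (f := N) (hfin.mem_toFinset.2 hq)
      exact_mod_cast ((hN q n (by omega)).trans (h q hq n)).trans (hN (IsLocalRing.closedPoint A) n (by omega)).symm
  infer_instance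

end Affine

/-- Fibre Euler characteristics of a flat family are locally constant, uniformly in the twists. -/
theorem exists_nhd_fibEuler_eq {X S : Scheme.{u}} (f : X ⟶ S) [IsProper f] [IsLocallyNoetherian S]
    {L : X.Modules} (hL : PicF.IsInvertible L) {F : X.Modules} (hF : Coh.IsCoh F)
    (hfl : FlatMod.IsFlatOver f F) (s : S) :
    ∃ U : S.Opens, s ∈ U ∧ ∀ s' : S, s' ∈ U → ∀ n : ℕ,
      fibEuler f (CohB1.tensorMod F (CohB1.tensorPow L n)) s' =
        fibEuler f (CohB1.tensorMod F (CohB1.tensorPow L n)) s := by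
  haveI : IsLocallyNoetherian X := LocallyOfFiniteType.isLocallyNoetherian f
  haveI : LocallyOfFinitePresentation f := LocallyOfFinitePresentation.iff_locallyOfFiniteType.2 inferInstance
  obtain ⟨U, hsU, hU⟩ := SnapperConst.exists_nhd_euler_eq f F (H10Coh.isFP_of_isCoh F hF) hfl 1 (fun _ => L)
    (fun _ => hL) s
  exact ⟨U, hsU, fun s' hs' n => hU s' hs' fun _ => n⟩

/-- Local constancy of the Hilbert polynomials gives flatness over a reduced base. -/
theorem isFlatOver_of_locallyConstant {X S : Scheme.{u}} [IsLocallyNoetherian S] [IsReduced S] (f : X ⟶ S)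
    [IsProper f] {L : X.Modules} (hL : RelAmple.IsRelAmple f L) {F : X.Modules} (hF : Coh.IsCoh F)
    (h : ∀ s : S, ∃ U : S.Opens, s ∈ U ∧ ∀ s' : S, s' ∈ U → ∀ n : ℕ,
      fibEuler f (CohB1.tensorMod F (CohB1.tensorPow L n)) s' =
        fibEuler f (CohB1.tensorMod F (CohB1.tensorPow L n)) s) :
    FlatMod.IsFlatOver f F := by
  intro x
  have hLi : PicF.IsInvertible L := isInvertible_of_isRelAmple hL
  let O := S.presheaf.stalk (f x)
  let g : Spec (CommRingCat.of O) ⟶ S := S.fromSpecStalk (f x)
  haveI hg : Flat g := H22Alg.flat_fromSpecStalk S (f x)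
  let X₁ := pullback f g
  letI : X₁.Over (Spec (CommRingCat.of O)) := ⟨pullback.snd f g⟩
  haveI : IsProper (X₁ ↘ Spec (CommRingCat.of O)) := inferInstanceAs (IsProper (pullback.snd f g))
  have hsq : IsPullback (pullback.fst f g) (X₁ ↘ Spec (CommRingCat.of O)) f g := IsPullback.of_hasPullback f g
  obtain ⟨V, hV, hxV, -⟩ := exists_isAffineOpen_mem_and_subset (U := (⊤ : S.Opens)) (x := f x) trivial
  have hgV : ∀ z, g z ∈ V := fun z => by
    have hz : g z ⤳ f x := by
      have : g z ∈ Set.range g := Set.mem_range_self z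
      rwa [Scheme.range_fromSpecStalk] at this
    exact hz.mem_open V.2 hxV
  have hA : CohB1.IsAmple (pb (pullback.fst f g) L) := by
    haveI : CompactSpace X₁ := QuasiCompact.compactSpace_of_compactSpace (pullback.snd f g)
    have hle : Set.range (pullback.fst f g) ⊆ (f ⁻¹ᵁ V : X.Opens) := by
      rintro _ ⟨z, rfl⟩
      show f (pullback.fst f g z) ∈ V
      rw [← Scheme.Hom.comp_apply, pullback.condition, Scheme.Hom.comp_apply]
      exact hgV _
    have hle' : Set.range (pullback.fst f g) ⊆ Set.range (f ⁻¹ᵁ V).ι := by rw [Scheme.Opens.range_ι]; exact hle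
    let j : X₁ ⟶ (f ⁻¹ᵁ V).toScheme := IsOpenImmersion.lift (f ⁻¹ᵁ V).ι (pullback.fst f g) hle'
    haveI : IsAffine V.toScheme := hV
    let g₀ : Spec (CommRingCat.of O) ⟶ V.toScheme := IsOpenImmersion.lift V.ι g (by
      rw [Scheme.Opens.range_ι]; rintro _ ⟨z, rfl⟩; exact hgV z)
    have hj : IsPullback j (pullback.snd f g) (f ∣_ V) g₀ := by
      refine IsPullback.of_right ?_ ?_ (isPullback_morphismRestrict f V).flip
      · rw [IsOpenImmersion.lift_fac, IsOpenImmersion.lift_fac]; exact IsPullback.of_hasPullback f g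
      · rw [← cancel_mono V.ι, Category.assoc, morphismRestrict_ι, IsOpenImmersion.lift_fac_assoc, Category.assoc,
          IsOpenImmersion.lift_fac]
        exact pullback.condition
    haveI : IsAffineHom j := MorphismProperty.of_isPullback (P := @IsAffineHom) hj.flip inferInstance
    have := H11Ample.isAmple_pullback_of_isAffineHom j ((isAmple_restrict_iff L _).1 (hL.2 ⟨V, hV⟩))
    rw [← isAmple_pullback_comp_iff, IsOpenImmersion.lift_fac] at this
    exact this
  haveI : _root_.IsReduced O := inferInstance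
  have hcl : g (IsLocalRing.closedPoint O) = f x := Scheme.fromSpecStalk_closedPoint
  have hF₁ := H17.ConsProp.isCoh_pullback (pullback.fst f g) hF
  have key : ∀ (n : ℕ) (z : PrimeSpectrum O),
      fibEuler (X₁ ↘ Spec (CommRingCat.of O)) (CohB1.tensorMod (pb (pullback.fst f g) F)
        (CohB1.tensorPow (pb (pullback.fst f g) L) n)) z =
      fibEuler f (CohB1.tensorMod F (CohB1.tensorPow L n)) (g z) := fun n z => by
    haveI : IsLocallyNoetherian X := LocallyOfFiniteType.isLocallyNoetherian f
    obtain ⟨e⟩ := exists_iso_pullback_tensorPow (pullback.fst f g) hLi n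
    letI : ((X₁ ↘ Spec (CommRingCat.of O)).fiber z).Over (Spec (CommRingCat.of ((Spec (CommRingCat.of O)).residueField z))) :=
      ⟨(X₁ ↘ Spec (CommRingCat.of O)).fiberToSpecResidueField z⟩
    rw [← fibEuler_baseChange hsq (isCoh_tensor hF (isInvertible_tensorPow hLi n)) z]
    exact H25Euler.euler_congr ((Scheme.Modules.pullback _).mapIso (tI (Iso.refl _) e.symm ≪≫ (pT _ _ _).symm))
  have hfl₁ := isFlatOver_of_euler_eq (A := O) (X := X₁) hA _ hF₁ fun q _ n => by
    rw [key, key, hcl]
    obtain ⟨U, hxU, hU⟩ := h (f x)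
    refine hU _ ?_ n
    have hz : g q ⤳ g (IsLocalRing.closedPoint O) := by
      refine Specializes.map ?_ g.continuous
      exact (PrimeSpectrum.le_iff_specializes _ _).1 (IsLocalRing.le_maximalIdeal q.2.ne_top)
    rw [hcl] at hz
    exact hz.mem_open U.2 hxU
  obtain ⟨x₁, hx₁, -⟩ := Scheme.Pullback.exists_preimage_pullback (f := f) (g := g) x
    (IsLocalRing.closedPoint O) hcl.symm
  have := H7Flat.isFlatOverAt_of_isPullback_flatAt f g hsq F x₁ (Flat.stalkMap g _) (hfl₁ x₁)
  rwa [hx₁] at this

end Groth.Agent.H22Alg.HilbertFlat
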