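import Mathlib
import Groth.Agent.H22Alg.Nakai

/-!
# Positivity in terms of ideal sheaves, and the intersection coefficients
-/

set_option autoImplicit false
set_option linter.style.haveILetI false
universe u

open CategoryTheory CategoryTheory.Limits AlgebraicGeometry Opposite TopologicalSpace

noncomputable section

namespace Groth.Agent.H22Alg.NakaiPos

variable {X : Scheme.{u}}

theorem dim_subscheme (J : X.IdealSheafData) :
    topologicalKrullDim J.subscheme = topologicalKrullDim (J.support : Set X) :=
  (J.subschemeι.isEmbedding.toHomeomorph.trans (Homeomorph.setCongr J.range_subschemeι)).isHomeomorph.topologicalKrullDim_eq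

theorem ker_data {Z : Scheme.{u}} (i : Z ⟶ X) [IsClosedImmersion i] [IsIntegral Z] :
    IsIntegral i.ker.subscheme ∧ topologicalKrullDim (i.ker.support : Set X) = topologicalKrullDim Z := by
  haveI : IsIso i.toImage := inferInstance
  haveI : Nonempty i.ker.subscheme := ⟨i.toImage (genericPoint Z)⟩
  refine ⟨isIntegral_of_isOpenImmersion (inv i.toImage), ?_⟩
  rw [Scheme.Hom.support_ker, i.isClosedEmbedding.isEmbedding.toHomeomorph.isHomeomorph.topologicalKrullDim_eq,
    i.isClosedEmbedding.isClosed_range.closure_eq]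

variable (k : Type u) [Field k] [X.Over (Spec (CommRingCat.of k))] [IsProper (X ↘ Spec (CommRingCat.of k))]

theorem pos_iff (L : X.Modules) :
    Nakai.Pos k L ↔ ∀ (J : X.IdealSheafData), IsIntegral J.subscheme → ∀ d : ℕ, 0 < d →
      topologicalKrullDim (J.support : Set X) = (d : WithBot ℕ∞) →
      0 < (-1 : ℤ) ^ d * H28Int.D k (List.replicate d L) (ClSub.quotMod J) := by
  constructor
  · intro h J hJ d hd0 hd
    haveI := hJ
    have h' := h J.subscheme J.subschemeι d hd0 ((dim_subscheme J).trans hd)
    rwa [J.ker_subschemeι] at h'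
  · intro h Z i hi hZ d hd0 hd
    exact h i.ker (ker_data i).1 d hd0 ((ker_data i).2.trans hd)

theorem coeff_eq {L : X.Modules} (hL : PicF.IsInvertible L) (J : X.IdealSheafData) {d : ℕ}
    (hd : topologicalKrullDim (J.support : Set X) = (d : WithBot ℕ∞)) {P : MvPolynomial (Fin d) ℚ}
    (hP : ∀ n : Fin d → ℕ, (Curv2.euler k X (Curv2.tensorPows (ClSub.quotMod J) d (fun _ => L) n) : ℚ) =
      MvPolynomial.eval (fun i => (n i : ℚ)) P) :
    MvPolynomial.coeff (Finsupp.equivFunOnFinite.symm fun _ : Fin d => 1) P =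
      (((-1 : ℤ) ^ d * H28Int.D k (List.replicate d L) (ClSub.quotMod J) : ℤ) : ℚ) := by
  haveI := H28Int.isNoetherian k (X := X)
  have hsd : topologicalKrullDim (CohB1.support (ClSub.quotMod J)) ≤ (d : WithBot ℕ∞) :=
    (H28Int.dim_le_of_subset (fun x hx => by
      by_contra hn
      exact LeadDev.notMem_support_push J.subschemeι (Coh.structureModule J.subscheme)
        (fun hr => hn (J.range_subschemeι ▸ hr)) hx)).trans hd.le
  rw [Snapper.coeff_one_eq_D k (LeadDev.isCoh_push_structure J.subschemeι) hsd (fun _ => hL) hP, List.ofFn_const]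
  push_cast
  rfl

theorem exists_coeff {L : X.Modules} (hL : PicF.IsInvertible L) (J : X.IdealSheafData) (d : ℕ)
    (hd : topologicalKrullDim (J.support : Set X) = (d : WithBot ℕ∞)) :
    ∃ P : MvPolynomial (Fin d) ℚ, ∀ n : Fin d → ℕ,
      (Curv2.euler k X (Curv2.tensorPows (ClSub.quotMod J) d (fun _ => L) n) : ℚ) =
        MvPolynomial.eval (fun i => (n i : ℚ)) P := by
  haveI := H28Int.isNoetherian k (X := X)
  have hsd : topologicalKrullDim (CohB1.support (ClSub.quotMod J)) ≤ (d : WithBot ℕ∞) :=
    (H28Int.dim_le_of_subset (fun x hx => by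
      by_contra hn
      exact LeadDev.notMem_support_push J.subschemeι (Coh.structureModule J.subscheme)
        (fun hr => hn (J.range_subschemeι ▸ hr)) hx)).trans hd.le
  obtain ⟨P, -, hP⟩ := Snapper.exists_poly k (LeadDev.isCoh_push_structure J.subschemeι) hsd (L := fun _ : Fin d => L) (fun _ => hL)
  exact ⟨P, hP⟩

/-- The degree on a curve, as an Euler characteristic difference. -/
theorem deg_eq (L : X.Modules) (C : X.IdealSheafData) :
    Curv2.euler k X (CohB1.tensorMod (ClSub.quotMod C) L) - Curv2.euler k X (ClSub.quotMod C) =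
      (-1 : ℤ) ^ 1 * H28Int.D k (List.replicate 1 L) (ClSub.quotMod C) := by
  show _ = (-1 : ℤ) ^ 1 * (Curv2.euler k X _ - Curv2.euler k X (CohB1.tensorMod L _))
  rw [H25Euler.euler_congr (H10Coh.Tw.commIso L (ClSub.quotMod C))]
  ring

end Groth.Agent.H22Alg.NakaiPos

namespace Groth.Agent.H22Alg.NakaiPos

variable {X : Scheme.{u}} (k : Type u) [Field k] [X.Over (Spec (CommRingCat.of k))] [IsProper (X ↘ Spec (CommRingCat.of k))]

theorem eqOn_one {L L' : X.Modules} (hL : PicF.IsInvertible L) (hL' : PicF.IsInvertible L')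
    (hnum : ∀ C : X.IdealSheafData, IsIntegral C.subscheme → topologicalKrullDim (C.support : Set X) = 1 →
      Curv2.euler k X (CohB1.tensorMod (ClSub.quotMod C) L) = Curv2.euler k X (CohB1.tensorMod (ClSub.quotMod C) L')) :
    H28Int.Num.EqOn k 1 [L] [L'] := by
  intro F hF hd
  haveI := H28Int.isNoetherian k (X := X)
  have hl : ∀ {M : X.Modules}, PicF.IsInvertible M → ∀ A ∈ [M], PicF.IsInvertible A :=
    fun hM => List.forall_mem_singleton.2 hM
  rw [DevLength.eq_finsum (H28Int.isAddFn_D k _ (hl hL)) (d := 1)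
      (fun G hG h => H28Int.D_eq_zero k _ (hl hL) G hG (by simpa using h)) hF hd,
    DevLength.eq_finsum (H28Int.isAddFn_D k _ (hl hL')) (d := 1)
      (fun G hG h => H28Int.D_eq_zero k _ (hl hL') G hG (by simpa using h)) hF hd]
  refine finsum_congr fun ξ => ?_
  split_ifs with h
  · congr 1
    let J := Scheme.IdealSheafData.vanishingIdeal (DevLength.cl ξ)
    have hJ := hnum J (isIntegral_vanishingIdeal_closure ξ) (by
      rw [Scheme.IdealSheafData.coe_support_vanishingIdeal]; simpa using h)
    have h1 := deg_eq k L J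
    have h2 := deg_eq k L' J
    change H28Int.D k (List.replicate 1 L) (ClSub.quotMod J) = H28Int.D k (List.replicate 1 L') (ClSub.quotMod J)
    omega
  · rfl

theorem pos_congr {L L' : X.Modules} (hL : PicF.IsInvertible L) (hL' : PicF.IsInvertible L')
    (h1 : H28Int.Num.EqOn k 1 [L] [L']) (h : Nakai.Pos k L) : Nakai.Pos k L' := by
  rw [pos_iff] at h ⊢
  intro J hJ d hd0 hd
  haveI := H28Int.isNoetherian k (X := X)
  have hF : Coh.IsCoh (ClSub.quotMod J) := LeadDev.isCoh_push_structure J.subschemeι
  have hsd : topologicalKrullDim (CohB1.support (ClSub.quotMod J)) ≤ (d : WithBot ℕ∞) :=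
    (H28Int.dim_le_of_subset (fun x hx => by
      by_contra hn
      exact LeadDev.notMem_support_push J.subschemeι (Coh.structureModule J.subscheme)
        (fun hr => hn (J.range_subschemeι ▸ hr)) hx)).trans hd.le
  have he := H28Int.Num.eqOn_ofFn k d (fun _ => L) (fun _ => L') (fun _ => hL) (fun _ => hL') (fun _ => h1) _ hF hsd
  rw [List.ofFn_const, List.ofFn_const] at he
  rw [← he]
  exact h J hJ d hd0 hd

end Groth.Agent.H22Alg.NakaiPos
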