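import Mathlib
import Groth.Agent.H22Alg.NakaiPos
import Groth.Agent.H11Ample.Pullback

/-!
# Strictly nef modules with sections are ample
-/

set_option autoImplicit false
set_option linter.style.haveILetI false
universe u

open CategoryTheory CategoryTheory.Limits AlgebraicGeometry Opposite TopologicalSpace
open Groth.Agent.H11Tilde Groth.Agent.H11Ample

noncomputable section

namespace Groth.Agent.H22Alg.NakaiSemi

variable {X : Scheme.{u}}

/-- Powers generated near every point give a generated power. -/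
theorem exists_gg_of_gens [CompactSpace X] {M : X.Modules} (hM : PicF.IsInvertible M)
    (h : ∀ x : X, ∃ (j : ℕ) (w : Γ(CohB1.tensorPow M j, ⊤)), 0 < j ∧ x ∈ gen (CohB1.tensorPow M j) w) :
    ∃ m : ℕ, 0 < m ∧ Curv2.IsGloballyGenerated (CohB1.tensorPow M m) := by
  classical
  choose j w hj hw using h
  obtain ⟨T, hT⟩ := isCompact_univ.elim_finite_subcover (fun x : X => (gen (CohB1.tensorPow M (j x)) (w x) : Set X))
    (fun x => (gen (CohB1.tensorPow M (j x)) (w x)).2) fun x _ => Set.mem_iUnion.2 ⟨x, hw x⟩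
  refine ⟨∏ x ∈ T, j x, Finset.prod_pos fun x _ => hj x,
    DimOnePencil.isGloballyGenerated_of_gen (isInvertible_tensorPow hM _) fun x => ?_⟩
  obtain ⟨y, hy, hxy⟩ := Set.mem_iUnion₂.1 (hT (Set.mem_univ x))
  rw [← Finset.mul_prod_erase T j hy]
  exact NakaiGen.exists_gen_mul hM hxy _

theorem nonempty_tensorPow_congr {L L' : X.Modules} (e : L ≅ L') :
    ∀ m : ℕ, Nonempty (CohB1.tensorPow L m ≅ CohB1.tensorPow L' m)
  | 0 => ⟨Iso.refl _⟩
  | m + 1 => by
    obtain ⟨e'⟩ := nonempty_tensorPow_congr e m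
    exact ⟨PicGrp.tensorModIso e' e⟩

theorem genericPoint_mem_gen [IsIntegral X] [IsNoetherian X] {L : X.Modules} (hL : PicF.IsInvertible L)
    (s : Coh.structureModule X ⟶ L) (hs : s ≠ 0) : genericPoint X ∈ gen L (SecTwist.val s ⊤) := by
  have h : homOfGlobal L (SecTwist.val s ⊤) = s := by
    refine Scheme.Modules.hom_ext _ _ fun W => ?_
    ext r
    exact (H06Mod.app_unit s W r).symm
  have hne : SecTwist.val s ⊤ ≠ 0 := fun h0 => hs (by
    rw [← h, h0]
    refine Scheme.Modules.hom_ext _ _ fun W => ?_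
    ext r
    show (show Γ(X, W) from r) • L.presheaf.map (homOfLE (le_top : W ≤ ⊤)).op (0 : Γ(L, ⊤)) = (0 : Γ(L, W))
    rw [map_zero, smul_zero])
  exact H25Euler.mem_gen_of_notMem_support_coker hL _ (H29RR.mono_homOfGlobal hL hne).2

variable (k : Type u) [Field k] [X.Over (Spec (CommRingCat.of k))] [IsProper (X ↘ Spec (CommRingCat.of k))]

/-- Positive degree on every integral curve. -/
def PosOne (L : X.Modules) : Prop :=
  ∀ (Z : Scheme.{u}) (i : Z ⟶ X) [IsClosedImmersion i] [IsIntegral Z],
    topologicalKrullDim Z = ((1 : ℕ) : WithBot ℕ∞) →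
    0 < (-1 : ℤ) ^ 1 * H28Int.D k (List.replicate 1 L) (ClSub.quotMod i.ker)

theorem posOne_iff (L : X.Modules) : PosOne k L ↔
    ∀ C : X.IdealSheafData, IsIntegral C.subscheme → topologicalKrullDim (C.support : Set X) = 1 →
      0 < Curv2.euler k X (CohB1.tensorMod (ClSub.quotMod C) L) - Curv2.euler k X (ClSub.quotMod C) := by
  constructor
  · intro h C hC hd
    haveI := hC
    have h' := h C.subscheme C.subschemeι ((NakaiPos.dim_subscheme C).trans (hd.trans (by simp)))
    rw [C.ker_subschemeι] at h'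
    rw [NakaiPos.deg_eq]
    exact h'
  · intro h Z i hi hZ hd
    rw [← NakaiPos.deg_eq]
    exact h i.ker (NakaiPos.ker_data i).1 ((NakaiPos.ker_data i).2.trans (hd.trans (by simp)))

theorem posOne_of_pos {L : X.Modules} (h : Nakai.Pos k L) : PosOne k L :=
  fun Z i _ _ hd => h Z i 1 one_pos hd

theorem posOne_pullback {Y : Scheme.{u}} [Y.Over (Spec (CommRingCat.of k))] [IsProper (Y ↘ Spec (CommRingCat.of k))]
    (j : Y ⟶ X) [IsClosedImmersion j] (hj : j ≫ (X ↘ Spec (CommRingCat.of k)) = Y ↘ Spec (CommRingCat.of k))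
    {L : X.Modules} (hL : PicF.IsInvertible L) (h : PosOne k L) :
    PosOne k ((Scheme.Modules.pullback j).obj L) := by
  intro Z i _ _ hd
  rw [Nakai.D_restrict k j hj i hL hd]
  exact h Z (i ≫ j) hd

/-- A strictly nef module is ample on every integral scheme of dimension at most one. -/
theorem isAmple_of_dim_le_one [IsIntegral X] {L : X.Modules} (hL : PicF.IsInvertible L) (h : PosOne k L)
    (hd : topologicalKrullDim X ≤ 1) : CohB1.IsAmple L := by
  refine Nakai.isAmple_of_pos k hL fun Z i hi hZ d hd0 hZd => ?_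
  obtain rfl : d = 1 := by
    have h1 : topologicalKrullDim Z ≤ 1 :=
      (Topology.IsInducing.topologicalKrullDim_le i.isClosedEmbedding.isEmbedding.isInducing).trans hd
    rw [hZd] at h1
    have : d ≤ 1 := by exact_mod_cast h1
    omega
  exact h Z i hZd

/-- **Strictly nef and semiample modules are ample.** -/
theorem isAmple_of_semiample {L : X.Modules} (hL : PicF.IsInvertible L) (h : PosOne k L) {m : ℕ} (hm : 0 < m)
    (hgen : Curv2.IsGloballyGenerated (CohB1.tensorPow L m)) : CohB1.IsAmple L := by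
  refine (isAmple_tensorPow_iff hL m hm).2 (Nakai.isAmple_of_gen_curves k (isInvertible_tensorPow hL m) hgen
    fun C hC hC1 => ?_)
  haveI := hC
  letI : C.subscheme.Over (Spec (CommRingCat.of k)) := ⟨C.subschemeι ≫ (X ↘ Spec (CommRingCat.of k))⟩
  haveI : IsProper (C.subscheme ↘ Spec (CommRingCat.of k)) := inferInstanceAs (IsProper (C.subschemeι ≫ _))
  have hP := isInvertible_pullback C.subschemeι hL
  obtain ⟨e⟩ := exists_iso_pullback_tensorPow C.subschemeι hL m
  exact isAmple_of_iso e.symm ((isAmple_tensorPow_iff hP m hm).1 (isAmple_of_dim_le_one k hP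
    (posOne_pullback k C.subschemeι rfl hL h) ((NakaiPos.dim_subscheme C).trans hC1).le))

/-- Strictly nef modules with powers having sections on all integral subschemes are ample. -/
theorem isAmple_of_sections {L : X.Modules} (hL : PicF.IsInvertible L) (h : PosOne k L)
    (heff : ∀ (Z : Scheme.{u}) (i : Z ⟶ X) [IsClosedImmersion i] [IsIntegral Z], ∃ (m : ℕ) (g : Γ(CohB1.tensorPow ((Scheme.Modules.pullback i).obj L) m, ⊤)),
      0 < m ∧ genericPoint Z ∈ gen (CohB1.tensorPow ((Scheme.Modules.pullback i).obj L) m) g) :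
    CohB1.IsAmple L := by
  suffices H : ∀ (d : ℕ) (Z : Scheme.{u}) (i : Z ⟶ X) [IsClosedImmersion i] [IsIntegral Z],
      topologicalKrullDim Z = (d : WithBot ℕ∞) → CohB1.IsAmple ((Scheme.Modules.pullback i).obj L) by
    refine H10Coh.Tw.isAmple_of_integral (X ↘ Spec (CommRingCat.of k)) hL fun Z i hi hZ => ?_
    haveI := hi; haveI := hZ
    letI : Z.Over (Spec (CommRingCat.of k)) := ⟨i ≫ (X ↘ Spec (CommRingCat.of k))⟩
    haveI : IsProper (Z ↘ Spec (CommRingCat.of k)) := inferInstanceAs (IsProper (i ≫ _))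
    obtain ⟨d, hd, -⟩ := VarDim.exists_cdim_trdeg k Z (genericPoint Z)
    exact H d Z i ((VarDim.cdim_genericPoint Z).symm.trans hd)
  intro d
  induction d using Nat.strong_induction_on with
  | _ d ih =>
    intro Z i _ _ hd
    letI : Z.Over (Spec (CommRingCat.of k)) := ⟨i ≫ (X ↘ Spec (CommRingCat.of k))⟩
    haveI : IsProper (Z ↘ Spec (CommRingCat.of k)) := inferInstanceAs (IsProper (i ≫ _))
    haveI := H28Int.isNoetherian k (X := Z)
    let N := (Scheme.Modules.pullback i).obj L
    have hN : PicF.IsInvertible N := isInvertible_pullback i hL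
    have hsub : NakaiGen.RestrAmple N ({genericPoint Z}ᶜ : Set Z) := fun W j hj hW hr => by
      haveI := hj; haveI := hW
      letI : W.Over (Spec (CommRingCat.of k)) := ⟨j ≫ (Z ↘ Spec (CommRingCat.of k))⟩
      haveI : IsProper (W ↘ Spec (CommRingCat.of k)) := inferInstanceAs (IsProper (j ≫ _))
      obtain ⟨e, he, -⟩ := VarDim.exists_cdim_trdeg k W (genericPoint W)
      have he' : topologicalKrullDim W = (e : WithBot ℕ∞) := (VarDim.cdim_genericPoint W).symm.trans he
      have hlt : topologicalKrullDim (Set.range j) < (d : WithBot ℕ∞) :=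
        H28Int.dim_lt_of_notMem (C := Set.univ) (genericPoint_spec Z)
          ((Topology.IsInducing.subtypeVal.topologicalKrullDim_le).trans hd.le) j.isClosedEmbedding.isClosed_range
          (fun _ _ => trivial) (fun hη => hr hη rfl)
      rw [← j.isClosedEmbedding.isEmbedding.toHomeomorph.isHomeomorph.topologicalKrullDim_eq, he'] at hlt
      exact isAmple_of_iso ((Scheme.Modules.pullbackComp j i).app L).symm (ih e (by exact_mod_cast hlt) W (j ≫ i) he')
    obtain ⟨m, g, hm, hg⟩ := heff Z i
    let M := CohB1.tensorPow N m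
    have hM : PicF.IsInvertible M := isInvertible_tensorPow hN m
    have hne : g ≠ 0 := fun h0 => by
      have hb := (mem_gen_iff hM g (genericPoint Z)).1 hg
      subst h0
      have h2 := hb.1 (a₁ := 0) (a₂ := 1) (by simp)
      exact zero_ne_one h2
    obtain ⟨hmono, hη⟩ := H29RR.mono_homOfGlobal hM hne
    haveI := hmono
    have hsubM := NakaiGen.restrAmple_tensorPow hN hsub hm
    obtain ⟨t, ht, hgen⟩ := NakaiGen.exists_globallyGenerated k hM g
      (fun W j hj hW hr => hsubM W j hj hW (hr.trans fun x hx hxη => hη (Set.mem_singleton_iff.1 hxη ▸ hx)))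
    obtain ⟨e⟩ := NakaiGen.nonempty_tensorPow_mul N m t
    refine isAmple_of_semiample k hN (posOne_pullback k i rfl hL h) (Nat.mul_pos hm ht)
      (DimOnePencil.isGloballyGenerated_of_gen (isInvertible_tensorPow hN _) fun x => ?_)
    obtain ⟨v, hv⟩ := exists_mem_gen_of_isGloballyGenerated (isInvertible_tensorPow hM t) hgen x
    exact ⟨e.hom.app ⊤ v, (gen_iso e.hom v).symm ▸ hv⟩

end Groth.Agent.H22Alg.NakaiSemi
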