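import Groth.Agent.H22Alg.GradedFamVan
import Groth.Agent.H11Ample.Restrict
import Groth.Agent.H11Ample.Extend
import Groth.Agent.H10Coh.TwistExact
import Groth.Agent.H29Blow.IdealMod
import Groth.Agent.H11Bertini.Nowhere
import Groth.Agent.H17.KoszSh.AffHom
import Groth.Agent.H17.OmegaLocal
import Groth.Agent.H10Coh.GGFibre

/-!
# The graded family of powers of an ideal whose twist is generated by global sections
-/

set_option autoImplicit false
set_option linter.style.haveILetI false
set_option linter.unusedSectionVars false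
set_option backward.isDefEq.respectTransparency.types false

universe u

open CategoryTheory CategoryTheory.Limits AlgebraicGeometry TopologicalSpace Opposite
open Groth.Agent.H11Ample Groth.Agent.H11Tilde

noncomputable section

namespace Groth.Agent.H22Alg.IdealPowFam

variable {X : Scheme.{u}}

theorem app_smul_inj {M : X.Modules} {V : X.Opens} {e : Γ(M, V)} (he : IsGen M e) {a : Γ(X, V)} (h : a • e = 0) :
    a = 0 :=
  (he.bijective le_rfl).1 (show a • M.presheaf.map (homOfLE le_rfl).op e = (0 : Γ(X, V)) • _ by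
    rw [H10Coh.mres_self, h, zero_smul])

theorem app_zero {M N : X.Modules} (U : X.Opens) (x : Γ(M, U)) : (0 : M ⟶ N).app U x = 0 := rfl

/-- Multiplication of a section by a function in an ideal. -/
def actPairing (J : X.IdealSheafData) (N : X.Modules) : Pairing (ClSub.idealMod J) N N where
  toFun U m n := OmegaSh.idealSect J U m • n
  add_left U m m' n := by rw [map_add, add_smul]
  smul_left U r m n := by rw [H29Blow.idealSect_smul, mul_smul]
  add_right U m n n' := by rw [smul_add]
  smul_right U r m n := by rw [smul_smul, smul_smul, mul_comm]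
  res U V h m n := by rw [Scheme.Modules.map_smul, H29Blow.idealSect_res]

/-- `J ⊗ N ⟶ N`. -/
def mu (J : X.IdealSheafData) (N : X.Modules) : CohB1.tensorMod (ClSub.idealMod J) N ⟶ N :=
  tensorDesc (actPairing J N)

theorem mu_tm (J : X.IdealSheafData) (N : X.Modules) {U : X.Opens} (m : Γ(ClSub.idealMod J, U)) (n : Γ(N, U)) :
    (mu J N).app U (tm m n) = OmegaSh.idealSect J U m • n :=
  tensorDesc_tm (actPairing J N) m n

theorem mu_injective (J : X.IdealSheafData) {N : X.Modules} (hN : PicF.IsInvertible N) (U : X.Opens) :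
    Function.Injective ((mu J N).app U) := by
  refine (injective_iff_map_eq_zero _).2 fun x hx => ?_
  refine eq_of_locally x 0 fun y hy => ?_
  obtain ⟨V, hV, e, m, hyV, he, hm⟩ := H10Coh.Tw.exists_eq_tm hN x hy
  refine ⟨V, hV, hyV, ?_⟩
  rw [hm, map_zero]
  have h0 : OmegaSh.idealSect J V m • e = 0 := by
    rw [← mu_tm, ← hm]
    exact (H11Tilde.app_map_apply (mu J N) hV x).trans ((congrArg _ hx).trans (map_zero _))
  have hm0 : OmegaSh.idealSect J V m = 0 := H22Alg.IdealPowFam.app_smul_inj he h0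
  rw [H29Blow.idealSect_injective J V (hm0.trans (map_zero (OmegaSh.idealSect J V)).symm)]
  have h1 := tm_smul_left (0 : Γ(X, V)) (0 : Γ(ClSub.idealMod J, V)) e
  rw [zero_smul, zero_smul] at h1
  exact h1

instance mono_mu (J : X.IdealSheafData) {N : X.Modules} [hN : Fact (PicF.IsInvertible N)] : Mono (mu J N) :=
  ⟨fun g h w => H17.AffHom.hom_ext fun U x => mu_injective J hN.out U.1 congr(($w).app U.1 x)⟩

variable {L : X.Modules}

/-- Tensoring with a global section. -/
theorem exists_mulSect (s : Γ(L, ⊤)) (n : ℕ) :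
    ∃ φ : CohB1.tensorPow L n ⟶ CohB1.tensorPow L (n + 1), ∀ (U : X.affineOpens) (t : Γ(CohB1.tensorPow L n, U.1)),
      φ.app U.1 t = tm t (L.presheaf.map (homOfLE (le_top : U.1 ≤ ⊤)).op s) :=
  H17.AffHom.exists_hom
    (fun U =>
      { toFun := fun t => tm t (L.presheaf.map (homOfLE (le_top : U.1 ≤ ⊤)).op s)
        map_add' := fun a b => tm_add_left a b _
        map_smul' := fun r a => tm_smul_left r a _ })
    (fun U V h t => by
      show tm _ _ = _
      exact ((tm_res h t _).trans (by rw [H10Coh.mres_mres])).symm)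

/-- Finitely many global sections generate on finitely many affine opens. -/
theorem exists_finite_spanning [IsLocallyNoetherian X] {E : X.Modules} (hE : Coh.IsCoh E)
    (hgg : Curv2.IsGloballyGenerated E) {κ : Type*} [Finite κ] (W : κ → X.affineOpens) :
    ∃ (N : ℕ) (u : Fin N → Γ(E, ⊤)), ∀ k, ∀ z : Γ(E, (W k).1), z ∈ Submodule.span Γ(X, (W k).1)
      (Set.range fun j => E.presheaf.map (homOfLE (le_top : (W k).1 ≤ ⊤)).op (u j)) := by
  classical
  let r : ∀ k, Γ(E, ⊤) → Γ(E, (W k).1) := fun k g => E.presheaf.map (homOfLE (le_top : (W k).1 ≤ ⊤)).op g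
  have key : ∀ k, ∃ S : Finset Γ(E, ⊤), ∀ z : Γ(E, (W k).1), z ∈ Submodule.span Γ(X, (W k).1) (r k '' (S : Set _)) := by
    intro k
    haveI : IsNoetherianRing Γ(X, (W k).1) := IsLocallyNoetherian.component_noetherian (W k)
    haveI : Module.Finite Γ(X, (W k).1) Γ(E, (W k).1) := ((H10Coh.isCoh_iff_finite_sections E).1 hE).2 _ (W k).2
    obtain ⟨t, hts, ht⟩ := (Submodule.fg_span_iff_fg_span_finset_subset (Set.range (r k))).1
      (IsNoetherian.noetherian (Submodule.span Γ(X, (W k).1) (Set.range (r k))))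
    choose pre hpre using fun (a : t) => hts a.2
    refine ⟨Finset.univ.image pre, fun z => ?_⟩
    let v : Fin (Fintype.card t) → Γ(E, (W k).1) := fun i => ((Fintype.equivFin t).symm i).1
    have hv : Set.range v ⊆ r k '' ((Finset.univ.image pre : Finset _) : Set _) := by
      rintro _ ⟨i, rfl⟩
      exact ⟨_, Finset.mem_coe.2 (Finset.mem_image_of_mem pre (Finset.mem_univ _)), hpre _⟩
    refine Submodule.span_mono hv (H11Bertini.mem_span_of_germ hE.1 (W k).2 v z fun y hy => ?_)
    let P := Submodule.span (X.presheaf.stalk y) (Set.range fun i => E.presheaf.germ (W k).1 y hy (v i))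
    have hP : ∀ a ∈ Submodule.span Γ(X, (W k).1) (t : Set Γ(E, (W k).1)), E.presheaf.germ (W k).1 y hy a ∈ P := by
      intro a ha
      induction ha using Submodule.span_induction with
      | mem a ha => exact Submodule.subset_span ⟨Fintype.equivFin t ⟨a, ha⟩, by simp [v]⟩
      | zero => rw [map_zero]; exact P.zero_mem
      | add a b _ _ ha hb => rw [map_add]; exact P.add_mem ha hb
      | smul c a _ ha => rw [H06Mod.germ_smul E (W k).1 hy c a]; exact P.smul_mem _ ha
    have h1 : E.presheaf.germ (W k).1 y hy z ∈ Submodule.span (X.presheaf.stalk y)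
        (Set.range fun g : Γ(E, ⊤) => E.presheaf.germ ⊤ y trivial g) := by
      rw [H10Coh.GGFibre.span_globals E hgg y]; trivial
    refine Submodule.span_le.2 ?_ h1
    rintro _ ⟨g, rfl⟩
    dsimp only
    rw [← TopCat.Presheaf.germ_res_apply E.presheaf (homOfLE (le_top : (W k).1 ≤ ⊤)) y hy g]
    exact hP _ (ht.le (Submodule.subset_span ⟨g, rfl⟩))
  choose S hS using key
  haveI := Fintype.ofFinite κ
  let U := Finset.univ.biUnion S
  refine ⟨U.card, fun j => (U.equivFin.symm j).1, fun k z => Submodule.span_mono ?_ (hS k z)⟩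
  rintro _ ⟨g, hg, rfl⟩
  exact ⟨U.equivFin ⟨g, Finset.mem_biUnion.2 ⟨k, Finset.mem_univ k, hg⟩⟩, by simp [r]⟩

/-- The functions of an ideal on an affine open, as sections of the ideal module. -/
theorem idealSect_mem (J : X.IdealSheafData) {U : X.Opens} (hU : IsAffineOpen U) (m : Γ(ClSub.idealMod J, U)) :
    OmegaSh.idealSect J U m ∈ J.ideal ⟨U, hU⟩ :=
  (H29Blow.mem_ideal_iff_exists_idealSect J hU _).2 ⟨m, rfl⟩

theorem isCoh_idealMod [IsLocallyNoetherian X] (J : X.IdealSheafData) : Coh.IsCoh (ClSub.idealMod J) := by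
  haveI : Mono (ClSub.idealModι J) := inferInstanceAs (Mono (kernel.ι _))
  exact H10Coh.isCoh_of_mono (ClSub.idealModι J) (H17.OmegaLocal.isQuasicoherent_idealMod J)
    (H10Coh.isCoh_structureModule' X)

theorem tm_tm_swap (hL : PicF.IsInvertible L) {M : X.Modules} {U : X.Opens} (t : Γ(M, U)) (a b : Γ(L, U)) :
    tm (tm t a) b = tm (tm t b) a := by
  refine eq_of_locally _ _ fun y hy => ?_
  obtain ⟨V, e, hyV, he⟩ := exists_gen hL y
  refine ⟨U ⊓ V, inf_le_left, ⟨hy, hyV⟩, ?_⟩
  obtain ⟨α, hα⟩ := exists_coeff (he.res inf_le_right)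
    (L.presheaf.map (homOfLE (inf_le_left : U ⊓ V ≤ U)).op a)
  obtain ⟨β, hβ⟩ := exists_coeff (he.res inf_le_right)
    (L.presheaf.map (homOfLE (inf_le_left : U ⊓ V ≤ U)).op b)
  simp only [tm_res, hα, hβ, tm_smul_right, tm_smul_left, smul_smul, mul_comm α β]

/-- Uniform vanishing for the powers of an ideal whose twist by `L` is generated by global sections. -/
theorem exists_uniform_vanishing {A : Type u} [CommRing A] [IsNoetherianRing A]
    (q : X ⟶ Spec (CommRingCat.of A)) [IsProper q] {H : X.Modules} (hH : CohB1.IsAmple H)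
    (I : X.IdealSheafData) (hL : PicF.IsInvertible L)
    (hgg : Curv2.IsGloballyGenerated (CohB1.tensorMod (ClSub.idealMod I) L)) :
    ∃ e₀ : ℕ, ∀ p e : ℕ, e₀ ≤ e → ∀ i, 0 < i → Subsingleton (Coh.HH X
      (CohB1.tensorMod (CohB1.tensorMod (ClSub.idealMod (I ^ p)) (CohB1.tensorPow L p)) (CohB1.tensorPow H e)) i) := by
  classical
  haveI : CompactSpace X := QuasiCompact.compactSpace_of_compactSpace q
  haveI : IsLocallyNoetherian X := LocallyOfFiniteType.isLocallyNoetherian q
  haveI : IsNoetherian X := {}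
  -- an affine cover with generators of `L`
  choose O e hxO he using fun x : X => exists_gen hL x
  choose B hB hxB hBO using fun x : X => exists_isAffineOpen_mem_and_subset (U := O x) (x := x) (hxO x)
  obtain ⟨F₀, hF₀⟩ := isCompact_univ.elim_finite_subcover (fun x : X => (B x : Set X))
    (fun x => (B x).isOpen) fun x _ => Set.mem_iUnion.2 ⟨x, hxB x⟩
  let W : F₀ → X.affineOpens := fun x => ⟨B x.1, hB x.1⟩
  have hW : ∀ y, ∃ k, y ∈ (W k).1 := fun y => by
    obtain ⟨x, hx, hy⟩ := Set.mem_iUnion₂.1 (hF₀ (Set.mem_univ y))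
    exact ⟨⟨x, hx⟩, hy⟩
  -- finitely many sections
  have hI : ∀ J : X.IdealSheafData, Coh.IsCoh (ClSub.idealMod J) := isCoh_idealMod
  obtain ⟨N, u, hu⟩ := exists_finite_spanning (H11Ample.isCoh_tensor (hI I) hL) hgg W
  let σ : Fin N → Γ(L, ⊤) := fun j => (mu I L).app ⊤ (u j)
  have hσ : ∀ (U : X.Opens) j, L.presheaf.map (homOfLE (le_top : U ≤ ⊤)).op (σ j) =
      (mu I L).app U ((CohB1.tensorMod (ClSub.idealMod I) L).presheaf.map (homOfLE (le_top : U ≤ ⊤)).op (u j)) :=
    fun U j => (H11Tilde.app_map_apply (mu I L) (le_top : U ≤ ⊤) (u j)).symm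
  choose mul hmul using fun (j : Fin N) (n : ℕ) => exists_mulSect (σ j) n
  -- the members
  haveI hfact : ∀ p, Fact (PicF.IsInvertible (CohB1.tensorPow L p)) := fun p => ⟨H11Ample.isInvertible_tensorPow hL p⟩
  let ι : ∀ p, CohB1.tensorMod (ClSub.idealMod (I ^ p)) (CohB1.tensorPow L p) ⟶ CohB1.tensorPow L p :=
    fun p => mu (I ^ p) (CohB1.tensorPow L p)
  haveI : ∀ p, Mono (ι p) := fun p => mono_mu (I ^ p)
  have hideal : ∀ (p : ℕ) (U : X.affineOpens), (I ^ (p + 1)).ideal U = (I ^ p).ideal U * I.ideal U := fun p U => by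
    rw [pow_succ, Scheme.IdealSheafData.ideal_mul]
    rfl
  have cond : ∀ j p, (ι p ≫ mul j p) ≫ cokernel.π (ι (p + 1)) = 0 := by
    intro j p
    refine H17.AffHom.hom_ext fun U x => ?_
    rw [app_zero]
    refine eq_of_locally _ 0 fun y hy => ?_
    obtain ⟨V₁, hV₁, E, m, hyV₁, hE, hm⟩ := H10Coh.Tw.exists_eq_tm (hfact p).out x hy
    obtain ⟨V, hV, hyV, hle⟩ := exists_isAffineOpen_mem_and_subset (U := V₁ ⊓ O y) (x := y) ⟨hyV₁, hxO y⟩
    have hVV : V ≤ V₁ := fun z hz => (hle hz).1
    have hVO : V ≤ O y := fun z hz => (hle hz).2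
    refine ⟨V, hVV.trans hV₁, hyV, ?_⟩
    rw [map_zero, ← H11Tilde.app_map_apply]
    have hx' : (CohB1.tensorMod (ClSub.idealMod (I ^ p)) (CohB1.tensorPow L p)).presheaf.map
        (homOfLE (hVV.trans hV₁)).op x =
        tm ((ClSub.idealMod (I ^ p)).presheaf.map (homOfLE hVV).op m) ((CohB1.tensorPow L p).presheaf.map (homOfLE hVV).op E) := by
      rw [← tm_res, ← hm, H10Coh.mres_mres]
    rw [hx']
    generalize (ClSub.idealMod (I ^ p)).presheaf.map (homOfLE hVV).op m = m₀
    generalize (CohB1.tensorPow L p).presheaf.map (homOfLE hVV).op E = E₀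
    obtain ⟨g, hg⟩ := (bijective_tm (F := ClSub.idealMod I) (he y) hVO).2
      ((CohB1.tensorMod (ClSub.idealMod I) L).presheaf.map (homOfLE (le_top : V ≤ ⊤)).op (u j))
    obtain ⟨m', hm'⟩ := (H29Blow.mem_ideal_iff_exists_idealSect (I ^ (p + 1)) hV
      (OmegaSh.idealSect (I ^ p) V m₀ * OmegaSh.idealSect I V g)).1
      (by rw [hideal]; exact Ideal.mul_mem_mul (idealSect_mem _ hV m₀) (idealSect_mem _ hV g))
    show (cokernel.π (ι (p + 1))).app V ((mul j p).app V ((ι p).app V (tm m₀ E₀))) = 0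
    rw [mu_tm, hmul j p ⟨V, hV⟩, hσ, ← hg]
    dsimp only
    rw [mu_tm, tm_smul_left, tm_smul_right, smul_smul, ← hm']
    exact (congrArg _ (mu_tm (I ^ (p + 1)) (CohB1.tensorPow L (p + 1)) m' _).symm).trans
      (congr(($(cokernel.condition (ι (p + 1)))).app V _))
  let F : GradedFam.Fam X N :=
    { M := fun p => CohB1.tensorMod (ClSub.idealMod (I ^ p)) (CohB1.tensorPow L p)
      T := fun j p => Abelian.monoLift (ι (p + 1)) (ι p ≫ mul j p) (cond j p)
      comm := fun i j p => by
        rw [← cancel_mono (ι (p + 1 + 1))]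
        simp only [Category.assoc, Abelian.monoLift_comp, Abelian.monoLift_comp_assoc]
        refine congrArg (ι p ≫ ·) (H17.AffHom.hom_ext fun U t => ?_)
        show (mul j (p + 1)).app U.1 ((mul i p).app U.1 t) = (mul i (p + 1)).app U.1 ((mul j p).app U.1 t)
        rw [hmul, hmul, hmul, hmul]
        exact tm_tm_swap hL t _ _
      coh := fun p => H11Ample.isCoh_tensor (hI _) (hfact p).out }
  have hgen : F.Gen W := by
    refine ⟨0, fun p _ k y => ?_⟩
    let V := (W k).1
    have hV : IsAffineOpen V := (W k).2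
    let ε : Γ(L, V) := L.presheaf.map (homOfLE (hBO k.1)).op (e k.1)
    have hε : IsGen L ε := (he k.1).res (hBO k.1)
    let E₀ := spow ε p
    obtain ⟨m, rfl⟩ := (bijective_tm (F := ClSub.idealMod (I ^ (p + 1))) (isGen_spow hε (p + 1)) (le_refl V)).2 y
    have ha := idealSect_mem (I ^ (p + 1)) hV m
    rw [hideal] at ha
    suffices key : ∃ x : Fin N → Γ(F.M p, V),
        OmegaSh.idealSect (I ^ (p + 1)) V m • spow ε (p + 1) = ∑ j, (ι (p + 1)).app V ((F.T j p).app V (x j)) by
      obtain ⟨x, hx⟩ := key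
      refine ⟨x, mu_injective (I ^ (p + 1)) (hfact (p + 1)).out V ?_⟩
      refine Eq.trans ?_ (map_sum _ _ _).symm
      rw [mu_tm, H10Coh.mres_self]
      exact hx
    generalize OmegaSh.idealSect (I ^ (p + 1)) V m = a at ha
    induction ha using Submodule.mul_induction_on' with
    | mem_mul_mem a₀ ha₀ g hg =>
      obtain ⟨mg, rfl⟩ := (H29Blow.mem_ideal_iff_exists_idealSect I hV g).1 hg
      obtain ⟨c, hc⟩ := (Submodule.mem_span_range_iff_exists_fun _).1 (hu k (tm mg ε))
      choose mj hmj using fun j => (H29Blow.mem_ideal_iff_exists_idealSect (I ^ p) hV (c j * a₀)).1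
        (Ideal.mul_mem_left _ _ ha₀)
      refine ⟨fun j => tm (mj j) E₀, ?_⟩
      have hT : ∀ j, (ι (p + 1)).app V ((F.T j p).app V (tm (mj j) E₀)) =
          (c j * a₀) • tm E₀ (L.presheaf.map (homOfLE (le_top : V ≤ ⊤)).op (σ j)) := fun j => by
        refine (congr(($(Abelian.monoLift_comp (ι (p + 1)) (ι p ≫ mul j p) (cond j p))).app V (tm (mj j) E₀))).trans ?_
        show (mul j p).app V ((ι p).app V (tm (mj j) E₀)) = _
        rw [mu_tm, hmul j p (W k), tm_smul_left, hmj]
      simp only [hT]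
      have hgε : OmegaSh.idealSect I V mg • ε = ∑ j, c j • L.presheaf.map (homOfLE (le_top : V ≤ ⊤)).op (σ j) := by
        rw [← mu_tm, ← hc]
        refine (map_sum _ _ _).trans (Finset.sum_congr rfl fun j _ => ?_)
        rw [Scheme.Modules.Hom.app_smul, hσ]
      show (a₀ * OmegaSh.idealSect I V mg) • tm (spow ε p) ε = _
      rw [mul_smul, ← tm_smul_right, hgε]
      have hsum : tm (spow ε p) (∑ j, c j • L.presheaf.map (homOfLE (le_top : V ≤ ⊤)).op (σ j)) =
          ∑ j, tm (spow ε p) (c j • L.presheaf.map (homOfLE (le_top : V ≤ ⊤)).op (σ j)) :=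
        map_sum (AddMonoidHom.mk' (fun n => tm (spow ε p) n) (tm_add_right _)) _ _
      rw [hsum, Finset.smul_sum]
      exact Finset.sum_congr rfl fun j _ => by rw [tm_smul_right, smul_smul, mul_comm a₀]
    | add a _ b _ iha ihb =>
      obtain ⟨x, hx⟩ := iha
      obtain ⟨x', hx'⟩ := ihb
      refine ⟨x + x', ?_⟩
      rw [add_smul, hx, hx', ← Finset.sum_add_distrib]
      exact Finset.sum_congr rfl fun j _ => by rw [Pi.add_apply, map_add, map_add]
  obtain ⟨e₀, h⟩ := GradedFam.exists_vanishing W q hW hH N F hgen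
  exact ⟨e₀, fun p e he' i hi => h p e he' i hi⟩

end Groth.Agent.H22Alg.IdealPowFam
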