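import Groth.Agent.H22Alg.HilbertFlat
import Groth.Agent.H7Flat.GenericFlatStrat

/-! # Only finitely many Hilbert polynomials occur in a family over a quasi-compact base. -/

set_option autoImplicit false
set_option linter.style.haveILetI false
set_option linter.unusedSectionVars false

universe u

open CategoryTheory CategoryTheory.Limits AlgebraicGeometry Opposite TopologicalSpace

noncomputable section

namespace Groth.Agent.H22Alg.HilbertFlat

open Groth.Agent.H10Coh Groth.Agent.H11Ample
open Groth.Agent.H25Theta (pb pT pC pI tI pO)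

theorem isFP_tensorPow {X : Scheme.{u}} {F L : X.Modules} (hF : CohB1.IsFP F) (hL : PicF.IsInvertible L) (n : ℕ) :
    CohB1.IsFP (CohB1.tensorMod F (CohB1.tensorPow L n)) :=
  SnapperConst.isFP_tensor hF (isInvertible_tensorPow hL n)

/-- Hilbert functions of fibres are unchanged by base change. -/
theorem fibEuler_twist_baseChange {X S X' S' : Scheme.{u}} {f : X ⟶ S} {g : S' ⟶ S} {g' : X' ⟶ X} {f' : X' ⟶ S'}
    (h : IsPullback g' f' f g) [IsProper f] {L : X.Modules} (hL : PicF.IsInvertible L) {F : X.Modules}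
    (hF : CohB1.IsFP F) (n : ℕ) (s' : S') :
    fibEuler f' (CohB1.tensorMod (pb g' F) (CohB1.tensorPow (pb g' L) n)) s' =
      fibEuler f (CohB1.tensorMod F (CohB1.tensorPow L n)) (g s') := by
  obtain ⟨e⟩ := exists_iso_pullback_tensorPow g' hL n
  letI : (f'.fiber s').Over (Spec (CommRingCat.of (S'.residueField s'))) := ⟨f'.fiberToSpecResidueField s'⟩
  rw [← fibEuler_baseChange h (H17.ConsProp.isCoh_of_isFP (isFP_tensorPow hF hL n)) s']
  exact H25Euler.euler_congr ((Scheme.Modules.pullback _).mapIso (tI (Iso.refl _) e.symm ≪≫ (pT _ _ _).symm))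

/-- The Hilbert function of the fibre. -/
abbrev hilb {X S : Scheme.{u}} (f : X ⟶ S) (L F : X.Modules) (s : S) : ℕ → ℤ :=
  fun n => fibEuler f (CohB1.tensorMod F (CohB1.tensorPow L n)) s

/-- On a flat stratum the Hilbert functions are locally constant. -/
theorem isLocallyConstant_hilb_of_flat {X S : Scheme.{u}} (f : X ⟶ S) [IsProper f]
    [LocallyOfFinitePresentation f] {L : X.Modules} (hL : PicF.IsInvertible L) {F : X.Modules}
    (hF : CohB1.IsFP F) {T : Scheme.{u}} (g : T ⟶ S)
    (hfl : FlatMod.IsFlatOver (pullback.snd f g) (pb (pullback.fst f g) F)) :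
    IsLocallyConstant fun t : T => hilb f L F (g t) := by
  refine (IsLocallyConstant.iff_exists_open _).2 fun t => ?_
  obtain ⟨U, htU, hU⟩ := SnapperConst.exists_nhd_euler_eq (pullback.snd f g) (pb (pullback.fst f g) F)
    (H06EGA9.isFP_pullback _ hF) hfl 1 (fun _ => pb (pullback.fst f g) L)
    (fun _ => isInvertible_pullback _ hL) t
  refine ⟨U, U.2, htU, fun t' ht' => funext fun n => ?_⟩
  have := hU t' ht' fun _ => n
  show fibEuler _ _ (g t') = fibEuler _ _ (g t)
  rw [← fibEuler_twist_baseChange (IsPullback.of_hasPullback f g) hL hF n t',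
    ← fibEuler_twist_baseChange (IsPullback.of_hasPullback f g) hL hF n t]
  exact this

/-- The strata cover. -/
theorem exists_stratum {α : Type*} {t : ℕ} (Z : Fin (t + 1) → Set α) (s : α) (h0 : s ∈ Z 0)
    (hlast : s ∉ Z (Fin.last t)) : ∃ i : Fin t, s ∈ Z i.castSucc ∧ s ∉ Z i.succ := by
  by_contra h
  exact hlast (Fin.induction h0 (fun i hi => by_contra fun hn => h ⟨i, hi, hn⟩) (Fin.last t))

/-- A finite cover of an affine base by quasi-compact flat strata. -/
theorem exists_flat_strata {X S : Scheme.{u}} (f : X ⟶ S) [IsProper f]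
    [LocallyOfFinitePresentation f] [CompactSpace S] [QuasiSeparatedSpace S] [IsAffine S] (F : X.Modules)
    (hF : CohB1.IsFP F) :
    ∃ (t : ℕ) (T : Fin t → Scheme.{u}) (g : ∀ i, T i ⟶ S), (∀ i, CompactSpace (T i)) ∧
      (∀ i, QuasiCompact (g i)) ∧ (∀ i, LocallyOfFiniteType (g i)) ∧
      (∀ i, FlatMod.IsFlatOver (pullback.snd f (g i)) (pb (pullback.fst f (g i)) F)) ∧
      ∀ s : S, ∃ i, s ∈ Set.range (g i) := by
  obtain ⟨t, I, -, hlast, h0, hfg, hfl⟩ := H7Flat.exists_flat_stratification f F (H29Fitt.isQCoh_of_isFP F hF) hF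
  let W : Fin t → S.Opens := fun i => (I i.succ).support.compl
  have hW : ∀ i, IsCompact (W i : Set S) := fun i => by
    obtain ⟨G, hG⟩ := hfg i.succ ⟨⊤, isAffineOpen_top S⟩
    have : (W i : Set S) = ⋃ a ∈ G, (S.basicOpen a : Set S) := by
      ext s
      show s ∉ (I i.succ).support ↔ _
      rw [(I i.succ).mem_support_iff_of_mem (U := ⟨⊤, isAffineOpen_top S⟩) trivial, ← hG,
        Scheme.zeroLocus_span, Scheme.mem_zeroLocus_iff]
      simp
    rw [this]
    exact G.finite_toSet.isCompact_biUnion fun a _ => ((isAffineOpen_top S).basicOpen a).isCompact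
  have hTc : ∀ i : Fin t, CompactSpace ((I i.castSucc).subschemeι ⁻¹ᵁ W i).toScheme := fun i =>
    isCompact_iff_compactSpace.mp
      ((I i.castSucc).subschemeι.isClosedEmbedding.isProperMap.isCompact_preimage (hW i))
  refine ⟨t, fun i => ((I i.castSucc).subschemeι ⁻¹ᵁ W i).toScheme,
    fun i => ((I i.castSucc).subschemeι ⁻¹ᵁ W i).ι ≫ (I i.castSucc).subschemeι, hTc,
    fun i => by haveI := hTc i; exact HasAffineProperty.iff_of_isAffine.2 ‹_›, fun i => inferInstance, hfl, fun s => ?_⟩
  obtain ⟨i, hi, hi'⟩ := exists_stratum (fun i => ((I i).support : Set S)) s (by rw [h0]; trivial)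
    (by rw [hlast]; simp)
  obtain ⟨z, hz⟩ : s ∈ Set.range (I i.castSucc).subschemeι := by rw [(I i.castSucc).range_subschemeι]; exact hi
  exact ⟨i, ⟨z, show (I i.castSucc).subschemeι z ∈ W i by rw [hz]; exact hi'⟩, hz⟩

/-- Only finitely many Hilbert functions occur over a quasi-compact base. -/
theorem finite_range_hilb {X S : Scheme.{u}} [CompactSpace S] (f : X ⟶ S) [IsProper f]
    [LocallyOfFinitePresentation f] {L : X.Modules} (hL : PicF.IsInvertible L) {F : X.Modules}
    (hF : CohB1.IsFP F) : (Set.range (hilb f L F)).Finite := by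
  have hloc : ∀ (V : S.Opens), IsAffineOpen V → (hilb f L F '' (V : Set S)).Finite := fun V hV => by
    haveI : IsAffine V.toScheme := hV
    obtain ⟨t, T, g, hT, -, -, hfl, hcov⟩ := exists_flat_strata (pullback.snd f V.ι) (pb (pullback.fst f V.ι) F)
      (H06EGA9.isFP_pullback _ hF)
    refine Set.Finite.subset (s := ⋃ i : Fin t, Set.range fun y : T i =>
      hilb (pullback.snd f V.ι) (pb (pullback.fst f V.ι) L) (pb (pullback.fst f V.ι) F) (g i y)) (Set.finite_iUnion fun i => ?_) ?_
    · haveI := hT i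
      exact (isLocallyConstant_hilb_of_flat _ (isInvertible_pullback _ hL) (H06EGA9.isFP_pullback _ hF) (g i)
        (hfl i)).range_finite
    · rintro _ ⟨s, hs, rfl⟩
      obtain ⟨i, y, hy⟩ := hcov ⟨s, hs⟩
      exact Set.mem_iUnion.2 ⟨i, y, funext fun n => (fibEuler_twist_baseChange
        (IsPullback.of_hasPullback f V.ι) hL hF n _).trans (by rw [hy]; rfl)⟩
  obtain ⟨us, hus⟩ := isCompact_univ.elim_finite_subcover (fun U : S.affineOpens => (U.1 : Set S))
    (fun U => U.1.2) (fun x _ => by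
      obtain ⟨V, hV, hx, -⟩ := exists_isAffineOpen_mem_and_subset (U := (⊤ : S.Opens)) (x := x) trivial
      exact Set.mem_iUnion.mpr ⟨⟨V, hV⟩, hx⟩)
  refine (us.finite_toSet.biUnion fun U _ => hloc U.1 U.2).subset ?_
  rintro _ ⟨s, rfl⟩
  obtain ⟨U, hU, hsU⟩ := Set.mem_iUnion₂.1 (hus (Set.mem_univ s))
  exact Set.mem_biUnion (Finset.mem_coe.2 hU) ⟨s, hsU, rfl⟩

end Groth.Agent.H22Alg.HilbertFlat
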