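import Groth.Agent.H22Alg.KPushCl
import Groth.Agent.H10Coh.ProjFormulaFLF
import Groth.Agent.H10Coh.TensorTilde

/-! # Euler sums under exact functors; two out of three; projection formula for closed immersions. -/

set_option autoImplicit false
set_option linter.style.haveILetI false

universe v u w

open CategoryTheory CategoryTheory.Limits AlgebraicGeometry ZeroObject
attribute [local instance] HasDerivedCategory.standard

noncomputable section

namespace Groth.Agent.H22Alg.KClOps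

open ResEuler KLFRes

section Map

variable {X : Scheme.{u}} {G G' : Type w} [AddCommGroup G] [AddCommGroup G'] {c : X.Modules → G} {c' : X.Modules → G'}

/-- Euler sums and exact endofunctors preserving bundles. -/
theorem val_map (T : X.Modules ⥤ X.Modules) [T.PreservesZeroMorphisms]
    (hT : ∀ S : ShortComplex X.Modules, S.ShortExact → (S.map T).ShortExact)
    (hTA : ∀ M, Coh.IsCoh M → Coh.IsCoh (T.obj M))
    (hTP : ∀ M, FlatMod.IsFinLocFree M → FlatMod.IsFinLocFree (T.obj M))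
    (μ : G →+ G') (hμ : ∀ E, FlatMod.IsFinLocFree E → c' (T.obj E) = μ (c E))
    (h' : Ctx (vb X) (coh X) c') : ∀ (n : ℕ) (M : X.Modules) (a : G),
    Val (vb X) (coh X) c n M a → Val (vb X) (coh X) c' n (T.obj M) (μ a)
  | 0, M, a, hv => ⟨hTA M hv.1, hTP M hv.2.1, by rw [hv.2.2, hμ M hv.2.1]⟩
  | n + 1, M, a, hv => by
    obtain ⟨hA, E, g, b, hE, hg, hK, rfl⟩ := hv
    rw [map_sub, ← hμ E hE]
    exact val_of_shortExact h' (S := (ShortComplex.mk (kernel.ι g) g (kernel.condition g)).map T)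
      (hT _ (shortExact_kernel g)) (hTP E hE) (val_map T hT hTA hTP μ hμ h' n (kernel g) b hK) (hTA M hA)

end Map

section Third

variable {X : Scheme.{u}} [IsLocallyNoetherian X] {G : Type w} [AddCommGroup G] {c : X.Modules → G}

/-- The stalk of a short exact sequence. -/
theorem shortExact_stalk {S : ShortComplex X.Modules} (hS : S.ShortExact) (x : X) :
    ∃ T : ShortComplex (ModuleCat (X.presheaf.stalk x)), T.ShortExact ∧
      T.X₁ = ModuleCat.of _ (S.X₁.presheaf.stalk x) ∧ T.X₂ = ModuleCat.of _ (S.X₂.presheaf.stalk x) ∧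
      T.X₃ = ModuleCat.of _ (S.X₃.presheaf.stalk x) :=
  ⟨ShortComplex.mk (ModuleCat.ofHom (H06Mod.stalkLin S.f x)) (ModuleCat.ofHom (H06Mod.stalkLin S.g x))
      (ModuleCat.hom_ext (LinearMap.ext fun z => ((H06Mod.stalk_exact S hS x) _).2 ⟨z, rfl⟩)),
    { exact := (ShortComplex.ShortExact.moduleCat_exact_iff_function_exact _).2 (H06Mod.stalk_exact S hS x)
      mono_f := (ModuleCat.mono_iff_injective _).2 (H06Mod.stalk_injective S hS x)
      epi_g := (ModuleCat.epi_iff_surjective _).2 (H06Mod.stalk_surjective S hS x) }, rfl, rfl, rfl⟩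

theorem pd_vb {E : X.Modules} (hE : FlatMod.IsFinLocFree E) (x : X) :
    HasProjectiveDimensionLE (ModuleCat.of (X.presheaf.stalk x) (E.presheaf.stalk x)) 0 := by
  haveI := H8Props.FinLocFree.free_stalk _ hE x
  haveI : Module.Projective (X.presheaf.stalk x) (E.presheaf.stalk x) := inferInstance
  exact (projective_iff_hasProjectiveDimensionLE_zero _).1 ((IsProjective.iff_projective _).1 ‹_›)

theorem pd_of_val : ∀ (n : ℕ) (M : X.Modules) (a : G), Val (vb X) (coh X) c n M a → ∀ x : X,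
    HasProjectiveDimensionLE (ModuleCat.of (X.presheaf.stalk x) (M.presheaf.stalk x)) n
  | 0, M, _, hv, x => pd_vb hv.2.1 x
  | n + 1, M, _, hv, x => by
    obtain ⟨hA, E, g, b, hE, hg, hK, -⟩ := hv
    obtain ⟨T, hT, h₁, h₂, h₃⟩ := shortExact_stalk (shortExact_kernel g) x
    haveI := pd_vb hE x
    have e1 : HasProjectiveDimensionLT T.X₁ (n + 1) := h₁ ▸ pd_of_val n (kernel g) b hK x
    have e2 : HasProjectiveDimensionLT T.X₂ (n + 1 + 1) := h₂ ▸ hasProjectiveDimensionLT_of_ge _ 1 _ (by omega)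
    exact h₃ ▸ hT.hasProjectiveDimensionLT_X₃ (n + 1) e1 e2

variable [CompactSpace X]

/-- Two out of three. -/
theorem val_third (hX : KRR.HasEnoughLocFree X) (h : Ctx (vb X) (coh X) c) {S : ShortComplex X.Modules}
    (hS : S.ShortExact) (h₃ : Coh.IsCoh S.X₃) {n₁ n₂ : ℕ} {a b : G} (h₁ : Val (vb X) (coh X) c n₁ S.X₁ a)
    (h₂ : Val (vb X) (coh X) c n₂ S.X₂ b) : ∃ n, Val (vb X) (coh X) c n S.X₃ (b - a) := by
  obtain ⟨n₃, d, hd⟩ := exists_val_of_pd hX S.X₃ h h₃ fun x => by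
    obtain ⟨T, hT, e₁, e₂, e₃⟩ := shortExact_stalk hS x
    have p₁ := pd_of_val _ _ _ (val_mono h (le_max_left n₁ n₂) h₁) x
    haveI := pd_of_val _ _ _ (val_mono h (le_max_right n₁ n₂) h₂) x
    have q₂ : HasProjectiveDimensionLT (ModuleCat.of (X.presheaf.stalk x) (S.X₂.presheaf.stalk x))
        (max n₁ n₂ + 1 + 1) := hasProjectiveDimensionLT_of_ge _ (max n₁ n₂ + 1) _ (by omega)
    exact ⟨max n₁ n₂ + 1, e₃ ▸ hT.hasProjectiveDimensionLT_X₃ (max n₁ n₂ + 1) (e₁ ▸ p₁) (e₂ ▸ q₂)⟩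
  let N := max n₁ (max n₂ n₃)
  have h1 := val_mono h (le_max_left n₁ (max n₂ n₃)) h₁
  have h2 := val_mono h ((le_max_left n₂ n₃).trans (le_max_right n₁ _)) h₂
  have h3 := val_mono h ((le_max_right n₂ n₃).trans (le_max_right n₁ _)) hd
  refine ⟨n₃, ?_⟩
  rwa [show b - a = d by rw [val_add h _ S hS _ _ _ h1 h2 h3]; abel]

end Third

section Tensor

variable {X Y : Scheme.{u}} (f : X ⟶ Y) [IsNoetherian X] [IsNoetherian Y]

theorem TR_data {E : Y.Modules} (hE : FlatMod.IsFinLocFree E) :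
    (∀ S : ShortComplex Y.Modules, S.ShortExact → (S.map (H10Coh.PF.TR E)).ShortExact) ∧
      (∀ M, Coh.IsCoh M → Coh.IsCoh ((H10Coh.PF.TR E).obj M)) ∧
      ∀ M, FlatMod.IsFinLocFree M → FlatMod.IsFinLocFree ((H10Coh.PF.TR E).obj M) :=
  ⟨fun _ hS => H10Coh.PF.shortExact_TR (H16Derived.KFlat.Stalk.isFlat_of_isFinLocFree hE) hS,
    fun _ hM => H10Coh.TT.isCoh_tensorMod hM (H16Derived.KFlat.Stalk.isCoh_of_isFinLocFree hE),
    fun _ hM => H16Derived.KFlat.Stalk.isFinLocFree_tensor hM hE⟩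

end Tensor

section Comp

variable {Y Z : Scheme.{u}} (g : Y ⟶ Z) [IsNoetherian Y] [IsNoetherian Z]

/-- Push-forward of Euler sums along a regular closed immersion. -/
theorem val_push (hZe : KRR.HasEnoughLocFree Z) (hg : Mor2.IsRegularClosedImmersion g)
    (b : SGA6.Kvb Y →+ SGA6.Kvb Z)
    (hb : ∀ F : Y.Modules, FlatMod.IsFinLocFree F → ∀ n a,
      Val (vb Z) (coh Z) (KRR.cl Z) n ((Scheme.Modules.pushforward g).obj F) a → b (KRR.cl Y F) = a) :
    ∀ (n : ℕ) (M : Y.Modules) (a : SGA6.Kvb Y), Val (vb Y) (coh Y) (KRR.cl Y) n M a →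
      ∃ m, Val (vb Z) (coh Z) (KRR.cl Z) m ((Scheme.Modules.pushforward g).obj M) (b a)
  | 0, M, a, hv => by
    obtain ⟨m, a', ha'⟩ := KPushCl.exists_val_push g hZe hg hv.2.1
    refine ⟨m, ?_⟩
    rwa [hv.2.2, hb M hv.2.1 m a' ha']
  | n + 1, M, a, hv => by
    obtain ⟨hA, E, p, c, hE, hp, hK, rfl⟩ := hv
    haveI := hg.1
    obtain ⟨m₁, h1⟩ := val_push hZe hg b hb n (kernel p) c hK
    obtain ⟨m₂, a₂, h2⟩ := KPushCl.exists_val_push g hZe hg hE
    obtain ⟨m, hm⟩ := val_third hZe (ctxK hZe) (S := (ShortComplex.mk (kernel.ι p) p (kernel.condition p)).map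
      (Scheme.Modules.pushforward g)) (KPushCl.shortExact_push g (shortExact_kernel p))
      (H24FSch.isCoh_pushforward_of_isClosedImmersion g hA) h1 h2
    refine ⟨m, ?_⟩
    rw [map_sub, hb E hE m₂ a₂ h2]
    exact hm

end Comp

section Push

variable {X Y : Scheme.{u}} [IsNoetherian X] [IsNoetherian Y] {KX : Type v} {KY : Type v} [CommRing KX] [CommRing KY]
  {φX : SGA6.Kvb X →+ KX} {φY : SGA6.Kvb Y →+ KY}

theorem ctxφ (hY : KRR.HasEnoughLocFree Y) (φ : SGA6.Kvb Y →+ KY) :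
    Ctx (vb Y) (coh Y) (fun M => φ (KRR.cl Y M)) :=
  ctx hY _ fun _ hS h₁ h₂ h₃ => (congrArg φ (KModel.cl_add hS h₁ h₂ h₃)).trans (map_add φ _ _)

/-- The push-forward is the Euler sum of any resolution. -/
theorem pushCl_val {f : X ⟶ Y} [IsClosedImmersion f] (hY : KRR.HasEnoughLocFree Y) {g : KX →+ KY}
    (hg : KRR.IsPushCl f φX φY g) {F : X.Modules} (hF : FlatMod.IsFinLocFree F) {n : ℕ} {a : KY}
    (ha : Val (vb Y) (coh Y) (fun M => φY (KRR.cl Y M)) n ((Scheme.Modules.pushforward f).obj F) a) :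
    g (φX (KRR.cl X F)) = a := by
  obtain ⟨m, L, π, hL⟩ := hasLFRes_of_val ha
  rw [hg F hF m L π hL]
  exact val_unique' (ctxφ hY φY) (val_of_isLFRes (ctxφ hY φY) hL (KPushCl.isCoh_push f hF)) ha

end Push

end Groth.Agent.H22Alg.KClOps
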