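import Mathlib
import Groth.Agent.H13Grpd.InvariantAffine

/-!
Images of points of an affine integral scheme with isomorphic local rings lie in an affine open.
-/

set_option autoImplicit false
set_option linter.style.haveILetI false

universe u

open CategoryTheory AlgebraicGeometry TopologicalSpace

namespace Groth.Agent.H22Alg.AffineImage

/-- Clearing a radical membership at one prime. -/
theorem exists_mul_pow_mem {R : Type u} [CommRing R] (I p : Ideal R) [p.IsPrime] (x : R)
    (h : ∀ q : Ideal R, q.IsPrime → q ≤ p → I ≤ q → x ∈ q) : ∃ w ∉ p, ∃ n : ℕ, w * x ^ n ∈ I := by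
  by_contra! hcon
  have hdisj : Disjoint (I : Set R) ↑(p.primeCompl ⊔ Submonoid.powers x) := by
    rw [Set.disjoint_left]
    intro y hy hy'
    obtain ⟨w, hw, _, ⟨n, rfl⟩, rfl⟩ := Submonoid.mem_sup.mp hy'
    exact hcon w hw n hy
  obtain ⟨q, hq, hIq, hqd⟩ := Ideal.exists_le_prime_disjoint I _ hdisj
  refine Set.disjoint_left.mp hqd (h q hq (fun y hy => ?_) hIq) ?_
  · by_contra hyp
    exact Set.disjoint_left.mp hqd hy (Submonoid.mem_sup_left hyp)
  · exact Submonoid.mem_sup_right (Submonoid.mem_powers x)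

variable {T X : Scheme.{u}} (f : T ⟶ X) [IsIntegral T]

/-- A function on `T` extends near `f t`, without zeros-free points outside `U`. -/
theorem exists_local_ext (c : Γ(T, ⊤)) {U : X.Opens} (hcU : T.basicOpen c ≤ f ⁻¹ᵁ U) (t : T)
    [IsIso (f.stalkMap t)] {O : X.Opens} (hxO : f t ∈ O) :
    ∃ N : X.Opens, IsAffineOpen N ∧ f t ∈ N ∧ N ≤ O ∧ ∃ σ : Γ(X, N),
      f.app N σ = T.presheaf.map (homOfLE le_top).op c ∧ X.basicOpen σ ≤ U := by
  obtain ⟨M, hxM, s, hs⟩ := X.presheaf.germ_exist (x := f t) ((inv (f.stalkMap t)) (T.presheaf.germ ⊤ t trivial c))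
  obtain ⟨_, ⟨V, hV, rfl⟩, hxV, hVle⟩ :=
    X.isBasis_affineOpens.exists_subset_of_mem_open (a := f t) (u := ((M : X.Opens) : Set X) ∩ O)
      ⟨hxM, hxO⟩ (M.isOpen.inter O.isOpen)
  have hVM : V ≤ M := fun z hz => (hVle hz).1
  have hVO : V ≤ O := fun z hz => (hVle hz).2
  let σ₀ : Γ(X, V) := X.presheaf.map (homOfLE hVM).op s
  have hσ₀ : f.stalkMap t (X.presheaf.germ V (f t) hxV σ₀) = T.presheaf.germ ⊤ t trivial c := by
    rw [show X.presheaf.germ V (f t) hxV σ₀ = X.presheaf.germ M (f t) hxM s from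
      TopCat.Presheaf.germ_res_apply X.presheaf (homOfLE hVM) (f t) hxV s]
    rw [hs]
    exact congr($(IsIso.inv_hom_id (f.stalkMap t)) _)
  have happ : f.app V σ₀ = T.presheaf.map (homOfLE le_top).op c := by
    apply germ_injective_of_isIntegral (X := T) t (show t ∈ f ⁻¹ᵁ V from hxV)
    rw [← Scheme.Hom.germ_stalkMap_apply, hσ₀, TopCat.Presheaf.germ_res_apply]
  -- `σ₀` vanishes at generizations of `f t` outside `U`
  let I := PrimeSpectrum.vanishingIdeal (hV.fromSpec ⁻¹' ((U : Set X)ᶜ))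
  have hI : ∀ q : PrimeSpectrum Γ(X, V), I ≤ q.asIdeal ↔ hV.fromSpec q ∉ U := fun q => by
    have h1 := PrimeSpectrum.zeroLocus_vanishingIdeal_eq_closure (hV.fromSpec ⁻¹' ((U : Set X)ᶜ))
    have h2 : IsClosed (X := PrimeSpectrum Γ(X, V)) (hV.fromSpec ⁻¹' ((U : Set X)ᶜ)) :=
      U.isOpen.isClosed_compl.preimage hV.fromSpec.continuous
    rw [h2.closure_eq] at h1
    exact Set.ext_iff.mp h1 q
  let p := hV.primeIdealOf ⟨f t, hxV⟩
  obtain ⟨w, hw, n, hn⟩ := exists_mul_pow_mem I p.asIdeal σ₀ fun q hq hqp hIq => by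
    let q' : PrimeSpectrum Γ(X, V) := ⟨q, hq⟩
    have hsp : hV.fromSpec q' ⤳ f t := by
      have h1 : q' ⤳ p := (PrimeSpectrum.le_iff_specializes q' p).mp hqp
      have h2 := h1.map hV.fromSpec.continuous
      rwa [hV.fromSpec_primeIdealOf] at h2
    obtain ⟨y, hy⟩ : hV.fromSpec q' ∈ Set.range (X.fromSpecStalk (f t)) := by
      rw [Scheme.range_fromSpecStalk]; exact hsp
    obtain ⟨y', rfl⟩ := (Spec.map (f.stalkMap t)).homeomorph.surjective y
    have hfw : f (T.fromSpecStalk t y') = hV.fromSpec q' := by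
      rw [← hy, ← Scheme.Hom.comp_apply, ← Scheme.SpecMap_stalkMap_fromSpecStalk]
      rfl
    by_contra hq'
    have hmem : hV.fromSpec q' ∈ X.basicOpen σ₀ := by
      have h1 : q' ∈ hV.fromSpec ⁻¹ᵁ X.basicOpen σ₀ := by rw [hV.fromSpec_preimage_basicOpen]; exact hq'
      exact h1
    rw [← hfw] at hmem
    have hw1 : T.fromSpecStalk t y' ∈ T.basicOpen (f.app V σ₀) := by
      rw [← Scheme.preimage_basicOpen]; exact hmem
    rw [happ, Scheme.basicOpen_res] at hw1
    have h2 := hcU hw1.2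
    rw [Scheme.Hom.mem_preimage, hfw] at h2
    exact (hI q').mp hIq h2
  let N := X.basicOpen w
  have hxN : f t ∈ N := by
    have h1 : p ∈ hV.fromSpec ⁻¹ᵁ X.basicOpen w := by rw [hV.fromSpec_preimage_basicOpen]; exact hw
    have h2 : hV.fromSpec p ∈ X.basicOpen w := h1
    rwa [hV.fromSpec_primeIdealOf] at h2
  refine ⟨N, hV.basicOpen w, hxN, (X.basicOpen_le w).trans hVO, X.presheaf.map (homOfLE (X.basicOpen_le w)).op σ₀, ?_, ?_⟩
  · have h1 := congr($(f.naturality (homOfLE (X.basicOpen_le w : N ≤ V)).op) σ₀)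
    rw [ConcreteCategory.comp_apply, ConcreteCategory.comp_apply, happ] at h1
    rw [h1, ← ConcreteCategory.comp_apply, ← Functor.map_comp]
    rfl
  · rw [Scheme.basicOpen_res]
    rintro z ⟨hzN, hzσ⟩
    obtain ⟨q, rfl⟩ : z ∈ Set.range hV.fromSpec := by rw [hV.range_fromSpec]; exact X.basicOpen_le σ₀ hzσ
    have h1 : q ∈ hV.fromSpec ⁻¹ᵁ X.basicOpen σ₀ := hzσ
    have h2 : q ∈ hV.fromSpec ⁻¹ᵁ X.basicOpen w := hzN
    rw [hV.fromSpec_preimage_basicOpen] at h1 h2
    by_contra hzU
    rcases q.isPrime.mem_or_mem ((hI q).mpr hzU hn) with h | h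
    · exact h2 h
    · exact h1 (q.isPrime.mem_of_pow_mem n h)

variable [IsIntegral X]

theorem app_injective (hη : f (genericPoint T) = genericPoint X) {N : X.Opens} (hN : (N : Set X).Nonempty) :
    Function.Injective (f.app N) := by
  intro a b hab
  have hm : f (genericPoint T) ∈ N :=
    hη ▸ ((genericPoint_spec X).mem_open_set_iff N.isOpen).mpr (by simpa using hN)
  have hF : IsField (X.presheaf.stalk (f (genericPoint T))) := hη ▸ Field.toIsField X.functionField
  refine germ_injective_of_isIntegral (X := X) (f (genericPoint T)) hm ?_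
  have h1 : f.stalkMap (genericPoint T) (X.presheaf.germ N _ hm a) = f.stalkMap (genericPoint T) (X.presheaf.germ N _ hm b) := by
    rw [Scheme.Hom.germ_stalkMap_apply, Scheme.Hom.germ_stalkMap_apply, hab]
  letI := hF.toField
  exact (f.stalkMap (genericPoint T)).hom.injective h1

/-- Two functions extend to a common quasi-compact open containing the images. -/
theorem exists_global_ext (hη : f (genericPoint T) = genericPoint X) (s : Finset T)
    (hs : ∀ t ∈ s, IsIso (f.stalkMap t)) (c c' : Γ(T, ⊤)) {U U' : X.Opens}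
    (hcU : T.basicOpen c ≤ f ⁻¹ᵁ U) (hcU' : T.basicOpen c' ≤ f ⁻¹ᵁ U') :
    ∃ W : X.Opens, IsCompact (W : Set X) ∧ (∀ t ∈ s, f t ∈ W) ∧ ∃ F G : Γ(X, W),
      f.app W F = T.presheaf.map (homOfLE le_top).op c ∧ f.app W G = T.presheaf.map (homOfLE le_top).op c' ∧
      X.basicOpen F ≤ U ∧ X.basicOpen G ≤ U' := by
  have hloc : ∀ t : s, ∃ N : X.Opens, IsAffineOpen N ∧ f t.1 ∈ N ∧ ∃ σ τ : Γ(X, N),
      f.app N σ = T.presheaf.map (homOfLE le_top).op c ∧ f.app N τ = T.presheaf.map (homOfLE le_top).op c' ∧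
      X.basicOpen σ ≤ U ∧ X.basicOpen τ ≤ U' := by
    rintro ⟨t, ht⟩
    haveI := hs t ht
    obtain ⟨N, -, htN, -, σ, hσ, hσU⟩ := exists_local_ext f c hcU t (O := ⊤) trivial
    obtain ⟨N', hN', htN', hle, τ, hτ, hτU⟩ := exists_local_ext f c' hcU' t htN
    refine ⟨N', hN', htN', X.presheaf.map (homOfLE hle).op σ, τ, ?_, hτ, ?_, hτU⟩
    · have h1 := congr($(f.naturality (homOfLE hle).op) σ)
      rw [ConcreteCategory.comp_apply, ConcreteCategory.comp_apply, hσ] at h1
      rw [h1, ← ConcreteCategory.comp_apply, ← Functor.map_comp]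
      rfl
    · rw [Scheme.basicOpen_res]; exact inf_le_right.trans hσU
  choose N hN htN σ τ hσ hτ hσU hτU using hloc
  let W : X.Opens := ⨆ t, N t
  have glue : ∀ (d : Γ(T, ⊤)) (Z : X.Opens) (ρ : ∀ t, Γ(X, N t))
      (_ : ∀ t, f.app (N t) (ρ t) = T.presheaf.map (homOfLE le_top).op d) (_ : ∀ t, X.basicOpen (ρ t) ≤ Z),
      ∃ F : Γ(X, W), f.app W F = T.presheaf.map (homOfLE le_top).op d ∧ X.basicOpen F ≤ Z := by
    intro d Z ρ hρ hρZ
    have hcomp : TopCat.Presheaf.IsCompatible X.presheaf N ρ := by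
      intro t t'
      by_cases hne : ((N t ⊓ N t' : X.Opens) : Set X).Nonempty
      · refine app_injective f hη hne ?_
        simp only [← ConcreteCategory.comp_apply, Scheme.Hom.naturality]
        simp only [ConcreteCategory.comp_apply, hρ]
        simp only [← ConcreteCategory.comp_apply, ← Functor.map_comp]
        rfl
      · have hbot : N t ⊓ N t' = ⊥ := Opens.ext (Set.not_nonempty_iff_eq_empty.mp hne)
        haveI : Subsingleton Γ(X, N t ⊓ N t') := by
          rw [hbot]; exact CommRingCat.subsingleton_of_isTerminal X.sheaf.isTerminalOfEmpty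
        exact Subsingleton.elim _ _
    obtain ⟨F, hF, -⟩ := TopCat.Sheaf.existsUnique_gluing' X.sheaf N W (fun t => homOfLE (le_iSup N t)) le_rfl ρ hcomp
    refine ⟨F, ?_, fun z hz => ?_⟩
    · refine TopCat.Sheaf.eq_of_locally_eq' T.sheaf (fun t => f ⁻¹ᵁ N t) (f ⁻¹ᵁ W)
        (fun t => homOfLE ((Opens.map f.base).monotone (le_iSup N t))) ?_ _ _ fun t => ?_
      · rw [← f.preimage_iSup]
      · have h1 := congr($(f.naturality (homOfLE (le_iSup N t : N t ≤ W)).op) F)
        rw [ConcreteCategory.comp_apply, ConcreteCategory.comp_apply] at h1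
        refine h1.symm.trans ?_
        have h2 : X.presheaf.map (homOfLE (le_iSup N t : N t ≤ W)).op F = ρ t := hF t
        rw [h2, hρ]
        exact congr($(T.presheaf.map_comp (homOfLE le_top).op
          (homOfLE ((Opens.map f.base).monotone (le_iSup N t))).op) d)
    · obtain ⟨t, ht⟩ := Opens.mem_iSup.mp (X.basicOpen_le F hz)
      have h2 : X.presheaf.map (homOfLE (le_iSup N t : N t ≤ W)).op F = ρ t := hF t
      have h3 : z ∈ X.basicOpen (X.presheaf.map (homOfLE (le_iSup N t : N t ≤ W)).op F) := by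
        rw [Scheme.basicOpen_res]; exact ⟨ht, hz⟩
      rw [h2] at h3
      exact hρZ t h3
  obtain ⟨F, hF, hFU⟩ := glue c U σ hσ hσU
  obtain ⟨G, hG, hGU⟩ := glue c' U' τ hτ hτU
  refine ⟨W, ?_, fun t ht => Opens.mem_iSup.mpr ⟨⟨t, ht⟩, htN ⟨t, ht⟩⟩, F, G, hF, hG, hFU, hGU⟩
  rw [Opens.coe_iSup]
  exact isCompact_iUnion fun t => (hN t).isCompact

omit [IsIntegral T] [IsIntegral X] in
/-- A function on an affine open, restricted to `D(F)`, extends to `W` up to powers of `F`. -/
theorem exists_ext_basicOpen [QuasiSeparatedSpace X] {W U : X.Opens} (hW : IsCompact (W : Set X)) (F : Γ(X, W))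
    (hFU : X.basicOpen F ≤ U) (u : Γ(X, U)) (huF : X.basicOpen u ≤ X.basicOpen F) :
    ∃ y : Γ(X, W), X.basicOpen y = X.basicOpen u := by
  obtain ⟨n, y, hy⟩ := exists_eq_pow_mul_of_isCompact_of_isQuasiSeparated X W hW
    ((isQuasiSeparated_univ (α := X)).of_subset (Set.subset_univ _)) F
    (X.presheaf.map (homOfLE hFU).op u)
  refine ⟨y * F, ?_⟩
  dsimp only [TopCat.Presheaf.restrictOpenCommRingCat_apply] at hy
  have h := congrArg X.basicOpen hy
  rw [Scheme.basicOpen_mul, Scheme.basicOpen_res] at h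
  rw [Scheme.basicOpen_mul, inf_comm, h, Scheme.basicOpen_res, inf_eq_right.mpr huF, inf_eq_right]
  rcases Nat.eq_zero_or_pos n with rfl | hn
  · rw [pow_zero, Scheme.basicOpen_of_isUnit _ isUnit_one]; exact huF
  · rw [Scheme.basicOpen_pow _ _ hn, Scheme.basicOpen_res, inf_idem]; exact huF

/-- Integral case: the images lie in an affine open. -/
theorem exists_affine [QuasiSeparatedSpace X] [IsAffine T] (hη : f (genericPoint T) = genericPoint X)
    (s : Finset T) (hs : ∀ t ∈ s, IsIso (f.stalkMap t)) : ∃ U : X.Opens, IsAffineOpen U ∧ ∀ t ∈ s, f t ∈ U := by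
  classical
  induction s using Finset.induction_on with
  | empty => exact ⟨⊥, isAffineOpen_bot X, fun t ht => absurd ht (Finset.notMem_empty t)⟩
  | @insert a s _ ih =>
    obtain ⟨U, hU, hsU⟩ := ih fun t ht => hs t (Finset.mem_insert_of_mem ht)
    obtain ⟨_, ⟨V, hV, rfl⟩, haV, -⟩ :=
      X.isBasis_affineOpens.exists_subset_of_mem_open (Set.mem_univ (f a)) isOpen_univ
    obtain ⟨c, hcs, hcU⟩ := H13Grpd.exists_basicOpen_finite (isAffineOpen_top T) s.finite_toSet
      (O := f ⁻¹ᵁ U) (fun t ht => hsU t ht) le_top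
    obtain ⟨c', hca, hcV⟩ := H13Grpd.exists_basicOpen_finite (isAffineOpen_top T) (Set.finite_singleton a)
      (O := f ⁻¹ᵁ V) (fun t ht => by subst ht; exact haV) le_top
    obtain ⟨W, hW, hsW, F, G, hF, hG, hFU, hGV⟩ := exists_global_ext f hη (insert a s) hs c c' hcU hcV
    have hmem : ∀ (d : Γ(T, ⊤)) (D : Γ(X, W)), f.app W D = T.presheaf.map (homOfLE le_top).op d →
        ∀ t ∈ insert a s, t ∈ T.basicOpen d → f t ∈ X.basicOpen D := fun d D hD t ht htd => by
      have h1 : t ∈ T.basicOpen (f.app W D) := by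
        rw [hD, Scheme.basicOpen_res]; exact ⟨hsW t ht, htd⟩
      rw [← Scheme.preimage_basicOpen] at h1
      exact h1
    obtain ⟨u, hus, huF⟩ := H13Grpd.exists_basicOpen_finite hU (s.finite_toSet.image f) (O := X.basicOpen F)
      (by rintro _ ⟨t, ht, rfl⟩; exact hmem c F hF t (Finset.mem_insert_of_mem ht) (hcs ht)) hFU
    obtain ⟨v, hva, hvG⟩ := H13Grpd.exists_basicOpen_finite hV (Set.finite_singleton (f a)) (O := X.basicOpen G)
      (by rintro _ rfl; exact hmem c' G hG a (Finset.mem_insert_self a s) (hca rfl)) hGV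
    obtain ⟨y, hy⟩ := exists_ext_basicOpen hW F hFU u huF
    obtain ⟨z, hz⟩ := exists_ext_basicOpen hW G hGV v hvG
    let p : T → Ideal Γ(X, W) := fun t => if h : f t ∈ W then
      (IsLocalRing.maximalIdeal (X.presheaf.stalk (f t))).comap (X.presheaf.germ W (f t) h).hom else ⊥
    have hp : ∀ t ∈ insert a s, ∀ d : Γ(X, W), d ∉ p t ↔ f t ∈ X.basicOpen d := fun t ht d => by
      simp only [p, dif_pos (hsW t ht), Ideal.mem_comap, IsLocalRing.mem_maximalIdeal, mem_nonunits_iff, not_not]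
      exact (X.mem_basicOpen d _ (hsW t ht)).symm
    obtain ⟨g, hgI, hg⟩ : ∃ g ∈ Ideal.span {y, z}, ∀ t ∈ insert a s, g ∉ p t := by
      by_contra! hcon
      obtain ⟨t, ht, hle⟩ := (Ideal.subset_union_prime (s := insert a s) (f := p) a a fun t ht _ _ => by
        simp only [p, dif_pos (hsW t ht)]; infer_instance).1 fun x hx => by
          obtain ⟨t, ht, hxt⟩ := hcon x hx
          exact Set.mem_biUnion ht hxt
      have hy' : y ∈ p t := hle (Ideal.subset_span (Set.mem_insert _ _))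
      have hz' : z ∈ p t := hle (Ideal.subset_span (Set.mem_insert_of_mem _ rfl))
      rcases Finset.mem_insert.mp ht with rfl | ht'
      · exact (hp _ ht z).mpr (by rw [hz]; exact hva rfl) hz'
      · exact (hp _ ht y).mpr (by rw [hy]; exact hus ⟨t, ht', rfl⟩) hy'
    let Ω := X.basicOpen g
    let r : Γ(X, W) →+* Γ(X, Ω) := (X.presheaf.map (homOfLE (X.basicOpen_le g)).op).hom
    refine ⟨Ω, isAffineOpen_of_isAffineOpen_basicOpen Ω {r y, r z} ?_ ?_, fun t ht => (hp t ht g).mp (hg t ht)⟩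
    · refine Ideal.eq_top_of_isUnit_mem _ ?_ (RingedSpace.isUnit_res_basicOpen X.toRingedSpace g)
      have h1 := Ideal.mem_map_of_mem r hgI
      rw [Ideal.map_span, Set.image_pair] at h1
      exact h1
    · have haff : ∀ (Z : X.Opens) (hZ : IsAffineOpen Z) (w : Γ(X, Z)) (d : Γ(X, W)),
          X.basicOpen d = X.basicOpen w → IsAffineOpen (X.basicOpen (r d)) := fun Z hZ w d hd => by
        have hle : X.basicOpen w ≤ W := hd ▸ X.basicOpen_le d
        have h1 : X.basicOpen (r d) = X.basicOpen (X.presheaf.map (homOfLE hle).op g) := by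
          show X.basicOpen (X.presheaf.map _ d) = _
          rw [Scheme.basicOpen_res, Scheme.basicOpen_res, hd, inf_comm]
        rw [h1]
        exact (hZ.basicOpen w).basicOpen _
      rintro i (rfl | rfl)
      · exact haff U hU u y hy
      · exact haff V hV v z hz

end Groth.Agent.H22Alg.AffineImage
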