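import Mathlib.Topology.Instances.ENNReal.Lemmas
import Mathlib.Order.LiminfLimsup
import Mathlib.Algebra.Order.BigOperators.Group.Finset
import Mathlib.Analysis.SpecificLimits.Basic

/-! # Upper limits of `f m / m^d`. -/

set_option autoImplicit false

open Filter Topology
open scoped ENNReal

noncomputable section

namespace Groth.Agent.H22Alg.VolLimsup

/-- The upper limit of `f m / m ^ d`. -/
abbrev vol (d : ℕ) (f : ℕ → ℕ) : ℝ≥0∞ := limsup (fun m : ℕ => (f m : ℝ≥0∞) / (m : ℝ≥0∞) ^ d) atTop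

theorem sub_pow_le (d m : ℕ) (hm : 1 ≤ m) : m * ((m + 1) ^ d - m ^ d) ≤ d * 2 ^ d * m ^ d := by
  induction d with
  | zero => simp
  | succ d ih =>
    have h1 : (m + 1) ^ (d + 1) - m ^ (d + 1) ≤ (m + 1) ^ d + m * ((m + 1) ^ d - m ^ d) := by
      have := Nat.pow_le_pow_left (Nat.le_succ m) d
      rw [pow_succ, pow_succ, Nat.mul_sub, Nat.mul_comm _ (m + 1), Nat.mul_comm _ m, Nat.add_mul, one_mul]
      omega
    have h2 : (m + 1) ^ d ≤ 2 ^ d * m ^ d := by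
      rw [← mul_pow]; exact Nat.pow_le_pow_left (by omega) d
    calc m * ((m + 1) ^ (d + 1) - m ^ (d + 1)) ≤ m * ((2 ^ d * m ^ d) + d * 2 ^ d * m ^ d) :=
          Nat.mul_le_mul_left m (h1.trans (Nat.add_le_add h2 ih))
      _ = (d + 1) * 2 ^ d * m ^ (d + 1) := by ring
      _ ≤ (d + 1) * 2 ^ (d + 1) * m ^ (d + 1) :=
          Nat.mul_le_mul_right _ (Nat.mul_le_mul_left _ (Nat.pow_le_pow_right (by norm_num) (Nat.le_succ d)))

theorem tendsto_err (d C : ℕ) :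
    Tendsto (fun m : ℕ => ((C * ((m + 1) ^ d - m ^ d) : ℕ) : ℝ≥0∞) / (m : ℝ≥0∞) ^ d) atTop (𝓝 0) := by
  have hK : Tendsto (fun m : ℕ => ((C * (d * 2 ^ d) : ℕ) : ℝ≥0∞) / (m : ℝ≥0∞)) atTop (𝓝 0) := by
    simp only [div_eq_mul_inv]
    simpa using ENNReal.Tendsto.const_mul ENNReal.tendsto_inv_nat_nhds_zero
      (Or.inr (ENNReal.natCast_ne_top (C * (d * 2 ^ d))))
  refine tendsto_of_tendsto_of_tendsto_of_le_of_le' tendsto_const_nhds hK (Eventually.of_forall fun _ => bot_le) ?_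
  filter_upwards [eventually_ge_atTop 1] with m hm
  have hm0 : (m : ℝ≥0∞) ≠ 0 := Nat.cast_ne_zero.2 (by omega)
  rw [ENNReal.div_le_iff (pow_ne_zero _ hm0) (ENNReal.pow_ne_top (ENNReal.natCast_ne_top m)),
    ENNReal.div_eq_inv_mul, mul_assoc, ← ENNReal.mul_le_iff_le_inv hm0 (ENNReal.natCast_ne_top m)]
  have h : m * (C * ((m + 1) ^ d - m ^ d)) ≤ C * (d * 2 ^ d) * m ^ d :=
    calc m * (C * ((m + 1) ^ d - m ^ d)) = C * (m * ((m + 1) ^ d - m ^ d)) := Nat.mul_left_comm _ _ _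
      _ ≤ C * (d * 2 ^ d * m ^ d) := Nat.mul_le_mul_left C (sub_pow_le d m hm)
      _ = _ := (mul_assoc _ _ _).symm
  exact_mod_cast h

theorem vol_le_of_le {d : ℕ} {f g : ℕ → ℕ} (C : ℕ) (h : ∀ᶠ m in atTop, f m ≤ g m + C * ((m + 1) ^ d - m ^ d)) :
    vol d f ≤ vol d g := by
  refine le_trans (limsup_le_limsup ?_) (ENNReal.limsup_add_of_right_tendsto_zero (tendsto_err d C) _).le
  filter_upwards [h] with m hm
  rw [Pi.add_apply, ← ENNReal.add_div]
  exact ENNReal.div_le_div_right (by exact_mod_cast hm) _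

theorem limsup_const_mul {c : ℝ≥0∞} (hc : c ≠ ⊤) (g : ℕ → ℝ≥0∞) :
    limsup (fun m => c * g m) atTop = c * limsup g atTop :=
  ((Monotone.map_limsup_of_continuousAt (fun a b h => mul_le_mul_right h c : Monotone (c * ·)) g
    (ENNReal.continuous_const_mul hc).continuousAt)).symm

theorem vol_mul {d : ℕ} {f : ℕ → ℕ} (hadd : ∀ m r, 0 < f r → f m ≤ f (m + r)) {a : ℕ} (ha : 0 < a) :
    vol d (fun m => f (a * m)) = (a : ℝ≥0∞) ^ d * vol d f := by
  classical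
  have ha0 : (a : ℝ≥0∞) ≠ 0 := Nat.cast_ne_zero.2 ha.ne'
  have hpow : (a : ℝ≥0∞) ^ d ≠ 0 := pow_ne_zero _ ha0
  have htop : (a : ℝ≥0∞) ^ d ≠ ⊤ := ENNReal.pow_ne_top (ENNReal.natCast_ne_top a)
  have hmul : Tendsto (fun m : ℕ => a * m) atTop atTop :=
    tendsto_atTop_mono (fun m => Nat.le_mul_of_pos_left m ha) tendsto_id
  refine le_antisymm ?_ ?_
  · have e : ∀ᶠ m : ℕ in atTop, (f (a * m) : ℝ≥0∞) / (m : ℝ≥0∞) ^ d =
        (a : ℝ≥0∞) ^ d * ((f (a * m) : ℝ≥0∞) / ((a * m : ℕ) : ℝ≥0∞) ^ d) := by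
      filter_upwards [eventually_ge_atTop 1] with m hm
      rw [Nat.cast_mul, mul_pow, ← mul_div_assoc, ENNReal.mul_div_mul_left _ _ hpow htop]
    show limsup (fun m : ℕ => (f (a * m) : ℝ≥0∞) / (m : ℝ≥0∞) ^ d) atTop ≤ _
    rw [limsup_congr e, limsup_const_mul htop]
    refine mul_le_mul_right (le_of_forall_gt fun c hc => ?_) _
    refine lt_of_le_of_lt ?_ hc
    exact le_of_eq_of_le (limsup_comp (fun n : ℕ => (f n : ℝ≥0∞) / (n : ℝ≥0∞) ^ d) (fun m : ℕ => a * m) atTop)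
      (limsup_le_limsup_of_le hmul)
  · refine le_of_forall_gt fun c hc => ?_
    -- a representative of each residue class with a section
    let w : ℕ → ℕ := fun r => if h : ∃ t, 0 < f t ∧ t % a = r then Nat.find h else 0
    let K : ℕ := (a - 1) * (Finset.range a).sup w
    obtain ⟨c', hc', hc'c⟩ := exists_between hc
    have hev := eventually_lt_of_limsup_lt hc'
    obtain ⟨N, hN⟩ := eventually_atTop.1 hev
    have hlim : Tendsto (fun m : ℕ => c' * (((m + K : ℕ) : ℝ≥0∞) / (m : ℝ≥0∞)) ^ d) atTop (𝓝 c') := by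
      have h1 : Tendsto (fun m : ℕ => ((m + K : ℕ) : ℝ≥0∞) / (m : ℝ≥0∞)) atTop (𝓝 1) := by
        have h2 : Tendsto (fun m : ℕ => 1 + (K : ℝ≥0∞) * (m : ℝ≥0∞)⁻¹) atTop (𝓝 (1 + (K : ℝ≥0∞) * 0)) :=
          tendsto_const_nhds.add (ENNReal.Tendsto.const_mul ENNReal.tendsto_inv_nat_nhds_zero
            (Or.inr (ENNReal.natCast_ne_top K)))
        rw [mul_zero, add_zero] at h2
        refine h2.congr' ?_
        filter_upwards [eventually_ge_atTop 1] with m hm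
        rw [Nat.cast_add, ENNReal.add_div,
          ENNReal.div_self (Nat.cast_ne_zero.2 (by omega)) (ENNReal.natCast_ne_top m), div_eq_mul_inv]
      simpa using ENNReal.Tendsto.const_mul (ENNReal.Tendsto.pow (n := d) h1) (Or.inl (by simp))
    show (a : ℝ≥0∞) ^ d * limsup (fun m : ℕ => (f m : ℝ≥0∞) / (m : ℝ≥0∞) ^ d) atTop < c
    rw [← limsup_const_mul htop]
    refine lt_of_le_of_lt ?_ hc'c
    refine le_trans (limsup_le_limsup ?_) hlim.limsup_eq.le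
    filter_upwards [eventually_ge_atTop (a * (N + 1))] with m hm
    by_cases hf : f m = 0
    · simp [hf]
    have hex : ∃ t, 0 < f t ∧ t % a = m % a := ⟨m, Nat.pos_of_ne_zero hf, rfl⟩
    obtain ⟨hw1, hw2⟩ : 0 < f (w (m % a)) ∧ w (m % a) % a = m % a := by
      simp only [w, dif_pos hex]; exact Nat.find_spec hex
    have hwK : (a - 1) * w (m % a) ≤ K :=
      Nat.mul_le_mul_left _ (Finset.le_sup (Finset.mem_range.2 (Nat.mod_lt m ha)))
    have hiter : ∀ t, f m ≤ f (m + t * w (m % a)) := fun t => by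
      induction t with
      | zero => simp
      | succ t ih => exact ih.trans ((hadd _ _ hw1).trans (le_of_eq (by rw [Nat.succ_mul, Nat.add_assoc])))
    obtain ⟨q, hq⟩ : a ∣ m + (a - 1) * w (m % a) := by
      generalize w (m % a) = t at hw2
      refine Nat.dvd_of_mod_eq_zero ?_
      rw [Nat.add_mod, ← hw2, ← Nat.add_mod]
      have h1 : t + (a - 1) * t = a * t := by
        rw [Nat.sub_one_mul]
        have := Nat.le_mul_of_pos_left t ha
        omega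
      rw [h1, Nat.mul_mod_right]
    have hqN : N ≤ q := by nlinarith
    have hm0 : (m : ℝ≥0∞) ≠ 0 := Nat.cast_ne_zero.2 (by nlinarith)
    have hq0 : (q : ℝ≥0∞) ≠ 0 := Nat.cast_ne_zero.2 (by nlinarith)
    have h2 : (f (a * q) : ℝ≥0∞) ≤ c' * (q : ℝ≥0∞) ^ d := by
      have h := (hN q hqN).le
      rwa [ENNReal.div_le_iff (pow_ne_zero _ hq0) (ENNReal.pow_ne_top (ENNReal.natCast_ne_top q))] at h
    have hpp : (((m + K : ℕ) : ℝ≥0∞) / (m : ℝ≥0∞)) ^ d * (m : ℝ≥0∞) ^ d = ((m + K : ℕ) : ℝ≥0∞) ^ d := by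
      rw [← mul_pow, ENNReal.div_mul_cancel hm0 (ENNReal.natCast_ne_top m)]
    rw [← mul_div_assoc, ENNReal.div_le_iff (pow_ne_zero _ hm0) (ENNReal.pow_ne_top (ENNReal.natCast_ne_top m)),
      mul_assoc, hpp]
    calc (a : ℝ≥0∞) ^ d * f m ≤ (a : ℝ≥0∞) ^ d * (c' * (q : ℝ≥0∞) ^ d) := by
          refine mul_le_mul_right (le_trans ?_ h2) _
          exact_mod_cast (hiter (a - 1)).trans (le_of_eq (congrArg f hq))
      _ = c' * ((a * q : ℕ) : ℝ≥0∞) ^ d := by push_cast; ring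
      _ ≤ c' * ((m + K : ℕ) : ℝ≥0∞) ^ d := by
          refine mul_le_mul_right (pow_le_pow_left₀ bot_le ?_ d) _
          exact_mod_cast (by omega : a * q ≤ m + K)

theorem liminf_pos_of_le {d : ℕ} {f : ℕ → ℕ} (K : ℕ)
    (h : ∀ᶠ m in atTop, m ^ d ≤ K * f m) :
    0 < liminf (fun m : ℕ => (f m : ℝ≥0∞) / (m : ℝ≥0∞) ^ d) atTop := by
  have hpos : (0 : ℝ≥0∞) < ((K + 1 : ℕ) : ℝ≥0∞)⁻¹ := ENNReal.inv_pos.2 (ENNReal.natCast_ne_top _)
  refine lt_of_lt_of_le hpos (le_liminf_of_le ?_ ?_)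
  · isBoundedDefault
  filter_upwards [h, eventually_ge_atTop 1] with m hm hm1
  have hm0 : ((m : ℕ) : ℝ≥0∞) ^ d ≠ 0 := pow_ne_zero _ (Nat.cast_ne_zero.2 (by omega))
  rw [ENNReal.le_div_iff_mul_le (Or.inl hm0) (Or.inl (ENNReal.pow_ne_top (ENNReal.natCast_ne_top m))),
    ENNReal.inv_mul_le_iff (Nat.cast_ne_zero.2 (Nat.succ_ne_zero K)) (ENNReal.natCast_ne_top _)]
  exact_mod_cast hm.trans (Nat.mul_le_mul_right _ (Nat.le_succ K))

end Groth.Agent.H22Alg.VolLimsup
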