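import Groth.Agent.H22Alg.VolGrowth
import Groth.Agent.H22Alg.VolLimsup
import Groth.Agent.H22Alg.NakaiGen
import Groth.Agent.H22Alg.NakaiSemi

/-! # Bigness: positive upper limit, Kodaira's lemma. -/

set_option autoImplicit false
set_option linter.style.haveILetI false

universe u

open CategoryTheory CategoryTheory.Limits AlgebraicGeometry TopologicalSpace Filter
open Groth.Agent.H11Ample Groth.Agent.H25Index
open scoped ENNReal

noncomputable section

namespace Groth.Agent.H22Alg.VolBig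

variable (k : Type u) [Field k] {X : Scheme.{u}} [X.Over (Spec (CommRingCat.of k))]
  [IsProper (X ↘ Spec (CommRingCat.of k))] [IsIntegral X]

omit k [Field k] [X.Over (Spec (CommRingCat.of k))] [IsProper (X ↘ Spec (CommRingCat.of k))] [IsIntegral X] in
theorem ne_zero_of_gen {M : X.Modules} (hM : PicF.IsInvertible M) {g : Γ(M, ⊤)} {x : X} (hx : x ∈ gen M g) :
    g ≠ 0 := fun h0 => by
  have hb := (mem_gen_iff hM g x).1 hx
  rw [h0, map_zero] at hb
  exact zero_ne_one (hb.1 (a₁ := (0 : X.presheaf.stalk x)) (a₂ := 1) (by simp))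

omit [IsIntegral X] in
theorem exists_ne_zero_of_pos {M : X.Modules} (h : 0 < hd k M 0) : ∃ g : Γ(M, ⊤), g ≠ 0 :=
  H28Int.Surface.exists_section (Module.nontrivial_of_finrank_pos h)

theorem pos_of_section {M : X.Modules} (hM : PicF.IsInvertible M) {g : Γ(M, ⊤)} (hg : g ≠ 0) : 0 < hd k M 0 := by
  haveI := H28Int.isNoetherian k (X := X)
  haveI := finite_HH (k := k) M (isCoh_of_isInvertible hM) 0
  haveI : Nontrivial Γ(M, ⊤) := ⟨g, 0, hg⟩
  let e : Coh.HH X M 0 ≃ Γ(M, ⊤) :=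
    (H10Coh.HHEquiv M 0).toEquiv.trans (H10Coh.H0Equiv (H10Coh.sh M) ⊤).toEquiv
  haveI : Nontrivial (Coh.HH X M 0) := e.nontrivial
  exact Module.finrank_pos

theorem hd0_le_of_pos {N E : X.Modules} (hN : PicF.IsInvertible N) (hE : PicF.IsInvertible E)
    (h : 0 < hd k E 0) : hd k N 0 ≤ hd k (CohB1.tensorMod N E) 0 := by
  obtain ⟨g, hg⟩ := exists_ne_zero_of_pos k h
  exact VolGrowth.hd0_le_tensor k hE hg hN

theorem hd0_structure_pos : 0 < hd k (Coh.structureModule X) 0 :=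
  pos_of_section k H11Ample.isInvertible_structureModule (ne_zero_of_gen H11Ample.isInvertible_structureModule
    (mem_gen_of_isGen (W := ⊤) (by rw [H10Coh.mres_self]; exact isGen_one ⊤) (Opens.mem_top (genericPoint X))))

theorem hd0_pow_add {L : X.Modules} (hL : PicF.IsInvertible L) (m r : ℕ)
    (h : 0 < hd k (CohB1.tensorPow L r) 0) :
    hd k (CohB1.tensorPow L m) 0 ≤ hd k (CohB1.tensorPow L (m + r)) 0 := by
  obtain ⟨e⟩ := DegAmple.nonempty_tensorPow_add L m r
  exact (hd0_le_of_pos k (isInvertible_tensorPow hL m) (isInvertible_tensorPow hL r) h).trans (hd_congr e 0).le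

theorem pow_pos_of_pos {E : X.Modules} (hE : PicF.IsInvertible E) (h : 0 < hd k E 0) :
    ∀ q : ℕ, 0 < hd k (CohB1.tensorPow E q) 0
  | 0 => hd0_structure_pos k
  | q + 1 => (pow_pos_of_pos hE h q).trans_le (hd0_le_of_pos k (isInvertible_tensorPow hE q) hE h)

theorem hd0_pow_le_pow {M E : X.Modules} (hM : PicF.IsInvertible M) (hE : PicF.IsInvertible E)
    (h : 0 < hd k E 0) (q : ℕ) :
    hd k (CohB1.tensorPow M q) 0 ≤ hd k (CohB1.tensorPow (CohB1.tensorMod M E) q) 0 := by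
  obtain ⟨e⟩ := exists_iso_tensorPow_tensor hM hE q
  exact (hd0_le_of_pos k (isInvertible_tensorPow hM q) (isInvertible_tensorPow hE q)
    (pow_pos_of_pos k hE h q)).trans (hd_congr e 0).le

variable {A : X.Modules} (hA : CohB1.IsAmple A)
include hA

/-- Twists by high powers of an ample module have sections. -/
theorem eventually_pos {M : X.Modules} (hM : PicF.IsInvertible M) :
    ∃ n₀ : ℕ, ∀ n, n₀ ≤ n → 0 < hd k (CohB1.tensorMod M (CohB1.tensorPow A n)) 0 := by
  obtain ⟨n₀, h⟩ := VolGrowth.exists_gen_twist k hA hM (genericPoint X)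
  refine ⟨n₀, fun n hn => ?_⟩
  obtain ⟨g, hg⟩ := h n hn
  have hi := isInvertible_tensor hM (isInvertible_tensorPow hA.1 n)
  exact pos_of_section k hi (ne_zero_of_gen hi hg)

/-- An ample module with a section. -/
theorem exists_ample_pos : ∃ B : X.Modules, CohB1.IsAmple B ∧ 0 < hd k B 0 := by
  haveI := H28Int.isNoetherian k (X := X)
  obtain ⟨n₀, h⟩ := eventually_pos k hA (H11Ample.isInvertible_structureModule (X := X))
  exact ⟨CohB1.tensorPow A (n₀ + 1), (isAmple_tensorPow_iff hA.1 _ (Nat.succ_pos n₀)).1 hA,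
    (h (n₀ + 1) (Nat.le_succ n₀)).trans_le (hd_congr (H10Coh.Tw.leftUnitIso _) 0).le⟩

variable {d : ℕ} (hdim : topologicalKrullDim X = d)
include hdim

/-- The sections of the powers of an ample module grow like `n^d`. -/
theorem ample_lower : ∃ K : ℕ, ∀ᶠ n : ℕ in atTop, n ^ d ≤ K * hd k (CohB1.tensorPow A n) 0 := by
  haveI := H28Int.isNoetherian k (X := X)
  rcases Nat.eq_zero_or_pos d with hd0 | hd0
  · obtain ⟨n₀, h⟩ := eventually_pos k hA (H11Ample.isInvertible_structureModule (X := X))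
    refine ⟨1, ?_⟩
    filter_upwards [eventually_ge_atTop n₀] with n hn
    rw [hd0, pow_zero, one_mul]
    exact (h n hn).trans_le (hd_congr (H10Coh.Tw.leftUnitIso _) 0).le
  have hO : Coh.IsCoh (Coh.structureModule X) := H10Coh.isCoh_structureModule' X
  have hd' : topologicalKrullDim (CohB1.support (Coh.structureModule X)) ≤ (d : WithBot ℕ∞) :=
    (H28Int.dim_le_of_subset (Set.subset_univ _)).trans
      (((Homeomorph.Set.univ X).isInducing.topologicalKrullDim_le).trans hdim.le)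
  obtain ⟨P, -, hP⟩ := Snapper.exists_poly k hO hd' (r := d) (L := fun _ => A) (fun _ => hA.1)
  obtain ⟨C, hC⟩ := DegAmple.hilbert_bound k hdim hA hP
  have hpos := DegAmple.coeff_pos k hdim hA hP
  set c := MvPolynomial.coeff (Finsupp.equivFunOnFinite.symm fun _ : Fin d => 1) P / (d.factorial : ℚ)
  have hc : 0 < c := div_pos hpos (by exact_mod_cast d.factorial_pos)
  obtain ⟨K, hK⟩ := exists_nat_ge (2 / c)
  refine ⟨K, ?_⟩
  have key : ∀ᶠ n : ℕ in atTop, C * ((n : ℚ) + 1) ^ (d - 1) ≤ c / 2 * (n : ℚ) ^ d := by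
    obtain ⟨N, hN⟩ := exists_nat_ge (2 * |C| * 2 ^ (d - 1) / c)
    filter_upwards [eventually_ge_atTop (max N 1)] with n hn
    have hn1 : (1 : ℚ) ≤ n := by exact_mod_cast (le_max_right N 1).trans hn
    have hnN : (N : ℚ) ≤ n := by exact_mod_cast (le_max_left N 1).trans hn
    have h1 : ((n : ℚ) + 1) ^ (d - 1) ≤ 2 ^ (d - 1) * (n : ℚ) ^ (d - 1) := by
      rw [← mul_pow]; exact pow_le_pow_left₀ (by linarith) (by linarith) _
    have h2 : 2 * |C| * 2 ^ (d - 1) ≤ n * c := (div_le_iff₀ hc).1 (hN.trans hnN)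
    calc C * ((n : ℚ) + 1) ^ (d - 1) ≤ |C| * ((n : ℚ) + 1) ^ (d - 1) :=
          mul_le_mul_of_nonneg_right (le_abs_self C) (by positivity)
      _ ≤ |C| * (2 ^ (d - 1) * (n : ℚ) ^ (d - 1)) := mul_le_mul_of_nonneg_left h1 (abs_nonneg C)
      _ = (|C| * 2 ^ (d - 1)) * (n : ℚ) ^ (d - 1) := by ring
      _ ≤ (c / 2 * n) * (n : ℚ) ^ (d - 1) := mul_le_mul_of_nonneg_right (by linarith) (by positivity)
      _ = c / 2 * (n : ℚ) ^ d := by rw [mul_assoc, ← pow_succ', Nat.sub_add_cancel hd0]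
  filter_upwards [key] with n hn
  have h := (abs_le.1 (hC n)).1
  have h2 : 2 / c * (c / 2 * (n : ℚ) ^ d) = (n : ℚ) ^ d := by field_simp
  have h3 : (n : ℚ) ^ d ≤ (K : ℚ) * (hd k (CohB1.tensorPow A n) 0 : ℚ) := by
    rw [← h2]
    exact mul_le_mul hK (by show _ ≤ ((Module.finrank k (Coh.HH X (CohB1.tensorPow A n) 0) : ℕ) : ℚ); linarith)
      (by positivity) (le_trans (by positivity) hK)
  exact_mod_cast h3

/-- **Kodaira's lemma**. -/
theorem kodaira {L : X.Modules} (hL : PicF.IsInvertible L)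
    (h : 0 < VolLimsup.vol d fun m => hd k (CohB1.tensorPow L m) 0) :
    ∃ (a : ℕ) (B E : X.Modules), 0 < a ∧ CohB1.IsAmple B ∧ PicF.IsInvertible E ∧ 0 < hd k E 0 ∧
      Nonempty (CohB1.tensorMod B E ≅ CohB1.tensorPow L a) := by
  haveI := H28Int.isNoetherian k (X := X)
  obtain ⟨B, hB, hBpos⟩ := exists_ample_pos k hA
  obtain ⟨B', hB', ⟨e⟩⟩ := H29RR.exists_inverse_comm hB.1
  by_contra hne
  push Not at hne
  obtain ⟨g, hg⟩ := exists_ne_zero_of_pos k hBpos
  obtain ⟨C, hC⟩ := VolGrowth.hd0_tensor_le k hA hdim.le hB.1 hg hB' hL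
  have hle : VolLimsup.vol d (fun m => hd k (CohB1.tensorPow L m) 0) ≤ VolLimsup.vol d fun _ => 0 := by
    refine VolLimsup.vol_le_of_le C ?_
    filter_upwards [eventually_ge_atTop 1] with m hm
    have i : CohB1.tensorMod (CohB1.tensorMod B' (CohB1.tensorPow L m)) B ≅ CohB1.tensorPow L m :=
      H12Pic.NumTriv.swapIso _ _ _ ≪≫ PicGrp.tensorModIso (H10Coh.Tw.commIso B' B ≪≫ e) (Iso.refl _) ≪≫
        H10Coh.Tw.leftUnitIso _
    have h0 : hd k (CohB1.tensorMod B' (CohB1.tensorPow L m)) 0 = 0 := by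
      by_contra h0
      refine hne m B _ hm hB (isInvertible_tensor hB' (isInvertible_tensorPow hL m)) (Nat.pos_of_ne_zero h0)
        |>.false ((H10Coh.Tw.assoc _ _ _).symm ≪≫ PicGrp.tensorModIso e (Iso.refl _) ≪≫ H10Coh.Tw.leftUnitIso _)
    have := hC m
    rw [hd_congr i 0, h0] at this
    exact this
  simp [VolLimsup.vol] at hle
  exact absurd hle h.ne'

/-- Positive upper limit gives the lower bound. -/
theorem eventually_lower {L : X.Modules} (hL : PicF.IsInvertible L)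
    (h : 0 < VolLimsup.vol d fun m => hd k (CohB1.tensorPow L m) 0) :
    ∃ K : ℕ, ∀ᶠ m : ℕ in atTop, m ^ d ≤ K * hd k (CohB1.tensorPow L m) 0 := by
  classical
  haveI := H28Int.isNoetherian k (X := X)
  obtain ⟨a, B, E, ha, hB, hE, hEpos, ⟨eL⟩⟩ := kodaira k hA hdim hL h
  obtain ⟨K, hK⟩ := ample_lower k hB hdim
  choose t₀ ht₀ using fun r : ℕ => eventually_pos k hB (isInvertible_tensorPow hL r)
  let T := (Finset.range a).sup t₀
  have key : ∀ q r, T ≤ q → r < a →
      hd k (CohB1.tensorPow B (q - T)) 0 ≤ hd k (CohB1.tensorPow L (a * q + r)) 0 := fun q r hq hr => by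
    have hr0 := ht₀ r T (Finset.le_sup (Finset.mem_range.2 hr))
    obtain ⟨e₁⟩ := DegAmple.nonempty_tensorPow_add B (q - T) T
    obtain ⟨e₂⟩ := NakaiGen.nonempty_tensorPow_mul L a q
    obtain ⟨e₃⟩ := DegAmple.nonempty_tensorPow_add L (a * q) r
    obtain ⟨e₄⟩ := NakaiSemi.nonempty_tensorPow_congr eL q
    have i₁ := PicGrp.tensorModIso (Iso.refl (CohB1.tensorPow B (q - T)))
      (H10Coh.Tw.commIso (CohB1.tensorPow L r) (CohB1.tensorPow B T))
    have s1 := (hd0_le_of_pos k (isInvertible_tensorPow hB.1 (q - T))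
      (isInvertible_tensor (isInvertible_tensorPow hL r) (isInvertible_tensorPow hB.1 T)) hr0).trans
      (hd_congr (i₁ ≪≫ (H10Coh.Tw.assoc _ _ _).symm ≪≫
        PicGrp.tensorModIso (e₁ ≪≫ eqToIso (by rw [Nat.sub_add_cancel hq])) (Iso.refl _)) 0).le
    refine s1.trans ((hd0_le_of_pos k (isInvertible_tensor (isInvertible_tensorPow hB.1 q) (isInvertible_tensorPow hL r))
      (isInvertible_tensorPow hE q) (pow_pos_of_pos k hE hEpos q)).trans (hd_congr ?_ 0).le)
    exact H12Pic.NumTriv.swapIso _ _ _ ≪≫ PicGrp.tensorModIso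
      ((exists_iso_tensorPow_tensor hB.1 hE q).some ≪≫ e₄ ≪≫ e₂) (Iso.refl _) ≪≫ e₃
  obtain ⟨N, hN⟩ := eventually_atTop.1 hK
  refine ⟨(2 * a) ^ d * K, ?_⟩
  filter_upwards [eventually_ge_atTop (a * (2 * T + N + 2))] with m hm
  have hq1 := Nat.div_add_mod m a
  have hr := Nat.mod_lt m ha
  have hq : 2 * T + N + 1 ≤ m / a := (Nat.le_div_iff_mul_le ha).2 (by nlinarith)
  have h1 : m ≤ 2 * a * (m / a - T) := by
    obtain ⟨s, hs⟩ : ∃ s, m / a = T + s := ⟨m / a - T, by omega⟩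
    rw [hs, Nat.add_sub_cancel_left]
    have h3 : T + N + 1 ≤ s := by omega
    nlinarith
  have h2 := key (m / a) (m % a) (by omega) hr
  rw [hq1] at h2
  calc m ^ d ≤ (2 * a * (m / a - T)) ^ d := Nat.pow_le_pow_left h1 d
    _ = (2 * a) ^ d * (m / a - T) ^ d := mul_pow _ _ _
    _ ≤ (2 * a) ^ d * (K * hd k (CohB1.tensorPow B (m / a - T)) 0) := Nat.mul_le_mul_left _ (hN _ (by omega))
    _ ≤ (2 * a) ^ d * (K * hd k (CohB1.tensorPow L m) 0) := Nat.mul_le_mul_left _ (Nat.mul_le_mul_left _ h2)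
    _ = _ := (mul_assoc _ _ _).symm

end Groth.Agent.H22Alg.VolBig
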