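import Groth.Agent.H22Alg.IntPush
import Groth.Agent.H22Alg.VolBig
import Groth.Agent.H22Alg.KModel
import Groth.Agent.H25Euler.RankCoeff
import Groth.Agent.H16Derived.KFlat.PerfNoeth

/-! # Sections of direct images and generically finite pull back. -/

set_option autoImplicit false
set_option linter.style.haveILetI false

universe u

open CategoryTheory CategoryTheory.Limits AlgebraicGeometry Opposite TopologicalSpace
open Groth.Agent.H10Coh Groth.Agent.H25Index

noncomputable section

namespace Groth.Agent.H22Alg.VolPush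

variable (k : Type u) [Field k] {X Y : Scheme.{u}} [X.Over (Spec (CommRingCat.of k))]
  [Y.Over (Spec (CommRingCat.of k))]

/-- A direct image has the same global sections, linearly over the ground field. -/
theorem hd0_push (f : Y ⟶ X) (hf : f ≫ (X ↘ Spec (CommRingCat.of k)) = Y ↘ Spec (CommRingCat.of k))
    (G : Y.Modules) : hd k ((Coh.push f).obj G) 0 = hd k G 0 := by
  let ψX : k →+* Γ(X, ⊤) := globA
  let ψY : k →+* Γ(Y, ⊤) := globA
  have hψ : ψY = f.appTop.hom.comp ψX := by
    show toΓ (Y ↘ Spec (CommRingCat.of k)) = f.appTop.hom.comp (toΓ (X ↘ Spec (CommRingCat.of k)))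
    rw [← toΓ_comp, hf]
  let P := (Coh.push f).obj G
  letI := (actM ψX P).mod 0 ⊤
  letI := (actM ψY G).mod 0 ⊤
  let e₁ : Coh.HH X P 0 ≃ₗ[k] HnM P 0 ⊤ := { HHEquiv P 0 with map_smul' := HHEquiv_smul' P 0 }
  let e₂ : Coh.HH Y G 0 ≃ₗ[k] HnM G 0 ⊤ := { HHEquiv G 0 with map_smul' := HHEquiv_smul' G 0 }
  let e' : HnM P 0 ⊤ ≃+ HnM G 0 ⊤ := (H0Equiv (sh P) ⊤).trans (H0Equiv (sh G) ⊤).symm
  let e₀ : HnM P 0 ⊤ ≃ₗ[k] HnM G 0 ⊤ :=
    { e' with
      map_smul' := fun a x => by
        change e' (postH (smulSh P (ψX a)) 0 ⊤ x) = postH (smulSh G (ψY a)) 0 ⊤ (e' x)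
        apply (H0Equiv (sh G) ⊤).injective
        refine ((H0Equiv (sh G) ⊤).apply_symm_apply _).trans ?_
        refine (H0Equiv_map (smulSh P (ψX a)) x).trans ?_
        refine Eq.trans ?_ (H0Equiv_map (smulSh G (ψY a)) _).symm
        rw [smulSh_push f G (ψX a), hψ]
        exact (congrArg _ ((H0Equiv (sh G) ⊤).apply_symm_apply _)).symm }
  exact (e₁.trans (e₀.trans e₂.symm)).finrank_eq

section Generic

open Groth.Agent.H11Ample Groth.Agent.H25Euler

variable [IsProper (X ↘ Spec (CommRingCat.of k))]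

omit [Y.Over (Spec (CommRingCat.of k))] in
theorem hd0_biprod (F G : X.Modules) (hF : Coh.IsCoh F) (hG : Coh.IsCoh G) (hFG : Coh.IsCoh (F ⊞ G)) :
    hd k (F ⊞ G) 0 = hd k F 0 + hd k G 0 := by
  haveI := finite_HH (k := k) F hF 0
  haveI := finite_HH (k := k) G hG 0
  haveI := finite_HH (k := k) (F ⊞ G) hFG 0
  refine le_antisymm ?_ ?_
  · exact VolGrowth.hd0_le_add k (S := ShortComplex.mk biprod.inl biprod.snd (by simp))
      ((ShortComplex.Splitting.mk (S := ShortComplex.mk biprod.inl biprod.snd (by simp)) biprod.fst biprod.inr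
        (by simp) (by simp) (biprod.total)).shortExact) hF hFG hG
  · refine le_of_eq_of_le (Module.finrank_prod (R := k)).symm (LinearMap.finrank_le_finrank_of_injective
      (f := (Canon.HHlin k (biprod.inl : F ⟶ F ⊞ G) 0).coprod (Canon.HHlin k (biprod.inr : G ⟶ F ⊞ G) 0)) ?_)
    refine (injective_iff_map_eq_zero _).2 fun x hx => ?_
    rw [LinearMap.coprod_apply] at hx
    have h1 := congrArg (Canon.HHlin k (biprod.fst : F ⊞ G ⟶ F) 0) hx
    have h2 := congrArg (Canon.HHlin k (biprod.snd : F ⊞ G ⟶ G) 0) hx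
    rw [map_add, map_zero, ← H29RR.hhlin_comp, ← H29RR.hhlin_comp, biprod.inl_fst, biprod.inr_fst,
      H29RR.hhlin_id, H29RR.hhlin_zero, add_zero] at h1
    rw [map_add, map_zero, ← H29RR.hhlin_comp, ← H29RR.hhlin_comp, biprod.inl_snd, biprod.inr_snd,
      H29RR.hhlin_id, H29RR.hhlin_zero, zero_add] at h2
    exact Prod.ext h1 h2

variable [IsIntegral X]

include k in
omit [Y.Over (Spec (CommRingCat.of k))] [IsIntegral X] in
theorem isCoh_free : ∀ n : ℕ, Coh.IsCoh (FlatMod.freeMod X n) := fun n =>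
  haveI := H28Int.isNoetherian k (X := X)
  H16Derived.KFlat.Stalk.isCoh_of_isFinLocFree (KModel.finLocFree_free n)

omit [Y.Over (Spec (CommRingCat.of k))] in
theorem hd0_free_tensor {L : X.Modules} (hL : PicF.IsInvertible L) : ∀ n : ℕ,
    hd k (CohB1.tensorMod (FlatMod.freeMod X n) L) 0 = n * hd k L 0
  | 0 => by
    rw [Nat.zero_mul]
    exact VolGrowth.hd0_of_isZero k (H12Pic.NumTriv.isZero_tensor ((IsZero.iff_id_eq_zero _).2
      (Sigma.hom_ext _ _ fun b => b.elim0)) L)
  | n + 1 => by
    haveI := H28Int.isNoetherian k (X := X)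
    let T := (DCoh.tensorBi (X := X)).flip.obj L
    haveI : T.Additive := inferInstanceAs (((DCoh.tensorBi (X := X)).flip.obj L).Additive)
    haveI : PreservesFiniteBiproducts T := Functor.preservesFiniteBiproductsOfAdditive _
    haveI : PreservesBinaryBiproducts T := preservesBinaryBiproducts_of_preservesBiproducts T
    have hc := fun m => isCoh_tensor (isCoh_free k (X := X) m) hL
    have e : CohB1.tensorMod (FlatMod.freeMod X (n + 1)) L ≅
        CohB1.tensorMod (Coh.structureModule X) L ⊞ CohB1.tensorMod (FlatMod.freeMod X n) L :=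
      T.mapIso (KModel.freeSucc n) ≪≫ T.mapBiprod _ _
    rw [hd_congr e 0, hd0_biprod k _ _ (isCoh_tensor (H10Coh.isCoh_structureModule' X) hL) (hc n)
      (H10Coh.isCoh_of_iso e (hc (n + 1))), hd0_free_tensor hL n, hd_congr (H10Coh.Tw.leftUnitIso L) 0]
    ring

omit k [Field k] [X.Over (Spec (CommRingCat.of k))] [Y.Over (Spec (CommRingCat.of k))]
  [IsProper (X ↘ Spec (CommRingCat.of k))] in
theorem genRank_free [IsLocallyNoetherian X] : ∀ n : ℕ, genRank (FlatMod.freeMod X n) = n
  | 0 => by
    haveI : Subsingleton ((DerSch.stalkFunctor X (genericPoint X)).obj (FlatMod.freeMod X 0)) :=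
      (ModuleCat.isZero_iff_subsingleton).1 ((DerSch.stalkFunctor X (genericPoint X)).map_isZero
        ((IsZero.iff_id_eq_zero _).2 (Sigma.hom_ext _ _ fun b => b.elim0)))
    exact Module.finrank_zero_of_subsingleton
  | n + 1 => by
    have hO := H28Int.Surface.pushIdIso (X := X)
    let S := ShortComplex.mk ((biprod.inl : Coh.structureModule X ⟶ _) ≫ (KModel.freeSucc (X := X) n).inv)
      ((KModel.freeSucc (X := X) n).hom ≫ biprod.snd) (by simp)
    have hS : S.ShortExact := (ShortComplex.Splitting.mk (S := S) ((KModel.freeSucc (X := X) n).hom ≫ biprod.fst)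
      (biprod.inr ≫ (KModel.freeSucc (X := X) n).inv) (by simp [S]) (by simp [S]) (by
        dsimp only [S]
        rw [Category.assoc, Category.assoc, ← Preadditive.comp_add, ← Category.assoc biprod.fst,
          ← Category.assoc biprod.snd, ← Preadditive.add_comp, biprod.total, Category.id_comp, Iso.hom_inv_id])).shortExact
    have h := genRank_add hS (H16Derived.KFlat.Stalk.isCoh_of_isFinLocFree (KModel.finLocFree_free (n + 1)))
    rw [show genRank S.X₁ = 1 from genRank_structure, show genRank S.X₃ = n from genRank_free n] at h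
    exact h.trans (Nat.add_comm 1 n)

omit k [Field k] [X.Over (Spec (CommRingCat.of k))] [Y.Over (Spec (CommRingCat.of k))]
  [IsProper (X ↘ Spec (CommRingCat.of k))] in
/-- A free module has no submodule vanishing at the generic point. -/
theorem isZero_of_mono_free : ∀ (n : ℕ) {K : X.Modules} (f : K ⟶ FlatMod.freeMod X n) [Mono f],
    genericPoint X ∉ CohB1.support K → IsZero K
  | 0, K, f, _, _ => by
    have hz : IsZero (FlatMod.freeMod X 0) :=
      (IsZero.iff_id_eq_zero _).2 (Sigma.hom_ext _ _ fun b => b.elim0)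
    exact (IsZero.iff_id_eq_zero _).2 (by rw [← cancel_mono f]; exact hz.eq_of_tgt _ _)
  | n + 1, K, f, _, h => by
    let ψ := f ≫ (KModel.freeSucc (X := X) n).hom ≫ biprod.snd
    have hI : IsZero (Abelian.image ψ) := isZero_of_mono_free n (Abelian.image.ι ψ) fun hh =>
      h (LeadDev.support_subset_of_epi (Abelian.factorThruImage ψ) hh)
    have hψ : (f ≫ (KModel.freeSucc (X := X) n).hom) ≫ biprod.snd = 0 := by
      rw [Category.assoc]
      show ψ = 0
      rw [← Abelian.image.fac ψ, hI.eq_of_src (Abelian.image.ι ψ) 0, comp_zero]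
    let f₁ := (f ≫ (KModel.freeSucc (X := X) n).hom) ≫ biprod.fst
    have e : f ≫ (KModel.freeSucc (X := X) n).hom = f₁ ≫ biprod.inl := by
      refine biprod.hom_ext _ _ (by simp [f₁]) ?_
      rw [hψ, Category.assoc, biprod.inl_snd, comp_zero]
    haveI : Mono f₁ := by
      haveI : Mono (f₁ ≫ (biprod.inl : Coh.structureModule X ⟶ Coh.structureModule X ⊞ FlatMod.freeMod X n)) := by
        rw [← e]; infer_instance
      exact mono_of_mono f₁ (biprod.inl : Coh.structureModule X ⟶ Coh.structureModule X ⊞ FlatMod.freeMod X n)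
    exact H28Int.isZero_of_mono_push (𝟙 X) (f₁ ≫ (H28Int.Surface.pushIdIso (X := X)).inv) h

omit [Y.Over (Spec (CommRingCat.of k))] in
theorem small_of_genRank {A : X.Modules} (hA : CohB1.IsAmple A) {d : ℕ}
    (hdim : topologicalKrullDim X ≤ (d : WithBot ℕ∞)) {N : X.Modules} (hN : Coh.IsCoh N) (h0 : genRank N = 0) :
    VolGrowth.Small k d N :=
  haveI := H28Int.isNoetherian k (X := X)
  VolGrowth.small k hA d N hN (H28Int.dim_lt_of_notMem (C := Set.univ) (genericPoint_spec X)
    (le_trans (le_of_eq (Homeomorph.Set.univ X).isHomeomorph.topologicalKrullDim_eq) hdim)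
    (H10Coh.isClosed_support _ hN.2) (Set.subset_univ _) (notMem_support_of_genRank_eq_zero hN h0))

omit [Y.Over (Spec (CommRingCat.of k))] in
/-- A morphism with small kernel. -/
theorem exists_le_of_kernel {A : X.Modules} (hA : CohB1.IsAmple A) {d : ℕ}
    (hdim : topologicalKrullDim X ≤ (d : WithBot ℕ∞)) {F G : X.Modules} (hF : Coh.IsCoh F) (hG : Coh.IsCoh G)
    (φ : F ⟶ G) (hK : genRank (kernel φ) = 0) {L : X.Modules} (hL : PicF.IsInvertible L) :
    ∃ C : ℕ, ∀ m : ℕ, hd k (CohB1.tensorMod F (CohB1.tensorPow L m)) 0 ≤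
      hd k (CohB1.tensorMod G (CohB1.tensorPow L m)) 0 + C * ((m + 1) ^ d - m ^ d) := by
  haveI := H28Int.isNoetherian k (X := X)
  have hQc := H10Coh.isCoh_cokernel φ hF.1 hG
  have hKc := H10Coh.isCoh_kernel φ hF hG.1
  have hI := H10Coh.isCoh_kernel (cokernel.π φ) hG hQc.1
  obtain ⟨C, hC⟩ := small_of_genRank k hA hdim hKc hK L hL
  have hS₁ : (ShortComplex.mk (kernel.ι φ) (Abelian.factorThruImage φ)
      (by rw [← cancel_mono (Abelian.image.ι φ), Category.assoc, Abelian.image.fac, kernel.condition,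
        zero_comp])).ShortExact :=
    { exact := ShortComplex.exact_of_f_is_kernel _ (KernelFork.IsLimit.ofι' _ _ fun g hg =>
        ⟨kernel.lift φ g (by
          rw [← Abelian.image.fac φ, ← Category.assoc, hg, zero_comp]), kernel.lift_ι _ _ _⟩)
      epi_g := inferInstanceAs (Epi (Abelian.factorThruImage φ)) }
  refine ⟨C, fun m => ?_⟩
  have hm := isInvertible_tensorPow hL m
  obtain ⟨f₂, hf₂⟩ := H12Pic.NumTriv.exists_mono_tensor (kernel.ι (cokernel.π φ)) hm
  haveI := hf₂
  refine (VolGrowth.hd0_le_add k (H10Coh.Tw.shortExact_seq hS₁ hm) (isCoh_tensor hKc hm) (isCoh_tensor hF hm)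
    (isCoh_tensor hI hm)).trans ?_
  rw [Nat.add_comm (hd k (CohB1.tensorMod G _) 0)]
  exact Nat.add_le_add (hC m) (@VolGrowth.hd0_le_of_mono k _ X _ _ _ _ f₂ hf₂ (isCoh_tensor hG hm))

omit [Y.Over (Spec (CommRingCat.of k))] in
/-- A monomorphism with small cokernel. -/
theorem exists_le_of_coker {A : X.Modules} (hA : CohB1.IsAmple A) {d : ℕ}
    (hdim : topologicalKrullDim X ≤ (d : WithBot ℕ∞)) {F G : X.Modules} (hF : Coh.IsCoh F) (hG : Coh.IsCoh G)
    (φ : F ⟶ G) [Mono φ] (hQ : genRank (cokernel φ) = 0) {L : X.Modules} (hL : PicF.IsInvertible L) :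
    ∃ C : ℕ, ∀ m : ℕ, hd k (CohB1.tensorMod G (CohB1.tensorPow L m)) 0 ≤
      hd k (CohB1.tensorMod F (CohB1.tensorPow L m)) 0 + C * ((m + 1) ^ d - m ^ d) := by
  haveI := H28Int.isNoetherian k (X := X)
  have hQc := H10Coh.isCoh_cokernel φ hF.1 hG
  obtain ⟨C, hC⟩ := small_of_genRank k hA hdim hQc hQ L hL
  refine ⟨C, fun m => ?_⟩
  have hm := isInvertible_tensorPow hL m
  exact (VolGrowth.hd0_le_add k (H10Coh.Tw.shortExact_seq
    (ShortComplex.ShortExact.mk' (ShortComplex.exact_cokernel φ) inferInstance inferInstance) hm)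
    (isCoh_tensor hF hm) (isCoh_tensor hG hm) (isCoh_tensor hQc hm)).trans (Nat.add_le_add_left (hC m) _)

omit k [Field k] [X.Over (Spec (CommRingCat.of k))] [IsProper (X ↘ Spec (CommRingCat.of k))]
  [Y.Over (Spec (CommRingCat.of k))] [IsIntegral X] in
/-- A point of a coherent module is seen by sections of its high twists. -/
theorem exists_germ_ne_zero {M C : X.Modules} {ι : Type u} (g : ι → Γ(M, ⊤))
    (hg : ∀ (W : X.Opens) (t : Γ(M, W)), ∀ x ∈ W, ∃ (V : X.Opens) (hV : V ≤ W),
      x ∈ V ∧ M.presheaf.map (homOfLE hV).op t ∈ Submodule.span Γ(X, V)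
        (Set.range fun i => M.presheaf.map (homOfLE (le_top : V ≤ ⊤)).op (g i)))
    (π : M ⟶ C) [Epi π] {x : X} (hx : x ∈ CohB1.support C) :
    ∃ i, ((DerSch.stalkFunctor X x).map π) (M.presheaf.germ ⊤ x trivial (g i)) ≠ 0 := by
  by_contra! hall
  refine hx ⟨fun a b => ?_⟩
  haveI : Epi ((DerSch.stalkFunctor X x).map π) := inferInstance
  have key : ∀ c, c = (0 : (DerSch.stalkFunctor X x).obj C) := fun c => by
    obtain ⟨a, rfl⟩ := (ModuleCat.epi_iff_surjective ((DerSch.stalkFunctor X x).map π)).1 inferInstance c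
    obtain ⟨W, hW, t, rfl⟩ := M.presheaf.exists_germ_eq (show M.presheaf.stalk x from a)
    obtain ⟨V, hV, hxV, hspan⟩ := hg W t _ hW
    rw [← TopCat.Presheaf.germ_res_apply M.presheaf (homOfLE hV) _ hxV]
    generalize M.presheaf.map (homOfLE hV).op t = u at hspan ⊢
    induction hspan using Submodule.span_induction with
    | mem v hv =>
      obtain ⟨i, rfl⟩ := hv
      rw [TopCat.Presheaf.germ_res_apply]
      exact hall i
    | zero => rw [map_zero]; exact map_zero _
    | add v w _ _ hv hw => rw [map_add]; exact (map_add _ _ _).trans (by rw [hv, hw, add_zero])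
    | smul r v _ hv => rw [H06Mod.germ_smul]; exact (map_smul _ _ _).trans (by rw [hv, smul_zero])
  exact (key a).trans (key b).symm

omit k [Field k] [X.Over (Spec (CommRingCat.of k))] [Y.Over (Spec (CommRingCat.of k))]
  [IsProper (X ↘ Spec (CommRingCat.of k))] [IsIntegral X] in
theorem stalk_homOfGlobal {E : X.Modules} (t : Γ(E, ⊤)) (x : X) :
    H06Mod.stalkLin (H11Tilde.homOfGlobal E t) x
      ((Coh.structureModule X).presheaf.germ ⊤ x trivial (1 : Γ(X, ⊤))) = E.presheaf.germ ⊤ x trivial t := by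
  refine (H06Mod.stalkLin_germ (H11Tilde.homOfGlobal E t) x ⊤ trivial _).trans ?_
  refine (congrArg (E.presheaf.germ ⊤ x trivial) (H11Tilde.homOfGlobal_app E t ⊤ (1 : Γ(X, ⊤)))).trans ?_
  refine (congrArg (E.presheaf.germ ⊤ x trivial) (one_smul Γ(X, ⊤) _)).trans ?_
  exact TopCat.Presheaf.germ_res_apply E.presheaf (homOfLE (le_top : (⊤ : X.Opens) ≤ ⊤)) x trivial t

include k in
omit [Y.Over (Spec (CommRingCat.of k))] in
/-- A coherent module receives, after an ample twist, a free module with the same generic rank. -/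
theorem exists_free {A : X.Modules} (hA : CohB1.IsAmple A) {F : X.Modules} (hF : Coh.IsCoh F) :
    ∃ n₀ : ℕ, ∀ a, n₀ ≤ a → ∃ φ : FlatMod.freeMod X (genRank F) ⟶ CohB1.tensorMod F (CohB1.tensorPow A a),
      Mono φ ∧ genRank (cokernel φ) = 0 := by
  haveI := H28Int.isNoetherian k (X := X)
  obtain ⟨n₀, h₀⟩ := H11Ample.eventually_spanning hA hF
  refine ⟨n₀, fun a ha => ?_⟩
  obtain ⟨ι, _, g, hg⟩ := h₀ a ha
  let M := CohB1.tensorMod F (CohB1.tensorPow A a)
  have hM : Coh.IsCoh M := isCoh_tensor hF (isInvertible_tensorPow hA.1 a)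
  have hMr : genRank M = genRank F := genRank_tensor_invertible F (isInvertible_tensorPow hA.1 a)
  have step : ∀ j, ∃ φ : FlatMod.freeMod X j ⟶ M, genRank (cokernel φ) ≤ genRank M - j := by
    intro j
    induction j with
    | zero =>
      refine ⟨0, ?_⟩
      have h := genRank_add (S := ShortComplex.mk (kernel.ι (cokernel.π (0 : FlatMod.freeMod X 0 ⟶ M)))
        (cokernel.π _) (kernel.condition _)) { exact := ShortComplex.exact_kernel _ } hM
      exact (Nat.le_add_left _ _).trans h.ge
    | succ j ih =>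
      obtain ⟨φ, hφ⟩ := ih
      rcases Nat.eq_zero_or_pos (genRank (cokernel φ)) with h0 | h0
      · let ψ := (KModel.freeSucc (X := X) j).hom ≫ biprod.desc (0 : Coh.structureModule X ⟶ M) φ
        refine ⟨ψ, ?_⟩
        let q : cokernel φ ⟶ cokernel ψ := cokernel.desc φ (cokernel.π ψ) (by
          have hf : (biprod.inr ≫ (KModel.freeSucc (X := X) j).inv) ≫ ψ = φ := by simp [ψ]
          calc φ ≫ cokernel.π ψ = ((biprod.inr ≫ (KModel.freeSucc (X := X) j).inv) ≫ ψ) ≫ cokernel.π ψ := by rw [hf]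
            _ = 0 := by rw [Category.assoc, cokernel.condition, comp_zero])
        haveI : Epi q := epi_of_epi_fac (cokernel.π_desc _ _ _ : cokernel.π φ ≫ q = _)
        have h := genRank_add (S := ShortComplex.mk (kernel.ι q) q (kernel.condition _))
          { exact := ShortComplex.exact_kernel _ } (H10Coh.isCoh_cokernel φ (isCoh_free k j).1 hM)
        change genRank (cokernel φ) = genRank (kernel q) + genRank (cokernel ψ) at h
        omega
      · have hη : genericPoint X ∈ CohB1.support (cokernel φ) := fun hs => by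
          haveI : Subsingleton ((DerSch.stalkFunctor X (genericPoint X)).obj (cokernel φ)) := hs
          exact h0.ne' Module.finrank_zero_of_subsingleton
        obtain ⟨i, hi⟩ := exists_germ_ne_zero g hg (cokernel.π φ) hη
        let ψ := (KModel.freeSucc (X := X) j).hom ≫ biprod.desc (H11Tilde.homOfGlobal M (g i)) φ
        refine ⟨ψ, ?_⟩
        let q : cokernel φ ⟶ cokernel ψ := cokernel.desc φ (cokernel.π ψ) (by
          have hf : (biprod.inr ≫ (KModel.freeSucc (X := X) j).inv) ≫ ψ = φ := by simp [ψ]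
          calc φ ≫ cokernel.π ψ = ((biprod.inr ≫ (KModel.freeSucc (X := X) j).inv) ≫ ψ) ≫ cokernel.π ψ := by rw [hf]
            _ = 0 := by rw [Category.assoc, cokernel.condition, comp_zero])
        haveI : Epi q := epi_of_epi_fac (cokernel.π_desc _ _ _ : cokernel.π φ ≫ q = _)
        have hQc := H10Coh.isCoh_cokernel φ (isCoh_free k j).1 hM
        have hS : (ShortComplex.mk (kernel.ι q) q (kernel.condition _)).ShortExact :=
          { exact := ShortComplex.exact_kernel _ }
        have hadd := genRank_add hS hQc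
        have hkill : (H11Tilde.homOfGlobal M (g i) ≫ cokernel.π φ) ≫ q = 0 := by
          rw [Category.assoc, cokernel.π_desc]
          have hf : (biprod.inl ≫ (KModel.freeSucc (X := X) j).inv) ≫ ψ = H11Tilde.homOfGlobal M (g i) := by simp [ψ]
          calc H11Tilde.homOfGlobal M (g i) ≫ cokernel.π ψ =
                ((biprod.inl ≫ (KModel.freeSucc (X := X) j).inv) ≫ ψ) ≫ cokernel.π ψ := by rw [hf]
            _ = 0 := by rw [Category.assoc, cokernel.condition, comp_zero]
        have hKr : genRank (kernel q) ≠ 0 := fun hK0 => by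
          have hs := notMem_support_of_genRank_eq_zero (H10Coh.isCoh_kernel q hQc
            (H10Coh.isCoh_cokernel ψ (isCoh_free k (j + 1)).1 hM).1) hK0
          have hz : (DerSch.stalkFunctor X (genericPoint X)).map (H11Tilde.homOfGlobal M (g i) ≫ cokernel.π φ) = 0 :=
            stalkMap_eq_zero_of_factor _ (kernel.lift q _ hkill) (kernel.ι q) (kernel.lift_ι _ _ _) hs
          rw [Functor.map_comp] at hz
          refine hi ((congrArg ((DerSch.stalkFunctor X (genericPoint X)).map (cokernel.π φ))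
            (stalk_homOfGlobal (g i) (genericPoint X))).symm.trans ?_)
          exact LinearMap.congr_fun (congrArg ModuleCat.Hom.hom hz) _
        change genRank (cokernel φ) = genRank (kernel q) + genRank (cokernel ψ) at hadd
        omega
  obtain ⟨φ, hφ⟩ := step (genRank M)
  rw [Nat.sub_self, Nat.le_zero] at hφ
  have hFc := isCoh_free k (X := X) (genRank M)
  have h1 := genRank_add (S := ShortComplex.mk (kernel.ι (cokernel.π φ)) (cokernel.π φ) (kernel.condition _))
    { exact := ShortComplex.exact_kernel _ } hM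
  change genRank M = genRank (kernel (cokernel.π φ)) + genRank (cokernel φ) at h1
  have w₂ : kernel.ι φ ≫ Abelian.factorThruImage φ = 0 := by
    rw [← cancel_mono (Abelian.image.ι φ), Category.assoc, Abelian.image.fac, kernel.condition, zero_comp]
  have h2 := genRank_add (S := ShortComplex.mk (kernel.ι φ) (Abelian.factorThruImage φ) w₂)
    { exact := ShortComplex.exact_of_f_is_kernel _ (KernelFork.IsLimit.ofι' _ _ fun g hg =>
        ⟨kernel.lift φ g (by
          rw [← Abelian.image.fac φ, ← Category.assoc, hg, zero_comp]), kernel.lift_ι _ _ _⟩)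
      epi_g := inferInstanceAs (Epi (Abelian.factorThruImage φ)) } hFc
  change genRank (FlatMod.freeMod X (genRank M)) = genRank (kernel φ) + genRank (kernel (cokernel.π φ)) at h2
  rw [genRank_free] at h2
  haveI : Mono φ := Preadditive.mono_of_isZero_kernel φ (isZero_of_mono_free _ (kernel.ι φ)
    (notMem_support_of_genRank_eq_zero (H10Coh.isCoh_kernel φ hFc hM.1) (by omega)))
  rw [← hMr]
  exact ⟨φ, inferInstance, hφ⟩

end Generic

end Groth.Agent.H22Alg.VolPush

namespace Groth.Agent.H22Alg.VolPush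

open Groth.Agent.H11Ample Groth.Agent.H25Euler

variable (k : Type u) [Field k] {X Y : Scheme.{u}} [X.Over (Spec (CommRingCat.of k))]
  [Y.Over (Spec (CommRingCat.of k))] [IsProper (X ↘ Spec (CommRingCat.of k))]
  [IsProper (Y ↘ Spec (CommRingCat.of k))] [IsIntegral X] [IsIntegral Y]

/-- The generic rank of the direct image of the structure sheaf. -/
theorem genRank_push_structure (f : Y ⟶ X) [IsProper f] (hdom : f.base (genericPoint Y) = genericPoint X)
    (hn0 : 0 < f.residueDegree (genericPoint Y)) [IsLocallyNoetherian X]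
    (hP : Coh.IsCoh ((Coh.push f).obj (Coh.structureModule Y))) :
    genRank ((Coh.push f).obj (Coh.structureModule Y)) = f.residueDegree (genericPoint Y) := by
  let η := genericPoint Y
  haveI := H8Props.FieldDim.locallyOfFiniteType_fiberToSpec f (f η)
  letI := (f.residueFieldMap η).hom.toAlgebra
  haveI : Module.Finite (X.residueField (f η)) (Y.residueField η) := Module.finite_of_finrank_pos hn0
  obtain ⟨b, hb⟩ := H8Props.FieldDim.exists_nat_cdim (k := X.residueField (f η)) (f.fiberToSpecResidueField (f η)) (f.asFiber η)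
  obtain ⟨s, hs, hs'⟩ := H8Props.FieldDim.exists_trdeg_fiber f (f.asFiber η)
  have hb0 : Algebra.trdeg (X.residueField (f η)) (Y.residueField η) = (s : Cardinal) := by
    convert! hs' using 3 <;> rw [Scheme.Hom.fiberι_asFiber]
  haveI : Algebra.IsAlgebraic (X.residueField (f η)) (Y.residueField η) := Algebra.IsAlgebraic.of_finite _ _
  rw [trdeg_eq_zero] at hb0
  rw [hb, show s = 0 by exact_mod_cast hb0.symm] at hs
  have hb' : b = 0 := by exact_mod_cast hs
  subst hb'
  have hmax : ∀ v : f.fiber (f η), f.asFiber η ⤳ v → v = f.asFiber η := fun v hv => by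
    by_contra hne
    obtain ⟨c, hc⟩ := H8Props.FieldDim.exists_nat_cdim (k := X.residueField (f η)) (f.fiberToSpecResidueField (f η)) v
    have hlt := H8Props.FieldDim.cdim_lt (k := X.residueField (f η)) (f.fiberToSpecResidueField (f η)) hv (Ne.symm hne)
    rw [hb, hc] at hlt
    exact Nat.not_lt_zero c (by exact_mod_cast hlt)
  have hfib : ∀ x, f.base x = f.base η → x = η := fun x hx => by
    obtain ⟨v, rfl⟩ : x ∈ Set.range (f.fiberι (f η)) := (f.range_fiberι _).ge hx
    rw [hmax v ?_, Scheme.Hom.fiberι_asFiber]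
    refine (f.fiberι (f η)).isEmbedding.isInducing.specializes_iff.1 ?_
    rw [Scheme.Hom.fiberι_asFiber]
    exact genericPoint_specializes _
  have hfin : (f.residueFieldMap η).hom.Finite := ‹Module.Finite (X.residueField (f η)) (Y.residueField η)›
  have h := IntPush.length_push f f.isClosedMap (H11Ample.isInvertible_structureModule (X := Y)) hfib hfin
  rw [hdom] at h
  letI : Field (X.presheaf.stalk (genericPoint X)) := H29Ref.isField_generic.toField
  haveI : Module.Finite (X.presheaf.stalk (genericPoint X))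
      (((Coh.push f).obj (Coh.structureModule Y)).presheaf.stalk (genericPoint X)) := H29Ref.finite_stalk _ hP.2 _
  rw [Module.length_eq_finrank] at h
  exact_mod_cast h

/-- Pull back along a generically finite morphism multiplies the sections by the degree up to `O(m^(d-1))`. -/
theorem pullback_diff {A : X.Modules} (hA : CohB1.IsAmple A) {d : ℕ} (hdim : topologicalKrullDim X ≤ (d : WithBot ℕ∞))
    (f : Y ⟶ X) (hf : f ≫ (X ↘ Spec (CommRingCat.of k)) = Y ↘ Spec (CommRingCat.of k))
    (hdom : f.base (genericPoint Y) = genericPoint X) (hn0 : 0 < f.residueDegree (genericPoint Y))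
    {L : X.Modules} (hL : PicF.IsInvertible L) :
    ∃ C : ℕ, ∀ m : ℕ,
      hd k (CohB1.tensorPow ((Scheme.Modules.pullback f).obj L) m) 0 ≤
        f.residueDegree (genericPoint Y) * hd k (CohB1.tensorPow L m) 0 + C * ((m + 1) ^ d - m ^ d) ∧
      f.residueDegree (genericPoint Y) * hd k (CohB1.tensorPow L m) 0 ≤
        hd k (CohB1.tensorPow ((Scheme.Modules.pullback f).obj L) m) 0 + C * ((m + 1) ^ d - m ^ d) := by
  haveI := H28Int.isNoetherian k (X := X)
  haveI : IsProper f := by
    haveI : IsProper (f ≫ (X ↘ Spec (CommRingCat.of k))) := hf ▸ inferInstance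
    exact IsProper.of_comp f (X ↘ Spec (CommRingCat.of k))
  set n := f.residueDegree (genericPoint Y) with hn
  let P := (Coh.push f).obj (Coh.structureModule Y)
  have hP : Coh.IsCoh P := by
    haveI : (Scheme.Modules.pushforward f).IsRightAdjoint :=
      (Scheme.Modules.pullbackPushforwardAdjunction f).isRightAdjoint
    haveI : PreservesFiniteLimits (Scheme.Modules.pushforward f) := inferInstance
    haveI := H28Int.isNoetherian k (X := Y)
    exact isCoh_of_iso ((Scheme.Modules.pushforward f).rightDerivedZeroIsoSelf.app (Coh.structureModule Y))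
      (isCoh_rpush f (Coh.structureModule Y) (H10Coh.isCoh_structureModule' Y) 0)
  have hPr : genRank P = n := genRank_push_structure f hdom hn0 hP
  obtain ⟨n₁, h₁⟩ := exists_free k hA hP
  obtain ⟨n₂, h₂⟩ := VolGrowth.exists_gen_twist k hA (H11Ample.isInvertible_structureModule (X := X)) (genericPoint X)
  obtain ⟨φ, hφm, hφQ⟩ := h₁ (max n₁ n₂) (le_max_left _ _)
  obtain ⟨g₀, hg₀⟩ := h₂ (max n₁ n₂) (le_max_right _ _)
  haveI := hφm
  let B := CohB1.tensorPow A (max n₁ n₂)
  have hB : PicF.IsInvertible B := isInvertible_tensorPow hA.1 _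
  obtain ⟨g, hgη⟩ : ∃ g : Γ(B, ⊤), genericPoint X ∈ gen B g :=
    ⟨(H10Coh.Tw.leftUnitIso B).hom.app ⊤ g₀, by rw [gen_iso]; exact hg₀⟩
  let μ := H25Euler.mulHom P (H11Tilde.homOfGlobal B g)
  have hFc := isCoh_free k (X := X) (genRank P)
  have hPB : Coh.IsCoh (CohB1.tensorMod P B) := isCoh_tensor hP hB
  have hμ : genRank (kernel μ) = 0 := by
    have hns := (H25Euler.notMem_support_kernel_cokernel μ (H25Euler.isIso_stalk_mulHom P _ hgη)).1
    haveI : Subsingleton ((DerSch.stalkFunctor X (genericPoint X)).obj (kernel μ)) := not_not.1 hns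
    exact Module.finrank_zero_of_subsingleton
  obtain ⟨C₁, hC₁⟩ := exists_le_of_kernel k hA hdim hP hPB μ hμ hL
  obtain ⟨C₂, hC₂⟩ := exists_le_of_coker k hA hdim hFc hPB φ hφQ hL
  obtain ⟨B', hB', ⟨e⟩⟩ := H29RR.exists_inverse_comm hB
  obtain ⟨C₃, hC₃⟩ := VolGrowth.hd0_tensor_le k hA hdim hB (VolBig.ne_zero_of_gen hB hgη) hB' hL
  refine ⟨C₁ + C₂ + n * C₃, fun m => ?_⟩
  have hm := isInvertible_tensorPow hL m
  obtain ⟨e₁⟩ := H10Coh.Tw.nonempty_push_tensor_iso f (Coh.structureModule Y) hm
  obtain ⟨e₂⟩ := exists_iso_pullback_tensorPow f hL m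
  have hY : hd k (CohB1.tensorPow ((Scheme.Modules.pullback f).obj L) m) 0 =
      hd k (CohB1.tensorMod P (CohB1.tensorPow L m)) 0 := by
    rw [hd_congr e₁ 0, hd0_push k f hf, hd_congr (H10Coh.Tw.leftUnitIso _ ≪≫ e₂) 0]
  have hfree : hd k (CohB1.tensorMod (FlatMod.freeMod X (genRank P)) (CohB1.tensorPow L m)) 0 =
      n * hd k (CohB1.tensorPow L m) 0 := by rw [hd0_free_tensor k hm, hPr]
  have a1 := (hC₁ m).trans (Nat.add_le_add_right ((hC₂ m).trans_eq (by rw [hfree])) _)
  -- the lower bound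
  let L' := CohB1.tensorMod B' (CohB1.tensorPow L m)
  obtain ⟨ν, hν⟩ := H12Pic.NumTriv.exists_mono_tensor φ (isInvertible_tensor hB' hm)
  haveI := hν
  have a2 : n * hd k L' 0 ≤ hd k (CohB1.tensorMod P (CohB1.tensorPow L m)) 0 := by
    rw [← hPr, ← hd0_free_tensor k (isInvertible_tensor hB' hm)]
    refine (VolGrowth.hd0_le_of_mono k ν (isCoh_tensor hPB (isInvertible_tensor hB' hm))).trans (hd_congr ?_ 0).le
    exact H10Coh.Tw.assoc P B _ ≪≫ PicGrp.tensorModIso (Iso.refl P)
      ((H10Coh.Tw.assoc _ _ _).symm ≪≫ PicGrp.tensorModIso e (Iso.refl _) ≪≫ H10Coh.Tw.leftUnitIso _)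
  have a3 : n * hd k (CohB1.tensorPow L m) 0 ≤ n * (hd k L' 0 + C₃ * ((m + 1) ^ d - m ^ d)) :=
    Nat.mul_le_mul_left n ((hd_congr (H12Pic.NumTriv.swapIso B' (CohB1.tensorPow L m) B ≪≫
      PicGrp.tensorModIso (H10Coh.Tw.commIso B' B ≪≫ e) (Iso.refl _) ≪≫ H10Coh.Tw.leftUnitIso _) 0).ge.trans (hC₃ m))
  rw [hY]
  constructor
  · exact a1.trans (le_of_eq_of_le (by ring) (Nat.add_le_add_left (Nat.mul_le_mul_right _ (Nat.le_add_right _ (n * C₃))) _))
  · rw [Nat.mul_add, ← Nat.mul_assoc] at a3
    refine (a3.trans (Nat.add_le_add_right a2 _)).trans (Nat.add_le_add_left (Nat.mul_le_mul_right _ (Nat.le_add_left _ _)) _)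

end Groth.Agent.H22Alg.VolPush
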