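import Groth.Agent.H22Alg.VolMulti
import Groth.Agent.H17.InvertibleTensor

/-! # Asymptotic cohomology along a lattice of invertible modules. -/

set_option autoImplicit false
set_option linter.style.haveILetI false
set_option linter.unusedSectionVars false

universe u

open CategoryTheory CategoryTheory.Limits AlgebraicGeometry Filter
open scoped ENNReal Nat
open Groth.Agent.H11Ample Groth.Agent.H25Index

noncomputable section

namespace Groth.Agent.H22Alg.VolMultiHhat

open VolHigh (delta)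
open VolMulti

attribute [local instance] Groth.Agent.H28Vert.picLaw

theorem rvol_le_add {n : ℕ} {f g : ℕ → ℕ} (K : ℕ) {Cf Cg : ℕ} (hf : ∀ m, f m ≤ Cf * (m + 1) ^ n)
    (hg : ∀ m, g m ≤ Cg * (m + 1) ^ n) (h : ∀ m, 1 ≤ m → f m ≤ g m + K * m ^ n) :
    VolHhat.rvol n f ≤ VolHhat.rvol n g + (n.factorial : ℝ) * K := by
  have hv : VolLimsup.vol n f ≤ VolLimsup.vol n g + K := by
    have e : limsup (fun m : ℕ => (g m : ℝ≥0∞) / (m : ℝ≥0∞) ^ n + (K : ℝ≥0∞)) atTop ≤
        VolLimsup.vol n g + K :=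
      ((Monotone.map_limsup_of_continuousAt (fun a b h => add_le_add_left h _ : Monotone (fun t : ℝ≥0∞ => t + K))
        (fun m : ℕ => (g m : ℝ≥0∞) / (m : ℝ≥0∞) ^ n) (continuous_add_const (K : ℝ≥0∞)).continuousAt)).ge
    refine le_trans (limsup_le_limsup ?_) e
    filter_upwards [eventually_ge_atTop 1] with m hm
    have hm0 : (m : ℝ≥0∞) ^ n ≠ 0 := pow_ne_zero _ (Nat.cast_ne_zero.2 (by omega))
    have htop : (m : ℝ≥0∞) ^ n ≠ ⊤ := ENNReal.pow_ne_top (ENNReal.natCast_ne_top m)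
    rw [ENNReal.div_le_iff hm0 htop, add_mul, ENNReal.div_mul_cancel hm0 htop]
    exact_mod_cast h m hm
  have hgtop : VolLimsup.vol n g ≠ ⊤ := by
    have hb : VolLimsup.vol n g ≤ ((Cg * 2 ^ n : ℕ) : ℝ≥0∞) := by
      refine limsup_le_of_le (by isBoundedDefault) ?_
      filter_upwards [eventually_ge_atTop 1] with m hm
      have hm0 : (m : ℝ≥0∞) ≠ 0 := Nat.cast_ne_zero.2 (by omega)
      rw [ENNReal.div_le_iff (pow_ne_zero _ hm0) (ENNReal.pow_ne_top (ENNReal.natCast_ne_top m))]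
      have h' : g m ≤ Cg * 2 ^ n * m ^ n := by
        rw [mul_assoc, ← mul_pow]
        exact (hg m).trans (Nat.mul_le_mul_left Cg (Nat.pow_le_pow_left (by omega) n))
      exact_mod_cast h'
    exact ne_top_of_le_ne_top (ENNReal.natCast_ne_top _) hb
  rw [VolHhat.rvol_eq Cf hf, VolHhat.rvol_eq Cg hg, ← mul_add]
  refine mul_le_mul_of_nonneg_left ?_ (Nat.cast_nonneg _)
  have := ENNReal.toReal_mono (ENNReal.add_ne_top.2 ⟨hgtop, ENNReal.natCast_ne_top _⟩) hv
  rwa [ENNReal.toReal_add hgtop (ENNReal.natCast_ne_top _), ENNReal.toReal_natCast] at this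

variable {X : Scheme.{u}} (k : Type u) [Field k] [X.Over (Spec (CommRingCat.of k))]
  [IsProper (X ↘ Spec (CommRingCat.of k))] {r : ℕ} (g : Fin r → PicLoc.PicSet X)

/-- `ĥ^i` at the exponent `x`. -/
def hh (n i : ℕ) (x : Fin r → ℤ) : ℝ := W4c5asymptcohfn.hhat k X n i (rep (z g x))

theorem hd_pow (x : Fin r → ℤ) (m i : ℕ) :
    hd k (CohB1.tensorPow (rep (z g x)) m) i = hd k (rep (z g fun j => (m : ℤ) * x j)) i :=
  hd_congr ((nonempty_rep_iso (H28Vert.isInvertible_tensorPow (isInvertible_rep _) m) (by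
    rw [H28Vert.cls_tensorPow (isInvertible_rep (z g x)) m, cls_rep, z_nsmul])).some) i

theorem hhat_congr {L M : X.Modules} (e : L ≅ M) (n i : ℕ) :
    W4c5asymptcohfn.hhat k X n i L = W4c5asymptcohfn.hhat k X n i M :=
  congrArg (VolHhat.rvol n) (funext fun m => hd_congr (NakaiSemi.nonempty_tensorPow_congr e m).some i)

theorem box_mul {N : ℕ} {x : Fin r → ℤ} (hx : Box N x) (m : ℕ) : Box (m * N) fun j => (m : ℤ) * x j :=
  fun j => by rw [Int.natAbs_mul, Int.natAbs_natCast]; exact Nat.mul_le_mul_left m (hx j)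

variable [IsIntegral X] {A : X.Modules} (hA : CohB1.IsAmple A) {n : ℕ}
  (hn : topologicalKrullDim X ≤ (n : WithBot ℕ∞))
include hA hn

theorem exists_pow_bound (i : ℕ) : ∃ C : ℕ, ∀ N x, Box N x → ∀ m : ℕ,
    hd k (CohB1.tensorPow (rep (z g x)) m) i ≤ C * (m * N + 1) ^ n := by
  haveI := H28Int.isNoetherian k (X := X)
  obtain ⟨C, hC⟩ := VolMulti.bdd k g hA (H10Coh.isCoh_structureModule' X) (d := n) (VolHhat.dim_support_le hn _) i
  refine ⟨C, fun N x hx m => ?_⟩
  rw [hd_pow]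
  exact (hd_congr (H10Coh.Tw.leftUnitIso _) i).ge.trans (hC (m * N) _ (box_mul hx m))

theorem hh_nonneg_bound (i : ℕ) : ∃ C : ℕ, ∀ N x, Box N x → hh k g n i x ≤ (C : ℝ) * (N + 1 : ℕ) ^ n := by
  obtain ⟨C, hC⟩ := exists_pow_bound k g hA hn i
  refine ⟨n.factorial * (C * 2 ^ n), fun N x hx => ?_⟩
  have hf : ∀ m, hd k (CohB1.tensorPow (rep (z g x)) m) i ≤ C * (N + 1) ^ n * (m + 1) ^ n := fun m => by
    rw [mul_assoc, ← mul_pow]
    exact (hC N x hx m).trans (Nat.mul_le_mul_left C (Nat.pow_le_pow_left (by nlinarith) n))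
  have h := rvol_le_add (n := n) (f := fun m => hd k (CohB1.tensorPow (rep (z g x)) m) i) (g := fun _ => 0)
    (C * (N + 1) ^ n * 2 ^ n) hf (Cg := 0) (fun _ => Nat.zero_le _) (fun m hm => by
      rw [zero_add, mul_assoc, ← mul_pow]
      exact (hf m).trans (Nat.mul_le_mul_left _ (Nat.pow_le_pow_left (by omega) n)))
  rw [VolHhat.rvol_eventually_zero (Eventually.of_forall fun _ => rfl), zero_add] at h
  refine h.trans (le_of_eq ?_)
  push_cast
  ring

theorem hh_lipschitz (i : ℕ) : ∃ C : ℕ, ∀ N x y, Box N x → Box N y →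
    |hh k g n i x - hh k g n i y| ≤ (C : ℝ) * (n : ℝ) * (∑ j, (x j - y j).natAbs : ℕ) * (N : ℝ) ^ (n - 1) := by
  obtain ⟨C, hC⟩ := VolMulti.lipschitz k g hA hn i
  obtain ⟨C₀, hC₀⟩ := exists_pow_bound k g hA hn i
  refine ⟨n.factorial * (C * 2 ^ n), ?_⟩
  suffices H : ∀ N x y, Box N x → Box N y →
      hh k g n i x ≤ hh k g n i y +
        (n.factorial * (C * 2 ^ n) : ℕ) * (n : ℝ) * (∑ j, (x j - y j).natAbs : ℕ) * (N : ℝ) ^ (n - 1) by
    intro N x y hx hy
    have h1 := H N x y hx hy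
    have h2 := H N y x hy hx
    have he : ∑ j, (y j - x j).natAbs = ∑ j, (x j - y j).natAbs := Finset.sum_congr rfl fun j _ => by omega
    rw [he] at h2
    rw [abs_le]
    constructor <;> linarith
  intro N x y hx hy
  have hb : ∀ w, Box N w → ∀ m, hd k (CohB1.tensorPow (rep (z g w)) m) i ≤ C₀ * (N + 1) ^ n * (m + 1) ^ n :=
    fun w hw m => by
      rw [mul_assoc, ← mul_pow]
      exact (hC₀ N w hw m).trans (Nat.mul_le_mul_left _ (Nat.pow_le_pow_left (by nlinarith) n))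
  set D := ∑ j, (x j - y j).natAbs with hD
  have h := rvol_le_add (n := n) (f := fun m => hd k (CohB1.tensorPow (rep (z g x)) m) i)
    (g := fun m => hd k (CohB1.tensorPow (rep (z g y)) m) i) (C * (n * 2 ^ n) * D * N ^ (n - 1)) (hb x hx) (hb y hy)
    fun m hm => by
      rw [hd_pow, hd_pow]
      refine (hC (m * N) _ _ (box_mul hx m) (box_mul hy m)).trans (Nat.add_le_add_left ?_ _)
      have hs : ∑ j, ((m : ℤ) * x j - (m : ℤ) * y j).natAbs = m * D := by
        rw [hD, Finset.mul_sum]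
        exact Finset.sum_congr rfl fun j _ => by rw [← mul_sub, Int.natAbs_mul, Int.natAbs_natCast]
      rw [hs]
      rcases Nat.eq_zero_or_pos N with rfl | hN
      · have : D = 0 := Finset.sum_eq_zero fun j _ => by
          have := hx j
          have := hy j
          omega
        rw [this]; simp
      rcases Nat.eq_zero_or_pos n with rfl | hn0
      · simp [delta]
      have h1 := VolLimsup.sub_pow_le n (m * N) (Nat.mul_pos hm hN)
      obtain ⟨n', rfl⟩ : ∃ n', n = n' + 1 := ⟨n - 1, by omega⟩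
      rw [Nat.add_sub_cancel]
      have h2 : delta (n' + 1) (m * N) ≤ (n' + 1) * 2 ^ (n' + 1) * (m * N) ^ n' := by
        refine Nat.le_of_mul_le_mul_left (h1.trans (le_of_eq ?_)) (Nat.mul_pos hm hN)
        ring
      calc m * D * (C * delta (n' + 1) (m * N))
          ≤ m * D * (C * ((n' + 1) * 2 ^ (n' + 1) * (m * N) ^ n')) := Nat.mul_le_mul_left _ (Nat.mul_le_mul_left C h2)
        _ = _ := by ring
  refine h.trans (le_of_eq (congrArg₂ (· + ·) rfl ?_))
  push_cast
  ring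

omit hA hn [IsIntegral X] in
theorem ztwist_iso {L M : Fin r → X.Modules} (hL : ∀ j, PicF.IsInvertible (L j))
    (hM : ∀ j, ClSub.IsInverseOf (L j) (M j)) (a : Fin r → ℤ) :
    Nonempty (W4c5asymptcohfn.ztwist X L M a ≅ rep (z (fun j => PicGrp.cls (L j) (hL j)) a)) := by
  have hM' : ∀ j, PicF.IsInvertible (M j) := fun j => by
    obtain ⟨e⟩ := hM j
    exact H17.InvertibleTensor.isInvertible_of_tensor_iso (M j) (L j) (H10Coh.Tw.commIso _ _ ≪≫ e)
  obtain ⟨h₁, e₁⟩ := H28Vert.cls_multiTwist hL (fun j => (a j).toNat)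
  obtain ⟨h₂, e₂⟩ := H28Vert.cls_multiTwist hM' (fun j => (-(a j)).toNat)
  refine nonempty_rep_iso (H11Ample.isInvertible_tensor h₁ h₂) ?_
  show PicGrp.cls (CohB1.tensorMod _ _) (H11Ample.isInvertible_tensor h₁ h₂) = _
  have hmul : PicGrp.cls (CohB1.tensorMod (FGA.multiTwist L fun j => (a j).toNat) (FGA.multiTwist M fun j => (-(a j)).toNat)) (H11Ample.isInvertible_tensor h₁ h₂) =
      PicGrp.cls _ h₁ * PicGrp.cls _ h₂ := Subtype.ext (PicGrp.cls_mul_cls_val h₁ h₂).symm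
  rw [hmul, e₁, e₂, z, ← Finset.prod_mul_distrib]
  refine Finset.prod_congr rfl fun j _ => ?_
  rw [← PicGrp.cls_inv_eq_cls (hL j) (hM' j) (hM j), ← zpow_natCast, ← zpow_natCast, inv_zpow', ← zpow_add]
  congr 1
  omega

end Groth.Agent.H22Alg.VolMultiHhat
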