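import Groth.Agent.LeadBC.SeesawBC
import Groth.Agent.S11133
import Groth.Agent.H29RR.FiniteGen
import Groth.Agent.H10Inj.GGOn
import Groth.Agent.H06Mod.StalkFaithful

/-! # Global sections and generation under flat base change over an affine base. -/

set_option autoImplicit false
set_option linter.style.haveILetI false

universe u

open CategoryTheory CategoryTheory.Limits AlgebraicGeometry Opposite TopologicalSpace
open scoped TensorProduct

noncomputable section

namespace Groth.Agent.H22Alg.GGDescent

open Groth.Agent.LeadBC Groth.Agent.LeadBC.GenBC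

attribute [local instance 10000] H10Coh.hasSheafifyAb H10Coh.hasWeakSheafifyAb H10Coh.hasExtAb H10Coh.enoughInjAb
attribute [local instance] H06Mod.stalkAlgebra

variable {A A' : Type u} [CommRing A] [CommRing A'] [Algebra A A'] {X X' : Scheme.{u}}
  {f : X ⟶ Spec (CommRingCat.of A)} {f' : X' ⟶ Spec (CommRingCat.of A')} {g' : X' ⟶ X}

/-- Global sections of the pull-back are spanned by pulled back global sections. -/
theorem global_mem_span [Module.Flat A A'] [QuasiCompact f] [QuasiSeparated f]
    (h : IsPullback g' f' f (Spec.map (CommRingCat.ofHom (algebraMap A A'))))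
    (F : X.Modules) (hF : Coh.IsQCoh F) (σ : Γ((Scheme.Modules.pullback g').obj F, (⊤ : X'.Opens))) :
    σ ∈ Submodule.span Γ(X', ⊤)
      (Set.range fun m : Γ(F, (⊤ : X.Opens)) => (show Γ((Scheme.Modules.pullback g').obj F, (⊤ : X'.Opens)) from
        OmegaSh.pullSect g' F ⊤ m)) := by
  let g := Spec.map (CommRingCat.ofHom (algebraMap A A'))
  haveI : F.IsQuasicoherent := hF
  haveI : Coh.IsQCoh F := hF
  haveI : Flat g := Flat.SpecMap_iff.2 (RingHom.flat_algebraMap_iff.2 inferInstance)
  haveI : IsIso (((Scheme.Modules.pullbackPushforwardAdjunction g).homEquiv _ _).symm (GenBC.τ₀ f F h)) := by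
    rw [← Seesaw.bc0Adj_eq f h F]
    have h0 := Groth.Agent.S11133.result f g g' f' h F
    rw [CohBC.bc0Adj, Adjunction.homEquiv_counit]
    simp only [Functor.map_comp, Category.assoc] at h0 ⊢
    simpa only [Iso.trans_hom, NatTrans.comp_app, Iso.symm_hom, Functor.map_comp, Category.assoc] using h0
  have hle : (⊤ : (Spec (CommRingCat.of A')).Opens) ≤ g ⁻¹ᵁ (⊤ : (Spec (CommRingCat.of A)).Opens) := fun _ _ => trivial
  have hle' : f' ⁻¹ᵁ (⊤ : (Spec (CommRingCat.of A')).Opens) ≤ g' ⁻¹ᵁ (f ⁻¹ᵁ (⊤ : (Spec (CommRingCat.of A)).Opens)) :=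
    fun _ _ => trivial
  letI := (g.appLE ⊤ ⊤ hle).hom.toAlgebra
  let P := (Scheme.Modules.pushforward f').obj ((Scheme.Modules.pullback g').obj F)
  letI := Module.compHom Γ(P, ⊤) (g.appLE ⊤ ⊤ hle).hom
  haveI : IsScalarTower Γ(Spec (CommRingCat.of A), ⊤) Γ(Spec (CommRingCat.of A'), ⊤) Γ(P, ⊤) :=
    .of_algebraMap_smul fun _ _ => rfl
  obtain ⟨c, hc, hcf⟩ := exists_transpose_app g (H10Coh.isQuasicoherent_pushforward f F) (GenBC.τ₀ f F h)
    (isAffineOpen_top _) (isAffineOpen_top _) hle
  obtain ⟨z', hz'⟩ := (ConcreteCategory.bijective_of_isIso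
    ((((Scheme.Modules.pullbackPushforwardAdjunction g).homEquiv _ _).symm (GenBC.τ₀ f F h)).app ⊤)).2
      (show Γ(P, ⊤) from σ)
  obtain ⟨z, rfl⟩ := hc.2 z'
  have key := (congrFun hcf z).symm
  simp only [Function.comp_apply] at key
  erw [key] at hz'
  subst hz'
  clear key
  induction z using TensorProduct.induction_on with
  | zero => rw [map_zero]; exact zero_mem _
  | add a b ha hb => rw [map_add]; exact add_mem ha hb
  | tmul b m =>
    rw [LinearMap.liftBaseChange_tmul]
    have e := Seesaw.locLin_τ₀ f F h hle hle' m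
    have hmem : (show Γ((Scheme.Modules.pullback g').obj F, (⊤ : X'.Opens)) from
        H10Coh.FBC.locLin g (GenBC.τ₀ f F h) hle m) ∈ Submodule.span Γ(X', ⊤)
          (Set.range fun m : Γ(F, (⊤ : X.Opens)) => (show Γ((Scheme.Modules.pullback g').obj F, (⊤ : X'.Opens)) from
            OmegaSh.pullSect g' F ⊤ m)) := Submodule.subset_span ⟨m, ((e.trans (H10Coh.mres_self _ _ _))).symm⟩
    exact Submodule.smul_mem _ (show Γ(X', (⊤ : X'.Opens)) from f'.app ⊤ b) hmem

/-- Global generation descends along a faithfully flat extension of the affine base. -/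
theorem isGloballyGenerated_descend [Module.FaithfullyFlat A A'] [QuasiCompact f] [QuasiSeparated f]
    (h : IsPullback g' f' f (Spec.map (CommRingCat.ofHom (algebraMap A A'))))
    (F : X.Modules) (hF : Coh.IsQCoh F)
    (hg : Curv2.IsGloballyGenerated ((Scheme.Modules.pullback g').obj F)) : Curv2.IsGloballyGenerated F := by
  refine H10Inj.GGOn.isGloballyGenerated_of_spansAt F fun x => ?_
  obtain ⟨h1, h2⟩ := (flat_and_surjective_SpecMap_iff (CommRingCat.ofHom (algebraMap A A'))).2
    (RingHom.faithfullyFlat_algebraMap_iff.2 inferInstance)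
  haveI := h1
  haveI := h2
  haveI : Flat g' := MorphismProperty.of_isPullback (P := @Flat) h.flip inferInstance
  haveI : Surjective g' := MorphismProperty.of_isPullback (P := @Surjective) h.flip inferInstance
  obtain ⟨x', rfl⟩ := g'.surjective x
  haveI := H06Mod.faithfullyFlat_stalk g' x'
  let O := X.presheaf.stalk (g' x')
  let O' := X'.presheaf.stalk x'
  let N : Submodule O (F.presheaf.stalk (g' x')) :=
    Submodule.span O (Set.range fun m : Γ(F, ⊤) => F.presheaf.germ ⊤ (g' x') trivial m)
  suffices hs : Function.Surjective N.subtype by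
    show N = ⊤
    rw [← Submodule.range_subtype N]
    exact LinearMap.range_eq_top.2 hs
  rw [← Module.FaithfullyFlat.lTensor_surjective_iff_surjective O O']
  let T := (H06Mod.pullStalkLin g' F x').comp (N.subtype.baseChange O')
  have hT : LinearMap.range T = ⊤ := by
    refine eq_top_iff.2 ((H29RR.spansAt_of_globallyGenerated hg x').ge.trans (Submodule.span_le.2 ?_))
    rintro _ ⟨σ, rfl⟩
    change ((Scheme.Modules.pullback g').obj F).presheaf.germ ⊤ x' trivial σ ∈ LinearMap.range T
    induction global_mem_span h F hF σ using Submodule.span_induction with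
    | mem y hy =>
      obtain ⟨m, rfl⟩ := hy
      refine ⟨1 ⊗ₜ (⟨_, Submodule.subset_span ⟨m, rfl⟩⟩ : N), ?_⟩
      show H06Mod.pullStalkLin g' F x' (1 ⊗ₜ F.presheaf.germ ⊤ (g' x') trivial m) = _
      rw [H06Mod.pullStalkLin_tmul, one_smul]
      exact H06Mod.pullStalk_germ g' F x' ⊤ trivial m
    | zero => erw [map_zero]; exact zero_mem _
    | add a b _ _ ha hb => erw [map_add]; exact add_mem ha hb
    | smul r a _ ha =>
      erw [H06Mod.germ_smul]
      exact Submodule.smul_mem _ _ ha
  intro z
  obtain ⟨w, hw⟩ := LinearMap.range_eq_top.1 hT (H06Mod.pullStalkLin g' F x' z)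
  refine ⟨w, (H06Mod.pullStalkLin_bijective g' F x').1 ?_⟩
  exact hw

theorem isGloballyGenerated_pullback {X Y : Scheme.{u}} (f : X ⟶ Y) {M : Y.Modules}
    (h : Curv2.IsGloballyGenerated M) : Curv2.IsGloballyGenerated ((Scheme.Modules.pullback f).obj M) := by
  obtain ⟨I, p, hp⟩ := h
  haveI : @Epi Y.Modules _ _ _ p := hp
  haveI : (Scheme.Modules.pullback f).IsLeftAdjoint :=
    (Scheme.Modules.pullbackPushforwardAdjunction f).isLeftAdjoint
  haveI : (Scheme.Modules.pullback f).PreservesEpimorphisms :=
    Functor.preservesEpimorphisms_of_adjunction (Scheme.Modules.pullbackPushforwardAdjunction f)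
  haveI : PreservesColimitsOfSize.{u, u} (Scheme.Modules.pullback f) :=
    (Scheme.Modules.pullbackPushforwardAdjunction f).leftAdjoint_preservesColimits
  let e : (Scheme.Modules.pullback f).obj (∐ fun _ : I => Coh.structureModule Y) ≅
      ∐ fun _ : I => Coh.structureModule X :=
    (PreservesCoproduct.iso (Scheme.Modules.pullback f) fun _ : I => Coh.structureModule Y) ≪≫
      Sigma.mapIso fun _ => H16Derived.KFlat.Stalk.structurePullbackIso f
  let p' : (∐ fun _ : I => Coh.structureModule Y) ⟶ M := p
  haveI : Epi p' := hp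
  haveI : Epi ((Scheme.Modules.pullback f).map p') := (Scheme.Modules.pullback f).map_epi p'
  exact ⟨I, e.inv ≫ (Scheme.Modules.pullback f).map p', @epi_comp _ _ _ _ _ e.inv inferInstance _ ‹_›⟩

end Groth.Agent.H22Alg.GGDescent
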