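import Mathlib
import Groth.Agent.H22Alg.ESZConn
import Groth.Agent.H10Coh.Stab.MulStalk
import Groth.Agent.H17.AssPts

/-!
# Vanishing of very negative twists forces depth at the closed points
-/

set_option autoImplicit false
set_option linter.style.haveILetI false

universe u

open CategoryTheory CategoryTheory.Limits AlgebraicGeometry Opposite TopologicalSpace
open scoped Pointwise

namespace Groth.Agent.H22Alg.ESZ

/-- A closed associated point is witnessed by a global section. -/
theorem exists_global_of_ass {X : Scheme.{u}} [IsLocallyNoetherian X] (F : X.Modules) (hF : Coh.IsQCoh F) {x : X}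
    (hx : x ∈ AssSch.Ass F) (hc : IsClosed ({x} : Set X)) :
    ∃ t : Γ(F, ⊤), F.presheaf.germ ⊤ x trivial t ≠ 0 := by
  obtain ⟨V, hV, hxV, s, -, hne, hzero⟩ := H17.AssPts.exists_section_of_ass F hx (O := ⊤) trivial
  let W : X.Opens := ⟨{x}ᶜ, hc.isOpen_compl⟩
  obtain ⟨w, hw, -⟩ := H10Coh.glue_two F (U := V) (V := W) s 0 (NegTwist.sec_ext fun z hz => by
    show F.presheaf.germ (V ⊓ W) z hz (F.presheaf.map (homOfLE inf_le_left).op s) =
      F.presheaf.germ (V ⊓ W) z hz (F.presheaf.map (homOfLE inf_le_right).op 0)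
    rw [TopCat.Presheaf.germ_res_apply, map_zero, map_zero]
    have hsp : ¬ x ⤳ z := fun h => hz.2 (hc.closure_subset_iff.2 (subset_refl _) (specializes_iff_mem_closure.1 h))
    obtain ⟨t, hzt, -, n, hn⟩ := hzero z hz.1 hsp
    have := congrArg (F.presheaf.germ V z hz.1) hn
    rw [H06Mod.germ_smul, map_pow, map_zero] at this
    exact (((X.mem_basicOpen t z hz.1).1 hzt).pow n).smul_eq_zero.1 this)
  have htop : (⊤ : X.Opens) ≤ V ⊔ W := fun z _ => by
    by_cases h : z = x
    · exact Or.inl (h ▸ hxV)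
    · exact Or.inr h
  refine ⟨F.presheaf.map (homOfLE htop).op w, ?_⟩
  rw [TopCat.Presheaf.germ_res_apply,
    ← TopCat.Presheaf.germ_res_apply F.presheaf (homOfLE (le_sup_left : V ≤ V ⊔ W)) x hxV]
  exact (congrArg (fun a => F.presheaf.germ V x hxV a) hw).trans_ne hne

variable {r : ℕ} {k : Type u} [Field k]

local notation "P" => CohB1.ProjSpace r k

attribute [local instance] isNoetherian_proj isSeparated_proj

theorem van_shift {i : ℕ} {F : (CohB1.ProjSpace r k).Modules} (h : Van r k i F) (a : ℕ) :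
    Van r k i (CohB1.tensorMod F (CohB1.tensorPow (Twist.twistProjSpace r k 1) a)) := by
  obtain ⟨m₀, h⟩ := h
  refine ⟨m₀ + a, fun m hm => ?_⟩
  obtain ⟨d, rfl⟩ := Nat.exists_eq_add_of_le (show a ≤ m by omega)
  obtain ⟨e₁⟩ := (hO r k).nonempty_tensorPow a
  obtain ⟨e₂⟩ := (hO r k).add (a : ℤ) (-((a + d : ℕ) : ℤ))
  refine subsingleton_HH_iso ?_ (h d (by omega))
  exact (H10Coh.Tw.assoc _ _ _ ≪≫ PicGrp.tensorModIso (Iso.refl F)
    (PicGrp.tensorModIso e₁ (Iso.refl _) ≪≫ e₂ ≪≫
      eqToIso (congrArg (fun b => Twist.twistProjSpace r k b) (show (a : ℤ) + -((a + d : ℕ) : ℤ) = -(d : ℤ) by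
        push_cast; ring)))).symm

/-- Vanishing forces depth. -/
theorem depth_of_van (hr : 1 ≤ r) (n : ℕ) : ∀ F : (CohB1.ProjSpace r k).Modules, Coh.IsCoh F →
    (∀ i ≤ n, Van r k i F) → ∀ x : P, IsClosed ({x} : Set P) →
      (n : ℕ∞) < LocCoh.depth ((P).presheaf.stalk x) (F.presheaf.stalk x) := by
  have base : ∀ F : (CohB1.ProjSpace r k).Modules, Coh.IsCoh F → Van r k 0 F →
      ∀ x : P, IsClosed ({x} : Set P) → x ∉ AssSch.Ass F := by
    intro F hF hv x hx hass
    obtain ⟨m₀, hv⟩ := hv
    let G := CohB1.tensorMod F (Twist.twistProjSpace r k (-(m₀ : ℤ)))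
    have hG : Coh.IsCoh G := H11Ample.isCoh_tensor hF (hinvertible r k _)
    obtain ⟨t, ht⟩ := exists_global_of_ass G hG.1
      ((NegTwist.mem_ass_tensor (hinvertible r k _) F).symm ▸ hass) hx
    haveI hsub : Subsingleton Γ(G, ⊤) :=
      (H10Coh.HH0Equiv G).toEquiv.symm.subsingleton_congr.2 (hv m₀ le_rfl)
    exact ht (by rw [Subsingleton.elim t 0, map_zero])
  have base' : ∀ F : (CohB1.ProjSpace r k).Modules, Coh.IsCoh F → Van r k 0 F →
      ∀ x : P, IsClosed ({x} : Set P) →
        (0 : ℕ∞) < LocCoh.depth ((P).presheaf.stalk x) (F.presheaf.stalk x) := by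
    intro F hF hv x hx
    refine pos_iff_ne_zero.2 fun h0 => ?_
    haveI := H29Ref.finite_stalk F hF.2 x
    rcases subsingleton_or_nontrivial (F.presheaf.stalk x) with hs | hs
    · have hd : LocCoh.depth ((P).presheaf.stalk x) (F.presheaf.stalk x) = ⊤ :=
        H4Depth.idealDepth_eq_top (Subsingleton.elim _ _)
      rw [hd] at h0
      exact WithTop.top_ne_zero h0
    obtain ⟨p, hp, hle⟩ := (H4Depth.idealDepth_eq_zero_iff_exists_associatedPrime
      (Submodule.top_ne_ideal_smul_of_le_jacobson_annihilator (IsLocalRing.maximalIdeal_le_jacobson _)).symm).1 h0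
    obtain rfl := ((IsLocalRing.maximalIdeal.isMaximal _).eq_of_le hp.isPrime.ne_top hle).symm
    exact base F hF hv x hx hp
  induction n with
  | zero => intro F hF hv x hx; exact_mod_cast base' F hF (hv 0 le_rfl) x hx
  | succ n ih =>
    intro F hF hv x hx
    let L := Twist.twistProjSpace r k 1
    have hA := isAmple_one (k := k) hr
    let U : (P).Opens := ⟨{x}ᶜ, hx.isOpen_compl⟩
    obtain ⟨a, g, -, hAss, hgU, -⟩ := H11Ample.exists_affine_gen_nhd_finite hA (U := U)
      (H17.PrimaryDecomp.finite_ass hF) (fun y hy (h : y ∈ ({x} : Set P)) =>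
        base F hF (hv 0 (Nat.zero_le _)) x hx (Set.mem_singleton_iff.1 h ▸ hy))
    let La := CohB1.tensorPow L a
    have hLa : PicF.IsInvertible La := H11Ample.isInvertible_tensorPow (hinvertible r k 1) a
    let μ := H25Euler.mulHom F (H11Tilde.homOfGlobal La g)
    haveI hμ : Mono μ := by
      refine H11Tilde.mono_of_injective _ fun W t ht y hy => ?_
      by_cases hne : F.presheaf.germ W y hy t = 0
      · obtain ⟨V, hyV, iV, iW, hV⟩ := F.presheaf.germ_eq y hy hy t 0 (hne.trans (map_zero _).symm)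
        exact ⟨V, iV.le, hyV, Eq.trans hV (map_zero _)⟩
      · exfalso
        obtain ⟨W', hW', hyW', hsub⟩ := exists_isAffineOpen_mem_and_subset (U := W) (x := y) hy
        have hW'W : W' ≤ W := hsub
        obtain ⟨z, hzW, hz, -, hzne⟩ := H17.AssPts.exists_ass_specializes_of_germ F hF.1 hW' hyW'
          (s := F.presheaf.map (homOfLE hW'W).op t) (by rwa [TopCat.Presheaf.germ_res_apply])
        rw [TopCat.Presheaf.germ_res_apply] at hzne
        haveI := H25Euler.isIso_stalk_mulHom F (H11Tilde.homOfGlobal La g) (hAss hz)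
        refine hzne ((ConcreteCategory.bijective_of_isIso ((DerSch.stalkFunctor P z).map μ)).1 ?_)
        refine (H10Coh.germ_app μ W z (hW'W hzW) t).trans ?_
        rw [show μ.app W t = 0 from ht, map_zero]
        exact (map_zero ((DerSch.stalkFunctor P z).map μ).hom).symm
    have hS : (ShortComplex.mk μ (cokernel.π μ) (cokernel.condition μ)).ShortExact :=
      ShortComplex.ShortExact.mk' (ShortComplex.exact_cokernel μ) inferInstance inferInstance
    have hT : Coh.IsCoh (CohB1.tensorMod F La) := H11Ample.isCoh_tensor hF hLa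
    have hQ : Coh.IsCoh (cokernel μ) := H10Coh.isCoh_cokernel μ hF.1 hT
    have hvQ : ∀ i ≤ n, Van r k i (cokernel μ) := fun i hi =>
      van_X₃ (S := ShortComplex.mk μ (cokernel.π μ) (cokernel.condition μ)) hS
        (van_shift (hv i (by omega)) a) (hv (i + 1) (by omega))
    have hdQ := ih (cokernel μ) hQ hvQ x hx
    obtain ⟨V, hxV, c, hc, i, hi⟩ := H10Coh.Stab.exists_mulHom_smul F hLa (H11Tilde.homOfGlobal La g) x
    let R := (P).presheaf.stalk x
    let c' : R := (P).presheaf.germ V x hxV c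
    have hcm : c' ∈ IsLocalRing.maximalIdeal R := by
      rw [IsLocalRing.mem_maximalIdeal]
      intro hu
      have : x ∈ (P).basicOpen c := ((P).mem_basicOpen c x hxV).2 hu
      rw [hc] at this
      exact hgU this.1 rfl
    have hinj := H06Mod.stalk_injective _ hS x
    have hμx : ∀ v, H06Mod.stalkLin μ x v = c' • i.hom v := fun v => congr($hi v)
    have hreg : IsSMulRegular (F.presheaf.stalk x) c' := fun v w hvw => hinj (by
      show H06Mod.stalkLin μ x v = H06Mod.stalkLin μ x w
      rw [hμx, hμx, ← map_smul i.hom.hom, ← map_smul i.hom.hom]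
      exact congrArg _ hvw)
    haveI := H29Ref.finite_stalk F hF.2 x
    let π : F.presheaf.stalk x →ₗ[R] (cokernel μ).presheaf.stalk x :=
      (H06Mod.stalkLin (cokernel.π μ) x) ∘ₗ i.toLinearEquiv.toLinearMap
    have hπ : Function.Surjective π :=
      (H06Mod.stalk_surjective _ hS x).comp i.toLinearEquiv.surjective
    have hker : LinearMap.ker π = c' • (⊤ : Submodule R (F.presheaf.stalk x)) := by
      ext v
      rw [Submodule.mem_smul_pointwise_iff_exists, LinearMap.mem_ker]
      constructor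
      · intro hv
        obtain ⟨w, hw⟩ := (H06Mod.stalk_exact _ hS x _).1 hv
        refine ⟨w, trivial, i.toLinearEquiv.injective ?_⟩
        exact (map_smul i.toLinearEquiv c' w).trans ((hμx w).symm.trans hw)
      · rintro ⟨w, -, rfl⟩
        refine (H06Mod.stalk_exact _ hS x _).2 ⟨w, ?_⟩
        show H06Mod.stalkLin μ x w = i.toLinearEquiv (c' • w)
        exact (hμx w).trans (map_smul i.toLinearEquiv c' w).symm
    let eQ : QuotSMulTop c' (F.presheaf.stalk x) ≃ₗ[R] (cokernel μ).presheaf.stalk x :=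
      (Submodule.quotEquivOfEq _ _ hker.symm).trans (LinearMap.quotKerEquivOfSurjective π hπ)
    have := H4Depth.idealDepth_quotSMulTop_add_one (I := IsLocalRing.maximalIdeal R) hcm hreg
    rw [show LocCoh.depth R (F.presheaf.stalk x) =
      LocCoh.idealDepth (IsLocalRing.maximalIdeal R) (F.presheaf.stalk x) from rfl, ← this]
    push_cast
    refine (ENat.add_lt_add_iff_right ENat.one_ne_top).2 ?_
    exact hdQ.trans_eq (H4Depth.idealDepth_congr _ eQ).symm

end Groth.Agent.H22Alg.ESZ
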