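import Mathlib
import Groth.Agent.H22Alg.ESZConverse
import Groth.Agent.H22Alg.ESZPush
import Groth.Agent.H06EGA9.StructureStalk
import Groth.Agent.H05EGA4.DimFibre

/-!
# The Cohen–Macaulay criterion by negative twists on a closed subscheme of projective space
-/

set_option autoImplicit false
set_option linter.style.haveILetI false

universe u

open CategoryTheory CategoryTheory.Limits AlgebraicGeometry Opposite TopologicalSpace

namespace Groth.Agent.H22Alg.ESZCM

/-- The stalk of the structure module has the depth of the local ring. -/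
theorem depth_structure {X : Scheme.{u}} (x : X) :
    LocCoh.depth (X.presheaf.stalk x) ((Coh.structureModule X).presheaf.stalk x) =
      LocCoh.depth (X.presheaf.stalk x) (X.presheaf.stalk x) :=
  H4Depth.depth_congr (LinearEquiv.ofBijective
    (LinearMap.toSpanSingleton (X.presheaf.stalk x) _ (H06EGA9.oneStalk x))
    (H06EGA9.bijective_smul_oneStalk x)).symm

/-- A locally free module has at least the depth of the local ring. -/
theorem depth_le_finLocFree {X : Scheme.{u}} [IsLocallyNoetherian X] {E : X.Modules}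
    (hE : FlatMod.IsFinLocFree E) (x : X) :
    LocCoh.depth (X.presheaf.stalk x) (X.presheaf.stalk x) ≤
      LocCoh.depth (X.presheaf.stalk x) (E.presheaf.stalk x) := by
  haveI := H29Ref.finite_stalk _ (H10Coh.Tw.isCoh_of_vb hE).2 x
  haveI := H8Props.FinLocFree.free_stalk _ hE x
  obtain ⟨p, ⟨b⟩⟩ : ∃ q, Nonempty (Module.Basis (Fin q) (X.presheaf.stalk x) ((E).presheaf.stalk x)) :=
    ⟨_, ⟨Module.finBasis _ _⟩⟩
  exact (H4Depth.idealDepth_le_idealDepth_pi _ p).trans
    (H4Depth.idealDepth_congr _ b.equivFun.symm).le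

variable {k : Type u} [Field k] {N : ℕ} {X : Scheme.{u}}

attribute [local instance] ESZ.isNoetherian_proj ESZ.isSeparated_proj

/-- Vanishing of the negative twists of the structure sheaf bounds the depth from below. -/
theorem depth_of_twists (hN : 1 ≤ N) (i : X ⟶ CohB1.ProjSpace N k) [IsClosedImmersion i] (n : ℕ)
    (h : ∃ q₀ : ℕ, ∀ q : ℕ, q₀ ≤ q → ∀ j : ℕ, j ≤ n →
        Subsingleton (Coh.HH X (CohB1.tensorMod (Coh.structureModule X)
          ((Scheme.Modules.pullback i).obj (Twist.twistProjSpace N k (-(q : ℤ))))) j))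
    (x : X) (hx : IsClosed ({x} : Set X)) :
    (n : ℕ∞) < LocCoh.depth (X.presheaf.stalk x) (X.presheaf.stalk x) := by
  haveI : IsLocallyNoetherian X := LocallyOfFiniteType.isLocallyNoetherian i
  let G := Coh.structureModule X
  have hG : Coh.IsCoh G := H10Coh.isCoh_structureModule' X
  let F := (Scheme.Modules.pushforward i).obj G
  have hF : Coh.IsCoh F := H10Coh.isCoh_push_of_isFinite i _ hG
  obtain ⟨q₀, h⟩ := h
  have hv : ∀ j ≤ n, ESZ.Van N k j F := fun j hj => ⟨q₀, fun m hm => by
    have hinv := H11Ample.isInvertible_pullback i (ESZ.hinvertible N k (-(m : ℤ)))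
    have hq := (H11Ample.isCoh_tensor hG hinv).1
    haveI : (CohB1.tensorMod G ((Scheme.Modules.pullback i).obj (Twist.twistProjSpace N k (-(m : ℤ))))).IsQuasicoherent := hq
    obtain ⟨e⟩ := H10Coh.Tw.nonempty_push_tensor_iso i G (ESZ.hinvertible N k (-(m : ℤ)))
    exact ESZ.subsingleton_HH_iso e.symm
      (ESZ.fromM ((H10Coh.affineLerayEquiv i _ j ⊤).toEquiv.subsingleton_congr.2 (ESZ.toM (h m hm j hj))))⟩
  have hy : IsClosed ({i.base x} : Set (CohB1.ProjSpace N k)) := by
    simpa using i.isClosedEmbedding.isClosedMap _ hx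
  have := ESZ.depth_of_van hN n F hF hv (i.base x) hy
  rwa [ESZ.depth_push i G x, depth_structure] at this

end Groth.Agent.H22Alg.ESZCM
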