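import Mathlib
import Groth.Agent.H22Alg.SamuelGrowth

/-!
The associativity formula for Hilbert–Samuel multiplicities.
-/

universe u

namespace Groth.Agent.H22Alg

open Filter

variable {A : Type u} [CommRing A]

/-- The length of the localisation of `M` at `p`, as a real number. -/
noncomputable def locLenAt (M : Type u) [AddCommGroup M] [Module A M] (p : PrimeSpectrum A) : ℝ :=
  ((Module.length (Localization.AtPrime p.asIdeal) (LocalizedModule p.asIdeal.primeCompl M)).toNat : ℝ)

theorem locLenAt_eq_zero {M : Type u} [AddCommGroup M] [Module A M] {p : PrimeSpectrum A}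
    (hp : p ∉ Module.support A M) : locLenAt M p = 0 := by
  have : Subsingleton (LocalizedModule p.asIdeal.primeCompl M) := Module.notMem_support_iff.mp hp
  simp [locLenAt]

theorem quotient_le_supportDim {M : Type u} [AddCommGroup M] [Module A M] {q : PrimeSpectrum A}
    (hq : q ∈ Module.support A M) : ringKrullDim (A ⧸ q.asIdeal) ≤ Module.supportDim A M := by
  rw [← Module.supportDim_quotient_eq_ringKrullDim]
  refine Order.krullDim_le_of_strictMono (fun a => ⟨a.1, Module.mem_support_mono ?_ hq⟩) fun _ _ h => h
  have h := Module.mem_support_iff_of_finite.mp a.2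
  rw [Ideal.annihilator_quotient] at h
  exact h

theorem finsum_prop_zero {P : Prop} {c : ℝ} (h : P → c = 0) : ∑ᶠ _ : P, c = 0 := by
  classical
  rw [finsum_eq_if]
  split_ifs with hP
  · exact h hP
  · rfl

/-- A prime of top dimension in the support is minimal in the support. -/
theorem eq_of_le_of_dim_eq {M : Type u} [AddCommGroup M] [Module A M] {d : ℕ}
    (hd : Module.supportDim A M ≤ d) {p q : PrimeSpectrum A} (hq : q ∈ Module.support A M)
    (hle : q ≤ p) (hp : ringKrullDim (A ⧸ p.asIdeal) = d) : q = p := by
  by_contra hne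
  obtain ⟨x, hxp, hxq⟩ := SetLike.exists_of_lt (show q.asIdeal < p.asIdeal from lt_of_le_of_ne hle fun h => hne (PrimeSpectrum.ext h))
  have h1 : ringKrullDim (A ⧸ p.asIdeal) + 1 ≤ ringKrullDim (A ⧸ q.asIdeal) :=
    ringKrullDim_succ_le_of_surjective (Ideal.Quotient.factor hle) (Ideal.Quotient.factor_surjective hle)
      (r := Ideal.Quotient.mk _ x)
      (mem_nonZeroDivisors_of_ne_zero (by rwa [ne_eq, Ideal.Quotient.eq_zero_iff_mem]))
      (by rw [Ideal.Quotient.factor_mk, Ideal.Quotient.eq_zero_iff_mem]; exact hxp)
  rw [hp] at h1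
  have h2 := h1.trans ((quotient_le_supportDim hq).trans hd)
  exact absurd h2 (by exact_mod_cast Nat.not_succ_le_self d)

theorem finite_top_support [IsNoetherianRing A] {M : Type u} [AddCommGroup M] [Module A M]
    [Module.Finite A M] {d : ℕ} (hd : Module.supportDim A M ≤ d) :
    {p : PrimeSpectrum A | p ∈ Module.support A M ∧ ringKrullDim (A ⧸ p.asIdeal) = d}.Finite := by
  refine Set.Finite.of_finite_image
    (Set.Finite.subset (Ideal.finite_minimalPrimes_of_isNoetherianRing A (Module.annihilator A M)) ?_)
    (Set.injOn_of_injective fun a b h => PrimeSpectrum.ext h)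
  rintro _ ⟨p, ⟨hp, hdim⟩, rfl⟩
  have hle := Module.mem_support_iff_of_finite.mp hp
  obtain ⟨q, hq, hqle⟩ := Ideal.exists_minimalPrimes_le hle
  have := eq_of_le_of_dim_eq hd (q := ⟨q, hq.1.1⟩) (Module.mem_support_iff_of_finite.mpr hq.1.2) hqle hdim
  exact this ▸ hq

theorem locLenAt_add [IsNoetherianRing A] {M' M M'' : Type u} [AddCommGroup M'] [Module A M']
    [AddCommGroup M] [Module A M] [AddCommGroup M''] [Module A M''] [Module.Finite A M]
    (f : M' →ₗ[A] M) (g : M →ₗ[A] M'') (hf : Function.Injective f) (hg : Function.Surjective g)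
    (hfg : Function.Exact f g) (p : PrimeSpectrum A)
    (hmin : ∀ q ∈ Module.support A M, q ≤ p → q = p) :
    locLenAt M p = locLenAt M' p + locLenAt M'' p := by
  let S := p.asIdeal.primeCompl
  have h := Module.length_eq_add_of_exact (R := Localization.AtPrime p.asIdeal)
    (LocalizedModule.map S f) (LocalizedModule.map S g)
    (LocalizedModule.map_injective S f hf) (LocalizedModule.map_surjective S g hg)
    (LocalizedModule.map_exact S f g hfg)
  have hfin := length_localized_ne_top (M := M) p hmin
  rw [h] at hfin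
  simp only [ne_eq, ENat.add_eq_top, not_or] at hfin
  rw [locLenAt, locLenAt, locLenAt, h, ENat.toNat_add hfin.1 hfin.2, Nat.cast_add]

theorem locLenAt_quotient_self (p : PrimeSpectrum A) : locLenAt (A ⧸ p.asIdeal) p = 1 := by
  let S := p.asIdeal.primeCompl
  have : IsSimpleModule (Localization.AtPrime p.asIdeal) (LocalizedModule S (A ⧸ p.asIdeal)) := by
    rw [isSimpleModule_iff_toSpanSingleton_surjective]
    refine ⟨?_, fun x hx => ?_⟩
    · refine Module.mem_support_iff.mp ?_
      rw [Module.mem_support_iff_of_finite, Ideal.annihilator_quotient]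
    · induction x using LocalizedModule.induction_on with
      | _ a s =>
        obtain ⟨a, rfl⟩ := Ideal.Quotient.mk_surjective a
        have ha : a ∈ S := fun ha => hx (by
          rw [Ideal.Quotient.eq_zero_iff_mem.mpr ha, LocalizedModule.zero_mk])
        intro y
        induction y using LocalizedModule.induction_on with
        | _ b t =>
          obtain ⟨b, rfl⟩ := Ideal.Quotient.mk_surjective b
          refine ⟨Localization.mk (b * s) (t * ⟨a, ha⟩), ?_⟩
          rw [LinearMap.toSpanSingleton_apply, LocalizedModule.mk_smul_mk, LocalizedModule.mk_eq]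
          refine ⟨1, ?_⟩
          simp only [one_smul, Submonoid.smul_def, Submonoid.coe_mul]
          rw [Algebra.smul_def, Algebra.smul_def, Algebra.smul_def]
          simp only [Ideal.Quotient.algebraMap_eq, ← map_mul]
          ring_nf
  rw [locLenAt, Module.length_eq_one]
  simp

/-- The associativity formula. -/
theorem tendsto_samuelLen_eq_finsum [IsNoetherianRing A] [IsLocalRing A] {I : Ideal A}
    (hI : ∃ n : ℕ, IsLocalRing.maximalIdeal A ^ n ≤ I) (d : ℕ) (e : PrimeSpectrum A → ℝ)
    (he : ∀ p : PrimeSpectrum A, ringKrullDim (A ⧸ p.asIdeal) = d →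
      Tendsto (fun t : ℕ => (d.factorial : ℝ) * (samuelLen I (A ⧸ p.asIdeal) t : ℝ) / (t : ℝ) ^ d)
        atTop (nhds (e p)))
    (M : Type u) [AddCommGroup M] [Module A M] [Module.Finite A M] :
    Module.supportDim A M ≤ d →
    Tendsto (fun t : ℕ => (d.factorial : ℝ) * (samuelLen I M t : ℝ) / (t : ℝ) ^ d) atTop
      (nhds (∑ᶠ (p : PrimeSpectrum A) (_ : ringKrullDim (A ⧸ p.asIdeal) = d), locLenAt M p * e p)) := by
  induction ‹Module.Finite A M› using IsNoetherianRing.induction_on_isQuotientEquivQuotientPrime A with
  | subsingleton N =>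
    intro _
    rw [show (∑ᶠ (p : PrimeSpectrum A) (_ : ringKrullDim (A ⧸ p.asIdeal) = d), locLenAt N p * e p) = 0 from
      finsum_eq_zero_of_forall_eq_zero fun p => finsum_prop_zero fun _ => by
        rw [locLenAt_eq_zero (by simp [Module.support_eq_empty]), zero_mul]]
    have : ∀ t, samuelLen I N t = 0 := fun t => by simp [samuelLen]
    simp [this]
  | quotient N q eN =>
    intro hN
    rw [Module.supportDim_eq_of_equiv eN, Module.supportDim_quotient_eq_ringKrullDim] at hN
    have hcongr : ∀ p, locLenAt N p = locLenAt (A ⧸ q.asIdeal) p := fun p => by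
      unfold locLenAt
      have h := (LinearEquiv.ofBijective (LocalizedModule.map p.asIdeal.primeCompl eN.toLinearMap)
        ⟨LocalizedModule.map_injective _ _ eN.injective, LocalizedModule.map_surjective _ _ eN.surjective⟩).length_eq
      exact congrArg (fun k : ℕ∞ => ((k.toNat : ℕ) : ℝ)) h
    simp only [hcongr, samuelLen_congr I eN]
    have hmem : ∀ p : PrimeSpectrum A, locLenAt (A ⧸ q.asIdeal) p ≠ 0 → q ≤ p := fun p hp => by
      have := Module.mem_support_iff_of_finite.mp (by_contra fun h => hp (locLenAt_eq_zero h))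
      rwa [Ideal.annihilator_quotient] at this
    have hN' : Module.supportDim A (A ⧸ q.asIdeal) ≤ d := by rwa [Module.supportDim_quotient_eq_ringKrullDim]
    have hqmem : q ∈ Module.support A (A ⧸ q.asIdeal) := by
      rw [Module.mem_support_iff_of_finite, Ideal.annihilator_quotient]
    rcases eq_or_lt_of_le hN with hq | hq
    · convert he q hq using 2
      rw [finsum_eq_single _ q, finsum_eq_if, if_pos hq, locLenAt_quotient_self, one_mul]
      intro p hp
      refine finsum_prop_zero fun hpd => ?_
      by_contra h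
      exact hp (eq_of_le_of_dim_eq hN' hqmem (hmem p (left_ne_zero_of_mul h)) hpd).symm
    · rw [show (∑ᶠ (p : PrimeSpectrum A) (_ : ringKrullDim (A ⧸ p.asIdeal) = d), locLenAt (A ⧸ q.asIdeal) p * e p) = 0 from
        finsum_eq_zero_of_forall_eq_zero fun p => finsum_prop_zero fun hpd => by
          by_contra h
          have := eq_of_le_of_dim_eq hN' hqmem (hmem p (left_ne_zero_of_mul h)) hpd
          rw [this] at hq
          exact hq.ne hpd]
      cases d with
      | zero =>
        have := Ideal.Quotient.nontrivial_iff.mpr q.isPrime.ne_top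
        exact absurd hq (by simpa using ringKrullDim_nonneg_of_nontrivial)
      | succ k =>
        refine tendsto_samuelLen_zero hI _ k _ k.lt_succ_self ?_
        rw [Module.supportDim_quotient_eq_ringKrullDim]
        push_cast at hq
        exact ENat.WithBot.lt_add_one_iff.mp hq
  | exact N₁ N₂ N₃ f g hf hg hfg ih₁ ih₃ =>
    intro hN
    have h₁ := (Module.supportDim_le_of_injective f hf).trans hN
    have h₃ := (Module.supportDim_le_of_surjective g hg).trans hN
    have := tendsto_samuelLen_add f g hI hf hg (LinearMap.exact_iff.mp hfg).symm d _ _ (ih₁ h₁) (ih₃ h₃)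
    convert this using 2
    let T := {p : PrimeSpectrum A | ringKrullDim (A ⧸ p.asIdeal) = d}
    show ∑ᶠ p ∈ T, locLenAt N₂ p * e p = (∑ᶠ p ∈ T, locLenAt N₁ p * e p) + ∑ᶠ p ∈ T, locLenAt N₃ p * e p
    rw [← finsum_mem_add_distrib']
    · refine finsum_mem_congr rfl fun p hp => ?_
      rw [locLenAt_add f g hf hg hfg p (fun q hq hle => eq_of_le_of_dim_eq hN hq hle hp), add_mul]
    · exact (finite_top_support h₁).subset fun p hp =>
        ⟨by_contra fun h => hp.2 (by simp [locLenAt_eq_zero h]), hp.1⟩
    · exact (finite_top_support h₃).subset fun p hp =>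
        ⟨by_contra fun h => hp.2 (by simp [locLenAt_eq_zero h]), hp.1⟩

end Groth.Agent.H22Alg
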