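import Mathlib
import Groth.Agent.H11Ample.Basic
import Groth.Agent.H11Tilde.TwistPow
import Groth.Agent.H10Coh.FinType2
import Groth.Agent.LeadDev.Generic

/-!
# Gluing an invertible module on an open with trivial modules on further opens
-/

set_option autoImplicit false
set_option linter.style.haveILetI false

noncomputable section

universe u

open CategoryTheory CategoryTheory.Limits AlgebraicGeometry Opposite TopologicalSpace

namespace Groth.Agent.H22Alg.LineGlue

variable {X : Scheme.{u}}

/-- The functor of sections over an open, as sets. -/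
abbrev secs (V : X.Opens) : X.Modules ⥤ Type u :=
  Scheme.Modules.toPresheaf X ⋙ (evaluation _ Ab.{u}).obj (op V) ⋙ forget Ab.{u}

instance preservesLimits_secs (V : X.Opens) : PreservesLimitsOfSize.{u, u} (secs V) :=
  haveI h1 : PreservesLimitsOfSize.{u, u} ((evaluation (TopologicalSpace.Opens X)ᵒᵖ Ab.{u}).obj (op V) ⋙ forget Ab.{u}) :=
    comp_preservesLimits _ _
  inferInstanceAs (PreservesLimitsOfSize.{u, u} (Scheme.Modules.toPresheaf X ⋙ ((evaluation _ Ab.{u}).obj (op V) ⋙ forget Ab.{u})))

theorem pi_ext {I : Type u} (M : I → X.Modules) {V : X.Opens} (a b : Γ(∏ᶜ M, V))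
    (h : ∀ i, (Pi.π M i).app V a = (Pi.π M i).app V b) : a = b := by
  refine (ConcreteCategory.bijective_of_isIso (piComparison (secs V) M)).1 ?_
  refine Concrete.limit_ext (Discrete.functor fun i => (secs V).obj (M i)) _ _ fun j => ?_
  obtain ⟨i⟩ := j
  have hπ := fun z => ConcreteCategory.congr_hom (piComparison_comp_π (secs V) M i) z
  exact (hπ a).trans ((h i).trans (hπ b).symm)

theorem exists_pi {I : Type u} (M : I → X.Modules) {V : X.Opens} (a : ∀ i, Γ(M i, V)) :
    ∃ z : Γ(∏ᶜ M, V), ∀ i, (Pi.π M i).app V z = a i := by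
  obtain ⟨z, hz⟩ := (ConcreteCategory.bijective_of_isIso (piComparison (secs V) M)).2
    ((Types.productIso fun i => (secs V).obj (M i)).inv a)
  refine ⟨z, fun i => ?_⟩
  refine (ConcreteCategory.congr_hom (piComparison_comp_π (secs V) M i) z).symm.trans ?_
  refine (congrArg (Pi.π (fun i => (secs V).obj (M i)) i) hz).trans ?_
  exact ConcreteCategory.congr_hom (Types.productIso_inv_comp_π (fun i => (secs V).obj (M i)) i) a

/-- Restriction to an open, pushed forward again. -/
abbrev J (A : X.Opens) : X.Modules ⥤ X.Modules :=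
  Scheme.Modules.restrictFunctor A.ι ⋙ Scheme.Modules.pushforward A.ι

/-- The open `A.ι ''ᵁ A.ι ⁻¹ᵁ V`, that is `A ⊓ V`. -/
abbrev R (A V : X.Opens) : X.Opens := A.ι ''ᵁ (A.ι ⁻¹ᵁ V)

theorem R_le (A V : X.Opens) : R A V ≤ V := A.ι.image_preimage_le V

theorem R_le' (A V : X.Opens) : R A V ≤ A := A.ι.image_le_opensRange _ |>.trans A.opensRange_ι.le

theorem le_R {A V O : X.Opens} (hA : O ≤ A) (hV : O ≤ V) : O ≤ R A V := fun x hx =>
  ⟨⟨x, hA hx⟩, hV hx, rfl⟩

theorem J_smul (A : X.Opens) (M : X.Modules) (Q : X.Opens) (r : Γ(X, Q)) (m : Γ((J A).obj M, Q)) :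
    r • m = (X.presheaf.map (homOfLE (R_le A Q)).op r) • (show Γ(M, R A Q) from m) := by
  show (A.ι.appIso (A.ι ⁻¹ᵁ Q)).inv (A.ι.app Q r) • (show Γ(M, R A Q) from m) = _
  congr 1
  exact congr($(A.ι.app_appIso_inv Q) r)

theorem J_map (A : X.Opens) (M : X.Modules) {P Q : X.Opens} (h : Q ≤ P) (m : Γ((J A).obj M, P)) :
    ((J A).obj M).presheaf.map (homOfLE h).op m =
      M.presheaf.map (homOfLE (A.ι.image_mono (A.ι.preimage_mono h))).op (show Γ(M, R A P) from m) := rfl

variable {I : Type u} (U : X.Opens) (M : X.Modules) (W : I → X.Opens) (e : ∀ i, Γ(M, U ⊓ W i))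

/-- The unit to an open containing the open of definition is an isomorphism. -/
theorem isIso_unit (T A : X.Opens) (M : X.Modules) (h : T ≤ A) :
    IsIso ((Scheme.Modules.restrictAdjunction A.ι).unit.app ((J T).obj M)) := by
  rw [Scheme.Modules.Hom.isIso_iff_isIso_app]
  intro V
  have hle : T.ι ⁻¹ᵁ V ≤ T.ι ⁻¹ᵁ R A V := fun y hy => le_R h (le_refl T) y.2 |> fun _ =>
    (⟨⟨T.ι y, h y.2⟩, hy, rfl⟩ : T.ι y ∈ R A V)
  have e' : R T (R A V) ≤ R T V := T.ι.image_mono (T.ι.preimage_mono (R_le A V))
  have e'' : R T V ≤ R T (R A V) := T.ι.image_mono hle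
  haveI : IsIso (homOfLE e') := ⟨homOfLE e'', Subsingleton.elim _ _, Subsingleton.elim _ _⟩
  exact (inferInstance : IsIso (M.presheaf.map (homOfLE e').op))

/-- The open on which the `i`-th comparison happens. -/
abbrev T (i : I) : X.Opens := U ⊓ W i

instance isIso_unit_T (i : I) : IsIso ((Scheme.Modules.restrictAdjunction (W i).ι).unit.app
    ((J (T U W i)).obj M)) := isIso_unit _ _ _ inf_le_right

/-- The generator as a global section of the comparison module. -/
def e₀ (i : I) : Γ((J (T U W i)).obj M, ⊤) :=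
  M.presheaf.map (homOfLE (R_le' (T U W i) ⊤)).op (e i)

/-- The first comparison map. -/
def mapN (i : I) : M ⟶ (J (T U W i)).obj M :=
  (Scheme.Modules.restrictAdjunction (T U W i).ι).unit.app M

/-- The second comparison map. -/
def mapO (i : I) : (J (W i)).obj (Coh.structureModule X) ⟶ (J (T U W i)).obj M :=
  (J (W i)).map (H11Tilde.homOfGlobal _ (e₀ U M W e i)) ≫
    inv ((Scheme.Modules.restrictAdjunction (W i).ι).unit.app ((J (T U W i)).obj M))

/-- The difference of the comparison maps. -/
def diff : M ⊞ (∏ᶜ fun i => (J (W i)).obj (Coh.structureModule X)) ⟶ ∏ᶜ fun i => (J (T U W i)).obj M :=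
  Pi.lift fun i => biprod.fst ≫ mapN U M W i - biprod.snd ≫ Pi.π _ i ≫ mapO U M W e i

/-- The glued module. -/
def glued : X.Modules := kernel (diff U M W e)

/-- Its projection to the module on the open. -/
def pU : glued U M W e ⟶ M := kernel.ι _ ≫ biprod.fst

/-- Its projections to the trivial modules. -/
def pW (i : I) : glued U M W e ⟶ (J (W i)).obj (Coh.structureModule X) :=
  kernel.ι _ ≫ biprod.snd ≫ Pi.π _ i

/-- Compatible sections. -/
def Compat (V : X.Opens) (n : Γ(M, V)) (i : I) (f : Γ(X, R (W i) V)) : Prop :=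
  ∀ (O : X.Opens) (hT : O ≤ T U W i) (hV : O ≤ V),
    M.presheaf.map (homOfLE hV).op n =
      X.presheaf.map (homOfLE (le_R (hT.trans inf_le_right) hV)).op f • M.presheaf.map (homOfLE hT).op (e i)

theorem compat_iff (V : X.Opens) (n : Γ(M, V)) (i : I) (f : Γ(X, R (W i) V)) :
    (mapN U M W i).app V n = (mapO U M W e i).app V f ↔ Compat U M W e V n i f := by
  let A := W i
  let T' := T U W i
  let η := (Scheme.Modules.restrictAdjunction A.ι).unit.app ((J T').obj M)
  have hT' : T' ≤ A := inf_le_right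
  have hη : Function.Injective (η.app V) := H10Coh.injective_app_of_mono' η V
  let Q := R A V
  have h1 : η.app V ((mapO U M W e i).app V f) =
      (X.presheaf.map (homOfLE (R_le T' Q)).op f) • M.presheaf.map (homOfLE (R_le' T' Q)).op (e i) := by
    show ((mapO U M W e i) ≫ η).app V f = _
    rw [mapO, Category.assoc, IsIso.inv_hom_id, Category.comp_id]
    show (H11Tilde.homOfGlobal _ (e₀ U M W e i)).app Q f = _
    refine (H11Tilde.homOfGlobal_app _ _ Q f).trans ?_
    refine (J_smul T' M Q _ _).trans ?_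
    refine congrArg (fun m : Γ(M, R T' Q) => X.presheaf.map (homOfLE (R_le T' Q)).op f • m) ?_
    refine (J_map T' M (le_top : Q ≤ ⊤) (e₀ U M W e i)).trans ?_
    unfold e₀
    exact H10Coh.mres_mres M (R_le' T' ⊤) (T'.ι.image_mono (T'.ι.preimage_mono le_top)) (e i)
  have h2 : η.app V ((mapN U M W i).app V n) =
      M.presheaf.map (homOfLE ((R_le T' Q).trans (R_le A V))).op n := by
    refine Eq.trans ?_ (H10Coh.mres_mres M (R_le T' V) (show R T' Q ≤ R T' V from le_R (R_le' _ _)
      ((R_le T' Q).trans (R_le A V))) n)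
    rfl
  rw [← hη.eq_iff, h1, h2]
  constructor
  · intro h O hT hV
    have hO : O ≤ R T' Q := le_R hT (le_R (hT.trans hT') hV)
    have := congrArg (M.presheaf.map (homOfLE hO).op) h
    rw [H10Coh.mres_mres, Scheme.Modules.map_smul, H10Coh.mres_mres] at this
    rw [this, ← CommRingCat.comp_apply, ← Functor.map_comp]
    rfl
  · intro h
    exact h (R T' Q) (R_le' _ _) ((R_le T' Q).trans (R_le A V))

theorem compat_glued (V : X.Opens) (t : Γ(glued U M W e, V)) (i : I) :
    Compat U M W e V ((pU U M W e).app V t) i ((pW U M W e i).app V t) := by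
  rw [← compat_iff]
  have h : pU U M W e ≫ mapN U M W i = pW U M W e i ≫ mapO U M W e i := by
    let π' := Pi.π (fun i => (J (T U W i)).obj M) i
    have hd : diff U M W e ≫ π' = biprod.fst ≫ mapN U M W i -
        biprod.snd ≫ Pi.π (fun i => (J (W i)).obj (Coh.structureModule X)) i ≫ mapO U M W e i := by
      rw [diff, Pi.lift_π]
    have h0 : kernel.ι (diff U M W e) ≫ (diff U M W e ≫ π') = 0 := by
      rw [← Category.assoc, kernel.condition, zero_comp]
    rw [hd, Preadditive.comp_sub, sub_eq_zero] at h0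
    simp only [pU, pW, Category.assoc]
    exact h0
  exact congr(Scheme.Modules.Hom.app $h V t)

theorem glued_ext {V : X.Opens} (t t' : Γ(glued U M W e, V))
    (h₁ : (pU U M W e).app V t = (pU U M W e).app V t')
    (h₂ : ∀ i, (pW U M W e i).app V t = (pW U M W e i).app V t') : t = t' := by
  apply H10Coh.injective_app_of_mono' (kernel.ι (diff U M W e)) V
  let P := ∏ᶜ fun i => (J (W i)).obj (Coh.structureModule X)
  have tot : ∀ z, z =
      (biprod.inl : M ⟶ M ⊞ P).app V ((biprod.fst : M ⊞ P ⟶ _).app V z) +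
      (biprod.inr : P ⟶ M ⊞ P).app V ((biprod.snd : M ⊞ P ⟶ _).app V z) := fun z =>
    (congr($(biprod.total (X := M) (Y := P)).app V z)).symm
  rw [tot ((kernel.ι (diff U M W e)).app V t), tot ((kernel.ι (diff U M W e)).app V t')]
  exact congrArg₂ (· + ·) (congrArg _ h₁) (congrArg _ (pi_ext _ _ _ h₂))

theorem exists_glued {V : X.Opens} (n : Γ(M, V)) (f : ∀ i, Γ(X, R (W i) V))
    (h : ∀ i, Compat U M W e V n i (f i)) :
    ∃ t : Γ(glued U M W e, V), (pU U M W e).app V t = n ∧ ∀ i, (pW U M W e i).app V t = f i := by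
  let P := ∏ᶜ fun i => (J (W i)).obj (Coh.structureModule X)
  obtain ⟨q, hq⟩ := exists_pi (fun i => (J (W i)).obj (Coh.structureModule X)) (V := V) f
  let z : Γ(M ⊞ P, V) := (biprod.inl : M ⟶ M ⊞ P).app V n + (biprod.inr : P ⟶ M ⊞ P).app V q
  have hf : (biprod.fst : M ⊞ P ⟶ M).app V z = n := by
    rw [map_add]
    show ((biprod.inl : M ⟶ M ⊞ P) ≫ biprod.fst).app V n + ((biprod.inr : P ⟶ M ⊞ P) ≫ biprod.fst).app V q = n
    rw [biprod.inl_fst, biprod.inr_fst]
    exact add_zero n
  have hs : (biprod.snd : M ⊞ P ⟶ P).app V z = q := by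
    rw [map_add]
    show ((biprod.inl : M ⟶ M ⊞ P) ≫ biprod.snd).app V n + ((biprod.inr : P ⟶ M ⊞ P) ≫ biprod.snd).app V q = q
    rw [biprod.inl_snd, biprod.inr_snd]
    exact zero_add q
  have hz : (diff U M W e).app V z = 0 := by
    refine pi_ext _ _ _ fun i => ?_
    rw [map_zero]
    show (diff U M W e ≫ Pi.π _ i).app V z = 0
    rw [diff, Pi.lift_π]
    show (mapN U M W i).app V ((biprod.fst : M ⊞ P ⟶ M).app V z) -
      (mapO U M W e i).app V ((Pi.π (fun i => (J (W i)).obj (Coh.structureModule X)) i).app V ((biprod.snd : M ⊞ P ⟶ P).app V z)) = 0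
    rw [hf, hs, hq, sub_eq_zero]
    exact (compat_iff U M W e V n i (f i)).2 (h i)
  obtain ⟨t, ht⟩ := LeadDev.exists_kernel_section (diff U M W e) V z hz
  refine ⟨t, ?_, fun i => ?_⟩
  · show (biprod.fst : M ⊞ P ⟶ M).app V ((kernel.ι (diff U M W e)).app V t) = n
    rw [ht, hf]
  · show (Pi.π (fun i => (J (W i)).obj (Coh.structureModule X)) i).app V ((biprod.snd : M ⊞ P ⟶ P).app V ((kernel.ι (diff U M W e)).app V t)) = f i
    rw [ht, hs, hq]

variable (hW : ∀ i j, i ≠ j → W i ⊓ W j ≤ U) (he : ∀ i, H11Tilde.IsGen M (e i))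

theorem res_top_eq {A B : X.Opens} (h : A ≤ B) (h' : B ≤ A) (a : Γ(M, A)) :
    M.presheaf.map (homOfLE h).op (M.presheaf.map (homOfLE h').op a) = a := by
  rw [H10Coh.mres_mres, H10Coh.mres_self]

include he in
/-- Inside `T`, the coefficient exists and is unique. -/
theorem existsUnique_coeff (i : I) (V : X.Opens) (n : Γ(M, V)) (hV : R (W i) V ≤ U) :
    ∃! f : Γ(X, R (W i) V), Compat U M W e V n i f := by
  let Q := R (W i) V
  have hQT : Q ≤ T U W i := le_inf hV (R_le' _ _)
  obtain ⟨f, hf⟩ := ((he i).bijective hQT).2 (M.presheaf.map (homOfLE (R_le _ V)).op n)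
  refine ⟨f, fun O hT hOV => ?_, fun f' hf' => ?_⟩
  · have hO : O ≤ Q := le_R (hT.trans inf_le_right) hOV
    have := congrArg (M.presheaf.map (homOfLE hO).op) hf
    beta_reduce at this
    rw [H10Coh.mres_mres, Scheme.Modules.map_smul, H10Coh.mres_mres] at this
    exact this.symm
  · have h' := hf' Q hQT (R_le _ V)
    rw [show X.presheaf.map (homOfLE _ : Q ⟶ R (W i) V).op = 𝟙 _ from (congrArg X.presheaf.map (Subsingleton.elim _ (𝟙 _))).trans (X.presheaf.map_id _)] at h'
    exact ((he i).bijective hQT).1 (h'.symm.trans hf.symm)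

include he in
theorem bijective_pU {V : X.Opens} (hV : V ≤ U) : Function.Bijective ((pU U M W e).app V) := by
  refine ⟨fun t t' h => glued_ext U M W e t t' h fun i => ?_, fun n => ?_⟩
  · have h1 := compat_glued U M W e V t i
    have h2 := compat_glued U M W e V t' i
    rw [← h] at h2
    exact (existsUnique_coeff U M W e he i V _ ((R_le _ V).trans hV)).unique h1 h2
  · choose f hf using fun i => (existsUnique_coeff U M W e he i V n ((R_le _ V).trans hV)).exists
    obtain ⟨t, ht, -⟩ := exists_glued U M W e n f hf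
    exact ⟨t, ht⟩

include hW he in
theorem bijective_pW (hM : ∀ V : X.Opens, Function.Bijective fun n : Γ(M, V) =>
      M.presheaf.map (homOfLE (inf_le_left : V ⊓ U ≤ V)).op n)
    (i : I) {V : X.Opens} (hV : V ≤ W i) : Function.Bijective ((pW U M W e i).app V) := by
  have hVT : V ⊓ U ≤ T U W i := le_inf inf_le_right (inf_le_left.trans hV)
  have hR : ∀ j, j ≠ i → R (W j) V ≤ U := fun j hj =>
    (le_inf (R_le' _ _) ((R_le _ V).trans hV)).trans (hW j i hj)
  refine ⟨fun t t' h => ?_, fun f => ?_⟩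
  · have h1 := fun j => compat_glued U M W e V t j
    have h2 := fun j => compat_glued U M W e V t' j
    have hn : (pU U M W e).app V t = (pU U M W e).app V t' := by
      refine (hM V).1 ?_
      show M.presheaf.map _ _ = M.presheaf.map _ _
      rw [h1 i (V ⊓ U) hVT inf_le_left, h2 i (V ⊓ U) hVT inf_le_left, h]
    refine glued_ext U M W e t t' hn fun j => ?_
    by_cases hj : j = i
    · exact hj ▸ h
    · have h2' := h2 j
      rw [← hn] at h2'
      exact (existsUnique_coeff U M W e he j V _ (hR j hj)).unique (h1 j) h2'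
  · obtain ⟨n, hn⟩ := (hM V).2 (X.presheaf.map (homOfLE (le_R (hVT.trans inf_le_right) inf_le_left)).op f •
      M.presheaf.map (homOfLE hVT).op (e i))
    have hi : Compat U M W e V n i f := by
      intro O hT hOV
      have hO : O ≤ V ⊓ U := le_inf hOV (hT.trans inf_le_left)
      have := congrArg (M.presheaf.map (homOfLE hO).op) hn
      beta_reduce at this
      rw [H10Coh.mres_mres, Scheme.Modules.map_smul, H10Coh.mres_mres, ← CommRingCat.comp_apply,
        ← Functor.map_comp] at this
      exact this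
    have hf : ∀ j, ∃ g : Γ(X, R (W j) V), Compat U M W e V n j g ∧ ∀ h : i = j, g = h ▸ f := fun j => by
      by_cases hj : i = j
      · subst hj; exact ⟨f, hi, fun h => rfl⟩
      · obtain ⟨g, hg⟩ := (existsUnique_coeff U M W e he j V n (hR j (Ne.symm hj))).exists
        exact ⟨g, hg, fun h => absurd h hj⟩
    choose g hg hg' using hf
    obtain ⟨t, -, ht⟩ := exists_glued U M W e n g hg
    exact ⟨t, (ht i).trans (hg' i rfl)⟩

/-- A section whose restrictions to smaller opens correspond bijectively to a generator is a generator. -/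
theorem isGen_of_hom {L P : X.Modules} (φ : L ⟶ P) {V : X.Opens} (hφ : ∀ V' ≤ V, Function.Bijective (φ.app V'))
    {t : Γ(L, V)} (ht : H11Tilde.IsGen P (φ.app V t)) : H11Tilde.IsGen L t :=
  H11Tilde.isGen_of_bijective fun V' hV' => by
    refine (Function.Bijective.of_comp_iff' (hφ V' hV') _).1 ?_
    refine Eq.mpr (congrArg Function.Bijective (funext fun r => ?_)) (ht.bijective hV')
    show φ.app V' (r • L.presheaf.map (homOfLE hV').op t) = _
    rw [Scheme.Modules.Hom.app_smul]
    exact congrArg (r • ·) (congr($(φ.mapPresheaf.naturality (homOfLE hV').op) t))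

end Groth.Agent.H22Alg.LineGlue

namespace Groth.Agent.H22Alg.LineGlue

variable {X : Scheme.{u}} {U : X.Opens}

/-- A generator on the open is a generator of the pushforward. -/
theorem isGen_push (N : (↑U : Scheme.{u}).Modules) {T : X.Opens} (hT : T ≤ U)
    (e : Γ((Scheme.Modules.pushforward U.ι).obj N, T))
    (he : H11Tilde.IsGen N (show Γ(N, U.ι ⁻¹ᵁ T) from e)) :
    H11Tilde.IsGen ((Scheme.Modules.pushforward U.ι).obj N) e :=
  H11Tilde.isGen_of_bijective fun V hV => by
    haveI : IsIso (U.ι.app V) := U.ι.isIso_app V (by rw [Scheme.Opens.opensRange_ι]; exact hV.trans hT)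
    exact (he.bijective (U.ι.preimage_mono hV)).comp (ConcreteCategory.bijective_of_isIso (U.ι.app V))

theorem bijective_res_inf (N : (↑U : Scheme.{u}).Modules) (V : X.Opens) :
    Function.Bijective fun n : Γ((Scheme.Modules.pushforward U.ι).obj N, V) =>
      ((Scheme.Modules.pushforward U.ι).obj N).presheaf.map (homOfLE (inf_le_left : V ⊓ U ≤ V)).op n := by
  have h' : U.ι ⁻¹ᵁ V ≤ U.ι ⁻¹ᵁ (V ⊓ U) := fun y hy => ⟨hy, y.2⟩
  refine Function.bijective_iff_has_inverse.2 ⟨fun n => N.presheaf.map (homOfLE h').op n, fun n => ?_, fun n => ?_⟩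
  · exact (H10Coh.mres_mres N _ h' n).trans (H10Coh.mres_self N _ n)
  · exact (H10Coh.mres_mres N h' (U.ι.preimage_mono inf_le_left) n).trans (H10Coh.mres_self N _ n)


/-- The section one generates the pushed forward structure module. -/
theorem isGen_one_J (A : X.Opens) :
    H11Tilde.IsGen ((J A).obj (Coh.structureModule X))
      (show Γ((J A).obj (Coh.structureModule X), A) from (1 : Γ(X, R A A))) := by
  refine H11Tilde.isGen_of_bijective fun V hV => ?_
  have hVR : V ≤ R A V := le_R hV le_rfl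
  refine Eq.mpr (congrArg Function.Bijective (funext fun r => ?_))
    (Function.bijective_iff_has_inverse.2 ⟨fun s => X.presheaf.map (homOfLE hVR).op s, fun r => ?_, fun s => ?_⟩ :
      Function.Bijective fun r : Γ(X, V) => X.presheaf.map (homOfLE (R_le A V)).op r)
  · refine (J_smul A _ V r _).trans ?_
    refine Eq.trans ?_ (mul_one (X.presheaf.map (homOfLE (R_le A V)).op r : Γ(X, R A V)))
    exact congrArg (fun s : Γ(X, R A V) => X.presheaf.map (homOfLE (R_le A V)).op r * s)
      (map_one (X.presheaf.map _).hom)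
  · beta_reduce
    rw [← CommRingCat.comp_apply, ← Functor.map_comp,
      show ((homOfLE (R_le A V)).op ≫ (homOfLE hVR).op) = 𝟙 _ from Subsingleton.elim _ _]
    simp
  · beta_reduce
    rw [← CommRingCat.comp_apply, ← Functor.map_comp,
      show ((homOfLE hVR).op ≫ (homOfLE (R_le A V)).op) = 𝟙 _ from Subsingleton.elim _ _]
    simp

variable {I : Type u} (N : (↑U : Scheme.{u}).Modules) (W : I → X.Opens)

/-- An invertible module on an open glues with trivial modules on opens meeting each other inside it. -/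
theorem exists_glue (hN : PicF.IsInvertible N) (hW : ∀ i j, i ≠ j → W i ⊓ W j ≤ U)
    (hcov : ∀ x : X, x ∈ U ∨ ∃ i, x ∈ W i)
    (e : ∀ i, Γ((Scheme.Modules.pushforward U.ι).obj N, U ⊓ W i))
    (he : ∀ i, H11Tilde.IsGen ((Scheme.Modules.pushforward U.ι).obj N) (e i)) :
    ∃ L : X.Modules, PicF.IsInvertible L ∧ Nonempty (L.restrict U.ι ≅ N) ∧
      ∀ (n : Γ((Scheme.Modules.pushforward U.ι).obj N, ⊤))
        (f : ∀ i, Γ(X, R (W i) ⊤)),
        (∀ i, Compat U ((Scheme.Modules.pushforward U.ι).obj N) W e ⊤ n i (f i)) →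
        H11Tilde.IsGen N (show Γ(N, U.ι ⁻¹ᵁ ⊤) from n) →
        (∀ i x (hx : x ∈ R (W i) ⊤), x ∉ U → ¬ IsUnit (X.presheaf.germ _ x hx (f i))) →
        ∃ g : Γ(L, ⊤), H11Ample.gen L g = U := by
  let M := (Scheme.Modules.pushforward U.ι).obj N
  let L := glued U M W e
  have he' : ∀ i, H11Tilde.IsGen M (e i) := he
  have hM := bijective_res_inf (U := U) N
  have hinv : PicF.IsInvertible L := by
    refine H11Ample.isInvertible_of_gen fun x => ?_
    rcases hcov x with hx | ⟨i, hx⟩
    · obtain ⟨V, ε, hxV, hε⟩ := H11Ample.exists_gen hN ⟨x, hx⟩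
      let V' : X.Opens := U.ι ''ᵁ V
      have hV' : V' ≤ U := (U.ι.image_le_opensRange V).trans U.opensRange_ι.le
      have hpre : U.ι ⁻¹ᵁ V' = V := U.ι.preimage_image_eq V
      have hm : H11Tilde.IsGen N (N.presheaf.map (homOfLE hpre.le).op ε) := hε.res hpre.le
      obtain ⟨t, ht⟩ := (bijective_pU U M W e he' hV').2 (N.presheaf.map (homOfLE hpre.le).op ε)
      refine ⟨V', t, ⟨⟨x, hx⟩, hxV, rfl⟩, isGen_of_hom (pU U M W e)
        (fun V'' h => bijective_pU U M W e he' (h.trans hV')) ?_⟩
      rw [ht]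
      exact isGen_push N hV' _ hm
    · let P := (J (W i)).obj (Coh.structureModule X)
      have hone : H11Tilde.IsGen P (show Γ(P, W i) from (1 : Γ(X, R (W i) (W i)))) := by
        refine H11Tilde.isGen_of_bijective fun V hV => ?_
        have hVR : V ≤ R (W i) V := le_R hV le_rfl
        refine Eq.mpr (congrArg Function.Bijective (funext fun r => ?_))
          (Function.bijective_iff_has_inverse.2 ⟨fun s => X.presheaf.map (homOfLE hVR).op s, fun r => ?_, fun s => ?_⟩ :
            Function.Bijective fun r : Γ(X, V) => X.presheaf.map (homOfLE (R_le (W i) V)).op r)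
        · refine (J_smul (W i) _ V r _).trans ?_
          refine Eq.trans ?_ (mul_one (X.presheaf.map (homOfLE (R_le (W i) V)).op r : Γ(X, R (W i) V)))
          exact congrArg (fun s : Γ(X, R (W i) V) => X.presheaf.map (homOfLE (R_le (W i) V)).op r * s)
            (map_one (X.presheaf.map _).hom)
        · beta_reduce
          rw [← CommRingCat.comp_apply, ← Functor.map_comp,
            show ((homOfLE (R_le (W i) V)).op ≫ (homOfLE hVR).op) = 𝟙 _ from Subsingleton.elim _ _]
          simp
        · beta_reduce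
          rw [← CommRingCat.comp_apply, ← Functor.map_comp,
            show ((homOfLE hVR).op ≫ (homOfLE (R_le (W i) V)).op) = 𝟙 _ from Subsingleton.elim _ _]
          simp
      obtain ⟨t, ht⟩ := (bijective_pW U M W e hW he' hM i le_rfl).2 (1 : Γ(X, R (W i) (W i)))
      refine ⟨W i, t, hx, isGen_of_hom (pW U M W e i)
        (fun V h => bijective_pW U M W e hW he' hM i h) ?_⟩
      rw [ht]
      exact hone
  refine ⟨L, hinv, ?_, fun n f hf hn hu => ?_⟩
  · let φ : L.restrict U.ι ⟶ N :=
      (Scheme.Modules.restrictFunctor U.ι).map (pU U M W e) ≫ (Scheme.Modules.restrictAdjunction U.ι).counit.app N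
    haveI : IsIso ((Scheme.Modules.restrictFunctor U.ι).map (pU U M W e)) := by
      rw [Scheme.Modules.Hom.isIso_iff_isIso_app]
      intro V
      rw [ConcreteCategory.isIso_iff_bijective]
      exact bijective_pU U M W e he' ((U.ι.image_le_opensRange V).trans U.opensRange_ι.le)
    exact ⟨asIso φ⟩
  · obtain ⟨g, hg, hgi⟩ := exists_glued U M W e n f hf
    refine ⟨g, le_antisymm (fun x hx => ?_) (fun x hx => ?_)⟩
    · by_contra hxU
      obtain ⟨i, hxi⟩ := (hcov x).resolve_left hxU
      have hb := (H11Ample.mem_gen_iff hinv g x).1 hx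
      have hxR : x ∈ R (W i) ⊤ := le_R (le_refl (W i)) le_top hxi
      refine hu i x hxR hxU ?_
      obtain ⟨t, ht⟩ := (bijective_pW U M W e hW he' hM i le_rfl).2 (1 : Γ(X, R (W i) (W i)))
      obtain ⟨r, hr⟩ := hb.2 (L.presheaf.germ (W i) x hxi t)
      obtain ⟨V₀, hxV₀, r, rfl⟩ := X.presheaf.exists_germ_eq r
      beta_reduce at hr
      rw [← TopCat.Presheaf.germ_res_apply L.presheaf (homOfLE (le_top : V₀ ≤ ⊤)) x hxV₀ g,
        ← H06Mod.germ_smul] at hr
      obtain ⟨V, hxV, j₁, j₂, hV⟩ := L.presheaf.germ_eq x hxV₀ hxi _ _ hr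
      have hV' : X.presheaf.map j₁.op r • L.presheaf.map (homOfLE (le_top : V ≤ ⊤)).op g =
          L.presheaf.map j₂.op t := by
        rw [← hV, Scheme.Modules.map_smul]
        congr 1
        exact (H10Coh.mres_mres L (le_top : V₀ ≤ ⊤) (leOfHom j₁) g).symm
      have h1 := congrArg ((pW U M W e i).app V) hV'
      rw [Scheme.Modules.Hom.app_smul] at h1
      have hn1 := congr($((pW U M W e i).mapPresheaf.naturality (homOfLE (le_top : V ≤ ⊤)).op) g)
      have hn2 := congr($((pW U M W e i).mapPresheaf.naturality j₂.op) t)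
      erw [hn1, hn2] at h1
      have hxV' : x ∈ R (W i) V := le_R (A := W i) (V := V) (O := W i ⊓ V) inf_le_left inf_le_right ⟨hxi, hxV⟩
      have h2 : X.presheaf.map (homOfLE (R_le (W i) V)).op (X.presheaf.map j₁.op r) *
          X.presheaf.map (homOfLE ((W i).ι.image_mono ((W i).ι.preimage_mono (le_top : V ≤ ⊤)))).op (f i) =
          X.presheaf.map (homOfLE ((W i).ι.image_mono ((W i).ι.preimage_mono (leOfHom j₂)))).op
            (1 : Γ(X, R (W i) (W i))) := by
        rw [← hgi i, ← ht]
        refine Eq.trans ?_ h1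
        exact (J_smul (W i) (Coh.structureModule X) V _ _).symm
      have h3 := congrArg (X.presheaf.germ (R (W i) V) x hxV') h2
      rw [map_mul, TopCat.Presheaf.germ_res_apply, map_one, map_one] at h3
      rw [TopCat.Presheaf.germ_res_apply] at h3
      rw [TopCat.Presheaf.germ_res_apply] at h3
      exact IsUnit.of_mul_eq_one_right _ h3
    · refine H11Ample.mem_gen_of_isGen (W := U) ?_ hx
      refine isGen_of_hom (pU U M W e) (fun V h => bijective_pU U M W e he' h) ?_
      have h1 : (pU U M W e).app U (L.presheaf.map (homOfLE (le_top : U ≤ ⊤)).op g) =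
          M.presheaf.map (homOfLE (le_top : U ≤ ⊤)).op ((pU U M W e).app ⊤ g) :=
        congr($((pU U M W e).mapPresheaf.naturality (homOfLE (le_top : U ≤ ⊤)).op) g)
      rw [h1, hg]
      exact isGen_push N le_rfl _ (hn.res (fun y _ => trivial))

end Groth.Agent.H22Alg.LineGlue
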