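import Mathlib

/-!
# Neighbourhoods of a point with punctured local spectrum of dimension zero
-/

set_option autoImplicit false
set_option linter.style.haveILetI false

universe u

open PrimeSpectrum

namespace Groth.Agent.H22Alg.PuncturedNbhd

variable {R : Type u} [CommRing R] (p : Ideal R) [hp : p.IsPrime]

/-- Radical membership near a prime. -/
theorem exists_mul_pow_mem (I : Ideal R) (a : R) (h : ∀ q : Ideal R, q.IsPrime → q ≤ p → I ≤ q → a ∈ q) :
    ∃ t ∉ p, ∃ n : ℕ, t * a ^ n ∈ I := by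
  by_contra hne
  push Not at hne
  obtain ⟨q, hq, hIq, hd⟩ := Ideal.exists_le_prime_disjoint I (p.primeCompl ⊔ Submonoid.powers a) (by
    rw [Set.disjoint_left]
    intro y hy hy'
    obtain ⟨t, ht, _, ⟨n, rfl⟩, rfl⟩ := Submonoid.mem_sup.1 hy'
    exact hne t ht n hy)
  refine Set.disjoint_left.1 hd (h q hq ?_ hIq) (Submonoid.mem_sup_right (Submonoid.mem_powers a))
  intro y hy
  by_contra hyp
  exact Set.disjoint_left.1 hd hy (Submonoid.mem_sup_left hyp)

/-- The primes strictly inside a prime with one-dimensional Noetherian localization are finite in number. -/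
theorem finite_below [IsNoetherianRing (Localization.AtPrime p)]
    (hdim : ringKrullDim (Localization.AtPrime p) ≤ 1) :
    {q : Ideal R | q.IsPrime ∧ q < p}.Finite ∧
      ∀ q q' : Ideal R, q.IsPrime → q'.IsPrime → q' ≤ q → q < p → q' = q := by
  let S := Localization.AtPrime p
  have key : ∀ q : Ideal R, q.IsPrime → q < p → q.map (algebraMap R S) ∈ minimalPrimes S ∧
      (q.map (algebraMap R S)).comap (algebraMap R S) = q := by
    intro q hq hlt
    haveI := hq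
    have hd : Disjoint (p.primeCompl : Set R) q := Set.disjoint_left.2 fun y hy hyq => hy (hlt.le hyq)
    haveI hQ := IsLocalization.isPrime_of_isPrime_disjoint p.primeCompl S q hq hd
    have hc := IsLocalization.comap_map_of_isPrime_disjoint p.primeCompl S hq hd
    refine ⟨?_, hc⟩
    have hlt' : q.map (algebraMap R S) < IsLocalRing.maximalIdeal S := by
      refine lt_of_le_of_ne (IsLocalRing.le_maximalIdeal hQ.ne_top) fun heq => hlt.ne ?_
      rw [← hc, heq]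
      exact Localization.AtPrime.comap_maximalIdeal
    refine Ideal.height_eq_zero_iff.1 ?_
    by_contra hh
    have h1 := Ideal.height_strict_mono_of_isPrime hlt'
    have h2 : ((IsLocalRing.maximalIdeal S).height : WithBot ℕ∞) ≤ 1 :=
      (IsLocalRing.maximalIdeal_height_eq_ringKrullDim (R := S)).le.trans hdim
    have h3 : (IsLocalRing.maximalIdeal S).height ≤ 1 := by exact_mod_cast h2
    exact hh (ENat.lt_one_iff_eq_zero.1 (h1.trans_le h3))
  refine ⟨Set.Finite.of_finite_image (f := fun q => q.map (algebraMap R S))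
    ((minimalPrimes.finite_of_isNoetherianRing S).subset ?_) ?_, fun q q' hq hq' hle hlt => ?_⟩
  · rintro _ ⟨q, ⟨hq, hlt⟩, rfl⟩
    exact (key q hq hlt).1
  · intro q hq q' hq' heq
    exact (key q hq.1 hq.2).2.symm.trans ((congrArg (Ideal.comap (algebraMap R S)) heq).trans (key q' hq'.1 hq'.2).2)
  · obtain ⟨hm, hc⟩ := key q hq hlt
    obtain ⟨hm', hc'⟩ := key q' hq' (hle.trans_lt hlt)
    rw [← hc, ← hc']
    exact congrArg (Ideal.comap (algebraMap R S)) (le_antisymm (Ideal.map_mono hle) (hm.2 hm'.1 (Ideal.map_mono hle)))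

/-- A neighbourhood of a point in which the punctured spectrum splits and is principal. -/
theorem exists_nbhd [IsNoetherianRing (Localization.AtPrime p)]
    (hdim : ringKrullDim (Localization.AtPrime p) ≤ 1) (s : Set (PrimeSpectrum R))
    (hps : (⟨p, hp⟩ : PrimeSpectrum R) ∉ s) (hs : ∀ q : PrimeSpectrum R, q.asIdeal < p → q ∈ s)
    (F : Finset R) (hF : s = ⋃ f ∈ F, (basicOpen f : Set (PrimeSpectrum R)))
    (G : PrimeSpectrum R → Set (PrimeSpectrum R)) (hG : ∀ q ∈ s, IsOpen (G q) ∧ q ∈ G q) :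
    ∃ (h c : R) (g : {q : Ideal R // q.IsPrime ∧ q < p} → R), h ∉ p ∧
      (∀ q, (basicOpen (g q) : Set (PrimeSpectrum R)) ⊆ s ∩ G ⟨q.1, q.2.1⟩) ∧
      (∀ q q', q ≠ q' → (basicOpen (h * (g q * g q')) : Set (PrimeSpectrum R)) = ∅) ∧
      ((basicOpen h : Set (PrimeSpectrum R)) ∩ s ⊆ ⋃ q, basicOpen (g q)) ∧
      (c ∈ p) ∧ (basicOpen h : Set (PrimeSpectrum R)) ∩ s = basicOpen (h * c) := by
  classical
  obtain ⟨hfin, hmin⟩ := finite_below p hdim
  haveI : Finite {q : Ideal R // q.IsPrime ∧ q < p} := hfin.to_subtype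
  haveI := Fintype.ofFinite {q : Ideal R // q.IsPrime ∧ q < p}
  have hso : IsOpen s := hF ▸ isOpen_biUnion fun f _ => (basicOpen f).2
  -- the elements `g q`
  have hg : ∀ q : {q : Ideal R // q.IsPrime ∧ q < p}, ∃ g : R,
      g ∉ q.1 ∧ (∀ q', q' ≠ q → g ∈ q'.1) ∧ (basicOpen g : Set (PrimeSpectrum R)) ⊆ s ∩ G ⟨q.1, q.2.1⟩ := by
    intro q
    let P : PrimeSpectrum R := ⟨q.1, q.2.1⟩
    have hP : P ∈ s := hs P q.2.2
    obtain ⟨_, ⟨a, rfl⟩, hqa, hsub⟩ := isTopologicalBasis_basic_opens.exists_subset_of_mem_open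
      (show P ∈ s ∩ G P from ⟨hP, (hG P hP).2⟩) (hso.inter (hG P hP).1)
    have hb : ∀ q', ∃ b : R, b ∉ q.1 ∧ (q' ≠ q → b ∈ q'.1) := by
      intro q'
      by_cases h : q' = q
      · exact ⟨1, fun h1 => q.2.1.ne_top ((Ideal.eq_top_iff_one _).2 h1), fun h' => absurd h h'⟩
      · obtain ⟨b, hb, hb'⟩ := Set.not_subset.1 (fun hle : (q'.1 : Set R) ⊆ q.1 =>
          h (Subtype.ext (hmin q.1 q'.1 q.2.1 q'.2.1 hle q.2.2)))
        exact ⟨b, hb', fun _ => hb⟩
    choose b hb hb' using hb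
    refine ⟨a * ∏ q', b q', fun hmem => ?_, fun q' h => ?_, fun P' hP' => hsub ?_⟩
    · rcases q.2.1.mem_or_mem hmem with h | h
      · exact hqa h
      · obtain ⟨i, -, hi⟩ := q.2.1.prod_mem_iff.1 h
        exact hb i hi
    · exact Ideal.mul_mem_left _ _ (Ideal.mem_of_dvd _ (Finset.dvd_prod_of_mem _ (Finset.mem_univ q')) (hb' q' h))
    · exact fun ha => hP' (Ideal.mul_mem_right _ _ ha)
  choose g hgq hgq' hgsub using hg
  have hgp : ∀ q, g q ∈ p := fun q => by_contra fun hn => hps (hgsub q (show (⟨p, hp⟩ : PrimeSpectrum R) ∈ basicOpen (g q) from hn)).1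
  -- the element `c`
  obtain ⟨c, hcp, hcq⟩ : ∃ c ∈ p, ∀ q : {q : Ideal R // q.IsPrime ∧ q < p}, c ∉ q.1 := by
    by_contra hne
    push Not at hne
    have : (p : Set R) ⊆ ⋃ q ∈ ((Finset.univ : Finset {q : Ideal R // q.IsPrime ∧ q < p}) : Set {q : Ideal R // q.IsPrime ∧ q < p}), (q.1 : Set R) :=
      fun c hc => by
        obtain ⟨q, hq⟩ := hne c hc
        exact Set.mem_biUnion (Finset.mem_coe.2 (Finset.mem_univ q)) hq
    rcases isEmpty_or_nonempty {q : Ideal R // q.IsPrime ∧ q < p} with hemp | ⟨⟨q₀⟩⟩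
    · obtain ⟨q, -⟩ := hne 0 (zero_mem p); exact hemp.elim q
    · obtain ⟨q, -, hq⟩ := (Ideal.subset_union_prime (s := (Finset.univ : Finset {q : Ideal R // q.IsPrime ∧ q < p})) (f := fun q : {q : Ideal R // q.IsPrime ∧ q < p} => q.1) q₀ q₀ fun q _ _ _ => q.2.1).1 this
      exact q.2.2.not_ge hq
  -- radicals in the local ring
  have hrad : ∀ (I : Ideal R) (a : R), a ∈ p → (∀ q : {q : Ideal R // q.IsPrime ∧ q < p}, I ≤ q.1 → a ∈ q.1) →
      ∃ t ∉ p, ∃ n : ℕ, t * a ^ n ∈ I := fun I a ha hI =>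
    exists_mul_pow_mem p I a fun q hq hle hIq => by
      rcases hle.eq_or_lt with rfl | hlt
      · exact ha
      · exact hI ⟨q, hq, hlt⟩ hIq
  have h1 : ∀ qq : {q : Ideal R // q.IsPrime ∧ q < p} × {q : Ideal R // q.IsPrime ∧ q < p},
      ∃ t ∉ p, qq.1 ≠ qq.2 → ∃ n : ℕ, t * (g qq.1 * g qq.2) ^ n = 0 := by
    rintro ⟨q, q'⟩
    by_cases h : q = q'
    · exact ⟨1, fun h1 => hp.ne_top ((Ideal.eq_top_iff_one _).2 h1), fun h' => absurd h h'⟩
    · obtain ⟨t, ht, n, hn⟩ := hrad ⊥ (g q * g q') (Ideal.mul_mem_left _ _ (hgp q')) fun q'' _ => by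
        by_cases h'' : q'' = q
        · subst h''; exact Ideal.mul_mem_left _ _ (hgq' q' q'' h)
        · exact Ideal.mul_mem_right _ _ (hgq' q q'' h'')
      exact ⟨t, ht, fun _ => ⟨n, hn⟩⟩
  choose t₁ ht₁ hn₁ using h1
  have hFp : ∀ f : F, f.1 ∈ p := fun f => by_contra fun hn => hps (hF ▸ Set.mem_biUnion f.2 hn)
  have h2 : ∀ f : F, ∃ t ∉ p, (∃ n : ℕ, t * f.1 ^ n ∈ Ideal.span (Set.range g)) := fun f =>
    hrad _ _ (hFp f) fun q hq => absurd (hq (Ideal.subset_span ⟨q, rfl⟩)) (hgq q)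
  choose t₂ ht₂ hn₂ using h2
  have h3 : ∀ f : F, ∃ t ∉ p, (∃ n : ℕ, t * f.1 ^ n ∈ Ideal.span {c}) := fun f =>
    hrad _ _ (hFp f) fun q hq => absurd (hq (Ideal.mem_span_singleton_self c)) (hcq q)
  choose t₃ ht₃ hn₃ using h3
  obtain ⟨t₄, ht₄, hn₄⟩ := hrad (Ideal.span (Set.range g)) c hcp
    fun q hq => absurd (hq (Ideal.subset_span ⟨q, rfl⟩)) (hgq q)
  let h : R := (∏ qq, t₁ qq) * (∏ f, t₂ f) * (∏ f, t₃ f) * t₄
  have hh : h ∉ p := by
    intro hmem
    rcases hp.mem_or_mem hmem with h' | h'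
    · rcases hp.mem_or_mem h' with h' | h'
      · rcases hp.mem_or_mem h' with h' | h'
        · obtain ⟨i, -, hi⟩ := hp.prod_mem_iff.1 h'; exact ht₁ i hi
        · obtain ⟨i, -, hi⟩ := hp.prod_mem_iff.1 h'; exact ht₂ i hi
      · obtain ⟨i, -, hi⟩ := hp.prod_mem_iff.1 h'; exact ht₃ i hi
    · exact ht₄ h'
  have hdvd : ∀ {P : PrimeSpectrum R}, P ∈ basicOpen h →
      (∀ qq, t₁ qq ∉ P.asIdeal) ∧ (∀ f, t₂ f ∉ P.asIdeal) ∧ (∀ f, t₃ f ∉ P.asIdeal) ∧ t₄ ∉ P.asIdeal := by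
    intro P hP
    refine ⟨fun i hi => hP ?_, fun i hi => hP ?_, fun i hi => hP ?_, fun hi => hP ?_⟩
    · exact Ideal.mul_mem_right _ _ (Ideal.mul_mem_right _ _ (Ideal.mul_mem_right _ _
        (Ideal.mem_of_dvd _ (Finset.dvd_prod_of_mem _ (Finset.mem_univ i)) hi)))
    · exact Ideal.mul_mem_right _ _ (Ideal.mul_mem_right _ _ (Ideal.mul_mem_left _ _
        (Ideal.mem_of_dvd _ (Finset.dvd_prod_of_mem _ (Finset.mem_univ i)) hi)))
    · exact Ideal.mul_mem_right _ _ (Ideal.mul_mem_left _ _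
        (Ideal.mem_of_dvd _ (Finset.dvd_prod_of_mem _ (Finset.mem_univ i)) hi))
    · exact Ideal.mul_mem_left _ _ hi
  have hcov : (basicOpen h : Set (PrimeSpectrum R)) ∩ s ⊆ ⋃ q, basicOpen (g q) := by
    rintro P ⟨hPh, hPs⟩
    rw [hF] at hPs
    obtain ⟨f, hf, hPf⟩ := Set.mem_iUnion₂.1 hPs
    by_contra hne
    have hle : Ideal.span (Set.range g) ≤ P.asIdeal := Ideal.span_le.2 fun _ ⟨q, hq⟩ =>
      hq ▸ by_contra fun hn => hne (Set.mem_iUnion.2 ⟨q, hn⟩)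
    obtain ⟨n, hn⟩ := hn₂ ⟨f, hf⟩
    exact hPf (P.2.mem_of_pow_mem n ((P.2.mem_or_mem (hle hn)).resolve_left ((hdvd hPh).2.1 _)))
  refine ⟨h, c, g, hh, hgsub, fun q q' hne => ?_, hcov, hcp, Set.Subset.antisymm ?_ ?_⟩
  · refine Set.eq_empty_iff_forall_notMem.2 fun P hP => ?_
    obtain ⟨n, hn⟩ := hn₁ (q, q') hne
    have hPh : P ∈ basicOpen h := fun hm => hP (Ideal.mul_mem_right _ _ hm)
    have hz : t₁ (q, q') * (g q * g q') ^ n ∈ P.asIdeal := hn ▸ zero_mem _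
    exact hP (Ideal.mul_mem_left _ _ (P.2.mem_of_pow_mem n ((P.2.mem_or_mem hz).resolve_left ((hdvd hPh).1 _))))
  · rintro P ⟨hPh, hPs⟩ hm
    rw [hF] at hPs
    obtain ⟨f, hf, hPf⟩ := Set.mem_iUnion₂.1 hPs
    have hcP : Ideal.span {c} ≤ P.asIdeal :=
      (Ideal.span_singleton_le_iff_mem _).2 ((P.2.mem_or_mem hm).resolve_left hPh)
    obtain ⟨n, hn⟩ := hn₃ ⟨f, hf⟩
    exact hPf (P.2.mem_of_pow_mem n ((P.2.mem_or_mem (hcP hn)).resolve_left ((hdvd hPh).2.2.1 _)))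
  · intro P hP
    have hPh : P ∈ basicOpen h := fun hm => hP (Ideal.mul_mem_right _ _ hm)
    refine ⟨hPh, ?_⟩
    by_contra hPs
    have hle : Ideal.span (Set.range g) ≤ P.asIdeal := Ideal.span_le.2 fun _ ⟨q, hq⟩ =>
      hq ▸ by_contra fun hn => hPs (hgsub q hn).1
    obtain ⟨n, hn⟩ := hn₄
    exact hP (Ideal.mul_mem_left _ _ (P.2.mem_of_pow_mem n ((P.2.mem_or_mem (hle hn)).resolve_left (hdvd hPh).2.2.2)))

end Groth.Agent.H22Alg.PuncturedNbhd
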