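import Mathlib
import Groth.Agent.H22Alg.LineGlue
import Groth.Agent.H11Ample.Tensor
import Groth.Agent.H22Alg.PuncturedNbhd

/-!
# Extending invertible modules across isolated points with one-dimensional local rings
-/

set_option autoImplicit false
set_option linter.style.haveILetI false

noncomputable section

universe u

open CategoryTheory CategoryTheory.Limits AlgebraicGeometry Opposite TopologicalSpace

namespace Groth.Agent.H22Alg.PicExtend

variable {X : Scheme.{u}}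

/-- Generators on pairwise disjoint opens glue. -/
theorem exists_isGen_of_disjoint (M : X.Modules) {ι : Type u} (B : ι → X.Opens) (V : X.Opens)
    (hBV : ∀ i, B i ≤ V) (hVB : V ≤ iSup B) (hd : ∀ i j, i ≠ j → B i ⊓ B j ≤ ⊥)
    (e : ∀ i, Γ(M, B i)) (he : ∀ i, H11Tilde.IsGen M (e i)) :
    ∃ ε : Γ(M, V), H11Tilde.IsGen M ε := by
  let F : TopCat.Sheaf Ab.{u} X := ⟨M.presheaf, M.isSheaf⟩
  obtain ⟨ε, hε, -⟩ := F.existsUnique_gluing' B V (fun i => homOfLE (hBV i)) hVB e (fun i j => by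
    by_cases h : i = j
    · subst h; rfl
    · haveI : IsEmpty PEmpty.{u + 1} := inferInstance
      exact F.eq_of_locally_eq' (fun k : PEmpty.{u + 1} => k.elim) (B i ⊓ B j) (fun k => k.elim)
        (fun y hy => (hd i j h hy).elim) _ _ (fun k => k.elim))
  refine ⟨ε, fun y hy => ?_⟩
  obtain ⟨i, hi⟩ := Opens.mem_iSup.1 (hVB hy)
  have := he i y hi
  rwa [← hε i, show F.1.map (homOfLE (hBV i)).op ε = M.presheaf.map (homOfLE (hBV i)).op ε from rfl,
    TopCat.Presheaf.germ_res_apply] at this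

/-- Near an isolated point of the complement an invertible module is trivial, and the complement is principal. -/
theorem exists_nbhd (U : X.Opens) [QuasiCompact U.ι] {O : X.Opens} {x : X} (hxO : x ∈ O) (hxU : x ∉ U)
    (hO : ∀ y ∈ O, y ∉ U → y = x)
    (hloc : IsNoetherianRing (X.presheaf.stalk x) ∧ ringKrullDim (X.presheaf.stalk x) ≤ 1)
    (M : X.Modules) (hM : ∀ y ∈ U, ∃ (V : X.Opens) (e : Γ(M, V)), y ∈ V ∧ H11Tilde.IsGen M e) :
    ∃ W : X.Opens, x ∈ W ∧ W ≤ O ∧ (∃ e : Γ(M, U ⊓ W), H11Tilde.IsGen M e) ∧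
      ∃ c : Γ(X, W), X.basicOpen c = U ⊓ W := by
  classical
  obtain ⟨W₀, hW₀, hxW₀, hW₀O⟩ := exists_isAffineOpen_mem_and_subset (x := x) (U := O) hxO
  let R := Γ(X, W₀)
  let p := hW₀.primeIdealOf ⟨x, hxW₀⟩
  have hpx : hW₀.fromSpec p = x := hW₀.fromSpec_primeIdealOf ⟨x, hxW₀⟩
  let s : Set (PrimeSpectrum R) := hW₀.fromSpec ⁻¹' (U : Set X)
  -- the local ring
  letI := TopCat.Presheaf.algebra_section_stalk X.presheaf (⟨x, hxW₀⟩ : W₀)
  haveI := hW₀.isLocalization_stalk ⟨x, hxW₀⟩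
  let e₀ : Localization.AtPrime p.asIdeal ≃+* X.presheaf.stalk x :=
    (IsLocalization.algEquiv p.asIdeal.primeCompl (Localization.AtPrime p.asIdeal) (X.presheaf.stalk x)).toRingEquiv
  haveI := hloc.1
  haveI : IsNoetherianRing (Localization.AtPrime p.asIdeal) := isNoetherianRing_of_ringEquiv _ e₀.symm
  have hdim : ringKrullDim (Localization.AtPrime p.asIdeal) ≤ 1 :=
    (ringKrullDim_eq_of_ringEquiv e₀).trans_le hloc.2
  -- the open trace
  have hps : p ∉ s := fun h => hxU (by rw [← hpx]; exact h)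
  have hs : ∀ q : PrimeSpectrum R, q.asIdeal < p.asIdeal → q ∈ s := fun q hq => by
    by_contra hqs
    have hy : hW₀.fromSpec q ∈ W₀ := by
      have : hW₀.fromSpec q ∈ Set.range hW₀.fromSpec := ⟨q, rfl⟩
      rwa [hW₀.range_fromSpec] at this
    have := hO _ (hW₀O hy) hqs
    exact hq.ne (congrArg PrimeSpectrum.asIdeal (hW₀.fromSpec.isOpenEmbedding.injective (this.trans hpx.symm)))
  have hcpt : IsCompact s := by
    have h1 : IsCompact ((U.ι ⁻¹ᵁ W₀ : U.toScheme.Opens) : Set U.toScheme) :=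
      QuasiCompact.isCompact_preimage (f := U.ι) _ W₀.2 hW₀.isCompact
    refine hW₀.fromSpec.isOpenEmbedding.isInducing.isCompact_iff.2 ?_
    convert h1.image U.ι.continuous using 1
    ext y
    constructor
    · rintro ⟨q, hq, rfl⟩
      refine ⟨⟨hW₀.fromSpec q, hq⟩, ?_, rfl⟩
      show hW₀.fromSpec q ∈ W₀
      have : hW₀.fromSpec q ∈ Set.range hW₀.fromSpec := ⟨q, rfl⟩
      rwa [hW₀.range_fromSpec] at this
    · rintro ⟨z, hz, rfl⟩
      obtain ⟨q, hq⟩ : U.ι z ∈ Set.range hW₀.fromSpec := by rw [hW₀.range_fromSpec]; exact hz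
      refine ⟨q, ?_, hq⟩
      show hW₀.fromSpec q ∈ U
      rw [hq]; exact z.2
  obtain ⟨F, hF⟩ : ∃ F : Finset R, s = ⋃ f ∈ F, (PrimeSpectrum.basicOpen f : Set (PrimeSpectrum R)) := by
    obtain ⟨F, hF⟩ := hcpt.elim_finite_subcover
      (fun f : {f : R // (PrimeSpectrum.basicOpen f : Set (PrimeSpectrum R)) ⊆ s} => (PrimeSpectrum.basicOpen f.1 : Set (PrimeSpectrum R)))
      (fun f => (PrimeSpectrum.basicOpen f.1).2) (fun q hq => by
        obtain ⟨_, ⟨f, rfl⟩, hqf, hsub⟩ := PrimeSpectrum.isTopologicalBasis_basic_opens.exists_subset_of_mem_open hq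
          (U.2.preimage hW₀.fromSpec.continuous)
        exact Set.mem_iUnion.2 ⟨⟨f, hsub⟩, hqf⟩)
    refine ⟨F.image Subtype.val, Set.Subset.antisymm (fun q hq => ?_) (fun q hq => ?_)⟩
    · obtain ⟨f, hf, hqf⟩ := Set.mem_iUnion₂.1 (hF hq)
      exact Set.mem_biUnion (Finset.mem_image_of_mem _ hf) hqf
    · obtain ⟨f, hf, hqf⟩ := Set.mem_iUnion₂.1 hq
      obtain ⟨f', -, rfl⟩ := Finset.mem_image.1 hf
      exact f'.2 hqf
  choose V ε hyV hε using fun y : U => hM y.1 y.2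
  let G : PrimeSpectrum R → Set (PrimeSpectrum R) := fun q =>
    if hq : q ∈ s then hW₀.fromSpec ⁻¹' (V ⟨hW₀.fromSpec q, hq⟩ : Set X) else Set.univ
  obtain ⟨h, c, g, hh, hg, hdis, hcov, -, hc⟩ := PuncturedNbhd.exists_nbhd p.asIdeal hdim s hps hs F hF G
    (fun q hq => by
      simp only [G, dif_pos hq]
      exact ⟨(V _).2.preimage hW₀.fromSpec.continuous, hyV ⟨_, hq⟩⟩)
  let W := X.basicOpen h
  have hW : ∀ {a : R} {y : PrimeSpectrum R}, hW₀.fromSpec y ∈ X.basicOpen a ↔ y ∈ PrimeSpectrum.basicOpen a :=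
    fun {a y} => by rw [← hW₀.fromSpec_preimage_basicOpen a]; exact Iff.rfl
  have hlift : ∀ y ∈ W₀, ∃ q, hW₀.fromSpec q = y := fun y hy => by
    have : y ∈ Set.range hW₀.fromSpec := by rw [hW₀.range_fromSpec]; exact hy
    exact this
  have hxW : x ∈ W := by rw [← hpx]; exact hW.2 hh
  refine ⟨W, hxW, (X.basicOpen_le h).trans hW₀O, ?_, X.presheaf.map (homOfLE (X.basicOpen_le h)).op c, ?_⟩
  · let ι := {q : Ideal R // q.IsPrime ∧ q < p.asIdeal}
    have hq : ∀ q : ι, (⟨q.1, q.2.1⟩ : PrimeSpectrum R) ∈ s := fun q => hs _ q.2.2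
    let y : ι → U := fun q => ⟨_, hq q⟩
    let B : ι → X.Opens := fun q => W ⊓ X.basicOpen (g q)
    have hB : ∀ q, B q ≤ U ⊓ W ∧ B q ≤ V (y q) := fun q => by
      refine ⟨fun z hz => ⟨?_, hz.1⟩, fun z hz => ?_⟩ <;>
      · obtain ⟨P, rfl⟩ := hlift z (X.basicOpen_le h hz.1)
        have h2 := hg q (hW.1 hz.2)
        simp only [G, dif_pos (hq q)] at h2
        first | exact h2.1 | exact h2.2
    refine exists_isGen_of_disjoint M B (U ⊓ W) (fun q => (hB q).1) (fun z hz => ?_) (fun q q' hne z hz => ?_)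
      (fun q => M.presheaf.map (homOfLE (hB q).2).op (ε (y q))) (fun q => (hε (y q)).res (hB q).2)
    · obtain ⟨P, rfl⟩ := hlift z (X.basicOpen_le h hz.2)
      obtain ⟨q, hPq⟩ := Set.mem_iUnion.1 (hcov ⟨hW.1 hz.2, hz.1⟩)
      exact Opens.mem_iSup.2 ⟨q, hz.2, hW.2 hPq⟩
    · obtain ⟨P, rfl⟩ := hlift z (X.basicOpen_le h hz.1.1)
      have hP : P ∈ (PrimeSpectrum.basicOpen (h * (g q * g q')) : Set (PrimeSpectrum R)) := by
        show P ∈ PrimeSpectrum.basicOpen (h * (g q * g q'))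
        rw [PrimeSpectrum.basicOpen_mul, PrimeSpectrum.basicOpen_mul]
        exact ⟨hW.1 hz.1.1, hW.1 hz.1.2, hW.1 hz.2.2⟩
      rw [hdis q q' hne] at hP
      exact hP.elim
  · rw [Scheme.basicOpen_res]
    ext z
    constructor
    · rintro ⟨hz, hzc⟩
      obtain ⟨P, rfl⟩ := hlift z (X.basicOpen_le h hz)
      have : P ∈ (PrimeSpectrum.basicOpen (h * c) : Set (PrimeSpectrum R)) := by
        show P ∈ PrimeSpectrum.basicOpen (h * c)
        rw [PrimeSpectrum.basicOpen_mul]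
        exact ⟨hW.1 hz, hW.1 hzc⟩
      rw [← hc] at this
      exact ⟨this.2, hz⟩
    · rintro ⟨hzU, hz⟩
      obtain ⟨P, rfl⟩ := hlift z (X.basicOpen_le h hz)
      have : P ∈ (PrimeSpectrum.basicOpen (h * c) : Set (PrimeSpectrum R)) := hc ▸ ⟨hW.1 hz, hzU⟩
      have : P ∈ PrimeSpectrum.basicOpen (h * c) := this
      rw [PrimeSpectrum.basicOpen_mul] at this
      exact ⟨hz, hW.2 this.2⟩

end Groth.Agent.H22Alg.PicExtend

namespace Groth.Agent.H22Alg.PicExtend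

variable {X : Scheme.{u}}

/-- Retrocompact opens with discrete complement of one-dimensional points: neighbourhoods of the complement. -/
theorem exists_family (U : X.Opens) [QuasiCompact U.ι] (hdisc : DiscreteTopology ↥((U : Set X)ᶜ))
    (hloc : ∀ x : X, x ∉ U → IsNoetherianRing (X.presheaf.stalk x) ∧ ringKrullDim (X.presheaf.stalk x) ≤ 1)
    (N : (↑U : Scheme.{u}).Modules) (hN : PicF.IsInvertible N) :
    ∃ (W : {x : X // x ∉ U} → X.Opens), (∀ i j, i ≠ j → W i ⊓ W j ≤ U) ∧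
      (∀ x : X, x ∈ U ∨ ∃ i, x ∈ W i) ∧
      ∃ e : ∀ i, Γ((Scheme.Modules.pushforward U.ι).obj N, U ⊓ W i),
        (∀ i, H11Tilde.IsGen ((Scheme.Modules.pushforward U.ι).obj N) (e i)) ∧
        ∀ i, ∃ c : Γ(X, W i), X.basicOpen c = U ⊓ W i := by
  let M := (Scheme.Modules.pushforward U.ι).obj N
  have hM : ∀ y ∈ U, ∃ (V : X.Opens) (e : Γ(M, V)), y ∈ V ∧ H11Tilde.IsGen M e := fun y hy => by
    obtain ⟨V, ε, hyV, hε⟩ := H11Ample.exists_gen hN ⟨y, hy⟩
    have hpre : U.ι ⁻¹ᵁ (U.ι ''ᵁ V) = V := U.ι.preimage_image_eq V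
    exact ⟨U.ι ''ᵁ V, N.presheaf.map (homOfLE hpre.le).op ε, ⟨⟨y, hy⟩, hyV, rfl⟩,
      LineGlue.isGen_push N ((U.ι.image_le_opensRange V).trans U.opensRange_ι.le) _ (hε.res hpre.le)⟩
  have hsep : ∀ i : {x : X // x ∉ U}, ∃ O : X.Opens, i.1 ∈ O ∧ ∀ y ∈ O, y ∉ U → y = i.1 := fun i => by
    obtain ⟨O, hO, hO'⟩ := isOpen_induced_iff.1 (isOpen_discrete ({⟨i.1, i.2⟩} : Set ↥((U : Set X)ᶜ)))
    refine ⟨⟨O, hO⟩, ?_, fun y hy hyU => ?_⟩
    · exact ((Set.ext_iff.1 hO' ⟨i.1, i.2⟩).2 rfl : _)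
    · exact congrArg Subtype.val ((Set.ext_iff.1 hO' ⟨y, hyU⟩).1 hy)
  choose O hiO hO using hsep
  choose W hiW hWO hgen c hc using fun i => exists_nbhd U (hiO i) i.2 (hO i) (hloc i.1 i.2) M hM
  choose e he using hgen
  refine ⟨W, fun i j hij y hy => ?_, fun x => (em (x ∈ U)).imp id fun hx => ⟨⟨x, hx⟩, hiW _⟩,
    e, he, fun i => ⟨c i, hc i⟩⟩
  by_contra hyU
  exact hij (Subtype.ext ((hO i y (hWO i hy.1) hyU).symm.trans (hO j y (hWO j hy.2) hyU)))

/-- The open is the locus of generation of a section of an invertible module. -/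
theorem exists_section_gen_eq (U : X.Opens) [QuasiCompact U.ι] (hdisc : DiscreteTopology ↥((U : Set X)ᶜ))
    (hloc : ∀ x : X, x ∉ U → IsNoetherianRing (X.presheaf.stalk x) ∧ ringKrullDim (X.presheaf.stalk x) ≤ 1) :
    ∃ (L : X.Modules) (g : Γ(L, ⊤)), PicF.IsInvertible L ∧ H11Ample.gen L g = U := by
  let N := Coh.structureModule (↑U : Scheme.{u})
  have hN : PicF.IsInvertible N :=
    H11Ample.isInvertible_of_gen fun x => ⟨⊤, H11Ample.one ⊤, trivial, H11Ample.isGen_one ⊤⟩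
  obtain ⟨W, hW, hcov, -, -, hc⟩ := exists_family U hdisc hloc N hN
  choose c hc using hc
  let M := (Scheme.Modules.pushforward U.ι).obj N
  let n : Γ(M, ⊤) := H11Ample.one (U.ι ⁻¹ᵁ (⊤ : X.Opens))
  have hn : H11Tilde.IsGen N (show Γ(N, U.ι ⁻¹ᵁ ⊤) from n) := H11Ample.isGen_one _
  have hnU : H11Tilde.IsGen M (M.presheaf.map (homOfLE (le_top : U ≤ ⊤)).op n) :=
    LineGlue.isGen_push N le_rfl _ (hn.res (U.ι.preimage_mono le_top))
  have hu : ∀ i, ∃ v : Γ(X, U ⊓ W i), X.presheaf.map (homOfLE (inf_le_right : U ⊓ W i ≤ W i)).op (c i) * v = 1 := by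
    intro i
    refine isUnit_iff_exists_inv.1 ?_
    refine X.toRingedSpace.isUnit_of_isUnit_germ (U ⊓ W i) _ fun y hy => ?_
    have h := (X.mem_basicOpen (c i) y hy.2).1 ((hc i).ge hy)
    rwa [← TopCat.Presheaf.germ_res_apply X.presheaf (homOfLE (inf_le_right : U ⊓ W i ≤ W i)) y hy (c i)] at h
  choose v hv using hu
  let e : ∀ i, Γ(M, U ⊓ W i) := fun i => v i • M.presheaf.map (homOfLE (le_top : U ⊓ W i ≤ ⊤)).op n
  have he : ∀ i, H11Tilde.IsGen M (e i) := fun i => by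
    have h := H11Ample.isGen_res hnU (inf_le_left : U ⊓ W i ≤ U) (IsUnit.of_mul_eq_one_right _ (hv i))
    rwa [H10Coh.mres_mres] at h
  obtain ⟨L, hL, -, hsec⟩ := LineGlue.exists_glue N W hN hW hcov e he
  let f : ∀ i, Γ(X, LineGlue.R (W i) ⊤) := fun i =>
    X.presheaf.map (homOfLE (LineGlue.R_le' (W i) ⊤)).op (c i)
  obtain ⟨g, hg⟩ := hsec n f (fun i O hT hV => by
    show M.presheaf.map (homOfLE hV).op n = _
    rw [Scheme.Modules.map_smul, H10Coh.mres_mres, smul_smul, ← CommRingCat.comp_apply, ← Functor.map_comp]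
    have h1 := congrArg (X.presheaf.map (homOfLE hT).op) (hv i)
    rw [map_mul, map_one, ← CommRingCat.comp_apply, ← Functor.map_comp] at h1
    refine Eq.trans (one_smul Γ(X, O) _).symm (congrArg (fun r : Γ(X, O) => r • M.presheaf.map (homOfLE hV).op n) ?_)
    exact h1.symm) hn fun i x hx hxU hu => by
      rw [TopCat.Presheaf.germ_res_apply] at hu
      exact hxU ((hc i).le ((X.mem_basicOpen (c i) x (LineGlue.R_le' _ _ hx)).2 hu)).1
  exact ⟨L, g, hL, hg⟩

/-- Invertible modules extend across isolated one-dimensional points. -/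
theorem exists_extend (U : X.Opens) [QuasiCompact U.ι] (hdisc : DiscreteTopology ↥((U : Set X)ᶜ))
    (hloc : ∀ x : X, x ∉ U → IsNoetherianRing (X.presheaf.stalk x) ∧ ringKrullDim (X.presheaf.stalk x) ≤ 1)
    (N : (↑U : Scheme.{u}).Modules) (hN : PicF.IsInvertible N) :
    ∃ L : X.Modules, PicF.IsInvertible L ∧ Nonempty (L.restrict U.ι ≅ N) := by
  obtain ⟨W, hW, hcov, e, he, -⟩ := exists_family U hdisc hloc N hN
  obtain ⟨L, hL, hiso, -⟩ := LineGlue.exists_glue N W hN hW hcov e he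
  exact ⟨L, hL, hiso⟩

end Groth.Agent.H22Alg.PicExtend
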