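import Mathlib
import Groth.Agent.H22Alg.LineGlue
import Groth.Agent.H22Alg.PicExtend
import Groth.Agent.H17.QAffGen
import Groth.Agent.H11Proj.VeryAmpleOn
import Groth.Agent.H10Coh.AmpleVanishing
import Groth.Agent.H11Ample.Converse
import Groth.Agent.H22Alg.DimOneDiv
import Groth.Agent.H28Int.Curves
import Groth.Agent.H17.Fibre

/-!
# Lifting invertible modules along finite morphisms to one-dimensional schemes
-/

set_option autoImplicit false
set_option linter.style.haveILetI false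

noncomputable section

universe u

open CategoryTheory CategoryTheory.Limits AlgebraicGeometry Opposite TopologicalSpace
open Groth.Agent.H11Tilde Groth.Agent.H11Ample

namespace Groth.Agent.H22Alg.PicLift

variable {X Z : Scheme.{u}}

/-- An invertible module has a generator over a neighbourhood of a finite fibre of a finite morphism. -/
theorem exists_nbhd_gen' (f : Z ⟶ X) [IsAffineHom f] (hfinite : ∀ x : X, (f ⁻¹' {x}).Finite)
    (hclosed : IsClosedMap f) {L : Z.Modules} (hL : PicF.IsInvertible L) (x : X) :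
    ∃ (W : X.Opens) (ε : Γ(L, f ⁻¹ᵁ W)), x ∈ W ∧ IsGen L ε := by
  classical
  obtain ⟨A, hA, hxA, -⟩ := exists_isAffineOpen_mem_and_subset (x := x) (U := (⊤ : X.Opens)) trivial
  let A' := f ⁻¹ᵁ A
  haveI : IsAffine A'.toScheme := hA.preimage f
  have hfin : (f ⁻¹' {x}).Finite := hfinite x
  let E : Finset A'.toScheme := (hfin.preimage (f := A'.ι) (A'.ι.isOpenEmbedding.injective.injOn)).toFinset
  obtain ⟨t, ht⟩ := H17.QAffGen.exists_gen_finite (H10Coh.Tw.isInvertible_restrict A' hL) E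
  let D := A'.ι ''ᵁ gen (L.restrict A'.ι) t
  have hfib : f ⁻¹' {x} ⊆ D := fun z hz => by
    have hzA : z ∈ A' := by
      show f z ∈ A
      rw [show f z = x from hz]; exact hxA
    refine ⟨⟨z, hzA⟩, ht _ ?_, rfl⟩
    exact (Set.Finite.mem_toFinset _).2 hz
  let W : X.Opens := A ⊓ ⟨(f '' (D : Set Z)ᶜ)ᶜ, (hclosed _ D.2.isClosed_compl).isOpen_compl⟩
  have hWD : f ⁻¹ᵁ W ≤ D := fun z hz => by_contra fun h => hz.2 ⟨z, h, rfl⟩
  refine ⟨W, L.presheaf.map (homOfLE hWD).op (toImg A' L ((L.restrict A'.ι).presheaf.map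
    (homOfLE (le_top : gen (L.restrict A'.ι) t ≤ ⊤)).op t)), ⟨hxA, ?_⟩, ?_⟩
  · rintro ⟨z, hz, hzx⟩
    exact hz (hfib hzx)
  · exact (H11Proj.isGen_toImg A' (isGen_gen t)).res hWD

/-- The finite case. -/
theorem exists_nbhd_gen (f : Z ⟶ X) [IsFinite f] {L : Z.Modules} (hL : PicF.IsInvertible L) (x : X) :
    ∃ (W : X.Opens) (ε : Γ(L, f ⁻¹ᵁ W)), x ∈ W ∧ IsGen L ε :=
  exists_nbhd_gen' f (fun y => f.finite_preimage_singleton y) f.isClosedMap hL x

/-- An invertible module given by unit transition functions on the base comes from the base. -/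
theorem exists_of_units (f : Z ⟶ X) (L : Z.Modules) {I : Type u} (U : X.Opens) (ε₀ : Γ(L, f ⁻¹ᵁ U))
    (hε₀ : IsGen L ε₀) (W : I → X.Opens) (hW : ∀ i j, i ≠ j → W i ⊓ W j ≤ U)
    (hcov : ∀ x : X, x ∈ U ∨ ∃ i, x ∈ W i) (ε : ∀ i, Γ(L, f ⁻¹ᵁ W i)) (hε : ∀ i, IsGen L (ε i))
    (a : ∀ i, Γ(X, U ⊓ W i)) (ha : ∀ i, IsUnit (a i))
    (hrel : ∀ i, L.presheaf.map (homOfLE (f.preimage_mono (inf_le_right : U ⊓ W i ≤ W i))).op (ε i) =
      f.app (U ⊓ W i) (a i) • L.presheaf.map (homOfLE (f.preimage_mono (inf_le_left : U ⊓ W i ≤ U))).op ε₀) :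
    ∃ N : X.Modules, PicF.IsInvertible N ∧ Nonempty ((Scheme.Modules.pullback f).obj N ≅ L) := by
  let O := Coh.structureModule (↑U : Scheme.{u})
  let M := (Scheme.Modules.pushforward U.ι).obj O
  let o : Γ(M, U) := H11Ample.one (U.ι ⁻¹ᵁ U)
  have ho : IsGen M o := LineGlue.isGen_push O le_rfl _ (H11Ample.isGen_one _)
  let e : ∀ i, Γ(M, U ⊓ W i) := fun i => a i • M.presheaf.map (homOfLE (inf_le_left : U ⊓ W i ≤ U)).op o
  have he : ∀ i, IsGen M (e i) := fun i => isGen_res ho _ (ha i)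
  have hM := LineGlue.bijective_res_inf (U := U) O
  let N := LineGlue.glued U M W e
  let pU := LineGlue.pU U M W e
  obtain ⟨t₀, ht₀⟩ := (LineGlue.bijective_pU U M W e he (le_refl U)).2 o
  have hgt₀ : IsGen N t₀ :=
    LineGlue.isGen_of_hom pU (fun V h => LineGlue.bijective_pU U M W e he h) (by rw [ht₀]; exact ho)
  have hone : ∀ i, ∃ t : Γ(N, W i), (LineGlue.pW U M W e i).app (W i) t =
      (1 : Γ(X, LineGlue.R (W i) (W i))) ∧ IsGen N t := by
    intro i
    obtain ⟨t, ht⟩ := (LineGlue.bijective_pW U M W e hW he hM i le_rfl).2 (1 : Γ(X, LineGlue.R (W i) (W i)))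
    refine ⟨t, ht, LineGlue.isGen_of_hom (LineGlue.pW U M W e i)
      (fun V h => LineGlue.bijective_pW U M W e hW he hM i h) ?_⟩
    rw [ht]
    refine isGen_of_bijective fun V hV => ?_
    have hVR : V ≤ LineGlue.R (W i) V := LineGlue.le_R hV le_rfl
    refine Eq.mpr (congrArg Function.Bijective (funext fun r => ?_))
      (Function.bijective_iff_has_inverse.2 ⟨fun s => X.presheaf.map (homOfLE hVR).op s, fun r => ?_, fun s => ?_⟩ :
        Function.Bijective fun r : Γ(X, V) => X.presheaf.map (homOfLE (LineGlue.R_le (W i) V)).op r)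
    · refine (LineGlue.J_smul (W i) _ V r _).trans ?_
      refine Eq.trans ?_ (mul_one (X.presheaf.map (homOfLE (LineGlue.R_le (W i) V)).op r : Γ(X, LineGlue.R (W i) V)))
      exact congrArg (fun s : Γ(X, LineGlue.R (W i) V) => X.presheaf.map (homOfLE (LineGlue.R_le (W i) V)).op r * s)
        (map_one (X.presheaf.map _).hom)
    · beta_reduce
      rw [← CommRingCat.comp_apply, ← Functor.map_comp,
        show ((homOfLE (LineGlue.R_le (W i) V)).op ≫ (homOfLE hVR).op) = 𝟙 _ from Subsingleton.elim _ _]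
      simp
    · beta_reduce
      rw [← CommRingCat.comp_apply, ← Functor.map_comp,
        show ((homOfLE hVR).op ≫ (homOfLE (LineGlue.R_le (W i) V)).op) = 𝟙 _ from Subsingleton.elim _ _]
      simp
  choose t ht hgt using hone
  have htr : ∀ i, N.presheaf.map (homOfLE (inf_le_right : U ⊓ W i ≤ W i)).op (t i) =
      a i • N.presheaf.map (homOfLE (inf_le_left : U ⊓ W i ≤ U)).op t₀ := by
    intro i
    refine (LineGlue.bijective_pU U M W e he (inf_le_left : U ⊓ W i ≤ U)).1 ?_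
    rw [Scheme.Modules.Hom.app_smul]
    refine (congr($(pU.mapPresheaf.naturality (homOfLE (inf_le_right : U ⊓ W i ≤ W i)).op) (t i))).trans ?_
    refine Eq.trans ?_ (congrArg (a i • ·)
      (congr($(pU.mapPresheaf.naturality (homOfLE (inf_le_left : U ⊓ W i ≤ U)).op) t₀))).symm
    have hc := LineGlue.compat_glued U M W e (W i) (t i) i (U ⊓ W i) le_rfl inf_le_right
    rw [ht i, map_one, one_smul, H10Coh.mres_self] at hc
    exact hc.trans (congrArg (fun m : Γ(M, U) => a i • M.presheaf.map (homOfLE (inf_le_left : U ⊓ W i ≤ U)).op m) ht₀.symm)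
  refine ⟨N, ?_, ?_⟩
  · exact isInvertible_of_gen fun x => (hcov x).elim (fun hx => ⟨U, t₀, hx, hgt₀⟩)
      fun ⟨i, hi⟩ => ⟨W i, t i, hi, hgt i⟩
  let P := (Scheme.Modules.pullback f).obj N
  let s₀ : Γ(P, f ⁻¹ᵁ U) := OmegaSh.pullSect f N U t₀
  let s : ∀ i, Γ(P, f ⁻¹ᵁ W i) := fun i => OmegaSh.pullSect f N (W i) (t i)
  have hs₀ : IsGen P s₀ := IsGen.pullSect f hgt₀
  have hs : ∀ i, IsGen P (s i) := fun i => IsGen.pullSect f (hgt i)
  have hsr : ∀ i, P.presheaf.map (homOfLE (f.preimage_mono (inf_le_right : U ⊓ W i ≤ W i))).op (s i) =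
      f.app (U ⊓ W i) (a i) • P.presheaf.map (homOfLE (f.preimage_mono (inf_le_left : U ⊓ W i ≤ U))).op s₀ := by
    intro i
    have h := congrArg (OmegaSh.pullSect f N (U ⊓ W i)) (htr i)
    rwa [pullSect_res, OmegaSh.pullSect_smul, pullSect_res] at h
  let V : Option I → Z.Opens := fun j => j.elim (f ⁻¹ᵁ U) fun i => f ⁻¹ᵁ W i
  let es : ∀ j, Γ(P, V j) := fun j => Option.rec (motive := fun j => Γ(P, V j)) s₀ s j
  let el : ∀ j, Γ(L, V j) := fun j => Option.rec (motive := fun j => Γ(L, V j)) ε₀ ε j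
  have hcoeff : ∀ (j : Option I) (O : Z.Opens) (hj : O ≤ V j) (hO : O ≤ f ⁻¹ᵁ U),
      ∃ c : Γ(Z, O), P.presheaf.map (homOfLE hj).op (es j) = c • P.presheaf.map (homOfLE hO).op s₀ ∧
        L.presheaf.map (homOfLE hj).op (el j) = c • L.presheaf.map (homOfLE hO).op ε₀ := by
    intro j O hj hO
    cases j with
    | none => exact ⟨1, (one_smul _ _).symm, (one_smul _ _).symm⟩
    | some i =>
      have h' : O ≤ f ⁻¹ᵁ (U ⊓ W i) := fun z hz => ⟨hO hz, hj hz⟩
      refine ⟨Z.presheaf.map (homOfLE h').op (f.app (U ⊓ W i) (a i)), ?_, ?_⟩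
      · have h := congrArg (P.presheaf.map (homOfLE h').op) (hsr i)
        rwa [Scheme.Modules.map_smul, H10Coh.mres_mres, H10Coh.mres_mres] at h
      · have h := congrArg (L.presheaf.map (homOfLE h').op) (hrel i)
        rwa [Scheme.Modules.map_smul, H10Coh.mres_mres, H10Coh.mres_mres] at h
  have hges : ∀ j, IsGen P (es j) := fun j => by cases j <;> first | exact hs₀ | exact hs _
  have hgel : ∀ j, IsGen L (el j) := fun j => by cases j <;> first | exact hε₀ | exact hε _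
  refine ⟨(exists_iso_of_gen V (fun z => ?_) es hges el hgel fun i j u hu => ?_).choose⟩
  · exact (hcov (f z)).elim (fun h => ⟨none, h⟩) fun ⟨i, hi⟩ => ⟨some i, hi⟩
  · by_cases hij : i = j
    · subst hij
      have h1 : (u : Γ(Z, V i ⊓ V i)) = 1 := by
        refine ((hges i).bijective (inf_le_right : V i ⊓ V i ≤ V i)).1 ?_
        beta_reduce
        rw [← hu, one_smul]
      rw [h1, one_smul]
    · have hO : V i ⊓ V j ≤ f ⁻¹ᵁ U := by
        intro z hz
        cases i with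
        | none => exact hz.1
        | some i =>
          cases j with
          | none => exact hz.2
          | some j => exact hW i j (fun h => hij (congrArg some h)) ⟨hz.1, hz.2⟩
      obtain ⟨ci, hPi, hLi⟩ := hcoeff i (V i ⊓ V j) inf_le_left hO
      obtain ⟨cj, hPj, hLj⟩ := hcoeff j (V i ⊓ V j) inf_le_right hO
      rw [hPi, hPj, smul_smul] at hu
      rw [hLi, hLj, smul_smul, (hs₀.bijective hO).1 hu]

end Groth.Agent.H22Alg.PicLift

namespace Groth.Agent.H22Alg.PicLift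

variable {X Z : Scheme.{u}}

/-- Composites of restriction maps. -/
theorem res2 {P Q R : Z.Opens} (b : Q ⟶ P) (c : R ⟶ Q) (d : R ⟶ P) (x : Γ(Z, P)) :
    Z.presheaf.map c.op (Z.presheaf.map b.op x) = Z.presheaf.map d.op x := by
  rw [← CommRingCat.comp_apply, ← Functor.map_comp, ← op_comp, Subsingleton.elim (c ≫ b) d]

/-- A closed set of closed points in a Noetherian space is finite. -/
theorem finite_of_closed_points [NoetherianSpace X] {C : Set X} (hC : IsClosed C)
    (h : ∀ x ∈ C, IsClosed ({x} : Set X)) : C.Finite := by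
  obtain ⟨S, hSfin, hScl, hSirr, rfl⟩ := NoetherianSpace.exists_finite_set_isClosed_irreducible hC
  refine hSfin.sUnion fun t ht => ?_
  obtain ⟨η, hη⟩ := QuasiSober.sober (hSirr t ht) (hScl t ht)
  have hηt : η ∈ t := hη.mem
  rw [← hη.def, (h η ⟨t, ht, hηt⟩).closure_eq]
  exact Set.finite_singleton η

/-- Units upstairs lift near a point over which the morphism is a closed immersion. -/
theorem exists_unit_lift (f : Z ⟶ X) [IsFinite f] (V : X.Opens) (hfV : IsClosedImmersion (f ∣_ V))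
    {η : X} (hηV : η ∈ V) {B : X.Opens} (hη : η ∈ B) (u : Γ(Z, f ⁻¹ᵁ B)) (hu : IsUnit u) :
    ∃ (B' : X.Opens) (hB' : B' ≤ B) (a : Γ(X, B')), η ∈ B' ∧ IsUnit a ∧
      f.app B' a = Z.presheaf.map (homOfLE (f.preimage_mono hB')).op u := by
  by_cases hz : ∃ z, f z = η
  · obtain ⟨z, rfl⟩ := hz
    have hzV : z ∈ f ⁻¹ᵁ V := hηV
    have hsurj : Function.Surjective (f.stalkMap z) := by
      have e := morphismRestrictStalkMap f V ⟨z, hzV⟩
      have h1 : Function.Surjective ((f ∣_ V).stalkMap ⟨z, hzV⟩) := (f ∣_ V).stalkMap_surjective _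
      have h2 : e.inv.left ≫ (f ∣_ V).stalkMap ⟨z, hzV⟩ ≫ e.hom.right = f.stalkMap z := by
        have := e.hom.w
        simp only [Arrow.mk_hom, Arrow.mk_left, Arrow.mk_right, Functor.id_map, Functor.id_obj] at this
        rw [← this, ← Category.assoc, ← Arrow.comp_left, e.inv_hom_id, Arrow.id_left, Category.id_comp]
      rw [← h2]
      exact ((ConcreteCategory.bijective_of_isIso e.hom.right).2.comp
        (h1.comp (ConcreteCategory.bijective_of_isIso e.inv.left).2))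
    obtain ⟨s, hs⟩ := hsurj (Z.presheaf.germ (f ⁻¹ᵁ B) z hη u)
    haveI : IsLocalHom (f.stalkMap z).hom := inferInstance
    have hsu : IsUnit s := IsUnit.of_map (f.stalkMap z).hom s (by
      show IsUnit (f.stalkMap z s)
      rw [hs]; exact hu.map _)
    obtain ⟨B₁, hz₁, s, rfl⟩ := X.presheaf.exists_germ_eq s
    let B₂ := X.basicOpen (X.presheaf.map (homOfLE (inf_le_left : B₁ ⊓ B ≤ B₁)).op s)
    have hB₂ : B₂ ≤ B₁ ⊓ B := X.basicOpen_le _
    have hηB₂ : f z ∈ B₂ := by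
      refine (X.mem_basicOpen _ (f z) (show f z ∈ B₁ ⊓ B from ⟨hz₁, hη⟩)).2 ?_
      rwa [TopCat.Presheaf.germ_res_apply]
    have hg : Z.presheaf.germ (f ⁻¹ᵁ B₂) z hηB₂
        (f.app B₂ (X.presheaf.map (homOfLE (hB₂.trans inf_le_left)).op s)) =
        Z.presheaf.germ (f ⁻¹ᵁ B₂) z hηB₂ (Z.presheaf.map (homOfLE (f.preimage_mono (hB₂.trans inf_le_right))).op u) := by
      rw [← Scheme.Hom.germ_stalkMap_apply, TopCat.Presheaf.germ_res_apply, TopCat.Presheaf.germ_res_apply]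
      exact hs
    obtain ⟨N, hzN, j₁, j₂, hN⟩ := Z.presheaf.germ_eq z hηB₂ hηB₂ _ _ hg
    let B' : X.Opens := B₂ ⊓ V ⊓ ⟨(f '' (N : Set Z)ᶜ)ᶜ, (f.isClosedMap _ N.2.isClosed_compl).isOpen_compl⟩
    have hB'₂ : B' ≤ B₂ := inf_le_left.trans inf_le_left
    have hB'N : f ⁻¹ᵁ B' ≤ N := fun w hw => by_contra fun h => hw.2 ⟨w, h, rfl⟩
    refine ⟨B', hB'₂.trans (hB₂.trans inf_le_right),
      X.presheaf.map (homOfLE (hB'₂.trans (hB₂.trans inf_le_left))).op s, ⟨⟨hηB₂, hηV⟩, ?_⟩, ?_, ?_⟩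
    · rintro ⟨w, hw, hwz⟩
      have hwV : w ∈ f ⁻¹ᵁ V := by show f w ∈ V; rw [hwz]; exact hηV
      have : (⟨w, hwV⟩ : ↥(f ⁻¹ᵁ V)) = ⟨z, hzV⟩ := (f ∣_ V).isClosedEmbedding.injective
        (Subtype.ext (by rw [morphismRestrict_base_coe, morphismRestrict_base_coe]; exact hwz))
      exact hw (by rw [show w = z from congrArg Subtype.val this]; exact hzN)
    · have h := X.toRingedSpace.isUnit_res_basicOpen (X.presheaf.map (homOfLE (inf_le_left : B₁ ⊓ B ≤ B₁)).op s)
      have h2 := h.map (X.presheaf.map (homOfLE hB'₂).op).hom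
      have e : ∀ {P Q R S : X.Opens} (a : R ≤ P) (b : Q ≤ R) (c : S ≤ Q) (x : Γ(X, P)),
          X.presheaf.map (homOfLE c).op (X.presheaf.map (homOfLE b).op (X.presheaf.map (homOfLE a).op x)) =
            X.presheaf.map (homOfLE (c.trans (b.trans a))).op x := fun a b c x => by
        rw [← CommRingCat.comp_apply, ← Functor.map_comp, ← CommRingCat.comp_apply, ← Functor.map_comp]
        rfl
      rw [← e (inf_le_left : B₁ ⊓ B ≤ B₁) hB₂ hB'₂ s]
      exact h2
    · have h := congrArg (Z.presheaf.map (homOfLE hB'N).op) hN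
      rw [res2 j₁ (homOfLE hB'N) (homOfLE (f.preimage_mono hB'₂)),
        res2 j₂ (homOfLE hB'N) (homOfLE (f.preimage_mono hB'₂)),
        res2 (homOfLE (f.preimage_mono (hB₂.trans inf_le_right))) (homOfLE (f.preimage_mono hB'₂))
          (homOfLE (f.preimage_mono (hB'₂.trans (hB₂.trans inf_le_right))))] at h
      have hnat := congr($(f.naturality (homOfLE hB'₂).op) (X.presheaf.map (homOfLE (hB₂.trans inf_le_left)).op s))
      simp only [CommRingCat.comp_apply] at hnat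
      rw [res2 (homOfLE (hB₂.trans inf_le_left)) (homOfLE hB'₂) (homOfLE (hB'₂.trans (hB₂.trans inf_le_left)))] at hnat
      exact hnat.trans h
  · let B' : X.Opens := B ⊓ ⟨(f '' Set.univ)ᶜ, (f.isClosedMap _ isClosed_univ).isOpen_compl⟩
    refine ⟨B', inf_le_left, 1, ⟨hη, fun ⟨z, _, e⟩ => hz ⟨z, e⟩⟩, isUnit_one, ?_⟩
    have hbot : f ⁻¹ᵁ B' = ⊥ := eq_bot_iff.2 fun w hw => (hw.2 ⟨w, trivial, rfl⟩).elim
    haveI : Subsingleton Γ(Z, f ⁻¹ᵁ B') := by rw [hbot]; infer_instance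
    exact Subsingleton.elim _ _

/-- Invertible modules lift along finite morphisms which are closed immersions over a dense open,
to schemes with Noetherian space of dimension at most one. -/
theorem exists_lift (f : Z ⟶ X) [IsFinite f] [NoetherianSpace X] (hdim : topologicalKrullDim X ≤ 1)
    (V : X.Opens) (hV : Dense (V : Set X)) (hfV : IsClosedImmersion (f ∣_ V))
    (L : Z.Modules) (hL : PicF.IsInvertible L) :
    ∃ N : X.Modules, PicF.IsInvertible N ∧ Nonempty ((Scheme.Modules.pullback f).obj N ≅ L) := by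
  classical
  let G : Set X := genericPoints X
  have hG : G.Finite := by
    haveI : Finite (irreducibleComponents X) := (NoetherianSpace.finite_irreducibleComponents (α := X)).to_subtype
    haveI : Finite (genericPoints X) := Finite.of_equiv _ (genericPoints.equiv (α := X)).symm
    exact Set.toFinite _
  haveI : Finite G := hG.to_subtype
  have hgen : ∀ x : X, ∃ η ∈ G, η ⤳ x := fun x => H17.exists_genericPoint_specializes x
  have hmax : ∀ η ∈ G, ∀ y : X, y ⤳ η → y = η := fun η hη y hy => by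
    obtain ⟨g, hg, hgy⟩ := hgen y
    have : g = η := by
      refine (isGenericPoint_closure (x := g)).eq (isGenericPoint_def.2 ?_)
      exact ((hη : closure {η} ∈ irreducibleComponents X).eq_of_ge (hg : closure {g} ∈ irreducibleComponents X).1
        (closure_minimal (Set.singleton_subset_iff.2 (specializes_iff_mem_closure.1 (hgy.trans hy))) isClosed_closure)).symm
    subst this
    exact (hy.antisymm hgy).eq
  have hclosed : ∀ y : X, y ∉ G → IsClosed ({y} : Set X) := fun y hy => by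
    obtain ⟨η, hη, hs⟩ := hgen y
    exact DimOneDiv.isClosed_singleton_of_lt hs (fun h => hy (h ▸ hη))
      ((H28Int.dim_le_of_subset (Set.subset_univ _)).trans
        ((IsHomeomorph.topologicalKrullDim_eq _ (Homeomorph.Set.univ X).isHomeomorph).le.trans hdim))
  have hO : ∀ η : G, ∃ O : X.Opens, η.1 ∈ O ∧ O ≤ V ∧ ∀ y ∈ O, η.1 ⤳ y ∧ ∀ g ∈ G, g ⤳ y → g = η.1 := fun η => by
    let C : Set X := ⋃ g ∈ G \ {η.1}, closure {g}
    have hC : IsClosed C := (hG.subset Set.diff_subset).isClosed_biUnion fun _ _ => isClosed_closure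
    have hηC : η.1 ∉ C := fun h => by
      obtain ⟨g, hg, hgη⟩ := Set.mem_iUnion₂.1 h
      exact hg.2 (hmax η.1 η.2 g (specializes_iff_mem_closure.2 hgη))
    have hy : ∀ y ∈ Cᶜ, η.1 ⤳ y ∧ ∀ g ∈ G, g ⤳ y → g = η.1 := fun y hy => by
      have key : ∀ g ∈ G, g ⤳ y → g = η.1 := fun g hg hgy => by_contra fun hne =>
        hy (Set.mem_biUnion (show g ∈ G \ {η.1} from ⟨hg, hne⟩) (specializes_iff_mem_closure.1 hgy))
      obtain ⟨g, hg, hgy⟩ := hgen y
      exact ⟨key g hg hgy ▸ hgy, key⟩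
    have hηV : η.1 ∈ V := by
      obtain ⟨y, hyV, hyC⟩ := hV.inter_open_nonempty _ hC.isOpen_compl ⟨η.1, hηC⟩
      exact ((hy y hyV).1).mem_open V.2 hyC
    exact ⟨⟨Cᶜ, hC.isOpen_compl⟩ ⊓ V, ⟨hηC, hηV⟩, inf_le_right, fun y hy' => hy y hy'.1⟩
  choose O hηO hOV hOy using hO
  choose B εB hηB hεB using fun η : G => exists_nbhd_gen f hL η.1
  let U' : G → X.Opens := fun η => O η ⊓ B η
  have hdisj : ∀ η η' : G, η ≠ η' → ∀ y, y ∈ O η → y ∉ O η' := fun η η' hne y hy hy' =>
    hne (Subtype.ext ((hOy η' y hy').2 η.1 η.2 (hOy η y hy).1))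
  let U : X.Opens := iSup U'
  have hU' : ∀ η, U' η ≤ U := le_iSup U'
  obtain ⟨ε₀, hε₀⟩ := PicExtend.exists_isGen_of_disjoint L (fun η => f ⁻¹ᵁ U' η) (f ⁻¹ᵁ U)
    (fun η => f.preimage_mono (hU' η))
    (fun z hz => by obtain ⟨η, hη⟩ := Opens.mem_iSup.1 (show f z ∈ iSup U' from hz); exact Opens.mem_iSup.2 ⟨η, hη⟩)
    (fun η η' hne z hz => (hdisj η η' hne (f z) hz.1.1 hz.2.1).elim)
    (fun η => L.presheaf.map (homOfLE (f.preimage_mono inf_le_right)).op (εB η)) (fun η => (hεB η).res _)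
  -- the finitely many remaining points
  have hGU : G ⊆ U := fun g hg => hU' ⟨g, hg⟩ ⟨hηO _, hηB _⟩
  have hbad : (U : Set X)ᶜ.Finite := finite_of_closed_points U.2.isClosed_compl fun x hx => hclosed x fun h => hx (hGU h)
  let I := {y : X // y ∉ U}
  have hI : ∀ i : I, ∃ (W : X.Opens) (ε : Γ(L, f ⁻¹ᵁ W)) (a : Γ(X, U ⊓ W)), i.1 ∈ W ∧
      (∀ y ∈ W, y ∉ U → y = i.1) ∧ IsGen L ε ∧ IsUnit a ∧
      L.presheaf.map (homOfLE (f.preimage_mono (inf_le_right : U ⊓ W ≤ W))).op ε =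
        f.app (U ⊓ W) a • L.presheaf.map (homOfLE (f.preimage_mono (inf_le_left : U ⊓ W ≤ U))).op ε₀ := by
    intro i
    obtain ⟨W₁, ε₁, hiW₁, hε₁⟩ := exists_nbhd_gen f hL i.1
    have h0 := hε₀.res (f.preimage_mono (inf_le_left : U ⊓ W₁ ≤ U))
    obtain ⟨u, hu⟩ := exists_coeff h0 (L.presheaf.map (homOfLE (f.preimage_mono (inf_le_right : U ⊓ W₁ ≤ W₁))).op ε₁)
    have huu : IsUnit u := by
      refine Z.toRingedSpace.isUnit_of_isUnit_germ _ _ fun z hz => ?_
      refine isUnit_of_bijective_smul h0 hz ?_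
      have := ((hε₁.res (f.preimage_mono (inf_le_right : U ⊓ W₁ ≤ W₁))) z hz).2
      rwa [hu, H06Mod.germ_smul] at this
    have hlift : ∀ η : G, ∃ (V' : X.Opens) (hV' : V' ⊓ W₁ ≤ U ⊓ W₁) (a : Γ(X, V' ⊓ W₁)), η.1 ∈ V' ∧ V' ≤ U' η ∧
        IsUnit a ∧ f.app (V' ⊓ W₁) a = Z.presheaf.map (homOfLE (f.preimage_mono hV')).op u := by
      intro η
      by_cases hηW : η.1 ∈ W₁
      · obtain ⟨B', hB', a, hηB', hau, hfa⟩ := exists_unit_lift f V hfV (hOV η (hηO η))
          (B := U ⊓ W₁) ⟨hGU η.2, hηW⟩ u huu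
        let V' := B' ⊓ U' η
        have hle : V' ⊓ W₁ ≤ B' := inf_le_left.trans inf_le_left
        refine ⟨V', hle.trans hB', X.presheaf.map (homOfLE hle).op a, ⟨hηB', hηO η, hηB η⟩, inf_le_right,
          hau.map _, ?_⟩
        have hnat := congr($(f.naturality (homOfLE hle).op) a)
        simp only [CommRingCat.comp_apply] at hnat
        refine hnat.trans ?_
        rw [hfa]
        exact res2 _ (homOfLE (f.preimage_mono hle)) _ u
      · have hbot : U' η ⊓ W₁ = ⊥ := eq_bot_iff.2 fun y hy =>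
          (hηW (((hOy η y hy.1.1).1).mem_open W₁.2 hy.2)).elim
        refine ⟨U' η, inf_le_inf_right _ (hU' η), 1, ⟨hηO η, hηB η⟩, le_rfl, isUnit_one, ?_⟩
        haveI : Subsingleton Γ(Z, f ⁻¹ᵁ (U' η ⊓ W₁)) := by
          rw [show f ⁻¹ᵁ (U' η ⊓ W₁) = ⊥ from by rw [hbot]; rfl]; infer_instance
        exact Subsingleton.elim _ _
    choose V' hV' a hηV' hV'U hau hfa using hlift
    let C : Set X := ((iSup V' : X.Opens) : Set X)ᶜ \ {i.1}
    have hCfin : C.Finite := (finite_of_closed_points (iSup V').2.isClosed_compl fun x hx =>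
      hclosed x fun h => hx (Opens.mem_iSup.2 ⟨⟨x, h⟩, hηV' _⟩)).subset Set.diff_subset
    have hCcl : IsClosed C := by
      rw [← Set.biUnion_of_singleton C]
      exact hCfin.isClosed_biUnion fun x hx => hclosed x fun h => hx.1 (Opens.mem_iSup.2 ⟨⟨x, h⟩, hηV' _⟩)
    let W : X.Opens := W₁ ⊓ ⟨Cᶜ, hCcl.isOpen_compl⟩
    have hWV' : U ⊓ W ≤ iSup fun η => V' η ⊓ W := fun y hy => by
      by_contra h
      have hyV : y ∉ (iSup V' : X.Opens) := fun hm => h (by
        obtain ⟨η, hη⟩ := Opens.mem_iSup.1 hm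
        exact Opens.mem_iSup.2 ⟨η, hη, hy.2⟩)
      exact hy.2.2 ⟨hyV, fun he => i.2 ((he : y = i.1) ▸ hy.1)⟩
    have hWe : ∀ y ∈ W, y ∉ U → y = i.1 := fun y hy hyU => by
      by_contra hne
      refine hy.2 ⟨fun hm => ?_, hne⟩
      obtain ⟨η, hη⟩ := Opens.mem_iSup.1 hm
      exact hyU (hU' η (hV'U η hη))
    have hBle : ∀ η, V' η ⊓ W ≤ U ⊓ W := fun η => inf_le_inf_right _ ((hV'U η).trans (hU' η))
    obtain ⟨b, hb, -⟩ := X.sheaf.existsUnique_gluing' (fun η => V' η ⊓ W) (U ⊓ W) (fun η => homOfLE (hBle η)) hWV'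
      (fun η => X.presheaf.map (homOfLE (inf_le_inf_left (V' η) (inf_le_left : W ≤ W₁))).op (a η))
      (fun η η' => by
        by_cases h : η = η'
        · subst h; rfl
        · have hbot : (V' η ⊓ W) ⊓ (V' η' ⊓ W) = ⊥ := eq_bot_iff.2 fun y hy =>
            (hdisj η η' h y (hV'U η hy.1.1).1 (hV'U η' hy.2.1).1).elim
          haveI : Subsingleton Γ(X, (V' η ⊓ W) ⊓ (V' η' ⊓ W)) := by rw [hbot]; infer_instance
          exact @Subsingleton.elim Γ(X, (V' η ⊓ W) ⊓ (V' η' ⊓ W)) _ _ _)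
    refine ⟨W, L.presheaf.map (homOfLE (f.preimage_mono (inf_le_left : W ≤ W₁))).op ε₁, b,
      ⟨hiW₁, fun h => h.2 rfl⟩, hWe, hε₁.res _, ?_, ?_⟩
    · refine X.toRingedSpace.isUnit_of_isUnit_germ _ _ fun y hy => ?_
      obtain ⟨η, hη⟩ := Opens.mem_iSup.1 (hWV' hy)
      have h := ((hau η).map (X.presheaf.map (homOfLE (inf_le_inf_left (V' η) (inf_le_left : W ≤ W₁))).op).hom).map
        (X.presheaf.germ (V' η ⊓ W) y hη).hom
      rw [← hb η] at h
      erw [TopCat.Presheaf.germ_res_apply] at h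
      exact h
    · rw [H10Coh.mres_mres]
      have hfb : f.app (U ⊓ W) b = Z.presheaf.map (homOfLE (f.preimage_mono
          (inf_le_inf_left U (inf_le_left : W ≤ W₁)))).op u := by
        refine Z.sheaf.eq_of_locally_eq' (fun η => f ⁻¹ᵁ (V' η ⊓ W)) (f ⁻¹ᵁ (U ⊓ W))
          (fun η => homOfLE (f.preimage_mono (hBle η))) (fun z hz => ?_) _ _ fun η => ?_
        · obtain ⟨η, hη⟩ := Opens.mem_iSup.1 (hWV' (show f z ∈ U ⊓ W from hz))
          exact Opens.mem_iSup.2 ⟨η, hη⟩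
        · have h1 := congr($(f.naturality (homOfLE (hBle η)).op) b)
          have h2 := congr($(f.naturality (homOfLE (inf_le_inf_left (V' η) (inf_le_left : W ≤ W₁))).op) (a η))
          simp only [CommRingCat.comp_apply] at h1 h2
          refine h1.symm.trans ?_
          erw [hb η]
          refine h2.trans ?_
          rw [hfa η]
          exact (res2 _ (homOfLE (f.preimage_mono (inf_le_inf_left (V' η) (inf_le_left : W ≤ W₁))))
            (homOfLE (f.preimage_mono ((hBle η).trans (inf_le_inf_left U inf_le_left)))) u).trans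
            (res2 (homOfLE (f.preimage_mono (inf_le_inf_left U (inf_le_left : W ≤ W₁))))
              (homOfLE (f.preimage_mono (hBle η))) _ u).symm
      have h := congrArg (L.presheaf.map (homOfLE (f.preimage_mono (inf_le_inf_left U (inf_le_left : W ≤ W₁)))).op) hu
      rw [Scheme.Modules.map_smul, H10Coh.mres_mres, H10Coh.mres_mres] at h
      rw [hfb]
      exact h
  choose W ε a hiW hWy hε ha hrel using hI
  exact exists_of_units f L U ε₀ hε₀ W
    (fun i j hij y hy => by_contra fun hyU => hij (Subtype.ext ((hWy i y hy.1 hyU).symm.trans (hWy j y hy.2 hyU))))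
    (fun x => (em (x ∈ U)).imp id fun hx => ⟨⟨x, hx⟩, hiW _⟩) ε hε a ha hrel

end Groth.Agent.H22Alg.PicLift
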