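import Mathlib
import Groth.Agent.H22Alg.PicLift

/-!
# Lifting invertible modules along finite morphisms which are isomorphisms off isolated points
-/

set_option autoImplicit false
set_option linter.style.haveILetI false

noncomputable section

universe u

open CategoryTheory CategoryTheory.Limits AlgebraicGeometry Opposite TopologicalSpace
open Groth.Agent.H11Tilde Groth.Agent.H11Ample

namespace Groth.Agent.H22Alg.PicLiftIso

variable {X Z : Scheme.{u}}

theorem app_bijective (f : Z ⟶ X) (V : X.Opens) (hV : IsIso (f ∣_ V)) {B : X.Opens} (hB : B ≤ V) :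
    Function.Bijective (f.app B) := by
  have h1 : IsIso ((f ∣_ V).app (V.ι ⁻¹ᵁ B)) := inferInstance
  rw [morphismRestrict_app] at h1
  have h2 : V.ι ''ᵁ (V.ι ⁻¹ᵁ B) = B := by
    rw [Scheme.Hom.image_preimage_eq_opensRange_inf, Scheme.Opens.opensRange_ι, inf_eq_right.2 hB]
  have h4 : IsIso (f.app (V.ι ''ᵁ (V.ι ⁻¹ᵁ B))) := by
    haveI := h1
    exact @IsIso.of_isIso_comp_right _ _ _ _ _ _ _ (Functor.map_isIso _ _) h1
  rw [h2] at h4
  exact ConcreteCategory.bijective_of_isIso _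

/-- An invertible module trivial near each point outside an open over which the morphism is an isomorphism
comes from the base. -/
theorem exists_lift' (f : Z ⟶ X)
    (hgen : ∀ {L : Z.Modules}, PicF.IsInvertible L → ∀ x : X,
      ∃ (W : X.Opens) (ε : Γ(L, f ⁻¹ᵁ W)), x ∈ W ∧ IsGen L ε) (V : X.Opens) (hV : IsIso (f ∣_ V))
    (hdisc : DiscreteTopology ((V : Set X)ᶜ : Set X)) (L : Z.Modules) (hL : PicF.IsInvertible L) :
    ∃ N : X.Modules, PicF.IsInvertible N ∧ Nonempty ((Scheme.Modules.pullback f).obj N ≅ L) := by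
  classical
  let P := (Scheme.Modules.pushforward f).obj L
  let N₀ := P.restrict V.ι
  let M := (Scheme.Modules.pushforward V.ι).obj N₀
  -- generators of the direct image over the open
  let J := {p : Σ B : X.Opens, Γ(L, f ⁻¹ᵁ B) // p.1 ≤ V ∧ IsGen L p.2}
  have hgenP : ∀ (B : X.Opens) (ε : Γ(L, f ⁻¹ᵁ B)), B ≤ V → IsGen L ε →
      IsGen P (show Γ(P, B) from ε) := fun B ε hB hε => isGen_of_bijective fun B' hB' => by
    exact (hε.bijective (f.preimage_mono hB')).comp (app_bijective f V hV (hB'.trans hB))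
  have hJ : ∀ x ∈ V, ∃ j : J, x ∈ j.1.1 := fun x hx => by
    obtain ⟨B, ε, hxB, hε⟩ := hgen hL x
    exact ⟨⟨⟨B ⊓ V, L.presheaf.map (homOfLE (f.preimage_mono inf_le_left)).op ε⟩, inf_le_right, hε.res _⟩, hxB, hx⟩
  -- the neighbourhoods of the remaining points
  let I := {x : X // x ∉ V}
  have hI : ∀ i : I, ∃ (W : X.Opens) (ε : Γ(L, f ⁻¹ᵁ W)), i.1 ∈ W ∧ (∀ y ∈ W, y ∉ V → y = i.1) ∧ IsGen L ε := by
    intro i
    obtain ⟨W, ε, hiW, hε⟩ := hgen hL i.1
    obtain ⟨O, hO, hO'⟩ := isOpen_induced_iff.1 (isOpen_discrete ({⟨i.1, i.2⟩} : Set ↥((V : Set X)ᶜ)))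
    refine ⟨W ⊓ ⟨O, hO⟩, L.presheaf.map (homOfLE (f.preimage_mono inf_le_left)).op ε, ⟨hiW, ?_⟩, fun y hy hyV => ?_,
      hε.res _⟩
    · exact ((Set.ext_iff.1 hO' ⟨i.1, i.2⟩).2 rfl : _)
    · exact congrArg Subtype.val ((Set.ext_iff.1 hO' ⟨y, hyV⟩).1 hy.2)
  choose W ε hiW hWy hε using hI
  have hW : ∀ i j, i ≠ j → W i ⊓ W j ≤ V := fun i j hij y hy => by_contra fun hyV =>
    hij (Subtype.ext ((hWy i y hy.1 hyV).symm.trans (hWy j y hy.2 hyV)))
  -- the glued module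
  have himg : ∀ B : X.Opens, V.ι ''ᵁ (V.ι ⁻¹ᵁ B) ≤ B := fun B => V.ι.image_preimage_le B
  let toM : ∀ B : X.Opens, Γ(L, f ⁻¹ᵁ B) → Γ(M, B) := fun B m =>
    (show Γ(N₀, V.ι ⁻¹ᵁ B) from P.presheaf.map (homOfLE (himg B)).op (show Γ(P, B) from m))
  have hgenM : ∀ (B : X.Opens) (m : Γ(L, f ⁻¹ᵁ B)), B ≤ V → IsGen L m → IsGen M (toM B m) := fun B m hB hm =>
    LineGlue.isGen_push N₀ hB _ (H11Ample.isGen_restrict V (hgenP B m hB hm) (himg B))
  let e : ∀ i, Γ(M, V ⊓ W i) := fun i =>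
    toM (V ⊓ W i) (L.presheaf.map (homOfLE (f.preimage_mono inf_le_right)).op (ε i))
  have he : ∀ i, IsGen M (e i) := fun i => hgenM _ _ inf_le_left ((hε i).res _)
  have hM := LineGlue.bijective_res_inf (U := V) N₀
  let N := LineGlue.glued V M W e
  let pU := LineGlue.pU V M W e
  -- generators
  have hpU : ∀ B ≤ V, Function.Bijective (pU.app B) := fun B hB => LineGlue.bijective_pU V M W e he hB
  have hpW : ∀ i, ∀ B ≤ W i, Function.Bijective ((LineGlue.pW V M W e i).app B) := fun i B hB =>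
    LineGlue.bijective_pW V M W e hW he hM i hB
  let B : J ⊕ I → X.Opens := Sum.elim (fun j => j.1.1) W
  let m : ∀ a : J ⊕ I, Γ(L, f ⁻¹ᵁ B a) := fun a => Sum.rec (motive := fun a => Γ(L, f ⁻¹ᵁ B a)) (fun j => j.1.2) ε a
  have hm : ∀ a, IsGen L (m a) := fun a => by
    rcases a with j | i
    · exact j.2.2
    · exact hε i
  have hgenN : ∀ a : J ⊕ I, ∃ t : Γ(N, B a), IsGen N t ∧ ∀ (O : X.Opens) (hO : O ≤ B a), O ≤ V →
      pU.app O (N.presheaf.map (homOfLE hO).op t) = toM O (L.presheaf.map (homOfLE (f.preimage_mono hO)).op (m a)) := by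
    have hnat : ∀ {A O : X.Opens} (hO : O ≤ A) (v : Γ(L, f ⁻¹ᵁ A)),
        M.presheaf.map (homOfLE hO).op (toM A v) = toM O (L.presheaf.map (homOfLE (f.preimage_mono hO)).op v) := by
      intro A O hO v
      show P.presheaf.map (homOfLE (V.ι.image_mono (V.ι.preimage_mono hO))).op
        (P.presheaf.map (homOfLE (himg A)).op (show Γ(P, A) from v)) = P.presheaf.map (homOfLE (himg O)).op
          (P.presheaf.map (homOfLE hO).op (show Γ(P, A) from v))
      rw [H10Coh.mres_mres, H10Coh.mres_mres]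
    rintro (j | i)
    · obtain ⟨t, ht⟩ := (hpU j.1.1 j.2.1).2 (toM j.1.1 j.1.2)
      refine ⟨t, LineGlue.isGen_of_hom pU (fun B h => hpU B (h.trans j.2.1))
        (by rw [ht]; exact hgenM _ _ j.2.1 j.2.2), fun O hO _ => ?_⟩
      refine (congr($(pU.mapPresheaf.naturality (homOfLE hO).op) t)).trans ?_
      show M.presheaf.map (homOfLE hO).op (pU.app j.1.1 t) = _
      rw [ht]
      exact hnat hO j.1.2
    · obtain ⟨t, ht⟩ := (hpW i (W i) le_rfl).2 (1 : Γ(X, LineGlue.R (W i) (W i)))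
      refine ⟨t, LineGlue.isGen_of_hom (LineGlue.pW V M W e i) (hpW i) ?_, fun O hO hOV => ?_⟩
      · rw [ht]
        exact LineGlue.isGen_one_J (W i)
      · have hc := LineGlue.compat_glued V M W e (W i) t i O (le_inf hOV hO) hO
        rw [ht, map_one, one_smul] at hc
        refine (congr($(pU.mapPresheaf.naturality (homOfLE hO).op) t)).trans (hc.trans ?_)
        refine (hnat (le_inf hOV hO) _).trans ?_
        exact congrArg (toM O) (H10Coh.mres_mres L (f.preimage_mono inf_le_right) (f.preimage_mono (le_inf hOV hO)) (ε i))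
  choose t ht htr using hgenN
  refine ⟨N, isInvertible_of_gen fun x => ?_, ?_⟩
  · by_cases hx : x ∈ V
    · obtain ⟨j, hj⟩ := hJ x hx
      exact ⟨_, t (Sum.inl j), hj, ht _⟩
    · exact ⟨_, t (Sum.inr ⟨x, hx⟩), hiW _, ht _⟩
  let Q := (Scheme.Modules.pullback f).obj N
  let s : ∀ a, Γ(Q, f ⁻¹ᵁ B a) := fun a => OmegaSh.pullSect f N (B a) (t a)
  have hs : ∀ a, IsGen Q (s a) := fun a => IsGen.pullSect f (ht a)
  refine ⟨(exists_iso_of_gen (fun a => f ⁻¹ᵁ B a) (fun z => ?_) s hs m hm fun a b u hu => ?_).choose⟩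
  · by_cases hx : f z ∈ V
    · obtain ⟨j, hj⟩ := hJ (f z) hx
      exact ⟨Sum.inl j, hj⟩
    · exact ⟨Sum.inr ⟨f z, hx⟩, hiW _⟩
  have hdiag : a = b → L.presheaf.map (homOfLE inf_le_left).op (m a) =
      u • L.presheaf.map (homOfLE inf_le_right).op (m b) := by
    rintro rfl
    have h1 : u = 1 := by
      refine ((hs a).bijective (inf_le_right : f ⁻¹ᵁ B a ⊓ f ⁻¹ᵁ B a ≤ f ⁻¹ᵁ B a)).1 ?_
      beta_reduce
      rw [← hu, one_smul]
    rw [h1, one_smul]
  by_cases hab : a = b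
  · exact hdiag hab
  have hO : B a ⊓ B b ≤ V := by
    intro y hy
    rcases a with j | i
    · exact j.2.1 hy.1
    · rcases b with j | i'
      · exact j.2.1 hy.2
      · exact hW i i' (fun h => hab (congrArg Sum.inr h)) hy
  obtain ⟨c, hc⟩ := transition (ei := t a) (ht b)
  have h1 := congrArg (OmegaSh.pullSect f N (B a ⊓ B b)) hc
  rw [pullSect_res, OmegaSh.pullSect_smul, pullSect_res] at h1
  have hu' : u = f.app (B a ⊓ B b) c := by
    refine ((hs b).bijective (inf_le_right : f ⁻¹ᵁ B a ⊓ f ⁻¹ᵁ B b ≤ f ⁻¹ᵁ B b)).1 ?_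
    exact hu.symm.trans h1
  have h2 := congrArg (pU.app (B a ⊓ B b)) hc
  rw [Scheme.Modules.Hom.app_smul, htr a _ inf_le_left hO, htr b _ inf_le_right hO] at h2
  have hback : B a ⊓ B b ≤ V.ι ''ᵁ (V.ι ⁻¹ᵁ (B a ⊓ B b)) := fun y hy => ⟨⟨y, hO hy⟩, hy, rfl⟩
  have key : ∀ v : Γ(P, B a ⊓ B b), P.presheaf.map (homOfLE hback).op
      (P.presheaf.map (homOfLE (himg (B a ⊓ B b))).op v) = v := fun v =>
    (H10Coh.mres_mres P (himg _) hback v).trans (H10Coh.mres_self P _ v)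
  have hlin : ∀ v : Γ(L, f ⁻¹ᵁ (B a ⊓ B b)),
      (show Γ(P, V.ι ''ᵁ (V.ι ⁻¹ᵁ (B a ⊓ B b))) from c • toM (B a ⊓ B b) v) =
        P.presheaf.map (homOfLE (himg (B a ⊓ B b))).op (c • (show Γ(P, B a ⊓ B b) from v)) := by
    intro v
    rw [Scheme.Modules.map_smul]
    exact LineGlue.J_smul V P (B a ⊓ B b) c _
  rw [hu']
  have h4 := congrArg (fun v : Γ(M, B a ⊓ B b) => P.presheaf.map (homOfLE hback).op
      (show Γ(P, V.ι ''ᵁ (V.ι ⁻¹ᵁ (B a ⊓ B b))) from v)) h2
  beta_reduce at h4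
  refine Eq.trans ?_ (h4.trans ?_)
  · exact (key _).symm
  · exact (congrArg (P.presheaf.map (homOfLE hback).op) (hlin _)).trans (key _)

/-- The finite case. -/
theorem exists_lift (f : Z ⟶ X) [IsFinite f] (V : X.Opens) (hV : IsIso (f ∣_ V))
    (hdisc : DiscreteTopology ((V : Set X)ᶜ : Set X)) (L : Z.Modules) (hL : PicF.IsInvertible L) :
    ∃ N : X.Modules, PicF.IsInvertible N ∧ Nonempty ((Scheme.Modules.pullback f).obj N ≅ L) :=
  exists_lift' f (fun hL => PicLift.exists_nbhd_gen f hL) V hV hdisc L hL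

end Groth.Agent.H22Alg.PicLiftIso
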