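import Groth.Prelude.Def_Pic13
import Groth.Agent.H29RR.Indecomposable
import Groth.Agent.H24Formal.Pullback
import Groth.Agent.H10Coh.FinType2
import Groth.Agent.H10Coh.Proj.Coherent
import Groth.Agent.LeadDev.Basic

/-! # The cokernels of the maps between two coherent modules form a bounded family. -/

set_option autoImplicit false
set_option linter.style.haveILetI false

universe u

open CategoryTheory CategoryTheory.Limits AlgebraicGeometry

namespace Groth.Agent.H22Alg.BoundedCoker

noncomputable section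

variable {k : Type u} [Field k] {X : Scheme.{u}} [X.Over (Spec (CommRingCat.of k))]
  [IsProper (X ↘ Spec (CommRingCat.of k))]

theorem toGlobal_comp_map {Z : Scheme.{u}} {A B : Type u} [CommRing A] [CommRing B] (q : Z ⟶ Spec (CommRingCat.of B))
    (φ : A →+* B) (a : A) :
    Coh.toGlobal (q ≫ Spec.map (CommRingCat.ofHom φ)) a = Coh.toGlobal q (φ a) := by
  show (q ≫ Spec.map (CommRingCat.ofHom φ)).appTop ((Scheme.ΓSpecIso (CommRingCat.of A)).inv a) = _
  rw [Scheme.Hom.comp_appTop]
  exact congrArg q.appTop (ConcreteCategory.congr_hom (Scheme.ΓSpecIso_inv_naturality (CommRingCat.ofHom φ)) a).symm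

theorem isBounded_cokernels {A B : X.Modules} (hA : Coh.IsCoh A) (hB : Coh.IsCoh B)
    (P : X.Modules → Prop) (hP : ∀ F, P F → ∃ u : B ⟶ A, Nonempty (cokernel u ≅ F)) :
    Pic13.IsBounded k X P := by
  haveI : Module.Finite k (B ⟶ A) := H29RR.finite_hom hB hA
  obtain ⟨r, u, hu⟩ := Module.Finite.exists_fin (R := k) (M := B ⟶ A)
  let R := MvPolynomial (Fin r) k
  let q : Spec (CommRingCat.of R) ⟶ Spec (CommRingCat.of k) :=
    Spec.map (CommRingCat.ofHom (algebraMap k R))
  haveI hq : LocallyOfFiniteType q :=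
    (HasRingHomProperty.Spec_iff (P := @LocallyOfFiniteType)).2
      (RingHom.finiteType_algebraMap.2 inferInstance)
  let W := Pic13.prodK k X q
  let pr : W ⟶ X := pullback.fst _ _
  letI : W.Over (Spec (CommRingCat.of R)) := ⟨pullback.snd _ _⟩
  haveI : IsLocallyNoetherian (Spec (CommRingCat.of R)) := inferInstance
  haveI : IsLocallyNoetherian W := LocallyOfFiniteType.isLocallyNoetherian (pullback.snd (X ↘ Spec (CommRingCat.of k)) q)
  let U : (Scheme.Modules.pullback pr).obj B ⟶ (Scheme.Modules.pullback pr).obj A :=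
    ∑ j, Formal.smulMod R _ (MvPolynomial.X j) ≫ (Scheme.Modules.pullback pr).map (u j)
  refine ⟨Spec (CommRingCat.of R), q, hq, inferInstance, cokernel U,
    H10Coh.isCoh_cokernel U (H17.ConsProp.isCoh_pullback pr hB).1 (H17.ConsProp.isCoh_pullback pr hA),
    fun F hF => ?_⟩
  obtain ⟨w, ⟨eF⟩⟩ := hP F hF
  obtain ⟨c, hc⟩ := (Submodule.mem_span_range_iff_exists_fun k).1 (hu.symm ▸ Submodule.mem_top : w ∈ Submodule.span k (Set.range u))
  let ev : R →+* k := MvPolynomial.eval c
  let t : Spec (CommRingCat.of k) ⟶ Spec (CommRingCat.of R) := Spec.map (CommRingCat.ofHom ev)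
  have ht : t ≫ q = 𝟙 _ := by
    rw [← Spec.map_comp, ← Spec.map_id]
    congr 1
    ext a
    exact MvPolynomial.eval_C a
  refine ⟨t, ht, ?_⟩
  let s : X ⟶ W := Pic13.sliceAt k X q t ht
  letI : X.Over (Spec (CommRingCat.of R)) := ⟨(X ↘ Spec (CommRingCat.of k)) ≫ t⟩
  have hs : s ≫ (W ↘ Spec (CommRingCat.of R)) = X ↘ Spec (CommRingCat.of R) := pullback.lift_snd _ _ _
  have hpr : s ≫ pr = 𝟙 X := pullback.lift_fst _ _ _
  let θ : Scheme.Modules.pullback pr ⋙ Scheme.Modules.pullback s ≅ 𝟭 X.Modules :=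
    Scheme.Modules.pullbackComp s pr ≪≫ Scheme.Modules.pullbackCongr hpr ≪≫ Scheme.Modules.pullbackId X
  have hsm : ∀ (M : X.Modules) (a : R), Formal.smulMod R M a = Formal.smulMod k M (ev a) := fun M a =>
    congrArg (Formal.smulModΓ M) (toGlobal_comp_map (X ↘ Spec (CommRingCat.of k)) ev a)
  haveI : (Scheme.Modules.pullback s).Additive :=
    (Scheme.Modules.pullbackPushforwardAdjunction s).left_adjoint_additive
  haveI : (Scheme.Modules.pullback s).IsLeftAdjoint :=
    (Scheme.Modules.pullbackPushforwardAdjunction s).isLeftAdjoint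
  have hU : (Scheme.Modules.pullback s).map U ≫ (θ.app A).hom = (θ.app B).hom ≫ w := by
    rw [Functor.map_sum, Preadditive.sum_comp, ← hc, Preadditive.comp_sum]
    refine Finset.sum_congr rfl fun j _ => ?_
    have h1 := θ.hom.naturality (u j)
    rw [Functor.map_comp, H24Formal.pullback_map_smulMod s hs, Category.assoc,
      show (Scheme.Modules.pullback s).map ((Scheme.Modules.pullback pr).map (u j)) ≫ (θ.app A).hom =
        (θ.app B).hom ≫ u j from h1, hsm, MvPolynomial.eval_X,
      ← Category.assoc, H24Formal.smulMod_comm, Category.assoc]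
    rfl
  exact ⟨PreservesCokernel.iso (Scheme.Modules.pullback s) U ≪≫
    cokernel.mapIso _ _ (θ.app B) (θ.app A) hU ≪≫ eF⟩

/-- Finitely many pairs of modules. -/
theorem isBounded_cokernels_finite {r : ℕ} {A B : Fin r → X.Modules} (hA : ∀ i, Coh.IsCoh (A i))
    (hB : ∀ i, Coh.IsCoh (B i)) (P : X.Modules → Prop)
    (hP : ∀ F, P F → ∃ (i : Fin r) (u : B i ⟶ A i), Nonempty (cokernel u ≅ F)) :
    Pic13.IsBounded k X P := by
  haveI : IsLocallyNoetherian X := LocallyOfFiniteType.isLocallyNoetherian (X ↘ Spec (CommRingCat.of k))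
  have hsum : ∀ M : Fin r → X.Modules, (∀ i, Coh.IsCoh (M i)) → Coh.IsCoh (⨁ M) := fun M hM =>
    H10Coh.isCoh_of_iso (biproduct.isoCoproduct M).symm (H10Coh.isCoh_sigma M hM)
  refine isBounded_cokernels (A := ⨁ A) (B := (⨁ B) ⊞ ⨁ A) (hsum A hA)
    (LeadDev.isCoh_biprod (hsum B hB) (hsum A hA)) P fun F hF => ?_
  obtain ⟨i, u, ⟨e⟩⟩ := hP F hF
  let u' : (⨁ B) ⊞ ⨁ A ⟶ ⨁ A := biprod.desc (biproduct.π B i ≫ u ≫ biproduct.ι A i)
    (𝟙 _ - biproduct.π A i ≫ biproduct.ι A i)
  have h1 : u' ≫ biproduct.π A i ≫ cokernel.π u = 0 := by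
    apply biprod.hom_ext'
    · simp [u']
    · simp [u', Preadditive.sub_comp, Category.assoc]
  have h2 : u ≫ biproduct.ι A i ≫ cokernel.π u' = 0 := by
    have c1 : (biproduct.π B i ≫ u ≫ biproduct.ι A i) ≫ cokernel.π u' = 0 :=
      (biprod.inl_desc_assoc _ _ _).symm.trans
        ((congrArg (biprod.inl ≫ ·) (cokernel.condition u')).trans comp_zero)
    have := congrArg (biproduct.ι B i ≫ ·) c1
    simpa [Category.assoc] using this
  have h3 : biproduct.π A i ≫ biproduct.ι A i ≫ cokernel.π u' = cokernel.π u' := by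
    have c2 : (𝟙 _ - biproduct.π A i ≫ biproduct.ι A i) ≫ cokernel.π u' = 0 :=
      (biprod.inr_desc_assoc _ _ _).symm.trans
        ((congrArg (biprod.inr ≫ ·) (cokernel.condition u')).trans comp_zero)
    rw [Preadditive.sub_comp, Category.id_comp, sub_eq_zero, Category.assoc] at c2
    exact c2.symm
  let θ : cokernel u' ≅ cokernel u :=
    { hom := cokernel.desc u' _ h1
      inv := cokernel.desc u _ h2
      hom_inv_id := by
        rw [← cancel_epi (cokernel.π u'), cokernel.π_desc_assoc, Category.assoc, cokernel.π_desc,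
          Category.comp_id, h3]
      inv_hom_id := by
        rw [← cancel_epi (cokernel.π u), cokernel.π_desc_assoc, Category.assoc, cokernel.π_desc,
          Category.comp_id, biproduct.ι_π_self_assoc] }
  exact ⟨u', ⟨θ ≪≫ e⟩⟩

end

end Groth.Agent.H22Alg.BoundedCoker
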