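import Mathlib

/-!
# A growth lemma for binomial polynomials
-/

set_option autoImplicit false

open Finset

noncomputable section

namespace Groth.Agent.H22Alg.KleimanAux

/-- The binomial polynomial with coefficients `c`. -/
def P (c : ℕ → ℝ) (n : ℕ) (t : ℝ) : ℝ := ∑ s ∈ range (n + 1), (n.choose s : ℝ) * c s * t ^ s

theorem hasDerivAt_P (c : ℕ → ℝ) (n : ℕ) (t : ℝ) :
    HasDerivAt (P c (n + 1)) (((n + 1 : ℕ) : ℝ) * P (fun s => c (s + 1)) n t) t := by
  have h : HasDerivAt (P c (n + 1))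
      (∑ s ∈ range (n + 1 + 1), ((n + 1).choose s : ℝ) * c s * ((s : ℝ) * t ^ (s - 1))) t := by
    unfold P
    exact HasDerivAt.fun_sum fun s _ => (hasDerivAt_pow s t).const_mul _
  convert h using 1
  rw [sum_range_succ' _ (n + 1), P, mul_sum]
  simp only [Nat.cast_zero, zero_mul, mul_zero, add_zero, Nat.add_sub_cancel]
  refine sum_congr rfl fun s _ => ?_
  have e : ((n + 1 : ℕ) : ℝ) * (n.choose s : ℝ) = ((n + 1).choose (s + 1) : ℝ) * ((s + 1 : ℕ) : ℝ) := by
    exact_mod_cast Nat.add_one_mul_choose_eq n s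
  linear_combination (c (s + 1) * t ^ s) * e

theorem continuous_P (c : ℕ → ℝ) (n : ℕ) : Continuous (P c n) := by unfold P; fun_prop

theorem P_div (c : ℕ → ℝ) (n : ℕ) (a b : ℕ) (hb : 0 < b) :
    (b : ℝ) ^ n * P c n ((a : ℝ) / b) =
      ∑ s ∈ range (n + 1), (n.choose s : ℝ) * ((a : ℝ) ^ s * (b : ℝ) ^ (n - s)) * c s := by
  rw [P, mul_sum]
  refine sum_congr rfl fun s hs => ?_
  have hs' : s ≤ n := Nat.le_of_lt_succ (mem_range.1 hs)
  have hb0 : (b : ℝ) ≠ 0 := by positivity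
  rw [div_pow, show (b : ℝ) ^ n = (b : ℝ) ^ (n - s) * (b : ℝ) ^ s by rw [← pow_add, Nat.sub_add_cancel hs']]
  field_simp

/-- If the derivative is nonnegative at the positive rationals where the polynomial is positive, then the
leading coefficient is nonnegative. -/
theorem top_nonneg (c : ℕ → ℤ) (n : ℕ) (h0 : 0 < c 0)
    (h : ∀ a b : ℕ, 0 < b →
      0 < ∑ s ∈ range (n + 1 + 1), ((n + 1).choose s : ℤ) * ((a : ℤ) ^ s * (b : ℤ) ^ (n + 1 - s)) * c s →
      0 ≤ ∑ s ∈ range (n + 1), (n.choose s : ℤ) * ((a : ℤ) ^ s * (b : ℤ) ^ (n - s)) * c (s + 1)) :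
    0 ≤ c (n + 1) := by
  let cR : ℕ → ℝ := fun s => (c s : ℝ)
  let q : ℝ → ℝ := P (fun s => cR (s + 1)) n
  let p : ℝ → ℝ := P cR (n + 1)
  have hrat : ∀ a b : ℕ, 0 < b → 0 < p ((a : ℝ) / b) → 0 ≤ q ((a : ℝ) / b) := by
    intro a b hb hp
    have hb' : (0 : ℝ) < (b : ℝ) := by exact_mod_cast hb
    have h1 : (0 : ℝ) < (b : ℝ) ^ (n + 1) * p ((a : ℝ) / b) := mul_pos (pow_pos hb' _) hp
    rw [P_div cR (n + 1) a b hb] at h1
    simp only [cR] at h1
    have h2 := h a b hb (by exact_mod_cast h1)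
    have h3 : (0 : ℝ) ≤ (b : ℝ) ^ n * q ((a : ℝ) / b) := by
      rw [P_div _ n a b hb]
      simp only [cR]
      exact_mod_cast h2
    exact nonneg_of_mul_nonneg_right h3 (pow_pos hb' _)
  have hq : ∀ t : ℝ, 0 ≤ t → 0 < p t → 0 ≤ q t := by
    intro t ht hp
    by_contra hn
    obtain ⟨δ, hδ, hball⟩ := Metric.eventually_nhds_iff.1
      (((continuous_P cR (n + 1)).continuousAt.eventually (eventually_gt_nhds hp)).and
        ((continuous_P (fun s => cR (s + 1)) n).continuousAt.eventually (eventually_lt_nhds (not_le.1 hn))))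
    obtain ⟨r, hr1, hr2⟩ := exists_rat_btwn (show t < t + δ by linarith)
    have hr0 : (0 : ℚ) ≤ r := by exact_mod_cast ht.trans hr1.le
    have hdist : dist (r : ℝ) t < δ := by rw [Real.dist_eq, abs_lt]; constructor <;> linarith
    have hr : (r : ℝ) = (r.num.toNat : ℝ) / (r.den : ℝ) := by
      have hnum : ((r.num.toNat : ℕ) : ℤ) = r.num := Int.toNat_of_nonneg (Rat.num_nonneg.2 hr0)
      rw [show ((r.num.toNat : ℕ) : ℝ) = ((r.num : ℤ) : ℝ) by exact_mod_cast hnum]
      exact Rat.cast_def r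
    obtain ⟨h1, h2⟩ := hball hdist
    rw [hr] at h1 h2
    exact not_le.2 h2 (hrat _ _ r.den_pos h1)
  have hp0 : 0 < p 0 := by
    have : p 0 = (c 0 : ℝ) := by simp [p, P, cR, sum_range_succ']
    rw [this]; exact_mod_cast h0
  have hpos : ∀ t : ℝ, 0 ≤ t → 0 < p t := by
    intro T hT
    by_contra hn
    let A : Set ℝ := Set.Icc 0 T ∩ p ⁻¹' Set.Iic 0
    have hAc : IsClosed A := isClosed_Icc.inter (isClosed_Iic.preimage (continuous_P cR (n + 1)))
    have hAne : A.Nonempty := ⟨T, ⟨hT, le_rfl⟩, not_lt.1 hn⟩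
    have hbdd : BddBelow A := ⟨0, fun x hx => hx.1.1⟩
    obtain ⟨⟨ht0, htT⟩, ht1⟩ := hAc.csInf_mem hAne hbdd
    have hmono : MonotoneOn p (Set.Icc 0 (sInf A)) := by
      refine monotoneOn_of_deriv_nonneg (convex_Icc _ _) (continuous_P cR (n + 1)).continuousOn
        (fun x _ => (hasDerivAt_P cR n x).differentiableAt.differentiableWithinAt) fun x hx => ?_
      rw [interior_Icc] at hx
      rw [(hasDerivAt_P cR n x).deriv]
      refine mul_nonneg (by positivity) (hq x hx.1.le ?_)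
      by_contra hx'
      exact not_lt.2 (csInf_le hbdd ⟨⟨hx.1.le, hx.2.le.trans htT⟩, not_lt.1 hx'⟩) hx.2
    have := hmono ⟨le_rfl, ht0⟩ ⟨ht0, le_rfl⟩ ht0
    exact absurd (hp0.trans_le (this.trans ht1)) (lt_irrefl _)
  by_contra hc
  have hc' : cR (n + 1) < 0 := by show (c (n + 1) : ℝ) < 0; exact_mod_cast not_le.1 hc
  let K : ℝ := ∑ s ∈ range (n + 1), |((n + 1).choose s : ℝ) * cR s|
  let t : ℝ := max 1 (K / -cR (n + 1))
  have ht1 : (1 : ℝ) ≤ t := le_max_left _ _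
  have hKt : K ≤ -cR (n + 1) * t := by
    have := le_max_right (1 : ℝ) (K / -cR (n + 1))
    rw [div_le_iff₀ (by linarith)] at this
    rw [mul_comm]
    exact this
  have hbound : p t ≤ cR (n + 1) * t ^ (n + 1) + K * t ^ n := by
    show P cR (n + 1) t ≤ _
    rw [P, sum_range_succ, Nat.choose_self, Nat.cast_one, one_mul, add_comm]
    refine add_le_add le_rfl ?_
    rw [sum_mul]
    refine sum_le_sum fun s hs => ?_
    refine (le_abs_self _).trans ?_
    rw [abs_mul, abs_of_nonneg (pow_nonneg (by linarith : (0:ℝ) ≤ t) s)]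
    exact mul_le_mul_of_nonneg_left (pow_le_pow_right₀ ht1 (Nat.le_of_lt_succ (mem_range.1 hs))) (abs_nonneg _)
  have h2 : cR (n + 1) * t ^ (n + 1) + K * t ^ n ≤ 0 := by
    have := mul_le_mul_of_nonneg_right hKt (pow_nonneg (by linarith : (0:ℝ) ≤ t) n)
    rw [pow_succ]
    linarith
  exact absurd (hpos t (by linarith)) (not_lt.2 (hbound.trans h2))

end Groth.Agent.H22Alg.KleimanAux
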