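import Mathlib
import Groth.Agent.H22Alg.NakaiPos

/-!
# Sign-normalized intersection numbers: symmetry, binomial expansion, cutting by an ample section
-/

set_option autoImplicit false
set_option linter.style.haveILetI false
universe u

open CategoryTheory CategoryTheory.Limits AlgebraicGeometry Opposite TopologicalSpace
open Groth.Agent.H11Ample

noncomputable section

namespace Groth.Agent.H22Alg.NefQ

variable {X : Scheme.{u}} (k : Type u) [Field k] [X.Over (Spec (CommRingCat.of k))]

/-- The intersection number of a list of modules with a coherent module. -/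
def Q (l : List X.Modules) (F : X.Modules) : ℤ := (-1 : ℤ) ^ l.length * H28Int.D k l F

variable [IsProper (X ↘ Spec (CommRingCat.of k))]

theorem D_perm {l l' : List X.Modules} (h : l.Perm l') :
    (∀ A ∈ l, PicF.IsInvertible A) → ∀ F : X.Modules, H28Int.D k l F = H28Int.D k l' F := by
  induction h with
  | nil => intro _ F; rfl
  | @cons a l₁ l₂ h ih =>
    intro hl F
    show H28Int.D k l₁ F - H28Int.D k l₁ _ = H28Int.D k l₂ F - H28Int.D k l₂ _
    rw [ih (fun A hA => hl A (List.mem_cons_of_mem _ hA)), ih (fun A hA => hl A (List.mem_cons_of_mem _ hA))]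
  | @swap a b l =>
    intro hl F
    exact H28Int.Num.D_swap k (fun A hA => hl A (List.mem_cons_of_mem _ (List.mem_cons_of_mem _ hA))) F
  | @trans l₁ l₂ l₃ h₁ h₂ ih₁ ih₂ =>
    intro hl F
    rw [ih₁ hl, ih₂ (fun A hA => hl A (h₁.mem_iff.2 hA))]

theorem Q_perm {l l' : List X.Modules} (h : l.Perm l') (hl : ∀ A ∈ l, PicF.IsInvertible A) (F : X.Modules) :
    Q k l F = Q k l' F := by
  rw [Q, Q, D_perm k h hl, h.length_eq]

theorem Q_cons_tensor {A B : X.Modules} {l : List X.Modules} (hl : ∀ C ∈ l, PicF.IsInvertible C)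
    (hA : PicF.IsInvertible A) (hB : PicF.IsInvertible B) {F : X.Modules} (hF : Coh.IsCoh F)
    (hd : topologicalKrullDim (CohB1.support F) ≤ ((l.length + 1 : ℕ) : WithBot ℕ∞)) :
    Q k (CohB1.tensorMod A B :: l) F = Q k (A :: l) F + Q k (B :: l) F := by
  simp only [Q, List.length_cons]
  rw [H28Int.D_cons_tensor k hl hA hB hF hd]
  ring

theorem Q_cons_pow {A : X.Modules} {l : List X.Modules} (hl : ∀ C ∈ l, PicF.IsInvertible C)
    (hA : PicF.IsInvertible A) {F : X.Modules} (hF : Coh.IsCoh F)
    (hd : topologicalKrullDim (CohB1.support F) ≤ ((l.length + 1 : ℕ) : WithBot ℕ∞)) (a : ℕ) :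
    Q k (CohB1.tensorPow A a :: l) F = a * Q k (A :: l) F := by
  simp only [Q, List.length_cons]
  rw [H28Int.D_cons_pow k hl hA hF hd a]
  ring

/-- The intersection number `(Lⁱ · Hʲ)`. -/
def I (L H : X.Modules) (i j : ℕ) (F : X.Modules) : ℤ :=
  Q k (List.replicate i L ++ List.replicate j H) F

omit [IsProper (X ↘ Spec (CommRingCat.of k))] [X.Over (Spec (CommRingCat.of k))] in
theorem inv_mixed {L H : X.Modules} (hL : PicF.IsInvertible L) (hH : PicF.IsInvertible H) (i j : ℕ) :
    ∀ A ∈ List.replicate i L ++ List.replicate j H, PicF.IsInvertible A := fun A hA => by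
  rcases List.mem_append.1 hA with h | h
  · exact List.eq_of_mem_replicate h ▸ hL
  · exact List.eq_of_mem_replicate h ▸ hH

theorem I_cons_left {L H : X.Modules} (hL : PicF.IsInvertible L) (hH : PicF.IsInvertible H) (i j : ℕ)
    (F : X.Modules) : Q k (L :: (List.replicate i L ++ List.replicate j H)) F = I k L H (i + 1) j F := rfl

theorem I_cons_right {L H : X.Modules} (hL : PicF.IsInvertible L) (hH : PicF.IsInvertible H) (i j : ℕ)
    (F : X.Modules) : Q k (H :: (List.replicate i L ++ List.replicate j H)) F = I k L H i (j + 1) F := by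
  refine Q_perm k ?_ (List.forall_mem_cons.2 ⟨hH, inv_mixed hL hH i j⟩) F
  exact List.perm_middle.symm

/-- The binomial expansion of the intersection number `((aL + bH)ⁿ · Lⁱ · Hʲ)`. -/
theorem expand {L H : X.Modules} (hL : PicF.IsInvertible L) (hH : PicF.IsInvertible H) (a b : ℕ)
    {F : X.Modules} (hF : Coh.IsCoh F) :
    ∀ (n i j : ℕ), topologicalKrullDim (CohB1.support F) ≤ ((n + i + j : ℕ) : WithBot ℕ∞) →
      Q k (List.replicate n (CohB1.tensorMod (CohB1.tensorPow L a) (CohB1.tensorPow H b)) ++
          (List.replicate i L ++ List.replicate j H)) F =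
        ∑ s ∈ Finset.range (n + 1),
          (n.choose s : ℤ) * ((a : ℤ) ^ s * (b : ℤ) ^ (n - s)) * I k L H (i + s) (j + (n - s)) F := by
  intro n
  induction n with
  | zero => intro i j _; simp [I]
  | succ n ih =>
    intro i j hd
    set M := CohB1.tensorMod (CohB1.tensorPow L a) (CohB1.tensorPow H b) with hMdef
    have hM : PicF.IsInvertible M :=
      H11Ample.isInvertible_tensor (isInvertible_tensorPow hL a) (isInvertible_tensorPow hH b)
    have hl : ∀ A ∈ List.replicate n M ++ (List.replicate i L ++ List.replicate j H), PicF.IsInvertible A :=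
      fun A hA => by
        rcases List.mem_append.1 hA with h | h
        · exact List.eq_of_mem_replicate h ▸ hM
        · exact inv_mixed hL hH i j A h
    have hlen : (List.replicate n M ++ (List.replicate i L ++ List.replicate j H)).length + 1 = n + 1 + i + j := by
      simp only [List.length_append, List.length_replicate]
      omega
    have hd' : topologicalKrullDim (CohB1.support F) ≤
        (((List.replicate n M ++ (List.replicate i L ++ List.replicate j H)).length + 1 : ℕ) : WithBot ℕ∞) := by
      rw [hlen]; exact hd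
    have eL : Q k (L :: (List.replicate n M ++ (List.replicate i L ++ List.replicate j H))) F =
        Q k (List.replicate n M ++ (List.replicate (i + 1) L ++ List.replicate j H)) F :=
      Q_perm k List.perm_middle.symm (List.forall_mem_cons.2 ⟨hL, hl⟩) F
    have eH : Q k (H :: (List.replicate n M ++ (List.replicate i L ++ List.replicate j H))) F =
        Q k (List.replicate n M ++ (List.replicate i L ++ List.replicate (j + 1) H)) F :=
      Q_perm k (List.perm_middle.symm.trans ((List.perm_middle.symm).append_left _))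
        (List.forall_mem_cons.2 ⟨hH, hl⟩) F
    rw [List.replicate_succ, List.cons_append, hMdef,
      Q_cons_tensor k hl (isInvertible_tensorPow hL a) (isInvertible_tensorPow hH b) hF hd',
      Q_cons_pow k hl hL hF hd', Q_cons_pow k hl hH hF hd', eL, eH,
      ih (i + 1) j (by rw [show n + (i + 1) + j = n + 1 + i + j by omega]; exact hd),
      ih i (j + 1) (by rw [show n + i + (j + 1) = n + 1 + i + j by omega]; exact hd)]
    have key := Finset.sum_choose_succ_mul (R := ℤ)
      (fun s t => (a : ℤ) ^ s * (b : ℤ) ^ t * I k L H (i + s) (j + t) F) n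
    simp only [← mul_assoc] at key ⊢
    rw [key, Finset.mul_sum, Finset.mul_sum, add_comm]
    congr 1
    all_goals refine Finset.sum_congr rfl fun s hs => ?_
    · have hs' : s ≤ n := Nat.le_of_lt_succ (Finset.mem_range.1 hs)
      rw [show n + 1 - s = (n - s) + 1 by omega, show j + 1 + (n - s) = j + (n - s + 1) by omega]
      ring
    · rw [show i + 1 + s = i + (s + 1) by omega]
      ring

/-- Restriction to an integral closed subscheme. -/
theorem Q_restrict {Y Z : Scheme.{u}} [Y.Over (Spec (CommRingCat.of k))] [IsProper (Y ↘ Spec (CommRingCat.of k))]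
    (j : Y ⟶ X) [IsClosedImmersion j] (hj : j ≫ (X ↘ Spec (CommRingCat.of k)) = Y ↘ Spec (CommRingCat.of k))
    [IsIntegral Z] (i : Z ⟶ Y) [IsClosedImmersion i] {l : List X.Modules} (hl : ∀ A ∈ l, PicF.IsInvertible A)
    (hd : topologicalKrullDim Z = (l.length : WithBot ℕ∞)) :
    Q k (l.map (Scheme.Modules.pullback j).obj) (ClSub.quotMod i.ker) = Q k l (ClSub.quotMod (i ≫ j).ker) := by
  have h := IntPullback.D_pullback_subscheme k i j hj l hl hd
  rw [IntPullback.residueDegree_of_surjective (i ≫ j) _ ((i ≫ j).stalkMap_surjective _),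
    Nat.cast_one, one_mul] at h
  rw [Q, Q, List.length_map, h]

/-- Intersection numbers on an integral closed subscheme, computed on it. -/
theorem Q_quotMod_ker {Z : Scheme.{u}} [Z.Over (Spec (CommRingCat.of k))] [IsProper (Z ↘ Spec (CommRingCat.of k))]
    [IsIntegral Z] (i : Z ⟶ X) [IsClosedImmersion i]
    (hi : i ≫ (X ↘ Spec (CommRingCat.of k)) = Z ↘ Spec (CommRingCat.of k))
    {l : List X.Modules} (hl : ∀ A ∈ l, PicF.IsInvertible A)
    (hd : topologicalKrullDim Z = (l.length : WithBot ℕ∞)) :
    Q k (l.map (Scheme.Modules.pullback i).obj) (Coh.structureModule Z) = Q k l (ClSub.quotMod i.ker) := by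
  have h := Q_restrict k i hi (𝟙 Z) hl hd
  rw [Category.id_comp] at h
  rw [← h, Q, Q, Nakai.D_quotMod_id k (fun A hA => by
    obtain ⟨B, hB, rfl⟩ := List.mem_map.1 hA
    exact isInvertible_pullback i (hl B hB)) (by rw [List.length_map]; exact hd)]

/-- Nonnegativity on all integral subschemes gives nonnegativity on coherent modules. -/
theorem nonneg_of_integral {l : List X.Modules} (hl : ∀ A ∈ l, PicF.IsInvertible A) {F : X.Modules}
    (hF : Coh.IsCoh F) (hd : topologicalKrullDim (CohB1.support F) ≤ (l.length : WithBot ℕ∞))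
    (h : ∀ (W : Scheme.{u}) [W.Over (Spec (CommRingCat.of k))] [IsProper (W ↘ Spec (CommRingCat.of k))]
      [IsIntegral W] (i : W ⟶ X) [IsClosedImmersion i],
      i ≫ (X ↘ Spec (CommRingCat.of k)) = W ↘ Spec (CommRingCat.of k) →
      topologicalKrullDim W = (l.length : WithBot ℕ∞) →
      0 ≤ Q k (l.map (Scheme.Modules.pullback i).obj) (Coh.structureModule W)) :
    0 ≤ Q k l F := by
  haveI := H28Int.isNoetherian k (X := X)
  rw [Q, DevLength.eq_finsum (H28Int.isAddFn_D k l hl) (fun G hG hG' => H28Int.D_eq_zero k l hl G hG hG') hF hd,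
    mul_finsum]
  · refine finsum_nonneg fun ξ => ?_
    split_ifs with hξ
    · rw [mul_left_comm]
      refine mul_nonneg (Int.natCast_nonneg _) ?_
      let J := Scheme.IdealSheafData.vanishingIdeal (DevLength.cl ξ)
      haveI : IsIntegral J.subscheme := isIntegral_vanishingIdeal_closure ξ
      letI : J.subscheme.Over (Spec (CommRingCat.of k)) := ⟨J.subschemeι ≫ (X ↘ Spec (CommRingCat.of k))⟩
      haveI : IsProper (J.subscheme ↘ Spec (CommRingCat.of k)) := inferInstanceAs (IsProper (J.subschemeι ≫ _))
      have hdim : topologicalKrullDim J.subscheme = (l.length : WithBot ℕ∞) := by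
        rw [NakaiPos.dim_subscheme, Scheme.IdealSheafData.coe_support_vanishingIdeal]
        exact hξ
      have := h J.subscheme J.subschemeι rfl hdim
      rw [Q_quotMod_ker k J.subschemeι rfl hl hdim, J.ker_subschemeι] at this
      exact this
    · rw [mul_zero]

/-- An ample module meets nonnegatively whatever is nonnegative in one dimension lower. -/
theorem cut [IsIntegral X] {M : X.Modules} (hM : CohB1.IsAmple M) {l : List X.Modules}
    (hl : ∀ A ∈ l, PicF.IsInvertible A) (hd : topologicalKrullDim X ≤ ((l.length + 1 : ℕ) : WithBot ℕ∞))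
    (h : ∀ (W : Scheme.{u}) [W.Over (Spec (CommRingCat.of k))] [IsProper (W ↘ Spec (CommRingCat.of k))]
      [IsIntegral W] (i : W ⟶ X) [IsClosedImmersion i],
      i ≫ (X ↘ Spec (CommRingCat.of k)) = W ↘ Spec (CommRingCat.of k) →
      topologicalKrullDim W = (l.length : WithBot ℕ∞) →
      0 ≤ Q k (l.map (Scheme.Modules.pullback i).obj) (Coh.structureModule W)) :
    0 ≤ Q k (M :: l) (Coh.structureModule X) := by
  haveI := H28Int.isNoetherian k (X := X)
  haveI : CompactSpace X := hM.2.1
  haveI : QuasiSeparatedSpace X := quasiSeparatedSpace_of_quasiSeparated (X ↘ Spec (CommRingCat.of k))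
  have hsd : topologicalKrullDim (CohB1.support (Coh.structureModule X)) ≤ ((l.length + 1 : ℕ) : WithBot ℕ∞) :=
    (Topology.IsInducing.subtypeVal.topologicalKrullDim_le).trans hd
  have hO : Coh.IsCoh (Coh.structureModule X) := H28Int.Surface.isCoh_structure k
  obtain ⟨a, σ, ha, hσ, -, -⟩ := exists_affine_gen_nhd_finite hM (Set.finite_singleton (genericPoint X))
    (U := ⊤) (fun _ _ => trivial)
  let N := CohB1.tensorPow M a
  have hN : PicF.IsInvertible N := isInvertible_tensorPow hM.1 a
  have hne : σ ≠ 0 := by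
    intro h0
    have hle := gen_smul_le_basicOpen hN (0 : Γ(X, ⊤)) σ
    rw [zero_smul, Scheme.basicOpen_zero, ← h0] at hle
    exact (hle (hσ rfl) : genericPoint X ∈ (⊥ : X.Opens))
  obtain ⟨N', hN'i, ⟨e₀⟩⟩ := H11Sym.exists_inverse hN
  let e := H10Coh.Tw.commIso N N' ≪≫ e₀
  obtain ⟨C, hC, hCd, -, -, heq⟩ := H28Int.Surface.exists_zero_locus k hl hd hN hN'i e hne
  have hsum : H28Int.D k (N :: l) (Coh.structureModule X) + H28Int.D k (N' :: l) (Coh.structureModule X) = 0 := by
    rw [← H28Int.D_cons_tensor k hl hN hN'i hO hsd]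
    show H28Int.D k l _ - H28Int.D k l _ = 0
    rw [(H28Int.isAddFn_D k l hl).congr (PicGrp.tensorModIso e (Iso.refl _) ≪≫ H10Coh.Tw.leftUnitIso _), sub_self]
  have hQN : Q k (N :: l) (Coh.structureModule X) = Q k l C := by
    simp only [Q, List.length_cons, ← heq]
    linear_combination (-1 : ℤ) ^ (l.length + 1) * hsum
  have h0 : 0 ≤ Q k (N :: l) (Coh.structureModule X) := hQN ▸ nonneg_of_integral k hl hC hCd h
  change 0 ≤ Q k (CohB1.tensorPow M a :: l) _ at h0
  rw [Q_cons_pow k hl hM.1 hO hsd a] at h0
  exact nonneg_of_mul_nonneg_right h0 (by exact_mod_cast ha)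

end Groth.Agent.H22Alg.NefQ
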