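import Mathlib
import Groth.Agent.H22Alg.NefQ
import Groth.Agent.H22Alg.KleimanAux
import Groth.Agent.H17.Fibre
import Groth.Agent.H8Props.FieldDimFormula

/-!
# Nef modules: pullback and descent, and Kleiman's theorem
-/

set_option autoImplicit false
set_option linter.style.haveILetI false
universe u

open CategoryTheory CategoryTheory.Limits AlgebraicGeometry Opposite TopologicalSpace
open Groth.Agent.H11Ample

noncomputable section

namespace Groth.Agent.H22Alg.Kleiman

variable {X : Scheme.{u}} (k : Type u) [Field k] [X.Over (Spec (CommRingCat.of k))]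
  [IsProper (X ↘ Spec (CommRingCat.of k))]

/-- Nonnegative degree on every integral curve. -/
def Nef (L : X.Modules) : Prop :=
  ∀ (Z : Scheme.{u}) (i : Z ⟶ X) [IsClosedImmersion i] [IsIntegral Z],
    topologicalKrullDim Z = ((1 : ℕ) : WithBot ℕ∞) → 0 ≤ NefQ.Q k [L] (ClSub.quotMod i.ker)

theorem nef_iff (L : X.Modules) : Nef k L ↔
    ∀ C : X.IdealSheafData, IsIntegral C.subscheme → topologicalKrullDim (C.support : Set X) = 1 →
      0 ≤ Curv2.euler k X (CohB1.tensorMod (ClSub.quotMod C) L) - Curv2.euler k X (ClSub.quotMod C) := by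
  constructor
  · intro h C hC hd
    haveI := hC
    have h' := h C.subscheme C.subschemeι ((NakaiPos.dim_subscheme C).trans (hd.trans (by simp)))
    rw [C.ker_subschemeι] at h'
    rw [NakaiPos.deg_eq]
    exact h'
  · intro h Z i hi hZ hd
    have h' := h i.ker (NakaiPos.ker_data i).1 ((NakaiPos.ker_data i).2.trans (hd.trans (by simp)))
    rw [NakaiPos.deg_eq] at h'
    exact h'

/-- Nefness at the point of a curve. -/
theorem nef_point {L : X.Modules} (h : Nef k L) (x : X)
    (hx : topologicalKrullDim (closure ({x} : Set X)) = ((1 : ℕ) : WithBot ℕ∞)) :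
    0 ≤ NefQ.Q k [L] (H25K.redMod (DevLength.cl x)) := by
  let J := Scheme.IdealSheafData.vanishingIdeal (DevLength.cl x)
  haveI : IsIntegral J.subscheme := isIntegral_vanishingIdeal_closure x
  have h' := h J.subscheme J.subschemeι (by
    rw [NakaiPos.dim_subscheme, Scheme.IdealSheafData.coe_support_vanishingIdeal]; exact hx)
  rw [J.ker_subschemeι] at h'
  exact h'

theorem nef_pullback {Y : Scheme.{u}} [Y.Over (Spec (CommRingCat.of k))] [IsProper (Y ↘ Spec (CommRingCat.of k))]
    (f : Y ⟶ X) (hf : f ≫ (X ↘ Spec (CommRingCat.of k)) = Y ↘ Spec (CommRingCat.of k))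
    {L : X.Modules} (hL : PicF.IsInvertible L) (h : Nef k L) : Nef k ((Scheme.Modules.pullback f).obj L) := by
  intro Z i _ _ hd
  haveI := H28Int.isNoetherian k (X := X)
  have hl : ∀ A ∈ [L], PicF.IsInvertible A := List.forall_mem_singleton.2 hL
  have e := IntPullback.D_pullback_subscheme k i f hf [L] hl hd
  show 0 ≤ (-1 : ℤ) ^ 1 * H28Int.D k ([L].map (Scheme.Modules.pullback f).obj) (ClSub.quotMod i.ker)
  rw [e, mul_left_comm]
  refine mul_nonneg (Int.natCast_nonneg _) ?_
  rw [IntPullback.quotMod_ker (i ≫ f)]
  haveI : LocallyOfFiniteType ((i ≫ f) ≫ (X ↘ Spec (CommRingCat.of k))) := by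
    rw [Category.assoc, hf]; infer_instance
  haveI : LocallyOfFiniteType (i ≫ f) := locallyOfFiniteType_of_comp (i ≫ f) (X ↘ Spec (CommRingCat.of k))
  have hadd := H8Props.FieldDim.cdim_eq_add ((i ≫ f) ≫ (X ↘ Spec (CommRingCat.of k)))
    (X ↘ Spec (CommRingCat.of k)) (i ≫ f) rfl (genericPoint Z)
  rw [VarDim.cdim_genericPoint Z, hd] at hadd
  obtain ⟨a, ha, -⟩ := VarDim.exists_cdim_trdeg k X ((i ≫ f) (genericPoint Z))
  rw [ha] at hadd
  rcases Nat.lt_trichotomy a 1 with ha0 | rfl | ha2
  · have hz : H28Int.D k [L] (H25K.redMod (DevLength.cl ((i ≫ f) (genericPoint Z)))) = 0 := by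
      refine H28Int.D_eq_zero k [L] hl _ (H25K.isCoh_redMod _) (lt_of_le_of_lt
        ((H28Int.dim_le_of_subset (H25K.support_redMod_subset _)).trans ha.le) ?_)
      exact_mod_cast ha0
    rw [hz, mul_zero]
  · exact nef_point k h _ ha
  · exfalso
    rcases hf0 : H8Props.FieldDim.cdim ((i ≫ f).asFiber (genericPoint Z)) with _ | v
    · rw [hf0] at hadd; exact WithBot.coe_ne_bot (hadd.trans (WithBot.bot_add _))
    · rw [hf0] at hadd
      have : ((1 : ℕ) : ℕ∞) = v + (a : ℕ∞) := WithBot.coe_injective hadd
      have h2 : (a : ℕ∞) ≤ ((1 : ℕ) : ℕ∞) := this ▸ le_add_self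
      have : a ≤ 1 := by exact_mod_cast h2
      omega

theorem nef_descend {Y : Scheme.{u}} [Y.Over (Spec (CommRingCat.of k))] [IsProper (Y ↘ Spec (CommRingCat.of k))]
    (f : Y ⟶ X) (hf : f ≫ (X ↘ Spec (CommRingCat.of k)) = Y ↘ Spec (CommRingCat.of k)) [Surjective f]
    {L : X.Modules} (hL : PicF.IsInvertible L) (h : Nef k ((Scheme.Modules.pullback f).obj L)) : Nef k L := by
  intro C c _ _ hd
  haveI : LocallyOfFiniteType f := by
    haveI : LocallyOfFiniteType (f ≫ (X ↘ Spec (CommRingCat.of k))) := by rw [hf]; infer_instance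
    exact locallyOfFiniteType_of_comp f (X ↘ Spec (CommRingCat.of k))
  let η := c (genericPoint C)
  haveI : Nonempty ↥(f.fiber η) := by
    obtain ⟨y, hy⟩ := f.surjective η
    obtain ⟨v, -⟩ : y ∈ Set.range (f.fiberι η) := by rw [f.range_fiberι η]; exact hy
    exact ⟨v⟩
  haveI : LocallyOfFiniteType (f.fiberToSpecResidueField η) := H8Props.FieldDim.locallyOfFiniteType_fiberToSpec f η
  haveI : JacobsonSpace ↥(f.fiber η) := LocallyOfFiniteType.jacobsonSpace (f.fiberToSpecResidueField η)
  obtain ⟨v, -, hv⟩ := nonempty_inter_closedPoints (X := ↥(f.fiber η)) (Z := Set.univ) Set.univ_nonempty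
    isClosed_univ.isLocallyClosed
  let y := f.fiberι η v
  have hy : f y = η := (f.range_fiberι η).subset (Set.mem_range_self v)
  have hcl : IsClosed ({f.asFiber y} : Set ↥(f.fiber (f y))) := by
    have : ∀ (η' : X) (hη : f y = η') (v' : ↥(f.fiber η')), IsClosed ({v'} : Set ↥(f.fiber η')) →
        f.fiberι η' v' = y → IsClosed ({f.asFiber y} : Set ↥(f.fiber (f y))) := by
      rintro η' rfl v' hv' hvy
      rwa [show f.asFiber y = v' from (f.fiberι _).isEmbedding.injective ((f.fiberι_asFiber y).trans hvy.symm)]
    exact this η hy v hv rfl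
  have hfin := H17.finite_residueFieldMap f y hcl
  have hdeg : 0 < f.residueDegree y := by
    letI : Algebra (X.residueField (f y)) (Y.residueField y) := (f.residueFieldMap y).hom.toAlgebra
    haveI : Module.Finite (X.residueField (f y)) (Y.residueField y) := hfin
    exact Module.finrank_pos
  have hηd : H8Props.FieldDim.cdim η = ((1 : ℕ) : WithBot ℕ∞) := by
    show topologicalKrullDim (closure ({η} : Set X)) = _
    rw [← LeadDev.range_eq_closure c (ξ := η) rfl,
      ← c.isClosedEmbedding.isEmbedding.toHomeomorph.isHomeomorph.topologicalKrullDim_eq, hd]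
  have hyd : H8Props.FieldDim.cdim y = ((1 : ℕ) : WithBot ℕ∞) := by
    rw [H8Props.FieldDim.cdim_eq_add (Y ↘ Spec (CommRingCat.of k)) (X ↘ Spec (CommRingCat.of k)) f hf y,
      H28Int.Curves.cdim_closed hcl, hy, hηd, Nat.cast_zero, zero_add]
  let J := Scheme.IdealSheafData.vanishingIdeal (DevLength.cl y)
  haveI : IsIntegral J.subscheme := isIntegral_vanishingIdeal_closure y
  have hJd : topologicalKrullDim J.subscheme = ((1 : ℕ) : WithBot ℕ∞) := by
    rw [NakaiPos.dim_subscheme, Scheme.IdealSheafData.coe_support_vanishingIdeal]; exact hyd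
  have hgen : J.subschemeι (genericPoint J.subscheme) = y := by
    have h1 : closure ({J.subschemeι (genericPoint J.subscheme)} : Set Y) = closure {y} := by
      rw [← IntPullback.closure_range, H17.range_vanishingIdeal_subschemeι]
      exact closure_closure
    exact (Specializes.antisymm (specializes_iff_mem_closure.2 (h1.ge (subset_closure rfl)))
      (specializes_iff_mem_closure.2 (h1.le (subset_closure rfl)))).eq
  have h' := h J.subscheme J.subschemeι hJd
  have e := IntPullback.D_pullback_subscheme k J.subschemeι f hf [L] (List.forall_mem_singleton.2 hL) hJd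
  change 0 ≤ (-1 : ℤ) ^ 1 * H28Int.D k ([L].map (Scheme.Modules.pullback f).obj) (ClSub.quotMod J.subschemeι.ker) at h'
  rw [e, CycBasic.residueDegree_comp,
    IntPullback.residueDegree_of_surjective J.subschemeι _ (J.subschemeι.stalkMap_surjective _), mul_one, hgen,
    mul_left_comm, IntPullback.quotMod_ker (J.subschemeι ≫ f), Scheme.Hom.comp_apply, hgen, hy] at h'
  have h0 := nonneg_of_mul_nonneg_right h' (by exact_mod_cast hdeg)
  show 0 ≤ NefQ.Q k [L] (ClSub.quotMod c.ker)
  rw [IntPullback.quotMod_ker c]
  exact h0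

/-- Nef meets ample nonnegatively, in all combinations. -/
theorem mixed_nonneg : ∀ (e : ℕ) (Y : Scheme.{u}) [Y.Over (Spec (CommRingCat.of k))]
    [IsProper (Y ↘ Spec (CommRingCat.of k))] [IsIntegral Y] (L H : Y.Modules),
    PicF.IsInvertible L → Nef k L → CohB1.IsAmple H → topologicalKrullDim Y = (e : WithBot ℕ∞) →
    ∀ i ≤ e, 0 ≤ NefQ.I k L H i (e - i) (Coh.structureModule Y) := by
  intro e
  induction e using Nat.strong_induction_on with
  | _ e ih =>
  intro Y _ _ _ L H hL hnef hH hY i hi
  haveI := H28Int.isNoetherian k (X := Y)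
  have hHi := hH.1
  have hO : Coh.IsCoh (Coh.structureModule Y) := H28Int.Surface.isCoh_structure k
  -- the restrictions to smaller subschemes
  have hterm : ∀ (W : Scheme.{u}) [W.Over (Spec (CommRingCat.of k))] [IsProper (W ↘ Spec (CommRingCat.of k))]
      [IsIntegral W] (f : W ⟶ Y) [IsClosedImmersion f]
      (_ : f ≫ (Y ↘ Spec (CommRingCat.of k)) = W ↘ Spec (CommRingCat.of k)) (d : ℕ),
      topologicalKrullDim W = (d : WithBot ℕ∞) → d < e →
      ∀ s ≤ d, 0 ≤ NefQ.I k L H s (d - s) (ClSub.quotMod f.ker) := by
    intro W _ _ _ f _ hf d hd hde s hs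
    have h := ih d hde W _ _ (isInvertible_pullback f hL) (nef_pullback k f hf hL hnef)
      (isAmple_pullback_of_isAffineHom f hH) hd s hs
    rw [NefQ.I, ← List.map_replicate, ← List.map_replicate, ← List.map_append,
      NefQ.Q_quotMod_ker k f hf (NefQ.inv_mixed hL hHi _ _) (by
        simp only [List.length_append, List.length_replicate]; rw [hd, Nat.add_sub_cancel' hs])] at h
    exact h
  -- below the top power of `L`, cut with `H`
  have hlow : ∀ i < e, 0 ≤ NefQ.I k L H i (e - i) (Coh.structureModule Y) := by
    intro i hi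
    obtain ⟨j, hj⟩ : ∃ j, e - i = j + 1 := ⟨e - i - 1, by omega⟩
    rw [hj, ← NefQ.I_cons_right k hL hHi i j]
    have hlen : (List.replicate i L ++ List.replicate j H).length = e - 1 := by
      simp only [List.length_append, List.length_replicate]; omega
    refine NefQ.cut k hH (NefQ.inv_mixed hL hHi i j) (by rw [hlen, hY]; exact_mod_cast (by omega : e ≤ e - 1 + 1))
      fun W _ _ _ f _ hf hW => ?_
    rw [hlen] at hW
    rw [NefQ.Q_quotMod_ker k f hf (NefQ.inv_mixed hL hHi i j) (by rw [hlen]; exact hW)]
    have h := hterm W f hf (e - 1) hW (by omega) i (by omega)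
    rwa [show e - 1 - i = j by omega] at h
  rcases hi.lt_or_eq with hlt | heq
  · exact hlow i hlt
  subst i
  rw [Nat.sub_self]
  match e, hY, hlow, hterm with
  | 0, hY, _, _ =>
    show 0 ≤ (-1 : ℤ) ^ 0 * H28Int.D k [] _
    rw [pow_zero, one_mul]
    exact (H28Int.pos_of_ample k [] (by simp) _ hO
      ((Topology.IsInducing.subtypeVal.topologicalKrullDim_le).trans hY.le)).1
  | 1, hY, _, _ =>
    have h := hnef Y (𝟙 Y) hY
    rw [NefQ.Q, Nakai.D_quotMod_id k (List.forall_mem_singleton.2 hL) hY] at h
    exact h
  | m + 2, hY, hlow, hterm =>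
    let c : ℕ → ℤ := fun s => NefQ.I k L H s (m + 2 - s) (Coh.structureModule Y)
    have hsd : ∀ {d : ℕ}, m + 2 ≤ d →
        topologicalKrullDim (CohB1.support (Coh.structureModule Y)) ≤ (d : WithBot ℕ∞) := fun {d} hd =>
      (Topology.IsInducing.subtypeVal.topologicalKrullDim_le).trans (hY.le.trans (by exact_mod_cast hd))
    have hposH := Nakai.pos_of_isAmple k hH
    have hc0 : 0 < c 0 := Nakai.top_pos k hHi hposH (by omega) hY |> fun h => by
      simp only [c, NefQ.I, NefQ.Q, List.replicate_zero, List.nil_append, Nat.sub_zero, List.length_replicate]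
      exact h
    have hgoal : 0 ≤ c (m + 2) := by
      refine KleimanAux.top_nonneg c (m + 1) hc0 fun a b hb hp => ?_
      set M := CohB1.tensorMod (CohB1.tensorPow L a) (CohB1.tensorPow H b) with hMdef
      have hM : PicF.IsInvertible M :=
        H11Ample.isInvertible_tensor (isInvertible_tensorPow hL a) (isInvertible_tensorPow hHi b)
      have hMA : CohB1.IsAmple M := by
        refine Nakai.isAmple_of_pos k hM fun Z f _ _ d hd0 hd => ?_
        letI : Z.Over (Spec (CommRingCat.of k)) := ⟨f ≫ (Y ↘ Spec (CommRingCat.of k))⟩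
        haveI : IsProper (Z ↘ Spec (CommRingCat.of k)) := inferInstanceAs (IsProper (f ≫ _))
        have hFd : topologicalKrullDim (CohB1.support (ClSub.quotMod f.ker)) ≤ ((d + 0 + 0 : ℕ) : WithBot ℕ∞) := by
          rw [IntPullback.quotMod_ker f, add_zero, add_zero]
          refine (H28Int.dim_le_of_subset (H25K.support_redMod_subset _)).trans (le_of_eq ?_)
          show topologicalKrullDim (closure {f (genericPoint Z)} : Set Y) = _
          rw [← LeadDev.range_eq_closure f (ξ := f (genericPoint Z)) rfl,
            ← f.isClosedEmbedding.isEmbedding.toHomeomorph.isHomeomorph.topologicalKrullDim_eq, hd]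
        have hex := NefQ.expand k hL hHi a b (show Coh.IsCoh (ClSub.quotMod f.ker) from LeadDev.isCoh_push_structure _)
          d 0 0 hFd
        simp only [List.replicate_zero, List.append_nil, zero_add, ← hMdef] at hex
        have hQ : NefQ.Q k (List.replicate d M) (ClSub.quotMod f.ker) =
            (-1 : ℤ) ^ d * H28Int.D k (List.replicate d M) (ClSub.quotMod f.ker) := by
          rw [NefQ.Q, List.length_replicate]
        rw [← hQ, hex]
        have hdle : d ≤ m + 2 := by
          have := Topology.IsInducing.topologicalKrullDim_le f.isClosedEmbedding.isEmbedding.isInducing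
          rw [hd, hY] at this
          exact_mod_cast this
        rcases hdle.lt_or_eq with hlt | rfl
        · refine Finset.sum_pos' (fun s hs => mul_nonneg (by positivity)
            (hterm Z f rfl d hd hlt s (Nat.le_of_lt_succ (Finset.mem_range.1 hs)))) ⟨0, by simp, ?_⟩
          rw [Nat.choose_zero_right, Nat.cast_one, one_mul, pow_zero, one_mul, Nat.sub_zero]
          refine mul_pos (pow_pos (by exact_mod_cast hb) _) ?_
          have := hposH Z f d hd0 hd
          simpa [NefQ.I, NefQ.Q] using this
        · have hfη : f (genericPoint Z) = genericPoint Y := by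
            by_contra hne
            have hlt := DevLength.dim_closure_lt (genericPoint_specializes (f (genericPoint Z))) hne
              ((VarDim.cdim_genericPoint Y).trans hY).le
            rw [← LeadDev.range_eq_closure f (ξ := f (genericPoint Z)) rfl,
              ← f.isClosedEmbedding.isEmbedding.toHomeomorph.isHomeomorph.topologicalKrullDim_eq, hd] at hlt
            exact lt_irrefl _ hlt
          have hqm : ClSub.quotMod f.ker = ClSub.quotMod (𝟙 Y : Y ⟶ Y).ker := by
            rw [IntPullback.quotMod_ker f, IntPullback.quotMod_ker (𝟙 Y), hfη]; rfl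
          rw [hqm]
          refine lt_of_lt_of_eq hp (Finset.sum_congr rfl fun s hs => ?_)
          congr 1
          show NefQ.I k L H s (m + 1 + 1 - s) (Coh.structureModule Y) = _
          rw [NefQ.I, NefQ.I, NefQ.Q, NefQ.Q, Nakai.D_quotMod_id k (NefQ.inv_mixed hL hHi _ _) (by
            simp only [List.length_append, List.length_replicate]
            rw [hY, Nat.add_sub_cancel' (Nat.le_of_lt_succ (Finset.mem_range.1 hs))])]
      have hl : ∀ A ∈ List.replicate (m + 1) M ++ (List.replicate 1 L ++ List.replicate 0 H), PicF.IsInvertible A :=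
        fun A hA => by
          rcases List.mem_append.1 hA with h | h
          · exact List.eq_of_mem_replicate h ▸ hM
          · exact NefQ.inv_mixed hL hHi 1 0 A h
      have hex := NefQ.expand k hL hHi a b hO (m + 1) 1 0 (hsd (by omega))
      rw [← hMdef] at hex
      have hnn : 0 ≤ NefQ.Q k (List.replicate (m + 1) M ++ (List.replicate 1 L ++ List.replicate 0 H))
          (Coh.structureModule Y) := by
        rw [List.replicate_succ, List.cons_append]
        have hl' : ∀ A ∈ List.replicate m M ++ (List.replicate 1 L ++ List.replicate 0 H), PicF.IsInvertible A :=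
          fun A hA => hl A (by rw [List.replicate_succ, List.cons_append]; exact List.mem_cons_of_mem _ hA)
        have hlen : (List.replicate m M ++ (List.replicate 1 L ++ List.replicate 0 H)).length = m + 1 := by simp
        refine NefQ.cut k hMA hl' (by rw [hlen, hY]) fun W _ _ _ f _ hf hW => ?_
        rw [hlen] at hW
        rw [NefQ.Q_quotMod_ker k f hf hl' (by rw [hlen]; exact hW)]
        have hF : Coh.IsCoh (ClSub.quotMod f.ker) := LeadDev.isCoh_push_structure f.ker.subschemeι
        have hFd : topologicalKrullDim (CohB1.support (ClSub.quotMod f.ker)) ≤ ((m + 1 + 0 : ℕ) : WithBot ℕ∞) := by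
          rw [IntPullback.quotMod_ker f]
          refine (H28Int.dim_le_of_subset (H25K.support_redMod_subset _)).trans (le_of_eq ?_)
          show topologicalKrullDim (closure {f (genericPoint W)} : Set Y) = _
          rw [← LeadDev.range_eq_closure f (ξ := f (genericPoint W)) rfl,
            ← f.isClosedEmbedding.isEmbedding.toHomeomorph.isHomeomorph.topologicalKrullDim_eq, hW, add_zero]
        have hex' := NefQ.expand k hL hHi a b hF m 1 0 hFd
        rw [← hMdef] at hex'
        rw [hex']
        refine Finset.sum_nonneg fun s hs => mul_nonneg (by positivity) ?_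
        have hs' : s ≤ m := Nat.le_of_lt_succ (Finset.mem_range.1 hs)
        have h := hterm W f hf (m + 1) hW (by omega) (1 + s) (by omega)
        rwa [show m + 1 - (1 + s) = 0 + (m - s) by omega] at h
      rw [hex] at hnn
      refine hnn.trans_eq (Finset.sum_congr rfl fun s hs => ?_)
      congr 1
      show _ = NefQ.I k L H (s + 1) (m + 2 - (s + 1)) _
      rw [add_comm 1 s, show 0 + (m + 1 - s) = m + 2 - (s + 1) by omega]
    have hg := hgoal
    simp only [c, Nat.sub_self] at hg
    exact hg

/-- **Kleiman**: a nef module has nonnegative top self-intersection on every integral subscheme. -/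
theorem nonneg {L : X.Modules} (hL : PicF.IsInvertible L) (hnef : Nef k L) (J : X.IdealSheafData)
    [IsIntegral J.subscheme] {d : ℕ} (hd : topologicalKrullDim (J.support : Set X) = (d : WithBot ℕ∞)) :
    0 ≤ (-1 : ℤ) ^ d * H28Int.D k (List.replicate d L) (ClSub.quotMod J) := by
  obtain ⟨W, hW, ρ, A, hρ, hA, hgen, hdeg, hdim⟩ := IntPullback.exists_birational_ample k J.subschemeι
  haveI := hW; haveI := hρ
  let f := ρ ≫ J.subschemeι
  letI : W.Over (Spec (CommRingCat.of k)) := ⟨f ≫ (X ↘ Spec (CommRingCat.of k))⟩
  haveI : IsProper (W ↘ Spec (CommRingCat.of k)) :=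
    MorphismProperty.comp_mem _ _ _ (MorphismProperty.comp_mem _ _ _ hρ inferInstance) inferInstance
  have hWd : topologicalKrullDim W = (d : WithBot ℕ∞) := by rw [hdim, NakaiPos.dim_subscheme, hd]
  have hLW := isInvertible_pullback f hL
  have h := mixed_nonneg k d W _ A hLW (nef_pullback k f rfl hL hnef) hA hWd d le_rfl
  rw [Nat.sub_self, NefQ.I, List.replicate_zero, List.append_nil, NefQ.Q, List.length_replicate,
    ← Nakai.D_quotMod_id k (Nakai.inv_replicate hLW d) (by rw [List.length_replicate, hWd])] at h
  have e := IntPullback.D_pullback_subscheme k (𝟙 W) f rfl (List.replicate d L) (Nakai.inv_replicate hL d)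
    (by rw [List.length_replicate, hWd])
  rw [List.map_replicate, Category.id_comp, CycBasic.residueDegree_comp, hdeg, mul_one,
    IntPullback.residueDegree_of_surjective J.subschemeι _ (J.subschemeι.stalkMap_surjective _),
    Nat.cast_one, one_mul, IntPullback.quotMod_ker f, Scheme.Hom.comp_apply, hgen,
    ← IntPullback.quotMod_ker J.subschemeι, J.ker_subschemeι] at e
  rwa [e] at h

end Groth.Agent.H22Alg.Kleiman
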