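import Mathlib
import Groth.Agent.H7Lim.Thickening
import Groth.Agent.H17.Reduced

/-!
A reduced scheme which is the union of two affine closed subschemes is affine.
-/

set_option autoImplicit false
set_option linter.style.haveILetI false

universe u

open CategoryTheory CategoryTheory.Limits AlgebraicGeometry TopologicalSpace

namespace Groth.Agent.H22Alg.ClosedUnion

theorem exists_lift_of_isPushout {R S T Q : CommRingCat.{u}} {f : R ⟶ S} {g : R ⟶ T} {p : S ⟶ Q} {q : T ⟶ Q}
    (h : IsPushout f g p q) (hf : Function.Surjective f) (hg : Function.Surjective g) {a : S} {b : T}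
    (hab : p a = q b) : ∃ r : R, f r = a ∧ g r = b := by
  obtain ⟨ra, rfl⟩ := hf a
  obtain ⟨rb, rfl⟩ := hg b
  let K := RingHom.ker f.hom ⊔ RingHom.ker g.hom
  let u : S ⟶ CommRingCat.of (R ⧸ K) := CommRingCat.ofHom
    (f.hom.liftOfSurjective hf ⟨Ideal.Quotient.mk K, by rw [Ideal.mk_ker]; exact le_sup_left⟩)
  let v : T ⟶ CommRingCat.of (R ⧸ K) := CommRingCat.ofHom
    (g.hom.liftOfSurjective hg ⟨Ideal.Quotient.mk K, by rw [Ideal.mk_ker]; exact le_sup_right⟩)
  have hu : ∀ r, u (f r) = Ideal.Quotient.mk K r := fun r => RingHom.liftOfRightInverse_comp_apply _ _ _ _ r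
  have hv : ∀ r, v (g r) = Ideal.Quotient.mk K r := fun r => RingHom.liftOfRightInverse_comp_apply _ _ _ _ r
  have hc : f ≫ u = g ≫ v := by
    ext r
    exact (hu r).trans (hv r).symm
  have h1 := congrArg (h.desc u v hc) hab
  rw [show ∀ y, h.desc u v hc (p y) = u y from fun y => congr($(h.inl_desc u v hc) y),
    show ∀ y, h.desc u v hc (q y) = v y from fun y => congr($(h.inr_desc u v hc) y), hu, hv,
    Ideal.Quotient.eq] at h1
  obtain ⟨x, hx, y, hy, hxy⟩ := Submodule.mem_sup.mp h1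
  refine ⟨ra - x, ?_, ?_⟩
  · rw [map_sub, show f x = 0 from hx, sub_zero]
  · rw [show ra - x = rb + y by rw [← sub_eq_zero]; linear_combination -hxy, map_add, show g y = 0 from hy, add_zero]

theorem morphismRestrict_appTop_topIso {X A : Scheme.{u}} (i : A ⟶ X) (U : X.Opens) :
    (i ∣_ U).appTop ≫ (i ⁻¹ᵁ U).topIso.hom = U.topIso.hom ≫ i.app U := by
  rw [morphismRestrict_appTop]
  simp [Scheme.Hom.app_eq_appLE, ← Functor.map_comp, Scheme.Hom.appLE_map, Scheme.Hom.map_appLE, -eqToHom_op]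
  exact (Scheme.Hom.appLE_map _ _ _).trans (Scheme.Hom.map_appLE _ _ _).symm

theorem ι_appTop_topIso {A : Scheme.{u}} (V : A.Opens) :
    V.ι.appTop ≫ V.topIso.hom = A.presheaf.map (homOfLE le_top).op := by
  simp only [Scheme.Opens.ι_appTop, Scheme.Opens.topIso_hom]
  exact (A.presheaf.map_comp _ _).symm

variable {X A B : Scheme.{u}} (i : A ⟶ X) (j : B ⟶ X) [IsClosedImmersion i] [IsClosedImmersion j]

theorem eq_zero_of_app_eq_zero [IsReduced X] (hcov : ∀ x : X, x ∈ Set.range i ∨ x ∈ Set.range j)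
    {U : X.Opens} {d : Γ(X, U)} (hi : i.app U d = 0) (hj : j.app U d = 0) : d = 0 := by
  rw [← basicOpen_eq_bot_iff]
  refine Opens.ext (Set.eq_empty_iff_forall_notMem.mpr fun x hx => ?_)
  rcases hcov x with ⟨a, rfl⟩ | ⟨b, rfl⟩
  · have h : a ∈ A.basicOpen (i.app U d) := by rw [← Scheme.preimage_basicOpen]; exact hx
    rw [hi, Scheme.basicOpen_zero] at h
    exact h
  · have h : b ∈ B.basicOpen (j.app U d) := by rw [← Scheme.preimage_basicOpen]; exact hx
    rw [hj, Scheme.basicOpen_zero] at h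
    exact h

theorem exists_glue [IsReduced X] [IsAffine A] [IsAffine B] (hcov : ∀ x : X, x ∈ Set.range i ∨ x ∈ Set.range j)
    (a : Γ(A, ⊤)) (b : Γ(B, ⊤))
    (h : (pullback.fst i j).appTop a = (pullback.snd i j).appTop b) :
    ∃ F : Γ(X, ⊤), i.appTop F = a ∧ j.appTop F = b := by
  have hloc : ∀ U : X.affineOpens, ∃ s : Γ(X, U.1),
      i.app U.1 s = A.presheaf.map (homOfLE le_top).op a ∧ j.app U.1 s = B.presheaf.map (homOfLE le_top).op b := by
    rintro ⟨U, hU⟩
    haveI : IsAffine (U : Scheme.{u}) := hU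
    haveI : IsAffine (i ⁻¹ᵁ U : Scheme.{u}) := hU.preimage i
    haveI : IsAffine (j ⁻¹ᵁ U : Scheme.{u}) := hU.preimage j
    have hpo := isPushout_appTop_of_isPullback (IsPullback.of_hasPullback (i ∣_ U) (j ∣_ U))
    let κ : pullback (i ∣_ U) (j ∣_ U) ⟶ pullback i j :=
      pullback.lift (pullback.fst _ _ ≫ (i ⁻¹ᵁ U).ι) (pullback.snd _ _ ≫ (j ⁻¹ᵁ U).ι)
        (by rw [Category.assoc, Category.assoc, ← morphismRestrict_ι i U, ← morphismRestrict_ι j U,
          pullback.condition_assoc])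
    have h' : (pullback.fst (i ∣_ U) (j ∣_ U)).appTop ((i ⁻¹ᵁ U).ι.appTop a)
        = (pullback.snd (i ∣_ U) (j ∣_ U)).appTop ((j ⁻¹ᵁ U).ι.appTop b) := by
      rw [← ConcreteCategory.comp_apply, ← ConcreteCategory.comp_apply, ← Scheme.Hom.comp_appTop,
        ← Scheme.Hom.comp_appTop,
        show pullback.fst (i ∣_ U) (j ∣_ U) ≫ (i ⁻¹ᵁ U).ι = κ ≫ pullback.fst i j from (pullback.lift_fst _ _ _).symm,
        show pullback.snd (i ∣_ U) (j ∣_ U) ≫ (j ⁻¹ᵁ U).ι = κ ≫ pullback.snd i j from (pullback.lift_snd _ _ _).symm,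
        Scheme.Hom.comp_appTop, Scheme.Hom.comp_appTop, ConcreteCategory.comp_apply, ConcreteCategory.comp_apply, h]
    obtain ⟨s, hs1, hs2⟩ := exists_lift_of_isPushout hpo
      ((i ∣_ U).app_surjective ⊤ (isAffineOpen_top _)) ((j ∣_ U).app_surjective ⊤ (isAffineOpen_top _)) h'
    refine ⟨U.topIso.hom s, ?_, ?_⟩
    · rw [← ι_appTop_topIso, ConcreteCategory.comp_apply, ← hs1]
      exact (congr($(morphismRestrict_appTop_topIso i U) s)).symm
    · rw [← ι_appTop_topIso, ConcreteCategory.comp_apply, ← hs2]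
      exact (congr($(morphismRestrict_appTop_topIso j U) s)).symm
  choose s hs using hloc
  have hcomp : TopCat.Presheaf.IsCompatible X.presheaf (fun U : X.affineOpens => U.1) s := by
    intro U V
    refine sub_eq_zero.mp (eq_zero_of_app_eq_zero i j hcov ?_ ?_)
    · rw [map_sub, sub_eq_zero]
      simp only [← ConcreteCategory.comp_apply, Scheme.Hom.naturality]
      simp only [ConcreteCategory.comp_apply, (hs U).1, (hs V).1]
      simp only [← ConcreteCategory.comp_apply, ← Functor.map_comp]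
      rfl
    · rw [map_sub, sub_eq_zero]
      simp only [← ConcreteCategory.comp_apply, Scheme.Hom.naturality]
      simp only [ConcreteCategory.comp_apply, (hs U).2, (hs V).2]
      simp only [← ConcreteCategory.comp_apply, ← Functor.map_comp]
      rfl
  obtain ⟨F, hF, -⟩ := TopCat.Sheaf.existsUnique_gluing' X.sheaf (fun U : X.affineOpens => U.1) ⊤
    (fun U => homOfLE le_top) (by rw [iSup_affineOpens_eq_top X]) s hcomp
  refine ⟨F, ?_, ?_⟩
  · refine TopCat.Sheaf.eq_of_locally_eq' A.sheaf (fun U : X.affineOpens => i ⁻¹ᵁ U.1) ⊤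
      (fun U => homOfLE le_top) ?_ _ _ fun U => ?_
    · intro x _
      have hx : i x ∈ ⨆ U : X.affineOpens, U.1 := by rw [iSup_affineOpens_eq_top X]; trivial
      obtain ⟨U, hU⟩ := Opens.mem_iSup.mp hx
      exact Opens.mem_iSup.mpr ⟨U, hU⟩
    · have h1 := congr($(i.naturality (homOfLE (le_top : U.1 ≤ ⊤)).op) F)
      refine Eq.trans ?_ (hs U).1
      rw [← hF U]
      exact h1.symm
  · refine TopCat.Sheaf.eq_of_locally_eq' B.sheaf (fun U : X.affineOpens => j ⁻¹ᵁ U.1) ⊤
      (fun U => homOfLE le_top) ?_ _ _ fun U => ?_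
    · intro x _
      have hx : j x ∈ ⨆ U : X.affineOpens, U.1 := by rw [iSup_affineOpens_eq_top X]; trivial
      obtain ⟨U, hU⟩ := Opens.mem_iSup.mp hx
      exact Opens.mem_iSup.mpr ⟨U, hU⟩
    · have h1 := congr($(j.naturality (homOfLE (le_top : U.1 ≤ ⊤)).op) F)
      refine Eq.trans ?_ (hs U).2
      rw [← hF U]
      exact h1.symm

/-- A reduced scheme covered by two affine closed subschemes is affine. -/
theorem isAffine_of_two [IsReduced X] [IsAffine A] [IsAffine B]
    (hcov : ∀ x : X, x ∈ Set.range i ∨ x ∈ Set.range j) : IsAffine X := by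
  have hpi : Function.Surjective (pullback.fst i j).appTop :=
    (pullback.fst i j).app_surjective ⊤ (isAffineOpen_top _)
  have hpj : Function.Surjective (pullback.snd i j).appTop :=
    (pullback.snd i j).app_surjective ⊤ (isAffineOpen_top _)
  haveI : IsAffine (pullback i j) := isAffine_of_isAffineHom (pullback.fst i j)
  let S : Set Γ(X, ⊤) := {F | IsAffineOpen (X.basicOpen F)}
  have hS : ∀ x : X, ∃ F ∈ S, x ∈ X.basicOpen F := by
    intro x
    obtain ⟨_, ⟨V, hV, rfl⟩, hxV, -⟩ :=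
      X.isBasis_affineOpens.exists_subset_of_mem_open (Set.mem_univ x) isOpen_univ
    have key : ∀ F : Γ(X, ⊤), x ∈ X.basicOpen F → X.basicOpen F ≤ V → ∃ F ∈ S, x ∈ X.basicOpen F :=
      fun F hxF hFV => ⟨F, by
        have h1 : X.basicOpen (X.presheaf.map (homOfLE (le_top : V ≤ ⊤)).op F) = X.basicOpen F := by
          rw [Scheme.basicOpen_res, inf_eq_right.mpr hFV]
        show IsAffineOpen (X.basicOpen F)
        rw [← h1]
        exact hV.basicOpen _, hxF⟩
    have hle : ∀ F : Γ(X, ⊤), A.basicOpen (i.appTop F) ≤ i ⁻¹ᵁ V → B.basicOpen (j.appTop F) ≤ j ⁻¹ᵁ V →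
        X.basicOpen F ≤ V := fun F h1 h2 y hy => by
      rcases hcov y with ⟨a, rfl⟩ | ⟨b, rfl⟩
      · exact h1 (show a ∈ A.basicOpen (i.appTop F) by rw [← Scheme.preimage_basicOpen_top]; exact hy)
      · exact h2 (show b ∈ B.basicOpen (j.appTop F) by rw [← Scheme.preimage_basicOpen_top]; exact hy)
    by_cases hx : x ∈ Set.range i ∧ x ∈ Set.range j
    · obtain ⟨⟨a, rfl⟩, b, hb⟩ := hx
      obtain ⟨f, hfV, haf⟩ := (isAffineOpen_top A).exists_basicOpen_le (V := i ⁻¹ᵁ V) ⟨a, hxV⟩ trivial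
      obtain ⟨g, hgV, hbg⟩ := (isAffineOpen_top B).exists_basicOpen_le (V := j ⁻¹ᵁ V)
        (⟨b, show j b ∈ V by rw [hb]; exact hxV⟩ : ↥(j ⁻¹ᵁ V)) trivial
      obtain ⟨g₀, hg₀⟩ := hpj ((pullback.fst i j).appTop f)
      obtain ⟨f₁, hf₁⟩ := hpi ((pullback.snd i j).appTop g)
      obtain ⟨F, hFi, hFj⟩ := exists_glue i j hcov (f * f₁) (g₀ * g) (by rw [map_mul, map_mul, hg₀, hf₁])
      refine key F ?_ (hle F ?_ ?_)
      · obtain ⟨z, hza, hzb⟩ := Scheme.Pullback.exists_preimage_pullback a b hb.symm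
        have h1 : z ∈ (pullback i j).basicOpen ((pullback.snd i j).appTop g) := by
          rw [← Scheme.preimage_basicOpen_top]
          show pullback.snd i j z ∈ B.basicOpen g
          rw [hzb]; exact hbg
        rw [← hf₁, ← Scheme.preimage_basicOpen_top] at h1
        have h2 : a ∈ A.basicOpen (i.appTop F) := by
          rw [hFi, Scheme.basicOpen_mul]
          exact ⟨haf, hza ▸ h1⟩
        rwa [← Scheme.preimage_basicOpen_top] at h2
      · rw [hFi, Scheme.basicOpen_mul]; exact inf_le_left.trans hfV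
      · rw [hFj, Scheme.basicOpen_mul]; exact inf_le_right.trans hgV
    · -- the point lies on only one of the two subschemes
      wlog hxi : x ∈ Set.range i generalizing A B
      · have hxj := (hcov x).resolve_left hxi
        exact this (A := B) (B := A) j i (fun y => (hcov y).symm)
          ((pullback.fst j i).app_surjective ⊤ (isAffineOpen_top _))
          ((pullback.snd j i).app_surjective ⊤ (isAffineOpen_top _))
          (isAffine_of_isAffineHom (pullback.fst j i)) (fun F h1 h2 => hle F h2 h1) (fun h => hxi h.2) hxj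
      obtain ⟨a, rfl⟩ := hxi
      have haj : i a ∉ Set.range j := fun h => hx ⟨⟨a, rfl⟩, h⟩
      let W : X.Opens := V ⊓ ⟨(Set.range j)ᶜ, j.isClosedEmbedding.isClosed_range.isOpen_compl⟩
      obtain ⟨f, hfW, haf⟩ := (isAffineOpen_top A).exists_basicOpen_le (V := i ⁻¹ᵁ W) ⟨a, hxV, haj⟩ trivial
      haveI : IsAffine (pullback i j) := isAffine_of_isAffineHom (pullback.fst i j)
      have hbot : (pullback i j).basicOpen ((pullback.fst i j).appTop f) = ⊥ := by
        rw [← Scheme.preimage_basicOpen_top]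
        refine Opens.ext (Set.eq_empty_iff_forall_notMem.mpr fun z hz => (hfW hz).2 ⟨pullback.snd i j z, ?_⟩)
        rw [← Scheme.Hom.comp_apply, ← pullback.condition, Scheme.Hom.comp_apply]
      obtain ⟨N, hN⟩ := (Scheme.isNilpotent_iff_basicOpen_eq_bot_of_isCompact isCompact_univ _).mpr hbot
      obtain ⟨F, hFi, hFj⟩ := exists_glue i j hcov (f ^ (N + 1)) 0 (by
        rw [map_pow, map_zero, pow_succ, hN, zero_mul])
      refine key F ?_ (hle F ?_ ?_)
      · have h2 : a ∈ A.basicOpen (i.appTop F) := by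
          rw [hFi, Scheme.basicOpen_pow _ _ N.succ_pos]; exact haf
        rwa [← Scheme.preimage_basicOpen_top] at h2
      · rw [hFi, Scheme.basicOpen_pow _ _ N.succ_pos]
        exact hfW.trans fun y hy => hy.1
      · rw [hFj, Scheme.basicOpen_zero]; exact bot_le
  refine isAffine_of_isAffineOpen_basicOpen S ?_ fun F hF => hF
  let J := Ideal.span S
  have hmap : ∀ {C : Scheme.{u}} (c : C ⟶ X) [IsAffine C], Ideal.map c.appTop.hom J = ⊤ := by
    intro C c _
    rw [Ideal.map_span, ← (isAffineOpen_top C).self_le_iSup_basicOpen_iff]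
    intro y _
    obtain ⟨F, hF, hy⟩ := hS (c y)
    exact Opens.mem_iSup.mpr ⟨⟨c.appTop F, F, hF, rfl⟩,
      show y ∈ C.basicOpen (c.appTop F) by rw [← Scheme.preimage_basicOpen_top]; exact hy⟩
  have hsi : Function.Surjective i.appTop := fun a => by
    obtain ⟨b, hb⟩ := hpj ((pullback.fst i j).appTop a)
    obtain ⟨F, hF, -⟩ := exists_glue i j hcov a b hb.symm
    exact ⟨F, hF⟩
  have hsj : Function.Surjective j.appTop := fun b => by
    obtain ⟨a, ha⟩ := hpi ((pullback.snd i j).appTop b)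
    obtain ⟨F, -, hF⟩ := exists_glue i j hcov a b ha
    exact ⟨F, hF⟩
  obtain ⟨p, hp, hp1⟩ := (Ideal.mem_map_iff_of_surjective _ hsi).mp
    (show (1 : Γ(A, ⊤)) ∈ Ideal.map i.appTop.hom J by rw [hmap i]; trivial)
  obtain ⟨q, hq, hq1⟩ := (Ideal.mem_map_iff_of_surjective _ hsj).mp
    (show (1 : Γ(B, ⊤)) ∈ Ideal.map j.appTop.hom J by rw [hmap j]; trivial)
  have h0 : (1 - p) * (1 - q) = 0 := eq_zero_of_app_eq_zero i j hcov
    (show i.appTop.hom ((1 - p) * (1 - q)) = 0 by rw [map_mul, map_sub, map_one, hp1, sub_self, zero_mul])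
    (show j.appTop.hom ((1 - p) * (1 - q)) = 0 by rw [map_mul, map_sub j.appTop.hom 1 q, map_one, hq1, sub_self, mul_zero])
  rw [Ideal.eq_top_iff_one, show (1 : Γ(X, ⊤)) = p + (1 - p) * q by linear_combination h0]
  exact add_mem hp (J.mul_mem_left _ hq)

end Groth.Agent.H22Alg.ClosedUnion
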