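import Mathlib
import Groth.Agent.H22Alg.ClosedUnion
import Groth.Agent.H13Grpd.InvariantAffine

/-!
Affine opens of a scheme glued from affine opens of finitely many closed subschemes covering it.
-/

set_option autoImplicit false
set_option linter.style.haveILetI false

universe u v

open CategoryTheory CategoryTheory.Limits AlgebraicGeometry TopologicalSpace

namespace Groth.Agent.H22Alg.ClosedUnion

/-- A reduced closed subscheme lying in the union of two affine closed subschemes is affine. -/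
theorem isAffine_of_subset_union {X A B R : Scheme.{u}} (a : A ⟶ X) (b : B ⟶ X) (r : R ⟶ X)
    [IsClosedImmersion a] [IsClosedImmersion b] [IsClosedImmersion r] [IsReduced R] [IsAffine A] [IsAffine B]
    (h : Set.range r ⊆ Set.range a ∪ Set.range b) : IsAffine R := by
  haveI : IsAffine (pullback a r) := isAffine_of_isAffineHom (pullback.fst a r)
  haveI : IsAffine (pullback b r) := isAffine_of_isAffineHom (pullback.fst b r)
  refine isAffine_of_two (pullback.snd a r) (pullback.snd b r) fun x => ?_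
  rw [Scheme.Pullback.range_snd, Scheme.Pullback.range_snd]
  exact h ⟨x, rfl⟩

/-- Adjusting `f` inside its coset modulo `K` to avoid finitely many primes not containing `K`. -/
theorem exists_add_notMem {R : Type u} [CommRing R] (K : Ideal R) (f : R) (S : Finset (PrimeSpectrum R))
    (hS : ∀ p ∈ S, ¬ K ≤ p.asIdeal) : ∃ h ∈ K, ∀ p ∈ S, f + h ∉ p.asIdeal := by
  classical
  induction S using Finset.strongInduction with
  | H S ih =>
    rcases S.eq_empty_or_nonempty with rfl | hne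
    · exact ⟨0, K.zero_mem, fun p hp => absurd hp (Finset.notMem_empty p)⟩
    -- a minimal element: no other prime of `S` is contained in it
    obtain ⟨p, hp⟩ := S.exists_minimal hne
    obtain ⟨h, hK, hh⟩ := ih (S.erase p) (Finset.erase_ssubset hp.1) fun q hq => hS q (Finset.mem_of_mem_erase hq)
    by_cases hf : f + h ∈ p.asIdeal
    · have hnle : ¬ K * ∏ q ∈ S.erase p, q.asIdeal ≤ p.asIdeal := by
        intro hle
        rcases p.isPrime.mul_le.mp hle with hle | hle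
        · exact hS p hp.1 hle
        · obtain ⟨q, hq, hqp⟩ := p.isPrime.prod_le.mp hle
          exact (Finset.mem_erase.mp hq).1 (le_antisymm hqp (hp.2 (Finset.mem_of_mem_erase hq) hqp))
      obtain ⟨c, hc, hcp⟩ := SetLike.not_le_iff_exists.mp hnle
      refine ⟨h + c, K.add_mem hK (Ideal.mul_le_left hc), fun q hq hmem => ?_⟩
      rw [← add_assoc] at hmem
      by_cases hqp : q = p
      · subst hqp
        exact hcp ((q.asIdeal.add_mem_iff_right hf).mp hmem)
      · have hcq : c ∈ q.asIdeal :=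
          Finset.inf_le (f := fun q : PrimeSpectrum R => q.asIdeal) (Finset.mem_erase.mpr ⟨hqp, hq⟩)
            (Ideal.prod_le_inf (Ideal.mul_le_right hc))
        exact hh q (Finset.mem_erase.mpr ⟨hqp, hq⟩) ((q.asIdeal.add_mem_iff_left hcq).mp hmem)
    · refine ⟨h, hK, fun q hq => ?_⟩
      by_cases hqp : q = p
      · exact hqp ▸ hf
      · exact hh q (Finset.mem_erase.mpr ⟨hqp, hq⟩)

theorem mem_basicOpen_iff {X : Scheme.{u}} (f : Γ(X, ⊤)) (y : X) :
    y ∈ X.basicOpen f ↔ f ∉ (X.toSpecΓ y).asIdeal := by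
  rw [← Scheme.toSpecΓ_preimage_basicOpen]
  rfl

/-- On affine schemes, a function on a closed subscheme extends without acquiring new zeros at given points. -/
theorem exists_lift_nonvanishing {X P : Scheme.{u}} [IsAffine X] (p : P ⟶ X) [IsClosedImmersion p] (c : Γ(P, ⊤))
    (T : Finset X) (hT : ∀ z, p z ∈ T → z ∈ P.basicOpen c) :
    ∃ f : Γ(X, ⊤), p.appTop f = c ∧ ∀ t ∈ T, t ∈ X.basicOpen f := by
  classical
  obtain ⟨f, hf⟩ := p.app_surjective ⊤ (isAffineOpen_top X) c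
  change p.appTop f = c at hf
  let K := RingHom.ker p.appTop.hom
  haveI : IsAffine P := isAffine_of_isAffineHom p
  let S := (T.filter fun t => t ∉ Set.range p).image X.toSpecΓ
  have hS : ∀ q ∈ S, ¬ K ≤ q.asIdeal := fun q hq => by
    obtain ⟨t, ht, rfl⟩ := Finset.mem_image.mp hq
    obtain ⟨-, htp⟩ := Finset.mem_filter.mp ht
    obtain ⟨g, hg, htg⟩ := (isAffineOpen_top X).exists_basicOpen_le
      (V := ⟨(Set.range p)ᶜ, p.isClosedEmbedding.isClosed_range.isOpen_compl⟩) ⟨t, htp⟩ trivial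
    have hbot : P.basicOpen (p.appTop g) = ⊥ := by
      rw [← Scheme.preimage_basicOpen_top]
      exact Opens.ext (Set.eq_empty_iff_forall_notMem.mpr fun z hz => hg hz ⟨z, rfl⟩)
    obtain ⟨N, hN⟩ := (Scheme.isNilpotent_iff_basicOpen_eq_bot_of_isCompact isCompact_univ _).mpr hbot
    intro hle
    have h1 : g ^ N ∈ K := by rw [RingHom.mem_ker, map_pow, hN]
    exact (mem_basicOpen_iff g t).mp htg ((X.toSpecΓ t).isPrime.mem_of_pow_mem N (hle h1))
  obtain ⟨h, hhK, hh⟩ := exists_add_notMem K f S hS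
  have hfh : p.appTop (f + h) = c := by rw [map_add, show p.appTop h = 0 from hhK, add_zero, hf]
  refine ⟨f + h, hfh, fun t ht => ?_⟩
  by_cases htp : t ∈ Set.range p
  · obtain ⟨z, rfl⟩ := htp
    have h1 := hT z ht
    rw [← hfh, ← Scheme.preimage_basicOpen_top] at h1
    exact h1
  · exact (mem_basicOpen_iff _ t).mpr (hh _ (Finset.mem_image_of_mem _ (Finset.mem_filter.mpr ⟨ht, htp⟩)))

/-- Affine opens on two closed subschemes containing given points merge to an open inducing affine opens. -/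
theorem exists_open_of_two {X A B : Scheme.{u}} (a : A ⟶ X) (b : B ⟶ X) [IsClosedImmersion a] [IsClosedImmersion b]
    {UA : A.Opens} (hUA : IsAffineOpen UA) {UB : B.Opens} (hUB : IsAffineOpen UB) (T : Finset X)
    (hTA : ∀ x, a x ∈ T → x ∈ UA) (hTB : ∀ x, b x ∈ T → x ∈ UB) :
    ∃ W : X.Opens, IsAffineOpen (a ⁻¹ᵁ W) ∧ IsAffineOpen (b ⁻¹ᵁ W) ∧
      ∀ t ∈ T, t ∈ Set.range a ∪ Set.range b → t ∈ W := by
  classical
  have hTfinA : {x | a x ∈ T}.Finite := T.finite_toSet.preimage a.isClosedEmbedding.injective.injOn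
  have hTfinB : {x | b x ∈ T}.Finite := T.finite_toSet.preimage b.isClosedEmbedding.injective.injOn
  -- shrink on `A` away from the part of `B` outside `UB`
  let OA : A.Opens := UA ⊓ ⟨(a ⁻¹' (b '' (UB : Set B)ᶜ))ᶜ,
    ((b.isClosedEmbedding.isClosedMap _ UB.isOpen.isClosed_compl).preimage a.continuous).isOpen_compl⟩
  have hOA : {x | a x ∈ T} ⊆ OA := fun x hx => ⟨hTA x hx, by
    rintro ⟨y, hy, hyx⟩
    exact hy (hTB y (by rw [hyx]; exact hx))⟩
  obtain ⟨f, hfT, hfO⟩ := H13Grpd.exists_basicOpen_finite hUA hTfinA hOA inf_le_left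
  let D := A.basicOpen f
  haveI : IsAffine (D : Scheme.{u}) := hUA.basicOpen f
  haveI : IsAffine (UB : Scheme.{u}) := hUB
  -- shrink on `B` into `D` over the intersection
  let OB : (UB : Scheme.{u}).Opens := ⟨((UB.ι ≫ b) ⁻¹' (a '' (D : Set A)ᶜ))ᶜ,
    ((a.isClosedEmbedding.isClosedMap _ D.isOpen.isClosed_compl).preimage (UB.ι ≫ b).continuous).isOpen_compl⟩
  have hTfinB' : {y : (UB : Scheme.{u}) | b (UB.ι y) ∈ T}.Finite := T.finite_toSet.preimage ((b.isClosedEmbedding.injective.comp UB.ι.isOpenEmbedding.injective).injOn)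
  obtain ⟨g, hgT, hgO⟩ := H13Grpd.exists_basicOpen_finite (isAffineOpen_top (UB : Scheme.{u})) hTfinB'
    (O := OB) (fun y (hy : b (UB.ι y) ∈ T) => by
      rintro ⟨x, hx, hxy⟩
      exact hx (hfT (show a x ∈ T by rw [hxy]; exact hy))) le_top
  -- the intersection is closed in `D`
  let P := pullback (D.ι ≫ a) (UB.ι ≫ b)
  let p : P ⟶ D := pullback.fst _ _
  haveI : IsClosedImmersion p := by
    refine IsClosedImmersion.of_isPreimmersion _ ?_
    have hr : Set.range p = (D.ι ≫ a) ⁻¹' Set.range b := by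
      rw [Scheme.Pullback.range_fst]
      refine Set.Subset.antisymm (Set.preimage_mono ?_) fun x hx => ?_
      · rintro _ ⟨y, rfl⟩; exact ⟨UB.ι y, rfl⟩
      · obtain ⟨y, hy⟩ := hx
        have hyU : y ∈ UB := by_contra fun h => (hfO x.2).2 ⟨y, h, hy⟩
        exact ⟨⟨y, hyU⟩, hy⟩
    rw [hr]
    exact b.isClosedEmbedding.isClosed_range.preimage (D.ι ≫ a).continuous
  have hTD : {x : (D : Scheme.{u}) | a (D.ι x) ∈ T}.Finite := T.finite_toSet.preimage ((a.isClosedEmbedding.injective.comp D.ι.isOpenEmbedding.injective).injOn)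
  obtain ⟨f', hf', hf'T⟩ := exists_lift_nonvanishing p ((pullback.snd (D.ι ≫ a) (UB.ι ≫ b)).appTop g)
    hTD.toFinset fun z hz => by
      rw [← Scheme.preimage_basicOpen_top]
      refine hgT (show b (UB.ι ((pullback.snd (D.ι ≫ a) (UB.ι ≫ b)) z)) ∈ T from ?_)
      rw [Set.Finite.mem_toFinset] at hz
      rw [← Scheme.Hom.comp_apply, ← Scheme.Hom.comp_apply, ← pullback.condition]
      exact hz
  let Wa : A.Opens := D.ι ''ᵁ (D : Scheme.{u}).basicOpen f'
  let Wb : B.Opens := UB.ι ''ᵁ (UB : Scheme.{u}).basicOpen g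
  have hWa : IsAffineOpen Wa := ((isAffineOpen_top (D : Scheme.{u})).basicOpen f').image_of_isOpenImmersion D.ι
  have hWb : IsAffineOpen Wb := ((isAffineOpen_top (UB : Scheme.{u})).basicOpen g).image_of_isOpenImmersion UB.ι
  -- the two opens agree on the intersection
  have hagree : ∀ x y, a x = b y → (x ∈ Wa ↔ y ∈ Wb) := by
    intro x y hxy
    have step : ∀ (x' : (D : Scheme.{u})) (y' : (UB : Scheme.{u})), D.ι x' = x → UB.ι y' = y →
        (x' ∈ (D : Scheme.{u}).basicOpen f' ↔ y' ∈ (UB : Scheme.{u}).basicOpen g) := by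
      intro x' y' hx' hy'
      obtain ⟨z, hzx, hzy⟩ := Scheme.Pullback.exists_preimage_pullback (f := D.ι ≫ a) (g := UB.ι ≫ b) x' y'
        (by rw [Scheme.Hom.comp_apply, Scheme.Hom.comp_apply, hx', hy', hxy])
      have h1 : z ∈ p ⁻¹ᵁ (D : Scheme.{u}).basicOpen f' ↔
          z ∈ pullback.snd (D.ι ≫ a) (UB.ι ≫ b) ⁻¹ᵁ (UB : Scheme.{u}).basicOpen g := by
        rw [Scheme.preimage_basicOpen_top, Scheme.preimage_basicOpen_top, hf']
      rw [← hzx, ← hzy]
      exact h1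
    constructor
    · rintro ⟨x', hx', rfl⟩
      have hyU : y ∈ UB := by_contra fun h => (hfO x'.2).2 ⟨y, h, hxy.symm⟩
      exact ⟨⟨y, hyU⟩, (step x' ⟨y, hyU⟩ rfl rfl).mp hx', rfl⟩
    · rintro ⟨y', hy', rfl⟩
      have hxD : x ∈ D := by_contra fun h => hgO hy' ⟨x, h, hxy⟩
      exact ⟨⟨x, hxD⟩, (step ⟨x, hxD⟩ y' rfl rfl).mpr hy', rfl⟩
  let W : X.Opens := ⟨(a '' (Wa : Set A)ᶜ ∪ b '' (Wb : Set B)ᶜ)ᶜ,
    ((a.isClosedEmbedding.isClosedMap _ Wa.isOpen.isClosed_compl).union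
      (b.isClosedEmbedding.isClosedMap _ Wb.isOpen.isClosed_compl)).isOpen_compl⟩
  have hpa : a ⁻¹ᵁ W = Wa := by
    ext x
    refine ⟨fun hx => by_contra fun h => hx (Or.inl ⟨x, h, rfl⟩), fun hx => ?_⟩
    rintro (⟨x', hx', he⟩ | ⟨y, hy, he⟩)
    · exact hx' (a.isClosedEmbedding.injective he ▸ hx)
    · exact hy ((hagree x y he.symm).mp hx)
  have hpb : b ⁻¹ᵁ W = Wb := by
    ext y
    refine ⟨fun hy => by_contra fun h => hy (Or.inr ⟨y, h, rfl⟩), fun hy => ?_⟩
    rintro (⟨x, hx, he⟩ | ⟨y', hy', he⟩)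
    · exact hx ((hagree x y he).mpr hy)
    · exact hy' (b.isClosedEmbedding.injective he ▸ hy)
  refine ⟨W, hpa ▸ hWa, hpb ▸ hWb, ?_⟩
  rintro t ht (⟨x, rfl⟩ | ⟨y, rfl⟩)
  · show x ∈ a ⁻¹ᵁ W
    rw [hpa]
    exact ⟨⟨x, hfT ht⟩, hf'T _ (hTD.mem_toFinset.mpr ht), rfl⟩
  · show y ∈ b ⁻¹ᵁ W
    rw [hpb]
    exact ⟨⟨y, hTB y ht⟩, hgT ht, rfl⟩

/-- The open of a reduced closed subscheme inside two closed subschemes is affine if it is so on both. -/
theorem isAffineOpen_preimage_of_subset_union {X A B R : Scheme.{u}} (a : A ⟶ X) (b : B ⟶ X) (r : R ⟶ X)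
    [IsClosedImmersion a] [IsClosedImmersion b] [IsClosedImmersion r] [IsReduced R]
    (h : Set.range r ⊆ Set.range a ∪ Set.range b) {W : X.Opens}
    (ha : IsAffineOpen (a ⁻¹ᵁ W)) (hb : IsAffineOpen (b ⁻¹ᵁ W)) : IsAffineOpen (r ⁻¹ᵁ W) := by
  haveI : IsAffine (a ⁻¹ᵁ W : Scheme.{u}) := ha
  haveI : IsAffine (b ⁻¹ᵁ W : Scheme.{u}) := hb
  haveI : IsReduced (r ⁻¹ᵁ W : Scheme.{u}) := isReduced_of_isOpenImmersion (r ⁻¹ᵁ W).ι
  refine isAffine_of_subset_union (a ∣_ W) (b ∣_ W) (r ∣_ W) ?_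
  rintro _ ⟨x, rfl⟩
  have hx : ∀ {C : Scheme.{u}} (c : C ⟶ X) (z : (c ⁻¹ᵁ W : Scheme.{u})), W.ι ((c ∣_ W) z) = c ((c ⁻¹ᵁ W).ι z) :=
    fun c z => by rw [← Scheme.Hom.comp_apply, morphismRestrict_ι, Scheme.Hom.comp_apply]
  rcases h ⟨(r ⁻¹ᵁ W).ι x, rfl⟩ with ⟨y, hy⟩ | ⟨y, hy⟩
  · have hyW : y ∈ a ⁻¹ᵁ W := show a y ∈ W by rw [hy]; exact x.2
    exact Or.inl ⟨⟨y, hyW⟩, W.ι.isOpenEmbedding.injective (by rw [hx, hx]; exact hy)⟩
  · have hyW : y ∈ b ⁻¹ᵁ W := show b y ∈ W by rw [hy]; exact x.2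
    exact Or.inr ⟨⟨y, hyW⟩, W.ι.isOpenEmbedding.injective (by rw [hx, hx]; exact hy)⟩

/-- Merging over finitely many closed subsets. -/
theorem exists_open_of_finite {X : Scheme.{u}} (T : Finset X) (𝒵 : Finset (Closeds X))
    (h : ∀ Z ∈ 𝒵, ∃ U : (Scheme.IdealSheafData.vanishingIdeal Z).subscheme.Opens, IsAffineOpen U ∧
      ∀ x, (Scheme.IdealSheafData.vanishingIdeal Z).subschemeι x ∈ T → x ∈ U) :
    ∀ C : Closeds X, (C : Set X) = ⋃ Z ∈ 𝒵, (Z : Set X) →
      ∃ W : X.Opens, IsAffineOpen ((Scheme.IdealSheafData.vanishingIdeal C).subschemeι ⁻¹ᵁ W) ∧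
        ∀ t ∈ T, t ∈ C → t ∈ W := by
  classical
  induction 𝒵 using Finset.induction_on with
  | empty =>
    intro C hC
    have hC' : (C : Set X) = ∅ := by simpa using hC
    refine ⟨⊥, ?_, fun t _ htC => ((Set.eq_empty_iff_forall_notMem.mp hC') t htC).elim⟩
    rw [Scheme.Hom.preimage_bot]
    exact isAffineOpen_bot _
  | @insert Z 𝒵 _ ih =>
    intro C hC
    let C' : Closeds X := ⟨⋃ Y ∈ 𝒵, (Y : Set X), 𝒵.finite_toSet.isClosed_biUnion fun Y _ => Y.isClosed⟩
    obtain ⟨W', hW', hTW'⟩ := ih (fun Y hY => h Y (Finset.mem_insert_of_mem hY)) C' rfl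
    obtain ⟨U, hU, hTU⟩ := h Z (Finset.mem_insert_self _ _)
    let a := (Scheme.IdealSheafData.vanishingIdeal C').subschemeι
    let b := (Scheme.IdealSheafData.vanishingIdeal Z).subschemeι
    let r := (Scheme.IdealSheafData.vanishingIdeal C).subschemeι
    haveI := H17.isReduced_vanishingIdeal_subscheme C
    have hra : ∀ D : Closeds X, Set.range (Scheme.IdealSheafData.vanishingIdeal D).subschemeι = (D : Set X) :=
      fun D => by rw [Scheme.IdealSheafData.range_subschemeι, Scheme.IdealSheafData.coe_support_vanishingIdeal]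
    obtain ⟨W, hWa, hWb, hTW⟩ := exists_open_of_two a b hW' hU T
      (fun x hx => hTW' _ hx ((hra C').le ⟨x, rfl⟩)) hTU
    have hcov : Set.range r = Set.range a ∪ Set.range b := by
      rw [hra, hra, hra, hC, Finset.set_biUnion_insert, Set.union_comm]
      rfl
    refine ⟨W, isAffineOpen_preimage_of_subset_union a b r hcov.le hWa hWb, fun t ht htC => hTW t ht ?_⟩
    rw [← hcov, hra]
    exact htC

/-- If `r : R ⟶ X` is a surjective closed immersion and the preimage of `W` is affine, `W` is affine. -/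
theorem isAffineOpen_of_preimage {X R : Scheme.{u}} (r : R ⟶ X) [IsClosedImmersion r]
    (hr : Function.Surjective r) {W : X.Opens} (hW : IsAffineOpen (r ⁻¹ᵁ W)) : IsAffineOpen W := by
  haveI : IsAffine (r ⁻¹ᵁ W : Scheme.{u}) := hW
  refine H7Lim.isAffine_of_surjective_closedImmersion (r ∣_ W) fun y => ?_
  obtain ⟨x, hx⟩ := hr (W.ι y)
  have hxW : x ∈ r ⁻¹ᵁ W := show r x ∈ W by rw [hx]; exact y.2
  refine ⟨⟨x, hxW⟩, W.ι.isOpenEmbedding.injective ?_⟩
  rw [← Scheme.Hom.comp_apply, morphismRestrict_ι, Scheme.Hom.comp_apply]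
  exact hx

end Groth.Agent.H22Alg.ClosedUnion
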