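import Mathlib
import Groth.Agent.H22Alg.SemilocalGlue

/-!
# Inverting an element in a punctured one-dimensional local ring
-/

set_option autoImplicit false
set_option linter.style.haveILetI false
universe u

open IsDedekindDomain

namespace Groth.Agent.H22Alg.DimOneLocal

variable {R S : Type u} [CommRing R] [IsLocalRing R] [IsNoetherianRing R] [CommRing S] [Algebra R S]

/-- A common pole for finitely many valuations on a ring. -/
theorem exists_common_pole' {A : Type u} [CommRing A] {Γ₀ : Type} [LinearOrderedCommGroupWithZero Γ₀]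
    [MulArchimedean Γ₀] {ι : Type*} (s : Finset ι) (w : ι → Valuation A Γ₀)
    (h : ∀ i ∈ s, ∃ a, 1 < w i a) : ∃ x : A, ∀ i ∈ s, 1 < w i x := by
  classical
  induction s using Finset.induction_on with
  | empty => exact ⟨0, by simp⟩
  | @insert i s _ ih =>
    obtain ⟨a, has⟩ := ih fun j hj => h j (Finset.mem_insert_of_mem hj)
    obtain ⟨b, hbi⟩ := h i (Finset.mem_insert_self i s)
    by_cases hai : 1 < w i a
    · exact ⟨a, fun j hj => by rcases Finset.mem_insert.mp hj with rfl | hj; exacts [hai, has j hj]⟩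
    have hN : ∀ j : {j // j ∈ insert i s}, ∃ N : ℕ, 1 < w j b → ∀ n ≥ N, w j a < w j b ^ n := fun j => by
      by_cases hj : 1 < w j b
      · obtain ⟨N, hN⟩ := MulArchimedean.arch (w j a) hj
        exact ⟨N + 1, fun _ n hn => hN.trans_lt (pow_lt_pow_right₀ hj (by omega))⟩
      · exact ⟨0, fun h => absurd h hj⟩
    choose N hN using hN
    set n := (Finset.univ.sup N) + 1
    refine ⟨a + b ^ n, fun j hj => ?_⟩
    by_cases hjb : 1 < w j b
    · have := hN ⟨j, hj⟩ hjb n ((Finset.le_sup (Finset.mem_univ _)).trans (Nat.le_succ _))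
      rw [(w j).map_add_eq_of_lt_right (by rwa [map_pow])]
      rw [map_pow]
      exact one_lt_pow₀ hjb (Nat.succ_ne_zero _)
    · rcases Finset.mem_insert.mp hj with rfl | hj'
      · exact absurd hbi hjb
      · have h1 : w j (b ^ n) ≤ 1 := by rw [map_pow]; exact pow_le_one₀ zero_le (not_lt.mp hjb)
        rw [(w j).map_add_eq_of_lt_left (lt_of_le_of_lt h1 (has j hj'))]
        exact has j hj'

/-- An element of the punctured spectrum which is, modulo each minimal prime, the inverse of an
element of the maximal ideal up to powers, is so globally. -/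
theorem exists_pow_mul_eq_one {b : R} (hbm : b ∈ IsLocalRing.maximalIdeal R) (hb : b ∈ nonZeroDivisors R)
    (hrad : IsLocalRing.maximalIdeal R ≤ (Ideal.span {b}).radical)
    [IsLocalization.Away b S] (f : S)
    (h : ∀ Q ∈ minimalPrimes S, ∃ N, ∃ μ ∈ IsLocalRing.maximalIdeal R,
      0 < N ∧ f ^ N * algebraMap R S μ - 1 ∈ Q) :
    ∃ N, ∃ μ ∈ IsLocalRing.maximalIdeal R, 0 < N ∧ f ^ N * algebraMap R S μ = 1 := by
  classical
  haveI : IsNoetherianRing S := IsLocalization.isNoetherianRing (Submonoid.powers b) S inferInstance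
  choose N μ hμ hN hQ using h
  have hfu : IsUnit f := by
    by_contra hf
    obtain ⟨P, hP, hfP⟩ := exists_max_ideal_of_mem_nonunits hf
    obtain ⟨Q, hQm, hQP⟩ := Ideal.exists_minimalPrimes_le (show (⊥ : Ideal S) ≤ P from bot_le)
    refine hP.ne_top ((Ideal.eq_top_iff_one _).2 ?_)
    have h1 := hQP (hQ Q hQm)
    have h2 : f ^ N Q hQm * algebraMap R S (μ Q hQm) ∈ P :=
      P.mul_mem_right _ (P.pow_mem_of_mem hfP _ (hN Q hQm))
    simpa using P.sub_mem h2 h1
  obtain ⟨g, hgf⟩ := hfu.exists_left_inv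
  let T := (minimalPrimes.finite_of_isNoetherianRing S).toFinset
  have hT : ∀ Q ∈ T, Q ∈ minimalPrimes S := fun Q hQ => (Set.Finite.mem_toFinset _).1 hQ
  have hc : ∀ Q : T, g ^ N Q.1 (hT _ Q.2) - algebraMap R S (μ Q.1 (hT _ Q.2)) ∈ Q.1 := fun Q => by
    have h1 := Q.1.mul_mem_left (g ^ N Q.1 (hT _ Q.2)) (hQ Q.1 (hT _ Q.2))
    rw [mul_sub, mul_one, ← mul_assoc, ← mul_pow, hgf, one_pow, one_mul] at h1
    simpa using Q.1.neg_mem h1
  let P₀ : Polynomial R := ∏ Q : T, (Polynomial.X ^ N Q.1 (hT _ Q.2) - Polynomial.C (μ Q.1 (hT _ Q.2)))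
  have hnil : IsNilpotent (Polynomial.aeval g P₀) := by
    rw [nilpotent_iff_mem_prime]
    intro J hJ
    obtain ⟨Q, hQm, hQJ⟩ := Ideal.exists_minimalPrimes_le (show (⊥ : Ideal S) ≤ J from bot_le)
    simp only [P₀, map_prod]
    refine hQJ ?_
    let q : T := ⟨Q, (Set.Finite.mem_toFinset _).2 hQm⟩
    refine Ideal.mem_of_dvd _ (Finset.dvd_prod_of_mem _ (Finset.mem_univ q)) ?_
    simpa using hc q
  obtain ⟨e, he⟩ := hnil
  let P := P₀ ^ (e + 1)
  have hPm : P.Monic := Polynomial.Monic.pow (Polynomial.monic_prod_of_monic _ _ fun Q _ =>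
    Polynomial.monic_X_pow_sub_C _ (hN Q.1 (hT _ Q.2)).ne') _
  have hP0 : Polynomial.aeval g P = 0 := by
    show Polynomial.aeval g (P₀ ^ (e + 1)) = 0
    rw [pow_succ, map_mul, map_pow, he, zero_mul]
  let D := P.natDegree
  have hlow : ∀ i < D, P.coeff i ∈ IsLocalRing.maximalIdeal R := by
    intro i hi
    let φ := IsLocalRing.residue R
    have h1 : P.map φ = Polynomial.X ^ D := by
      have h2 : P.map φ = Polynomial.X ^ ((∑ Q : T, N Q.1 (hT _ Q.2)) * (e + 1)) := by
        simp only [P, P₀, Polynomial.map_pow, Polynomial.map_prod, Polynomial.map_sub, Polynomial.map_X,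
          Polynomial.map_C]
        rw [pow_mul]
        congr 1
        rw [← Finset.prod_pow_eq_pow_sum]
        refine Finset.prod_congr rfl fun Q _ => ?_
        rw [show φ (μ Q.1 (hT _ Q.2)) = 0 from (IsLocalRing.residue_eq_zero_iff _).2 (hμ Q.1 (hT _ Q.2)),
          map_zero, sub_zero]
      rw [h2]
      congr 1
      rw [show D = (P.map φ).natDegree from (hPm.natDegree_map φ).symm, h2, Polynomial.natDegree_X_pow]
    have h3 := congrArg (fun p => Polynomial.coeff p i) h1
    simp only [Polynomial.coeff_map, Polynomial.coeff_X_pow, hi.ne, if_false] at h3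
    exact (IsLocalRing.residue_eq_zero_iff _).1 h3
  let C : Submodule R S := Submodule.span R (Set.range fun i : Fin D => g ^ (i : ℕ))
  have hstep : ∀ x ∈ C, g ^ D * x ∈ IsLocalRing.maximalIdeal R • C := by
    have hmC : ∀ j, g ^ j ∈ C := by
      intro j
      induction j using Nat.strong_induction_on with
      | h j ih =>
        by_cases hj : j < D
        · exact Submodule.subset_span ⟨⟨j, hj⟩, rfl⟩
        · obtain ⟨r, rfl⟩ := Nat.exists_eq_add_of_le (not_lt.1 hj)
          have h1 : g ^ D = -∑ i ∈ Finset.range D, P.coeff i • g ^ i := by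
            have h2 := hP0
            rw [Polynomial.aeval_eq_sum_range, Finset.sum_range_succ, hPm.coeff_natDegree, one_smul] at h2
            exact eq_neg_of_add_eq_zero_right h2
          rw [pow_add, h1, neg_mul, Finset.sum_mul]
          refine C.neg_mem (C.sum_mem fun i hi => ?_)
          rw [smul_mul_assoc, ← pow_add]
          exact C.smul_mem _ (ih _ (by have := Finset.mem_range.1 hi; omega))
    intro x hx
    induction hx using Submodule.span_induction with
    | zero => simp
    | add a b _ _ ha hb => rw [mul_add]; exact add_mem ha hb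
    | smul r a _ ha => rw [mul_smul_comm]; exact Submodule.smul_mem _ r ha
    | mem a ha =>
      obtain ⟨l, rfl⟩ := ha
      have h1 : g ^ D = -∑ i ∈ Finset.range D, P.coeff i • g ^ i := by
        have h2 := hP0
        rw [Polynomial.aeval_eq_sum_range, Finset.sum_range_succ, hPm.coeff_natDegree, one_smul] at h2
        exact eq_neg_of_add_eq_zero_right h2
      rw [h1, neg_mul, Finset.sum_mul]
      refine Submodule.neg_mem _ (Submodule.sum_mem _ fun i hi => ?_)
      rw [smul_mul_assoc, ← pow_add]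
      exact Submodule.smul_mem_smul (hlow i (Finset.mem_range.1 hi)) (hmC _)
  -- powers
  have hpow : ∀ k, ∀ x ∈ C, g ^ (D * k) * x ∈ (IsLocalRing.maximalIdeal R) ^ k • C := by
    intro k
    induction k with
    | zero => intro x hx; simpa using hx
    | succ k ih =>
      intro x hx
      have h1 : g ^ D * x ∈ IsLocalRing.maximalIdeal R • C := hstep x hx
      rw [mul_add_one, pow_add g, mul_assoc]
      revert h1
      generalize g ^ D * x = w
      intro h1
      induction h1 using Submodule.smul_induction_on' with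
      | smul r hr y hy =>
        rw [mul_smul_comm, pow_succ', ← smul_eq_mul, Submodule.smul_assoc]
        exact Submodule.smul_mem_smul hr (ih y hy)
      | add a _ b _ ha hb => rw [mul_add]; exact add_mem ha hb
  -- denominators
  have hden : ∀ i : Fin D, ∃ c, ∃ r : R, algebraMap R S b ^ c * g ^ (i : ℕ) = algebraMap R S r := fun i => by
    obtain ⟨⟨r, ⟨_, n, rfl⟩⟩, hr⟩ := IsLocalization.surj (Submonoid.powers b) (g ^ (i : ℕ))
    exact ⟨n, r, by rw [mul_comm, ← map_pow]; exact hr⟩
  choose c r hr using hden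
  let cc := Finset.univ.sup c
  have hCR : ∀ x ∈ C, algebraMap R S b ^ cc * x ∈ LinearMap.range (Algebra.linearMap R S) := by
    intro x hx
    induction hx using Submodule.span_induction with
    | zero => simp
    | add a b _ _ ha hb => rw [mul_add]; exact add_mem ha hb
    | smul s a _ ha => rw [mul_smul_comm]; exact Submodule.smul_mem _ s ha
    | mem a ha =>
      obtain ⟨l, rfl⟩ := ha
      obtain ⟨d, hd⟩ := Nat.exists_eq_add_of_le (Finset.le_sup (f := c) (Finset.mem_univ l))
      refine ⟨b ^ d * r l, ?_⟩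
      rw [Algebra.linearMap_apply, map_mul, map_pow, ← hr, ← mul_assoc, ← pow_add, add_comm d, ← hd]
  -- high powers of the maximal ideal
  obtain ⟨K, hK⟩ := Ideal.exists_pow_le_of_le_radical_of_fg hrad (IsNoetherian.noetherian _)
  have hone : (1 : S) ∈ C := by
    by_cases hD : 0 < D
    · exact Submodule.subset_span ⟨⟨0, hD⟩, by simp⟩
    · have h2 := hP0
      rw [Polynomial.aeval_eq_sum_range, show P.natDegree = 0 from Nat.eq_zero_of_not_pos hD] at h2
      rw [Finset.sum_range_one, show P.coeff 0 = 1 by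
        have := hPm.coeff_natDegree; rwa [show P.natDegree = 0 from Nat.eq_zero_of_not_pos hD] at this,
        pow_zero, one_smul] at h2
      rw [h2]; exact C.zero_mem
  let k₀ := K * (cc + 1)
  have hmem := hpow k₀ 1 hone
  rw [mul_one] at hmem
  have hfin : ∀ x ∈ IsLocalRing.maximalIdeal R ^ k₀ • C, ∃ ν ∈ IsLocalRing.maximalIdeal R, algebraMap R S ν = x := by
    intro x hx
    induction hx using Submodule.smul_induction_on' with
    | smul a ha y hy =>
      rw [show k₀ = K * (cc + 1) from rfl, pow_mul] at ha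
      have ha2 := Ideal.pow_right_mono hK (cc + 1) ha
      rw [Ideal.span_singleton_pow, Ideal.mem_span_singleton'] at ha2
      obtain ⟨a', rfl⟩ := ha2
      obtain ⟨ρ, hρ⟩ := hCR y hy
      refine ⟨a' * b * ρ, Ideal.mul_mem_right _ _ (Ideal.mul_mem_left _ _ hbm), ?_⟩
      rw [map_mul, show algebraMap R S ρ = algebraMap R S b ^ cc * y from hρ, Algebra.smul_def, pow_succ,
        map_mul, map_mul, map_mul, map_pow]
      ring
    | add x _ y _ hx hy =>
      obtain ⟨ν, hν, rfl⟩ := hx
      obtain ⟨ν', hν', rfl⟩ := hy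
      exact ⟨ν + ν', add_mem hν hν', map_add _ _ _⟩
  obtain ⟨ν, hν, hνg⟩ := hfin _ hmem
  by_cases hz : D * k₀ = 0
  · rw [hz, pow_zero] at hνg
    refine ⟨1, 1, ?_, one_pos, ?_⟩
    · have hinj := IsLocalization.injective S (M := Submonoid.powers b) (Submonoid.powers_le.2 hb)
      exact (hinj (hνg.trans (map_one _).symm)) ▸ hν
    · exfalso
      have hinj := IsLocalization.injective S (M := Submonoid.powers b) (Submonoid.powers_le.2 hb)
      exact (IsLocalRing.maximalIdeal.isMaximal R).ne_top ((Ideal.eq_top_iff_one _).2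
        ((hinj (hνg.trans (map_one _).symm)) ▸ hν))
  · exact ⟨D * k₀, ν, hν, Nat.pos_of_ne_zero hz, by rw [hνg, ← mul_pow, mul_comm, hgf, one_pow]⟩

/-- Places on the residue fields at the minimal points of the punctured spectrum. -/
theorem exists_pow_mem_maximal {K : Type u} [Field K] (φ : R →+* K) [IsFractionRing φ.range K]
    [Ring.KrullDimLE 1 R] (hnf : ¬ IsField φ.range) :
    ∃ (ι : Type u) (_ : Finite ι) (w : ι → Valuation K (WithZero (Multiplicative ℤ))),
      (∀ A : Subring K, A ⊔ φ.range = ⊤ → ∀ i, ∃ a ∈ A, 1 < w i a) ∧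
      ∀ y : K, (∀ i, 1 < w i y) → ∃ N, ∃ μ ∈ IsLocalRing.maximalIdeal R, 0 < N ∧ y ^ N * φ μ = 1 := by
  classical
  haveI : IsNoetherianRing φ.range := isNoetherianRing_range φ
  haveI : Ring.KrullDimLE 1 φ.range := by
    refine (Ring.krullDimLE_iff (n := 1)).2 ?_
    refine (ringKrullDim_le_of_surjective φ.rangeRestrict φ.rangeRestrict_surjective).trans ?_
    exact (Ring.krullDimLE_iff (n := 1)).1 inferInstance
  haveI : IsLocalRing φ.range := IsLocalRing.of_surjective' φ.rangeRestrict φ.rangeRestrict_surjective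
  haveI : Finite (MaximalSpectrum φ.range) := by
    haveI : Subsingleton (MaximalSpectrum φ.range) := ⟨fun a b => MaximalSpectrum.ext
      ((IsLocalRing.eq_maximalIdeal a.isMaximal).trans (IsLocalRing.eq_maximalIdeal b.isMaximal).symm)⟩
    infer_instance
  haveI := isDedekindDomain_integralClosure (B := φ.range) (K := K)
  haveI : IsFractionRing (integralClosure φ.range K) K :=
    integralClosure.isFractionRing_of_finite_extension K K
  refine ⟨HeightOneSpectrum (integralClosure φ.range K), finite_heightOne φ.range inferInstance hnf,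
    fun P => P.valuation K, fun A hA => exists_pole_of_sup_eq_top φ.range A hA, fun y hy => ?_⟩
  obtain ⟨N, hN, hJ⟩ := exists_uniform_pow (fun _ : Unit => φ.range) (fun _ => hnf) y⁻¹
    (fun _ P => by rw [map_inv₀]; exact inv_lt_one_of_one_lt₀ (hy P))
  obtain ⟨⟨μ, hμ⟩, hJ'⟩ := hJ ()
  haveI : Nonempty (HeightOneSpectrum (integralClosure φ.range K)) := by
    obtain ⟨m, hm⟩ := Ideal.exists_maximal (integralClosure φ.range K)
    exact ⟨⟨m, hm.isPrime, fun e => hnf (isField_of_isIntegral_of_isField (R := φ.range)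
      (fun a b h => Subtype.ext (congrArg (fun z : integralClosure φ.range K => (z : K)) h))
      (Ring.isField_iff_maximal_bot.mpr (e ▸ hm)))⟩⟩
  have hy0 : y ≠ 0 := fun h0 => by
    have := hy (Classical.arbitrary _)
    rw [h0, map_zero] at this
    exact absurd this not_lt_zero
  refine ⟨N, μ, ?_, hN, ?_⟩
  · rw [IsLocalRing.jacobson_eq_maximalIdeal ⊥ bot_ne_top] at hJ'
    rw [IsLocalRing.mem_maximalIdeal, mem_nonunits_iff] at hJ' ⊢
    intro hu
    refine hJ' ?_
    rw [show (⟨_, ⟨μ, hμ⟩⟩ : φ.range) = φ.rangeRestrict μ from Subtype.ext hμ.symm]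
    exact hu.map _
  · rw [hμ, inv_pow, mul_inv_cancel₀ (pow_ne_zero _ hy0)]

end Groth.Agent.H22Alg.DimOneLocal
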