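import Mathlib
import Groth.Agent.H22Alg.DimOneLocal
import Groth.Agent.H22Alg.DimOnePencil
import Groth.Agent.H22Alg.AmpleFromGG
import Groth.Agent.H22Alg.ClosedUnion2
import Groth.Agent.H8Props.FlatDimOneBase
import Groth.Agent.H17.AssPts
import Groth.Agent.H17.PrimaryDecomp
import Groth.Agent.H17.Reduced
import Groth.Agent.H25Euler.Exists
import Groth.Agent.H29Blow.PointsOfAffine

/-!
# Ample modules on separated Noetherian schemes of dimension at most one
-/

set_option autoImplicit false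
set_option linter.style.haveILetI false
universe u

open CategoryTheory CategoryTheory.Limits AlgebraicGeometry Opposite TopologicalSpace
open Groth.Agent

noncomputable section

namespace Groth.Agent.H22Alg.DimOneAmple

local notation "ℤₘ₀" => WithZero (Multiplicative ℤ)

variable {X : Scheme.{u}}

/-- An open containing a generalization of every point. -/
def MaxIn (U : X.Opens) : Prop := ∀ y : X, ∃ η ∈ U, η ⤳ y

/-- Functions are determined by their restriction to `U`. -/
def SchDense (U : X.Opens) : Prop :=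
  ∀ (V : X.Opens) (s : Γ(X, V)), X.presheaf.map (homOfLE (inf_le_left : V ⊓ U ≤ V)).op s = 0 → s = 0

theorem sections_ext {U : X.Opens} (hd : SchDense U) {M : X.Modules} (hM : PicF.IsInvertible M) {V : X.Opens}
    {s t : Γ(M, V)}
    (h : M.presheaf.map (homOfLE (inf_le_left : V ⊓ U ≤ V)).op s = M.presheaf.map (homOfLE inf_le_left).op t) :
    s = t := by
  refine TopCat.Presheaf.section_ext (⟨M.presheaf, M.isSheaf⟩ : TopCat.Sheaf AddCommGrpCat.{u} X.toTopCat)
    V s t fun x hx => ?_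
  obtain ⟨W, e, hxW, he⟩ := H11Ample.exists_gen hM x
  let O := V ⊓ W
  have heO : H11Tilde.IsGen M (M.presheaf.map (homOfLE (inf_le_right : O ≤ W)).op e) := he.res inf_le_right
  obtain ⟨a, ha⟩ := H11Ample.exists_coeff heO (M.presheaf.map (homOfLE (inf_le_left : O ≤ V)).op s)
  obtain ⟨b, hb⟩ := H11Ample.exists_coeff heO (M.presheaf.map (homOfLE (inf_le_left : O ≤ V)).op t)
  have hab : a = b := by
    refine sub_eq_zero.1 (hd O (a - b) ?_)
    rw [map_sub, sub_eq_zero]
    refine ((heO.res (inf_le_left : O ⊓ U ≤ O)).bijective le_rfl).1 ?_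
    beta_reduce
    rw [H10Coh.mres_self, ← Scheme.Modules.map_smul, ← Scheme.Modules.map_smul, ← ha, ← hb]
    have h1 := congrArg (M.presheaf.map (homOfLE (show O ⊓ U ≤ V ⊓ U from inf_le_inf_right U inf_le_left)).op) h
    rw [H10Coh.mres_mres, H10Coh.mres_mres] at h1
    rwa [H10Coh.mres_mres, H10Coh.mres_mres]
  refine (TopCat.Presheaf.germ_res_apply M.presheaf (homOfLE (inf_le_left : O ≤ V)) x ⟨hx, hxW⟩ s).symm.trans ?_
  rw [ha, hab, ← hb]
  exact TopCat.Presheaf.germ_res_apply _ _ _ _ _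

theorem isUnit_res {V O : X.Opens} (b : Γ(X, V)) (hle : O ≤ X.basicOpen b) (h : O ≤ V) :
    IsUnit (X.presheaf.map (homOfLE h).op b) := by
  have h0 : IsUnit (X.presheaf.map (homOfLE (X.basicOpen_le b)).op b) := X.toRingedSpace.isUnit_res_basicOpen b
  have := h0.map (X.presheaf.map (homOfLE hle).op).hom
  rwa [← CommRingCat.comp_apply, ← Functor.map_comp] at this

section space

variable [IsNoetherian X]

/-- An open minus an open consisting of closed points is finite. -/
theorem finite_diff (V W : X.Opens) (h : ∀ y ∈ V, y ∉ W → IsClosed ({y} : Set X)) :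
    ((V : Set X) \ W).Finite := by
  let Y : Set V := {y | y.1 ∉ W}
  have hYc : IsClosed Y := W.2.isClosed_compl.preimage continuous_subtype_val
  haveI : QuasiSober V := (V.isOpenEmbedding').quasiSober
  haveI : NoetherianSpace V := Topology.IsInducing.subtypeVal.noetherianSpace
  haveI : NoetherianSpace Y := Topology.IsInducing.subtypeVal.noetherianSpace
  haveI : QuasiSober Y := hYc.isClosedEmbedding_subtypeVal.quasiSober
  obtain ⟨Z, hZ, hgen⟩ := H25Euler.exists_finite_generizing Y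
  refine (hZ.image fun y : Y => (y.1.1 : X)).subset fun y hy => ?_
  obtain ⟨η, hη, hs⟩ := hgen ⟨⟨y, hy.1⟩, hy.2⟩
  have hs2 : η.1.1 ⤳ y := (hs.map continuous_subtype_val).map continuous_subtype_val
  exact ⟨η, hη, (hs2.mem_closed (h _ η.1.2 η.2) rfl).symm⟩

theorem isClosed_point (hdim : topologicalKrullDim X ≤ 1) {η y : X} (hη : η ⤳ y) (hne : y ≠ η) :
    IsClosed ({y} : Set X) :=
  DimOneDiv.isClosed_singleton_of_lt hη hne
    ((H28Int.dim_le_of_subset (Set.subset_univ _)).trans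
      ((IsHomeomorph.topologicalKrullDim_eq _ (Homeomorph.Set.univ X).isHomeomorph).le.trans hdim))

theorem isClosed_of_notMem (hdim : topologicalKrullDim X ≤ 1) {U : X.Opens} (hmax : MaxIn U) {z : X} (hz : z ∉ U) :
    IsClosed ({z} : Set X) := by
  obtain ⟨η, hη, hηz⟩ := hmax z
  exact isClosed_point hdim hηz fun h => hz (h ▸ hη)

/-- An affine neighbourhood of a missing point on which the open is principal. -/
theorem exists_nbhd [X.IsSeparated] (hdim : topologicalKrullDim X ≤ 1) {U : X.Opens} (hmax : MaxIn U) {z : X} (hz : z ∉ U) :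
    ∃ (V : X.Opens) (_ : IsAffineOpen V) (b : Γ(X, V)), z ∈ V ∧ z ∉ X.basicOpen b ∧ X.basicOpen b = V ⊓ U ∧
      ∀ y ∈ V, y ∉ U → y = z := by
  classical
  have hfin : ((⊤ : X.Opens) : Set X) \ U |>.Finite :=
    finite_diff ⊤ U fun y _ hy => isClosed_of_notMem hdim hmax hy
  let S : Set X := (((⊤ : X.Opens) : Set X) \ U) \ {z}
  have hS : IsClosed S := by
    rw [← Set.biUnion_of_singleton S]
    exact (hfin.subset Set.diff_subset).isClosed_biUnion fun y hy => isClosed_of_notMem hdim hmax hy.1.2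
  obtain ⟨V₀, hV₀, hzV, hV₀S⟩ := exists_isAffineOpen_mem_and_subset (X := X) (x := z) (U := ⟨Sᶜ, hS.isOpen_compl⟩)
    (fun h => h.2 rfl)
  have honly : ∀ y ∈ V₀, y ∉ U → y = z := fun y hy hyU => by
    by_contra hne
    exact hV₀S hy ⟨⟨trivial, hyU⟩, hne⟩
  haveI : IsNoetherianRing Γ(X, V₀) := IsLocallyNoetherian.component_noetherian ⟨V₀, hV₀⟩
  let pt := fun y : V₀ => hV₀.primeIdealOf y
  have hmin : (pt ⟨z, hzV⟩).asIdeal ∉ minimalPrimes Γ(X, V₀) := by
    intro hm
    obtain ⟨η, hη, hηz⟩ := hmax z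
    have hηV : η ∈ V₀ := hηz.mem_open V₀.isOpen hzV
    have hle : (pt ⟨η, hηV⟩).asIdeal ≤ (pt ⟨z, hzV⟩).asIdeal :=
      (H29Blow.primeIdealOf_le_iff hV₀ ⟨η, hηV⟩ ⟨z, hzV⟩).2 hηz
    have hge := hm.2 ⟨inferInstance, bot_le⟩ hle
    exact hz (((H29Blow.primeIdealOf_le_iff hV₀ ⟨z, hzV⟩ ⟨η, hηV⟩).1 hge).mem_open U.isOpen hη)
  haveI hmaxi : (pt ⟨z, hzV⟩).asIdeal.IsMaximal :=
    hV₀.primeIdealOf_isMaximal_of_isClosed ⟨z, hzV⟩ (isClosed_of_notMem hdim hmax hz)
  obtain ⟨b, hbm, hbS⟩ : ∃ b ∈ (pt ⟨z, hzV⟩).asIdeal, ∀ P ∈ minimalPrimes Γ(X, V₀), b ∉ P := by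
    by_contra! hall
    let T := (minimalPrimes.finite_of_isNoetherianRing Γ(X, V₀)).toFinset
    have hsub : ((pt ⟨z, hzV⟩).asIdeal : Set Γ(X, V₀)) ⊆ ⋃ P ∈ (↑T : Set (Ideal Γ(X, V₀))), (id P : Ideal Γ(X, V₀)) :=
      fun a ha => by
        obtain ⟨P, hP, haP⟩ := hall a ha
        exact Set.mem_iUnion₂.2 ⟨P, (Set.Finite.mem_toFinset _).2 hP, haP⟩
    obtain ⟨P, hP, hle⟩ := (Ideal.subset_union_prime ⊥ ⊥ fun P hP _ _ =>
      ((Set.Finite.mem_toFinset _).1 hP).1.1).1 hsub
    have hP' := (Set.Finite.mem_toFinset _).1 hP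
    exact hmin (hmaxi.eq_of_le hP'.1.1.ne_top hle ▸ hP')
  have hYcl : ∀ y ∈ V₀, y ∉ X.basicOpen b → IsClosed ({y} : Set X) := by
    intro y hy hyb
    have hbq : b ∈ (pt ⟨y, hy⟩).asIdeal := (H17.AssPts.mem_primeIdealOf hV₀ hy b).2 hyb
    obtain ⟨q, hq, hqy⟩ := Ideal.exists_minimalPrimes_le (show (⊥ : Ideal Γ(X, V₀)) ≤ (pt ⟨y, hy⟩).asIdeal from bot_le)
    obtain ⟨w, hw⟩ := H29Blow.exists_primeIdealOf_eq hV₀ ⟨q, hq.1.1⟩
    have hwq : (pt w).asIdeal = q := congrArg PrimeSpectrum.asIdeal hw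
    refine isClosed_point hdim ((H29Blow.primeIdealOf_le_iff hV₀ w ⟨y, hy⟩).1 (hwq.le.trans hqy)) fun he => ?_
    have : w = (⟨y, hy⟩ : V₀) := Subtype.ext he.symm
    rw [this] at hwq
    exact hbS q hq (hwq ▸ hbq)
  have hY := finite_diff V₀ (X.basicOpen b) hYcl
  have hY' : IsClosed (((V₀ : Set X) \ X.basicOpen b) \ {z}) := by
    rw [← Set.biUnion_of_singleton (((V₀ : Set X) \ X.basicOpen b) \ {z})]
    exact (hY.subset Set.diff_subset).isClosed_biUnion fun y hy => hYcl y hy.1.1 hy.1.2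
  obtain ⟨V, hV, hzV', hVle⟩ := exists_isAffineOpen_mem_and_subset (X := X) (x := z)
    (U := V₀ ⊓ ⟨_, hY'.isOpen_compl⟩) ⟨hzV, fun h => h.2 rfl⟩
  have hVV₀ : V ≤ V₀ := fun y hy => (hVle hy).1
  refine ⟨V, hV, X.presheaf.map (homOfLE hVV₀).op b, hzV', fun h => ?_, ?_, fun y hy => honly y (hVV₀ hy)⟩
  · rw [Scheme.basicOpen_res] at h
    exact (H17.AssPts.mem_primeIdealOf hV₀ hzV b).1 hbm h.2
  · rw [Scheme.basicOpen_res]
    refine Opens.ext (Set.ext fun y => ⟨fun hy => ⟨hy.1, ?_⟩, fun hy => ⟨hy.1, ?_⟩⟩)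
    · by_contra hyU
      have := honly y (hVV₀ hy.1) hyU
      subst this
      exact (H17.AssPts.mem_primeIdealOf hV₀ hzV b).1 hbm hy.2
    · by_contra hyb
      refine (hVle hy.1).2 ⟨⟨hVV₀ hy.1, hyb⟩, fun he => ?_⟩
      exact hz (Set.mem_singleton_iff.1 he ▸ hy.2)

/-- Places at a missing point, detecting inverses of elements of the maximal ideal. -/
theorem exists_places [X.IsSeparated] (hdim : topologicalKrullDim X ≤ 1) {U : X.Opens} (hU : IsAffineOpen U)
    (hmax : MaxIn U) (hd : SchDense U) {z : X} (hz : z ∉ U) :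
    ∃ (ι : Type u) (_ : Finite ι) (w : ι → Valuation Γ(X, U) ℤₘ₀), (∀ i, ∃ a, 1 < w i a) ∧
      ∀ f : Γ(X, U), (∀ i, 1 < w i f) → ∃ (N : ℕ) (W : X.Opens) (_ : IsAffineOpen W) (g : Γ(X, W)),
        0 < N ∧ z ∈ W ∧ z ∉ X.basicOpen g ∧ (∀ y ∈ W, y ∉ U → y = z) ∧
        X.presheaf.map (homOfLE (inf_le_left : W ⊓ U ≤ W)).op g *
          X.presheaf.map (homOfLE (inf_le_right : W ⊓ U ≤ U)).op (f ^ N) = 1 := by
  classical
  obtain ⟨V, hV, b, hzV, hzb, hbU, honly⟩ := exists_nbhd hdim hmax hz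
  let R := X.presheaf.stalk z
  let bz : R := X.presheaf.germ V z hzV b
  have hDU : X.basicOpen b ≤ U := hbU.le.trans inf_le_right
  have hbm : bz ∈ IsLocalRing.maximalIdeal R := (IsLocalRing.mem_maximalIdeal _).2 fun hu =>
    hzb ((X.mem_basicOpen _ _ hzV).2 hu)
  have hbnz : bz ∈ nonZeroDivisors R := by
    refine mem_nonZeroDivisors_iff_right.2 fun r hr => ?_
    obtain ⟨O, hzO, r', rfl⟩ := X.presheaf.exists_germ_eq r
    have h1 : X.presheaf.germ (O ⊓ V) z ⟨hzO, hzV⟩
        (X.presheaf.map (homOfLE inf_le_left).op r' * X.presheaf.map (homOfLE inf_le_right).op b) =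
        X.presheaf.germ (O ⊓ V) z ⟨hzO, hzV⟩ 0 := by
      rw [map_mul, TopCat.Presheaf.germ_res_apply, TopCat.Presheaf.germ_res_apply, map_zero]
      exact hr
    obtain ⟨W, hzW, i₁, i₂, he⟩ := X.presheaf.germ_eq z _ _ _ _ h1
    rw [map_zero, map_mul] at he
    have hWO : W ≤ O := i₁.le.trans inf_le_left
    have hWV : W ≤ V := i₁.le.trans inf_le_right
    rw [← TopCat.Presheaf.germ_res_apply X.presheaf (homOfLE hWO) z hzW r']
    rw [hd W (X.presheaf.map (homOfLE hWO).op r') ?_, map_zero]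
    have hu : IsUnit (X.presheaf.map (homOfLE (show W ⊓ U ≤ V from inf_le_left.trans hWV)).op b) :=
      isUnit_res b (show W ⊓ U ≤ X.basicOpen b from fun y hy => hbU ▸ ⟨hWV hy.1, hy.2⟩) _
    refine (hu.mul_left_eq_zero).1 ?_
    have h2 := congrArg (X.presheaf.map (homOfLE (inf_le_left : W ⊓ U ≤ W)).op) he
    rw [map_zero, map_mul] at h2
    simp only [← CommRingCat.comp_apply, ← Functor.map_comp] at h2 ⊢
    exact h2
  have hrad : IsLocalRing.maximalIdeal R ≤ (Ideal.span {bz}).radical := by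
    rw [Ideal.radical_eq_sInf]
    refine le_sInf fun P hP => ?_
    obtain ⟨hPb, hPp⟩ := hP
    let y := X.fromSpecStalk z ⟨P, hPp⟩
    have hy : y ⤳ z := by
      have h1 : (⟨P, hPp⟩ : PrimeSpectrum R) ⤳ IsLocalRing.closedPoint R :=
        (PrimeSpectrum.le_iff_specializes _ _).1 (IsLocalRing.le_maximalIdeal hPp.ne_top)
      have := h1.map (X.fromSpecStalk z).continuous
      rwa [Scheme.fromSpecStalk_closedPoint] at this
    have hyV : y ∈ V := hy.mem_open V.isOpen hzV
    have hyb : y ∉ X.basicOpen b := by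
      intro h
      have h1 : (⟨P, hPp⟩ : PrimeSpectrum R) ∈ X.fromSpecStalk z ⁻¹ᵁ X.basicOpen b := h
      rw [Scheme.preimage_basicOpen, Scheme.fromSpecStalk_app (hxU := hzV)] at h1
      simp only [CommRingCat.comp_apply, Scheme.basicOpen_res, basicOpen_eq_of_affine'] at h1
      refine h1.2 ?_
      rw [Iso.inv_hom_id_apply]
      exact hPb (Ideal.mem_span_singleton_self _)
    have hyz : y = z := honly y hyV fun hyU => hyb (hbU ▸ ⟨hyV, hyU⟩)
    have : (⟨P, hPp⟩ : PrimeSpectrum R) = IsLocalRing.closedPoint R :=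
      (X.fromSpecStalk z).isEmbedding.injective (hyz.trans Scheme.fromSpecStalk_closedPoint.symm)
    exact (congrArg PrimeSpectrum.asIdeal this).ge
  haveI : Ring.KrullDimLE 1 R :=
    (Ring.krullDimLE_iff (n := 1)).2 ((H8Props.FlatDimOneBase.ringKrullDim_stalk_le X z).trans hdim)
  let S := Localization.Away bz
  haveI : IsNoetherianRing S := IsLocalization.isNoetherianRing (Submonoid.powers bz) S inferInstance
  haveI := hV.isLocalization_basicOpen b
  let π : Γ(X, X.basicOpen b) →+* S :=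
    IsLocalization.Away.lift b (g := (algebraMap R S).comp (X.presheaf.germ V z hzV).hom)
      (IsLocalization.Away.algebraMap_isUnit bz)
  have hπ : ∀ v : Γ(X, V), π (X.presheaf.map (homOfLE (X.basicOpen_le b)).op v) =
      algebraMap R S (X.presheaf.germ V z hzV v) := fun v =>
    IsLocalization.Away.lift_eq b (g := (algebraMap R S).comp (X.presheaf.germ V z hzV).hom) _ v
  let θ : Γ(X, U) →+* S := π.comp (X.presheaf.map (homOfLE hDU).op).hom
  -- one minimal prime of the punctured spectrum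
  have key : ∀ Q : minimalPrimes S, ∃ (ι : Type u) (_ : Finite ι) (w : ι → Valuation Γ(X, U) ℤₘ₀),
      (∀ i, ∃ a, 1 < w i a) ∧ ∀ f, (∀ i, 1 < w i f) →
        ∃ N, ∃ μ ∈ IsLocalRing.maximalIdeal R, 0 < N ∧ θ f ^ N * algebraMap R S μ - 1 ∈ Q.1 := by
    rintro ⟨Q, hQ⟩
    haveI : Q.IsPrime := hQ.1.1
    let K := FractionRing (S ⧸ Q)
    let χ : S →+* K := (algebraMap (S ⧸ Q) K).comp (Ideal.Quotient.mk Q)
    let φ : R →+* K := χ.comp (algebraMap R S)
    have hker : ∀ s, χ s = 0 ↔ s ∈ Q := fun s => by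
      show algebraMap (S ⧸ Q) K (Ideal.Quotient.mk Q s) = 0 ↔ _
      rw [map_eq_zero_iff _ (IsFractionRing.injective (S ⧸ Q) K), Ideal.Quotient.eq_zero_iff_mem]
    have hbK : χ (algebraMap R S bz) ≠ 0 := fun h => hQ.1.1.ne_top
      (Ideal.eq_top_of_isUnit_mem _ ((hker _).1 h) (IsLocalization.Away.algebraMap_isUnit bz))
    have hsurjS : ∀ s : S, ∃ (r : R) (n : ℕ), χ s * φ bz ^ n = φ r := fun s => by
      obtain ⟨⟨r, ⟨_, n, rfl⟩⟩, hr⟩ := IsLocalization.surj (Submonoid.powers bz) s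
      refine ⟨r, n, ?_⟩
      rw [← map_pow, show φ (bz ^ n) = χ (algebraMap R S (bz ^ n)) from rfl, ← map_mul, hr]
      rfl
    haveI : IsFractionRing φ.range K := by
      rw [IsFractionRing]
      refine (isLocalization_iff _ _).2 ⟨fun y => ?_, fun x => ?_, fun {a c} h => ⟨1, by rw [show a = c from Subtype.ext h]⟩⟩
      · exact isUnit_iff_ne_zero.2 fun h => nonZeroDivisors.ne_zero y.2 (Subtype.ext h)
      · obtain ⟨p, q, hq, rfl⟩ := IsFractionRing.div_surjective (S ⧸ Q) x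
        obtain ⟨s, rfl⟩ := Ideal.Quotient.mk_surjective p
        obtain ⟨t, rfl⟩ := Ideal.Quotient.mk_surjective q
        have ht : χ t ≠ 0 := by
          show algebraMap (S ⧸ Q) K (Ideal.Quotient.mk Q t) ≠ 0
          exact IsFractionRing.to_map_ne_zero_of_mem_nonZeroDivisors hq
        obtain ⟨r, n, hr⟩ := hsurjS s
        obtain ⟨r', n', hr'⟩ := hsurjS t
        refine ⟨⟨⟨φ (r * bz ^ n'), _, rfl⟩, ⟨⟨φ (r' * bz ^ n), _, rfl⟩, mem_nonZeroDivisors_iff_ne_zero.2 fun h0 => ?_⟩⟩, ?_⟩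
        · have h1 : φ (r' * bz ^ n) = 0 := congrArg Subtype.val h0
          rw [map_mul, map_pow, ← hr'] at h1
          exact mul_ne_zero (mul_ne_zero ht (pow_ne_zero _ hbK)) (pow_ne_zero _ hbK) h1
        · show χ s / χ t * φ (r' * bz ^ n) = φ (r * bz ^ n')
          rw [map_mul, map_mul, map_pow, map_pow, ← hr, ← hr', div_mul_eq_mul_div, div_eq_iff ht]
          ring
    have hnf : ¬ IsField φ.range := by
      intro hf
      obtain ⟨⟨_, r, rfl⟩, hr⟩ := hf.mul_inv_cancel (show (⟨φ bz, bz, rfl⟩ : φ.range) ≠ 0 from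
        fun h => hbK (congrArg Subtype.val h))
      have h1 : φ (bz * r - 1) = 0 := by
        rw [map_sub, map_mul, map_one, sub_eq_zero]
        exact congrArg Subtype.val hr
      have h2 : bz * r - 1 ∈ IsLocalRing.maximalIdeal R := by
        refine IsLocalRing.le_maximalIdeal ?_ (show bz * r - 1 ∈ Q.comap (algebraMap R S) from (hker _).1 h1)
        exact (Ideal.IsPrime.comap (f := algebraMap R S) (K := Q)).ne_top
      exact (IsLocalRing.maximalIdeal.isMaximal R).ne_top ((Ideal.eq_top_iff_one _).2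
        (by simpa using Ideal.sub_mem _ (Ideal.mul_mem_right r _ hbm) h2))
    obtain ⟨ι, hι, w, hpole, hinv⟩ := DimOneLocal.exists_pow_mem_maximal φ hnf
    have hsup : (χ.comp θ).range ⊔ φ.range = ⊤ := by
      -- the two subrings generate the field
      by_contra hC
      let A := (χ.comp θ).range
      let C := A ⊔ φ.range
      have hex : ∃ r : R, φ r ≠ 0 ∧ ∀ c ∈ C, φ r * c ≠ 1 := by
        by_contra hno
        push Not at hno
        refine hC (eq_top_iff.2 fun x _ => ?_)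
        obtain ⟨⟨_, p, rfl⟩, ⟨_, q, rfl⟩, hq, rfl⟩ := IsFractionRing.div_surjective φ.range x
        obtain ⟨c, hc, hqc⟩ := hno q (fun h => nonZeroDivisors.ne_zero hq (Subtype.ext h))
        show φ p / φ q ∈ C
        rw [div_eq_mul_inv, inv_eq_of_mul_eq_one_right hqc]
        exact C.mul_mem (le_sup_right (a := A) ⟨p, rfl⟩) hc
      obtain ⟨r, hr0, hr⟩ := hex
      have hnu : (⟨φ r, le_sup_right (a := A) ⟨r, rfl⟩⟩ : C) ∈ nonunits C := fun hu => by
        obtain ⟨c, hc⟩ := hu.exists_right_inv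
        exact hr c c.2 (congrArg Subtype.val hc)
      obtain ⟨q, hq, hrq⟩ := exists_max_ideal_of_mem_nonunits hnu
      obtain ⟨Vv, hVv⟩ := H11Val.exists_valuationSubring_center C.subtype Subtype.val_injective q
      let φA : Γ(X, U) →+* Vv := (χ.comp θ).codRestrict Vv.toSubring
        fun a => (hVv ⟨_, le_sup_left (b := φ.range) ⟨a, rfl⟩⟩).1
      let φB : R →+* Vv := φ.codRestrict Vv.toSubring fun a => (hVv ⟨_, le_sup_right (a := A) ⟨a, rfl⟩⟩).1
      let l₁ : Spec (CommRingCat.of Vv) ⟶ X := Spec.map (CommRingCat.ofHom φA) ≫ hU.fromSpec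
      let l₂ : Spec (CommRingCat.of Vv) ⟶ X := Spec.map (CommRingCat.ofHom φB) ≫ X.fromSpecStalk z
      let j : Spec (CommRingCat.of K) ⟶ Spec (CommRingCat.of Vv) :=
        Spec.map (CommRingCat.ofHom (algebraMap Vv K))
      have h₂ : j ≫ l₂ = Spec.map (CommRingCat.ofHom φ) ≫ X.fromSpecStalk z := by
        rw [← Category.assoc, ← Spec.map_comp]
        rfl
      have h₁ : j ≫ l₁ = Spec.map (CommRingCat.ofHom φ) ≫ X.fromSpecStalk z := by
        have hDb : IsAffineOpen (X.basicOpen b) := hV.basicOpen b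
        rw [← hV.fromSpecStalk_eq_fromSpecStalk hzV, IsAffineOpen.fromSpecStalk, ← Category.assoc, ← Category.assoc,
          ← Spec.map_comp, ← Spec.map_comp]
        have e1 : CommRingCat.ofHom φA ≫ CommRingCat.ofHom (algebraMap Vv K) =
            X.presheaf.map (homOfLE hDU).op ≫ CommRingCat.ofHom (χ.comp π) := rfl
        have e2 : X.presheaf.germ V z hzV ≫ CommRingCat.ofHom φ =
            X.presheaf.map (homOfLE (X.basicOpen_le b)).op ≫ CommRingCat.ofHom (χ.comp π) := by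
          ext v
          exact congrArg χ (hπ v).symm
        rw [e1]
        refine Eq.trans ?_ (congrArg (fun m => Spec.map m ≫ hV.fromSpec) e2).symm
        beta_reduce
        rw [Spec.map_comp, Spec.map_comp, Category.assoc, Category.assoc, hU.map_fromSpec hDb,
          hV.map_fromSpec hDb]
      have heq : l₁ = l₂ := by
        haveI : IsSeparated (terminal.from X) := Scheme.IsSeparated.isSeparated_terminal_from
        let Sq : ValuativeCommSq (terminal.from X) :=
          { R := Vv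
            K := K
            i₁ := Spec.map (CommRingCat.ofHom φ) ≫ X.fromSpecStalk z
            i₂ := terminal.from _
            commSq := ⟨terminal.hom_ext _ _⟩ }
        exact congrArg CommSq.LiftStruct.l ((IsSeparated.valuativeCriterion (terminal.from X) Sq).elim
          ⟨l₁, h₁, terminal.hom_ext _ _⟩ ⟨l₂, h₂, terminal.hom_ext _ _⟩)
      have hloc : IsLocalHom φB := by
        let P := Ideal.comap φB (IsLocalRing.maximalIdeal Vv)
        have hrP : r ∈ P := (Vv.valuation_lt_one_iff (φB r)).2 ((hVv _).2.1 hrq)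
        have hmaxP : P.IsMaximal := by
          rcases Ring.krullDimLE_one_iff.1 inferInstance P inferInstance with hmn | hmx
          · exfalso
            let p₀ := Q.comap (algebraMap R S)
            have hp₀ : p₀ ≤ P := fun a ha => by
              have : φ a = 0 := (hker _).2 ha
              show φB a ∈ IsLocalRing.maximalIdeal Vv
              rw [show φB a = 0 from Subtype.ext this]
              exact zero_mem _
            have := hmn.2 ⟨inferInstance, bot_le⟩ hp₀ hrP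
            exact hr0 ((hker _).2 this)
          · exact hmx
        exact ((IsLocalRing.local_hom_TFAE φB).out 0 4).2 (IsLocalRing.eq_maximalIdeal hmaxP)
      have hpt : l₂ (IsLocalRing.closedPoint Vv) = z := by
        rw [Scheme.Hom.comp_apply]
        haveI : IsLocalHom (CommRingCat.ofHom φB).hom := hloc
        erw [Spec_closedPoint]
        exact Scheme.fromSpecStalk_closedPoint
      refine hz ?_
      rw [← hpt, ← heq, Scheme.Hom.comp_apply, ← SetLike.mem_coe, ← hU.range_fromSpec]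
      exact Set.mem_range_self _
    refine ⟨ι, hι, fun i => (w i).comap (χ.comp θ), fun i => ?_, fun f hf => ?_⟩
    · obtain ⟨_, ⟨a, rfl⟩, ha⟩ := hpole (χ.comp θ).range hsup i
      · exact ⟨a, ha⟩
    · obtain ⟨N, μ, hμ, hN, h1⟩ := hinv (χ (θ f)) hf
      refine ⟨N, μ, hμ, hN, (hker _).1 ?_⟩
      rw [map_sub, map_mul, map_pow, map_one, sub_eq_zero]
      exact h1
  choose ι hι w hpole hinv using key
  haveI : Finite (minimalPrimes S) := (minimalPrimes.finite_of_isNoetherianRing S).to_subtype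
  refine ⟨Σ Q, ι Q, inferInstance, fun i => w i.1 i.2, fun i => hpole i.1 i.2, fun f hf => ?_⟩
  obtain ⟨N, μ, hμ, hN, hone⟩ := DimOneLocal.exists_pow_mul_eq_one hbm hbnz hrad (θ f)
    fun Q hQ => hinv ⟨Q, hQ⟩ f fun i => hf ⟨⟨Q, hQ⟩, i⟩
  -- spread out
  obtain ⟨⟨a, ⟨_, n, rfl⟩⟩, ha⟩ := IsLocalization.surj (Submonoid.powers b)
    (X.presheaf.map (homOfLE hDU).op (f ^ N) : Γ(X, X.basicOpen b))
  change X.presheaf.map (homOfLE hDU).op (f ^ N) *
    X.presheaf.map (homOfLE (X.basicOpen_le b)).op (b ^ n) = X.presheaf.map (homOfLE (X.basicOpen_le b)).op a at ha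
  have hS : algebraMap R S (X.presheaf.germ V z hzV a * μ) = algebraMap R S (bz ^ n) := by
    have h1 := congrArg π ha
    rw [map_mul, hπ, hπ, map_pow (X.presheaf.germ V z hzV).hom] at h1
    rw [map_mul, ← h1, mul_right_comm, map_pow (X.presheaf.map (homOfLE hDU).op).hom, map_pow π]
    rw [show π ((X.presheaf.map (homOfLE hDU).op) f) = θ f from rfl, hone, one_mul]
  have hR := IsLocalization.injective S (Submonoid.powers_le.2 hbnz) hS
  obtain ⟨O, hzO, μ', rfl⟩ := X.presheaf.exists_germ_eq μ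
  have h1 : X.presheaf.germ (V ⊓ O) z ⟨hzV, hzO⟩
      (X.presheaf.map (homOfLE inf_le_left).op a * X.presheaf.map (homOfLE inf_le_right).op μ') =
      X.presheaf.germ (V ⊓ O) z ⟨hzV, hzO⟩ (X.presheaf.map (homOfLE inf_le_left).op (b ^ n)) := by
    rw [map_mul, TopCat.Presheaf.germ_res_apply, TopCat.Presheaf.germ_res_apply, TopCat.Presheaf.germ_res_apply,
      map_pow]
    exact hR
  obtain ⟨W₀, hzW₀, i₁, i₂, he⟩ := X.presheaf.germ_eq z _ _ _ _ h1
  obtain ⟨W, hW, hzW, hWW₀⟩ := exists_isAffineOpen_mem_and_subset (X := X) (x := z) (U := W₀) hzW₀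
  have hWV : W ≤ V := fun y hy => (i₁.le (hWW₀ hy)).1
  have hWO : W ≤ O := fun y hy => (i₁.le (hWW₀ hy)).2
  refine ⟨N, W, hW, X.presheaf.map (homOfLE hWO).op μ', hN, hzW, fun h => ?_, fun y hy => honly y (hWV hy), ?_⟩
  · rw [Scheme.basicOpen_res] at h
    exact (IsLocalRing.mem_maximalIdeal _).1 hμ ((X.mem_basicOpen _ _ hzO).1 h.2)
  · have hle : W ⊓ U ≤ X.basicOpen b := fun y hy => hbU ▸ ⟨hWV hy.1, hy.2⟩
    have hu : IsUnit (X.presheaf.map (homOfLE (hle.trans (X.basicOpen_le b))).op (b ^ n)) := by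
      rw [map_pow]
      exact (isUnit_res b hle _).pow n
    refine (hu.mul_left_inj).1 ?_
    have h2 := congrArg (X.presheaf.map (homOfLE hle).op) ha
    have h3 := congrArg (X.presheaf.map (homOfLE (show W ⊓ U ≤ W₀ from fun y hy => hWW₀ hy.1)).op) he
    rw [map_mul] at h2
    simp only [map_mul, ← CommRingCat.comp_apply, ← Functor.map_comp] at h2 h3 ⊢
    rw [one_mul, mul_assoc]
    refine (congrArg (_ * ·) h2).trans ?_
    rw [mul_comm]
    exact h3

/-- A pencil cutting out a dense affine open. -/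
theorem exists_pencil [X.IsSeparated] (hdim : topologicalKrullDim X ≤ 1) {U : X.Opens} (hU : IsAffineOpen U)
    (hmax : MaxIn U) (hd : SchDense U) :
    ∃ (L : X.Modules) (t : Γ(L, ⊤)), PicF.IsInvertible L ∧ Curv2.IsGloballyGenerated L ∧
      H11Ample.gen L t = U := by
  classical
  have hclosed : ∀ z : X, z ∉ U → IsClosed ({z} : Set X) := fun z hz => isClosed_of_notMem hdim hmax hz
  let Z := {z : X // z ∉ U}
  haveI : Finite Z := (Set.Finite.subset (finite_diff ⊤ U fun y _ hy => hclosed y hy)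
    (show {z : X | z ∉ U} ⊆ ((⊤ : X.Opens) : Set X) \ U from fun z hz => ⟨trivial, hz⟩)).to_subtype
  haveI : Fintype Z := Fintype.ofFinite Z
  choose ι hι w hpole hinv using fun z : Z => exists_places hdim hU hmax hd z.2
  haveI : Finite (Σ z : Z, ι z) := inferInstance
  haveI : Fintype (Σ z : Z, ι z) := Fintype.ofFinite _
  obtain ⟨f₀, hf₀⟩ := DimOneLocal.exists_common_pole' (Finset.univ : Finset (Σ z : Z, ι z))
    (fun i => w i.1 i.2) fun i _ => hpole i.1 i.2
  choose N W hW g₀ hN hzW hzg₀ honlyW hfg₀ using fun z : Z =>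
    hinv z f₀ fun i => hf₀ ⟨z, i⟩ (Finset.mem_univ _)
  let M₀ := ∏ z : Z, N z
  let f := f₀ ^ M₀
  have hM₀ : ∀ z, ∃ c, 0 < c ∧ M₀ = N z * c := fun z => by
    obtain ⟨c, hc⟩ := Finset.dvd_prod_of_mem N (Finset.mem_univ z)
    exact ⟨c, Nat.pos_of_mul_pos_left (hc ▸ Finset.prod_pos fun y _ => hN y), hc⟩
  choose c hc0 hc using hM₀
  let g : ∀ z : Z, Γ(X, W z) := fun z => g₀ z ^ c z
  have hfg : ∀ z, X.presheaf.map (homOfLE (inf_le_left : W z ⊓ U ≤ W z)).op (g z) *
      X.presheaf.map (homOfLE (inf_le_right : W z ⊓ U ≤ U)).op f = 1 := fun z => by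
    rw [show f = (f₀ ^ N z) ^ c z by rw [← pow_mul, ← hc], map_pow, map_pow, ← mul_pow, hfg₀, one_pow]
  have hzg : ∀ z : Z, z.1 ∉ X.basicOpen (g z) := fun z h => by
    rw [show g z = g₀ z ^ c z from rfl, X.basicOpen_pow _ (hc0 z)] at h
    exact hzg₀ z h
  have hzero : ∀ z : Z, (W z : Set X) \ X.basicOpen (g z) = {z.1} := by
    intro z
    refine Set.Subset.antisymm (fun y hy => ?_) (by rintro y rfl; exact ⟨hzW z, hzg z⟩)
    by_cases hyU : y ∈ U
    · exfalso
      refine hy.2 ?_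
      have h1 : IsUnit (X.presheaf.map (homOfLE (inf_le_left : W z ⊓ U ≤ W z)).op (g z)) :=
        IsUnit.of_mul_eq_one _ (hfg z)
      have h2 := h1.map (X.presheaf.germ (W z ⊓ U) y ⟨hy.1, hyU⟩).hom
      rw [TopCat.Presheaf.germ_res_apply] at h2
      exact (X.mem_basicOpen _ _ hy.1).2 h2
    · exact honlyW z y hy.1 hyU
  choose I hI hI' using fun z : Z => DimOnePencil.exists_effIdeal ⟨W z, hW z⟩ (g z)
    (by rw [hzero z]; exact hclosed _ z.2)
  let J : X.IdealSheafData := ⨅ z, I z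
  have hJW : ∀ (z : Z) (O : X.affineOpens) (h : O.1 ≤ W z),
      J.ideal O = Ideal.span {X.presheaf.map (homOfLE h).op (g z)} := by
    intro z O h
    have h1 : (I z).ideal O = Ideal.span {X.presheaf.map (homOfLE h).op (g z)} := by
      rw [← (I z).map_ideal (U := O) (V := ⟨W z, hW z⟩) h, hI, Ideal.map_span, Set.image_singleton]
      rfl
    rw [show J.ideal = _ from Scheme.IdealSheafData.ideal_iInf I, iInf_apply]
    refine le_antisymm ((iInf_le _ z).trans h1.le) (le_iInf fun y => ?_)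
    by_cases hy : y = z
    · rw [hy, h1]
    · have hdisj : Disjoint (O.1 : Set X) ((W y : Set X) \ X.basicOpen (g y)) := by
        rw [hzero y]
        exact Set.disjoint_singleton_right.2 fun hm => hy (Subtype.ext (honlyW z _ (h hm) y.2))
      rw [hI' y O hdisj]
      exact le_top
  have hJU : ∀ O : X.affineOpens, O.1 ≤ U → J.ideal O = ⊤ := by
    intro O h
    rw [show J.ideal = _ from Scheme.IdealSheafData.ideal_iInf I, iInf_apply, iInf_eq_top]
    exact fun y => hI' y O (by rw [hzero y]; exact Set.disjoint_singleton_right.2 fun hm => y.2 (h hm))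
  have hgnz : ∀ (z : Z) {O : X.Opens} (h : O ≤ W z),
      X.presheaf.map (homOfLE h).op (g z) ∈ nonZeroDivisors Γ(X, O) := by
    intro z O h
    refine mem_nonZeroDivisors_iff_right.2 fun a ha => hd O a ?_
    have hu : IsUnit (X.presheaf.map (homOfLE (inf_le_left.trans h : O ⊓ U ≤ W z)).op (g z)) := by
      have := (IsUnit.of_mul_eq_one _ (hfg z)).map
        (X.presheaf.map (homOfLE (inf_le_inf_right U h : O ⊓ U ≤ W z ⊓ U)).op).hom
      rwa [← CommRingCat.comp_apply, ← Functor.map_comp] at this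
    refine (hu.mul_left_eq_zero).1 ?_
    have h2 := congrArg (X.presheaf.map (homOfLE (inf_le_left : O ⊓ U ≤ O)).op) ha
    rw [map_mul, map_zero] at h2
    simp only [← CommRingCat.comp_apply, ← Functor.map_comp] at h2 ⊢
    exact h2
  have hJ : BlowUp.IsEffCartierIdeal J := by
    intro x
    by_cases hx : x ∈ U
    · exact ⟨⟨U, hU⟩, hx, 1, one_mem _, by rw [hJU _ le_rfl, Ideal.span_singleton_one]⟩
    · exact ⟨⟨W ⟨x, hx⟩, hW _⟩, hzW ⟨x, hx⟩, X.presheaf.map (homOfLE le_rfl).op (g ⟨x, hx⟩),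
        hgnz _ le_rfl, hJW _ _ le_rfl⟩
  obtain ⟨M, t, hM, hloc'⟩ := DimOnePencil.exists_section_equations hJ
  -- the second section, characterised on `U`
  have hlocal : ∀ x : X, ∃ (O : X.Opens) (_ : x ∈ O) (m : Γ(M, O)),
      M.presheaf.map (homOfLE (inf_le_left : O ⊓ U ≤ O)).op m =
        X.presheaf.map (homOfLE (inf_le_right : O ⊓ U ≤ U)).op f •
          M.presheaf.map (homOfLE (le_top : O ⊓ U ≤ ⊤)).op t ∧
      (x ∉ U → H11Tilde.IsGen M m) ∧
      (x ∈ U → H11Tilde.IsGen M (M.presheaf.map (homOfLE (le_top : O ≤ ⊤)).op t)) ∧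
      (x ∉ U → x ∉ H11Ample.gen M t) := by
    intro x
    by_cases hx : x ∈ U
    · obtain ⟨O, hO, e, a, hxO, hOU, he, hta, hid⟩ := hloc' x U hx
      refine ⟨O, hxO, X.presheaf.map (homOfLE hOU).op f • M.presheaf.map (homOfLE (le_top : O ≤ ⊤)).op t,
        ?_, fun h => absurd hx h, fun _ => ?_, fun h => absurd hx h⟩
      · rw [Scheme.Modules.map_smul, H10Coh.mres_mres, ← CommRingCat.comp_apply, ← Functor.map_comp]
        rfl
      · rw [hta]
        have hau : IsUnit a := Ideal.span_singleton_eq_top.1 (hid.symm.trans (hJU ⟨O, hO⟩ hOU))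
        have := H11Ample.isGen_res he (le_refl O) hau
        rwa [H10Coh.mres_self] at this
    · let z : Z := ⟨x, hx⟩
      obtain ⟨O, hO, e, a, hxO, hOW, he, hta, hid⟩ := hloc' x (W z) (hzW z)
      have hspan := hid.symm.trans (hJW z ⟨O, hO⟩ hOW)
      obtain ⟨u, hu⟩ : ∃ u : (Γ(X, O))ˣ, a * u = X.presheaf.map (homOfLE hOW).op (g z) := by
        obtain ⟨p, hp⟩ := Ideal.mem_span_singleton'.1 (hspan.le (Ideal.mem_span_singleton_self a))
        obtain ⟨q, hq⟩ := Ideal.mem_span_singleton'.1 (hspan.ge (Ideal.mem_span_singleton_self _))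
        have h1 : q * p = 1 := by
          refine sub_eq_zero.1 ((mem_nonZeroDivisors_iff_right.1 (hgnz z hOW)) _ ?_)
          rw [sub_mul, one_mul, mul_assoc, hp, hq, sub_self]
        exact ⟨⟨q, p, h1, by rw [mul_comm]; exact h1⟩, by rw [mul_comm]; exact hq⟩
      refine ⟨O, hxO, (↑u⁻¹ : Γ(X, O)) • e, ?_, fun _ => ?_, fun h => absurd h hx, fun _ hgen => ?_⟩
      · have ha : a = X.presheaf.map (homOfLE hOW).op (g z) * ↑u⁻¹ := by
          rw [← hu, mul_assoc, Units.mul_inv, mul_one]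
        have h1 := congrArg (M.presheaf.map (homOfLE (inf_le_left : O ⊓ U ≤ O)).op) hta
        rw [H10Coh.mres_mres, Scheme.Modules.map_smul] at h1
        rw [h1, Scheme.Modules.map_smul, smul_smul, ha, map_mul, ← mul_assoc]
        congr 1
        have h2 := congrArg (X.presheaf.map (homOfLE (inf_le_inf_right U hOW : O ⊓ U ≤ W z ⊓ U)).op) (hfg z)
        rw [map_mul, map_one] at h2
        simp only [← CommRingCat.comp_apply, ← Functor.map_comp] at h2 ⊢
        rw [mul_comm] at h2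
        refine Eq.trans (one_mul _).symm (congrArg (· * _) ?_)
        exact h2.symm
      · have := H11Ample.isGen_res he (le_refl O) (u⁻¹).isUnit
        rwa [H10Coh.mres_self] at this
      · have h1 : x ∈ X.basicOpen a := (H11Ample.gen_inf_eq_basicOpen he t a hta).le ⟨hgen, hxO⟩
        refine hzg z ?_
        rw [X.mem_basicOpen _ _ hxO] at h1
        rw [X.mem_basicOpen _ _ (hzW z)]
        have h2 := h1.mul (u.isUnit.map (X.presheaf.germ O _ hxO).hom)
        rwa [← map_mul, hu, TopCat.Presheaf.germ_res_apply] at h2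
  choose O hxO m hm hgen₂ hgen₁ hnotgen using hlocal
  obtain ⟨t₂, ht₂, -⟩ := TopCat.Sheaf.existsUnique_gluing' (⟨M.presheaf, M.isSheaf⟩ : TopCat.Sheaf AddCommGrpCat.{u} X.toTopCat)
    O ⊤ (fun x => homOfLE le_top) (fun x _ => Opens.mem_iSup.2 ⟨x, hxO x⟩) m fun x y => by
      refine sections_ext hd hM ?_
      have hx' := congrArg (M.presheaf.map (homOfLE (inf_le_inf_right U inf_le_left : O x ⊓ O y ⊓ U ≤ O x ⊓ U)).op) (hm x)
      have hy' := congrArg (M.presheaf.map (homOfLE (inf_le_inf_right U inf_le_right : O x ⊓ O y ⊓ U ≤ O y ⊓ U)).op) (hm y)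
      rw [Scheme.Modules.map_smul, H10Coh.mres_mres, H10Coh.mres_mres, ← CommRingCat.comp_apply, ← Functor.map_comp] at hx' hy'
      erw [H10Coh.mres_mres, H10Coh.mres_mres]
      exact hx'.trans hy'.symm
  have hgenU : H11Ample.gen M t = U := by
    refine Opens.ext (Set.ext fun x => ⟨fun h => ?_, fun hx => ?_⟩)
    · by_contra hx
      exact hnotgen x hx h
    · exact H11Ample.mem_gen_of_isGen (hgen₁ x hx) (hxO x)
  refine ⟨M, t, hM, DimOnePencil.isGloballyGenerated_of_gen hM fun x => ?_, hgenU⟩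
  by_cases hx : x ∈ U
  · exact ⟨t, hgenU ▸ hx⟩
  · refine ⟨t₂, H11Ample.mem_gen_of_isGen (W := O x) ?_ (hxO x)⟩
    rw [show M.presheaf.map (homOfLE le_top).op t₂ = m x from ht₂ x]
    exact hgen₂ x hx

/-- Maximal points. -/
theorem exists_maxPoints : ∃ Z : Set X, Z.Finite ∧ (∀ y : X, ∃ η ∈ Z, η ⤳ y) ∧
    ∀ η ∈ Z, ∀ y, y ⤳ η → y = η := by
  obtain ⟨Z, hZ, hgen, hanti⟩ := H25Euler.exists_finite_generizing_antichain X
  refine ⟨Z, hZ, hgen, fun η hη y hy => ?_⟩
  obtain ⟨ζ, hζ, hζy⟩ := hgen y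
  have : ζ = η := hanti ζ hζ η hη (hζy.trans hy)
  exact (hy.antisymm (this ▸ hζy)).eq

theorem exists_ample_of_nhds [X.IsSeparated] (hdim : topologicalKrullDim X ≤ 1)
    (h : ∀ x : X, ∃ U : X.Opens, IsAffineOpen U ∧ x ∈ U ∧ MaxIn U ∧ SchDense U) :
    ∃ L : X.Modules, CohB1.IsAmple L := by
  refine AmpleFromGG.exists_ample fun x => ?_
  obtain ⟨U, hU, hxU, hmax, hd⟩ := h x
  obtain ⟨L, t, hL, hg, ht⟩ := exists_pencil hdim hU hmax hd
  exact ⟨L, t, hL, hg, ht ▸ hxU, ht ▸ hU⟩

/-- The reduced case. -/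
theorem exists_ample_of_isReduced [X.IsSeparated] [IsReduced X] (hdim : topologicalKrullDim X ≤ 1) :
    ∃ L : X.Modules, CohB1.IsAmple L := by
  classical
  obtain ⟨Z, hZ, hgen, hmaxZ⟩ := exists_maxPoints (X := X)
  refine exists_ample_of_nhds hdim fun x => ?_
  obtain ⟨V, hV, hxV, -⟩ := exists_isAffineOpen_mem_and_subset (X := X) (x := x) (U := ⊤) trivial
  let T := {η : X | η ∈ Z ∧ η ∉ V}
  have hT : T.Finite := hZ.subset fun η hη => hη.1
  have hnbhd : ∀ η : T, ∃ O : X.Opens, IsAffineOpen O ∧ η.1 ∈ O ∧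
      ∀ y ∈ O, ∀ ζ ∈ Z, ζ ⤳ y → ζ = η.1 := by
    rintro ⟨η, hη, hηV⟩
    let S : Set X := ⋃ ζ ∈ Z \ {η}, closure {ζ}
    have hS : IsClosed S := (hZ.diff).isClosed_biUnion fun ζ _ => isClosed_closure
    have hηS : η ∉ S := fun hm => by
      obtain ⟨ζ, hζ, hm'⟩ := Set.mem_iUnion₂.1 hm
      exact hζ.2 (hmaxZ η hη ζ (specializes_iff_mem_closure.2 hm'))
    obtain ⟨O, hO, hηO, hOS⟩ := exists_isAffineOpen_mem_and_subset (X := X) (x := η) (U := ⟨Sᶜ, hS.isOpen_compl⟩) hηS
    refine ⟨O, hO, hηO, fun y hy ζ hζ hζy => ?_⟩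
    by_contra hne
    exact hOS hy (Set.mem_iUnion₂.2 ⟨ζ, ⟨hζ, hne⟩, specializes_iff_mem_closure.1 hζy⟩)
  choose O hO hηO hOonly using hnbhd
  haveI : Finite T := hT.to_subtype
  let Us : Option T → X.Opens := fun o => o.elim V O
  have hVO : ∀ η : T, V ⊓ O η = ⊥ := fun η => Opens.ext (Set.eq_empty_iff_forall_notMem.2 fun y hy => by
    obtain ⟨ζ, hζ, hζy⟩ := hgen y
    have hζO : ζ ∈ V := hζy.mem_open V.isOpen hy.1
    exact η.2.2 (hOonly η y hy.2 ζ hζ hζy ▸ hζO))
  have hOO : ∀ η η' : T, η ≠ η' → O η ⊓ O η' = ⊥ := fun η η' hne =>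
    Opens.ext (Set.eq_empty_iff_forall_notMem.2 fun y hy => by
      obtain ⟨ζ, hζ, hζy⟩ := hgen y
      exact hne (Subtype.ext ((hOonly η y hy.1 ζ hζ hζy).symm.trans (hOonly η' y hy.2 ζ hζ hζy))))
  refine ⟨⨆ o, Us o, IsAffineOpen.iSup_of_disjoint (fun o => ?_) ?_, Opens.mem_iSup.2 ⟨none, hxV⟩, ?_, ?_⟩
  · cases o with
    | none => exact hV
    | some η => exact hO η
  · intro a b hab
    rw [Function.onFun, disjoint_iff]
    cases a with
    | none => cases b with
      | none => exact absurd rfl hab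
      | some η => exact hVO η
    | some η => cases b with
      | none => exact (inf_comm _ _).trans (hVO η)
      | some η' => exact hOO η η' fun h => hab (congrArg some h)
  · intro y
    obtain ⟨η, hη, hηy⟩ := hgen y
    by_cases hηV : η ∈ V
    · exact ⟨η, Opens.mem_iSup.2 ⟨none, hηV⟩, hηy⟩
    · exact ⟨η, Opens.mem_iSup.2 ⟨some ⟨η, hη, hηV⟩, hηO _⟩, hηy⟩
  · intro V' s hs
    refine (basicOpen_eq_bot_iff s).1 (Opens.ext (Set.eq_empty_iff_forall_notMem.2 fun y hy => ?_))
    obtain ⟨η, hη, hηy⟩ := hgen y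
    have hηb : η ∈ X.basicOpen s := hηy.mem_open (X.basicOpen s).isOpen hy
    have hηU : η ∈ ⨆ o, Us o := by
      by_cases hηV : η ∈ V
      · exact Opens.mem_iSup.2 ⟨none, hηV⟩
      · exact Opens.mem_iSup.2 ⟨some ⟨η, hη, hηV⟩, hηO _⟩
    have h1 : η ∈ X.basicOpen (X.presheaf.map (homOfLE (inf_le_left : V' ⊓ ⨆ o, Us o ≤ V')).op s) := by
      rw [Scheme.basicOpen_res]
      exact ⟨⟨X.basicOpen_le s hηb, hηU⟩, hηb⟩
    rw [hs, Scheme.basicOpen_zero] at h1
    exact h1

/-- A separated Noetherian scheme of dimension at most one has an ample module. -/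
theorem exists_ample [X.IsSeparated] (hdim : topologicalKrullDim X ≤ 1) :
    ∃ L : X.Modules, CohB1.IsAmple L := by
  classical
  let I : X.IdealSheafData := Scheme.IdealSheafData.vanishingIdeal ⊤
  let R := I.subscheme
  let r : R ⟶ X := I.subschemeι
  have hr : Set.range r = Set.univ := by
    show Set.range I.subschemeι = _
    rw [Scheme.IdealSheafData.range_subschemeι, Scheme.IdealSheafData.coe_support_vanishingIdeal]
    rfl
  have hrs : Function.Surjective r := Set.range_eq_univ.1 hr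
  haveI : IsReduced R := H17.isReduced_vanishingIdeal_subscheme ⊤
  haveI : IsLocallyNoetherian R := LocallyOfFiniteType.isLocallyNoetherian r
  haveI : CompactSpace R := QuasiCompact.compactSpace_of_compactSpace r
  haveI : IsNoetherian R := ⟨⟩
  haveI : R.IsSeparated := ⟨by
    rw [← terminal.comp_from r]
    infer_instance⟩
  have hdimR : topologicalKrullDim R ≤ 1 := r.isClosedEmbedding.isInducing.topologicalKrullDim_le.trans hdim
  obtain ⟨L, hL⟩ := exists_ample_of_isReduced hdimR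
  obtain ⟨Z, hZ, hgen, -⟩ := exists_maxPoints (X := X)
  have hass := H17.PrimaryDecomp.finite_ass (H10Coh.isCoh_structureModule' X)
  refine exists_ample_of_nhds hdim fun x => ?_
  have hT : (r ⁻¹' (insert x (Z ∪ AssSch.Ass (Coh.structureModule X)))).Finite :=
    ((hZ.union hass).insert x).preimage r.isClosedEmbedding.injective.injOn
  obtain ⟨k, s, -, hTs, -, hs⟩ := H11Ample.exists_affine_gen_nhd_finite hL (U := ⊤) hT fun _ _ => trivial
  let G := H11Ample.gen (CohB1.tensorPow L k) s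
  obtain ⟨U, hU⟩ : ∃ U : X.Opens, r ⁻¹ᵁ U = G := by
    obtain ⟨t, ht, hteq⟩ := r.isClosedEmbedding.isInducing.isOpen_iff.1 G.isOpen
    exact ⟨⟨t, ht⟩, Opens.ext hteq⟩
  have hmem : ∀ y ∈ insert x (Z ∪ AssSch.Ass (Coh.structureModule X)), y ∈ U := fun y hy => by
    obtain ⟨y', rfl⟩ := hrs y
    have : y' ∈ r ⁻¹ᵁ U := hU ▸ hTs hy
    exact this
  refine ⟨U, ClosedUnion.isAffineOpen_of_preimage r hrs (hU ▸ hs), hmem x (Or.inl rfl),
    fun y => ?_, fun V a ha => ?_⟩
  · obtain ⟨η, hη, hηy⟩ := hgen y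
    exact ⟨η, hmem η (Or.inr (Or.inl hη)), hηy⟩
  · refine TopCat.Presheaf.section_ext X.sheaf V a 0 fun y hy => ?_
    rw [map_zero]
    by_contra hne
    obtain ⟨O, hO, hyO, hOV'⟩ := exists_isAffineOpen_mem_and_subset (X := X) (x := y) (U := V) hy
    have hOV : O ≤ V := hOV'
    let aO : Γ(Coh.structureModule X, O) := X.presheaf.map (homOfLE hOV).op a
    have hne' : (Coh.structureModule X).presheaf.germ O y hyO aO ≠ 0 := fun h0 => hne (by
      refine (TopCat.Presheaf.germ_res_apply X.presheaf (homOfLE hOV) y hyO a).symm.trans ?_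
      exact (H29Ref.bijective_smul_oneStalk y).1 (by
        beta_reduce
        refine Eq.trans ?_ (zero_smul (X.presheaf.stalk y) _).symm
        refine (H29Ref.germ_unit_eq_smul y hyO _).symm.trans ?_
        exact h0))
    obtain ⟨η, hηO, hη, -, hηne⟩ := H17.AssPts.exists_ass_specializes_of_germ _
      (H10Coh.isCoh_structureModule' X).1 hO hyO hne'
    refine hηne ?_
    have hηU : η ∈ U := hmem η (Or.inr (Or.inr hη))
    refine (H29Ref.germ_unit_eq_smul η hηO _).trans ?_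
    have h0 : X.presheaf.germ O η hηO (X.presheaf.map (homOfLE hOV).op a) = 0 := by
      rw [TopCat.Presheaf.germ_res_apply,
        ← TopCat.Presheaf.germ_res_apply X.presheaf (homOfLE (inf_le_left : V ⊓ U ≤ V)) η ⟨hOV hηO, hηU⟩ a, ha, map_zero]
    show X.presheaf.germ O η hηO (X.presheaf.map (homOfLE hOV).op a) • _ = _
    rw [h0, zero_smul]

end space

end Groth.Agent.H22Alg.DimOneAmple
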