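import Mathlib
import Groth.Agent.H22Alg.DimOneAmple
import Groth.Agent.H22Alg.PnBC
import Groth.Agent.H11Ample.ImmersionPn

/-!
# Schemes of finite type of dimension at most one are quasi-projective
-/

set_option autoImplicit false
universe u

open CategoryTheory CategoryTheory.Limits AlgebraicGeometry

namespace Groth.Agent.H22Alg.CurveQProj

variable (k : Type u) [Field k] {X : Scheme.{u}} [X.Over (Spec (CommRingCat.of k))]

include k in
theorem isNoetherian_of_finType [LocallyOfFiniteType (X ↘ Spec (CommRingCat.of k))]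
    [QuasiCompact (X ↘ Spec (CommRingCat.of k))] : IsNoetherian X := by
  haveI : IsLocallyNoetherian X := LocallyOfFiniteType.isLocallyNoetherian (X ↘ Spec (CommRingCat.of k))
  haveI : CompactSpace X := QuasiCompact.compactSpace_of_compactSpace (X ↘ Spec (CommRingCat.of k))
  exact ⟨⟩

include k in
theorem exists_ample [IsSeparated (X ↘ Spec (CommRingCat.of k))]
    [LocallyOfFiniteType (X ↘ Spec (CommRingCat.of k))] [QuasiCompact (X ↘ Spec (CommRingCat.of k))]
    (hdim : topologicalKrullDim X ≤ 1) : ∃ L : X.Modules, CohB1.IsAmple L := by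
  haveI := isNoetherian_of_finType k (X := X)
  haveI : X.IsSeparated := ⟨by
    rw [← terminal.comp_from (X ↘ Spec (CommRingCat.of k))]
    infer_instance⟩
  exact DimOneAmple.exists_ample hdim

theorem exists_immersion [IsSeparated (X ↘ Spec (CommRingCat.of k))]
    [LocallyOfFiniteType (X ↘ Spec (CommRingCat.of k))] [QuasiCompact (X ↘ Spec (CommRingCat.of k))]
    (hdim : topologicalKrullDim X ≤ 1) :
    ∃ (n : ℕ) (i : X ⟶ CohB1.ProjSpace n k), IsImmersion i ∧
      i ≫ CohB1.ProjSpace.toSpec n k = X ↘ (Spec (CommRingCat.of k)) := by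
  haveI := isNoetherian_of_finType k (X := X)
  obtain ⟨L, hL⟩ := exists_ample k hdim
  obtain ⟨n, i, hi, hiq⟩ := H11Ample.exists_immersion_projSpaceOver (X ↘ Spec (CommRingCat.of k)) hL
  obtain ⟨φ, hφ⟩ := PnBC.isPullback_projSpaceOver n k
  exact ⟨n, i ≫ φ.hom, inferInstance, by rw [Category.assoc, hφ, hiq]⟩

end Groth.Agent.H22Alg.CurveQProj
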