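import Mathlib
import Groth.Agent.H22Alg.CurveQProj
import Groth.Agent.H22Alg.VarDim
import Groth.Agent.H17.SchDense

/-!
# Projective compactifications of schemes of dimension at most one
-/

set_option autoImplicit false
set_option linter.style.haveILetI false
universe u

open CategoryTheory CategoryTheory.Limits AlgebraicGeometry TopologicalSpace
open Groth.Agent.H8Props.FieldDim (cdim)

namespace Groth.Agent.H22Alg.CurveCompact

variable (k : Type u) [Field k]

/-- Dimensions of closures do not change under preimmersions over a field. -/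
theorem cdim_map {X Y : Scheme.{u}} (f : X ⟶ Spec (CommRingCat.of k)) (g : Y ⟶ Spec (CommRingCat.of k))
    [LocallyOfFiniteType f] [LocallyOfFiniteType g] (j : X ⟶ Y) [IsPreimmersion j] (hj : j ≫ g = f) (x : X) :
    cdim (j x) = cdim x := by
  letI : X.Over (Spec (CommRingCat.of k)) := ⟨f⟩
  haveI : LocallyOfFiniteType (X ↘ Spec (CommRingCat.of k)) := ‹LocallyOfFiniteType f›
  letI := (Curv2.resMap k X x).toAlgebra
  let e := X.fromSpecResidueField x
  obtain ⟨s, hs, hs'⟩ := VarDim.exists_cdim_trdeg k X x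
  obtain ⟨t, ht, ht'⟩ := H8Props.FieldDim.exists_trdeg g (L := X.residueField x) (e ≫ j)
    (by rw [Category.assoc, hj]; exact VarDim.fromSpecResidueField_over k X x) (IsLocalRing.closedPoint _)
  have he : (e ≫ j) (IsLocalRing.closedPoint _) = j x := by
    rw [Scheme.Hom.comp_apply]
    exact congrArg j (X.fromSpecResidueField_apply x _)
  rw [he] at ht
  rw [ht, hs, show t = s from Nat.cast_injective (R := Cardinal) (ht'.symm.trans hs')]

/-- The closure of a scheme of dimension at most one in projective space. -/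
theorem exists_compactification {X : Scheme.{u}} [X.Over (Spec (CommRingCat.of k))]
    [IsSeparated (X ↘ Spec (CommRingCat.of k))] [LocallyOfFiniteType (X ↘ Spec (CommRingCat.of k))]
    [QuasiCompact (X ↘ Spec (CommRingCat.of k))] (hdim : topologicalKrullDim X ≤ 1) :
    ∃ (d : ℕ) (Y : Scheme.{u}) (c : Y ⟶ CohB1.ProjSpace d k) (j : X ⟶ Y), IsClosedImmersion c ∧ IsOpenImmersion j ∧
      j ≫ c ≫ CohB1.ProjSpace.toSpec d k = X ↘ (Spec (CommRingCat.of k)) ∧ Dense (Set.range j.base) ∧
      IsSchemeTheoreticallyDominant j ∧ (Set.range j.base)ᶜ.Finite ∧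
      (∀ y ∈ (Set.range j.base)ᶜ, IsClosed ({y} : Set Y)) := by
  haveI := CurveQProj.isNoetherian_of_finType k (X := X)
  obtain ⟨d, i, hi, hiq⟩ := CurveQProj.exists_immersion k hdim
  haveI : IsProper (CohB1.ProjSpace.toSpec d k) := inferInstance
  haveI : QuasiCompact (i ≫ CohB1.ProjSpace.toSpec d k) := hiq ▸ inferInstance
  haveI : QuasiCompact i := QuasiCompact.of_comp i (CohB1.ProjSpace.toSpec d k)
  let Y := i.image
  let g : Y ⟶ Spec (CommRingCat.of k) := i.imageι ≫ CohB1.ProjSpace.toSpec d k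
  have hjg : i.toImage ≫ g = X ↘ Spec (CommRingCat.of k) := by
    rw [show g = i.imageι ≫ CohB1.ProjSpace.toSpec d k from rfl, Scheme.Hom.toImage_imageι_assoc, hiq]
  haveI : IsLocallyNoetherian Y := LocallyOfFiniteType.isLocallyNoetherian g
  haveI : CompactSpace Y := QuasiCompact.compactSpace_of_compactSpace g
  haveI : IsNoetherian Y := ⟨⟩
  have hdense : Dense (Set.range i.toImage.base) := i.toImage.denseRange
  have hopen : IsOpen (Set.range i.toImage.base) := i.toImage.isOpenEmbedding.isOpen_range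
  -- every point specialises from a point of `X`
  have hgen : ∀ y : Y, ∃ x : X, i.toImage x ⤳ y := by
    obtain ⟨Z, hZ, hgen, hmax⟩ := DimOneAmple.exists_maxPoints (X := Y)
    intro y
    obtain ⟨η, hη, hηy⟩ := hgen y
    let S : Set Y := ⋃ ζ ∈ Z \ {η}, closure {ζ}
    have hS : IsClosed S := (hZ.diff).isClosed_biUnion fun ζ _ => isClosed_closure
    have hηS : η ∈ Sᶜ := fun hm => by
      obtain ⟨ζ, hζ, hm'⟩ := Set.mem_iUnion₂.1 hm
      exact hζ.2 (hmax η hη ζ (specializes_iff_mem_closure.2 hm'))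
    obtain ⟨w, hwS, hw⟩ := hdense.inter_open_nonempty Sᶜ hS.isOpen_compl ⟨η, hηS⟩
    obtain ⟨ζ, hζ, hζw⟩ := hgen w
    have hζη : ζ = η := by
      by_contra hne
      exact hwS (Set.mem_iUnion₂.2 ⟨ζ, ⟨hζ, hne⟩, specializes_iff_mem_closure.1 hζw⟩)
    obtain ⟨x, hx⟩ := (hζη ▸ hζw).mem_open hopen hw
    exact ⟨x, hx ▸ hηy⟩
  have hcl : ∀ y ∈ (Set.range i.toImage.base)ᶜ, IsClosed ({y} : Set Y) := by
    intro y hy
    obtain ⟨x, hxy⟩ := hgen y
    refine DimOneDiv.isClosed_singleton_of_lt hxy (fun h => hy ⟨x, h.symm⟩) ?_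
    show cdim (i.toImage x) ≤ _
    rw [cdim_map k (X ↘ Spec (CommRingCat.of k)) g i.toImage hjg x]
    exact (H28Int.dim_le_of_subset (Set.subset_univ _)).trans
      ((IsHomeomorph.topologicalKrullDim_eq _ (Homeomorph.Set.univ X).isHomeomorph).le.trans hdim)
  refine ⟨d, Y, i.imageι, i.toImage, inferInstance, inferInstance, ?_, hdense, ⟨H17.ker_toImage i⟩, ?_, hcl⟩
  · rw [Scheme.Hom.toImage_imageι_assoc, hiq]
  · refine (DimOneAmple.finite_diff ⊤ i.toImage.opensRange fun y _ hy => hcl y hy).subset ?_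
    exact fun y hy => ⟨trivial, hy⟩

end Groth.Agent.H22Alg.CurveCompact
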