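import Mathlib
import Groth.Agent.H22Alg.Kleiman
import Groth.Agent.H22Alg.PB.Local
import Groth.Agent.H11Curve.NormFinite
import Groth.Agent.H11Curve.NormalizationBasic
import Groth.Agent.H22Alg.NormalizationDimOne
import Groth.Agent.S7640
import Groth.Agent.S9332

/-!
# Regular curves over a given curve, and descent of nefness of bundles
-/

set_option autoImplicit false
set_option linter.style.haveILetI false
universe u

open CategoryTheory CategoryTheory.Limits AlgebraicGeometry Opposite TopologicalSpace

noncomputable section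

namespace Groth.Agent.H22Alg.NefBundle

theorem isRegularLocalRing_stalk {N : Scheme.{u}}
    (hD : ∀ {V : N.Opens}, IsAffineOpen V → (V : Set N).Nonempty → IsDedekindDomain Γ(N, V)) (y : N) :
    IsRegularLocalRing (N.presheaf.stalk y) := by
  obtain ⟨V, hV, hy, -⟩ := exists_isAffineOpen_mem_and_subset (show y ∈ (⊤ : N.Opens) from trivial)
  haveI := hD hV ⟨y, hy⟩
  let P := (hV.primeIdealOf ⟨y, hy⟩).asIdeal
  letI := TopCat.Presheaf.algebra_section_stalk N.presheaf (⟨y, hy⟩ : V)
  haveI : IsLocalization.AtPrime (N.presheaf.stalk y) P := hV.isLocalization_stalk ⟨y, hy⟩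
  haveI : IsRegularRing Γ(N, V) := inferInstance
  exact IsRegularLocalRing.of_ringEquiv
    (IsLocalization.algEquiv P.primeCompl (Localization.AtPrime P) (N.presheaf.stalk y)).toRingEquiv

variable (k : Type u) [Field k]

/-- A regular proper curve mapping onto a given curve through a given proper scheme over it. -/
theorem exists_regular_curve_over {C P : Scheme.{u}} [C.Over (Spec (CommRingCat.of k))]
    [IsProper (C ↘ Spec (CommRingCat.of k))] [IsIntegral C] (hC : topologicalKrullDim C = 1)
    [P.Over (Spec (CommRingCat.of k))] [IsProper (P ↘ Spec (CommRingCat.of k))]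
    (p : P ⟶ C) (hp : p ≫ (C ↘ Spec (CommRingCat.of k)) = P ↘ Spec (CommRingCat.of k)) [Surjective p] :
    ∃ (N : Scheme.{u}) (_ : IsIntegral N) (ν : N ⟶ P),
      IsProper (ν ≫ (P ↘ Spec (CommRingCat.of k))) ∧ topologicalKrullDim N = 1 ∧
      (∀ x : N, IsRegularLocalRing (N.presheaf.stalk x)) ∧
      (ν ≫ p) (genericPoint N) = genericPoint C ∧ 0 < (ν ≫ p).residueDegree (genericPoint N) := by
  haveI : LocallyOfFiniteType p := by
    haveI : LocallyOfFiniteType (p ≫ (C ↘ Spec (CommRingCat.of k))) := by rw [hp]; infer_instance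
    exact locallyOfFiniteType_of_comp p (C ↘ Spec (CommRingCat.of k))
  let η := genericPoint C
  haveI : Nonempty ↥(p.fiber η) := by
    obtain ⟨y, hy⟩ := p.surjective η
    obtain ⟨v, -⟩ : y ∈ Set.range (p.fiberι η) := by rw [p.range_fiberι η]; exact hy
    exact ⟨v⟩
  haveI : LocallyOfFiniteType (p.fiberToSpecResidueField η) := H8Props.FieldDim.locallyOfFiniteType_fiberToSpec p η
  haveI : JacobsonSpace ↥(p.fiber η) := LocallyOfFiniteType.jacobsonSpace (p.fiberToSpecResidueField η)
  obtain ⟨v, -, hv⟩ := nonempty_inter_closedPoints (X := ↥(p.fiber η)) (Z := Set.univ) Set.univ_nonempty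
    isClosed_univ.isLocallyClosed
  let y := p.fiberι η v
  have hy : p y = η := (p.range_fiberι η).subset (Set.mem_range_self v)
  have hcl : IsClosed ({p.asFiber y} : Set ↥(p.fiber (p y))) := by
    have : ∀ (η' : C) (hη : p y = η') (v' : ↥(p.fiber η')), IsClosed ({v'} : Set ↥(p.fiber η')) →
        p.fiberι η' v' = y → IsClosed ({p.asFiber y} : Set ↥(p.fiber (p y))) := by
      rintro η' rfl v' hv' hvy
      rwa [show p.asFiber y = v' from (p.fiberι _).isEmbedding.injective ((p.fiberι_asFiber y).trans hvy.symm)]
    exact this η hy v hv rfl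
  have hfin := H17.finite_residueFieldMap p y hcl
  have hdeg : 0 < p.residueDegree y := by
    letI : Algebra (C.residueField (p y)) (P.residueField y) := (p.residueFieldMap y).hom.toAlgebra
    haveI : Module.Finite (C.residueField (p y)) (P.residueField y) := hfin
    exact Module.finrank_pos
  have hyd : H8Props.FieldDim.cdim y = ((1 : ℕ) : WithBot ℕ∞) := by
    rw [H8Props.FieldDim.cdim_eq_add (P ↘ Spec (CommRingCat.of k)) (C ↘ Spec (CommRingCat.of k)) p hp y,
      H28Int.Curves.cdim_closed hcl, hy, VarDim.cdim_genericPoint C, hC, Nat.cast_zero, zero_add, Nat.cast_one]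
  let J := Scheme.IdealSheafData.vanishingIdeal (DevLength.cl y)
  let Z := J.subscheme
  haveI : IsIntegral Z := isIntegral_vanishingIdeal_closure y
  have hZd : topologicalKrullDim Z = 1 := by
    rw [NakaiPos.dim_subscheme, Scheme.IdealSheafData.coe_support_vanishingIdeal]
    exact hyd.trans (by simp)
  have hgen : J.subschemeι (genericPoint Z) = y := by
    have h1 : closure ({J.subschemeι (genericPoint Z)} : Set P) = closure {y} := by
      rw [← IntPullback.closure_range, H17.range_vanishingIdeal_subschemeι]
      exact closure_closure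
    exact (Specializes.antisymm (specializes_iff_mem_closure.2 (h1.ge (subset_closure rfl)))
      (specializes_iff_mem_closure.2 (h1.le (subset_closure rfl)))).eq
  letI : Z.Over (Spec (CommRingCat.of k)) := ⟨J.subschemeι ≫ (P ↘ Spec (CommRingCat.of k))⟩
  haveI : IsProper (Z ↘ Spec (CommRingCat.of k)) := inferInstanceAs (IsProper (J.subschemeι ≫ _))
  haveI := H28Int.isNoetherian k (X := Z)
  haveI : QuasiCompact (Z.fromSpecStalk (genericPoint Z)) := inferInstance
  haveI : QuasiSeparated (Z.fromSpecStalk (genericPoint Z)) := inferInstance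
  haveI : IsFinite (Curv2.normalizationι Z) := H11Curve.isFinite_normalizationι (Z ↘ Spec (CommRingCat.of k))
  obtain ⟨hNint, hνη, -⟩ := H11Curve.exists_residueFieldMap_bijective Z
  haveI := hNint
  let N := Curv2.normalization Z
  let ν : N ⟶ P := Curv2.normalizationι Z ≫ J.subschemeι
  have hνy : ν (genericPoint N) = y := by
    show (Curv2.normalizationι Z ≫ J.subschemeι) (genericPoint N) = y
    rw [Scheme.Hom.comp_apply]
    exact (congrArg J.subschemeι.base hνη).trans hgen
  have hdegν : 0 < (Curv2.normalizationι Z).residueDegree (genericPoint N) := by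
    letI := ((Curv2.normalizationι Z).residueFieldMap (genericPoint N)).hom.toAlgebra
    haveI : Module.Finite (Z.residueField ((Curv2.normalizationι Z) (genericPoint N))) (N.residueField (genericPoint N)) :=
      NormalizationDimOne.finite_residueField Z hZd (genericPoint N)
    exact Module.finrank_pos
  have hpos : 0 < (ν ≫ p).residueDegree (genericPoint N) := by
    rw [CycBasic.residueDegree_comp ν p, hνy, CycBasic.residueDegree_comp (Curv2.normalizationι Z) J.subschemeι,
      IntPullback.residueDegree_of_surjective J.subschemeι _ (J.subschemeι.stalkMap_surjective _), one_mul]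
    exact Nat.mul_pos hdeg hdegν
  have hη' : (ν ≫ p) (genericPoint N) = genericPoint C := by rw [Scheme.Hom.comp_apply, hνy, hy]
  haveI : IsProper (ν ≫ (P ↘ Spec (CommRingCat.of k))) :=
    MorphismProperty.comp_mem _ _ _ (MorphismProperty.comp_mem _ _ _ inferInstance inferInstance) inferInstance
  refine ⟨N, hNint, ν, inferInstance, ?_,
    isRegularLocalRing_stalk fun hV hne => NormalizationDimOne.isDedekindDomain_affineOpen Z hZd hV hne, hη', hpos⟩
  haveI : LocallyOfFiniteType (ν ≫ p) := inferInstance
  have hfin' : ((ν ≫ p).residueFieldMap (genericPoint N)).hom.Finite := by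
    letI := ((ν ≫ p).residueFieldMap (genericPoint N)).hom.toAlgebra
    exact Module.finite_of_finrank_pos hpos
  have e := H8Props.FieldDim.cdim_eq_add (ν ≫ (P ↘ Spec (CommRingCat.of k))) (C ↘ Spec (CommRingCat.of k))
    (ν ≫ p) (by rw [Category.assoc, hp]) (genericPoint N)
  rwa [VarDim.cdim_genericPoint N, H28Int.Curves.cdim_closed ((S9332.result (ν ≫ p) _).2 hfin'), hη',
    VarDim.cdim_genericPoint C, hC, Nat.cast_zero, zero_add] at e

end Groth.Agent.H22Alg.NefBundle
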