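import Groth.Agent.H22Alg.SnapperCoeff
import Groth.Agent.H22Alg.DevLength
import Groth.Agent.H28Int.Push
import Groth.Agent.H10Coh.SerreVanishing
import Groth.Agent.H11Ample.Converse

/-! # Dévissage of Snapper functions. -/

set_option autoImplicit false
set_option linter.style.haveILetI false

universe u

open CategoryTheory CategoryTheory.Limits AlgebraicGeometry TopologicalSpace

noncomputable section

namespace Groth.Agent.H22Alg.SnapperDev

open H28Int H28Int.Diff

variable {X : Scheme.{u}}

theorem nonempty_push_tensorPows {Z : Scheme.{u}} (i : Z ⟶ X) (G : Z.Modules) :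
    ∀ (r : ℕ) (L : Fin r → X.Modules), (∀ j, PicF.IsInvertible (L j)) → ∀ n : Fin r → ℕ,
      Nonempty (Curv2.tensorPows ((Coh.push i).obj G) r L n ≅
        (Coh.push i).obj (Curv2.tensorPows G r (fun j => (Scheme.Modules.pullback i).obj (L j)) n))
  | 0, _, _, _ => ⟨Iso.refl _⟩
  | r + 1, L, hL, n => by
    obtain ⟨e⟩ := nonempty_push_tensorPows i G r (fun j => L j.castSucc) (fun j => hL _) (fun j => n j.castSucc)
    obtain ⟨eT⟩ := H10Coh.Tw.nonempty_push_tensor_iso i
      (Curv2.tensorPows G r (fun j => (Scheme.Modules.pullback i).obj (L j.castSucc)) (fun j => n j.castSucc))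
      (H11Ample.isInvertible_tensorPow (hL (Fin.last r)) (n (Fin.last r)))
    obtain ⟨eP⟩ := H11Ample.exists_iso_pullback_tensorPow i (hL (Fin.last r)) (n (Fin.last r))
    exact ⟨PicGrp.tensorModIso e (Iso.refl _) ≪≫ eT ≪≫
      (Coh.push i).mapIso (PicGrp.tensorModIso (Iso.refl _) eP)⟩

variable (k : Type u) [Field k] [X.Over (Spec (CommRingCat.of k))] [IsProper (X ↘ Spec (CommRingCat.of k))]

theorem D_tensorPows {l : List X.Modules} (hl : ∀ A ∈ l, PicF.IsInvertible A) {F : X.Modules}
    (hF : Coh.IsCoh F) (hd : topologicalKrullDim (CohB1.support F) ≤ (l.length : WithBot ℕ∞)) :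
    ∀ (r : ℕ) (L : Fin r → X.Modules), (∀ j, PicF.IsInvertible (L j)) → ∀ n : Fin r → ℕ,
      D k l (Curv2.tensorPows F r L n) = D k l F
  | 0, _, _, _ => rfl
  | r + 1, L, hL, n => by
    haveI := isNoetherian k (X := X)
    obtain ⟨h1, h2⟩ := Snapper.isCoh_tensorPows hF r (fun j => L j.castSucc) (fun j => hL _) (fun j => n j.castSucc)
    rw [← D_tensorPows hl hF hd r (fun j => L j.castSucc) (fun j => hL _) (fun j => n j.castSucc)]
    exact ((isAddFn_D k l hl).congr (H10Coh.Tw.commIso _ _)).trans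
      (D_twist k hl (H11Ample.isInvertible_tensorPow (hL _) _) h1 ((dim_le_of_subset h2).trans hd))

variable {F : X.Modules} (hF : Coh.IsCoh F) {d : ℕ} (hd : topologicalKrullDim (CohB1.support F) ≤ (d : WithBot ℕ∞))
  {r : ℕ} {L : Fin r → X.Modules} (hL : ∀ i, PicF.IsInvertible (L i))

/-- The difference between a Snapper function and the sum over components. -/
def defect (F : X.Modules) (T : Finset X) (L : Fin r → X.Modules) (l : List X.Modules) (n : Fin r → ℕ) : ℤ :=
  D k l (Curv2.tensorPows F r L n) -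
    ∑ ξ ∈ T, ((DevLength.len F ξ).toNat : ℤ) * D k l (Curv2.tensorPows (H25K.redMod (DevLength.cl ξ)) r L n)

include hF hd hL in
theorem defect_eq_zero {T : Finset X}
    (hT : ∀ ξ, ξ ∈ T ↔ ξ ∈ CohB1.support F ∧ topologicalKrullDim (closure ({ξ} : Set X)) = (d : WithBot ℕ∞))
    {l : List X.Modules} (hl : ∀ A ∈ l, PicF.IsInvertible A) (hlen : l.length = d) (n : Fin r → ℕ) :
    defect k F T L l n = 0 := by
  haveI := isNoetherian k (X := X)
  have hz : ∀ ξ ∈ T, D k l (Curv2.tensorPows (H25K.redMod (DevLength.cl ξ)) r L n) =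
      D k l (H25K.redMod (DevLength.cl ξ)) := fun ξ hξ =>
    D_tensorPows k hl (H25K.isCoh_redMod _)
      (by rw [hlen]; exact (dim_le_of_subset (H25K.support_redMod_subset _)).trans ((hT ξ).1 hξ).2.le) r L hL n
  rw [defect, D_tensorPows k hl hF (hlen ▸ hd) r L hL n, Finset.sum_congr rfl fun ξ hξ => by rw [hz ξ hξ],
    sub_eq_zero, DevLength.eq_finsum (isAddFn_D k l hl) (fun G hG h => D_eq_zero k l hl G hG (hlen ▸ h)) hF hd]
  rw [finsum_eq_sum_of_support_subset _ (s := T) fun ξ hξ => ?_]
  · exact Finset.sum_congr rfl fun ξ hξ => by rw [if_pos ((hT ξ).1 hξ).2]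
  · simp only [Function.mem_support, ne_eq, ite_eq_right_iff, not_forall] at hξ
    obtain ⟨h, hne⟩ := hξ
    rw [Finset.mem_coe, hT]
    refine ⟨by_contra fun hs => hne ?_, h⟩
    simp [DevLength.len_eq_zero hs]

include hF hd hL in
theorem van {T : Finset X}
    (hT : ∀ ξ, ξ ∈ T ↔ ξ ∈ CohB1.support F ∧ topologicalKrullDim (closure ({ξ} : Set X)) = (d : WithBot ℕ∞)) :
    ∀ (j : ℕ) (l : List X.Modules), (∀ A ∈ l, PicF.IsInvertible A) → l.length + j = d → ∀ c : ℚ,
      Van j fun n => c * (defect k F T L l n : ℚ)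
  | 0, l, hl, hlen, c => fun m => by
    show c * (defect k F T L l m : ℚ) = 0
    rw [defect_eq_zero k hF hd hL hT hl (by omega) m]
    simp
  | j + 1, l, hl, hlen, c => fun i => by
    haveI := isNoetherian k (X := X)
    have h : ∀ (G : X.Modules) (m : Fin r → ℕ), D k (L i :: l) (Curv2.tensorPows G r L m) =
        D k l (Curv2.tensorPows G r L m) - D k l (Curv2.tensorPows G r L (m + Pi.single i 1)) := fun G m => by
      obtain ⟨φ⟩ := Snapper.nonempty_tensorPows_single (F := G) r L m i
      rw [(isAddFn_D k l hl).congr φ]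
      rfl
    have e : Di i (fun n => c * (defect k F T L l n : ℚ)) =
        fun n => -c * (defect k F T L (L i :: l) n : ℚ) := by
      funext m
      show c * _ - c * _ = -c * (defect k F T L (L i :: l) m : ℚ)
      simp only [defect, h, mul_sub, Finset.sum_sub_distrib]
      push_cast
      ring
    rw [e]
    exact van hT j (L i :: l) (List.forall_mem_cons.2 ⟨hL i, hl⟩) (by simp only [List.length_cons]; omega) (-c)

end Groth.Agent.H22Alg.SnapperDev
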