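import Groth.Agent.H27DR.ExtBaseChange
import Mathlib

/-! # Semilinear maps on exterior powers, and gluing in localisations. -/

set_option autoImplicit false
set_option linter.style.haveILetI false

universe u v w

noncomputable section

namespace Groth.Agent.H22Alg.ExtPowAlg

open exteriorPower

variable {A B C : Type u} [CommRing A] [CommRing B] [CommRing C]
  {M N K : Type u} [AddCommGroup M] [AddCommGroup N] [AddCommGroup K] [Module A M] [Module B N] [Module C K]

/-- The exterior power of a semilinear map. -/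
def wmap (i : ℕ) (φ : A →+* B) (g : M →ₛₗ[φ] N) : ↥(⋀[A]^i M) →ₛₗ[φ] ↥(⋀[B]^i N) :=
  letI := Module.compHom ↥(⋀[B]^i N) φ
  letI := Module.compHom N φ
  let gl : M →ₗ[A] N := { toFun := g, map_add' := map_add g, map_smul' := fun r m => g.map_smulₛₗ r m }
  let alt : M [⋀^Fin i]→ₗ[A] ↥(⋀[B]^i N) :=
    { toFun := fun e => ιMulti B i fun j => g (e j)
      map_update_add' := by
        intro _ e j x y
        simp only [← Function.comp_def (g : M → N), Function.comp_update, map_add,
          AlternatingMap.map_update_add]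
      map_update_smul' := by
        intro _ e j r x
        simp only [← Function.comp_def (g : M → N), Function.comp_update, g.map_smulₛₗ,
          AlternatingMap.map_update_smul]
        rfl
      map_eq_zero_of_eq' := fun e a b h hab => (ιMulti B i).map_eq_zero_of_eq _ (congrArg g h) hab }
  let L : ↥(⋀[A]^i M) →ₗ[A] ↥(⋀[B]^i N) := alternatingMapLinearEquiv alt
  { toFun := L, map_add' := map_add L, map_smul' := fun r m => map_smul L r m }

theorem wmap_ιMulti (i : ℕ) (φ : A →+* B) (g : M →ₛₗ[φ] N) (e : Fin i → M) :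
    wmap i φ g (ιMulti A i e) = ιMulti B i fun j => g (e j) := by
  letI := Module.compHom ↥(⋀[B]^i N) φ
  exact alternatingMapLinearEquiv_apply_ιMulti _ e

/-- Induction on the decomposable elements. -/
theorem induction {i : ℕ} {P : ↥(⋀[A]^i M) → Prop} (hgen : ∀ e, P (ιMulti A i e)) (h0 : P 0)
    (hadd : ∀ x y, P x → P y → P (x + y)) (hsmul : ∀ (r : A) x, P x → P (r • x)) (x : ↥(⋀[A]^i M)) : P x := by
  have hx : x ∈ Submodule.span A (Set.range (ιMulti A i (M := M))) := by
    rw [ιMulti_span]; trivial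
  induction hx using Submodule.span_induction with
  | mem y hy => obtain ⟨e, rfl⟩ := hy; exact hgen e
  | zero => exact h0
  | add a b _ _ ha hb => exact hadd _ _ ha hb
  | smul r a _ ha => exact hsmul r _ ha

/-- Semilinear maps agreeing on decomposable elements agree. -/
theorem ext_ιMulti {i : ℕ} {φ ψ : A →+* B} (h : φ = ψ) (f : ↥(⋀[A]^i M) →ₛₗ[φ] N) (f' : ↥(⋀[A]^i M) →ₛₗ[ψ] N)
    (he : ∀ e, f (ιMulti A i e) = f' (ιMulti A i e)) (x : ↥(⋀[A]^i M)) : f x = f' x := by
  induction x using induction with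
  | hgen e => exact he e
  | h0 => simp
  | hadd x y hx hy => simp [hx, hy]
  | hsmul r x hx => rw [f.map_smulₛₗ, f'.map_smulₛₗ, hx, h]

theorem wmap_comp (i : ℕ) (φ : A →+* B) (ψ : B →+* C) (χ : A →+* C) (hχ : ψ.comp φ = χ) (g : M →ₛₗ[φ] N)
    (h : N →ₛₗ[ψ] K) (f : M →ₛₗ[χ] K) (hf : ∀ m, h (g m) = f m) (x : ↥(⋀[A]^i M)) :
    wmap i ψ h (wmap i φ g x) = wmap i χ f x := by
  induction x using induction with
  | hgen e => simp only [wmap_ιMulti, hf]
  | h0 => simp
  | hadd x y hx hy => simp [hx, hy]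
  | hsmul r x hx => rw [LinearMap.map_smulₛₗ, LinearMap.map_smulₛₗ, LinearMap.map_smulₛₗ, hx,
      show ψ (φ r) = χ r from RingHom.congr_fun hχ r]

theorem wmap_id (i : ℕ) (φ : A →+* A) (hφ : φ = RingHom.id A) (g : M →ₛₗ[φ] M) (hg : ∀ m, g m = m)
    (x : ↥(⋀[A]^i M)) : wmap i φ g x = x := by
  induction x using induction with
  | hgen e => simp only [wmap_ιMulti, hg]
  | h0 => simp
  | hadd x y hx hy => simp [hx, hy]
  | hsmul r x hx => rw [LinearMap.map_smulₛₗ, hx, show φ r = r from RingHom.congr_fun hφ r]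

/-- Gluing elements of localisations along a family generating the unit ideal. -/
theorem exists_glue {A : Type u} [CommRing A] {M : Type v} [AddCommGroup M] [Module A M] {ι : Type w} [Fintype ι]
    (f : ι → A) (hf : Ideal.span (Set.range f) = ⊤)
    {Mf : ι → Type v} [∀ a, AddCommGroup (Mf a)] [∀ a, Module A (Mf a)] (ℓ : ∀ a, M →ₗ[A] Mf a)
    [∀ a, IsLocalizedModule (Submonoid.powers (f a)) (ℓ a)] (s : ∀ a, Mf a)
    (hs : ∀ a b (x y : M) (k : ℕ), f a ^ k • s a = ℓ a x → f b ^ k • s b = ℓ b y →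
      ∃ r : ℕ, (f a * f b) ^ r • (f b ^ k • x) = (f a * f b) ^ r • (f a ^ k • y)) :
    ∃ m : M, ∀ a, ℓ a m = s a := by
  classical
  have h1 : ∀ a, ∃ k : ℕ, ∃ x : M, f a ^ k • s a = ℓ a x := fun a => by
    obtain ⟨⟨x, ⟨_, k, rfl⟩⟩, h⟩ := IsLocalizedModule.surj (Submonoid.powers (f a)) (ℓ a) (s a)
    exact ⟨k, x, h⟩
  choose k x hx using h1
  let K := ∑ a, k a
  have hK : ∀ a, k a ≤ K := fun a => Finset.single_le_sum (fun _ _ => Nat.zero_le _) (Finset.mem_univ a)
  let y := fun a => f a ^ (K - k a) • x a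
  have hy : ∀ a, f a ^ K • s a = ℓ a (y a) := fun a => by
    rw [map_smul, ← hx, smul_smul, ← pow_add, Nat.sub_add_cancel (hK a)]
  choose r hr using fun a b => hs a b (y a) (y b) K (hy a) (hy b)
  let R := ∑ a, ∑ b, r a b
  have hR : ∀ a b, r a b ≤ R := fun a b =>
    (Finset.single_le_sum (f := fun b => r a b) (fun _ _ => Nat.zero_le _) (Finset.mem_univ b)).trans
      (Finset.single_le_sum (f := fun a => ∑ b, r a b) (fun _ _ => Nat.zero_le _) (Finset.mem_univ a))
  let z := fun a => f a ^ R • y a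
  have hz : ∀ a b, f b ^ (K + R) • z a = f a ^ (K + R) • z b := fun a b => by
    have h₁ : ∀ t : M, (f a * f b) ^ R • t = (f a * f b) ^ (R - r a b) • (f a * f b) ^ r a b • t := fun t => by
      rw [smul_smul, ← pow_add, Nat.sub_add_cancel (hR a b)]
    calc f b ^ (K + R) • z a = (f a * f b) ^ R • f b ^ K • y a := by
          simp only [z, smul_smul]; congr 1; ring
      _ = (f a * f b) ^ R • f a ^ K • y b := by rw [h₁, hr a b, ← h₁]
      _ = f a ^ (K + R) • z b := by simp only [z, smul_smul]; congr 1; ring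
  have hsp : Ideal.span (Set.range fun a => f a ^ (K + R)) = ⊤ := by
    refine Ideal.eq_top_iff_one _ |>.2 ?_
    have := Ideal.span_pow_eq_top _ hf (K + R)
    rw [← Set.range_comp] at this
    exact (Ideal.eq_top_iff_one _).1 this
  obtain ⟨c, hc⟩ := (Ideal.mem_span_range_iff_exists_fun (R := A) (x := 1)).1 ((Ideal.eq_top_iff_one _).1 hsp)
  refine ⟨∑ b, c b • z b, fun a => ?_⟩
  apply ((Module.End.isUnit_iff _).1 (IsLocalizedModule.map_units (ℓ a) (⟨f a ^ (K + R), K + R, rfl⟩ : Submonoid.powers (f a)))).1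
  show f a ^ (K + R) • ℓ a (∑ b, c b • z b) = f a ^ (K + R) • s a
  rw [← map_smul, Finset.smul_sum, Finset.sum_congr rfl (fun b _ => by rw [smul_comm, ← hz a b, smul_smul]),
    ← Finset.sum_smul, hc, one_smul, map_smul, ← hy, smul_smul, ← pow_add, add_comm R K]

end Groth.Agent.H22Alg.ExtPowAlg
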