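import Groth.Agent.H27Lambda.Inv

/-! The determinant of a λ-ring with positive structure; F¹/F². -/

universe u

open Finset LambdaRing

noncomputable section

namespace Groth.Agent.H22Alg.LamDet

variable {K : Type u} [CommRing K] [LambdaOps K] (P : PosStructure K)

/-- The top exterior power of a positive element. -/
def top (e : K) : K := LambdaOps.lam (P.aug e).toNat e

variable {P}

lemma lam_above {e : K} (he : e ∈ P.pos) {i : ℕ} (hi : (P.aug e).toNat < i) :
    LambdaOps.lam i e = 0 := by
  refine P.lam_eq_zero e he i ?_
  have := P.aug_pos e he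
  omega

lemma top_add {a b : K} (ha : a ∈ P.pos) (hb : b ∈ P.pos) : top P (a + b) = top P a * top P b := by
  have hab : (P.aug (a + b)).toNat = (P.aug a).toNat + (P.aug b).toNat := by
    have := P.aug_pos a ha
    have := P.aug_pos b hb
    rw [map_add]; omega
  simp only [top, hab]
  rw [LambdaOps.lam_add, sum_eq_single_of_mem (P.aug a).toNat (by simp only [mem_range]; omega)]
  · rw [Nat.add_sub_cancel_left]
  · intro i hi hne
    rcases lt_or_gt_of_ne hne with h | h
    · rw [lam_above hb (by omega), mul_zero]
    · rw [lam_above ha h, zero_mul]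

lemma top_line {v : K} (hv : P.IsLine v) : top P v = v := by
  rw [top, hv.2, Int.toNat_one, LambdaOps.lam_one]

variable (P) in
/-- The determinant, extended to all of K, valued in units. -/
def det (x : K) : Kˣ :=
  (P.isUnit_lam _ (P.exists_sub x).choose_spec.choose_spec.1).unit *
    ((P.isUnit_lam _ (P.exists_sub x).choose_spec.choose_spec.2.1).unit)⁻¹

lemma det_sub {a b : K} (ha : a ∈ P.pos) (hb : b ∈ P.pos) :
    (det P (a - b) : K) * top P b = top P a := by
  obtain ⟨ha', hb', h⟩ := (P.exists_sub (a - b)).choose_spec.choose_spec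
  set a' := (P.exists_sub (a - b)).choose
  set b' := (P.exists_sub (a - b)).choose_spec.choose
  have h2 : a + b' = a' + b := by linear_combination h
  have h3 := congrArg (top P) h2
  rw [top_add ha hb', top_add ha' hb] at h3
  have hu : IsUnit (top P b') := P.isUnit_lam b' hb'
  apply hu.mul_left_injective
  show (det P (a - b) : K) * top P b * top P b' = top P a * top P b'
  rw [h3, show (det P (a - b) : K) =
      top P a' * ((P.isUnit_lam b' hb').unit⁻¹ : Kˣ) by rfl, mul_assoc, mul_assoc,
    mul_comm (top P b) (top P b'), ← mul_assoc (((P.isUnit_lam b' hb').unit⁻¹ : Kˣ) : K)]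
  rw [show (((P.isUnit_lam b' hb').unit⁻¹ : Kˣ) : K) * top P b' = 1 from
    (P.isUnit_lam b' hb').val_inv_mul, one_mul]

lemma det_add (x y : K) : (det P (x + y) : K) = det P x * det P y := by
  obtain ⟨a, b, ha, hb, rfl⟩ := P.exists_sub x
  obtain ⟨c, d, hc, hd, rfl⟩ := P.exists_sub y
  have h := det_sub (P.add_mem a c ha hc) (P.add_mem b d hb hd)
  rw [show a + c - (b + d) = a - b + (c - d) by ring, top_add ha hc, top_add hb hd,
    ← det_sub ha hb, ← det_sub hc hd] at h
  apply ((P.isUnit_lam b hb).mul (P.isUnit_lam d hd)).mul_left_injective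
  show _ * (top P b * top P d) = _ * (top P b * top P d)
  rw [h]; ring

lemma det_zero : (det P (0 : K) : K) = 1 := by
  have h1 := (H27Lambda.isLine_one P).1
  have h := det_sub h1 h1
  rwa [sub_self, top_line (H27Lambda.isLine_one P), mul_one] at h

lemma det_eq_top {e : K} (he : e ∈ P.pos) : (det P e : K) = top P e := by
  have h1 := (H27Lambda.isLine_one P).1
  have h := det_sub (P.add_mem e 1 he h1) h1
  rwa [add_sub_cancel_right, top_add he h1, top_line (H27Lambda.isLine_one P), mul_one, mul_one] at h

lemma map_det {K' : Type u} [CommRing K'] [LambdaOps K'] {P' : PosStructure K'} {f : K →+* K'}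
    (hf : IsExtension P P' f) (x : K) : f (det P x) = det P' (f x) := by
  obtain ⟨a, b, ha, hb, rfl⟩ := P.exists_sub x
  have h := congrArg f (det_sub ha hb)
  have h' := det_sub (hf.pos_subset a ha) (hf.pos_subset b hb)
  have ht : ∀ e, f (top P e) = top P' (f e) := fun e => by
    rw [top, top, hf.aug_comp, hf.isLambdaHom]
  rw [map_mul, ht, ht, ← h', ← map_sub] at h
  exact (P'.isUnit_lam _ (hf.pos_subset b hb)).mul_left_injective h

lemma det_mul_line_sub_one {u v : K} (hu : P.IsLine u) (hv : P.IsLine v)
    {y : K} (hy : y ∈ AddSubgroup.closure {w : K | P.IsLine w}) :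
    (det P (y * ((u - 1) * (v - 1))) : K) = 1 := by
  induction hy using AddSubgroup.closure_induction with
  | mem w hw =>
    rw [show w * ((u - 1) * (v - 1)) = w * u * v + w - (w * u + w * v) by ring]
    have huv := H27Lambda.isLine_mul (H27Lambda.isLine_mul hw hu) hv
    have hwu := H27Lambda.isLine_mul hw hu
    have hwv := H27Lambda.isLine_mul hw hv
    have h := det_sub (P.add_mem _ _ huv.1 hw.1) (P.add_mem _ _ hwu.1 hwv.1)
    rw [top_add huv.1 hw.1, top_add hwu.1 hwv.1, top_line huv, top_line hw, top_line hwu,
      top_line hwv] at h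
    have hun : IsUnit (w * u * (w * v)) := by
      have hl : ∀ {t : K}, P.IsLine t → IsUnit t := fun {t} ht => by
        have := P.isUnit_lam t ht.1
        rwa [ht.2, Int.toNat_one, LambdaOps.lam_one] at this
      exact (hl hwu).mul (hl hwv)
    apply hun.mul_left_injective
    show _ * (w * u * (w * v)) = 1 * (w * u * (w * v))
    rw [h]; ring
  | zero => rw [zero_mul, det_zero]
  | add a b _ _ iha ihb => rw [add_mul, det_add, iha, ihb, one_mul]
  | neg a _ iha =>
    have h := det_add (P := P) (-(a * ((u - 1) * (v - 1)))) (a * ((u - 1) * (v - 1)))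
    rw [neg_add_cancel, det_zero, iha, mul_one] at h
    rw [neg_mul, ← h]

lemma lineEval_mem_closure (P : PosStructure K) (p : MvPolynomial (H27Lambda.Lines P) ℤ) :
    H27Lambda.lineEval P p ∈ AddSubgroup.closure {w : K | P.IsLine w} := by
  let S : Subring K :=
    { AddSubgroup.closure {w : K | P.IsLine w} with
      one_mem' := AddSubgroup.subset_closure (H27Lambda.isLine_one P)
      mul_mem' := by
        intro a b ha hb
        show a * b ∈ AddSubgroup.closure {w : K | P.IsLine w}
        induction ha using AddSubgroup.closure_induction with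
        | mem w hw =>
          induction hb using AddSubgroup.closure_induction with
          | mem w' hw' => exact AddSubgroup.subset_closure (H27Lambda.isLine_mul hw hw')
          | zero => rw [mul_zero]; exact zero_mem _
          | add x y _ _ ihx ihy => rw [mul_add]; exact add_mem ihx ihy
          | neg x _ ihx => rw [mul_neg]; exact neg_mem ihx
        | zero => rw [zero_mul]; exact zero_mem _
        | add x y _ _ ihx ihy => rw [add_mul]; exact add_mem ihx ihy
        | neg x _ ihx => rw [neg_mul]; exact neg_mem ihx }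
  show H27Lambda.lineEval P p ∈ S
  induction p using MvPolynomial.induction_on with
  | C a => rw [eq_intCast (MvPolynomial.C : ℤ →+* _) a, map_intCast]; exact intCast_mem _ a
  | add p q hp hq => rw [map_add]; exact add_mem hp hq
  | mul_X p v hp =>
    rw [map_mul, show H27Lambda.lineEval P (MvPolynomial.X v) = (v : K) - 1 by
      simp [H27Lambda.lineEval]]
    exact mul_mem hp (sub_mem (AddSubgroup.subset_closure v.2) (one_mem _))

attribute [local instance] H27Lambda.lineOps

lemma det_lineEval_eq_one (P : PosStructure K) {q : MvPolynomial (H27Lambda.Lines P) ℤ}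
    (hq : q ∈ H27Lambda.degId ℤ (H27Lambda.Lines P) ^ 2) :
    (det P (H27Lambda.lineEval P q) : K) = 1 := by
  suffices h : ∀ r : MvPolynomial (H27Lambda.Lines P) ℤ,
      (det P (H27Lambda.lineEval P (r * q)) : K) = 1 by simpa using h 1
  rw [pow_two, H27Lambda.degId, MvPolynomial.idealOfVars, Ideal.span_mul_span'] at hq
  induction hq using Submodule.span_induction with
  | mem x hx =>
    obtain ⟨a, ⟨i, rfl⟩, b, ⟨j, rfl⟩, rfl⟩ := hx
    intro r
    rw [map_mul, map_mul]
    simp only [H27Lambda.lineEval, MvPolynomial.eval₂Hom_X']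
    exact det_mul_line_sub_one i.2 j.2 (lineEval_mem_closure P r)
  | zero => intro r; rw [mul_zero, map_zero, det_zero]
  | add a b _ _ iha ihb => intro r; rw [mul_add, map_add, det_add, iha, ihb, one_mul]
  | smul c a _ iha => intro r; rw [smul_eq_mul, ← mul_assoc]; exact iha _

lemma det_eq_one_of_mem (hK : HasSplitting K P) {x : K} (hx : x ∈ gammaFiltration P 2) :
    (det P x : K) = 1 := by
  rw [gammaFiltration, if_neg two_ne_zero] at hx
  induction hx using AddSubgroup.closure_induction with
  | mem y hy =>
    obtain ⟨l, hl1, hl2, rfl⟩ := hy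
    obtain ⟨K', _, _, Q, f, hf, hr⟩ := H27Lambda.exists_line_model hK (l.map Prod.snd)
    apply hf.injective
    rw [map_det hf, map_one]
    have hphi := H27Lambda.commutes_lineEval Q
    have key : ∀ l' : List (ℕ × K), (∀ p ∈ l', p ∈ l) →
        ∃ q ∈ H27Lambda.degId ℤ (H27Lambda.Lines Q) ^ (l'.map Prod.fst).sum,
          H27Lambda.lineEval Q q = f ((l'.map fun p => gamma p.1 p.2).prod) := by
      intro l'
      induction l' with
      | nil => exact fun _ => ⟨1, by simp, by simp⟩
      | cons p l' ih =>
        intro hsub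
        obtain ⟨q, hq, hq2⟩ := ih fun r hr' => hsub r (List.mem_cons_of_mem _ hr')
        obtain ⟨a, ha⟩ := hr p.2 (List.mem_map_of_mem (hsub p List.mem_cons_self))
        have ha1 : a ∈ H27Lambda.degId ℤ (H27Lambda.Lines Q) ^ 1 := by
          have haug : Q.aug.comp (H27Lambda.lineEval Q) = MvPolynomial.constantCoeff := by
            apply MvPolynomial.ringHom_ext <;> intro i
            · simp [H27Lambda.lineEval]
            · simp [H27Lambda.lineEval, i.2.2]
          rw [MvPolynomial.mem_pow_idealOfVars_iff']
          intro d hd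
          obtain rfl : d = 0 := (Finsupp.degree_eq_zero_iff _).1 (by omega)
          rw [← MvPolynomial.constantCoeff_eq, ← haug, RingHom.comp_apply, ha, hf.aug_comp]
          exact hl1 p (hsub p List.mem_cons_self)
        have hg := (H27Lambda.goodSer_of_mem le_rfl ha1).mem' p.1
        rw [H27Lambda.coeff_gammaSeries] at hg
        refine ⟨gamma p.1 a * q, by
          rw [List.map_cons, List.sum_cons, pow_add]; exact Ideal.mul_mem_mul hg hq, ?_⟩
        rw [map_mul, H27Lambda.Commutes.gamma hphi, ha, hq2, List.map_cons, List.prod_cons, map_mul,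
          H27Lambda.map_gamma hf.isLambdaHom]
    obtain ⟨q, hq, hq2⟩ := key l fun _ h => h
    rw [← hq2]
    exact det_lineEval_eq_one Q (H27Lambda.degId_le ℤ _ hl2 hq)
  | zero => exact det_zero
  | add a b _ _ iha ihb => rw [det_add, iha, ihb, one_mul]
  | neg a _ iha =>
    have h := det_add (P := P) (-a) a
    rw [neg_add_cancel, det_zero, iha, mul_one] at h
    exact h.symm

end Groth.Agent.H22Alg.LamDet
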