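import Groth.Agent.H22Alg.LamCore
import Groth.Agent.H22Alg.LamDet
import Groth.Agent.H27Lambda.Line
import Groth.Agent.S3290

/-! The γ-filtration of an elementary extension. -/

universe u

open Finset LambdaRing

noncomputable section

namespace Groth.Agent.H22Alg.LamExtFil

open Groth.Agent.H27Lambda in
/-- γ of a line multiple, in closed form. -/
lemma gammaSeries_mul_line {A : Type u} [CommRing A] [LambdaOps A] (P : PosStructure A)
    (hA : HasSplitting A P) {v : A} (hv : P.IsLine v) (y : A) :
    gammaSeries (y * v) = (gammaSeries y).subst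
      (PowerSeries.C v * PowerSeries.X * PowerSeries.rescale (-(v - 1)) (PowerSeries.mk 1)) := by
  have hlam : lamSeries (y * v) = PowerSeries.rescale v (lamSeries y) := by
    obtain ⟨L, _, _, Q, f, hf, hr⟩ := exists_line_model hA [y]
    obtain ⟨q, hq⟩ := hr y (by simp)
    apply PowerSeries.map_injective _ hf.injective
    rw [map_lamSeries hf.isLambdaHom, ← PowerSeries.rescale_map, map_lamSeries hf.isLambdaHom, map_mul]
    have hv' := IsExtension.isLine hf hv
    rw [← hq]
    have hcl := LamDet.lineEval_mem_closure Q q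
    generalize lineEval Q q = w at hcl ⊢
    induction hcl using AddSubgroup.closure_induction with
    | mem w hw =>
      rw [lamSeries_of_linear (lam_eq_zero_of_line (isLine_mul hw hv')),
        lamSeries_of_linear (lam_eq_zero_of_line hw), map_add, map_mul, map_one,
        map_mul, PowerSeries.rescale_X, show PowerSeries.rescale (f v) (PowerSeries.C w) = PowerSeries.C w by
          ext n; rw [PowerSeries.coeff_rescale]; cases n <;> simp [PowerSeries.coeff_C],
        ← mul_assoc]
    | zero => rw [zero_mul, lamSeries_zero, map_one]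
    | add a b _ _ iha ihb => rw [add_mul, lamSeries_add, lamSeries_add, map_mul, iha, ihb]
    | neg a _ iha =>
      apply (isUnit_lamSeries (a * f v)).mul_left_cancel
      conv_rhs => rw [iha, ← map_mul, ← lamSeries_add, add_neg_cancel, lamSeries_zero, map_one]
      rw [← lamSeries_add, ← add_mul, add_neg_cancel, zero_mul, lamSeries_zero]
  have hvX : PowerSeries.HasSubst (PowerSeries.C v * PowerSeries.X : PowerSeries A) :=
    PowerSeries.HasSubst.of_constantCoeff_zero' (by simp)
  have e0 : PowerSeries.constantCoeff ((rX (R := A)).subst (PowerSeries.C v * PowerSeries.X)) = 0 :=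
    (H27Lambda.constantCoeff_subst' (show PowerSeries.constantCoeff (PowerSeries.C v * PowerSeries.X : PowerSeries A) = 0 by simp) _).trans constantCoeff_rX
  have e1 : PowerSeries.HasSubst (((rX (R := A)).subst (PowerSeries.C v * PowerSeries.X))) :=
    PowerSeries.HasSubst.of_constantCoeff_zero' e0
  rw [gammaSeries_eq_subst, hlam, PowerSeries.rescale_eq_subst, lamSeries_eq_subst,
    PowerSeries.smul_eq_C_mul,
    PowerSeries.subst_comp_subst_apply hasSubst_rX hvX,
    PowerSeries.subst_comp_subst_apply e1 hasSubst_sX]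
  congr 1
  set q : PowerSeries A := PowerSeries.subst (sX (K := A))
    (PowerSeries.subst (PowerSeries.C v * PowerSeries.X : PowerSeries A) (rX (R := A))) with hq
  have h1 : q * (1 + PowerSeries.C v * sX) = PowerSeries.C v * sX := by
    have h := congrArg (fun g : PowerSeries A =>
      (PowerSeries.subst (sX (K := A))
        (PowerSeries.subst (PowerSeries.C v * PowerSeries.X : PowerSeries A) g) : PowerSeries A))
      (rX_mul (R := A))
    have hone : ∀ {g : PowerSeries A}, PowerSeries.HasSubst g → (1 : PowerSeries A).subst g = 1 :=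
      fun {g} hg => by rw [← PowerSeries.coe_substAlgHom hg, map_one]
    simp only [PowerSeries.subst_mul hvX, PowerSeries.subst_add hvX, hone hvX, PowerSeries.subst_X hvX,
      PowerSeries.subst_mul hasSubst_sX, PowerSeries.subst_add hasSubst_sX, hone hasSubst_sX,
      PowerSeries.subst_X hasSubst_sX] at h
    rw [show (PowerSeries.C v : PowerSeries A).subst (sX (K := A)) = PowerSeries.C v from
      PowerSeries.subst_C v, ← hq] at h
    exact h
  have h2 : q * (1 + PowerSeries.C (v - 1) * PowerSeries.X) = PowerSeries.C v * PowerSeries.X := by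
    have hs := sX_mul (R := A)
    rw [map_sub, map_one]
    linear_combination (1 - PowerSeries.X) * h1 + (PowerSeries.C v * (1 - q)) * hs
  have h3 : (1 + PowerSeries.C (v - 1) * PowerSeries.X) *
      PowerSeries.rescale (-(v - 1)) (PowerSeries.mk (1 : ℕ → A)) = 1 := by
    have h := congrArg (PowerSeries.rescale (-(v - 1))) (PowerSeries.mk_one_mul_one_sub_eq_one A)
    rw [map_mul, map_one, map_sub, map_one, PowerSeries.rescale_X, map_neg] at h
    linear_combination h
  linear_combination PowerSeries.rescale (-(v - 1)) (PowerSeries.mk (1 : ℕ → A)) * h2 - q * h3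

variable {K : Type u} [CommRing K] [LambdaOps K] {P : PosStructure K} {e : K} {r : ℕ}

local notation "A" => AdjoinRoot (KRR.extPoly P e)
local notation "ι" => AdjoinRoot.of (KRR.extPoly P e)
local notation "ℓ" => AdjoinRoot.root (KRR.extPoly P e)

variable (P e r) in
/-- Σ_{i ≤ r} F^{k-i} (ℓ - 1)^i. -/
def G (k : ℕ) : AddSubgroup (AdjoinRoot (KRR.extPoly P e)) :=
  ⨆ i ∈ Finset.range (r + 1), AddSubgroup.map
    ((AddMonoidHom.mulRight ((AdjoinRoot.root (KRR.extPoly P e) - 1) ^ i)).comp
      (AdjoinRoot.of (KRR.extPoly P e)).toAddMonoidHom)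
    (gammaFiltration P (k - i))

lemma gen_mem_G {k i : ℕ} (hi : i ≤ r) {c : K} (hc : c ∈ gammaFiltration P (k - i)) :
    ι c * (ℓ - 1) ^ i ∈ G P e r k := by
  refine AddSubgroup.mem_iSup_of_mem i ?_
  refine AddSubgroup.mem_iSup_of_mem (Finset.mem_range.2 (by omega)) ?_
  exact ⟨c, hc, rfl⟩

lemma shifted_relation (he : e ∈ P.pos) (hm : (P.aug e).toNat = r + 1) :
    ∑ i ∈ range (r + 1 + 1), ι ((-1 : K) ^ i * gamma i (e - ((r + 1 : ℕ) : K))) *
      (ℓ - 1) ^ (r + 1 - i) = 0 := by
  have h := congrArg (Polynomial.eval₂ (ι) (-(ℓ - 1))) (Groth.Agent.S3290.result K P e he)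
  rw [hm] at h
  simp only [Polynomial.eval₂_finsetSum, Polynomial.eval₂_mul, Polynomial.eval₂_C,
    Polynomial.eval₂_pow, Polynomial.eval₂_X, Polynomial.eval₂_sub, Polynomial.eval₂_one] at h
  have hpar : ∀ i, i ≤ r + 1 → ∀ x : A, (-x) ^ (r + 1 - i) = (-1) ^ (r + 1) * ((-1) ^ i * x ^ (r + 1 - i)) := by
    intro i hi x
    rw [neg_pow, ← mul_assoc, ← pow_add]
    congr 1
    rw [show r + 1 + i = r + 1 - i + (i + i) by omega, pow_add, pow_add _ i i, ← mul_pow]
    simp
  have hR : ∑ i ∈ range (r + 1 + 1), ι (LambdaOps.lam i e) * (-(ℓ - 1) - 1) ^ (r + 1 - i) = 0 := by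
    have h0 := congrArg (fun x => (-1 : A) ^ (r + 1) * x) (LamCore.root_relation hm)
    simp only [mul_zero, Finset.mul_sum] at h0
    rw [← h0]
    refine sum_congr rfl fun i hi => ?_
    rw [show -(ℓ - 1) - 1 = -ℓ by ring, hpar i (Nat.lt_succ_iff.1 (mem_range.1 hi))]
    simp only [map_mul, map_pow, map_neg, map_one]
    ring
  rw [hR] at h
  have h1 := congrArg (fun x => (-1 : A) ^ (r + 1) * x) h
  simp only [mul_zero, Finset.mul_sum] at h1
  rw [← h1]
  refine sum_congr rfl fun i hi => ?_
  rw [hpar i (Nat.lt_succ_iff.1 (mem_range.1 hi))]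
  simp only [map_mul, map_pow, map_neg, map_one]
  have : ((-1 : A) ^ (r + 1)) * (-1) ^ (r + 1) = 1 := by rw [← mul_pow]; simp
  linear_combination (-(ι (gamma i (e - ((r + 1 : ℕ) : K))) * (-1) ^ i * (ℓ - 1) ^ (r + 1 - i))) * this

section WithDegree

variable (he : e ∈ P.pos) (hm : (P.aug e).toNat = r + 1)

include he hm in
lemma pow_mem_G (k : ℕ) : ∀ (i : ℕ) {c : K}, c ∈ gammaFiltration P (k - i) →
    ι c * (ℓ - 1) ^ i ∈ G P e r k := by
  intro i
  induction i using Nat.strong_induction_on with
  | _ i ih =>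
    intro c hc
    rcases le_or_gt i r with h | h
    · exact gen_mem_G h hc
    obtain ⟨d, rfl⟩ : ∃ d, i = d + (r + 1) := ⟨i - (r + 1), by omega⟩
    have h0 := congrArg (fun x => ι c * (ℓ - 1) ^ d * x) (shifted_relation he hm)
    simp only [mul_zero, Finset.mul_sum] at h0
    rw [sum_range_succ'] at h0
    simp only [H27Lambda.gamma_zero, pow_zero, one_mul, map_one, Nat.sub_zero] at h0
    rw [mul_assoc, ← pow_add, add_eq_zero_iff_neg_eq] at h0
    rw [← h0]
    refine neg_mem (sum_mem fun j hj => ?_)
    simp only [mem_range] at hj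
    rw [mul_left_comm, ← mul_assoc, ← mul_assoc, ← map_mul, mul_assoc, ← pow_add]
    refine ih _ (by omega) ?_
    rw [H27Lambda.gammaFiltration_eq] at hc ⊢
    have haug : P.aug (e - ((r + 1 : ℕ) : K)) = 0 := by
      have := P.aug_pos e he
      rw [map_sub, map_natCast]
      omega
    exact H27Lambda.gammaFil_mul_mem _
      (Ideal.mul_mem_left _ _ (H27Lambda.gamma_mem_gammaFil _ (j + 1) haug)) hc (by omega)

include he hm in
lemma mul_mem_G (k : ℕ) (z : A) : ∀ (i : ℕ) {c : K}, c ∈ gammaFiltration P (k - i) →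
    z * (ι c * (ℓ - 1) ^ i) ∈ G P e r k := by
  obtain ⟨g, rfl⟩ := AdjoinRoot.mk_surjective z
  induction g using Polynomial.induction_on with
  | C a =>
    intro i c hc
    rw [AdjoinRoot.mk_C, ← mul_assoc, ← map_mul]
    refine pow_mem_G he hm k i ?_
    rw [H27Lambda.gammaFiltration_eq] at hc ⊢
    exact Ideal.mul_mem_left _ _ hc
  | add p q hp hq => intro i c hc; rw [map_add, add_mul]; exact add_mem (hp i hc) (hq i hc)
  | monomial n a ih =>
    intro i c hc
    rw [show (Polynomial.C a * Polynomial.X ^ (n + 1) : Polynomial K) =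
        Polynomial.C a * Polynomial.X ^ n * Polynomial.X by ring, map_mul, AdjoinRoot.mk_X, mul_assoc,
      show ℓ * (ι c * (ℓ - 1) ^ i) = ι c * (ℓ - 1) ^ (i + 1) + ι c * (ℓ - 1) ^ i by ring, mul_add]
    refine add_mem (ih (i + 1) ?_) (ih i hc)
    rw [H27Lambda.gammaFiltration_eq] at hc ⊢
    exact H27Lambda.gammaFil_antitone _ (by omega) hc

variable (P e) in
/-- The ideal version of G. -/
def J (k : ℕ) : Ideal (AdjoinRoot (KRR.extPoly P e)) :=
  Ideal.span {z | ∃ (i : ℕ) (c : K), c ∈ gammaFiltration P (k - i) ∧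
    z = AdjoinRoot.of (KRR.extPoly P e) c * (AdjoinRoot.root (KRR.extPoly P e) - 1) ^ i}

lemma J_antitone {a b : ℕ} (h : a ≤ b) : J P e b ≤ J P e a := by
  refine Ideal.span_mono ?_
  rintro z ⟨i, c, hc, rfl⟩
  refine ⟨i, c, ?_, rfl⟩
  rw [H27Lambda.gammaFiltration_eq] at hc ⊢
  exact H27Lambda.gammaFil_antitone _ (by omega) hc

lemma J_mul_mem {a b : ℕ} {x y : A} (hx : x ∈ J P e a) (hy : y ∈ J P e b) :
    x * y ∈ J P e (a + b) := by
  suffices J P e a * J P e b ≤ J P e (a + b) from this (Ideal.mul_mem_mul hx hy)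
  rw [J, J, Ideal.span_mul_span', Ideal.span_le]
  rintro _ ⟨_, ⟨i, c, hc, rfl⟩, _, ⟨j, d, hd, rfl⟩, rfl⟩
  refine Ideal.subset_span ⟨i + j, c * d, ?_, by simp only [map_mul, pow_add]; ring⟩
  rw [H27Lambda.gammaFiltration_eq] at hc hd ⊢
  exact H27Lambda.gammaFil_mul_mem _ hc hd (by omega)

lemma J_zero : J P e 0 = ⊤ :=
  (Ideal.eq_top_iff_one _).2 (Ideal.subset_span ⟨0, 1, by simp [gammaFiltration], by simp⟩)

lemma sub_one_pow_mem (i : ℕ) : (ℓ - 1) ^ i ∈ J P e i :=
  Ideal.subset_span ⟨i, 1, by simp [gammaFiltration], by simp⟩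

include he hm in
lemma J_le_G (k : ℕ) {x : A} (hx : x ∈ J P e k) : x ∈ G P e r k := by
  suffices h : ∀ z, z * x ∈ G P e r k by simpa using h 1
  induction hx using Submodule.span_induction with
  | mem y hy => obtain ⟨i, c, hc, rfl⟩ := hy; intro z; exact mul_mem_G he hm k z i hc
  | zero => intro z; rw [mul_zero]; exact zero_mem _
  | add a b _ _ iha ihb => intro z; rw [mul_add]; exact add_mem (iha z) (ihb z)
  | smul s a _ iha => intro z; rw [smul_eq_mul, ← mul_assoc]; exact iha _

end WithDegree

section Main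

variable [LambdaOps (AdjoinRoot (KRR.extPoly P e))] (Pe : PosStructure (AdjoinRoot (KRR.extPoly P e)))

/-- The elements all of whose γ^n lie in J_n. -/
def T [LambdaOps (AdjoinRoot (KRR.extPoly P e))] : AddSubgroup (AdjoinRoot (KRR.extPoly P e)) where
  carrier := {x | ∀ n, gamma n x ∈ J P e n}
  zero_mem' n := by
    rw [← H27Lambda.coeff_gammaSeries, H27Lambda.gammaSeries_zero, PowerSeries.coeff_one]
    split_ifs with h
    · subst h; simp [J_zero]
    · exact zero_mem _
  add_mem' {a b} ha hb n := by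
    rw [← H27Lambda.coeff_gammaSeries, H27Lambda.gammaSeries_add, PowerSeries.coeff_mul]
    refine sum_mem fun p hp => ?_
    rw [H27Lambda.coeff_gammaSeries, H27Lambda.coeff_gammaSeries, ← Finset.mem_antidiagonal.1 hp]
    exact J_mul_mem (ha _) (hb _)
  neg_mem' {a} ha n := by
    induction n using Nat.strong_induction_on with
    | _ n ih =>
      rcases Nat.eq_zero_or_pos n with rfl | hn
      · simp [J_zero]
      have h := congrArg (PowerSeries.coeff n) (H27Lambda.gammaSeries_add (-a) a)
      rw [neg_add_cancel, H27Lambda.gammaSeries_zero, PowerSeries.coeff_one, if_neg (by omega),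
        PowerSeries.coeff_mul, Finset.Nat.sum_antidiagonal_eq_sum_range_succ_mk, sum_range_succ] at h
      simp only [H27Lambda.coeff_gammaSeries, Nat.sub_self, H27Lambda.gamma_zero, mul_one] at h
      rw [eq_neg_of_add_eq_zero_right h.symm]
      refine neg_mem (sum_mem fun j hj => ?_)
      simp only [mem_range] at hj
      have := J_mul_mem (ih j hj) (ha (n - j))
      rwa [Nat.add_sub_cancel' (by omega)] at this

variable (hf : IsExtension P Pe (AdjoinRoot.of (KRR.extPoly P e)))
  (hline : Pe.IsLine (AdjoinRoot.root (KRR.extPoly P e)))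
  (hA : HasSplitting (AdjoinRoot (KRR.extPoly P e)) Pe)

include hf hline hA in
lemma sub_aug_mem_T (x : A) : x - ((Pe.aug x : ℤ) : A) ∈ T (P := P) (e := e) := by
  have hof : ∀ y : K, P.aug y = 0 → ∀ n, gamma n (ι y) ∈ J P e n := by
    intro y hy n
    rw [← H27Lambda.map_gamma hf.isLambdaHom]
    refine Ideal.subset_span ⟨0, gamma n y, ?_, by simp⟩
    rw [H27Lambda.gammaFiltration_eq, Nat.sub_zero]
    exact H27Lambda.gamma_mem_gammaFil _ n hy
  obtain ⟨g, rfl⟩ := AdjoinRoot.mk_surjective x
  induction g using Polynomial.induction_on' with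
  | add p q hp hq =>
    rw [map_add, map_add, Int.cast_add, add_sub_add_comm]
    exact add_mem hp hq
  | monomial j a =>
    have hj := H27Lambda.isLine_pow hline j
    rw [← Polynomial.C_mul_X_pow_eq_monomial, map_mul, AdjoinRoot.mk_C, map_pow, AdjoinRoot.mk_X,
      map_mul, hj.2, mul_one, hf.aug_comp,
      show ι a * ℓ ^ j - ((P.aug a : ℤ) : A) =
        ι (a - ((P.aug a : ℤ) : K)) * ℓ ^ j + P.aug a • (ℓ ^ j - 1) by
          rw [zsmul_eq_mul, map_sub, map_intCast]; ring]
    have hw : ℓ ^ j - 1 ∈ J P e 1 := by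
      rw [← geom_sum_mul]
      exact Ideal.mul_mem_left _ _ (by simpa using sub_one_pow_mem (P := P) (e := e) 1)
    refine add_mem ?_ (zsmul_mem ?_ _) <;> intro n
    · rw [← H27Lambda.coeff_gammaSeries, gammaSeries_mul_line Pe hA hj,
        PowerSeries.coeff_subst' (PowerSeries.HasSubst.of_constantCoeff_zero' (by simp))]
      refine finsum_induction (· ∈ J P e n) (zero_mem _) (fun _ _ => add_mem) fun i => ?_
      rw [smul_eq_mul, H27Lambda.coeff_gammaSeries, mul_pow, mul_pow, ← map_pow, ← map_pow,
        mul_assoc, PowerSeries.coeff_C_mul, PowerSeries.coeff_X_pow_mul']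
      split_ifs with hin
      · rw [PowerSeries.coeff_rescale, ← mul_assoc, ← mul_assoc]
        refine Ideal.mul_mem_right _ _ ?_
        have hwp : (-(ℓ ^ j - 1)) ^ (n - i) ∈ J P e (n - i) := by
          rw [neg_pow]
          refine Ideal.mul_mem_left _ _ ?_
          generalize n - i = s
          induction s with
          | zero => simp [J_zero]
          | succ s ih => rw [pow_succ]; exact J_mul_mem ih hw
        have := J_mul_mem (Ideal.mul_mem_right ((ℓ ^ j) ^ i) _
          (hof (a - ((P.aug a : ℤ) : K)) (by simp) i)) hwp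
        rwa [Nat.add_sub_cancel' hin] at this
      · simp
    case refine_2 =>
      rw [← H27Lambda.coeff_gammaSeries, H27Lambda.gammaSeries_sub_one (H27Lambda.lam_one_eq_zero Pe)
        (H27Lambda.lam_eq_zero_of_line hj), map_add, PowerSeries.coeff_C_mul]
      match n with
      | 0 => simp [J_zero]
      | 1 => simpa using hw
      | n + 2 => simp [PowerSeries.coeff_one, PowerSeries.coeff_X]

include hf hline hA in
lemma gammaFiltration_eq_G (he : e ∈ P.pos) (hm : (P.aug e).toNat = r + 1) (k : ℕ) :
    gammaFiltration Pe k = G P e r k := by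
  apply le_antisymm
  · intro x hx
    refine J_le_G he hm k ?_
    rw [H27Lambda.gammaFiltration_eq] at hx
    refine (Ideal.span_le.2 ?_) hx
    rintro _ ⟨l, hl1, hl2, rfl⟩
    refine J_antitone hl2 ?_
    clear hl2
    induction l with
    | nil => simp [J_zero]
    | cons p l ih =>
      rw [List.map_cons, List.sum_cons, List.map_cons, List.prod_cons]
      refine J_mul_mem ?_ (ih fun q hq => hl1 q (List.mem_cons_of_mem _ hq))
      have h := sub_aug_mem_T Pe hf hline hA p.2
      rw [hl1 p List.mem_cons_self, Int.cast_zero, sub_zero] at h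
      exact h p.1
  · refine iSup₂_le fun i hi => ?_
    rintro _ ⟨c, hc, rfl⟩
    show ι c * (ℓ - 1) ^ i ∈ gammaFiltration Pe k
    rw [SetLike.mem_coe, H27Lambda.gammaFiltration_eq] at hc
    rw [H27Lambda.gammaFiltration_eq]
    have hc' : ι c ∈ gammaFil Pe.aug (k - i) := by
      induction hc using Submodule.span_induction with
      | mem y hy =>
        obtain ⟨l, hl1, hl2, rfl⟩ := hy
        refine Ideal.subset_span ⟨l.map fun p => (p.1, ι p.2), ?_, ?_, ?_⟩
        · intro p hp
          obtain ⟨q, hq, rfl⟩ := List.mem_map.1 hp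
          show Pe.aug (ι q.2) = 0
          rw [hf.aug_comp]
          exact hl1 q hq
        · rw [List.map_map]; exact hl2
        · rw [map_list_prod, List.map_map, List.map_map]
          congr 1
          refine List.map_congr_left fun p _ => ?_
          exact H27Lambda.map_gamma hf.isLambdaHom _ _
      | zero => rw [map_zero]; exact zero_mem _
      | add a b _ _ iha ihb => rw [map_add]; exact add_mem iha ihb
      | smul s a _ iha => rw [smul_eq_mul, map_mul]; exact Ideal.mul_mem_left _ _ iha
    have hw : ℓ - 1 ∈ gammaFil Pe.aug 1 := by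
      rw [← H27Lambda.gamma_one (ℓ - 1)]
      exact H27Lambda.gamma_mem_gammaFil _ _ (by rw [map_sub, hline.2, map_one, sub_self])
    exact H27Lambda.gammaFil_mul_mem _ hc' (H27Lambda.gammaFil_pow_mem _ hw i) (by omega)

end Main

end Groth.Agent.H22Alg.LamExtFil
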