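import Groth.Agent.H22Alg.KLineVanish
import Groth.Agent.H22Alg.PB.AmpleDim
import Groth.Agent.H22Alg.PB.Split

/-! # The γ-filtration of `K(X)` vanishes above the dimension. -/

set_option autoImplicit false
set_option linter.style.haveILetI false

universe v u

open CategoryTheory CategoryTheory.Limits AlgebraicGeometry LambdaRing
attribute [local instance] HasDerivedCategory.standard

noncomputable section

namespace Groth.Agent.H22Alg.KGammaVanish

section Lambda

variable {K : Type v} [CommRing K] [LambdaOps K] (P : PosStructure K)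

/-- The ideal generated by the `u - 1`, `u` a line element. -/
def lineI : Ideal K := Ideal.span ((fun w => w - 1) '' {w | P.IsLine w})

/-- The elements all of whose `γ^n` lie in `I^n`. -/
def GT : AddSubgroup K where
  carrier := {x | ∀ n, gamma n x ∈ lineI P ^ n}
  zero_mem' n := by
    rw [← H27Lambda.coeff_gammaSeries, H27Lambda.gammaSeries_zero, PowerSeries.coeff_one]
    split_ifs with h
    · subst h; simp
    · exact zero_mem _
  add_mem' {a b} ha hb n := by
    rw [← H27Lambda.coeff_gammaSeries, H27Lambda.gammaSeries_add, PowerSeries.coeff_mul]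
    refine sum_mem fun p hp => ?_
    rw [H27Lambda.coeff_gammaSeries, H27Lambda.coeff_gammaSeries, show n = p.1 + p.2 from (Finset.HasAntidiagonal.mem_antidiagonal.1 hp).symm,
      pow_add]
    exact Ideal.mul_mem_mul (ha _) (hb _)
  neg_mem' {a} ha n := by
    induction n using Nat.strong_induction_on with
    | _ n ih =>
      rcases Nat.eq_zero_or_pos n with rfl | hn
      · simp
      have h := congrArg (PowerSeries.coeff n) (H27Lambda.gammaSeries_add (-a) a)
      rw [neg_add_cancel, H27Lambda.gammaSeries_zero, PowerSeries.coeff_one, if_neg (by omega),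
        PowerSeries.coeff_mul, Finset.Nat.sum_antidiagonal_eq_sum_range_succ_mk, Finset.sum_range_succ] at h
      simp only [H27Lambda.coeff_gammaSeries, Nat.sub_self, H27Lambda.gamma_zero, mul_one] at h
      rw [eq_neg_of_add_eq_zero_right h.symm]
      refine neg_mem (sum_mem fun j hj => ?_)
      simp only [Finset.mem_range] at hj
      have := Ideal.mul_mem_mul (ih j hj) (ha (n - j))
      rwa [← pow_add, Nat.add_sub_cancel' (by omega)] at this

variable {P}

theorem sub_one_mem {w : K} (hw : P.IsLine w) : w - 1 ∈ lineI P := Ideal.subset_span ⟨w, hw, rfl⟩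

theorem sub_one_mem_GT {w : K} (hw : P.IsLine w) : w - 1 ∈ GT P := fun n => by
  rw [← H27Lambda.coeff_gammaSeries, H27Lambda.gammaSeries_sub_one (H27Lambda.lam_one_eq_zero P)
    (H27Lambda.lam_eq_zero_of_line hw), map_add, PowerSeries.coeff_C_mul]
  match n with
  | 0 => simp
  | 1 => simpa using sub_one_mem hw
  | n + 2 => simp [PowerSeries.coeff_one, PowerSeries.coeff_X]

variable {K' : Type v} [CommRing K'] [LambdaOps K'] {P' : PosStructure K'} {f : K →+* K'}

theorem map_mem_lineI (ha : ∀ x, P'.aug (f x) = P.aug x) (hp : ∀ x ∈ P.pos, f x ∈ P'.pos) {n : ℕ} {x : K}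
    (hx : x ∈ lineI P ^ n) : f x ∈ lineI P' ^ n := by
  have h : Ideal.map f (lineI P) ≤ lineI P' := by
    rw [lineI, Ideal.map_span, Ideal.span_le]
    rintro _ ⟨_, ⟨w, hw, rfl⟩, rfl⟩
    rw [map_sub, map_one]
    exact sub_one_mem ⟨hp _ hw.1, (ha w).trans hw.2⟩
  exact Ideal.pow_right_mono h n ((Ideal.map_pow f (lineI P) n) ▸ Ideal.mem_map_of_mem f hx)

theorem map_mem_GT (hf : IsLambdaHom f) (ha : ∀ x, P'.aug (f x) = P.aug x) (hp : ∀ x ∈ P.pos, f x ∈ P'.pos) {x : K}
    (hx : x ∈ GT P) : f x ∈ GT P' := fun n => by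
  rw [← H27Lambda.map_gamma hf]
  exact map_mem_lineI ha hp (hx n)

end Lambda

section Geometry

variable {X : Scheme.{u}} [IsNoetherian X] [ConnectedSpace ↥X]
  {K : Type (u + 1)} [CommRing K] [LambdaOps K] {P : PosStructure K} {φ : SGA6.Kvb X →+ K}

theorem lineI_pow_eq_bot (hK : KRR.IsModel X K P φ) {A : X.Modules} (hA : CohB1.IsAmple A) {d : ℕ}
    (hd : topologicalKrullDim X ≤ d) : ∀ (m : ℕ) (z : K), z ∈ lineI P ^ m → ∀ (k : ℕ) (w : Fin k → K),
      (∀ j, P.IsLine (w j)) → d < m + k → z * ∏ j, (w j - 1) = 0 := by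
  intro m
  induction m with
  | zero =>
    intro z _ k w hw hk
    rw [KLineVanish.prod_line_sub_one_eq_zero hK hA hd (by omega) w hw, mul_zero]
  | succ m ih =>
    intro z hz k w hw hk
    rw [pow_succ] at hz
    induction hz using Submodule.mul_induction_on' with
    | mem_mul_mem a ha b hb =>
      induction hb using Submodule.span_induction with
      | mem y hy =>
        obtain ⟨s, hs, rfl⟩ := hy
        have h := ih a ha (k + 1) (Fin.cons s w) (fun j => by
          cases j using Fin.cases with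
          | zero => exact hs
          | succ j => exact hw j) (by omega)
        rw [Fin.prod_univ_succ] at h
        simp only [Fin.cons_zero, Fin.cons_succ] at h
        rw [mul_assoc]
        exact h
      | zero => rw [mul_zero, zero_mul]
      | add y y' _ _ hy hy' => rw [mul_add, add_mul, hy, hy', add_zero]
      | smul t y _ hy =>
        rw [smul_eq_mul, show a * (t * y) * ∏ j, (w j - 1) = t * (a * y * ∏ j, (w j - 1)) by ring, hy, mul_zero]
    | add y _ y' _ hy hy' => rw [add_mul, hy, hy', add_zero]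

/-- A tower over `X`, of relative dimension at most `N`, on which the elements of `S` become sums of
`u - 1`, with a class `c` detecting zero. -/
def Tow (X : Scheme.{u}) {K : Type (u + 1)} [CommRing K] [LambdaOps K] (P : PosStructure K)
    (φ : SGA6.Kvb X →+ K) (S : Set K) : Prop :=
  ∀ d : ℕ, topologicalKrullDim X ≤ d →
    ∃ (Y : Scheme.{u}) (_ : IsNoetherian Y) (_ : ConnectedSpace ↥Y) (A : Y.Modules) (_ : CohB1.IsAmple A)
      (K' : Type (u + 1)) (_ : CommRing K') (_ : LambdaOps K') (P' : PosStructure K')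
      (φ' : SGA6.Kvb Y →+ K') (_ : KRR.IsModel Y K' P' φ') (g : K →+* K') (_ : IsLambdaHom g)
      (N : ℕ) (c : K'), topologicalKrullDim Y ≤ ((d + N : ℕ) : WithBot ℕ∞) ∧
      (∀ x, P'.aug (g x) = P.aug x) ∧ (∀ x ∈ P.pos, g x ∈ P'.pos) ∧ c ∈ lineI P' ^ N ∧
      (∀ x, g x * c = 0 → x = 0) ∧ ∀ y ∈ S, g y ∈ GT P'

theorem tow_empty (hK : KRR.IsModel X K P φ) {A : X.Modules} (hA : CohB1.IsAmple A) : Tow X P φ ∅ :=
  fun d hd => ⟨X, inferInstance, inferInstance, A, hA, K, _, _, P, φ, hK, RingHom.id K, fun _ _ => rfl, 0, 1,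
    hd, fun _ => rfl, fun _ h => h, by simp, fun x hx => by simpa using hx, fun y hy => hy.elim⟩

theorem tow_insert (hK : KRR.IsModel X K P φ) {S : Set K} (hS : Tow X P φ S) {y : K}
    (h1 : ∀ (Y : Scheme.{u}) [IsNoetherian Y] [ConnectedSpace ↥Y] (A : Y.Modules), CohB1.IsAmple A →
      ∀ (K' : Type (u + 1)) [CommRing K'] [LambdaOps K'] (P' : PosStructure K') (φ' : SGA6.Kvb Y →+ K'),
        KRR.IsModel Y K' P' φ' → ∀ g : K →+* K', IsLambdaHom g → (∀ x, P'.aug (g x) = P.aug x) →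
          (∀ x ∈ P.pos, g x ∈ P'.pos) → Tow Y P' φ' {g y}) :
    Tow X P φ (insert y S) := by
  intro d hd
  obtain ⟨Y, _, _, A, hA, K₁, _, _, P₁, φ₁, hK₁, g₁, hg₁, N₁, c₁, hd₁, ha₁, hp₁, hc₁, hinj₁, hT₁⟩ := hS d hd
  obtain ⟨Z, hZn, hZc, B, hB, K₂, _, _, P₂, φ₂, hK₂, g₂, hg₂, N₂, c₂, hd₂, ha₂, hp₂, hc₂, hinj₂, hT₂⟩ :=
    h1 Y A hA K₁ P₁ φ₁ hK₁ g₁ hg₁ ha₁ hp₁ (d + N₁) hd₁
  refine ⟨Z, hZn, hZc, B, hB, K₂, _, _, P₂, φ₂, hK₂, g₂.comp g₁, fun i x => ?_, N₁ + N₂, g₂ c₁ * c₂, ?_,
    fun x => (ha₂ _).trans (ha₁ x), fun x hx => hp₂ _ (hp₁ x hx), ?_, fun x hx => ?_, ?_⟩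
  · show g₂ (g₁ _) = _
    rw [hg₁ i x, hg₂ i]; rfl
  · rwa [← add_assoc]
  · rw [pow_add]
    exact Ideal.mul_mem_mul (map_mem_lineI ha₂ hp₂ hc₁) hc₂
  · refine hinj₁ x (hinj₂ _ ?_)
    rw [map_mul, mul_assoc]
    exact hx
  · rintro z (rfl | hz)
    · exact hT₂ _ rfl
    · exact map_mem_GT hg₂ ha₂ hp₂ (hT₁ z hz)

omit [AlgebraicGeometry.IsNoetherian X] [ConnectedSpace ↥X] in
theorem tow_mono {S S' : Set K} (h : S ⊆ S') (hS : Tow X P φ S') : Tow X P φ S := by
  intro d hd
  obtain ⟨Y, a, b, A, hA, K', i₁, i₂, P', φ', hK', g, hg, N, c, h1, h2, h3, h4, h5, h6⟩ := hS d hd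
  exact ⟨Y, a, b, A, hA, K', i₁, i₂, P', φ', hK', g, hg, N, c, h1, h2, h3, h4, h5, fun y hy => h6 y (h hy)⟩

/-- One bundle. -/
theorem tow_single (m : ℕ) : ∀ {X : Scheme.{u}} [IsNoetherian X] [ConnectedSpace ↥X]
    {K : Type (u + 1)} [CommRing K] [LambdaOps K] {P : PosStructure K} {φ : SGA6.Kvb X →+ K},
    KRR.IsModel X K P φ → ∀ {A : X.Modules}, CohB1.IsAmple A → ∀ {E : X.Modules},
      FlatMod.IsFinLocFreeOfRank m E → Tow X P φ {φ (KRR.cl X E) - m} := by
  induction m with
  | zero =>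
    intro X _ _ K _ _ P φ hK A hA E hE d hd
    refine ⟨X, inferInstance, inferInstance, A, hA, K, _, _, P, φ, hK, RingHom.id K, fun _ _ => rfl, 0, 1,
      hd, fun _ => rfl, fun _ h => h, by simp, fun x hx => by simpa using hx, ?_⟩
    rintro y rfl
    rw [KModel.cl_isZero (PBRel.isZero_of_rank_zero hE), map_zero, Nat.cast_zero, sub_zero]
    exact zero_mem _
  | succ r ih =>
    intro X _ _ K _ _ P φ hK A hA E hE d hd
    have hE' := KPullLam.finLocFree_of_rank hE
    obtain ⟨Y, π, O1, q, hPB, A', hA'⟩ := PB.exists_isProjBundle_ample hA hE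
    haveI := hPB.epi
    have hπ := PB.isPn_of_isProjBundle hE hPB
    haveI := hπ.connectedSpace
    haveI := hπ.isNoetherian
    obtain ⟨K₁, _, _, P₁, φ₁, hK₁⟩ := KExists.exists_model (X := Y)
    obtain ⟨g, hg⟩ := PB.Split.exists_pull π hK φ₁
    have hO := hPB.invertible
    have hO' := KPullLam.finLocFree_of_rank hO
    have hpE := H16Derived.KFlat.Stalk.isFinLocFree_pullback π hE'
    have hS : (ShortComplex.mk (kernel.ι q) q (kernel.condition q)).ShortExact :=
      { exact := ShortComplex.exact_kernel q }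
    have hM := H16Derived.KFlat.Stalk.isFinLocFree_left hS hpE hO'
    obtain ⟨m, hm⟩ := KModel.exists_rank hM
    have hadd : g (φ (KRR.cl X E)) = φ₁ (KRR.cl Y (kernel q)) + φ₁ (KRR.cl Y O1) := by
      rw [hg E hE', ← map_add]; exact congrArg φ₁ (KModel.cl_add hS hM hpE hO')
    obtain rfl : m = r := by
      have h := congrArg P₁.aug hadd
      have h' : P₁.aug (φ₁ (KRR.cl Y (kernel q))) = m := hK₁.aug_cl m _ hm
      rw [map_add, h', hg E hE', hK₁.aug_cl _ _ (KPullLam.finLocFreeOfRank_pullback π hE), hK₁.aug_cl 1 _ hO] at h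
      omega
    have hbij := S3789.result X Y m E hE π O1 q hPB K P φ hK K₁ P₁ φ₁ hK₁ g hg
    let gR := KPullLam.ringHom hK₁ hK hg
    set l := φ₁ (KRR.cl Y O1)
    have hl : P₁.IsLine l := ⟨(hK₁.mem_pos_iff _).2 ⟨1, O1, le_rfl, hO, rfl⟩, hK₁.aug_cl 1 _ hO⟩
    have hg' : IsLambdaHom gR := KPullLam.isLambdaHom hK₁ hK hg
    have hga : ∀ x, P₁.aug (gR x) = P.aug x := fun x => KPullLam.map_aug hK₁ hK hg x
    have hgp : ∀ x ∈ P.pos, gR x ∈ P₁.pos := fun x hx => KPullLam.map_pos hK₁ hK hg hx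
    have hdY := hπ.topologicalKrullDim_le hd
    obtain ⟨Z, hZn, hZc, B, hB, K₂, _, _, P₂, φ₂, hK₂, g₂, hg₂, N₂, c₂, hd₂, ha₂, hp₂, hc₂, hinj₂, hT₂⟩ :=
      ih hK₁ hA' hm (d + m) hdY
    refine ⟨Z, hZn, hZc, B, hB, K₂, _, _, P₂, φ₂, hK₂, g₂.comp gR, fun i x => ?_, m + N₂,
      g₂ ((l - 1) ^ m) * c₂, ?_, fun x => (ha₂ _).trans (hga x), fun x hx => hp₂ _ (hgp x hx), ?_, fun x hx => ?_, ?_⟩
    · show g₂ (gR _) = _
      rw [hg' i x, hg₂ i]; rfl
    · rwa [← add_assoc]
    · rw [pow_add]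
      exact Ideal.mul_mem_mul (map_mem_lineI ha₂ hp₂ (Ideal.pow_mem_pow (sub_one_mem hl) m)) hc₂
    · have h0 : gR x * (l - 1) ^ m = 0 := by
        refine hinj₂ _ ?_
        rw [map_mul, mul_assoc]
        exact hx
      have h := hbij.1 (a₁ := fun i : Fin (m + 1) => x * ((-1) ^ (m - i) * (m.choose i : K))) (a₂ := 0) (by
        show ∑ i : Fin (m + 1), gR (x * ((-1) ^ (m - i) * (m.choose i : K))) * l ^ (i : ℕ) =
          ∑ i : Fin (m + 1), gR (0 : K) * l ^ (i : ℕ)
        rw [map_zero]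
        simp only [zero_mul, Finset.sum_const_zero]
        rw [← h0, sub_eq_add_neg, add_pow, Finset.mul_sum,
          Fin.sum_univ_eq_sum_range (fun i => gR (x * ((-1) ^ (m - i) * (m.choose i : K))) * l ^ i)]
        refine Finset.sum_congr rfl fun i _ => ?_
        rw [map_mul, map_mul, map_pow, map_neg, map_one, map_natCast]
        ring)
      simpa using congrFun h (Fin.last m)
    · rintro y rfl
      show g₂ (g (φ (KRR.cl X E) - ((m + 1 : ℕ) : K))) ∈ _
      rw [show g (φ (KRR.cl X E) - ((m + 1 : ℕ) : K)) = (φ₁ (KRR.cl Y (kernel q)) - (m : K₁)) + (l - 1) from by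
        show gR _ = _
        rw [map_sub, map_natCast]
        show g (φ (KRR.cl X E)) - _ = _
        rw [hadd]; push_cast; ring, map_add]
      exact add_mem (hT₂ _ rfl) (map_mem_GT hg₂ ha₂ hp₂ (sub_one_mem_GT hl))

theorem tow_list (hK : KRR.IsModel X K P φ) {A : X.Modules} (hA : CohB1.IsAmple A) :
    ∀ l : List K, (∀ e ∈ l, e ∈ P.pos) → Tow X P φ {y | ∃ e ∈ l, y = e - ((P.aug e).toNat : K)} := by
  intro l
  induction l with
  | nil => exact fun _ => tow_mono (by simp) (tow_empty hK hA)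
  | cons e l ih =>
    intro hl
    refine tow_mono (S' := insert (e - ((P.aug e).toNat : K)) {y | ∃ e ∈ l, y = e - ((P.aug e).toNat : K)}) ?_
      (tow_insert hK (ih fun f hf => hl f (List.mem_cons_of_mem _ hf)) ?_)
    · rintro y ⟨f, hf, rfl⟩
      rcases List.mem_cons.1 hf with rfl | hf'
      · exact Set.mem_insert _ _
      · exact Set.mem_insert_of_mem _ ⟨f, hf', rfl⟩
    · intro Y _ _ B hB K' _ _ P' φ' hK' g hg ha hp
      obtain ⟨n, F, -, hF, hFe⟩ := (hK'.mem_pos_iff _).1 (hp e (hl e List.mem_cons_self))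
      have hn : (P.aug e).toNat = n := by
        rw [← ha e, ← hFe, hK'.aug_cl n F hF, Int.toNat_natCast]
      rw [map_sub, map_natCast, hn, ← hFe]
      exact tow_single n hK' hB hF

/-- `F^{d+1} = 0`. -/
theorem gammaFiltration_eq_bot (hK : KRR.IsModel X K P φ) {A : X.Modules} (hA : CohB1.IsAmple A) {d : ℕ}
    (hd : topologicalKrullDim X ≤ d) {x : K} (hx : x ∈ gammaFiltration P (d + 1)) : x = 0 := by
  unfold gammaFiltration at hx
  rw [if_neg (by omega)] at hx
  induction hx using AddSubgroup.closure_induction with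
  | mem y hy =>
    obtain ⟨l, h0, hl, rfl⟩ := hy
    choose e f he hf hef using fun z : K => P.exists_sub z
    obtain ⟨Y, _, _, B, hB, K', _, _, P', φ', hK', g, hg, N, c, hdY, ha, hp, hc, hinj, hT⟩ :=
      tow_list hK hA ((l.map fun p => e p.2) ++ l.map fun p => f p.2) (fun z hz => by
        rcases List.mem_append.1 hz with hz | hz <;> obtain ⟨p, -, rfl⟩ := List.mem_map.1 hz
        · exact he _
        · exact hf _) d hd
    refine hinj _ ?_
    have key : ∀ l' : List (ℕ × K), (∀ p ∈ l', p ∈ l) →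
        g (l'.map fun p => gamma p.1 p.2).prod ∈ lineI P' ^ (l'.map Prod.fst).sum := by
      intro l'
      induction l' with
      | nil => simp
      | cons p l' ih =>
        intro hmem
        simp only [List.map_cons, List.prod_cons, List.sum_cons, map_mul, pow_add]
        refine Ideal.mul_mem_mul ?_ (ih fun q hq => hmem q (List.mem_cons_of_mem _ hq))
        have hp' := hmem p List.mem_cons_self
        rw [H27Lambda.map_gamma hg]
        have hmap : ∀ z : K, z = e p.2 ∨ z = f p.2 → g (z - ((P.aug z).toNat : K)) ∈ GT P' := fun z hz =>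
          hT _ ⟨z, List.mem_append.2 (hz.imp (fun h => List.mem_map.2 ⟨p, hp', h.symm⟩)
            fun h => List.mem_map.2 ⟨p, hp', h.symm⟩), rfl⟩
        have heq : g p.2 = g (e p.2 - ((P.aug (e p.2)).toNat : K)) - g (f p.2 - ((P.aug (f p.2)).toNat : K)) := by
          have h := congrArg P.aug (hef p.2)
          rw [h0 p hp', map_sub] at h
          rw [show P.aug (e p.2) = P.aug (f p.2) by omega, ← map_sub, sub_sub_sub_cancel_right, ← hef]
        rw [heq]
        exact sub_mem (hmap _ (Or.inl rfl)) (hmap _ (Or.inr rfl)) p.1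
    have h2 := Ideal.mul_mem_mul (Ideal.pow_le_pow_right hl (key l fun _ h => h)) hc
    rw [← pow_add] at h2
    simpa using lineI_pow_eq_bot hK' hB hdY _ _ h2 0 Fin.elim0 (fun j => j.elim0) (by omega)
  | zero => rfl
  | add a b _ _ ha hb => rw [ha, hb, add_zero]
  | neg a _ ha => rw [ha, neg_zero]

end Geometry

/-- The same for models in any universe. -/
theorem gammaFiltration_eq_bot' {X : Scheme.{u}} [IsNoetherian X] [ConnectedSpace ↥X] {K : Type v} [CommRing K]
    [LambdaOps K] {P : PosStructure K} {φ : SGA6.Kvb X →+ K} (hK : KRR.IsModel X K P φ) {A : X.Modules}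
    (hA : CohB1.IsAmple A) {d : ℕ} (hd : topologicalKrullDim X ≤ d) : gammaFiltration P (d + 1) = ⊥ := by
  obtain ⟨K₁, _, _, P₁, φ₁, hK₁⟩ := KExists.exists_model (X := X)
  obtain ⟨g₀, hg₀⟩ := PB.Split.exists_pull (𝟙 X) hK φ₁
  obtain ⟨g₁, hg₁⟩ := PB.Split.exists_pull (𝟙 X) hK₁ φ
  have hid : ∀ E : X.Modules, FlatMod.IsFinLocFree E →
      KRR.cl X ((Scheme.Modules.pullback (𝟙 X)).obj E) = KRR.cl X E := fun E hE =>
    (KModel.cl_iso ((Scheme.Modules.pullbackId X).app E).symm hE).symm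
  have hinv : ∀ x, g₁ (g₀ x) = x := fun x => by
    obtain ⟨y, rfl⟩ := hK.bijective.2 x
    refine DFunLike.congr_fun (KModel.kvb_ext (a := g₁.comp (g₀.comp φ)) (b := φ) fun F hF => ?_) y
    simp only [AddMonoidHom.comp_apply, hg₀ F hF, hid F hF, hg₁ F hF]
  refine eq_bot_iff.2 fun x hx => ?_
  rw [AddSubgroup.mem_bot, ← hinv x,
    gammaFiltration_eq_bot hK₁ hA hd (KPullLam.map_gammaFiltration hK₁ hK hg₀ hx), map_zero]

end Groth.Agent.H22Alg.KGammaVanish
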