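import Mathlib
import Groth.Prelude.Def_Cyc
import Groth.Agent.H24Algz.DimFun
import Groth.Agent.H4Depth.CM
import Groth.Agent.H4Depth.Regular

/-!
Dimension functions and dimensions of local rings of closures.
-/

set_option autoImplicit false

universe u

open CategoryTheory AlgebraicGeometry TopologicalSpace Topology

namespace Groth.Agent.H22Alg.DeltaDim

variable {X : Scheme.{u}} {δ : X → ℤ}

theorem delta_le (hδ : Cyc.IsDimFun X δ) {x y : X} (h : x ⤳ y) : δ y ≤ δ x := by
  rcases eq_or_ne x y with rfl | hne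
  · exact le_rfl
  · exact (hδ _ _ h hne).1.le

/-- The point of `Spec O_y` given by a generization `x` of `y`. -/
theorem exists_prime {x y : X} (h : x ⤳ y) : ∃ J : PrimeSpectrum (X.presheaf.stalk y),
    X.fromSpecStalk y J = x ∧ J.asIdeal = RingHom.ker (Cyc.specMap y x h) := by
  refine ⟨PrimeSpectrum.comap (X.presheaf.stalkSpecializes h).hom (IsLocalRing.closedPoint _), ?_, ?_⟩
  · have := congrArg (fun m : Spec (X.presheaf.stalk x) ⟶ X => m (IsLocalRing.closedPoint (X.presheaf.stalk x)))
      (Scheme.SpecMap_stalkSpecializes_fromSpecStalk h)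
    simp only [Scheme.fromSpecStalk_closedPoint] at this
    exact this
  · ext a
    exact (IsLocalRing.residue_eq_zero_iff _).symm

theorem eq_ringKrullDim_locQuot (hδ : Cyc.IsDimFun X δ) {x y : X} (h : x ⤳ y) :
    ringKrullDim (Cyc.LocQuot y x h) = ((δ x - δ y).toNat : WithBot ℕ∞) := by
  obtain ⟨J, hJx, hJ⟩ := exists_prime h
  let g : PrimeSpectrum (X.presheaf.stalk y) → X := X.fromSpecStalk y
  have hgy : ∀ K, g K ⤳ y := fun K => (Scheme.range_fromSpecStalk (x := y)).le ⟨K, rfl⟩
  have hemb : IsEmbedding g := (X.fromSpecStalk y).isEmbedding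
  let δ' : PrimeSpectrum (X.presheaf.stalk y) → ℤ := δ ∘ g
  have hδ' : ∀ a b : PrimeSpectrum (X.presheaf.stalk y), a ⤳ b → a ≠ b →
      δ' b < δ' a ∧ ((∀ z, a ⤳ z → z ⤳ b → z = a ∨ z = b) → δ' a = δ' b + 1) := by
    intro a b hab hne
    obtain ⟨h1, h2⟩ := hδ _ _ (hab.map hemb.continuous) (hemb.injective.ne hne)
    refine ⟨h1, fun himm => h2 fun z haz hzb => ?_⟩
    obtain ⟨c, rfl⟩ := (Scheme.range_fromSpecStalk (x := y)).ge (show z ⤳ y from hzb.trans (hgy b))
    rcases himm c (hemb.isInducing.specializes_iff.mp haz) (hemb.isInducing.specializes_iff.mp hzb) with e | e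
    · exact Or.inl (congrArg g e)
    · exact Or.inr (congrArg g e)
  show ringKrullDim (X.presheaf.stalk y ⧸ RingHom.ker (Cyc.specMap y x h)) = _
  rw [← hJ, ringKrullDim_quotient]
  haveI : Nonempty (PrimeSpectrum.zeroLocus (R := X.presheaf.stalk y) (J.asIdeal : Set _)) :=
    ⟨⟨J, le_refl J.asIdeal⟩⟩
  have hclosed : g (IsLocalRing.closedPoint _) = y := Scheme.fromSpecStalk_closedPoint
  have hJle : J ≤ IsLocalRing.closedPoint _ := IsLocalRing.le_maximalIdeal J.isPrime.ne_top
  refine le_antisymm ?_ ?_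
  · refine (Order.krullDim_le_of_strictMono
      (β := Fin ((δ x - δ y).toNat + 1))
      (fun K => ⟨(δ x - δ' K.1).toNat, ?_⟩) fun K L hKL => ?_).trans ?_
    · have := delta_le hδ (hgy K.1)
      change δ y ≤ δ' K.1 at this
      omega
    · have hlt := (hδ' K.1 L.1 ((PrimeSpectrum.le_iff_specializes _ _).mp hKL.le) (fun e => hKL.ne (Subtype.ext e))).1
      have hK : δ' K.1 ≤ δ x := by
        rw [← hJx]
        exact delta_le hδ (((PrimeSpectrum.le_iff_specializes _ _).mp (show J ≤ K.1 from K.2)).map hemb.continuous)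
      show (δ x - δ' K.1).toNat < (δ x - δ' L.1).toNat
      omega
    · rw [Order.krullDim_eq_iSup_length]
      refine WithBot.coe_le_coe.mpr (iSup_le fun l => ?_)
      have := Fintype.card_le_of_injective l.toFun l.strictMono.injective
      simp only [Fintype.card_fin] at this
      exact_mod_cast (show l.length ≤ (δ x - δ y).toNat by omega)
  · obtain ⟨s, hhead, hlast, hlen⟩ := Groth.Agent.H24Algz.exists_series δ' hδ' J (IsLocalRing.closedPoint _)
      ((PrimeSpectrum.le_iff_specializes _ _).mp hJle)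
    have hlen' : s.length = (δ x - δ y).toNat := by
      simp only [δ', Function.comp_apply, hclosed] at hlen
      rw [show g J = x from hJx] at hlen
      omega
    have hmem : ∀ i, Specialization.ofEquiv (s i) ∈ PrimeSpectrum.zeroLocus (J.asIdeal : Set _) := fun i => by
      have : s i ≤ s.last := LTSeries.monotone s (Fin.le_last i)
      rw [hlast] at this
      exact (PrimeSpectrum.le_iff_specializes _ _).mpr this
    let t : LTSeries (PrimeSpectrum.zeroLocus (R := X.presheaf.stalk y) (J.asIdeal : Set _)) :=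
      LTSeries.mk s.length (fun i => ⟨_, hmem (Fin.rev i)⟩) fun i j hij => by
        have hlt : s (Fin.rev j) < s (Fin.rev i) := s.strictMono (Fin.rev_lt_rev.mpr hij)
        exact lt_of_le_of_ne ((PrimeSpectrum.le_iff_specializes _ _).mpr hlt.le)
          fun e => hlt.ne (congrArg (Specialization.toEquiv ∘ Subtype.val) e).symm
    refine le_of_eq_of_le ?_ (Order.LTSeries.length_le_krullDim t)
    simp [t, hlen']

theorem height_eq_ringKrullDim_stalk {x y : X} (h : x ⤳ y) {J : PrimeSpectrum (X.presheaf.stalk y)}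
    (hJ : X.fromSpecStalk y J = x) : (J.asIdeal.height : WithBot ℕ∞) = ringKrullDim (X.presheaf.stalk x) := by
  rw [AlgebraicGeometry.ringKrullDim_stalk_eq_coheight, J.height_eq_orderHeight]
  congr 1
  let g : PrimeSpectrum (X.presheaf.stalk y) → X := X.fromSpecStalk y
  have hemb : IsEmbedding g := (X.fromSpecStalk y).isEmbedding
  have hiff : ∀ a b, a ≤ b ↔ g a ⤳ g b := fun a b =>
    (PrimeSpectrum.le_iff_specializes a b).trans hemb.isInducing.specializes_iff.symm
  let e : Set.Iic J ≃o (Set.Ici x)ᵒᵈ :=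
    { toFun := fun a => OrderDual.toDual ⟨g a.1, hJ ▸ (hiff _ _).mp a.2⟩
      invFun := fun z => ⟨((Scheme.range_fromSpecStalk (x := y)).ge (show z.ofDual.1 ⤳ y from Specializes.trans z.ofDual.2 h)).choose, by
        refine (hiff _ _).mpr ?_
        show g _ ⤳ g J
        rw [show g J = x from hJ]
        exact (specializes_of_eq ((Scheme.range_fromSpecStalk (x := y)).ge (show z.ofDual.1 ⤳ y from Specializes.trans z.ofDual.2 h)).choose_spec).trans z.ofDual.2⟩
      left_inv := fun a => Subtype.ext (hemb.injective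
        ((Scheme.range_fromSpecStalk (x := y)).ge (show g a.1 ⤳ y from Specializes.trans (hJ ▸ (hiff _ _).mp a.2) h)).choose_spec)
      right_inv := fun z => congrArg OrderDual.toDual (Subtype.ext
        ((Scheme.range_fromSpecStalk (x := y)).ge (show z.ofDual.1 ⤳ y from Specializes.trans z.ofDual.2 h)).choose_spec)
      map_rel_iff' := fun {a b} => (hiff a.1 b.1).symm }
  have := Order.krullDim_eq_of_orderIso e
  rw [Order.krullDim_orderDual, ← Order.height_eq_krullDim_Iic, ← Order.coheight_eq_krullDim_Ici] at this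
  exact WithBot.coe_injective this

/-- For a Cohen–Macaulay local ring: `dim R = dim R/p + ht p`. -/
theorem ringKrullDim_eq_quotient_add_height (R : Type u) [CommRing R] [LocCoh.IsCohenMacaulayLocalRing R]
    (p : Ideal R) [p.IsPrime] : ringKrullDim R = ringKrullDim (R ⧸ p) + (p.height : WithBot ℕ∞) := by
  have hsupp : (⟨p, ‹_›⟩ : PrimeSpectrum R) ∈ Module.support R R := by
    rw [Module.mem_support_iff_of_finite, Module.annihilator_eq_bot.mpr inferInstance]
    exact bot_le
  obtain ⟨-, h, -⟩ := Groth.Agent.H4Depth.IsCM.localization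
    (M := R) LocCoh.IsCohenMacaulayLocalRing.supportDim_eq_depth p hsupp
  rw [Module.supportDim_self_eq_ringKrullDim] at h
  have e : LocalizedModule p.primeCompl R ≃ₗ[Localization.AtPrime p] Localization.AtPrime p :=
    (IsLocalizedModule.linearEquiv p.primeCompl (LocalizedModule.mkLinearMap p.primeCompl R)
      (Algebra.linearMap R (Localization.AtPrime p))).extendScalarsOfIsLocalization p.primeCompl _
  rw [h, Module.supportDim_eq_of_equiv e, Module.supportDim_self_eq_ringKrullDim,
    IsLocalization.AtPrime.ringKrullDim_eq_height p (Localization.AtPrime p)]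

/-- In a scheme with Cohen–Macaulay local ring at `y`: `dim O_y = δ x - δ y + dim O_x`. -/
theorem ringKrullDim_stalk_eq (hδ : Cyc.IsDimFun X δ) {x y : X} (h : x ⤳ y)
    (hCM : LocCoh.IsCohenMacaulayLocalRing (X.presheaf.stalk y)) :
    ringKrullDim (X.presheaf.stalk y) =
      ((δ x - δ y).toNat : WithBot ℕ∞) + ringKrullDim (X.presheaf.stalk x) := by
  obtain ⟨J, hJx, hJ⟩ := exists_prime h
  haveI := hCM
  rw [← height_eq_ringKrullDim_stalk h hJx, ← eq_ringKrullDim_locQuot hδ h]
  show _ = ringKrullDim (X.presheaf.stalk y ⧸ RingHom.ker (Cyc.specMap y x h)) + _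
  rw [← hJ]
  exact ringKrullDim_eq_quotient_add_height _ _

end Groth.Agent.H22Alg.DeltaDim

namespace Groth.Agent.H22Alg.DeltaDim

variable {X : Scheme.{u}} {δ : X → ℤ}

theorem topologicalKrullDim_closure_le (hδ : Cyc.IsDimFun X δ) (hnn : ∀ z, 0 ≤ δ z) (ξ : X) :
    topologicalKrullDim ↥(closure ({ξ} : Set X)) ≤ ((δ ξ).toNat : WithBot ℕ∞) := by
  haveI : QuasiSober ↥(closure ({ξ} : Set X)) := isClosed_closure.isClosedEmbedding_subtypeVal.quasiSober
  let gp : IrreducibleCloseds ↥(closure ({ξ} : Set X)) → X := fun T => T.2.genericPoint.1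
  have hgp : ∀ T, ξ ⤳ gp T := fun T => specializes_iff_mem_closure.mpr T.2.genericPoint.2
  refine (Order.krullDim_le_of_strictMono (β := Fin ((δ ξ).toNat + 1))
    (fun T => ⟨(δ (gp T)).toNat, ?_⟩) fun T S hTS => ?_).trans ?_
  · have := delta_le hδ (hgp T); omega
  · have hg : ∀ T : IrreducibleCloseds ↥(closure ({ξ} : Set X)), IsGenericPoint T.2.genericPoint (T : Set _) :=
      fun T => T.2.isGenericPoint_genericPoint T.3
    have hsp : S.2.genericPoint ⤳ T.2.genericPoint := (hg S).specializes (hTS.le (hg T).mem)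
    have hne : gp S ≠ gp T := fun e => hTS.ne' (IrreducibleCloseds.ext (by
      rw [← (hg S).def, ← (hg T).def, show S.2.genericPoint = T.2.genericPoint from Subtype.ext e]))
    have := (hδ _ _ (hsp.map continuous_subtype_val) hne).1
    have h0 := hnn (gp T)
    show (δ (gp T)).toNat < (δ (gp S)).toNat
    change δ (gp T) < δ (gp S) at this
    omega
  · rw [Order.krullDim_eq_iSup_length]
    refine WithBot.coe_le_coe.mpr (iSup_le fun l => ?_)
    have := Fintype.card_le_of_injective l.toFun l.strictMono.injective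
    simp only [Fintype.card_fin] at this
    exact_mod_cast (show l.length ≤ (δ ξ).toNat by omega)

theorem le_topologicalKrullDim_closure (hδ : Cyc.IsDimFun X δ) {ξ z : X} (h : ξ ⤳ z) :
    ((δ ξ - δ z).toNat : WithBot ℕ∞) ≤ topologicalKrullDim ↥(closure ({ξ} : Set X)) := by
  rw [← eq_ringKrullDim_locQuot hδ h]
  obtain ⟨J, hJx, hJ⟩ := exists_prime h
  let g : PrimeSpectrum (Cyc.LocQuot z ξ h) → X :=
    (X.fromSpecStalk z) ∘ PrimeSpectrum.comap (Ideal.Quotient.mk (RingHom.ker (Cyc.specMap z ξ h)))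
  have hemb : IsEmbedding g := (X.fromSpecStalk z).isEmbedding.comp
    (PrimeSpectrum.isClosedEmbedding_comap_of_surjective _ _ Ideal.Quotient.mk_surjective).isEmbedding
  have hmem : ∀ K, g K ∈ closure ({ξ} : Set X) := fun K => by
    refine specializes_iff_mem_closure.mp ?_
    rw [← hJx]
    refine Specializes.map ((PrimeSpectrum.le_iff_specializes _ _).mp ?_) (X.fromSpecStalk z).continuous
    show J.asIdeal ≤ K.asIdeal.comap _
    rw [hJ]
    exact fun a ha => by rw [Ideal.mem_comap, Ideal.Quotient.eq_zero_iff_mem.mpr ha]; exact K.asIdeal.zero_mem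
  have hind : IsInducing (Set.codRestrict g _ hmem) := hemb.isInducing.codRestrict hmem
  rw [← PrimeSpectrum.topologicalKrullDim_eq_ringKrullDim]
  exact hind.topologicalKrullDim_le

theorem isDimFun_neg_stalkDim [IsLocallyNoetherian X]
    (hCM : ∀ x : X, LocCoh.IsCohenMacaulayLocalRing (X.presheaf.stalk x)) (δ : X → ℤ)
    (hδ : ∀ s : X, ringKrullDim (X.presheaf.stalk s) = ((-δ s).toNat : WithBot ℕ∞) ∧ δ s ≤ 0) :
    Cyc.IsDimFun X δ := by
  intro x y h hne
  obtain ⟨J, hJx, -⟩ := exists_prime h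
  haveI := hCM y
  have heq := ringKrullDim_eq_quotient_add_height (X.presheaf.stalk y) J.asIdeal
  rw [height_eq_ringKrullDim_stalk h hJx, (hδ x).1, (hδ y).1] at heq
  have hJne : J ≠ IsLocalRing.closedPoint _ := fun e => hne (by
    rw [← hJx, e]; exact Scheme.fromSpecStalk_closedPoint)
  have hJlt : J < IsLocalRing.closedPoint (X.presheaf.stalk y) :=
    lt_of_le_of_ne (IsLocalRing.le_maximalIdeal J.isPrime.ne_top) hJne
  haveI : Nonempty (PrimeSpectrum.zeroLocus (R := X.presheaf.stalk y) (J.asIdeal : Set _)) :=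
    ⟨⟨J, le_refl J.asIdeal⟩⟩
  have hpos : (1 : WithBot ℕ∞) ≤ ringKrullDim (X.presheaf.stalk y ⧸ J.asIdeal) := by
    rw [ringKrullDim_quotient]
    refine le_trans ?_ (Order.LTSeries.length_le_krullDim
      (RelSeries.fromListIsChain [(⟨J, le_refl J.asIdeal⟩ : PrimeSpectrum.zeroLocus (J.asIdeal : Set (X.presheaf.stalk y))),
        ⟨IsLocalRing.closedPoint _, hJlt.le⟩] (by simp) (List.isChain_pair.mpr hJlt)))
    simp
  obtain ⟨n, hn⟩ : ∃ n : ℕ, ringKrullDim (X.presheaf.stalk y ⧸ J.asIdeal) = n := by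
    haveI : Nontrivial (X.presheaf.stalk y ⧸ J.asIdeal) := Ideal.Quotient.nontrivial_iff.mpr J.isPrime.ne_top
    obtain ⟨n, hn⟩ := Groth.Agent.H4Depth.exists_nat_supportDim_eq (R := X.presheaf.stalk y)
      (M := X.presheaf.stalk y ⧸ J.asIdeal)
    exact ⟨n, by rw [← Module.supportDim_quotient_eq_ringKrullDim]; exact hn⟩
  rw [hn] at heq hpos
  have e1 : (-δ y).toNat = n + (-δ x).toNat := by exact_mod_cast heq
  have e2 : 1 ≤ n := by exact_mod_cast hpos
  have h1 := (hδ x).2
  have h2 := (hδ y).2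
  refine ⟨by omega, fun himm => ?_⟩
  have hle : ringKrullDim (X.presheaf.stalk y ⧸ J.asIdeal) ≤ 1 := by
    rw [ringKrullDim_quotient, Order.krullDim_le_one_iff]
    rintro ⟨K, hK⟩
    have hJK : J ≤ K := hK
    have hK1 : x ⤳ X.fromSpecStalk y K :=
      hJx ▸ ((PrimeSpectrum.le_iff_specializes _ _).mp hJK).map (X.fromSpecStalk y).continuous
    have hK2 : X.fromSpecStalk y K ⤳ y := (Scheme.range_fromSpecStalk (x := y)).le ⟨K, rfl⟩
    rcases himm _ hK1 hK2 with e | e
    · refine Or.inl fun L _ => ?_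
      have : K = J := (X.fromSpecStalk y).isEmbedding.injective (e.trans hJx.symm)
      subst this
      exact L.2
    · refine Or.inr fun L _ => ?_
      have : K = IsLocalRing.closedPoint _ :=
        (X.fromSpecStalk y).isEmbedding.injective (e.trans Scheme.fromSpecStalk_closedPoint.symm)
      subst this
      exact IsLocalRing.le_maximalIdeal L.1.isPrime.ne_top
  rw [hn] at hle
  have e3 : n ≤ 1 := by exact_mod_cast hle
  omega

end Groth.Agent.H22Alg.DeltaDim
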