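import Groth.Agent.H22Alg.KPush
import Groth.Agent.H22Alg.KClOps
import Groth.Agent.H10Coh.Proper2

/-! # p_K on classes of coherent modules with finite resolutions on P^n_Y. -/

set_option autoImplicit false
set_option linter.style.haveILetI false

universe v u w

open CategoryTheory CategoryTheory.Limits AlgebraicGeometry ZeroObject
attribute [local instance] HasDerivedCategory.standard
attribute [local instance 10000] Groth.Agent.H10Coh.hasSheafifyAb Groth.Agent.H10Coh.hasWeakSheafifyAb Groth.Agent.H10Coh.hasExtAb Groth.Agent.H10Coh.enoughInjAb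
attribute [local instance] Groth.Agent.H10Coh.enoughInjMod

noncomputable section

namespace Groth.Agent.H22Alg.KPushVal

open ResEuler KLFRes

variable {n : ℕ} {Y : Scheme.{u}}

theorem isCoh_push_pr [IsLocallyNoetherian Y] {M : (KRR.PY n Y).Modules} (hM : Coh.IsCoh M) :
    Coh.IsCoh ((Scheme.Modules.pushforward (KRR.pr n Y)).obj M) := by
  haveI := CMKer.isProper_pr n Y
  haveI : (Scheme.Modules.pushforward (KRR.pr n Y)).IsRightAdjoint :=
    (Scheme.Modules.pullbackPushforwardAdjunction (KRR.pr n Y)).isRightAdjoint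
  haveI : PreservesFiniteLimits (Scheme.Modules.pushforward (KRR.pr n Y)) := inferInstance
  exact H10Coh.isCoh_of_iso ((Scheme.Modules.pushforward (KRR.pr n Y)).rightDerivedZeroIsoSelf.app M)
    (H10Coh.isCoh_rpush (KRR.pr n Y) M hM 0)

variable [IsNoetherian Y]

/-- The twist on K₀ of bundles. -/
theorem exists_twist_hom (d : ℤ) : ∃ τ : SGA6.Kvb (KRR.PY n Y) →+ SGA6.Kvb (KRR.PY n Y),
    ∀ E, FlatMod.IsFinLocFree E → τ (KRR.cl _ E) = KRR.cl _ (KRR.twF n Y d E) :=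
  KModel.exists_lift (fun E => KRR.cl _ (KRR.twF n Y d E)) fun S hS h₁ h₂ h₃ =>
    KModel.cl_add (RegSheaf.shortExact_twist d hS) (RegBundle.finLocFree_twF d h₁) (RegBundle.finLocFree_twF d h₂)
      (RegBundle.finLocFree_twF d h₃)

variable (hY : KRR.HasEnoughLocFree Y) (g : SGA6.Kvb (KRR.PY n Y) →+ SGA6.Kvb Y)
  (hg : ∀ F : (KRR.PY n Y).Modules, FlatMod.IsFinLocFree F → KRR.IsRegSheaf n Y F →
    g (KRR.cl _ F) = KRR.cl Y ((Scheme.Modules.pushforward (KRR.pr n Y)).obj F))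
  (τ : ℕ → SGA6.Kvb (KRR.PY n Y) →+ SGA6.Kvb (KRR.PY n Y))
  (hτ : ∀ k E, FlatMod.IsFinLocFree E → τ k (KRR.cl _ E) = KRR.cl _ (KRR.twF n Y (k : ℤ) E))

include hY hg hτ in
theorem val_push_high : ∀ (m : ℕ) (M : (KRR.PY n Y).Modules) (a : SGA6.Kvb (KRR.PY n Y)),
    Val (vb (KRR.PY n Y)) (coh (KRR.PY n Y)) (KRR.cl _) m M a → ∃ N : ℕ, ∀ k, N ≤ k →
      (∀ q : ℕ, 1 ≤ q → CMReg.Van q (KRR.twF n Y (k : ℤ) M)) ∧
      ∃ r, Val (vb Y) (coh Y) (KRR.cl Y) r
        ((Scheme.Modules.pushforward (KRR.pr n Y)).obj (KRR.twF n Y (k : ℤ) M)) (g (τ k a))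
  | 0, M, a, hv => by
    obtain ⟨N, hN⟩ := RegBundle.exists_reg_twist hv.1
    refine ⟨N, fun k hk => ⟨fun q hq => CMReg.van_self (hN k hk) hq, 0, ?_⟩⟩
    have hE := RegBundle.finLocFree_twF (n := n) (Y := Y) (k : ℤ) hv.2.1
    have hp := RegBundle.finLocFree_push hE (hN k hk)
    exact ⟨H16Derived.KFlat.Stalk.isCoh_of_isFinLocFree hp, hp,
      by rw [hv.2.2, hτ k M hv.2.1, hg _ hE (hN k hk)]⟩
  | m + 1, M, a, hv => by
    obtain ⟨hA, E, p, b, hE, hp, hK, rfl⟩ := hv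
    obtain ⟨N₁, hN₁⟩ := val_push_high m (kernel p) b hK
    obtain ⟨N₂, hN₂⟩ := val_push_high 0 E (KRR.cl _ E) ⟨H16Derived.KFlat.Stalk.isCoh_of_isFinLocFree hE, hE, rfl⟩
    refine ⟨max N₁ N₂, fun k hk => ?_⟩
    obtain ⟨v₁, r₁, h₁⟩ := hN₁ k ((le_max_left _ _).trans hk)
    obtain ⟨v₂, r₂, h₂⟩ := hN₂ k ((le_max_right _ _).trans hk)
    haveI := hp
    have hS := RegSheaf.shortExact_twist (n := n) (T := Y) (k : ℤ) (shortExact_kernel p)
    refine ⟨fun q hq => KPush.van_right (S := (ShortComplex.mk (kernel.ι p) p (kernel.condition p)).map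
      ((DCoh.tensorBi (X := KRR.PY n Y)).obj (Twist.twistOver n Y (k : ℤ)))) hS q (v₂ q hq) (v₁ (q + 1) (by omega)), ?_⟩
    obtain ⟨r, hr⟩ := KClOps.val_third hY (ctxK hY)
      (S := ((ShortComplex.mk (kernel.ι p) p (kernel.condition p)).map
        ((DCoh.tensorBi (X := KRR.PY n Y)).obj (Twist.twistOver n Y (k : ℤ)))).map
          (Scheme.Modules.pushforward (KRR.pr n Y)))
      (KReg.shortExact_push hS (v₁ 1 le_rfl))
      (isCoh_push_pr ((by
        exact H10Coh.TT.isCoh_tensorMod (H16Derived.KFlat.Stalk.isCoh_of_isFinLocFree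
          (PnVan.finLocFree_of_inv (RegSheaf.isInvertible_twistOver (n := n) (T := Y) (k : ℤ)))) hA))) h₁ h₂
    refine ⟨r, ?_⟩
    rw [map_sub, map_sub]
    exact hr

include hY hg in
/-- p_K of the class of a coherent module with a finite resolution, from its high twists. -/
theorem push_val {m : ℕ} {M : (KRR.PY n Y).Modules} {a : SGA6.Kvb (KRR.PY n Y)}
    (hv : Val (vb (KRR.PY n Y)) (coh (KRR.PY n Y)) (KRR.cl _) m M a) (f' : ℕ → SGA6.Kvb Y)
    (hf' : SeqExt.Rec (n + 1) 0 f')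
    (hM : ∃ N : ℕ, ∀ k, N ≤ k → ∃ r, Val (vb Y) (coh Y) (KRR.cl Y) r
      ((Scheme.Modules.pushforward (KRR.pr n Y)).obj (KRR.twF n Y (k : ℤ) M)) (f' k)) :
    g a = f' 0 := by
  choose τ hτ using fun k : ℕ => exists_twist_hom (n := n) (Y := Y) (k : ℤ)
  obtain ⟨N₁, h₁⟩ := val_push_high hY g hg τ hτ m M a hv
  obtain ⟨N₂, h₂⟩ := hM
  have hτ0 : τ 0 = AddMonoidHom.id _ := KModel.kvb_ext fun E hE =>
    (hτ 0 E hE).trans (KPush.cl_twF_zero hE)
  let V : SGA6.Kvb (KRR.PY n Y) →+ (ℕ → SGA6.Kvb Y) :=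
    { toFun := fun b k => g (τ k b)
      map_zero' := funext fun k => by simp
      map_add' := fun b b' => funext fun k => by simp }
  have hrec : ∀ b, SeqExt.Rec (n + 1) 0 (V b) := fun b i hi => by
    let W : SGA6.Kvb (KRR.PY n Y) →+ SGA6.Kvb Y :=
      { toFun := fun b => SeqExt.val (Polynomial.X ^ i * (1 - Polynomial.X) ^ (n + 1)) (V b)
        map_zero' := by rw [map_zero, SeqExt.val, map_zero]; rfl
        map_add' := fun b b' => by rw [map_add, SeqExt.val_add] }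
    have hW : W = 0 := KModel.kvb_ext fun E hE => by
      show SeqExt.val _ (fun k => g (τ k (KRR.cl _ E))) = 0
      rw [show (fun k => g (τ k (KRR.cl _ E))) = fun k => g (KReg.fK n Y E k) from funext fun k => by rw [hτ k E hE]; rfl,
        ← SeqExt.val_map g, KReg.rec_fK hE i hi, map_zero]
    exact DFunLike.congr_fun hW b
  have key : ∀ k, max N₁ N₂ ≤ k → V a k = f' k := fun k hk => by
    obtain ⟨-, r, hr⟩ := h₁ k ((le_max_left _ _).trans hk)
    obtain ⟨r', hr'⟩ := h₂ k ((le_max_right _ _).trans hk)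
    exact val_unique' (ctxK hY) hr hr'
  have h0 : V a 0 = f' 0 := by
    rw [← SeqExt.ext_zero (n + 1) (V a), ← SeqExt.ext_zero (n + 1) f',
      SeqExt.ext_eq n.succ_ne_zero (hrec a) (Nat.zero_le 0) (Nat.zero_le (max N₁ N₂)),
      SeqExt.ext_eq n.succ_ne_zero hf' (Nat.zero_le 0) (Nat.zero_le (max N₁ N₂))]
    exact SeqExt.ext_congr n.succ_ne_zero key
  rw [← h0]
  show g a = g (τ 0 a)
  rw [hτ0, AddMonoidHom.id_apply]

end Groth.Agent.H22Alg.KPushVal
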