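import Groth.Agent.H22Alg.FlatStratum
import Groth.Agent.H22Alg.MumfordField
import Groth.Agent.H22Alg.RegSheaf
import Groth.Agent.H22Alg.PB.Vanish
import Groth.Agent.LeadVA.Spread
import Groth.Agent.H27Weil.Geometry
import Groth.Agent.H8Props.AmpleBatch
import Groth.Prelude.Def_FGA

/-! # Hilbert polynomials of modules on projective space over a scheme; the flattening stratification. -/

set_option autoImplicit false
set_option linter.style.haveILetI false
set_option linter.unusedSectionVars false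

universe u

open CategoryTheory CategoryTheory.Limits AlgebraicGeometry Opposite TopologicalSpace

noncomputable section

namespace Groth.Agent.H22Alg.PnHilbert

open HilbertFlat
open Groth.Agent.H25Theta (pb pT pC pI tI pO)

variable {n : ℕ} {S : Scheme.{u}}

/-- The projection. -/
local notation "π" => CohB1.ProjSpaceOver.toBase n S

instance isProper_π : IsProper (CohB1.ProjSpaceOver.toBase n S) := H27Weil.isProper_toBase n S

instance lfp_π : LocallyOfFinitePresentation (CohB1.ProjSpaceOver.toBase n S) :=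
  haveI := H27Weil.isProper_toSpec n (ULift.{u} ℤ)
  haveI : IsNoetherianRing (ULift.{u} ℤ) := isNoetherianRing_of_ringEquiv ℤ ULift.ringEquiv.symm
  haveI : LocallyOfFinitePresentation (CohB1.ProjSpace.toSpec n (ULift.{u} ℤ)) :=
    LocallyOfFinitePresentation.iff_locallyOfFiniteType.2 inferInstance
  MorphismProperty.pullback_snd _ _ inferInstance

theorem hO : PicF.IsInvertible (Twist.twistOver n S 1) := RegSheaf.isInvertible_twistOver 1

theorem nonempty_tensor_twist (a b c : ℤ) (h : c = a + b) :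
    Nonempty (CohB1.tensorMod (Twist.twistOver n S a) (Twist.twistOver n S b) ≅ Twist.twistOver n S c) :=
  RegSheaf.nonempty_twistOver_add a b c h

theorem nonempty_tensorPow_twist : ∀ m : ℕ,
    Nonempty (CohB1.tensorPow (Twist.twistOver n S 1) m ≅ Twist.twistOver n S m)
  | 0 => by
    obtain ⟨e⟩ := H11Tilde.nonempty_twist_zero_iso (CohB1.polyGrading n (ULift.{u} ℤ))
    exact ⟨((Scheme.Modules.pullback _).mapIso e ≪≫ H16Derived.KFlat.Stalk.structurePullbackIso _).symm⟩
  | m + 1 => by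
    obtain ⟨e⟩ := nonempty_tensorPow_twist m
    obtain ⟨e'⟩ := nonempty_tensor_twist (n := n) (S := S) (m : ℤ) 1 ((m + 1 : ℕ) : ℤ) (by push_cast; ring)
    exact ⟨PicGrp.tensorModIso e (Iso.refl _) ≪≫ e'⟩

theorem isFP_twist {F : (CohB1.ProjSpaceOver n S).Modules} (hF : CohB1.IsFP F) (d : ℤ) :
    CohB1.IsFP (CohB1.tensorMod F (Twist.twistOver n S d)) :=
  SnapperConst.isFP_tensor hF (RegSheaf.isInvertible_twistOver d)

/-- The Euler characteristic of a twist of the fibre. -/
abbrev chi (F : (CohB1.ProjSpaceOver n S).Modules) (s : S) (m : ℤ) : ℤ :=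
  fibEuler π (CohB1.tensorMod F (Twist.twistOver n S m)) s

theorem fibEuler_congr {X S : Scheme.{u}} (f : X ⟶ S) {G G' : X.Modules} (e : G ≅ G') (s : S) :
    fibEuler f G s = fibEuler f G' s := by
  letI : (f.fiber s).Over (Spec (CommRingCat.of (S.residueField s))) := ⟨f.fiberToSpecResidueField s⟩
  exact H25Euler.euler_congr ((Scheme.Modules.pullback _).mapIso e)

theorem hilb_eq_chi (F : (CohB1.ProjSpaceOver n S).Modules) (s : S) (m : ℕ) :
    hilb π (Twist.twistOver n S 1) F s m = chi F s m := by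
  obtain ⟨e⟩ := nonempty_tensorPow_twist (n := n) (S := S) m
  exact fibEuler_congr _ (PicGrp.tensorModIso (Iso.refl _) e) s

theorem hilb_twist_eq_chi (F : (CohB1.ProjSpaceOver n S).Modules) (d : ℤ) (s : S) (m : ℕ) :
    hilb π (Twist.twistOver n S 1) (CohB1.tensorMod F (Twist.twistOver n S d)) s m = chi F s (d + m) := by
  obtain ⟨e⟩ := nonempty_tensor_twist (n := n) (S := S) d m (d + m) rfl
  rw [hilb_eq_chi]
  exact fibEuler_congr _ (H10Coh.Tw.assoc _ _ _ ≪≫ PicGrp.tensorModIso (Iso.refl _) e) s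

theorem polynomial_ext {p q : Polynomial ℚ} (h : ∀ m : ℕ, p.eval (m : ℚ) = q.eval (m : ℚ)) : p = q :=
  Polynomial.eq_of_infinite_eval_eq p q
    ((Set.infinite_range_of_injective Nat.cast_injective).mono (by rintro _ ⟨m, rfl⟩; exact h m))

/-- A polynomial computing the Hilbert function computes all the twisted Euler characteristics. -/
theorem chi_eq_of_hilb {F : (CohB1.ProjSpaceOver n S).Modules} (hF : CohB1.IsFP F) (s : S) (p : Polynomial ℚ)
    (hp : ∀ m : ℕ, (hilb π (Twist.twistOver n S 1) F s m : ℚ) = p.eval (m : ℚ)) (m : ℤ) :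
    (chi F s m : ℚ) = p.eval (m : ℚ) := by
  rcases Int.eq_nat_or_neg m with ⟨k, rfl | rfl⟩
  · rw [← hilb_eq_chi, hp]
    norm_cast
  · obtain ⟨q, hq⟩ := exists_poly_hilb π hO (isFP_twist hF (-(k : ℤ))) s
    have hq' : q = p.comp (Polynomial.X - Polynomial.C (k : ℚ)) := by
      suffices h : q.comp (Polynomial.X + Polynomial.C (k : ℚ)) = p by
        rw [← h, Polynomial.comp_assoc]; simp
      refine polynomial_ext fun j => ?_
      rw [Polynomial.eval_comp, Polynomial.eval_add, Polynomial.eval_X, Polynomial.eval_C, ← Nat.cast_add, ← hq,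
        hilb_twist_eq_chi, ← hp, hilb_eq_chi]
      congr 2
      push_cast
      ring
    have h0 := hq 0
    rw [hilb_twist_eq_chi, hq', Polynomial.eval_comp] at h0
    simpa using h0

theorem exists_poly_chi {F : (CohB1.ProjSpaceOver n S).Modules} (hF : CohB1.IsFP F) (s : S) :
    ∃ p : Polynomial ℚ, ∀ m : ℤ, (chi F s m : ℚ) = p.eval (m : ℚ) := by
  obtain ⟨p, hp⟩ := exists_poly_hilb π hO hF s
  exact ⟨p, chi_eq_of_hilb hF s p hp⟩

/-- Over a field the Euler characteristic of a fibre is computed up to degree `n`. -/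
theorem euler_fiber_eq_eulerCharLE (s : S) {G : ((CohB1.ProjSpaceOver.toBase n S).fiber s).Modules}
    (hG : Coh.IsCoh G) :
    @Curv2.euler (S.residueField s) _ ((CohB1.ProjSpaceOver.toBase n S).fiber s)
        ⟨(CohB1.ProjSpaceOver.toBase n S).fiberToSpecResidueField s⟩ G =
      @FGA.eulerCharLE (S.residueField s) _ ((CohB1.ProjSpaceOver.toBase n S).fiber s)
        ⟨(CohB1.ProjSpaceOver.toBase n S).fiberToSpecResidueField s⟩ G n := by
  let K := S.residueField s
  let f := CohB1.ProjSpaceOver.toBase n S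
  letI : (f.fiber s).Over (Spec (CommRingCat.of K)) := ⟨f.fiberToSpecResidueField s⟩
  haveI : IsProper (f.fiber s ↘ Spec (CommRingCat.of K)) :=
    MorphismProperty.of_isPullback (IsPullback.of_hasPullback f (S.fromSpecResidueField s)) inferInstance
  obtain ⟨a, ha, ha₁, -⟩ := PB.exists_affine_iso n K
  haveI := ha
  have hm : IsPullback (a ≫ LeadVA.projMap n (S.fromSpecResidueField s)) (CohB1.ProjSpace.toSpec n K) f
      (S.fromSpecResidueField s) := by
    have hi : IsPullback a (CohB1.ProjSpace.toSpec n K) (CohB1.ProjSpaceOver.toBase n (Spec (CommRingCat.of K)))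
        (𝟙 (Spec (CommRingCat.of K))) :=
      IsPullback.of_horiz_isIso ⟨ha₁.trans (Category.comp_id _).symm⟩
    exact Category.id_comp (S.fromSpecResidueField s) ▸
      hi.paste_horiz (LeadVA.isPullback_projMap n (S.fromSpecResidueField s))
  let e : CohB1.ProjSpace n K ≅ f.fiber s := hm.isoPullback
  have hsq : IsPullback e.hom (CohB1.ProjSpace n K ↘ Spec (CommRingCat.of K)) (f.fiber s ↘ Spec (CommRingCat.of K))
      (Spec.map (CommRingCat.ofHom (algebraMap K K))) := by
    rw [show Spec.map (CommRingCat.ofHom (algebraMap K K)) = 𝟙 _ from Spec.map_id _]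
    exact IsPullback.of_horiz_isIso ⟨by rw [Category.comp_id]; exact hm.isoPullback_hom_snd⟩
  rw [← H28Int.FieldExt.euler_bc K hsq hG, ← H28Int.FieldExt.eulerCharLE_bc K hsq hG]
  exact MumfordField.euler_eq_eulerCharLE (H17.ConsProp.isCoh_pullback _ hG).1

/-- The expression of the statements in terms of `chi`. -/
theorem eulerCharLE_eq_chi {F : (CohB1.ProjSpaceOver n S).Modules} (hF : CohB1.IsFP F)
    (s : (Over.mk (𝟙 S)).left) (m : ℤ) :
    FGA.eulerCharLE ((Over.mk (𝟙 S)).left.residueField s)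
      (FGA.fibreAt (CohB1.ProjSpaceOver.toBase n S) (Over.mk (𝟙 S)) s).left
      (CohB1.tensorMod
        (FGA.restrFibre (CohB1.ProjSpaceOver.toBase n S) (Over.mk (𝟙 S)) s
          (FGA.ET (CohB1.ProjSpaceOver.toBase n S) F (Over.mk (𝟙 S))))
        (FGA.restrFibre (CohB1.ProjSpaceOver.toBase n S) (Over.mk (𝟙 S)) s
          (FGA.ET (CohB1.ProjSpaceOver.toBase n S) (Twist.twistOver n S m) (Over.mk (𝟙 S))))) n = chi F s m := by
  let T := Over.mk (𝟙 S)
  let f := CohB1.ProjSpaceOver.toBase n S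
  let p : pullback f (𝟙 S) ⟶ S := pullback.snd f (𝟙 S)
  let q : pullback f (𝟙 S) ⟶ CohB1.ProjSpaceOver n S := pullback.fst f (𝟙 S)
  have hsq : IsPullback q p f (𝟙 S) := IsPullback.of_hasPullback f (𝟙 S)
  let G := CohB1.tensorMod F (Twist.twistOver n S m)
  have hG : Coh.IsCoh G := H17.ConsProp.isCoh_of_isFP (isFP_twist hF m)
  let K := S.residueField s
  letI : (p.fiber s).Over (Spec (CommRingCat.of K)) := ⟨p.fiberToSpecResidueField s⟩
  letI : (f.fiber s).Over (Spec (CommRingCat.of K)) := ⟨f.fiberToSpecResidueField s⟩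
  let e : CohB1.tensorMod (pb (p.fiberι s) (pb q F)) (pb (p.fiberι s) (pb q (Twist.twistOver n S m))) ≅
      pb (p.fiberι s) (pb q G) :=
    (pT (p.fiberι s) _ _).symm ≪≫ (Scheme.Modules.pullback _).mapIso (pT q F _).symm
  show FGA.eulerCharLE K (p.fiber s)
    (CohB1.tensorMod (pb (p.fiberι s) (pb q F)) (pb (p.fiberι s) (pb q (Twist.twistOver n S m)))) n = chi F s m
  rw [show FGA.eulerCharLE K (p.fiber s) (CohB1.tensorMod (pb (p.fiberι s) (pb q F))
      (pb (p.fiberι s) (pb q (Twist.twistOver n S m)))) n = FGA.eulerCharLE K (p.fiber s) (pb (p.fiberι s) (pb q G)) n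
    from Finset.sum_congr rfl fun i _ => by rw [(H29RR.hhIso (k := K) e i).finrank_eq]]
  have hc : (p.fiberι s ≫ q) ≫ f = p.fiberToSpecResidueField s ≫ S.fromSpecResidueField s := by
    rw [Category.assoc, hsq.w, Category.comp_id, p.fiber_fac]
  let r : p.fiber s ⟶ f.fiber s := pullback.lift (p.fiberι s ≫ q) (p.fiberToSpecResidueField s) hc
  have hr : r ≫ f.fiberι s = p.fiberι s ≫ q := pullback.lift_fst _ _ _
  have hsq' : IsPullback r (p.fiber s ↘ Spec (CommRingCat.of K)) (f.fiber s ↘ Spec (CommRingCat.of K))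
      (Spec.map (CommRingCat.ofHom (algebraMap K K))) := by
    rw [show Spec.map (CommRingCat.ofHom (algebraMap K K)) = 𝟙 _ from Spec.map_id _]
    refine IsPullback.of_right (h₁₂ := f.fiberι s) ?_ ((pullback.lift_snd _ _ _).trans (Category.comp_id _).symm)
      (IsPullback.of_hasPullback f (S.fromSpecResidueField s))
    rw [hr, Category.id_comp]
    have h' := (IsPullback.of_hasPullback p (S.fromSpecResidueField s)).paste_horiz hsq
    rwa [Category.comp_id] at h'
  haveI : IsProper (f.fiber s ↘ Spec (CommRingCat.of K)) :=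
    MorphismProperty.of_isPullback (IsPullback.of_hasPullback f (S.fromSpecResidueField s)) inferInstance
  let e' : pb (p.fiberι s) (pb q G) ≅ pb r (pb (f.fiberι s) G) :=
    pC (p.fiberι s) q rfl G ≪≫ (pC r (f.fiberι s) hr G).symm
  rw [show FGA.eulerCharLE K (p.fiber s) (pb (p.fiberι s) (pb q G)) n =
      FGA.eulerCharLE K (p.fiber s) (pb r (pb (f.fiberι s) G)) n
    from Finset.sum_congr rfl fun i _ => by rw [(H29RR.hhIso (k := K) e' i).finrank_eq],
    H28Int.FieldExt.eulerCharLE_bc K hsq' (H17.ConsProp.isCoh_pullback _ hG)]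
  exact (euler_fiber_eq_eulerCharLE s (H17.ConsProp.isCoh_pullback _ hG)).symm

/-- The finite set of Hilbert polynomials. -/
def polys (F : (CohB1.ProjSpaceOver n S).Modules) : Set (Polynomial ℚ) :=
  {p | ∃ s : S, ∀ m : ℤ, (chi F s m : ℚ) = p.eval (m : ℚ)}

theorem finite_polys [CompactSpace S] {F : (CohB1.ProjSpaceOver n S).Modules} (hF : CohB1.IsFP F) :
    (polys F).Finite := by
  refine Set.Finite.of_finite_image (f := fun p : Polynomial ℚ => fun m : ℕ => p.eval (m : ℚ)) ?_
    fun p _ q _ h => polynomial_ext (congrFun h)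
  refine Set.Finite.subset (s := (fun a : ℕ → ℤ => fun m => (a m : ℚ)) '' Set.range (hilb π (Twist.twistOver n S 1) F))
    ((finite_range_hilb π hO hF).image _) ?_
  rintro _ ⟨p, ⟨s, hs⟩, rfl⟩
  exact ⟨_, ⟨s, rfl⟩, funext fun m => by
    show ((hilb π (Twist.twistOver n S 1) F s m : ℤ) : ℚ) = p.eval (m : ℚ)
    rw [hilb_eq_chi]; exact_mod_cast hs m⟩

theorem projMap_eq {T : Scheme.{u}} (φ : T ⟶ S) : FGA.projMap n φ = LeadVA.projMap n φ :=
  pullback.hom_ext
    ((pullback.lift_fst _ _ _).trans ((Category.comp_id _).trans (LeadVA.projMap_fst n φ).symm))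
    ((pullback.lift_snd _ _ _).trans (LeadVA.projMap_toBase n φ).symm)

theorem flat_projMap_iff {T : Scheme.{u}} (φ : T ⟶ S) (F : (CohB1.ProjSpaceOver n S).Modules) :
    FlatMod.IsFlatOver (CohB1.ProjSpaceOver.toBase n T) ((Scheme.Modules.pullback (FGA.projMap n φ)).obj F) ↔
      FlatMod.IsFlatOver (pullback.snd π φ) (pb (pullback.fst π φ) F) := by
  rw [projMap_eq]
  exact isFlatOver_iff_of_square (LeadVA.isPullback_projMap n φ) F

/-- The flattening stratification. -/
theorem exists_stratification [CompactSpace S] {F : (CohB1.ProjSpaceOver n S).Modules} (hF : CohB1.IsFP F) :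
    ∃ (I : Finset (Polynomial ℚ)) (St : ↥I → Scheme.{u}) (e : ∀ P : ↥I, St P ⟶ S),
      (∀ P, IsImmersion (e P)) ∧
      (∀ (P : ↥I) (s : S), s ∈ Set.range (e P) ↔ ∀ m : ℤ, (chi F s m : ℚ) = (P : Polynomial ℚ).eval (m : ℚ)) ∧
      (∀ s : S, ∃ P : ↥I, s ∈ Set.range (e P)) ∧
      (∀ (T : Scheme.{u}) (φ : T ⟶ S),
        FlatMod.IsFlatOver (CohB1.ProjSpaceOver.toBase n T) ((Scheme.Modules.pullback (FGA.projMap n φ)).obj F) ↔
          ∃ g : T ⟶ ∐ St, g ≫ Limits.Sigma.desc e = φ) ∧
      (∀ P : ↥I, closure (Set.range (e P)) ⊆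
          ⋃ Q ∈ {Q : ↥I | ∃ m₀ : ℤ, ∀ m : ℤ, m₀ ≤ m →
              (P : Polynomial ℚ).eval (m : ℚ) ≤ (Q : Polynomial ℚ).eval (m : ℚ)},
            Set.range (e Q)) := by
  have hfin := finite_polys (S := S) hF
  let I := hfin.toFinset
  let L := Twist.twistOver n S 1
  have hL : RelAmple.IsRelAmple π L := H8Props.Ample.isRelAmple_twistOver n S
  have hpick : ∀ P : ↥I, ∃ a : ℕ → ℤ, ∀ m : ℕ, (a m : ℚ) = (P : Polynomial ℚ).eval (m : ℚ) := fun P => by
    obtain ⟨s, hs⟩ := hfin.mem_toFinset.1 P.2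
    exact ⟨hilb π L F s, fun m => by rw [show hilb π L F s m = chi F s m from hilb_eq_chi F s m]; exact_mod_cast hs m⟩
  choose a ha using hpick
  choose St e he _ _ hrange hfac using fun P : ↥I => exists_stratum_scheme π hL hF (a P) ⟨_, ha P⟩
  have hmem : ∀ (P : ↥I) (s : S), hilb π L F s = a P ↔
      ∀ m : ℤ, (chi F s m : ℚ) = (P : Polynomial ℚ).eval (m : ℚ) := fun P s => by
    refine ⟨fun h m => chi_eq_of_hilb hF s _ (fun j => by rw [congrFun h j]; exact ha P j) m, fun h => ?_⟩
    refine funext fun j => Int.cast_injective (α := ℚ) ?_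
    show (hilb π L F s j : ℚ) = (a P j : ℚ)
    rw [ha P j, show hilb π L F s j = chi F s j from hilb_eq_chi F s j]
    exact_mod_cast h j
  have hcov : ∀ s : S, ∃ P : ↥I, hilb π L F s = a P := fun s => by
    obtain ⟨p, hp⟩ := exists_poly_chi hF s
    exact ⟨⟨p, hfin.mem_toFinset.2 ⟨s, hp⟩⟩, (hmem _ s).2 hp⟩
  have huniq : ∀ (P Q : ↥I) (s : S), hilb π L F s = a P → hilb π L F s = a Q → P = Q := fun P Q s h h' =>
    Subtype.ext (polynomial_ext fun m => by rw [← ha P m, ← ha Q m, ← h, ← h'])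
  refine ⟨I, St, e, he, fun P s => by rw [hrange P]; exact hmem P s,
    fun s => by obtain ⟨P, hP⟩ := hcov s; exact ⟨P, by rw [hrange P]; exact hP⟩, fun T φ => ?_, fun P => ?_⟩
  · rw [flat_projMap_iff]
    constructor
    · intro hfl
      have hlc := isLocallyConstant_hilb_of_flat π hO hF φ hfl
      let U : ↥I → T.Opens := fun P => ⟨{t | hilb π L F (φ t) = a P}, hlc {b | b = a P}⟩
      have hcU : ⨆ P, (U P).ι.opensRange = ⊤ := by
        simp only [Scheme.Opens.opensRange_ι, ← top_le_iff]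
        intro t _
        obtain ⟨P, hP⟩ := hcov (φ t)
        exact Opens.mem_iSup.2 ⟨P, hP⟩
      have hdU : Pairwise (Function.onFun Disjoint fun P => (U P).ι.opensRange) := fun P Q hPQ => by
        simp only [Function.onFun, Scheme.Opens.opensRange_ι, disjoint_iff]
        refine Opens.ext (Set.eq_empty_iff_forall_notMem.2 fun t ht => hPQ (huniq P Q (φ t) ht.1 ht.2))
      obtain ⟨hc⟩ := nonempty_isColimit_cofanMk_of (fun P => (U P).ι) hcU hdU
      have hh : ∀ P, ∃ h : (U P).toScheme ⟶ St P, h ≫ e P = (U P).ι ≫ φ := fun P =>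
        (hfac P _ _).2 ⟨flat_pullback_comp _ _ φ _ hfl, fun t => t.2⟩
      choose h hh using hh
      refine ⟨Cofan.IsColimit.desc hc fun P => h P ≫ Sigma.ι St P, Cofan.IsColimit.hom_ext hc _ _ fun P => ?_⟩
      show (Cofan.mk T fun P => (U P).ι).inj P ≫ _ = (U P).ι ≫ φ
      rw [Cofan.IsColimit.fac_assoc, Category.assoc, Sigma.ι_desc, hh]
    · rintro ⟨g, rfl⟩
      refine flat_of_cover (fun P : ↥I => pullback g (Sigma.ι St P)) (fun P => pullback.fst g (Sigma.ι St P))
        (fun t => ?_) fun P => ?_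
      · obtain ⟨P, z, hz⟩ := (sigmaOpenCover St).exists_eq (g t)
        obtain ⟨w, hw, -⟩ := Scheme.Pullback.exists_preimage_pullback t z hz.symm
        exact ⟨P, w, hw⟩
      · have hP : pullback.fst g (Sigma.ι St P) ≫ g ≫ Sigma.desc e = pullback.snd g (Sigma.ι St P) ≫ e P := by
          rw [pullback.condition_assoc, Sigma.ι_desc]
        exact ((hfac P _ _).1 ⟨_, hP.symm⟩).1
  · let PP : (ℕ → ℤ) → Prop := fun b => ∃ N : ℕ, ∀ j, N ≤ j → a P j ≤ b j
    have hmonoPP : ∀ b c : ℕ → ℤ, (∃ N, ∀ j, N ≤ j → b j ≤ c j) → PP b → PP c := by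
      rintro b c ⟨N, hN⟩ ⟨N', hN'⟩
      exact ⟨N + N', fun j hj => (hN' j (by omega)).trans (hN j (by omega))⟩
    have hcl : IsClosed {s : S | PP (hilb π L F s)} := isClosed_eventually_ge π hL hF PP hmonoPP
    refine (closure_minimal ?_ hcl).trans fun s hs => ?_
    · rw [hrange P]
      exact fun s hs => ⟨0, fun j _ => (congrFun hs j).ge⟩
    · obtain ⟨N, hN⟩ := hs
      obtain ⟨Q, hQ⟩ := hcov s
      refine Set.mem_iUnion₂.2 ⟨Q, ⟨(N : ℤ), fun m hm => ?_⟩, by rw [hrange Q]; exact hQ⟩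
      obtain ⟨j, rfl⟩ := Int.eq_ofNat_of_zero_le ((Int.natCast_nonneg N).trans hm)
      have := hN j (by exact_mod_cast hm)
      rw [congrFun hQ j] at this
      simp only [Int.cast_natCast, ← ha]
      exact_mod_cast this

end Groth.Agent.H22Alg.PnHilbert
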