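import Groth.Agent.H22Alg.FlatStratumAffine
import Groth.Agent.H7Lim.IdealDescent

/-! # The flattening stratum of a Hilbert polynomial. -/

set_option autoImplicit false
set_option linter.style.haveILetI false
set_option linter.unusedSectionVars false

universe u

open CategoryTheory CategoryTheory.Limits AlgebraicGeometry Opposite TopologicalSpace

noncomputable section

namespace Groth.Agent.H22Alg.HilbertFlat

open Groth.Agent.H10Coh Groth.Agent.H11Ample
open Groth.Agent.H25Theta (pb pT pC pI tI pO)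

/-- The points of a given Hilbert function in an affine open form a quasi-compact set. -/
theorem isCompact_inter_hilb_eq {X S : Scheme.{u}} (f : X ⟶ S) [IsProper f] [LocallyOfFinitePresentation f]
    {L : X.Modules} (hL : PicF.IsInvertible L) {F : X.Modules} (hF : CohB1.IsFP F) (P : ℕ → ℤ)
    {Y : S.Opens} (hY : IsAffineOpen Y) : IsCompact ({s | hilb f L F s = P} ∩ (Y : Set S)) := by
  haveI : IsAffine Y.toScheme := hY
  let f' := pullback.snd f Y.ι
  have hF' := H06EGA9.isFP_pullback (pullback.fst f Y.ι) hF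
  obtain ⟨t, T, g, hT, -, -, hfl, hcov⟩ := exists_flat_strata f' (pb (pullback.fst f Y.ι) F) hF'
  let A : ∀ k : Fin t, Set (T k) := fun k =>
    {z | hilb f' (pb (pullback.fst f Y.ι) L) (pb (pullback.fst f Y.ι) F) (g k z) = P}
  have hkey : ∀ z, hilb f' (pb (pullback.fst f Y.ι) L) (pb (pullback.fst f Y.ι) F) z = hilb f L F (Y.ι z) :=
    fun z => hilb_baseChange (IsPullback.of_hasPullback f Y.ι) hL hF z
  have e : {s | hilb f L F s = P} ∩ (Y : Set S) = ⋃ k, (Y.ι ∘ g k) '' A k := by
    ext s
    simp only [Set.mem_inter_iff, Set.mem_iUnion, Set.mem_image, Set.mem_setOf_eq]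
    constructor
    · rintro ⟨hs, hsY⟩
      obtain ⟨k, w, hw⟩ := hcov ⟨s, hsY⟩
      refine ⟨k, w, ?_, by rw [Function.comp_apply, hw]; rfl⟩
      show hilb _ _ _ (g k w) = P
      rw [hkey, hw]
      exact hs
    · rintro ⟨k, w, hw, rfl⟩
      exact ⟨(hkey _).symm.trans hw, (g k w).2⟩
  rw [e]
  refine isCompact_iUnion fun k => ?_
  haveI := hT k
  have hlc := isLocallyConstant_hilb_of_flat f' (isInvertible_pullback (pullback.fst f Y.ι) hL) hF' (g k) (hfl k)
  exact (IsClosed.isCompact (s := A k) (hlc.isClosed_fiber P)).image (Y.ι.continuous.comp (g k).continuous)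

/-- The locus at which the Hilbert function is not eventually above `P`, the exceptions removed. -/
def goodOpen {X S : Scheme.{u}} (f : X ⟶ S) [IsProper f] [LocallyOfFinitePresentation f]
    {L : X.Modules} (hL : RelAmple.IsRelAmple f L) {F : X.Modules} (hF : CohB1.IsFP F) (P : ℕ → ℤ) : S.Opens :=
  ⟨{s | Above P (hilb f L F s)}ᶜ, (isClosed_eventually_ge f hL hF (Above P) (above_mono P)).isOpen_compl⟩

/-- The flattening stratum of a Hilbert polynomial. -/
theorem exists_stratum_scheme {X S : Scheme.{u}} (f : X ⟶ S) [IsProper f] [LocallyOfFinitePresentation f]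
    {L : X.Modules} (hL : RelAmple.IsRelAmple f L) {F : X.Modules} (hF : CohB1.IsFP F) (P : ℕ → ℤ)
    (hP : IsPoly P) :
    ∃ (W : Scheme.{u}) (i : W ⟶ S), IsImmersion i ∧ QuasiCompact i ∧ LocallyOfFinitePresentation i ∧
      Set.range i = {s : S | hilb f L F s = P} ∧
      ∀ (T : Scheme.{u}) (g : T ⟶ S), (∃ h : T ⟶ W, h ≫ i = g) ↔ Cond f L F P g := by
  have hLi := isInvertible_of_isRelAmple hL
  let U := goodOpen f hL hF P
  have hmemU : ∀ s, hilb f L F s = P → s ∈ U := fun s hs h => not_above_self P (hs ▸ (h : Above P (hilb f L F s)))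
  let v : ∀ V : U.toScheme.affineOpens, Spec Γ(U.toScheme, V.1) ⟶ S := fun V => V.2.fromSpec ≫ U.ι
  have hex : ∀ V : U.toScheme.affineOpens, ∃ I : Ideal Γ(U.toScheme, V.1), I.FG ∧
      ∀ (B : Type u) [CommRing B] (φ : Γ(U.toScheme, V.1) →+* B),
        Cond f L F P (Spec.map (CommRingCat.ofHom φ) ≫ v V) ↔ I.map φ = ⊥ := fun V => by
    have sq := IsPullback.of_hasPullback f (v V)
    let fV : pullback f (v V) ⟶ Spec (CommRingCat.of Γ(U.toScheme, V.1)) := pullback.snd f (v V)
    haveI : IsProper fV := MorphismProperty.of_isPullback sq ‹IsProper f›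
    haveI : LocallyOfFinitePresentation fV :=
      MorphismProperty.of_isPullback sq ‹LocallyOfFinitePresentation f›
    obtain ⟨I, hI, hI'⟩ := exists_ideal_affine fV
      (show RelAmple.IsRelAmple fV _ from isRelAmple_baseChange f (v V) hL) (H06EGA9.isFP_pullback (pullback.fst f (v V)) hF) P hP
      (fun y h => (V.2.fromSpec y).2 (hilb_baseChange sq hLi hF y ▸ h : Above P (hilb f L F (v V y))))
    exact ⟨I, hI, fun B _ φ => (cond_baseChange_iff sq hLi hF P _).symm.trans (hI' B φ)⟩
  choose I hIfg hI using hex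
  have hmap : ∀ (V : U.toScheme.affineOpens) (a : Γ(U.toScheme, V.1)),
      (I V).map (U.toScheme.presheaf.map (homOfLE <| U.toScheme.basicOpen_le a).op).hom =
        I (U.toScheme.affineBasicOpen a) := fun V a => by
    let ρ : Γ(U.toScheme, V.1) →+* Γ(U.toScheme, (U.toScheme.affineBasicOpen a).1) := (U.toScheme.presheaf.map (homOfLE <| U.toScheme.basicOpen_le a).op).hom
    have hv : Spec.map (CommRingCat.ofHom ρ) ≫ v V = v (U.toScheme.affineBasicOpen a) := by
      show Spec.map _ ≫ V.2.fromSpec ≫ U.ι = (U.toScheme.affineBasicOpen a).2.fromSpec ≫ U.ι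
      rw [← Category.assoc]
      exact congrArg (· ≫ U.ι) (V.2.map_fromSpec (U.toScheme.affineBasicOpen a).2 _)
    have key : ∀ (B : Type u) [CommRing B] (φ : Γ(U.toScheme, (U.toScheme.affineBasicOpen a).1) →+* B),
        (I (U.toScheme.affineBasicOpen a)).map φ = ⊥ ↔ ((I V).map ρ).map φ = ⊥ := fun B _ φ => by
      conv_rhs => rw [Ideal.map_map, ← hI]
      rw [← hI, ← hv, ← Category.assoc, ← ofHom_comp_map]
    refine le_antisymm ?_ ?_
    · have h := (key _ (Ideal.Quotient.mk (I (U.toScheme.affineBasicOpen a)))).1 (Ideal.map_quotient_self _)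
      rwa [Ideal.map_eq_bot_iff_le_ker, Ideal.mk_ker] at h
    · have h := (key _ (Ideal.Quotient.mk ((I V).map ρ))).2 (Ideal.map_quotient_self _)
      rwa [Ideal.map_eq_bot_iff_le_ker, Ideal.mk_ker] at h
  let J : U.toScheme.IdealSheafData := { ideal := I, map_ideal_basicOpen := hmap }
  let i : J.subscheme ⟶ S := J.subschemeι ≫ U.ι
  haveI : LocallyOfFinitePresentation J.subschemeι := H7Lim.locallyOfFinitePresentation_of_ker_fg _ fun A => by
    rw [Scheme.IdealSheafData.ker_subschemeι]
    exact hIfg A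
  have hCi : Cond f L F P i := by
    refine cond_of_cover _ (fun V => J.subschemeCover.f V) (fun t => ⟨_, J.subschemeCover.covers t⟩) fun V => ?_
    show Cond f L F P (J.subschemeCover.f V ≫ J.subschemeι ≫ U.ι)
    rw [← Category.assoc, Scheme.IdealSheafData.subschemeCover_map_subschemeι,
      Scheme.IdealSheafData.glueDataObjι_ι]
    refine (congrArg (Cond f L F P) (Category.assoc _ _ _)).mpr ?_
    exact (hI V _ (Ideal.Quotient.mk (I V))).2 (Ideal.map_quotient_self _)
  have hfac : ∀ (T : Scheme.{u}) (g : T ⟶ S), (∃ h : T ⟶ J.subscheme, h ≫ i = g) ↔ Cond f L F P g := by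
    intro T g
    constructor
    · rintro ⟨h, rfl⟩
      exact hCi.comp h
    · intro hg
      have hr : Set.range g ⊆ Set.range U.ι := by
        rw [Scheme.Opens.range_ι]
        rintro _ ⟨t, rfl⟩
        exact hmemU _ (hg.2 t)
      let g' := IsOpenImmersion.lift U.ι g hr
      have hg' : g' ≫ U.ι = g := IsOpenImmersion.lift_fac _ _ _
      have hle : J ≤ g'.ker := Scheme.IdealSheafData.le_ofIdeals_iff.2 fun V x hx => by
        rw [RingHom.mem_ker]
        apply T.IsSheaf.section_ext
        intro p hp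
        obtain ⟨_, ⟨W, hW, rfl⟩, hpW, hWV⟩ :=
          T.isBasis_affineOpens.exists_subset_of_mem_open hp (g' ⁻¹ᵁ V.1).isOpen
        refine ⟨W, hWV, hpW, ?_⟩
        have hc : Cond f L F P (Spec.map (g'.appLE V.1 W hWV) ≫ v V) := by
          show Cond f L F P (Spec.map _ ≫ V.2.fromSpec ≫ U.ι)
          rw [← Category.assoc, IsAffineOpen.SpecMap_appLE_fromSpec g' V.2 hW hWV, Category.assoc, hg']
          exact hg.comp _
        rw [← CommRingCat.ofHom_hom (g'.appLE V.1 W hWV), hI V _ _, Ideal.map_eq_bot_iff_le_ker] at hc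
        rw [map_zero]
        exact hc hx
      refine ⟨IsClosedImmersion.lift J.subschemeι g' (by rwa [Scheme.IdealSheafData.ker_subschemeι]), ?_⟩
      show _ ≫ J.subschemeι ≫ U.ι = g
      rw [IsClosedImmersion.lift_fac_assoc, hg']
  have hrange : Set.range i = {s : S | hilb f L F s = P} := by
    refine subset_antisymm (by rintro _ ⟨w, rfl⟩; exact hCi.2 w) fun s hs => ?_
    obtain ⟨h, hh⟩ := (hfac _ _).2 (cond_fromSpecResidueField f L F P s hs)
    obtain ⟨z, hz⟩ : s ∈ Set.range (S.fromSpecResidueField s) := by simp [Scheme.range_fromSpecResidueField]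
    exact ⟨h z, by rw [← Scheme.Hom.comp_apply, hh, hz]⟩
  haveI : IsImmersion i := inferInstance
  refine ⟨J.subscheme, i, inferInstance, ?_, inferInstance, hrange, hfac⟩
  refine quasiCompact_iff_forall_isAffineOpen.2 fun Y hY => ?_
  rw [i.isEmbedding.isCompact_iff, Scheme.Hom.coe_preimage, Set.image_preimage_eq_range_inter, hrange]
  exact isCompact_inter_hilb_eq f hLi hF P hY

end Groth.Agent.H22Alg.HilbertFlat
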