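import Groth.Agent.H7Lim.ProperFlatModel
import Groth.Agent.H7Lim.AmpleDescent
import Groth.Agent.H12Pic.InvertibleStage
import Groth.Agent.H11Ample.VeryAmple

/-! # Noetherian models of polarised proper families of modules. -/

set_option autoImplicit false
set_option linter.style.haveILetI false
set_option backward.isDefEq.respectTransparency false

universe u

open CategoryTheory CategoryTheory.Limits AlgebraicGeometry Opposite TopologicalSpace

namespace Groth.Agent.H22Alg.AmpleModel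

open H7Lim.FPDescent H17.ConsProp H7Lim

/-- A proper finitely presented family with an ample sheaf and a finitely presented module over an affine
base comes from a Noetherian base. -/
theorem exists_ample_model {R : Type u} [CommRing R] {X : Scheme.{u}}
    (f : X ⟶ Spec (CommRingCat.of R)) [IsProper f] [LocallyOfFinitePresentation f]
    (L : X.Modules) (hL : PicF.IsInvertible L) (hA : CohB1.IsAmple L)
    (F : X.Modules) (hF : CohB1.IsFP F) :
    ∃ (R₀ : Type u) (_ : CommRing R₀) (_ : Algebra R₀ R) (_ : IsNoetherianRing R₀) (X₀ : Scheme.{u})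
      (f₀ : X₀ ⟶ Spec (CommRingCat.of R₀)) (L₀ F₀ : X₀.Modules) (g : X ⟶ X₀),
      IsProper f₀ ∧ PicF.IsInvertible L₀ ∧ CohB1.IsAmple L₀ ∧ CohB1.IsFP F₀ ∧
        IsPullback g f f₀ (Spec.map (CommRingCat.ofHom (algebraMap R₀ R))) ∧
        Nonempty ((Scheme.Modules.pullback g).obj L₀ ≅ L) ∧
        Nonempty ((Scheme.Modules.pullback g).obj F₀ ≅ F) := by
  haveI : Coh.IsQCoh F := H29Fitt.isQCoh_of_isFP F hF
  obtain ⟨i, X₀, u₀, F₀, q, _, _, h1, hF₀, ⟨e⟩⟩ :=
    exists_mod_model (R := R) (show X ⟶ (subringCone R).pt from f) F hF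
  haveI : Nonempty (Finset R) := ⟨∅⟩
  let D := (subringFunctor R).op ⋙ Scheme.Spec
  let c := subringCone R
  have hc : IsLimit c := isLimitSubringCone R
  haveI : IsNoetherian X₀ := isNoetherian_of_finiteType u₀
  -- properness
  have hp : IsProper (pullback.snd u₀ (c.π.app i)) :=
    (prop_iff_of_isPullback (P := @IsProper) h1).mp ‹IsProper f›
  obtain ⟨j, φ, hj⟩ := descends_isProper (Finset R)ᵒᵖ D c hc i u₀ inferInstance hp
  let X₁ := pullback u₀ (D.map φ)
  let f₁ : X₁ ⟶ D.obj j := pullback.snd u₀ (D.map φ)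
  haveI : IsProper f₁ := hj
  let F₁ : X₁.Modules := (Scheme.Modules.pullback (pullback.fst u₀ (D.map φ))).obj F₀
  haveI : IsLocallyNoetherian X₁ := LocallyOfFiniteType.isLocallyNoetherian f₁
  have hFP₁ : CohB1.IsFP F₁ := H10Coh.isFP_of_isCoh F₁ (isCoh_pullback _ hF₀)
  let q₁ : X ⟶ X₁ := pullback.lift q (f ≫ c.π.app j) (by rw [h1.w, Category.assoc, c.w])
  have h₁ : IsPullback q₁ f f₁ (c.π.app j) := by
    refine IsPullback.of_right (h₁₂ := pullback.fst u₀ (D.map φ)) (h₂₂ := D.map φ) (v₁₃ := u₀) ?_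
      (pullback.lift_snd _ _ _) (IsPullback.of_hasPullback _ _)
    rw [pullback.lift_fst, c.w]
    exact h1
  let e₁ : F ≅ (Scheme.Modules.pullback q₁).obj F₁ :=
    e ≪≫ (Scheme.Modules.pullbackCongr (pullback.lift_fst _ _ _).symm).app F₀ ≪≫
      ((Scheme.Modules.pullbackComp q₁ (pullback.fst u₀ (D.map φ))).app F₀).symm
  -- the invertible module
  let D₁ := pbDiagram D j f₁
  let c₁ := pbCone D c j f₁
  have hc₁ : IsLimit c₁ := isLimitPbCone D j f₁ hc
  haveI : ∀ (a b : Over j) (w : a ⟶ b), IsAffineHom (D₁.map w) := fun a b w =>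
    MorphismProperty.of_isPullback (P := @IsAffineHom) (isPullback_pbDiagram_map D j f₁ w).flip inferInstance
  haveI : ∀ {a b : Over j} (w : a ⟶ b), IsAffineHom (D₁.map w) := fun {a b} w =>
    ‹∀ (a b : Over j) (w : a ⟶ b), IsAffineHom (D₁.map w)› a b w
  haveI : ∀ a : Over j, IsNoetherian (D₁.obj a) := fun a => by
    haveI : IsProper (pullback.snd f₁ (D.map a.hom)) := MorphismProperty.pullback_snd _ _ ‹_›
    exact isNoetherian_of_finiteType (pullback.snd f₁ (D.map a.hom))
  let t : c₁.pt ≅ X := (IsPullback.of_hasPullback f₁ (c.π.app j)).isoIsPullback _ _ h₁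
  have hL' : PicF.IsInvertible ((Scheme.Modules.pullback t.hom).obj L) := H11Ample.isInvertible_pullback _ hL
  obtain ⟨k, -, L₁, hL₁, ⟨eL⟩⟩ := H12Pic.exists_invertible_stage hc₁ (Over.mk (𝟙 j)) hL'
  -- ampleness
  have hA' : CohB1.IsAmple ((Scheme.Modules.pullback (c₁.π.app k)).obj L₁) :=
    H11Ample.isAmple_of_iso eL.symm (H11Ample.isAmple_pullback_of_isAffineHom t.hom hA)
  obtain ⟨m, χ, hm⟩ := H7Lim.AmpleDescent.exists_isAmple_stage hc₁ hL₁ hA'
  let g : X ⟶ D₁.obj m := t.inv ≫ c₁.π.app m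
  have hg : g ≫ pullback.fst f₁ (D.map m.hom) = q₁ := by
    simp [g, c₁, pbCone, t]
  haveI : IsProper (pullback.snd f₁ (D.map m.hom)) := MorphismProperty.pullback_snd _ _ ‹_›
  refine ⟨↥(Algebra.adjoin ℤ ((unop m.left : Finset R) : Set R)), inferInstance,
    (Algebra.adjoin ℤ ((unop m.left : Finset R) : Set R)).val.toRingHom.toAlgebra, ?_, D₁.obj m,
    pullback.snd f₁ (D.map m.hom), (Scheme.Modules.pullback (D₁.map χ)).obj L₁,
    (Scheme.Modules.pullback (pullback.fst f₁ (D.map m.hom))).obj F₁, g, inferInstance,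
    H11Ample.isInvertible_pullback _ hL₁, hm, H06EGA9.isFP_pullback _ hFP₁, ?_, ⟨?_⟩, ⟨?_⟩⟩
  · haveI := (Algebra.adjoin ℤ ((unop m.left : Finset R) : Set R)).fg_iff_finiteType.1 ⟨unop m.left, rfl⟩
    exact Algebra.FiniteType.isNoetherianRing ℤ _
  · refine IsPullback.of_right (h₁₂ := pullback.fst f₁ (D.map m.hom)) (h₂₂ := D.map m.hom) (v₁₃ := f₁) ?_ ?_
      (IsPullback.of_hasPullback _ _)
    · rw [hg]
      show IsPullback q₁ f f₁ (c.π.app m.left ≫ D.map m.hom)
      rw [c.w]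
      exact h₁
    · show g ≫ pullback.snd f₁ (D.map m.hom) = f ≫ c.π.app m.left
      simp [g, c₁, pbCone, t]
  · exact (Scheme.Modules.pullbackComp g (D₁.map χ)).app L₁ ≪≫
      (Scheme.Modules.pullbackCongr (show g ≫ D₁.map χ = t.inv ≫ c₁.π.app k by
        rw [Category.assoc, c₁.w])).app L₁ ≪≫
      ((Scheme.Modules.pullbackComp t.inv (c₁.π.app k)).app L₁).symm ≪≫
      (Scheme.Modules.pullback t.inv).mapIso eL ≪≫ (Scheme.Modules.pullbackComp t.inv t.hom).app L ≪≫
      (Scheme.Modules.pullbackCongr t.inv_hom_id).app L ≪≫ (Scheme.Modules.pullbackId X).app L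
  · exact (Scheme.Modules.pullbackComp g (pullback.fst f₁ (D.map m.hom))).app F₁ ≪≫
      (Scheme.Modules.pullbackCongr hg).app F₁ ≪≫ e₁.symm

end Groth.Agent.H22Alg.AmpleModel
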