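import Mathlib
import Groth.Agent.H11Sym.Bundle
import Groth.Agent.H11QMap.TwistPullMap
import Groth.Agent.H11Ample.AmpleOn
import Groth.Agent.H10Coh.QCohOps
import Groth.Agent.H11Proj.RelProjExists

/-! # Quotients of ample bundles are ample -/

set_option autoImplicit false
universe u

open CategoryTheory CategoryTheory.Limits AlgebraicGeometry Opposite TopologicalSpace
open Groth.Agent.H11Sym

noncomputable section

namespace Groth.Agent.H22Alg.AmpleQuot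

variable {X : Scheme.{u}} {E F : X.Modules}

theorem ample_of_epi (hE : Coh.IsQCoh E) (hF : Coh.IsQCoh F) (φ : E ⟶ F) [Epi φ]
    {𝒯 : RelProj.QCGrAlg X} {jE : E ⟶ 𝒯.toModule} {PT : Scheme.{u}} {pT : PT ⟶ X}
    {chartT : ∀ (U : X.Opens) (hU : IsAffineOpen U), (((pT ⁻¹ᵁ U : PT.Opens) : Scheme.{u}) ≅ Proj (𝒯.deg U hU))}
    {LT : PT.Modules}
    {lamT : ∀ (U : X.Opens) (hU : IsAffineOpen U),
      LT ⟶ (Scheme.Modules.pushforward (RelProj.emb pT chartT U hU)).obj (GrTwist.twist (𝒯.deg U hU) 1)}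
    (hT : RelProj.IsGrSymAlg E 𝒯 jE) (hPT : RelProj.IsRelProj 𝒯 pT chartT)
    (hLT : RelProj.IsRelTwist 𝒯 pT chartT 1 LT lamT) (hA : CohB1.IsAmple LT)
    {𝒮 : RelProj.QCGrAlg X} {j : F ⟶ 𝒮.toModule} {P : Scheme.{u}} {p : P ⟶ X}
    {chart : ∀ (U : X.Opens) (hU : IsAffineOpen U), (((p ⁻¹ᵁ U : P.Opens) : Scheme.{u}) ≅ Proj (𝒮.deg U hU))}
    {O1 : P.Modules}
    {lam : ∀ (U : X.Opens) (hU : IsAffineOpen U),
      O1 ⟶ (Scheme.Modules.pushforward (RelProj.emb p chart U hU)).obj (GrTwist.twist (𝒮.deg U hU) 1)}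
    (hS : RelProj.IsGrSymAlg F 𝒮 j) (hP : RelProj.IsRelProj 𝒮 p chart)
    (hL : RelProj.IsRelTwist 𝒮 p chart 1 O1 lam) : CohB1.IsAmple O1 := by
  haveI : E.IsQuasicoherent := hE
  haveI : F.IsQuasicoherent := hF
  obtain ⟨ψ, hψ, hirr, h, hh, hcl, -, -⟩ := exists_isClosedImmersion_relProj hE hT (isGenDegOne hF hS) (φ ≫ j)
    (fun U hU x => hS.2 U hU (φ.app U x))
    (fun U hU a ha => by
      obtain ⟨y, rfl⟩ := (mem_deg_one hF hS hU).1 ha
      obtain ⟨x, hx⟩ := H10Coh.surjective_app_of_epi φ hU y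
      exact ⟨x, congrArg (j.app U) hx⟩)
    hPT hP
  haveI := hcl
  obtain ⟨e⟩ := H11QMap.nonempty_pullback_relProjMap_iso ψ hψ hirr hPT hP hh
    (fun U hU y => H11Tilde.exists_degOne_notMem (𝒯.deg U hU) (isGenDegOne hE hT U hU) y) hLT hL
  exact H11Ample.isAmple_of_iso e (H11Ample.isAmple_pullback_of_isAffineHom h hA)

end Groth.Agent.H22Alg.AmpleQuot
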