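import Mathlib
import Groth.Agent.H3CAlg.FormsDim

/-!
Hilbert function of a complete intersection of two plane curves, and the affine intersection count.
-/

set_option autoImplicit false
set_option linter.style.haveILetI false

universe u

open MvPolynomial

namespace Groth.Agent.H22Alg.BezoutGraded

attribute [local instance] MvPolynomial.gradedAlgebra

variable {k : Type u} [Field k]

local notation "𝒮" => MvPolynomial (Fin 3) k

theorem component_mul_right {σ : Type} {u f : MvPolynomial σ k} {n : ℕ} (hf : f.IsHomogeneous n) (a : ℕ) :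
    homogeneousComponent (a + n) (u * f) = homogeneousComponent a u * f := by
  classical
  have h := DirectSum.coe_decompose_mul_of_right_mem_of_le (homogeneousSubmodule σ k)
    (a := u) (b := f) (i := n) (n := a + n) hf (Nat.le_add_left n a)
  have hd : ∀ (x : MvPolynomial σ k) (i : ℕ),
      ((DirectSum.decompose (homogeneousSubmodule σ k) x i : MvPolynomial σ k)) = homogeneousComponent i x :=
    fun x i => MvPolynomial.decomposition.decompose'_apply x i
  rw [hd, hd, Nat.add_sub_cancel] at h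
  exact h

/-- `(u, v) ↦ u f + v g` on forms. -/
noncomputable def comb {f g : 𝒮} {n m : ℕ} (hf : f.IsHomogeneous n) (hg : g.IsHomogeneous m) (d : ℕ)
    (hn : n ≤ d) (hm : m ≤ d) :
    homogeneousSubmodule (Fin 3) k (d - n) × homogeneousSubmodule (Fin 3) k (d - m) →ₗ[k]
      homogeneousSubmodule (Fin 3) k d where
  toFun p := ⟨(p.1 : 𝒮) * f + (p.2 : 𝒮) * g,
    (by simpa [Nat.sub_add_cancel hn] using IsHomogeneous.mul (p.1.2 : (p.1 : 𝒮).IsHomogeneous (d - n)) hf :
      ((p.1 : 𝒮) * f).IsHomogeneous d).add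
    (by simpa [Nat.sub_add_cancel hm] using IsHomogeneous.mul (p.2.2 : (p.2 : 𝒮).IsHomogeneous (d - m)) hg :
      ((p.2 : 𝒮) * g).IsHomogeneous d)⟩
  map_add' p q := Subtype.ext (by simp [add_mul]; abel)
  map_smul' c p := Subtype.ext (by simp [smul_add])

theorem finrank_quotient {f g : 𝒮} {n m : ℕ} (hf : f.IsHomogeneous n) (hg : g.IsHomogeneous m)
    (hf0 : f ≠ 0) (hg0 : g ≠ 0) (hfg : IsRelPrime f g) (d : ℕ) (hd : n + m ≤ d) :
    Module.finrank k (↥(homogeneousSubmodule (Fin 3) k d) ⧸
      Submodule.comap (homogeneousSubmodule (Fin 3) k d).subtype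
        ((Ideal.span ({f, g} : Set 𝒮)).restrictScalars k)) = n * m := by
  have hn : n ≤ d := by omega
  have hm : m ≤ d := by omega
  haveI : ∀ e, Module.Finite k (homogeneousSubmodule (Fin 3) k e) := fun e => (H3CAlg.finrank_homogeneous (k := k) 2 e).1
  have hrk : ∀ e, Module.finrank k (homogeneousSubmodule (Fin 3) k e) = (e + 2).choose 2 :=
    fun e => (H3CAlg.finrank_homogeneous (k := k) 2 e).2
  let L := comb hf hg d hn hm
  have hrange : LinearMap.range L = Submodule.comap (homogeneousSubmodule (Fin 3) k d).subtype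
      ((Ideal.span ({f, g} : Set 𝒮)).restrictScalars k) := by
    refine le_antisymm ?_ ?_
    · rintro _ ⟨p, rfl⟩
      rw [Submodule.mem_comap, Submodule.restrictScalars_mem, Ideal.mem_span_pair]
      exact ⟨_, _, rfl⟩
    · rintro ⟨a, ha⟩ hmem
      rw [Submodule.mem_comap, Submodule.restrictScalars_mem, Ideal.mem_span_pair] at hmem
      obtain ⟨u, v, huv⟩ := hmem
      refine ⟨(⟨_, homogeneousComponent_mem _ u⟩, ⟨_, homogeneousComponent_mem _ v⟩), Subtype.ext ?_⟩
      show homogeneousComponent (d - n) u * f + homogeneousComponent (d - m) v * g = a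
      rw [← component_mul_right hf, ← component_mul_right hg, Nat.sub_add_cancel hn, Nat.sub_add_cancel hm,
        ← map_add, show u * f + v * g = a from huv, homogeneousComponent_of_mem ha, if_pos rfl]
  have hcn : d - n - m + m = d - n := by omega
  have hcm : d - n - m + n = d - m := by omega
  let K : homogeneousSubmodule (Fin 3) k (d - n - m) →ₗ[k]
      homogeneousSubmodule (Fin 3) k (d - n) × homogeneousSubmodule (Fin 3) k (d - m) :=
    { toFun := fun w => (⟨(w : 𝒮) * g, show ((w : 𝒮) * g).IsHomogeneous (d - n) by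
          simpa only [hcn] using IsHomogeneous.mul (w.2 : (w : 𝒮).IsHomogeneous (d - n - m)) hg⟩,
        ⟨-((w : 𝒮) * f), (by simpa only [hcm] using IsHomogeneous.mul (w.2 : (w : 𝒮).IsHomogeneous (d - n - m)) hf :
          ((w : 𝒮) * f).IsHomogeneous (d - m)).neg⟩)
      map_add' := fun p q => Prod.ext (Subtype.ext (by simp [add_mul])) (Subtype.ext (by simp [add_mul]; abel))
      map_smul' := fun c p => Prod.ext (Subtype.ext (by simp)) (Subtype.ext (by simp)) }
  have hK : Function.Injective K := fun p q h => Subtype.ext (mul_right_cancel₀ hg0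
    (congrArg (fun z => (z.1 : 𝒮)) h))
  have hker : LinearMap.range K = LinearMap.ker L := by
    refine le_antisymm ?_ ?_
    · rintro _ ⟨w, rfl⟩
      refine Subtype.ext ?_
      show (w : 𝒮) * g * f + -((w : 𝒮) * f) * g = 0
      ring
    · rintro ⟨⟨u, hu⟩, ⟨v, hv⟩⟩ hp
      have h0 : u * f + v * g = 0 := congrArg Subtype.val hp
      obtain ⟨w, hw⟩ : g ∣ u := by
        have h1 : g ∣ u * f := ⟨-v, by linear_combination h0⟩
        exact hfg.symm.dvd_of_dvd_mul_right h1
      have hw' : u = homogeneousComponent (d - n - m) w * g := by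
        rw [← component_mul_right hg, hcn, show w * g = u by rw [hw, mul_comm], homogeneousComponent_of_mem hu,
          if_pos rfl]
      refine ⟨⟨_, homogeneousComponent_mem _ w⟩, Prod.ext (Subtype.ext hw'.symm) (Subtype.ext ?_)⟩
      show -(homogeneousComponent (d - n - m) w * f) = v
      refine mul_right_cancel₀ hg0 ?_
      linear_combination -h0 + f * hw'
  have h1 := LinearMap.finrank_range_add_finrank_ker L
  rw [← hker, LinearMap.finrank_range_of_inj hK, hrange, Module.finrank_prod, hrk, hrk, hrk] at h1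
  have h2 := Submodule.finrank_quotient_add_finrank (Submodule.comap (homogeneousSubmodule (Fin 3) k d).subtype
      ((Ideal.span ({f, g} : Set 𝒮)).restrictScalars k))
  rw [hrk] at h2
  obtain ⟨e, rfl⟩ : ∃ e, d = n + m + e := ⟨d - (n + m), by omega⟩
  rw [show n + m + e - n - m = e by omega, show n + m + e - n = m + e by omega,
    show n + m + e - m = n + e by omega] at h1
  have hch : ∀ x : ℕ, 2 * (x + 2).choose 2 = (x + 2) * (x + 1) := fun x => by
    rw [Nat.choose_two_right, Nat.mul_div_cancel' ?_]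
    · rfl
    · rw [show x + 2 - 1 = x + 1 from rfl, mul_comm]
      exact (Nat.even_mul_succ_self (x + 1)).two_dvd
  have := hch e
  have := hch (m + e)
  have := hch (n + e)
  have := hch (n + m + e)
  nlinarith

/-- Dehomogenisation at the last coordinate. -/
noncomputable def dehom (t : k) : 𝒮 →ₐ[k] MvPolynomial (Fin 2) k :=
  aeval ![X 0, X 1, C t]

theorem dehom_monomial_one (s : Fin 3 →₀ ℕ) (c : k) :
    dehom (1 : k) (monomial s c) = monomial (Finsupp.single 0 (s 0) + Finsupp.single 1 (s 1)) c := by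
  rw [dehom, aeval_monomial, algebraMap_eq, Finsupp.prod_fintype _ _ (fun _ => pow_zero _), Fin.prod_univ_three]
  simp [X_pow_eq_monomial, C_mul_monomial, monomial_mul]

/-- A form of given degree is determined by its dehomogenisation. -/
theorem eq_zero_of_dehom_eq_zero {F : 𝒮} {D : ℕ} (hF : F.IsHomogeneous D) (h : dehom (1 : k) F = 0) : F = 0 := by
  classical
  let r : (Fin 3 →₀ ℕ) → (Fin 2 →₀ ℕ) := fun s => Finsupp.single 0 (s 0) + Finsupp.single 1 (s 1)
  have hsum : ∀ s ∈ F.support, s 0 + s 1 + s 2 = D := fun s hs => by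
    have h1 := hF (mem_support_iff.mp hs)
    rw [Finsupp.weight_apply, Finsupp.sum_fintype _ _ (fun i => by simp), Fin.sum_univ_three] at h1
    simpa using h1
  refine (support_eq_empty.mp ?_)
  by_contra hne
  obtain ⟨s, hs⟩ := Finset.nonempty_iff_ne_empty.mpr hne
  have h2 : coeff (r s) (dehom (1 : k) F) = coeff s F := by
    conv_lhs => rw [F.as_sum, map_sum]
    rw [coeff_sum, Finset.sum_eq_single s]
    · rw [dehom_monomial_one, coeff_monomial, if_pos rfl]
    · intro t ht hts
      rw [dehom_monomial_one, coeff_monomial, if_neg]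
      intro he
      apply hts
      have h0 := congrArg (fun z => z 0) he
      have h1 := congrArg (fun z => z 1) he
      simp [r] at h0 h1
      have h2 : t 2 = s 2 := by
        have := hsum t ht
        have := hsum s hs
        omega
      ext i
      fin_cases i <;> assumption
    · exact fun hs' => absurd hs hs'
  rw [h, coeff_zero] at h2
  exact mem_support_iff.mp hs h2.symm

/-- Every polynomial in two variables is the dehomogenisation of a form of any large degree. -/
theorem exists_homogenization (p : MvPolynomial (Fin 2) k) {D : ℕ} (hD : p.totalDegree ≤ D) :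
    ∃ F : 𝒮, F.IsHomogeneous D ∧ dehom (1 : k) F = p := by
  classical
  let e : (Fin 2 →₀ ℕ) → (Fin 3 →₀ ℕ) := fun s =>
    Finsupp.single 0 (s 0) + Finsupp.single 1 (s 1) + Finsupp.single 2 (D - s 0 - s 1)
  refine ⟨∑ s ∈ p.support, monomial (e s) (coeff s p), IsHomogeneous.sum _ _ _ fun s hs => ?_, ?_⟩
  · refine isHomogeneous_monomial _ ?_
    have h1 : s 0 + s 1 ≤ D := by
      refine le_trans ?_ ((le_totalDegree hs).trans hD)
      rw [Finsupp.sum_fintype _ _ (fun _ => rfl), Fin.sum_univ_two]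
    have e0 : e s 0 = s 0 := by simp [e]
    have e1 : e s 1 = s 1 := by simp [e]
    have e2 : e s 2 = D - s 0 - s 1 := by simp [e]
    rw [Finsupp.degree_eq_sum, Fin.sum_univ_three, e0, e1, e2]
    omega
  · rw [map_sum]
    conv_rhs => rw [p.as_sum]
    refine Finset.sum_congr rfl fun s _ => ?_
    rw [dehom_monomial_one]
    congr 2
    ext i
    fin_cases i <;> simp [e]

theorem exists_X_two_mul {F : 𝒮} (h : dehom (0 : k) F = 0) : ∃ a, F = X 2 * a := by
  let ι : MvPolynomial (Fin 2) k →ₐ[k] 𝒮 := aeval ![X 0, X 1]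
  let q := Ideal.Quotient.mkₐ k (Ideal.span {(X 2 : 𝒮)})
  have hq : (q.comp ι).comp (dehom (0 : k)) = q := MvPolynomial.algHom_ext fun i => by
    fin_cases i
    · simp [dehom, ι, q]
    · simp [dehom, ι, q]
    · have h2 : q (X 2) = 0 := Ideal.Quotient.eq_zero_iff_mem.mpr (Ideal.mem_span_singleton_self _)
      simpa [dehom, ι] using h2.symm
  have h1 : q F = 0 := by rw [← hq, AlgHom.comp_apply, h, map_zero]
  obtain ⟨a, ha⟩ := Ideal.mem_span_singleton.mp (Ideal.Quotient.eq_zero_iff_mem.mp h1)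
  exact ⟨a, ha⟩

/-- `T` is regular modulo two forms whose restrictions to `T = 0` are coprime. -/
theorem mem_of_X_two_mul_mem {f g a : 𝒮} (hT : IsRelPrime (dehom (0 : k) f) (dehom (0 : k) g))
    (hg0 : dehom (0 : k) g ≠ 0) (h : X 2 * a ∈ Ideal.span ({f, g} : Set 𝒮)) : a ∈ Ideal.span ({f, g} : Set 𝒮) := by
  obtain ⟨u, v, huv⟩ := Ideal.mem_span_pair.mp h
  have h0 : dehom (0 : k) u * dehom (0 : k) f + dehom (0 : k) v * dehom (0 : k) g = 0 := by
    rw [← map_mul, ← map_mul, ← map_add, huv, map_mul]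
    simp [dehom]
  obtain ⟨w, hw⟩ : dehom (0 : k) g ∣ dehom (0 : k) u :=
    hT.symm.dvd_of_dvd_mul_right ⟨-dehom (0 : k) v, by linear_combination h0⟩
  have hv : dehom (0 : k) v = -(w * dehom (0 : k) f) :=
    mul_right_cancel₀ hg0 (by linear_combination h0 - (dehom (0 : k) f) * hw)
  obtain ⟨w', hw'⟩ : ∃ w', dehom (0 : k) w' = w := by
    refine ⟨aeval ![X 0, X 1] w, ?_⟩
    have : (dehom (0 : k)).comp (aeval ![X 0, X 1]) = AlgHom.id k (MvPolynomial (Fin 2) k) :=
      MvPolynomial.algHom_ext fun i => by fin_cases i <;> simp [dehom]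
    exact DFunLike.congr_fun this w
  obtain ⟨u', hu'⟩ := exists_X_two_mul (F := u - w' * g) (by rw [map_sub, map_mul, hw', hw]; ring)
  obtain ⟨v', hv'⟩ := exists_X_two_mul (F := v + w' * f) (by rw [map_add, map_mul, hw', hv]; ring)
  rw [Ideal.mem_span_pair]
  refine ⟨u', v', mul_left_cancel₀ (X_ne_zero (2 : Fin 3)) ?_⟩
  linear_combination huv - f * hu' - g * hv'

/-- Multiplication by a power of `T` is onto between large degree pieces of the quotient. -/
theorem exists_sub_mem {I : Ideal 𝒮} (j d N : ℕ) (a : ∀ x, X 2 ^ j * x ∈ I → x ∈ I)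
    [Module.Finite k (homogeneousSubmodule (Fin 3) k d)] [Module.Finite k (homogeneousSubmodule (Fin 3) k (j + d))]
    (hd : Module.finrank k (↥(homogeneousSubmodule (Fin 3) k d) ⧸
      Submodule.comap (homogeneousSubmodule (Fin 3) k d).subtype (I.restrictScalars k)) = N)
    (hjd : Module.finrank k (↥(homogeneousSubmodule (Fin 3) k (j + d)) ⧸
      Submodule.comap (homogeneousSubmodule (Fin 3) k (j + d)).subtype (I.restrictScalars k)) = N)
    {F : 𝒮} (hF : F.IsHomogeneous (j + d)) :
    ∃ x : 𝒮, x.IsHomogeneous d ∧ X 2 ^ j * x - F ∈ I := by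
  let mulT : homogeneousSubmodule (Fin 3) k d →ₗ[k] homogeneousSubmodule (Fin 3) k (j + d) :=
    ((LinearMap.mulLeft k (X 2 ^ j : 𝒮)).comp (homogeneousSubmodule (Fin 3) k d).subtype).codRestrict _ fun x => by
      simpa using ((isHomogeneous_X k (2 : Fin 3)).pow j).mul (x.2 : (x : 𝒮).IsHomogeneous d)
  have hle : Submodule.comap (homogeneousSubmodule (Fin 3) k d).subtype (I.restrictScalars k) ≤
      (Submodule.comap (homogeneousSubmodule (Fin 3) k (j + d)).subtype (I.restrictScalars k)).comap mulT :=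
    fun x hx => show (X 2 ^ j : 𝒮) * (x : 𝒮) ∈ I from I.mul_mem_left _ hx
  have hinj : Function.Injective (Submodule.mapQ _ _ mulT hle) := by
    refine LinearMap.ker_eq_bot.mp ((Submodule.eq_bot_iff _).mpr fun z hz => ?_)
    obtain ⟨x, rfl⟩ := Submodule.Quotient.mk_surjective _ z
    rw [LinearMap.mem_ker, Submodule.mapQ_apply, Submodule.Quotient.mk_eq_zero] at hz
    exact (Submodule.Quotient.mk_eq_zero _).mpr (a _ hz)
  obtain ⟨y, hy⟩ := (LinearMap.injective_iff_surjective_of_finrank_eq_finrank (by rw [hd, hjd])).mp hinj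
    (Submodule.Quotient.mk ⟨F, hF⟩)
  obtain ⟨x, rfl⟩ := Submodule.Quotient.mk_surjective _ y
  rw [Submodule.mapQ_apply, Submodule.Quotient.eq] at hy
  exact ⟨x, x.2, hy⟩

/-- The affine count. -/
theorem finrank_affine {f g : 𝒮} {n m : ℕ} (hf : f.IsHomogeneous n) (hg : g.IsHomogeneous m)
    (hf0 : f ≠ 0) (hg0 : g ≠ 0) (hfg : IsRelPrime f g)
    (hT : IsRelPrime (dehom (0 : k) f) (dehom (0 : k) g)) (hg0' : dehom (0 : k) g ≠ 0) :
    Module.finrank k (MvPolynomial (Fin 2) k ⧸
      Ideal.span ({dehom (1 : k) f, dehom (1 : k) g} : Set (MvPolynomial (Fin 2) k))) = n * m := by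
  obtain ⟨d, hd⟩ : ∃ d, d = n + m := ⟨_, rfl⟩
  haveI : ∀ e, Module.Finite k (homogeneousSubmodule (Fin 3) k e) := fun e => (H3CAlg.finrank_homogeneous (k := k) 2 e).1
  let M := fun e => Submodule.comap (homogeneousSubmodule (Fin 3) k e).subtype
    ((Ideal.span ({f, g} : Set 𝒮)).restrictScalars k)
  have hM : ∀ e, n + m ≤ e → Module.finrank k (↥(homogeneousSubmodule (Fin 3) k e) ⧸ M e) = n * m :=
    fun e he => finrank_quotient hf hg hf0 hg0 hfg e he
  let I := Ideal.span ({dehom (1 : k) f, dehom (1 : k) g} : Set (MvPolynomial (Fin 2) k))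
  have hTpow : ∀ (j : ℕ) (a : 𝒮), X 2 ^ j * a ∈ Ideal.span ({f, g} : Set 𝒮) → a ∈ Ideal.span ({f, g} : Set 𝒮) := by
    intro j
    induction j with
    | zero => intro a ha; simpa using ha
    | succ j ih => exact fun a ha => mem_of_X_two_mul_mem hT hg0' (ih _ (by rwa [pow_succ, mul_assoc] at ha))
  have hmap : Ideal.span ({f, g} : Set 𝒮) ≤ Ideal.comap (dehom (1 : k)) I := by
    rw [Ideal.span_le]
    rintro x (rfl | rfl)
    · exact Ideal.subset_span (Set.mem_insert _ _)
    · exact Ideal.subset_span (Set.mem_insert_of_mem _ rfl)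
  have hT1 : dehom (1 : k) (X 2 : 𝒮) = 1 := by simp [dehom]
  let φ : (↥(homogeneousSubmodule (Fin 3) k d) ⧸ M d) →ₗ[k] (MvPolynomial (Fin 2) k ⧸ I) :=
    (M d).liftQ (((Ideal.Quotient.mkₐ k I).comp (dehom (1 : k))).toLinearMap.comp
      (homogeneousSubmodule (Fin 3) k d).subtype) fun x hx => Ideal.Quotient.eq_zero_iff_mem.mpr (hmap hx)
  have hsurj : Function.Surjective φ := by
    intro z
    obtain ⟨p, rfl⟩ := Ideal.Quotient.mk_surjective z
    obtain ⟨F, hF, hFp⟩ := exists_homogenization p (D := p.totalDegree + d) (Nat.le_add_right _ _)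
    obtain ⟨x, hx, hxF⟩ := exists_sub_mem p.totalDegree d (n * m) (hTpow _) (hM d hd.ge)
      (hM (p.totalDegree + d) (by omega)) hF
    refine ⟨Submodule.Quotient.mk ⟨x, hx⟩, ?_⟩
    have h1 := hmap hxF
    rw [Ideal.mem_comap, map_sub, map_mul, map_pow, hT1, one_pow, one_mul, hFp] at h1
    exact Ideal.Quotient.eq.mpr h1
  have hinj : Function.Injective φ := by
    refine LinearMap.ker_eq_bot.mp ((Submodule.eq_bot_iff _).mpr fun x hx => ?_)
    obtain ⟨a, rfl⟩ := Submodule.Quotient.mk_surjective _ x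
    obtain ⟨u, v, huv⟩ := Ideal.mem_span_pair.mp (Ideal.Quotient.eq_zero_iff_mem.mp hx)
    obtain ⟨j, hju, hjv⟩ : ∃ j, u.totalDegree + n ≤ j + d ∧ v.totalDegree + m ≤ j + d :=
      ⟨u.totalDegree + v.totalDegree + n + m, by omega, by omega⟩
    obtain ⟨U, hU, hUu⟩ := exists_homogenization u (D := j + d - n) (by omega)
    obtain ⟨V, hV, hVv⟩ := exists_homogenization v (D := j + d - m) (by omega)
    have hUf : (U * f).IsHomogeneous (j + d) := by
      have := hU.mul hf
      rwa [Nat.sub_add_cancel (by omega)] at this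
    have hVg : (V * g).IsHomogeneous (j + d) := by
      have := hV.mul hg
      rwa [Nat.sub_add_cancel (by omega)] at this
    have hTa : (X 2 ^ j * (a : 𝒮)).IsHomogeneous (j + d) := by
      simpa using ((isHomogeneous_X k (2 : Fin 3)).pow j).mul (a.2 : (a : 𝒮).IsHomogeneous d)
    have h0 : U * f + V * g - X 2 ^ j * (a : 𝒮) = 0 := by
      refine eq_zero_of_dehom_eq_zero (D := j + d) ((hUf.add hVg).sub hTa) ?_
      rw [map_sub, map_add, map_mul, map_mul, map_mul, map_pow, hT1, hUu, hVv, huv, one_pow, one_mul]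
      exact sub_self _
    refine (Submodule.Quotient.mk_eq_zero _).mpr (hTpow j _ ?_)
    show X 2 ^ j * (a : 𝒮) ∈ Ideal.span ({f, g} : Set 𝒮)
    rw [← sub_eq_zero.mp h0]
    exact Ideal.mem_span_pair.mpr ⟨U, V, rfl⟩
  rw [← hM d hd.ge]
  exact (LinearEquiv.ofBijective φ ⟨hinj, hsurj⟩).finrank_eq.symm

end Groth.Agent.H22Alg.BezoutGraded
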