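import Groth.Agent.H22Alg.BiRegGG
import Groth.Agent.H16Derived.ExtSES
import Groth.Agent.H10Coh.ExtPowFree

/-!
# Vanishing for exterior powers of globally generated bundles in dimension at most two

For `O^N ⟶ A` surjective with kernel `K`, the kernel of `Λʲ O^N ⟶ Λʲ A` is a quotient of `K ⊗ Λʲ⁻¹ O^N`.
-/

set_option autoImplicit false
set_option linter.style.haveILetI false
set_option linter.unusedSectionVars false
set_option backward.isDefEq.respectTransparency.types false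
set_option maxHeartbeats 800000

universe u

open CategoryTheory CategoryTheory.Limits AlgebraicGeometry

noncomputable section

namespace Groth.Agent.H22Alg.BiRegExt

open H16Derived H16Derived.KFlat.Stalk BiRegGG

attribute [local instance 10000] H10Coh.hasSheafifyAb H10Coh.hasWeakSheafifyAb H10Coh.hasExtAb H10Coh.enoughInjAb

variable (k : Type u) [Field k] {X : Scheme.{u}} [X.Over (Spec (CommRingCat.of k))]
  [IsProper (X ↘ Spec (CommRingCat.of k))]

include k in
/-- An epimorphism is surjective on top cohomology after tensoring. -/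
theorem van_top_epi {d : ℕ} (hd : topologicalKrullDim X ≤ (d : WithBot ℕ∞)) {P R M : X.Modules} (f : P ⟶ R) [Epi f]
    (hP : Coh.IsQCoh P) (hR : Coh.IsQCoh R) (hM : Coh.IsQCoh M)
    (h : Subsingleton (Coh.HH X (CohB1.tensorMod M P) d)) : Subsingleton (Coh.HH X (CohB1.tensorMod M R) d) := by
  let T := (DCoh.tensorBi (X := X)).obj M
  haveI : PreservesColimitsOfSize.{0, 0} T := by
    haveI := preservesColimitsOfSize_shrink.{0, u, 0, u} T
    infer_instance
  haveI : Epi (T.map f) := inferInstance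
  have hS : (ShortComplex.mk (kernel.ι (T.map f)) (T.map f) (kernel.condition _)).ShortExact :=
    { exact := ShortComplex.exact_kernel _ }
  exact H02CA.VBPn.subsingleton_HH_right k hS d h
    (van_high k (H7Lim.ModExact.isQCoh_kernel (T.map f) (qcoh_tensor hM hP) (qcoh_tensor hM hR)) hd
      (Nat.lt_succ_self d))

include k in
/-- Exterior powers of `O^r` preserve vanishing. -/
theorem van_extPow_free {M : X.Modules} {q : ℕ} (h : Subsingleton (Coh.HH X M q)) :
    ∀ (r p : ℕ) {L : X.Modules}, ExtPow.IsExtPow p (H10Coh.ExtPowFree.F X r) L →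
      Subsingleton (Coh.HH X (CohB1.tensorMod M L) q)
  | r, 0, L, hL => by
    obtain ⟨e⟩ := H22Alg.ExtPowHom.nonempty_iso (H22Alg.KExists.isExtPow_zero (H10Coh.ExtPowFree.F X r)) hL
    exact van_iso ((H10Coh.Tw.rightUnitIso M).symm ≪≫ PicGrp.tensorModIso (Iso.refl M) e) h
  | 0, p + 1, L, hL => by
    have hz := H10Coh.ExtPowFree.isZero_of_lt 0 (p + 1) (Nat.succ_pos p) hL
    exact H10Coh.ExtPowFree.subsingleton_HH_of_isZero
      (((DCoh.tensorBi (X := X)).obj M).map_isZero hz : _) q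
  | r + 1, p + 1, L, hL => by
    obtain ⟨S, hS, rfl, h₁, h₃⟩ := H10Coh.ExtPowFree.exists_seq r p hL
    obtain ⟨e⟩ := H10Coh.ExtPowFree.nonempty_iso_freeMod (X := X) r
    have hfree : FlatMod.IsFinLocFree (H10Coh.ExtPowFree.F X r) :=
      isFinLocFree_of_iso e.symm (H22Alg.KModel.finLocFree_free r)
    exact H7Flat.CohDim.subsingleton_HH_mid
      (shortExact_tensor_of_isFlat M hS
        (isFlat_of_isFinLocFree (H22Alg.ExtPowHom.finLocFree_of_isExtPow hfree h₃))) q
      (van_extPow_free h r (p + 1) h₁) (van_extPow_free h r p h₃)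

/-- A globally generated bundle is a quotient of `F X N` (the sum `O^N` built one summand at a time). -/
theorem exists_epi_F [IsNoetherian X] {A : X.Modules} (hA : Coh.IsCoh A) (hgg : Curv2.IsGloballyGenerated A) :
    ∃ (N : ℕ) (φ : H10Coh.ExtPowFree.F X N ⟶ A), Epi φ := by
  obtain ⟨N, φ, hφ⟩ := H29CurveVan.exists_epi_freeMod hA hgg
  obtain ⟨e⟩ := H10Coh.ExtPowFree.nonempty_iso_freeMod (X := X) N
  exact ⟨N, e.hom ≫ φ, inferInstance⟩

include k in
/-- The exterior powers `Λʲ⁺¹ A` of a globally generated bundle. -/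
theorem van_extPow (hd : topologicalKrullDim X ≤ ((2 : ℕ) : WithBot ℕ∞)) {A M : X.Modules}
    (hA : FlatMod.IsFinLocFree A) (hgg : Curv2.IsGloballyGenerated A) (hM : Coh.IsQCoh M)
    (h2 : Subsingleton (Coh.HH X M 2)) (j : ℕ) {L : X.Modules} (hL : ExtPow.IsExtPow (j + 1) A L) :
    Subsingleton (Coh.HH X (CohB1.tensorMod M L) 2) ∧
      (Subsingleton (Coh.HH X M 1) → Subsingleton (Coh.HH X (CohB1.tensorMod M A) 1) →
        Subsingleton (Coh.HH X (CohB1.tensorMod M L) 1)) := by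
  haveI := H28Int.isNoetherian k (X := X)
  obtain ⟨N, φ, hφ⟩ := exists_epi_F (isCoh_of_isFinLocFree hA) hgg
  have hFree : FlatMod.IsFinLocFree (H10Coh.ExtPowFree.F X N) := by
    obtain ⟨e⟩ := H10Coh.ExtPowFree.nonempty_iso_freeMod (X := X) N
    exact isFinLocFree_of_iso e.symm (H22Alg.KModel.finLocFree_free N)
  let S : ShortComplex X.Modules := ShortComplex.mk (kernel.ι φ) φ (kernel.condition φ)
  have hS : S.ShortExact := { exact := ShortComplex.exact_kernel _ }
  have hKq : Coh.IsQCoh S.X₁ := H7Lim.ModExact.isQCoh_kernel φ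
    (isCoh_of_isFinLocFree hFree).1 (isCoh_of_isFinLocFree hA).1
  choose LA hLA using fun i => H22Alg.ExtPowSheaf.exists_isExtPow i hKq
  choose LE hLE using fun i => H22Alg.ExtPowSheaf.exists_isExtPow i
    (show Coh.IsQCoh S.X₂ from (isCoh_of_isFinLocFree hFree).1)
  choose LC hLC using fun i => H22Alg.ExtPowSheaf.exists_isExtPow i
    (show Coh.IsQCoh S.X₃ from (isCoh_of_isFinLocFree hA).1)
  obtain ⟨PA, rfl⟩ := ExtSES.exists_pow LA hLA
  obtain ⟨PE, rfl⟩ := ExtSES.exists_pow LE hLE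
  obtain ⟨PC, rfl⟩ := ExtSES.exists_pow LC hLC
  have hEf : ∀ i, FlatMod.IsFinLocFree (PE.obj i) := fun i =>
    H22Alg.ExtPowHom.finLocFree_of_isExtPow hFree (hLE i)
  have hCf : ∀ i, FlatMod.IsFinLocFree (PC.obj i) := fun i =>
    H22Alg.ExtPowHom.finLocFree_of_isExtPow hA (hLC i)
  let ν := ExtSES.mu PA PE (0 + 1) j (j + 1) (by omega)
  obtain ⟨θ, p, w, hex⟩ := ExtSES.step PA PE PC hS hA hFree 0 (j + 1) (j + 1) (Nat.zero_add _) (hCf _) ν
    (ExtSES.mu_succ PA PE 0 (j + 1) j (j + 1) (Nat.zero_add _) (by omega))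
    (fun ψ hψ => ExtSES.mu_psi PA PE PC hS 0 (j + 1) j (j + 1) (Nat.zero_add _) (by omega) ψ hψ)
    (fun b' h' => by
      obtain rfl : b' = j := by omega
      exact cokernel.condition _)
  haveI := ExtSES.epi_mu_zero PA PE (j + 1)
  haveI : Mono θ := hex.mono_f
  haveI : Epi θ := hex.exact.epi_f ((isZero_cokernel_of_epi _).eq_of_tgt _ _)
  haveI : IsIso θ := isIso_of_mono_of_epi θ
  obtain ⟨e₀⟩ := H22Alg.ExtPowHom.nonempty_iso (hLA 0) (H22Alg.KExists.isExtPow_zero S.X₁)
  obtain ⟨e₁⟩ := H22Alg.ExtPowHom.nonempty_iso (hLC (j + 1)) hL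
  let ec : cokernel ν ≅ L :=
    (asIso θ).symm ≪≫ PicGrp.tensorModIso e₀ e₁ ≪≫ H10Coh.Tw.leftUnitIso L
  have hCq : Coh.IsQCoh (cokernel ν) :=
    (SheafOfModules.isQuasicoherent.{u} (R := X.ringCatSheaf)).prop_of_iso ec.symm
      (H22Alg.ExtPowHom.isQCoh_of_isExtPow (isCoh_of_isFinLocFree hA).1 hL)
  have hCflat : FlatMod.IsFlat (cokernel ν) :=
    isFlat_of_isFinLocFree (isFinLocFree_of_iso ec.symm (H22Alg.ExtPowHom.finLocFree_of_isExtPow hA hL))
  let S' : ShortComplex X.Modules :=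
    ShortComplex.mk (kernel.ι (cokernel.π ν)) (cokernel.π ν) (kernel.condition _)
  have hS' : S'.ShortExact := { exact := ShortComplex.exact_kernel _ }
  have hIq : Coh.IsQCoh S'.X₁ := H7Lim.ModExact.isQCoh_kernel _ (isCoh_of_isFinLocFree (hEf _)).1 hCq
  have hMS' := shortExact_tensor_of_isFlat M hS' hCflat
  have eL : CohB1.tensorMod M (cokernel ν) ≅ CohB1.tensorMod M L := PicGrp.tensorModIso (Iso.refl M) ec
  refine ⟨van_iso eL (H02CA.VBPn.subsingleton_HH_right k hMS' 2 (van_extPow_free k h2 N (j + 1) (hLE _))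
    (van_high k (qcoh_tensor hM hIq) hd (Nat.lt_succ_self 2))), fun h1 hA1 => ?_⟩
  refine van_iso eL (H02CA.VBPn.subsingleton_HH_right k hMS' 1 (van_extPow_free k h1 N (j + 1) (hLE _)) ?_)
  obtain ⟨eK⟩ := H22Alg.ExtPowHom.nonempty_iso (H22Alg.KExists.isExtPow_one S.X₁) (hLA (0 + 1))
  have hMA : (S.map ((DCoh.tensorBi (X := X)).obj M)).ShortExact :=
    shortExact_tensor_of_isFlat M hS (isFlat_of_isFinLocFree hA)
  obtain ⟨eF⟩ := H22Alg.ExtPowHom.nonempty_iso (H22Alg.KExists.isExtPow_one S.X₂) (hLE 1)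
  have hK2 : Subsingleton (Coh.HH X (CohB1.tensorMod M S.X₁) 2) :=
    H7Flat.CohDim.subsingleton_HH_left hMA 1
      (van_iso (PicGrp.tensorModIso (Iso.refl M) eF.symm) (van_extPow_free k h2 N 1 (hLE 1))) hA1
  have hAq : Coh.IsQCoh (PA.obj (0 + 1)) :=
    H22Alg.ExtPowHom.isQCoh_of_isExtPow hKq (hLA _)
  haveI : Epi (Abelian.factorThruImage ν) := inferInstance
  refine van_top_epi k hd (Abelian.factorThruImage ν) (qcoh_tensor hAq (isCoh_of_isFinLocFree (hEf _)).1)
    hIq hM ?_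
  exact van_iso
    (PicGrp.tensorModIso (PicGrp.tensorModIso (Iso.refl M) eK) (Iso.refl _) ≪≫ H10Coh.Tw.assoc M _ _)
    (van_extPow_free k hK2 N j (hLE j))

end Groth.Agent.H22Alg.BiRegExt
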