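import Groth.Agent.H29CurveVan.GloballyGen
import Groth.Agent.H22Alg.KModel
import Groth.Agent.H7Flat.CohDim.AffineStrat
import Groth.Agent.H02CA.VBPn.Extend
import Groth.Agent.H16Derived.KFlat.SheafTensor
import Groth.Agent.H10Coh.CurveBdd.Regular
import Groth.Agent.H10Coh.TensorTilde
import Groth.Agent.H10Coh.TensorBasics
import Groth.Agent.H7Lim.ModExact

/-!
# Vanishing for tensor products with globally generated modules

On a proper scheme of dimension at most two, `H²` of `M` vanishing implies the same for `Q ⊗ M` with `Q`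
globally generated; and `H¹` vanishing of `A ⊗ M`, `B ⊗ M` (`A`, `B` globally generated, `A` flat) gives
that of `A ⊗ B ⊗ M`.
-/

set_option autoImplicit false
set_option linter.style.haveILetI false
set_option linter.unusedSectionVars false
set_option backward.isDefEq.respectTransparency.types false

universe u

open CategoryTheory CategoryTheory.Limits AlgebraicGeometry

namespace Groth.Agent.H22Alg.BiRegGG

attribute [local instance 10000] H10Coh.hasSheafifyAb H10Coh.hasWeakSheafifyAb H10Coh.hasExtAb H10Coh.enoughInjAb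

variable (k : Type u) [Field k] {X : Scheme.{u}} [X.Over (Spec (CommRingCat.of k))]
  [IsProper (X ↘ Spec (CommRingCat.of k))]

/-- Transport of vanishing along an isomorphism. -/
theorem van_iso {M N : X.Modules} (e : M ≅ N) {q : ℕ} (h : Subsingleton (Coh.HH X M q)) :
    Subsingleton (Coh.HH X N q) :=
  H10Coh.subsingleton_HH_of_iso e q h

include k in
/-- Above the dimension, cohomology of quasi-coherent modules vanishes. -/
theorem van_high {M : X.Modules} (hM : Coh.IsQCoh M) {d : ℕ}
    (hd : topologicalKrullDim X ≤ (d : WithBot ℕ∞)) {p : ℕ} (hp : d < p) : Subsingleton (Coh.HH X M p) := by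
  refine H10Coh.CurveBdd.subsingleton_HH_of_dim (k := k) hM isClosed_univ (Set.subset_univ _) ?_ hp
  exact (topologicalKrullDim_subspace_le X Set.univ).trans hd

theorem qcoh_tensor {M N : X.Modules} (hM : Coh.IsQCoh M) (hN : Coh.IsQCoh N) :
    Coh.IsQCoh (CohB1.tensorMod M N) :=
  haveI : M.IsQuasicoherent := hM
  haveI : N.IsQuasicoherent := hN
  H10Coh.TT.isQCoh_tensorMod M N

include k in
/-- The tensor product of a free module with an acyclic one is acyclic. -/
theorem van_tensor_free (M : X.Modules) {q : ℕ} (h : Subsingleton (Coh.HH X M q)) (N : ℕ) :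
    Subsingleton (Coh.HH X (((DCoh.tensorBi (X := X)).obj M).obj (FlatMod.freeMod X N)) q) := by
  obtain ⟨ι, π, htot⟩ := H29CurveVan.exists_decomposition_free (X := X) N
  let T := (DCoh.tensorBi (X := X)).obj M
  refine H29CurveVan.subsingleton_of_decomposition (k := k) (A := T.obj (Coh.structureModule X))
    (fun i => T.map (ι i)) (fun i => T.map (π i)) ?_ (van_iso (H10Coh.Tw.rightUnitIso M).symm h)
  simp only [← T.map_comp, ← T.map_sum, htot, T.map_id]
  rfl

include k in
/-- `H^d` of a tensor product with a globally generated coherent module, in top dimension. -/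
theorem van_top_tensor_gg {d : ℕ} (hd : topologicalKrullDim X ≤ (d : WithBot ℕ∞)) {Q M : X.Modules}
    (hQ : Coh.IsCoh Q) (hgg : Curv2.IsGloballyGenerated Q) (hM : Coh.IsQCoh M)
    (h : Subsingleton (Coh.HH X M d)) : Subsingleton (Coh.HH X (CohB1.tensorMod M Q) d) := by
  haveI := H28Int.isNoetherian k (X := X)
  obtain ⟨N, φ, hφ⟩ := H29CurveVan.exists_epi_freeMod hQ hgg
  let T := (DCoh.tensorBi (X := X)).obj M
  haveI : PreservesColimitsOfSize.{0, 0} T := by
    haveI := preservesColimitsOfSize_shrink.{0, u, 0, u} T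
    infer_instance
  haveI : Epi (T.map φ) := inferInstance
  have hS : (ShortComplex.mk (kernel.ι (T.map φ)) (T.map φ) (kernel.condition _)).ShortExact :=
    { exact := ShortComplex.exact_kernel _ }
  have hq : ∀ {F : X.Modules}, Coh.IsQCoh F → Coh.IsQCoh (T.obj F) := fun hF => qcoh_tensor hM hF
  have hfree : Coh.IsQCoh (FlatMod.freeMod X N) :=
    (H16Derived.KFlat.Stalk.isCoh_of_isFinLocFree (H22Alg.KModel.finLocFree_free N)).1
  exact H02CA.VBPn.subsingleton_HH_right k hS d (van_tensor_free k M h N)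
    (van_high k (H7Lim.ModExact.isQCoh_kernel (T.map φ) (hq hfree) (hq hQ.1)) hd (Nat.lt_succ_self d))

include k in
/-- The product step in dimension at most two. -/
theorem van_one_tensor_gg (hd : topologicalKrullDim X ≤ ((2 : ℕ) : WithBot ℕ∞)) {A B M : X.Modules}
    (hA : Coh.IsCoh A) (hAf : FlatMod.IsFlat A) (hAgg : Curv2.IsGloballyGenerated A)
    (hB : Coh.IsCoh B) (hBgg : Curv2.IsGloballyGenerated B) (hM : Coh.IsQCoh M)
    (h2 : Subsingleton (Coh.HH X M 2)) (hA1 : Subsingleton (Coh.HH X (CohB1.tensorMod M A) 1))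
    (hB1 : Subsingleton (Coh.HH X (CohB1.tensorMod M B) 1)) :
    Subsingleton (Coh.HH X (CohB1.tensorMod (CohB1.tensorMod M B) A) 1) := by
  haveI := H28Int.isNoetherian k (X := X)
  obtain ⟨N, φ, hφ⟩ := H29CurveVan.exists_epi_freeMod hA hAgg
  have hS : (ShortComplex.mk (kernel.ι φ) φ (kernel.condition _)).ShortExact :=
    { exact := ShortComplex.exact_kernel _ }
  let K := kernel φ
  have hK : Coh.IsQCoh K := H7Lim.ModExact.isQCoh_kernel φ
    (H16Derived.KFlat.Stalk.isCoh_of_isFinLocFree (H22Alg.KModel.finLocFree_free N)).1 hA.1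
  have h0 := H16Derived.KFlat.Stalk.shortExact_tensor_of_isFlat M hS hAf
  have hK2 : Subsingleton (Coh.HH X (CohB1.tensorMod M K) 2) :=
    H7Flat.CohDim.subsingleton_HH_left h0 1 (van_tensor_free k M h2 N) hA1
  have hBK2 : Subsingleton (Coh.HH X (CohB1.tensorMod (CohB1.tensorMod M B) K) 2) :=
    van_iso (H10Coh.Tw.assoc M K B ≪≫ PicGrp.tensorModIso (Iso.refl M) (H10Coh.Tw.commIso K B) ≪≫
        (H10Coh.Tw.assoc M B K).symm)
      (van_top_tensor_gg k hd hB hBgg (qcoh_tensor hM hK) hK2)
  exact H02CA.VBPn.subsingleton_HH_right k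
    (H16Derived.KFlat.Stalk.shortExact_tensor_of_isFlat (CohB1.tensorMod M B) hS hAf) 1
    (van_tensor_free k _ hB1 N) hBK2

end Groth.Agent.H22Alg.BiRegGG
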