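import Groth.Prelude.Def_W4c3multigrregularBiProj
import Groth.Agent.H22Alg.BiRegGG
import Groth.Agent.H22Alg.CMField
import Groth.Agent.H22Alg.ESZ
import Groth.Agent.H10Coh.AffineAmple
import Groth.Agent.S7635
import Groth.Agent.S4643
import Groth.Agent.S10829
import Groth.Agent.H22Alg.PnVan

/-!
# The line bundles `O(a, b)` on a product of projective spaces

Additivity, and on `P¹ × P¹` the dimension and the vanishing of the cohomology of `O(-1, b)`, `O(a, -1)`.
-/

set_option autoImplicit false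
set_option linter.style.haveILetI false
set_option linter.unusedSectionVars false
set_option backward.isDefEq.respectTransparency.types false
set_option maxHeartbeats 800000

universe u

open CategoryTheory CategoryTheory.Limits AlgebraicGeometry
open scoped TensorProduct

namespace Groth.Agent.H22Alg.BiRegP1

open W4c3multigrregular BiRegGG

attribute [local instance 10000] H10Coh.hasSheafifyAb H10Coh.hasWeakSheafifyAb H10Coh.hasExtAb H10Coh.enoughInjAb

variable {k : Type u} [Field k] {r s : ℕ}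

/-- `(A ⊗ B) ⊗ (C ⊗ D) ≅ (A ⊗ C) ⊗ (B ⊗ D)`. -/
noncomputable def interchange {X : Scheme.{u}} (A B C D : X.Modules) :
    CohB1.tensorMod (CohB1.tensorMod A B) (CohB1.tensorMod C D) ≅
      CohB1.tensorMod (CohB1.tensorMod A C) (CohB1.tensorMod B D) :=
  H10Coh.Tw.assoc A B _ ≪≫
    PicGrp.tensorModIso (Iso.refl A) ((H10Coh.Tw.assoc B C D).symm ≪≫
      PicGrp.tensorModIso (H10Coh.Tw.commIso B C) (Iso.refl D) ≪≫ H10Coh.Tw.assoc C B D) ≪≫
    (H10Coh.Tw.assoc A C _).symm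

theorem line_add {a b a₁ b₁ a₂ b₂ : ℤ} (ha : a₁ + a₂ = a) (hb : b₁ + b₂ = b) :
    Nonempty (lineBundle r s k a b ≅
      CohB1.tensorMod (lineBundle r s k a₁ b₁) (lineBundle r s k a₂ b₂)) := by
  subst ha hb
  obtain ⟨e₁⟩ := ((H10Coh.Stab.isTwistFamily_projSpace r k).pullback (biProj.fst r s k)).add a₁ a₂
  obtain ⟨e₂⟩ := ((H10Coh.Stab.isTwistFamily_projSpace s k).pullback (biProj.snd r s k)).add b₁ b₂
  exact ⟨PicGrp.tensorModIso e₁.symm e₂.symm ≪≫ interchange _ _ _ _⟩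

instance isProper_biProj : IsProper (biProj r s k ↘ Spec (CommRingCat.of k)) := by
  change IsProper (biProj.fst r s k ≫ CohB1.ProjSpace.toSpec r k)
  infer_instance

theorem qcoh_twist (a : ℤ) : Coh.IsQCoh (Twist.twistProjSpace r k a) := by
  haveI := H28Int.isNoetherian k (X := CohB1.ProjSpace r k)
  exact (H11Ample.isCoh_of_isInvertible (ESZ.hinvertible r k a)).1

theorem coh_line (a b : ℤ) : Coh.IsCoh (lineBundle r s k a b) := by
  haveI := H28Int.isNoetherian k (X := CohB1.ProjSpace r k)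
  haveI := H28Int.isNoetherian k (X := CohB1.ProjSpace s k)
  haveI := H28Int.isNoetherian k (X := biProj r s k)
  exact H10Coh.TT.isCoh_tensorMod
    (H11Ample.isCoh_of_isInvertible (H11Ample.isInvertible_pullback (biProj.fst r s k) (ESZ.hinvertible r k a)))
    (H11Ample.isCoh_of_isInvertible (H11Ample.isInvertible_pullback (biProj.snd r s k) (ESZ.hinvertible s k b)))

theorem dim_le : topologicalKrullDim ↥(biProj 1 1 k) ≤ ((2 : ℕ) : WithBot ℕ∞) := by
  rw [S4643.result (CohB1.ProjSpace.toSpec 1 k) (CohB1.ProjSpace.toSpec 1 k), S10829.result k 1]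
  exact_mod_cast le_rfl

theorem van_twist_neg_one (q : ℕ) :
    Subsingleton (Coh.HH (CohB1.ProjSpace 1 k) (Twist.twistProjSpace 1 k (-1)) q) :=
  H10Coh.Pn.subsingleton_HH_Od (R := k) q (by omega) (by omega)

/-- All cohomology of `O(a, b)` on `P¹ × P¹` vanishes when `a = -1` or `b = -1`. -/
theorem van_line {a b : ℤ} (hab : a = -1 ∨ b = -1) (n : ℕ) :
    Subsingleton (Coh.HH (biProj 1 1 k) (lineBundle 1 1 k a b) n) := by
  haveI := H28Int.isNoetherian k (X := CohB1.ProjSpace 1 k)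
  obtain ⟨e⟩ := S7635.result k (CohB1.ProjSpace 1 k) (CohB1.ProjSpace 1 k) _ (qcoh_twist (r := 1) a) _
    (qcoh_twist (r := 1) b) n
  have key : ∀ p : Fin (n + 1), Subsingleton (Coh.HH (CohB1.ProjSpace 1 k) (Twist.twistProjSpace 1 k a) (p : ℕ)
      ⊗[k] Coh.HH (CohB1.ProjSpace 1 k) (Twist.twistProjSpace 1 k b) (n - (p : ℕ))) := fun p => by
    refine subsingleton_of_forall_eq 0 fun z => ?_
    induction z using TensorProduct.induction_on with
    | zero => rfl
    | tmul x y =>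
      rcases hab with h | h <;> subst h
      · rw [Subsingleton.elim (h := van_twist_neg_one p) x 0, TensorProduct.zero_tmul]
      · rw [Subsingleton.elim (h := van_twist_neg_one (n - p)) y 0, TensorProduct.tmul_zero]
    | add x y hx hy => rw [hx, hy, add_zero]
  exact e.symm.toEquiv.subsingleton

theorem finLocFree_twist {G : (biProj r s k).Modules} (hG : FlatMod.IsFinLocFree G) (a b : ℤ) :
    FlatMod.IsFinLocFree (twistBi r s k G a b) := by
  have h₁ : PicF.IsInvertible ((Scheme.Modules.pullback (biProj.fst r s k)).obj (Twist.twistProjSpace r k a)) :=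
    H11Ample.isInvertible_pullback _ (ESZ.hinvertible r k a)
  have h₂ : PicF.IsInvertible ((Scheme.Modules.pullback (biProj.snd r s k)).obj (Twist.twistProjSpace s k b)) :=
    H11Ample.isInvertible_pullback _ (ESZ.hinvertible s k b)
  have h := H10Coh.Tw.isFinLocFree_tensorMod (H22Alg.PnVan.finLocFree_of_inv h₁)
    (H22Alg.PnVan.finLocFree_of_inv h₂)
  exact H10Coh.Tw.isFinLocFree_tensorMod hG h

/-- `G(a₁ + a₂, b₁ + b₂) ≅ O(a₂, b₂) ⊗ G(a₁, b₁)`. -/
theorem nonempty_twist_one (G : (biProj r s k).Modules) {a b a₁ b₁ a₂ b₂ : ℤ} (ha : a₁ + a₂ = a)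
    (hb : b₁ + b₂ = b) : Nonempty (twistBi r s k G a b ≅
      CohB1.tensorMod (lineBundle r s k a₂ b₂) (twistBi r s k G a₁ b₁)) := by
  obtain ⟨e⟩ := line_add (r := r) (s := s) (k := k) ha hb
  exact ⟨PicGrp.tensorModIso (Iso.refl G) e ≪≫ (H10Coh.Tw.assoc G _ _).symm ≪≫ H10Coh.Tw.commIso _ _⟩

/-- `(G₁ ⊗ G₂)(a, b) ≅ (O(a₃, b₃) ⊗ G₂(a₂, b₂)) ⊗ G₁(a₁, b₁)`. -/
theorem nonempty_twist_tensor (G₁ G₂ : (biProj r s k).Modules) {a b a₁ b₁ a₂ b₂ a₃ b₃ a' b' : ℤ}
    (ha : a₁ + a' = a) (hb : b₁ + b' = b) (ha' : a₂ + a₃ = a') (hb' : b₂ + b₃ = b') :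
    Nonempty (twistBi r s k (CohB1.tensorMod G₁ G₂) a b ≅
      CohB1.tensorMod (CohB1.tensorMod (lineBundle r s k a₃ b₃) (twistBi r s k G₂ a₂ b₂)) (twistBi r s k G₁ a₁ b₁)) := by
  obtain ⟨e⟩ := line_add (r := r) (s := s) (k := k) ha hb
  obtain ⟨e'⟩ := nonempty_twist_one G₂ ha' hb'
  exact ⟨PicGrp.tensorModIso (Iso.refl _) e ≪≫ interchange G₁ G₂ _ _ ≪≫
    PicGrp.tensorModIso (Iso.refl _) e' ≪≫ H10Coh.Tw.commIso _ _⟩

theorem invertible_line (a b : ℤ) : PicF.IsInvertible (lineBundle r s k a b) :=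
  H11Ample.isInvertible_tensor (H11Ample.isInvertible_pullback (biProj.fst r s k) (ESZ.hinvertible r k a))
    (H11Ample.isInvertible_pullback (biProj.snd r s k) (ESZ.hinvertible s k b))

theorem line_zero : Nonempty (lineBundle r s k 0 0 ≅ Coh.structureModule (biProj r s k)) := by
  obtain ⟨e₁⟩ := ((H10Coh.Stab.isTwistFamily_projSpace r k).pullback (biProj.fst r s k)).zero
  obtain ⟨e₂⟩ := ((H10Coh.Stab.isTwistFamily_projSpace s k).pullback (biProj.snd r s k)).zero
  exact ⟨PicGrp.tensorModIso e₁ e₂ ≪≫ H10Coh.Tw.leftUnitIso _⟩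

/-- The powers of `O(p, q)`. -/
theorem line_pow (p q : ℤ) : ∀ j : ℕ,
    Nonempty (CohB1.tensorPow (lineBundle r s k p q) j ≅ lineBundle r s k ((j : ℤ) * p) ((j : ℤ) * q))
  | 0 => by
    simp only [Nat.cast_zero, zero_mul]
    obtain ⟨e⟩ := line_zero (r := r) (s := s) (k := k)
    exact ⟨e.symm⟩
  | j + 1 => by
    obtain ⟨e⟩ := line_pow p q j
    obtain ⟨e'⟩ := line_add (r := r) (s := s) (k := k)
      (show (j : ℤ) * p + p = ((j + 1 : ℕ) : ℤ) * p by push_cast; ring)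
      (show (j : ℤ) * q + q = ((j + 1 : ℕ) : ℤ) * q by push_cast; ring)
    exact ⟨PicGrp.tensorModIso e (Iso.refl _) ≪≫ e'.symm⟩

/-- `H²(P¹ × P¹, O(a, b)) = 0` when `a ≥ -1` or `b ≥ -1`. -/
theorem van_two {a b : ℤ} (hab : -1 ≤ a ∨ -1 ≤ b) :
    Subsingleton (Coh.HH (biProj 1 1 k) (lineBundle 1 1 k a b) 2) := by
  haveI := H28Int.isNoetherian k (X := CohB1.ProjSpace 1 k)
  obtain ⟨e⟩ := S7635.result k (CohB1.ProjSpace 1 k) (CohB1.ProjSpace 1 k) _ (qcoh_twist (r := 1) a) _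
    (qcoh_twist (r := 1) b) 2
  have hv : ∀ (c : ℤ) (i : ℕ), (2 ≤ i ∨ i = 1 ∧ -1 ≤ c) →
      Subsingleton (Coh.HH (CohB1.ProjSpace 1 k) (Twist.twistProjSpace 1 k c) i) := fun c i h =>
    H10Coh.Pn.subsingleton_HH_Od (R := k) i (by omega) (by omega)
  have key : ∀ p : Fin (2 + 1), Subsingleton (Coh.HH (CohB1.ProjSpace 1 k) (Twist.twistProjSpace 1 k a) (p : ℕ)
      ⊗[k] Coh.HH (CohB1.ProjSpace 1 k) (Twist.twistProjSpace 1 k b) (2 - (p : ℕ))) := fun p => by
    refine subsingleton_of_forall_eq 0 fun z => ?_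
    induction z using TensorProduct.induction_on with
    | zero => rfl
    | tmul x y =>
      have hp := p.2
      by_cases h : 2 ≤ (p : ℕ) ∨ (p : ℕ) = 1 ∧ -1 ≤ a
      · rw [Subsingleton.elim (h := hv a p h) x 0, TensorProduct.zero_tmul]
      · rw [Subsingleton.elim (h := hv b (2 - p) (by omega)) y 0, TensorProduct.tmul_zero]
    | add x y hx hy => rw [hx, hy, add_zero]
  exact e.symm.toEquiv.subsingleton

end Groth.Agent.H22Alg.BiRegP1
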