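import Mathlib

/-!
Counting connected components through families of pairwise disjoint clopen subsets.
-/

universe u

namespace Groth.Agent.H22Alg

/-- A space in which disjoint families of nonempty clopens have at most `d` members has at most `d`
connected components. -/
theorem connectedComponents_card_le {X : Type u} [TopologicalSpace X] {d : ℕ}
    (h : ∀ (m : ℕ) (C : Fin m → Set X), (∀ i, IsClopen (C i)) → Pairwise (fun i j => Disjoint (C i) (C j)) →
      (∀ i, (C i).Nonempty) → m ≤ d) :
    Finite (ConnectedComponents X) ∧ Nat.card (ConnectedComponents X) ≤ d := by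
  classical
  let P : ℕ → Prop := fun m => ∃ C : Fin m → Set X, (∀ i, IsClopen (C i)) ∧
    Pairwise (fun i j => Disjoint (C i) (C j)) ∧ (∀ i, (C i).Nonempty) ∧ ∀ x, ∃ i, x ∈ C i
  have hbdd : ∀ m, P m → m ≤ d := fun m ⟨C, hc, hd, hn, _⟩ => h m C hc hd hn
  rcases isEmpty_or_nonempty X with hX | hX
  · have : IsEmpty (ConnectedComponents X) :=
      ⟨fun c => hX.false (ConnectedComponents.surjective_coe c).choose⟩
    exact ⟨inferInstance, by simp⟩
  have hP1 : P 1 := ⟨fun _ => Set.univ, fun _ => isClopen_univ, fun i j hij => absurd (Subsingleton.elim i j) hij,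
    fun _ => Set.univ_nonempty, fun x => ⟨0, trivial⟩⟩
  set m := Nat.findGreatest P d with hm
  have hPm : P m := Nat.findGreatest_spec (m := 1) (hbdd 1 hP1) hP1
  have hmax : ∀ k, m < k → ¬ P k := fun k hk hPk =>
    Nat.findGreatest_is_greatest hk (hbdd k hPk) hPk
  obtain ⟨C, hc, hdisj, hne, hcov⟩ := hPm
  have hconn : ∀ i, IsPreconnected (C i) := by
    intro i
    by_contra hcon
    rw [isPreconnected_iff_preconnectedSpace, preconnectedSpace_iff_clopen] at hcon
    push_neg at hcon
    obtain ⟨s, hs, hs0, hs1⟩ := hcon
    have hclemb : IsClopen (Subtype.val '' s) :=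
      ⟨(hc i).1.isClosedMap_subtype_val _ hs.1, (hc i).2.isOpenMap_subtype_val _ hs.2⟩
    set U := Subtype.val '' s with hU
    have hUC : U ⊆ C i := by
      rintro _ ⟨x, -, rfl⟩; exact x.2
    let D : Fin (m + 1) → Set X := Fin.snoc (Function.update C i U) (C i \ U)
    have hsub : ∀ j, Function.update C i U j ⊆ C j := fun j => by
      rcases eq_or_ne j i with rfl | hj
      · rw [Function.update_self]; exact hUC
      · rw [Function.update_of_ne hj]
    have hlast : ∀ j, Disjoint (Function.update C i U j) (C i \ U) := fun j => by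
      rcases eq_or_ne j i with rfl | hj
      · rw [Function.update_self]; exact Set.disjoint_sdiff_right
      · rw [Function.update_of_ne hj]; exact (hdisj hj).mono_right Set.sdiff_subset
    refine hmax (m + 1) (Nat.lt_succ_self m) ⟨D, ?_, ?_, ?_, ?_⟩
    · intro j
      refine Fin.lastCases ?_ (fun j => ?_) j
      · simp only [D, Fin.snoc_last]; rw [Set.sdiff_eq]; exact IsClopen.inter (hc i) hclemb.compl
      · simp only [D, Fin.snoc_castSucc]
        rcases eq_or_ne j i with rfl | hj
        · rw [Function.update_self]; exact hclemb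
        · rw [Function.update_of_ne hj]; exact hc j
    · intro a
      refine Fin.lastCases ?_ (fun a => ?_) a <;> intro b <;> refine Fin.lastCases ?_ (fun b => ?_) b <;>
        intro hab <;> simp only [D, Fin.snoc_last, Fin.snoc_castSucc]
      · exact absurd rfl hab
      · exact (hlast b).symm
      · exact hlast a
      · exact (hdisj fun e => hab (congrArg _ e)).mono (hsub a) (hsub b)
    · intro j
      refine Fin.lastCases ?_ (fun j => ?_) j
      · simp only [D, Fin.snoc_last]
        obtain ⟨x, hx⟩ := (Set.ne_univ_iff_exists_notMem s).mp hs1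
        exact ⟨x, x.2, fun ⟨y, hy, hyx⟩ => hx (Subtype.ext hyx ▸ hy)⟩
      · simp only [D, Fin.snoc_castSucc]
        rcases eq_or_ne j i with rfl | hj
        · rw [Function.update_self]; exact hs0.image _
        · rw [Function.update_of_ne hj]; exact hne j
    · intro x
      obtain ⟨j, hj⟩ := hcov x
      rcases eq_or_ne j i with rfl | hne'
      · by_cases hx : x ∈ U
        · exact ⟨Fin.castSucc j, by simp only [D, Fin.snoc_castSucc, Function.update_self]; exact hx⟩
        · exact ⟨Fin.last m, by simp only [D, Fin.snoc_last]; exact ⟨hj, hx⟩⟩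
      · exact ⟨Fin.castSucc j, by simp only [D, Fin.snoc_castSucc, Function.update_of_ne hne']; exact hj⟩
  let r : Fin m → ConnectedComponents X := fun i => ((hne i).some : X)
  have hr : Function.Surjective r := by
    intro c
    obtain ⟨x, rfl⟩ := ConnectedComponents.surjective_coe c
    obtain ⟨i, hi⟩ := hcov x
    exact ⟨i, ConnectedComponents.coe_eq_coe'.mpr
      ((hconn i).subset_connectedComponent hi (hne i).some_mem)⟩
  exact ⟨Finite.of_surjective r hr,
    ((Nat.card_le_card_of_surjective r hr).trans_eq (Nat.card_fin m)).trans (Nat.findGreatest_le d)⟩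

end Groth.Agent.H22Alg
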