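import Groth.Prelude.Def_CAlg
import Groth.Prelude.Def_EGA4b
import Groth.Agent.H4Depth.DepthLemmas
import Groth.Agent.H4Depth.SkFree
import Mathlib.RingTheory.Ideal.AssociatedPrime.Finiteness
import Mathlib.RingTheory.Ideal.KrullsHeightTheorem
import Mathlib.RingTheory.Flat.Basic
import Mathlib.LinearAlgebra.TensorProduct.Quotient
import Mathlib.RingTheory.Artinian.Ring
import Mathlib.RingTheory.Spectrum.Prime.Basic

/-!
A criterion for flatness over an Artinian local ring from flatness in codimension one and `(S₂)`.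
-/

universe u

open TensorProduct
open scoped Pointwise

namespace Groth.Agent.H22Alg.CodimOne

section Artin

variable {A : Type u} [CommRing A] [IsArtinianRing A] [IsLocalRing A]

theorem exists_socle {J : Ideal A} (hJ : J ≠ ⊤) :
    ∃ e : A, e ∉ J ∧ ∀ a ∈ IsLocalRing.maximalIdeal A, a * e ∈ J := by
  classical
  set m := IsLocalRing.maximalIdeal A
  have hnil : IsNilpotent m := by
    have := IsArtinianRing.isNilpotent_jacobson_bot (R := A)
    rwa [IsLocalRing.jacobson_eq_maximalIdeal ⊥ bot_ne_top] at this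
  have hex : ∃ n, m ^ n ≤ J := by obtain ⟨n, hn⟩ := hnil; exact ⟨n, hn.le.trans bot_le⟩
  have hn0 : Nat.find hex ≠ 0 := fun h => hJ (top_le_iff.mp (by
    have := Nat.find_spec hex; rwa [h, pow_zero, Ideal.one_eq_top] at this))
  obtain ⟨k, hk⟩ := Nat.exists_eq_succ_of_ne_zero hn0
  have hnot : ¬ m ^ k ≤ J := Nat.find_min hex (by omega)
  obtain ⟨e, he, heJ⟩ := SetLike.not_le_iff_exists.mp hnot
  refine ⟨e, heJ, fun a ha => ?_⟩
  have := Nat.find_spec hex
  rw [hk, pow_succ'] at this
  exact this (Ideal.mul_mem_mul ha he)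

theorem sup_span_gt {J : Ideal A} {e : A} (he : e ∉ J) : J < J ⊔ Ideal.span {e} :=
  lt_of_le_of_ne le_sup_left fun h => he (h ▸ Ideal.mem_sup_right (Ideal.mem_span_singleton_self e))

variable {C : Type u} [CommRing C] [Algebra A C]

theorem exists_decomp {J : Ideal A} {e : A} {c : C}
    (hc : c ∈ (J ⊔ Ideal.span {e}).map (algebraMap A C)) :
    ∃ d : C, c - algebraMap A C e * d ∈ J.map (algebraMap A C) := by
  rw [Ideal.map_sup, Ideal.map_span, Set.image_singleton] at hc
  obtain ⟨u, hu, v, hv, rfl⟩ := Submodule.mem_sup.mp hc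
  obtain ⟨d, rfl⟩ := Ideal.mem_span_singleton'.mp hv
  exact ⟨d, by rw [mul_comm (algebraMap A C e) d, add_sub_cancel_right]; exact hu⟩

theorem mul_mem_map {J : Ideal A} {e : A} (hm : ∀ a ∈ IsLocalRing.maximalIdeal A, a * e ∈ J) {d : C}
    (hd : d ∈ (IsLocalRing.maximalIdeal A).map (algebraMap A C)) :
    algebraMap A C e * d ∈ J.map (algebraMap A C) := by
  have : (Ideal.span {e} * IsLocalRing.maximalIdeal A) ≤ J := Ideal.span_singleton_mul_le_iff.mpr
    fun a ha => by rw [mul_comm]; exact hm a ha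
  refine Ideal.map_mono this ?_
  rw [Ideal.map_mul, Ideal.map_span, Set.image_singleton]
  exact Ideal.mul_mem_mul (Ideal.mem_span_singleton_self _) hd

theorem mem_map_of_mul_mem [Module.Flat A C] {J : Ideal A} {e : A} (he : e ∉ J)
    (hm : ∀ a ∈ IsLocalRing.maximalIdeal A, a * e ∈ J) {c : C}
    (hc : algebraMap A C e * c ∈ J.map (algebraMap A C)) :
    c ∈ (IsLocalRing.maximalIdeal A).map (algebraMap A C) := by
  set m := IsLocalRing.maximalIdeal A
  let f : (A ⧸ m) →ₗ[A] (A ⧸ J) := Submodule.mapQ m J (LinearMap.mulLeft A e)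
    (fun a ha => by show e * a ∈ J; rw [mul_comm]; exact hm a ha)
  have hf : Function.Injective f := by
    rw [injective_iff_map_eq_zero]
    intro z hz
    obtain ⟨a, rfl⟩ := Submodule.Quotient.mk_surjective _ z
    rw [Submodule.mapQ_apply, Submodule.Quotient.mk_eq_zero] at hz
    rw [Submodule.Quotient.mk_eq_zero]
    by_contra ha
    have hu : IsUnit a := by simpa [m, IsLocalRing.mem_maximalIdeal, mem_nonunits_iff] using ha
    refine he ?_
    obtain ⟨u, rfl⟩ := hu
    have := J.mul_mem_right (↑u⁻¹) hz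
    rwa [LinearMap.mulLeft_apply, mul_assoc, Units.mul_inv, mul_one] at this
  have hinj := Module.Flat.rTensor_preserves_injective_linearMap (M := C) f hf
  have key : ∀ (I : Ideal A) (x : C),
      (TensorProduct.quotTensorEquivQuotSMul C I) ((Ideal.Quotient.mk I 1) ⊗ₜ[A] x) = 0 ↔
        x ∈ I.map (algebraMap A C) := fun I x => by
    rw [TensorProduct.quotTensorEquivQuotSMul_mk_tmul, one_smul, Submodule.Quotient.mk_eq_zero,
      Ideal.smul_top_eq_map, Submodule.restrictScalars_mem]
  rw [← key m, LinearEquiv.map_eq_zero_iff]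
  apply hinj
  rw [map_zero, LinearMap.rTensor_tmul, ← (TensorProduct.quotTensorEquivQuotSMul C J).map_eq_zero_iff]
  have e1 : f (Ideal.Quotient.mk m 1) = e • Ideal.Quotient.mk J 1 := by
    show Submodule.Quotient.mk (e * 1) = e • Submodule.Quotient.mk 1
    rw [← Submodule.Quotient.mk_smul]; rfl
  rw [e1, smul_tmul, key, Algebra.smul_def]
  exact hc

/-- Regularity modulo the maximal ideal propagates to every ideal, for flat algebras. -/
theorem mem_map_of_regular [Module.Flat A C] (r : C)
    (hr : ∀ t, r * t ∈ (IsLocalRing.maximalIdeal A).map (algebraMap A C) →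
      t ∈ (IsLocalRing.maximalIdeal A).map (algebraMap A C))
    (J : Ideal A) : ∀ c : C, r * c ∈ J.map (algebraMap A C) → c ∈ J.map (algebraMap A C) := by
  induction J using (wellFounded_gt (α := Ideal A)).induction with
  | _ J ih =>
    intro c hc
    by_cases hJ : J = ⊤
    · rw [hJ, Ideal.map_top]; trivial
    obtain ⟨e, he, hm⟩ := exists_socle hJ
    obtain ⟨d, hd⟩ := exists_decomp (ih _ (sup_span_gt he) c (Ideal.map_mono le_sup_left hc))
    have h1 : algebraMap A C e * (r * d) ∈ J.map (algebraMap A C) := by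
      have := (J.map (algebraMap A C)).sub_mem hc ((J.map (algebraMap A C)).mul_mem_left r hd)
      rwa [show r * c - r * (c - algebraMap A C e * d) = algebraMap A C e * (r * d) by ring] at this
    have h2 := mul_mem_map hm (hr _ (mem_map_of_mul_mem he hm h1))
    simpa using (J.map (algebraMap A C)).add_mem hd h2

end Artin

section Main

variable {A : Type u} [CommRing A] [IsArtinianRing A] [IsLocalRing A]
  {B : Type u} [CommRing B] [Algebra A B] [IsNoetherianRing B]

omit [IsArtinianRing A] [IsLocalRing A] [IsNoetherianRing B] in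
theorem algebraMap_mem_map_iff (q : Ideal B) [q.IsPrime] (I : Ideal A) (x : B) :
    algebraMap B (Localization.AtPrime q) x ∈ I.map (algebraMap A (Localization.AtPrime q)) ↔
      ∃ s ∉ q, s * x ∈ I.map (algebraMap A B) := by
  rw [IsScalarTower.algebraMap_eq A B (Localization.AtPrime q), ← Ideal.map_map,
    IsLocalization.algebraMap_mem_map_algebraMap_iff q.primeCompl (Localization.AtPrime q)]
  exact ⟨fun ⟨s, hs, h⟩ => ⟨s, hs, h⟩, fun ⟨s, hs, h⟩ => ⟨s, hs, h⟩⟩

theorem comap_eq_maximal (q : Ideal B) [q.IsPrime] :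
    q.comap (algebraMap A B) = IsLocalRing.maximalIdeal A :=
  IsLocalRing.eq_maximalIdeal (IsArtinianRing.isMaximal_of_isPrime _)

theorem map_le_prime (q : Ideal B) [q.IsPrime] :
    (IsLocalRing.maximalIdeal A).map (algebraMap A B) ≤ q :=
  Ideal.map_le_iff_le_comap.mpr (comap_eq_maximal q).ge

theorem map_le_nilradical : (IsLocalRing.maximalIdeal A).map (algebraMap A B) ≤ nilradical B := by
  rw [nilradical_eq_sInf]
  exact le_sInf fun q (hq : q.IsPrime) => map_le_prime q

/-- The hypotheses in codimension at most one. -/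
structure CodimOne (A B : Type u) [CommRing A] [IsLocalRing A] [CommRing B] [Algebra A B] : Prop where
  S1 : LocCoh.HasSk 1 B B
  S2 : LocCoh.HasSk 2 (B ⧸ nilradical B) (B ⧸ nilradical B)
  codim : ∀ (q : Ideal B) [q.IsPrime], q.height ≤ 1 →
    Module.Flat A (Localization.AtPrime q) ∧ IsReduced (EGA4.FibLocRing A B q)

omit [IsArtinianRing A] [Algebra A B] in
theorem exists_regular_of_depth {R : Type u} [CommRing R] [IsLocalRing R] [IsNoetherianRing R]
    {M : Type u} [AddCommGroup M] [Module R M] [Module.Finite R M] [Nontrivial M]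
    (h : 1 ≤ LocCoh.depth R M) : ∃ x ∈ IsLocalRing.maximalIdeal R, IsSMulRegular M x := by
  refine (H4Depth.one_le_idealDepth_iff ?_).mp h
  exact fun he => (Submodule.top_ne_ideal_smul_of_le_jacobson_annihilator
    (IsLocalRing.maximalIdeal_le_jacobson _)) he.symm

theorem height_le_one_of_minimal {q : Ideal B} (hq : q ∈ minimalPrimes B) : q.height ≤ 1 := by
  have : q.IsPrime := hq.1.1
  rw [Ideal.height_eq_zero_iff.mpr hq]; exact zero_le

theorem mem_prime_of_saturated (h : CodimOne A B) {J : Ideal A} {e : A} (he : e ∉ J)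
    (hm : ∀ a ∈ IsLocalRing.maximalIdeal A, a * e ∈ J) {b : B}
    (hb : algebraMap A B e * b ∈ J.map (algebraMap A B)) : b ∈ nilradical B := by
  rw [nilradical_eq_sInf, Submodule.mem_sInf]
  intro q' hq'
  replace hq' : Ideal.IsPrime q' := hq'
  obtain ⟨q, hq, hle⟩ := Ideal.exists_minimalPrimes_le (bot_le : (⊥ : Ideal B) ≤ q')
  apply hle
  have : q.IsPrime := hq.1.1
  have := (h.codim q (height_le_one_of_minimal hq)).1
  have h1 : algebraMap A (Localization.AtPrime q) e * algebraMap B (Localization.AtPrime q) b ∈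
      J.map (algebraMap A (Localization.AtPrime q)) := by
    rw [IsScalarTower.algebraMap_apply A B (Localization.AtPrime q), ← map_mul, algebraMap_mem_map_iff]
    exact ⟨1, fun h1 => hq.1.1.ne_top ((Ideal.eq_top_iff_one _).mpr h1), by rwa [one_mul]⟩
  obtain ⟨s, hs, hsb⟩ := (algebraMap_mem_map_iff q _ b).mp (mem_map_of_mul_mem he hm h1)
  exact (hq.1.1.mem_or_mem (map_le_prime q hsb)).resolve_left hs

/-- `x` lies in an ideal as soon as it does so at all minimal primes. -/
def Saturated (I : Ideal B) : Prop :=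
  ∀ x : B, (∀ q ∈ minimalPrimes B, ∃ s ∉ q, s * x ∈ I) → x ∈ I

omit [IsArtinianRing A] [IsLocalRing A] [Algebra A B] in
theorem exists_assoc_of_not_saturated {I : Ideal B} (hI : ¬ Saturated I) :
    ∃ (q : Ideal B) (y : B), q.IsPrime ∧ q ∉ minimalPrimes B ∧ (∀ s, s * y ∈ I ↔ s ∈ q) := by
  classical
  simp only [Saturated, not_forall] at hI
  obtain ⟨x, hx, hxI⟩ := hI
  let K : B → Ideal B := fun t => Submodule.comap (LinearMap.mulRight B (t * x)) I
  have hK : ∀ t s, s ∈ K t ↔ s * (t * x) ∈ I := fun t s => Iff.rfl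
  obtain ⟨q, ⟨t, ht, rfl⟩, hmax⟩ := set_has_maximal_iff_noetherian.mpr (inferInstance : IsNoetherian B B)
    {q | ∃ t, t * x ∉ I ∧ q = K t} ⟨_, 1, by rwa [one_mul], rfl⟩
  refine ⟨K t, t * x, ⟨fun htop => ht ?_, fun {a b} hab => ?_⟩, fun hmin => ?_, fun s => (hK t s).symm⟩
  · have := (hK t 1).mp (htop ▸ Submodule.mem_top)
    rwa [one_mul] at this
  · by_contra hcon
    push Not at hcon
    obtain ⟨ha, hb⟩ := hcon
    rw [hK] at ha hab
    have hbt : (b * t) * x ∉ I := fun hh => hb ((hK t b).mpr (by rwa [← mul_assoc]))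
    have hle : K t ≤ K (b * t) := fun s hs => by
      rw [hK] at hs ⊢
      have := I.mul_mem_left b hs
      rwa [show b * (s * (t * x)) = s * (b * t * x) by ring] at this
    have heq : K t = K (b * t) := eq_of_le_of_not_lt hle (hmax _ ⟨b * t, hbt, rfl⟩)
    exact ha ((hK t a).mp (heq ▸ (hK (b * t) a).mpr (by
      rwa [show a * (b * t * x) = a * b * (t * x) by ring])))
  · obtain ⟨s, hs, hsx⟩ := hx _ hmin
    refine hs ((hK t s).mpr ?_)
    have := I.mul_mem_left t hsx
    rwa [show t * (s * x) = s * (t * x) by ring] at this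

omit [IsArtinianRing A] [IsLocalRing A] [Algebra A B] in
theorem one_le_height {q : Ideal B} [q.IsPrime] (hq : q ∉ minimalPrimes B) : 1 ≤ q.height := by
  rw [Order.one_le_iff_pos, pos_iff_ne_zero]
  exact fun h0 => hq (Ideal.height_eq_zero_iff.mp h0)

theorem saturated_bot (h : CodimOne A B) : Saturated ((⊥ : Ideal A).map (algebraMap A B)) := by
  rw [Ideal.map_bot]
  by_contra hns
  obtain ⟨q, y, hq, hqm, hy⟩ := exists_assoc_of_not_saturated hns
  set L := Localization.AtPrime q
  obtain ⟨el⟩ := H4Depth.exists_localizedModule_self_equiv q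
  have hdepth : 1 ≤ LocCoh.depth L L := by
    rw [LocCoh.depth, ← H4Depth.idealDepth_congr _ el]
    refine WithBot.coe_le_coe.mp (le_trans ?_ (h.S1 q))
    refine le_min le_rfl ?_
    rw [Module.supportDim_eq_of_equiv el, Module.supportDim_self_eq_ringKrullDim,
      IsLocalization.AtPrime.ringKrullDim_eq_height q L]
    exact WithBot.coe_le_coe.mpr (one_le_height hqm)
  obtain ⟨r, hr, hreg⟩ := exists_regular_of_depth hdepth
  obtain ⟨⟨a, s⟩, rfl⟩ := IsLocalization.mk'_surjective q.primeCompl r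
  have ha : a ∈ q := (IsLocalization.AtPrime.mk'_mem_maximal_iff L q a s).mp hr
  have h0 : algebraMap B L y = 0 := by
    apply hreg
    show IsLocalization.mk' L a s * algebraMap B L y = IsLocalization.mk' L a s * 0
    rw [mul_zero, mul_comm, IsLocalization.mul_mk'_eq_mk'_of_mul, mul_comm y a,
      (Submodule.mem_bot _).mp ((hy a).mpr ha), IsLocalization.mk'_zero]
  obtain ⟨⟨t, ht⟩, htz⟩ := (IsLocalization.map_eq_zero_iff q.primeCompl L y).mp h0
  exact ht ((hy t).mp (by rw [Submodule.mem_bot]; exact htz))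

omit [IsArtinianRing A] [IsLocalRing A] [Algebra A B] in
theorem exists_mem_not_minimal {q : Ideal B} [q.IsPrime] (hq : q ∉ minimalPrimes B) :
    ∃ r ∈ q, ∀ p ∈ minimalPrimes B, r ∉ p := by
  by_contra hcon
  push Not at hcon
  obtain ⟨p, hp, hle⟩ := (Ideal.subset_union_prime_finite (minimalPrimes.finite_of_isNoetherianRing B)
    (f := id) ⊥ ⊥ (fun i hi _ _ => hi.1.1)).mp
    (fun r hr => by obtain ⟨p, hp, hrp⟩ := hcon r hr; exact Set.mem_biUnion hp hrp)
  refine hq ?_
  rw [le_antisymm hle (hp.2 ⟨‹q.IsPrime›, bot_le⟩ hle)]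
  exact hp

omit [IsArtinianRing A] [IsLocalRing A] [Algebra A B] in
theorem mem_nilradical_of_mul_mem {r t : B} (hr : ∀ p ∈ minimalPrimes B, r ∉ p)
    (h : r * t ∈ nilradical B) : t ∈ nilradical B := by
  rw [nilradical_eq_sInf, Submodule.mem_sInf] at h ⊢
  intro P hP
  replace hP : Ideal.IsPrime P := hP
  obtain ⟨p, hp, hle⟩ := Ideal.exists_minimalPrimes_le (bot_le : (⊥ : Ideal B) ≤ P)
  exact hle ((hp.1.1.mem_or_mem (h p hp.1.1)).resolve_left (hr p hp))

theorem false_of_height_one (h : CodimOne A B) {q : Ideal B} [q.IsPrime] (hqm : q ∉ minimalPrimes B)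
    (hh : q.height ≤ 1) (I : Ideal A) {y : B} (hy : ∀ s, s * y ∈ I.map (algebraMap A B) ↔ s ∈ q) : False := by
  obtain ⟨hflat, hred⟩ := h.codim q hh
  set L := Localization.AtPrime q
  have hq := comap_eq_maximal (A := A) q
  change IsReduced (L ⧸ (q.comap (algebraMap A B)).map (algebraMap A L)) at hred
  rw [hq] at hred
  obtain ⟨r, hr, hrp⟩ := exists_mem_not_minimal hqm
  have hreg : ∀ t : L, algebraMap B L r * t ∈ (IsLocalRing.maximalIdeal A).map (algebraMap A L) →
      t ∈ (IsLocalRing.maximalIdeal A).map (algebraMap A L) := by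
    intro t ht
    obtain ⟨⟨b, s⟩, rfl⟩ := IsLocalization.mk'_surjective q.primeCompl t
    simp only at ht ⊢
    rw [IsLocalization.mul_mk'_eq_mk'_of_mul, IsLocalization.mk'_eq_mul_mk'_one,
      Ideal.mul_unit_mem_iff_mem _ (IsUnit.of_mul_eq_one _ ((IsLocalization.mk'_spec L 1 s).trans (map_one _))), algebraMap_mem_map_iff] at ht
    rw [IsLocalization.mk'_eq_mul_mk'_one, Ideal.mul_unit_mem_iff_mem _ (IsUnit.of_mul_eq_one _ ((IsLocalization.mk'_spec L 1 s).trans (map_one _)))]
    obtain ⟨u, hu, hub⟩ := ht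
    obtain ⟨n, hn⟩ := mem_nilradical_of_mul_mem hrp
      (show r * (u * b) ∈ nilradical B by rw [mul_left_comm]; exact map_le_nilradical hub)
    have hmem : algebraMap B L (u * b) ∈ (IsLocalRing.maximalIdeal A).map (algebraMap A L) := by
      rw [← Ideal.Quotient.eq_zero_iff_mem]
      exact IsReduced.eq_zero _ ⟨n, by rw [← map_pow, ← map_pow, hn, map_zero, map_zero]⟩
    rwa [map_mul, Ideal.unit_mul_mem_iff_mem _ (IsLocalization.map_units L (⟨u, hu⟩ : q.primeCompl))] at hmem
  have h1 : algebraMap B L r * algebraMap B L y ∈ I.map (algebraMap A L) := by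
    rw [← map_mul, algebraMap_mem_map_iff]
    exact ⟨1, fun h1 => (‹q.IsPrime›).ne_top ((Ideal.eq_top_iff_one _).mpr h1), by rw [one_mul]; exact (hy r).mpr hr⟩
  obtain ⟨s, hs, hsy⟩ := (algebraMap_mem_map_iff q _ y).mp (mem_map_of_regular _ hreg I _ h1)
  exact hs ((hy s).mp hsy)

theorem exists_mul_mem_of_height_two (h : CodimOne A B) {q : Ideal B} [q.IsPrime] (hh : ¬ q.height ≤ 1)
    {r b : B} (hr : r ∈ q) (hrp : ∀ p ∈ minimalPrimes B, r ∉ p)
    (hb : ∀ s ∈ q, s * b ∈ Ideal.span {r} ⊔ nilradical B) :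
    ∃ s ∉ q, s * b ∈ Ideal.span {r} ⊔ nilradical B := by
  set N := nilradical B
  let π := Ideal.Quotient.mk N
  have hN : ∀ P : Ideal B, P.IsPrime → RingHom.ker π ≤ P := fun P hP => by
    rw [Ideal.mk_ker]; exact nilradical_le_prime P
  have hpi : ∀ P : Ideal B, P.IsPrime → (P.map π).IsPrime := fun P hP =>
    Ideal.map_isPrime_of_surjective Ideal.Quotient.mk_surjective (hN P hP)
  have hcomap : ∀ P : Ideal B, P.IsPrime → (P.map π).comap π = P := fun P hP => by
    rw [Ideal.comap_map_of_surjective _ Ideal.Quotient.mk_surjective, ← RingHom.ker_eq_comap_bot,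
      sup_of_le_left (hN P hP)]
  have := hpi q ‹_›
  set Q := q.map π
  have hh2 : 2 ≤ Q.height := by
    rw [show (1 : ℕ∞) = ((1 : ℕ) : ℕ∞) from Nat.cast_one.symm, Ideal.height_le_iff] at hh
    push Not at hh
    obtain ⟨q1, hq1, hq1q, hh1⟩ := hh
    have hq1m : q1 ∉ minimalPrimes B := fun hm => by
      rw [Ideal.height_eq_zero_iff.mpr hm] at hh1
      exact absurd hh1 (by simp)
    obtain ⟨q0, hq0, hle⟩ := Ideal.exists_minimalPrimes_le (bot_le : (⊥ : Ideal B) ≤ q1)
    have hlt0 : q0 < q1 := lt_of_le_of_ne hle fun e => hq1m (e ▸ hq0)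
    have := hpi q0 hq0.1.1
    have := hpi q1 hq1
    have hmono : ∀ {P P' : Ideal B}, P.IsPrime → P'.IsPrime → P < P' → P.map π < P'.map π := fun {P P'} hP hP' hlt =>
      lt_of_le_of_ne (Ideal.map_mono hlt.le) fun e => hlt.ne (by rw [← hcomap P hP, ← hcomap P' hP', e])
    have a1 := Ideal.height_strict_mono_of_isPrime (hmono hq0.1.1 hq1 hlt0)
    have a2 := Ideal.height_strict_mono_of_isPrime (hmono hq1 ‹_› hq1q)
    calc (2 : ℕ∞) = 1 + 1 := rfl
      _ ≤ (q1.map π).height + 1 := add_le_add (Order.one_le_iff_pos.mpr (lt_of_le_of_lt zero_le a1)) le_rfl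
      _ ≤ _ := Order.add_one_le_of_lt a2
  set R := B ⧸ N
  set L := Localization.AtPrime Q
  obtain ⟨el⟩ := H4Depth.exists_localizedModule_self_equiv (R := R) Q
  have hdepth : 2 ≤ LocCoh.depth L L := by
    rw [LocCoh.depth, ← H4Depth.idealDepth_congr _ el]
    refine WithBot.coe_le_coe.mp (le_trans ?_ (h.S2 Q))
    refine le_min le_rfl ?_
    rw [Module.supportDim_eq_of_equiv el, Module.supportDim_self_eq_ringKrullDim,
      IsLocalization.AtPrime.ringKrullDim_eq_height Q L]
    exact WithBot.coe_le_coe.mpr hh2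
  set x := algebraMap R L (π r)
  have hrQ : π r ∈ Q := Ideal.mem_map_of_mem _ hr
  have hxm : x ∈ IsLocalRing.maximalIdeal L := by
    rw [← IsLocalization.AtPrime.map_eq_maximalIdeal Q L]; exact Ideal.mem_map_of_mem _ hrQ
  have hxreg : IsSMulRegular L x := by
    intro a c hac
    obtain ⟨⟨a', s⟩, ha⟩ := IsLocalization.mk'_surjective Q.primeCompl (a - c)
    simp only at ha
    have h0 : x * IsLocalization.mk' L a' s = 0 := by
      rw [ha, mul_sub]; exact sub_eq_zero.mpr hac
    rw [IsLocalization.mul_mk'_eq_mk'_of_mul, IsLocalization.mk'_eq_zero_iff] at h0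
    obtain ⟨⟨t, ht⟩, htz⟩ := h0
    obtain ⟨a'', rfl⟩ := Ideal.Quotient.mk_surjective a'
    obtain ⟨t', rfl⟩ := Ideal.Quotient.mk_surjective t
    rw [← map_mul, ← map_mul, Ideal.Quotient.eq_zero_iff_mem] at htz
    have := mem_nilradical_of_mul_mem hrp (show r * (t' * a'') ∈ nilradical B by rwa [mul_left_comm])
    rw [← sub_eq_zero, ← ha, IsLocalization.mk'_eq_zero_iff]
    exact ⟨⟨π t', ht⟩, by rw [← map_mul, Ideal.Quotient.eq_zero_iff_mem]; exact this⟩
  have hq1 := H4Depth.idealDepth_quotSMulTop_add_one (I := IsLocalRing.maximalIdeal L) (M := L) hxm hxreg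
  have hd' : 1 ≤ LocCoh.depth L (QuotSMulTop x L) := by
    by_contra hc
    rw [not_le, ENat.lt_one_iff_eq_zero] at hc
    unfold LocCoh.depth at hdepth hc
    rw [← hq1, hc, zero_add] at hdepth
    exact absurd hdepth (by simp)
  have : Nontrivial (QuotSMulTop x L) := Submodule.Quotient.nontrivial_iff.mpr
    ((fun htop => by
      have h1 : (1 : L) ∈ x • (⊤ : Submodule L L) := by rw [htop]; trivial
      obtain ⟨z, -, hz⟩ := h1
      exact (IsLocalRing.maximalIdeal.isMaximal L).ne_top ((Ideal.eq_top_iff_one _).mpr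
        (hz ▸ Ideal.mul_mem_right z _ hxm))))
  obtain ⟨w, hw, hwreg⟩ := exists_regular_of_depth hd'
  obtain ⟨⟨w', s⟩, rfl⟩ := IsLocalization.mk'_surjective Q.primeCompl w
  have hw' : w' ∈ Q := (IsLocalization.AtPrime.mk'_mem_maximal_iff L Q w' s).mp hw
  obtain ⟨w'', hw'', rfl⟩ := (Ideal.mem_map_iff_of_surjective π Ideal.Quotient.mk_surjective).mp hw'
  have hspan : (x • (⊤ : Submodule L L)) = (Ideal.span {π r}).map (algebraMap R L) := by
    rw [Ideal.map_span, Set.image_singleton, ← Submodule.ideal_span_singleton_smul]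
    exact Ideal.mul_top _
  have hsupmap : (Ideal.span {r} ⊔ N).map π = Ideal.span {π r} := by
    rw [Ideal.map_sup, Ideal.map_span, Set.image_singleton, Ideal.map_quotient_self, sup_bot_eq]
  have hbx : (Submodule.Quotient.mk (algebraMap R L (π b)) : QuotSMulTop x L) = 0 := by
    apply hwreg
    show IsLocalization.mk' L (π w'') s • _ = IsLocalization.mk' L (π w'') s • (0 : QuotSMulTop x L)
    rw [smul_zero, ← Submodule.Quotient.mk_smul, Submodule.Quotient.mk_eq_zero, hspan, smul_eq_mul, mul_comm,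
      IsLocalization.mul_mk'_eq_mk'_of_mul, IsLocalization.mk'_eq_mul_mk'_one]
    refine Ideal.mul_mem_right _ _ (Ideal.mem_map_of_mem _ ?_)
    rw [← hsupmap, ← map_mul, mul_comm]
    exact Ideal.mem_map_of_mem _ (hb w'' hw'')
  rw [Submodule.Quotient.mk_eq_zero, hspan, IsLocalization.algebraMap_mem_map_algebraMap_iff Q.primeCompl] at hbx
  obtain ⟨t, ht, htb⟩ := hbx
  obtain ⟨t', rfl⟩ := Ideal.Quotient.mk_surjective t
  refine ⟨t', fun hq => ht (Ideal.mem_map_of_mem _ hq), ?_⟩
  rw [← hsupmap, ← map_mul, ← Ideal.mem_comap, Ideal.comap_map_of_surjective _ Ideal.Quotient.mk_surjective,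
    ← RingHom.ker_eq_comap_bot, Ideal.mk_ker, sup_assoc, sup_idem] at htb
  exact htb

theorem mul_mem_of_nilradical (h : CodimOne A B) {J : Ideal A} (hsat : Saturated (J.map (algebraMap A B))) {e : A}
    (hm : ∀ a ∈ IsLocalRing.maximalIdeal A, a * e ∈ J) {n : B} (hn : n ∈ nilradical B) :
    algebraMap A B e * n ∈ J.map (algebraMap A B) := by
  refine hsat _ fun q hq => ?_
  have : q.IsPrime := hq.1.1
  obtain ⟨-, hred⟩ := h.codim q (height_le_one_of_minimal hq)
  change IsReduced (Localization.AtPrime q ⧸ (q.comap (algebraMap A B)).map (algebraMap A (Localization.AtPrime q))) at hred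
  rw [comap_eq_maximal (A := A) q] at hred
  obtain ⟨k, hk⟩ := hn
  have hmem : algebraMap B (Localization.AtPrime q) n ∈
      (IsLocalRing.maximalIdeal A).map (algebraMap A (Localization.AtPrime q)) := by
    rw [← Ideal.Quotient.eq_zero_iff_mem]
    exact IsReduced.eq_zero _ ⟨k, by rw [← map_pow, ← map_pow, hk, map_zero, map_zero]⟩
  obtain ⟨s, hs, hsn⟩ := (algebraMap_mem_map_iff q _ n).mp hmem
  exact ⟨s, hs, by rw [mul_left_comm]; exact mul_mem_map hm hsn⟩

theorem saturated_step (h : CodimOne A B) {J : Ideal A} (hsat : Saturated (J.map (algebraMap A B))) {e : A}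
    (he : e ∉ J) (hm : ∀ a ∈ IsLocalRing.maximalIdeal A, a * e ∈ J) :
    Saturated ((J ⊔ Ideal.span {e}).map (algebraMap A B)) := by
  by_contra hns
  obtain ⟨q, y, hqp, hqm, hy⟩ := exists_assoc_of_not_saturated hns
  by_cases hh : q.height ≤ 1
  · exact false_of_height_one h hqm hh _ hy
  obtain ⟨r, hr, hrp⟩ := exists_mem_not_minimal hqm
  set E := algebraMap A B e
  set JB := J.map (algebraMap A B)
  obtain ⟨b, hb⟩ := exists_decomp ((hy r).mpr hr)
  have hb' : ∀ s ∈ q, s * b ∈ Ideal.span {r} ⊔ nilradical B := fun s hs => by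
    obtain ⟨bs, hbs⟩ := exists_decomp ((hy s).mpr hs)
    have hkey : E * (r * bs - s * b) ∈ JB := by
      have := JB.sub_mem (JB.mul_mem_left s hb) (JB.mul_mem_left r hbs)
      rwa [show s * (r * y - E * b) - r * (s * y - E * bs) = E * (r * bs - s * b) by ring] at this
    refine Submodule.mem_sup.mpr ⟨r * bs, Ideal.mul_mem_right _ _ (Ideal.mem_span_singleton_self r),
      -(r * bs - s * b), (nilradical B).neg_mem (mem_prime_of_saturated h he hm hkey), by ring⟩
  obtain ⟨t, ht, htb⟩ := exists_mul_mem_of_height_two h hh hr hrp hb'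
  obtain ⟨rc, hrc, n, hn, heq⟩ := Submodule.mem_sup.mp htb
  obtain ⟨c, rfl⟩ := Ideal.mem_span_singleton'.mp hrc
  have h1 : r * (t * y - E * c) ∈ JB := by
    have := JB.add_mem (JB.mul_mem_left t hb) (mul_mem_of_nilradical h hsat hm hn)
    rwa [show t * (r * y - E * b) + E * n = r * (t * y - E * c) by linear_combination E * heq] at this
  have h2 : t * y - E * c ∈ JB := hsat _ fun p hp => ⟨r, hrp p hp, h1⟩
  refine ht ((hy t).mp ?_)
  have := Ideal.add_mem _ (Ideal.map_mono (le_sup_left : J ≤ J ⊔ Ideal.span {e}) h2)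
    (Ideal.mul_mem_right c _ (Ideal.mem_map_of_mem (algebraMap A B)
      (Ideal.mem_sup_right (Ideal.mem_span_singleton_self e) : e ∈ J ⊔ Ideal.span {e})))
  rwa [sub_add_cancel] at this

omit [IsNoetherianRing B] in
/-- Induction over ideals of an Artinian local ring by socle steps. -/
theorem induction_socle {P : Ideal A → Prop} (h0 : P ⊥)
    (hstep : ∀ (J : Ideal A) (e : A), P J → e ∉ J → (∀ a ∈ IsLocalRing.maximalIdeal A, a * e ∈ J) →
      P (J ⊔ Ideal.span {e})) (I : Ideal A) : P I := by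
  classical
  obtain ⟨J, ⟨hJI, hJP⟩, hmax⟩ := set_has_maximal_iff_noetherian.mpr (inferInstance : IsNoetherian A A)
    {J : Ideal A | J ≤ I ∧ P J} ⟨⊥, bot_le, h0⟩
  suffices J = I from this ▸ hJP
  by_contra hne
  have hnil : IsNilpotent (IsLocalRing.maximalIdeal A) := by
    have := IsArtinianRing.isNilpotent_jacobson_bot (R := A)
    rwa [IsLocalRing.jacobson_eq_maximalIdeal ⊥ bot_ne_top] at this
  set m := IsLocalRing.maximalIdeal A
  have hex : ∃ n, m ^ n * I ≤ J := by
    obtain ⟨n, hn⟩ := hnil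
    refine ⟨n, ?_⟩
    rw [hn, Ideal.zero_eq_bot, Ideal.bot_mul]
    exact bot_le
  have hn0 : Nat.find hex ≠ 0 := fun hz => hne (le_antisymm hJI (by
    have := Nat.find_spec hex; rwa [hz, pow_zero, one_mul] at this))
  obtain ⟨k, hk⟩ := Nat.exists_eq_succ_of_ne_zero hn0
  obtain ⟨e, heI, heJ⟩ := SetLike.not_le_iff_exists.mp (Nat.find_min hex (show k < Nat.find hex by omega))
  have hm : ∀ a ∈ m, a * e ∈ J := fun a ha => by
    have h1 := Nat.find_spec hex
    rw [hk, pow_succ', mul_assoc] at h1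
    exact h1 (Ideal.mul_mem_mul ha heI)
  exact hmax _ ⟨sup_le hJI ((Ideal.span_singleton_le_iff_mem _).mpr (Ideal.mul_le_right heI)),
    hstep J e hJP heJ hm⟩ (sup_span_gt heJ)

theorem saturated_all (h : CodimOne A B) (I : Ideal A) : Saturated (I.map (algebraMap A B)) :=
  induction_socle (P := fun I => Saturated (I.map (algebraMap A B))) (saturated_bot h)
    (fun _ _ hJ he hm => saturated_step h hJ he hm) I

theorem nilradical_eq (h : CodimOne A B) :
    nilradical B = (IsLocalRing.maximalIdeal A).map (algebraMap A B) := by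
  refine le_antisymm (fun n hn => ?_) map_le_nilradical
  refine saturated_all h _ _ fun q hq => ?_
  have : q.IsPrime := hq.1.1
  obtain ⟨-, hred⟩ := h.codim q (height_le_one_of_minimal hq)
  change IsReduced (Localization.AtPrime q ⧸ (q.comap (algebraMap A B)).map (algebraMap A (Localization.AtPrime q))) at hred
  rw [comap_eq_maximal (A := A) q] at hred
  obtain ⟨k, hk⟩ := hn
  refine (algebraMap_mem_map_iff q _ n).mp ?_
  rw [← Ideal.Quotient.eq_zero_iff_mem]
  exact IsReduced.eq_zero _ ⟨k, by rw [← map_pow, ← map_pow, hk, map_zero, map_zero]⟩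

theorem flat (h : CodimOne A B) : Module.Flat A B := by
  classical
  refine Module.Flat.iff_rTensor_injective'.mpr ?_
  intro I
  induction I using induction_socle with
  | h0 =>
    intro a b _
    exact Subsingleton.elim a b
  | hstep J e ihJ he hm =>
    have key : ∀ (I : Ideal A) (z : I ⊗[A] B), TensorProduct.lid A B (I.subtype.rTensor B z) ∈ I.map (algebraMap A B) := by
      intro I z
      induction z using TensorProduct.induction_on with
      | zero => simp
      | add x y hx hy => rw [map_add, map_add]; exact Ideal.add_mem _ hx hy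
      | tmul i b =>
        simp only [LinearMap.rTensor_tmul, TensorProduct.lid_tmul, Submodule.subtype_apply, Algebra.smul_def]
        exact Ideal.mul_mem_right _ _ (Ideal.mem_map_of_mem _ i.2)
    set J' := J ⊔ Ideal.span {e}
    let ι : J →ₗ[A] J' := Submodule.inclusion le_sup_left
    let e' : J' := ⟨e, Ideal.mem_sup_right (Ideal.mem_span_singleton_self e)⟩
    have hdec : ∀ z : J' ⊗[A] B, ∃ (w : J ⊗[A] B) (b : B), z = ι.rTensor B w + e' ⊗ₜ b := by
      intro z
      induction z using TensorProduct.induction_on with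
      | zero => exact ⟨0, 0, by simp⟩
      | add x y hx hy =>
        obtain ⟨w, b, rfl⟩ := hx
        obtain ⟨w', b', rfl⟩ := hy
        exact ⟨w + w', b + b', by rw [map_add, tmul_add]; abel⟩
      | tmul i b =>
        obtain ⟨j, hj, v, hv, hjv⟩ := Submodule.mem_sup.mp i.2
        obtain ⟨a, rfl⟩ := Ideal.mem_span_singleton'.mp hv
        refine ⟨(⟨j, hj⟩ : J) ⊗ₜ b, a • b, ?_⟩
        rw [LinearMap.rTensor_tmul, ← smul_tmul a e' b, ← add_tmul]
        congr 1
        exact Subtype.ext hjv.symm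
    have hmB : ∀ d ∈ (IsLocalRing.maximalIdeal A).map (algebraMap A B),
        ∃ w : J ⊗[A] B, e' ⊗ₜ[A] d = ι.rTensor B w := by
      intro d hd
      rw [← Submodule.restrictScalars_mem A, ← Ideal.smul_top_eq_map] at hd
      refine Submodule.smul_induction_on hd (fun a ha b _ => ?_) (fun x y hx hy => ?_)
      · refine ⟨(⟨a * e, hm a ha⟩ : J) ⊗ₜ b, ?_⟩
        rw [LinearMap.rTensor_tmul, ← smul_tmul]
        rfl
      · obtain ⟨w, hw⟩ := hx
        obtain ⟨w', hw'⟩ := hy
        exact ⟨w + w', by rw [tmul_add, hw, hw', map_add]⟩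
    rw [injective_iff_map_eq_zero]
    intro z hz
    obtain ⟨w, b, rfl⟩ := hdec z
    have hc : ∀ w, J'.subtype.rTensor B (ι.rTensor B w) = J.subtype.rTensor B w := fun w => by
      rw [← LinearMap.rTensor_comp_apply]; rfl
    rw [map_add, hc] at hz
    have hz' := congrArg (TensorProduct.lid A B) hz
    rw [map_add, map_zero, LinearMap.rTensor_tmul, TensorProduct.lid_tmul] at hz'
    have hb : algebraMap A B e * b ∈ J.map (algebraMap A B) := by
      rw [show algebraMap A B e * b = e • b from (Algebra.smul_def e b).symm,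
        show e • b = -(TensorProduct.lid A B (J.subtype.rTensor B w)) from eq_neg_of_add_eq_zero_right hz']
      exact Ideal.neg_mem_iff _ |>.mpr (key J w)
    have hbm := mem_prime_of_saturated h he hm hb
    rw [nilradical_eq h] at hbm
    obtain ⟨w', hw'⟩ := hmB b hbm
    rw [hw', hc, ← map_add] at hz
    rw [hw', ← map_add, (map_eq_zero_iff _ ihJ).mp hz, map_zero]

end Main

end Groth.Agent.H22Alg.CodimOne
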