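import Groth.Agent.H22Alg.FlatExact
import Groth.Agent.LeadBC.BaseChange
import Groth.Agent.LeadBC.Basic

/-! # Acyclic flat modules over an affine base: vanishing and degree zero after tensoring and base change. -/

set_option autoImplicit false
set_option linter.style.haveILetI false
set_option linter.unusedSectionVars false

universe u

open AlgebraicGeometry CategoryTheory CategoryTheory.Limits TopologicalSpace Opposite
open scoped TensorProduct
open Groth.Agent.LeadBC Groth.Agent.LeadFF Groth.Agent.H15Site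

noncomputable section

namespace Groth.Agent.H22Alg.CohCech

variable (A : Type u) [CommRing A] {X : Scheme.{u}} [X.Over (Spec (CommRingCat.of A))]
  {ι : Type u} [Finite ι] {U : ι → X.Opens}

theorem exact_iff (hU : GoodCover U) (G : X.Modules) [G.IsQuasicoherent] (p : ℕ) :
    Subsingleton (Coh.HH X G (p + 1)) ↔ Function.Exact (dK A U G p) (dK A U G (p + 1)) := by
  rw [← (eHH A hU G (p + 1)).toEquiv.subsingleton_congr, ← ModuleCat.isZero_iff_subsingleton,
    ← HomologicalComplex.exactAt_iff_isZero_homology,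
    HomologicalComplex.exactAt_iff' _ p (p + 1) (p + 1 + 1) (by simp) (by simp),
    ShortComplex.ShortExact.moduleCat_exact_iff_function_exact]
  show Function.Exact ((KC A U G).d p (p + 1)).hom ((KC A U G).d (p + 1) (p + 1 + 1)).hom ↔ _
  rw [KC_d, KC_d]
  rfl

theorem exact_iff_of_equiv {R : Type u} [CommRing R] {M₁ M₂ M₃ N₁ N₂ N₃ : Type u} [AddCommGroup M₁]
    [AddCommGroup M₂] [AddCommGroup M₃] [AddCommGroup N₁] [AddCommGroup N₂] [AddCommGroup N₃]
    [Module R M₁] [Module R M₂] [Module R M₃] [Module R N₁] [Module R N₂] [Module R N₃]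
    (f : M₁ → M₂) (g : M₂ → M₃) (f' : N₁ → N₂) (g' : N₂ → N₃) (e₁ : M₁ → N₁) (e₂ : M₂ → N₂) (e₃ : M₃ → N₃)
    (h₁ : Function.Surjective e₁) (h₂ : Function.Bijective e₂) (h₃ : Function.Injective e₃) (h₀ : e₃ 0 = 0)
    (hf : ∀ x, f' (e₁ x) = e₂ (f x)) (hg : ∀ x, g' (e₂ x) = e₃ (g x)) :
    Function.Exact f g ↔ Function.Exact f' g' := by
  refine ⟨fun h y => ?_, fun h x => ?_⟩
  · obtain ⟨x, rfl⟩ := h₂.2 y
    rw [hg, ← h₀, h₃.eq_iff, h x]
    refine ⟨fun ⟨w, hw⟩ => ⟨e₁ w, by rw [hf, hw]⟩, fun ⟨w, hw⟩ => ?_⟩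
    obtain ⟨w, rfl⟩ := h₁ w
    exact ⟨w, h₂.1 (by rw [← hf, hw])⟩
  · rw [← h₃.eq_iff, h₀, ← hg, h (e₂ x)]
    refine ⟨fun ⟨w, hw⟩ => ?_, fun ⟨w, hw⟩ => ⟨e₁ w, by rw [hf, hw]⟩⟩
    obtain ⟨w, rfl⟩ := h₁ w
    exact ⟨w, h₂.1 (by rw [← hf, hw])⟩

variable (U) in
/-- The differentials of the Čech complex. -/
abbrev dd (F : X.Modules) : ∀ p, Kp A U F p →ₗ[A] Kp A U F (p + 1) := fun p => dK A U F p

theorem exact_tensor_iff (hU : GoodCover U) (F : X.Modules) [F.IsQuasicoherent] (M : ModuleCat.{u} A) (p : ℕ) :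
    Function.Exact ((dK A U F p).rTensor M) ((dK A U F (p + 1)).rTensor M) ↔
      Function.Exact (dK A U ((CohIII.tensorAFunctor A F).obj M) p)
        (dK A U ((CohIII.tensorAFunctor A F).obj M) (p + 1)) :=
  exact_iff_of_equiv (R := A) _ _ _ _ _ _ _ (bijective_τp A F hU M p).2 (bijective_τp A F hU M (p + 1))
    (bijective_τp A F hU M (p + 1 + 1)).1 (map_zero _) (τp_d A U F M p) (τp_d A U F M (p + 1))

variable [QuasiCompact (X ↘ Spec (CommRingCat.of A))] [IsSeparated (X ↘ Spec (CommRingCat.of A))]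
  (F : X.Modules) [F.IsQuasicoherent]

/-- The Čech complex of an acyclic flat module is universally exact. -/
theorem uex (hU : GoodCover U) (hfl : FlatMod.IsFlatOver (X ↘ Spec (CommRingCat.of A)) F)
    (hvan : ∀ p : ℕ, Subsingleton (Coh.HH X F (p + 1))) (p : ℕ) : FlatExact.UEx (dd A U F) p := by
  haveI : ∀ p, Module.Flat A (Kp A U F p) := flat_Kp A hU hfl
  obtain ⟨N, hN⟩ := exists_bound_HH A X
  refine FlatExact.uex_all (fun p => dK_dK A U F p) (fun p => (exact_iff A hU F p).1 (hvan p)) (N := N)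
    (fun p hp M _ _ => ?_) p
  refine (exact_tensor_iff A hU F (ModuleCat.of A M) p).2 ?_
  haveI := isQCoh_GM A F (ModuleCat.of A M)
  exact (exact_iff A hU _ p).1 (hN _ inferInstance _ (by omega))

theorem subsingleton_tensor (hU : GoodCover U) (hfl : FlatMod.IsFlatOver (X ↘ Spec (CommRingCat.of A)) F)
    (hvan : ∀ p : ℕ, Subsingleton (Coh.HH X F (p + 1))) (M : ModuleCat.{u} A) (p : ℕ) :
    Subsingleton (Coh.HH X ((CohIII.tensorAFunctor A F).obj M) (p + 1)) := by
  haveI := isQCoh_GM A F M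
  exact (exact_iff A hU _ p).2 ((exact_tensor_iff A hU F M p).1 (uex A F hU hfl hvan p M))

variable (S : Type u) [CommRing S] [Algebra A S] {X' : Scheme.{u}} [X'.Over (Spec (CommRingCat.of S))] {q : X' ⟶ X}
  (hsq : IsPullback q (X' ↘ Spec (CommRingCat.of S)) (X ↘ Spec (CommRingCat.of A))
    (Spec.map (CommRingCat.ofHom (algebraMap A S))))

include hsq in
theorem subsingleton_bc (hU : GoodCover U) (hfl : FlatMod.IsFlatOver (X ↘ Spec (CommRingCat.of A)) F)
    (hvan : ∀ p : ℕ, Subsingleton (Coh.HH X F (p + 1))) (p : ℕ) :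
    Subsingleton (Coh.HH X' (qF q F) (p + 1)) := by
  refine (exact_iff S (goodCover_preU S q hsq U hU) (qF q F) p).2 ?_
  refine (exact_iff_of_equiv (R := A) _ _ _ _ _ _ _ (bijective_βp S hsq F U hU p).2
    (bijective_βp S hsq F U hU (p + 1)) (bijective_βp S hsq F U hU (p + 1 + 1)).1 (map_zero _)
    (fun z => βp_d S hsq F U p z) (fun z => βp_d S hsq F U (p + 1) z)).1 ?_
  exact uex A F hU hfl hvan p S

variable (U) in
/-- Restriction of a global section to the members of the cover. -/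
def toK (G : X.Modules) : sec A G ⊤ →ₗ[A] Kp A U G 0 :=
  LinearMap.pi fun a => resL A G (le_top : CechTop.cap U a ≤ ⊤)

omit [QuasiCompact (X ↘ Spec (CommRingCat.of A))] [IsSeparated (X ↘ Spec (CommRingCat.of A))] in
theorem toK_apply (G : X.Modules) (x : Γ(G, ⊤)) (a : Fin 1 → ι) :
    toK A U G x a = (G.presheaf.map (homOfLE (le_top : CechTop.cap U a ≤ ⊤)).op x : Γ(G, CechTop.cap U a)) := rfl

omit [QuasiCompact (X ↘ Spec (CommRingCat.of A))] [IsSeparated (X ↘ Spec (CommRingCat.of A))] in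
theorem cap_cover (hU : GoodCover U) (x : X) : ∃ i, x ∈ CechTop.cap U (fun _ : Fin 1 => i) := by
  obtain ⟨i, hi⟩ := Opens.mem_iSup.1 (hU.cover (Opens.mem_top x))
  exact ⟨i, (le_iInf fun _ => le_rfl : U i ≤ CechTop.cap U (fun _ : Fin 1 => i)) hi⟩

omit [QuasiCompact (X ↘ Spec (CommRingCat.of A))] [IsSeparated (X ↘ Spec (CommRingCat.of A))] in
theorem injective_toK (hU : GoodCover U) (G : X.Modules) : Function.Injective (toK A U G) := fun x y h =>
  TopCat.Sheaf.eq_of_locally_eq' ⟨G.presheaf, G.isSheaf⟩ (fun i => CechTop.cap U fun _ : Fin 1 => i) ⊤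
    (fun i => homOfLE le_top) (fun z _ => Opens.mem_iSup.2 (cap_cover hU z)) (show Γ(G, ⊤) from x) _
    fun i => congrFun h fun _ => i

omit [QuasiCompact (X ↘ Spec (CommRingCat.of A))] [IsSeparated (X ↘ Spec (CommRingCat.of A))] in
theorem exact_toK (hU : GoodCover U) (G : X.Modules) : Function.Exact (toK A U G) (dK A U G 0) := by
  intro v
  constructor
  · intro hv
    have hd : ∀ c : Fin 2 → ι,
        resL A G (CechTop.cap_comp_le U c (Fin.succAbove 0)) (v (c ∘ Fin.succAbove 0)) =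
          resL A G (CechTop.cap_comp_le U c (Fin.succAbove 1)) (v (c ∘ Fin.succAbove 1)) := fun c => by
      have h := congrFun hv c
      rw [dK_apply, Fin.sum_univ_two] at h
      simp only [Fin.val_zero, pow_zero, one_smul, Fin.val_one, pow_one, neg_smul, Pi.zero_apply] at h
      exact eq_of_sub_eq_zero (by rw [sub_eq_add_neg]; exact h)
    obtain ⟨s, hs, -⟩ := TopCat.Sheaf.existsUnique_gluing' ⟨G.presheaf, G.isSheaf⟩
      (fun i => CechTop.cap U fun _ : Fin 1 => i) ⊤ (fun i => homOfLE le_top)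
      (fun z _ => Opens.mem_iSup.2 (cap_cover hU z)) (fun i => (v (fun _ => i) : Γ(G, _))) fun i j => by
        let c : Fin 2 → ι := ![j, i]
        have hle : CechTop.cap U (fun _ : Fin 1 => i) ⊓ CechTop.cap U (fun _ : Fin 1 => j) ≤ CechTop.cap U c := by
          refine le_iInf fun k => ?_
          fin_cases k
          · exact inf_le_right.trans (iInf_le _ 0)
          · exact inf_le_left.trans (iInf_le _ 0)
        have e0 : c ∘ Fin.succAbove (0 : Fin 2) = fun _ : Fin 1 => i := funext fun k => by fin_cases k; rfl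
        have e1 : c ∘ Fin.succAbove (1 : Fin 2) = fun _ : Fin 1 => j := funext fun k => by fin_cases k; rfl
        have key : ∀ (a₀ a₁ : Fin 1 → ι) (h0 : CechTop.cap U c ≤ CechTop.cap U a₀)
            (h1 : CechTop.cap U c ≤ CechTop.cap U a₁)
            (l0 : CechTop.cap U (fun _ : Fin 1 => i) ⊓ CechTop.cap U (fun _ : Fin 1 => j) ≤ CechTop.cap U a₀)
            (l1 : CechTop.cap U (fun _ : Fin 1 => i) ⊓ CechTop.cap U (fun _ : Fin 1 => j) ≤ CechTop.cap U a₁),
            resL A G h0 (v a₀) = resL A G h1 (v a₁) →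
              G.presheaf.map (homOfLE l0).op (v a₀ : Γ(G, _)) =
                G.presheaf.map (homOfLE l1).op (v a₁ : Γ(G, _)) := by
          intro a₀ a₁ h0 h1 l0 l1 h
          have h' := congrArg (fun w : sec A G _ => G.presheaf.map (homOfLE hle).op (w : Γ(G, _))) h
          exact ((res_res_mod G h0 hle _).symm.trans h').trans (res_res_mod G h1 hle _)
        have h := hd c
        revert h
        generalize CechTop.cap_comp_le U c (Fin.succAbove 0) = p0
        generalize CechTop.cap_comp_le U c (Fin.succAbove 1) = p1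
        revert p0 p1
        rw [e0, e1]
        exact fun p0 p1 h => key _ _ p0 p1 inf_le_left inf_le_right h
    refine ⟨(show sec A G ⊤ from s), funext fun a => ?_⟩
    obtain ⟨i, rfl⟩ : ∃ i, a = fun _ => i := ⟨a 0, funext fun k => congrArg a (Fin.ext (show k.1 = 0 by omega))⟩
    exact hs i
  · rintro ⟨x, rfl⟩
    funext c
    rw [dK_apply, Fin.sum_univ_two]
    simp only [Fin.val_zero, pow_zero, one_smul, Fin.val_one, pow_one, neg_smul, Pi.zero_apply]
    rw [← sub_eq_add_neg, sub_eq_zero]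
    exact (res_res_mod G _ _ _).trans (res_res_mod G _ _ _).symm

omit [QuasiCompact (X ↘ Spec (CommRingCat.of A))] [IsSeparated (X ↘ Spec (CommRingCat.of A))] in
include hsq in
theorem βp_toK (z : sec A F ⊤ ⊗[A] S) :
    (βp S hsq F U 0 ((toK A U F).rTensor S z) : Kp S (preU q U) (qF q F) 0) =
      toK S (preU q U) (qF q F) (show sec S (qF q F) ⊤ from β S hsq F (V := ⊤) (W := ⊤) le_top z) := by
  funext a
  refine (congrArg (β S hsq F (cap_preU q U a).le) ?_).trans
    (β_res S hsq F (V := ⊤) (W := ⊤) le_top (cap_preU q U a).le le_top le_top z).symm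
  rw [← LinearMap.comp_apply, ← LinearMap.rTensor_comp]
  rfl

include hsq in
/-- Degree zero: global sections commute with base change. -/
theorem bijective_β_top (hU : GoodCover U) (hfl : FlatMod.IsFlatOver (X ↘ Spec (CommRingCat.of A)) F)
    (hvan : ∀ p : ℕ, Subsingleton (Coh.HH X F (p + 1))) :
    Function.Bijective (β S hsq F (V := (⊤ : X.Opens)) (W := (⊤ : X'.Opens)) le_top) := by
  haveI : ∀ p, Module.Flat A (Kp A U F p) := flat_Kp A hU hfl
  have h0 : FlatExact.UEx (dd A U F) 0 := uex A F hU hfl hvan 0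
  have hd : ∀ p, (dd A U F) (p + 1) ∘ₗ (dd A U F) p = 0 := fun p => dK_dK A U F p
  let e : sec A F ⊤ ≃ₗ[A] LinearMap.ker (dK A U F 0) :=
    LinearEquiv.ofBijective ((toK A U F).codRestrict _ fun x => ((exact_toK A hU F) _).2 ⟨x, rfl⟩)
      ⟨fun x y h => injective_toK A hU F (congrArg Subtype.val h),
        fun v => let ⟨x, hx⟩ := ((exact_toK A hU F) v.1).1 v.2; ⟨x, Subtype.ext hx⟩⟩
  have hc : ∀ z, (toK A U F).rTensor S z = FlatExact.cyc (dd A U F) S (e.toLinearMap.rTensor S z) := fun z => by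
    rw [FlatExact.cyc, ← LinearMap.comp_apply ((Submodule.subtype _).rTensor S), ← LinearMap.rTensor_comp]
    rfl
  have hes : Function.Bijective (e.toLinearMap.rTensor S) := (TensorProduct.congr e (LinearEquiv.refl A S)).bijective
  constructor
  · intro z z' h
    refine hes.1 (FlatExact.injective_cyc hd h0 S ((bijective_βp S hsq F U hU 0).1 ?_))
    rw [← hc, ← hc]
    exact ((βp_toK A F S hsq z).trans (congrArg (fun w => toK S (preU q U) (qF q F) w) h)).trans
      (βp_toK A F S hsq z').symm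
  · intro y
    obtain ⟨w, hw⟩ := (bijective_βp S hsq F U hU 0).2 (toK S (preU q U) (qF q F) (show sec S (qF q F) ⊤ from y))
    have hw0 : (dK A U F 0).rTensor S w = 0 := by
      apply (bijective_βp S hsq F U hU 1).1
      refine (βp_d S hsq F U 0 w).symm.trans ?_
      refine (congrArg (dK S (preU q U) (qF q F) 0) hw).trans ?_
      refine (((exact_toK S (goodCover_preU S q hsq U hU) (qF q F)) _).2 ⟨_, rfl⟩).trans ?_
      exact (map_zero (βp S hsq F U 1)).symm
    obtain ⟨v, rfl⟩ := (FlatExact.exact_cyc hd h0 S w).1 hw0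
    obtain ⟨z, rfl⟩ := hes.2 v
    refine ⟨z, injective_toK S (goodCover_preU S q hsq U hU) (qF q F) ((βp_toK A F S hsq z).symm.trans ?_)⟩
    rw [hc]
    exact hw

end Groth.Agent.H22Alg.CohCech
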