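import Groth.Agent.H22Alg.CohCech

/-! # Degree zero: global sections commute with tensoring, for acyclic flat modules. -/

set_option autoImplicit false
set_option linter.style.haveILetI false
set_option linter.unusedSectionVars false

universe u

open AlgebraicGeometry CategoryTheory CategoryTheory.Limits TopologicalSpace Opposite
open scoped TensorProduct
open Groth.Agent.LeadBC Groth.Agent.LeadFF Groth.Agent.H15Site Groth.Agent.H11Ample

noncomputable section

namespace Groth.Agent.H22Alg.CohCech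

variable (A : Type u) [CommRing A] {X : Scheme.{u}} [X.Over (Spec (CommRingCat.of A))]
  {ι : Type u} [Finite ι] {U : ι → X.Opens}
  [QuasiCompact (X ↘ Spec (CommRingCat.of A))] [IsSeparated (X ↘ Spec (CommRingCat.of A))]
  (F : X.Modules) [F.IsQuasicoherent]

theorem τp_toK (M : ModuleCat.{u} A) (z : sec A F ⊤ ⊗[A] M) :
    τp A U F M 0 ((toK A U F).rTensor M z) = toK A U ((CohIII.tensorAFunctor A F).obj M) (τ₀ A F M ⊤ z) := by
  funext a
  refine Eq.trans ?_ (τ₀_res A F M le_top z).symm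
  show τ₀ A F M (CechTop.cap U a) ((LinearMap.proj a).rTensor M ((toK A U F).rTensor M z)) = _
  rw [← LinearMap.comp_apply ((LinearMap.proj a).rTensor M), ← LinearMap.rTensor_comp]
  rfl

/-- Degree zero: global sections commute with tensoring. -/
theorem bijective_τ_top (hU : GoodCover U) (hfl : FlatMod.IsFlatOver (X ↘ Spec (CommRingCat.of A)) F)
    (hvan : ∀ p : ℕ, Subsingleton (Coh.HH X F (p + 1))) (M : ModuleCat.{u} A) :
    Function.Bijective (τ₀ A F M ⊤) := by
  haveI : ∀ p, Module.Flat A (Kp A U F p) := flat_Kp A hU hfl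
  have h0 : FlatExact.UEx (dd A U F) 0 := uex A F hU hfl hvan 0
  have hd : ∀ p, (dd A U F) (p + 1) ∘ₗ (dd A U F) p = 0 := fun p => dK_dK A U F p
  let e : sec A F ⊤ ≃ₗ[A] LinearMap.ker (dK A U F 0) :=
    LinearEquiv.ofBijective ((toK A U F).codRestrict _ fun x => ((exact_toK A hU F) _).2 ⟨x, rfl⟩)
      ⟨fun x y h => injective_toK A hU F (congrArg Subtype.val h),
        fun v => let ⟨x, hx⟩ := ((exact_toK A hU F) v.1).1 v.2; ⟨x, Subtype.ext hx⟩⟩
  have hc : ∀ z, (toK A U F).rTensor M z = FlatExact.cyc (dd A U F) M (e.toLinearMap.rTensor M z) := fun z => by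
    rw [FlatExact.cyc, ← LinearMap.comp_apply ((Submodule.subtype _).rTensor M), ← LinearMap.rTensor_comp]
    rfl
  have hes : Function.Bijective (e.toLinearMap.rTensor M) := (TensorProduct.congr e (LinearEquiv.refl A M)).bijective
  let G := (CohIII.tensorAFunctor A F).obj M
  constructor
  · intro z z' h
    refine hes.1 (FlatExact.injective_cyc hd h0 M ((bijective_τp A F hU M 0).1 ?_))
    rw [← hc, ← hc, τp_toK, τp_toK, h]
  · intro y
    obtain ⟨w, hw⟩ := (bijective_τp A F hU M 0).2 (toK A U G y)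
    have hw0 : (dK A U F 0).rTensor M w = 0 := by
      apply (bijective_τp A F hU M 1).1
      refine (τp_d A U F M 0 w).symm.trans ?_
      refine (congrArg (dK A U G 0) hw).trans ?_
      refine (((exact_toK A hU G) _).2 ⟨_, rfl⟩).trans ?_
      exact (map_zero (τp A U F M 1)).symm
    obtain ⟨v, rfl⟩ := (FlatExact.exact_cyc hd h0 M w).1 hw0
    obtain ⟨z, rfl⟩ := hes.2 v
    exact ⟨z, injective_toK A hU G ((τp_toK A F M z).symm.trans (by rw [hc]; exact hw))⟩

variable (X) in
/-- `Γ(X, f^* N~) = N` when `f_* O = O` universally. -/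
theorem bijective_ηV_top (hU : GoodCover U) [(Coh.structureModule X).IsQuasicoherent]
    (hfl : FlatMod.IsFlatOver (X ↘ Spec (CommRingCat.of A)) (Coh.structureModule X))
    (hvan : ∀ p : ℕ, Subsingleton (Coh.HH X (Coh.structureModule X) (p + 1)))
    (hsc : Function.Bijective (sc A (⊤ : X.Opens))) (M : ModuleCat.{u} A) :
    Function.Bijective (ηV A (X := X) M ⊤) := by
  let F := Coh.structureModule X
  let eA : A ≃ₗ[A] sec A F ⊤ := LinearEquiv.ofBijective
    { toFun := fun r => (show sec A F ⊤ from (sc A ⊤ r : Γ(X, ⊤)))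
      map_add' := map_add (sc A ⊤)
      map_smul' := fun r s => by rw [RingHom.id_apply, smul_eq_mul, map_mul]; rfl } hsc
  have hb : Function.Bijective fun m : M => τ₀ A F M ⊤ (eA 1 ⊗ₜ m) := by
    refine (congrArg Function.Bijective (funext fun m => ?_)).mp ((bijective_τ_top A F hU hfl hvan M).comp
      ((TensorProduct.lid A M).symm ≪≫ₗ TensorProduct.congr eA (LinearEquiv.refl A M)).bijective)
    simp
  have hloc : ∀ (V : X.Opens), IsAffineOpen V →
      Function.Injective fun y : Γ(pT A (X := X) M, V) => tm (N := F) y (show Γ(F, V) from (1 : Γ(X, V))) := fun V hV y y' h => by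
    have h' := (bijective_mulSect (pT A (X := X) M) F V hV).1
      (a₁ := y ⊗ₜ[Γ(X, V)] (show Γ(F, V) from (1 : Γ(X, V)))) (a₂ := y' ⊗ₜ[Γ(X, V)] (show Γ(F, V) from (1 : Γ(X, V))))
      (((mulSect_tmul _ _ _ _ _).trans h).trans (mulSect_tmul _ _ _ _ _).symm)
    have h'' : y ⊗ₜ[Γ(X, V)] (1 : Γ(X, V)) = y' ⊗ₜ[Γ(X, V)] (1 : Γ(X, V)) := h'
    have h3 := congrArg (TensorProduct.rid Γ(X, V) Γ(pT A (X := X) M, V)) h''
    rwa [TensorProduct.rid_tmul, TensorProduct.rid_tmul, one_smul, one_smul] at h3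
  refine ⟨fun m m' h => hb.1 (congrArg (fun z : Γ(pT A (X := X) M, ⊤) => tm z _) h), fun y => ?_⟩
  obtain ⟨m, hm⟩ := hb.2 (tm (y : Γ(pT A (X := X) M, ⊤)) (eA 1 : Γ(F, ⊤)))
  refine ⟨m, TopCat.Sheaf.eq_of_locally_eq' ⟨(pT A (X := X) M).presheaf, (pT A (X := X) M).isSheaf⟩
    (fun i => CechTop.cap U fun _ : Fin 1 => i) ⊤ (fun i => homOfLE le_top)
    (fun z _ => Opens.mem_iSup.2 (cap_cover hU z)) (show Γ(pT A (X := X) M, ⊤) from ηV A M ⊤ m) _ fun i => ?_⟩
  refine hloc _ (hU.affine 0 _) ?_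
  have h := congrArg (resL A _ (le_top : CechTop.cap U (fun _ : Fin 1 => i) ≤ ⊤)) hm
  have h1 : ∀ y : Γ(pT A (X := X) M, ⊤),
      ((CohB1.tensorMod (pT A M) F).presheaf.map
        (homOfLE (le_top : CechTop.cap U (fun _ : Fin 1 => i) ≤ ⊤)).op (tm y (eA 1 : Γ(F, ⊤)))) =
      tm (N := F) ((pT A (X := X) M).presheaf.map (homOfLE le_top).op y) (show Γ(F, _) from (1 : Γ(X, CechTop.cap U (fun _ : Fin 1 => i)))) := fun y =>
    (tm_res _ y _).trans (congrArg (tm _) ((congrArg (X.presheaf.map (homOfLE le_top).op) (map_one (sc A ⊤))).trans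
      (map_one _)))
  exact ((h1 _).symm.trans h).trans (h1 y)

end Groth.Agent.H22Alg.CohCech
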