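import Mathlib
import Groth.Agent.S7642
import Groth.Agent.H22Alg.CurveProj
import Groth.Agent.H22Alg.CurveCompact
import Groth.Agent.H17.Ample.GenAffine

/-!
# Schemes of dimension at most one without proper components are affine
-/

set_option autoImplicit false
set_option linter.style.haveILetI false
universe u

open CategoryTheory CategoryTheory.Limits AlgebraicGeometry Opposite TopologicalSpace
open Groth.Agent Groth.Agent.H11Ample
open Groth.Agent.H8Props.FieldDim (cdim)

noncomputable section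

namespace Groth.Agent.H22Alg.CurveAffine

variable {Y : Scheme.{u}}

/-- An effective divisor supported exactly outside a dense open. -/
theorem exists_boundary_divisor [IsNoetherian Y] [Y.IsSeparated] (hdim : topologicalKrullDim Y ≤ 1) {U : Y.Opens}
    (hmax : DimOneAmple.MaxIn U) (hd : DimOneAmple.SchDense U) :
    ∃ (M : Y.Modules) (t : Γ(M, ⊤)), PicF.IsInvertible M ∧ gen M t = U := by
  classical
  have hclosed : ∀ z : Y, z ∉ U → IsClosed ({z} : Set Y) := fun z hz => DimOneAmple.isClosed_of_notMem hdim hmax hz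
  let Z := {z : Y // z ∉ U}
  haveI : Finite Z := (Set.Finite.subset (DimOneAmple.finite_diff ⊤ U fun y _ hy => hclosed y hy)
    (show {z : Y | z ∉ U} ⊆ ((⊤ : Y.Opens) : Set Y) \ U from fun z hz => ⟨trivial, hz⟩)).to_subtype
  choose W hW g hzW hzg hgU honly using fun z : Z => DimOneAmple.exists_nbhd hdim hmax z.2
  have hzero : ∀ z : Z, (W z : Set Y) \ Y.basicOpen (g z) = {z.1} := by
    intro z
    refine Set.Subset.antisymm (fun y hy => ?_) (by rintro y rfl; exact ⟨hzW z, hzg z⟩)
    exact honly z y hy.1 fun hyU => hy.2 (by rw [hgU z]; exact ⟨hy.1, hyU⟩)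
  choose I hI hI' using fun z : Z => DimOnePencil.exists_effIdeal ⟨W z, hW z⟩ (g z)
    (by rw [hzero z]; exact hclosed _ z.2)
  let J : Y.IdealSheafData := ⨅ z, I z
  have hJW : ∀ (z : Z) (O : Y.affineOpens) (h : O.1 ≤ W z),
      J.ideal O = Ideal.span {Y.presheaf.map (homOfLE h).op (g z)} := by
    intro z O h
    have h1 : (I z).ideal O = Ideal.span {Y.presheaf.map (homOfLE h).op (g z)} := by
      rw [← (I z).map_ideal (U := O) (V := ⟨W z, hW z⟩) h, hI, Ideal.map_span, Set.image_singleton]
      rfl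
    rw [show J.ideal = _ from Scheme.IdealSheafData.ideal_iInf I, iInf_apply]
    refine le_antisymm ((iInf_le _ z).trans h1.le) (le_iInf fun y => ?_)
    by_cases hy : y = z
    · rw [hy, h1]
    · have hdisj : Disjoint (O.1 : Set Y) ((W y : Set Y) \ Y.basicOpen (g y)) := by
        rw [hzero y]
        exact Set.disjoint_singleton_right.2 fun hm => hy (Subtype.ext (honly z _ (h hm) y.2))
      rw [hI' y O hdisj]
      exact le_top
  have hJU : ∀ O : Y.affineOpens, O.1 ≤ U → J.ideal O = ⊤ := by
    intro O h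
    rw [show J.ideal = _ from Scheme.IdealSheafData.ideal_iInf I, iInf_apply, iInf_eq_top]
    exact fun y => hI' y O (by rw [hzero y]; exact Set.disjoint_singleton_right.2 fun hm => y.2 (h hm))
  have hJ : BlowUp.IsEffCartierIdeal J := by
    intro x
    by_cases hx : x ∈ U
    · obtain ⟨O, hO, hxO, hOU⟩ := exists_isAffineOpen_mem_and_subset (U := U) hx
      exact ⟨⟨O, hO⟩, hxO, 1, one_mem _, by rw [hJU _ hOU, Ideal.span_singleton_one]⟩
    · refine ⟨⟨W ⟨x, hx⟩, hW _⟩, hzW ⟨x, hx⟩, g ⟨x, hx⟩, mem_nonZeroDivisors_iff_right.2 fun a ha => hd _ a ?_, ?_⟩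
      · have hu := DimOneAmple.isUnit_res (g ⟨x, hx⟩)
          (show W ⟨x, hx⟩ ⊓ U ≤ Y.basicOpen (g ⟨x, hx⟩) by rw [hgU]) inf_le_left
        refine hu.mul_left_eq_zero.1 ?_
        rw [← map_mul, ha, map_zero]
      · rw [hJW _ _ le_rfl]
        simp
  obtain ⟨M, t, hM, hloc⟩ := DimOnePencil.exists_section_equations hJ
  refine ⟨M, t, hM, Opens.ext (Set.ext fun x => ⟨fun hgen => ?_, fun hx => ?_⟩)⟩
  · by_contra hx
    let z : Z := ⟨x, hx⟩
    obtain ⟨O, hO, e, a, hxO, hOW, he, hta, hid⟩ := hloc x (W z) (hzW z)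
    have h1 : x ∈ Y.basicOpen a := (gen_inf_eq_basicOpen he t a hta).le ⟨hgen, hxO⟩
    obtain ⟨c, hc⟩ := Ideal.mem_span_singleton'.1
      ((hid.symm.trans (hJW z ⟨O, hO⟩ hOW)).le (Ideal.mem_span_singleton_self a))
    rw [← hc, Scheme.basicOpen_mul, Scheme.basicOpen_res] at h1
    exact hzg z h1.2.2
  · obtain ⟨O, hO, e, a, hxO, hOU, he, hta, hid⟩ := hloc x U hx
    have hau : IsUnit a := Ideal.span_singleton_eq_top.1 (hid.symm.trans (hJU ⟨O, hO⟩ hOU))
    refine mem_gen_of_isGen (W := O) ?_ hxO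
    rw [hta]
    have := isGen_res he (le_refl O) hau
    rwa [H10Coh.mres_self] at this

variable (k : Type u) [Field k] [Y.Over (Spec (CommRingCat.of k))] [IsProper (Y ↘ Spec (CommRingCat.of k))]

include k in
/-- An open meeting every component of dimension one properly is affine. -/
theorem isAffineOpen_of_meets (hdim : topologicalKrullDim Y ≤ 1) {U : Y.Opens}
    (hmax : DimOneAmple.MaxIn U) (hd : DimOneAmple.SchDense U)
    (hmeet : ∀ C ∈ irreducibleComponents Y, topologicalKrullDim C = 1 → ¬ C ⊆ U) : IsAffineOpen U := by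
  classical
  haveI := H28Int.isNoetherian k (X := Y)
  haveI : Y.IsSeparated := ⟨by
    rw [← terminal.comp_from (Y ↘ Spec (CommRingCat.of k))]
    infer_instance⟩
  obtain ⟨L, s, hL, hs⟩ := exists_boundary_divisor hdim hmax hd
  have hA : CohB1.IsAmple L := (S7642.result k Y hdim L hL).2 fun C hC hC1 => by
    let J := (Y.irreducibleComponentIdeal C hC).radical
    have hr : Set.range J.subschemeι = C := by
      rw [Scheme.IdealSheafData.range_subschemeι]; rfl
    have hCc := isClosed_of_mem_irreducibleComponents C hC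
    have hJ : J = Scheme.IdealSheafData.vanishingIdeal (DevLength.cl hC.1.genericPoint) := by
      refine Eq.trans Scheme.IdealSheafData.vanishingIdeal_support.symm ?_
      congr 1
      exact SetLike.ext' (hC.1.closure_genericPoint hCc).symm
    haveI : IsIntegral J.subscheme := hJ ▸ Groth.Agent.H22Alg.isIntegral_vanishingIdeal_closure _
    letI : J.subscheme.Over (Spec (CommRingCat.of k)) := ⟨J.subschemeι ≫ (Y ↘ Spec (CommRingCat.of k))⟩
    haveI : IsProper (J.subscheme ↘ Spec (CommRingCat.of k)) := inferInstanceAs (IsProper (J.subschemeι ≫ _))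
    have hdJ : topologicalKrullDim J.subscheme ≤ 1 :=
      J.subschemeι.isClosedEmbedding.isInducing.topologicalKrullDim_le.trans hdim
    have hgen : gen ((Scheme.Modules.pullback J.subschemeι).obj L) (pullTop J.subschemeι s) = J.subschemeι ⁻¹ᵁ gen L s := by
      have := gen_smul_pullSect J.subschemeι hL s (isUnit_one (M := Γ(J.subscheme, ⊤)))
      rwa [one_smul] at this
    obtain ⟨x, hxC, hxU⟩ := Set.not_subset.1 (hmeet C hC hC1)
    obtain ⟨y, rfl⟩ : x ∈ Set.range J.subschemeι := hr.symm ▸ hxC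
    refine CurveProj.deg_pos_of_section k hdJ (isInvertible_pullback _ hL) (pullTop J.subschemeι s) (y := y) ?_ ?_
    · rw [hgen]
      have hη : J.subschemeι (genericPoint J.subscheme) = hC.1.genericPoint := by
        have h1 : closure ({J.subschemeι (genericPoint J.subscheme)} : Set Y) = C := by
          refine (LeadDev.range_eq_closure J.subschemeι (ξ := J.subschemeι (genericPoint J.subscheme)) rfl).symm.trans ?_
          exact hr
        exact (IsGenericPoint.eq (h1 : IsGenericPoint _ C) (hC.1.isGenericPoint_genericPoint hCc))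
      show J.subschemeι (genericPoint J.subscheme) ∈ gen L s
      rw [hη, hs]
      obtain ⟨η, hηU, hη'⟩ := hmax hC.1.genericPoint
      have hCη : C ⊆ closure {η} := (hC.1.closure_genericPoint hCc).symm.le.trans
        (closure_minimal (Set.singleton_subset_iff.2 (specializes_iff_mem_closure.1 hη')) isClosed_closure)
      have hηC : closure {η} = C :=
        Set.Subset.antisymm (hC.2 isIrreducible_singleton.closure hCη) hCη
      exact (IsGenericPoint.eq (hC.1.isGenericPoint_genericPoint hCc) (hηC : IsGenericPoint η C)) ▸ hηU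
    · rw [hgen, hs]
      exact hxU
  rw [← hs]
  exact H17.GenAffine.isAffineOpen_gen (Y ↘ Spec (CommRingCat.of k)) hA s

omit [Y.Over (Spec (CommRingCat.of k))] [IsProper (Y ↘ Spec (CommRingCat.of k))]

/-- Without proper one-dimensional components a scheme of dimension at most one is affine. -/
theorem isAffine_of_noProperComponent {X : Scheme.{u}} [X.Over (Spec (CommRingCat.of k))]
    [IsSeparated (X ↘ Spec (CommRingCat.of k))] [LocallyOfFiniteType (X ↘ Spec (CommRingCat.of k))]
    [QuasiCompact (X ↘ Spec (CommRingCat.of k))] [IsNoetherian X] (hdim : topologicalKrullDim X ≤ 1)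
    (h : ∀ (C : Set X) (hC : C ∈ irreducibleComponents (X : Type u)), topologicalKrullDim C = 1 →
      ¬ IsProper ((X.irreducibleComponentIdeal C hC).radical.subschemeι ≫ (X ↘ (Spec (CommRingCat.of k))))) :
    IsAffine X := by
  obtain ⟨d, Y, c, j, hc, hj, hjc, hdense, hdom, hfin, hcl⟩ := CurveCompact.exists_compactification k hdim
  haveI := hc; haveI := hj; haveI := hdom
  letI : Y.Over (Spec (CommRingCat.of k)) := ⟨c ≫ CohB1.ProjSpace.toSpec d k⟩
  haveI : IsProper (CohB1.ProjSpace.toSpec d k) := inferInstance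
  haveI : IsProper (Y ↘ Spec (CommRingCat.of k)) := inferInstanceAs (IsProper (c ≫ _))
  haveI := H28Int.isNoetherian k (X := Y)
  haveI : QuasiCompact j := by
    haveI : QuasiCompact (j ≫ (Y ↘ Spec (CommRingCat.of k))) := by
      show QuasiCompact (j ≫ c ≫ CohB1.ProjSpace.toSpec d k)
      rw [hjc]; infer_instance
    exact QuasiCompact.of_comp j (Y ↘ Spec (CommRingCat.of k))
  let U : Y.Opens := j.opensRange
  have hmax : DimOneAmple.MaxIn U := by
    obtain ⟨Z, hZ, hgen, hmaxZ⟩ := DimOneAmple.exists_maxPoints (X := Y)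
    intro y
    obtain ⟨η, hη, hηy⟩ := hgen y
    refine ⟨η, ?_, hηy⟩
    by_contra hηU
    let S : Set Y := ⋃ ζ ∈ Z \ {η}, closure {ζ}
    have hS : IsClosed S := (hZ.diff).isClosed_biUnion fun ζ _ => isClosed_closure
    have hηS : η ∈ Sᶜ := fun hm => by
      obtain ⟨ζ, hζ, hm'⟩ := Set.mem_iUnion₂.1 hm
      exact hζ.2 (hmaxZ η hη ζ (specializes_iff_mem_closure.2 hm'))
    obtain ⟨w, hwS, hw⟩ := hdense.inter_open_nonempty Sᶜ hS.isOpen_compl ⟨η, hηS⟩
    obtain ⟨ζ, hζ, hζw⟩ := hgen w
    have hζη : ζ = η := by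
      by_contra hne
      exact hwS (Set.mem_iUnion₂.2 ⟨ζ, ⟨hζ, hne⟩, specializes_iff_mem_closure.1 hζw⟩)
    exact hηU ((hζη ▸ hζw).mem_open U.isOpen hw)
  have hd : DimOneAmple.SchDense U := by
    intro V s hs
    refine j.app_injective V ?_
    rw [map_zero]
    have hle : j ⁻¹ᵁ V ≤ j ⁻¹ᵁ (V ⊓ U) := fun x hx => ⟨hx, ⟨x, rfl⟩⟩
    have e := congrArg (j.appLE (V ⊓ U) (j ⁻¹ᵁ V) hle) hs
    rw [map_zero, ← CommRingCat.comp_apply, Scheme.Hom.map_appLE] at e
    rwa [Scheme.Hom.app_eq_appLE]
  have hdimY : topologicalKrullDim Y ≤ 1 := by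
    by_contra hlt
    have h2 : ((2 : ℕ) : WithBot ℕ∞) ≤ topologicalKrullDim Y := by
      rw [not_le] at hlt
      rcases hD : topologicalKrullDim Y with _ | e
      · rw [hD] at hlt; exact (not_lt_bot (a := (1 : WithBot ℕ∞)) hlt).elim
      · rw [hD] at hlt
        have h1 : ((1 : ℕ) : ℕ∞) < e := by exact_mod_cast WithBot.coe_lt_coe.1 hlt
        exact WithBot.coe_le_coe.2 (Order.add_one_le_of_lt h1)
    obtain ⟨c, hc'⟩ := (Order.le_krullDim_iff (α := IrreducibleCloseds Y)).1 h2
    let z := (c.last).2.genericPoint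
    have hz := H28Top.chain_le_dim_of_subset c (Y := closure {z})
      ((c.last).2.closure_genericPoint (c.last).3).ge
    rw [hc'] at hz
    obtain ⟨η, ⟨x, rfl⟩, hηz⟩ := hmax z
    have h3 : cdim (j x) ≤ ((1 : ℕ) : WithBot ℕ∞) := by
      rw [CurveCompact.cdim_map k (X ↘ Spec (CommRingCat.of k)) (Y ↘ Spec (CommRingCat.of k)) j hjc x]
      exact (H28Int.dim_le_of_subset (Set.subset_univ _)).trans
        ((IsHomeomorph.topologicalKrullDim_eq _ (Homeomorph.Set.univ X).isHomeomorph).le.trans hdim)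
    have h4 : topologicalKrullDim (closure ({z} : Set Y)) ≤ ((1 : ℕ) : WithBot ℕ∞) :=
      (H28Int.dim_le_of_subset (closure_minimal (Set.singleton_subset_iff.2
        (specializes_iff_mem_closure.1 hηz)) isClosed_closure)).trans h3
    have h5 := (le_trans (by exact_mod_cast hz) h4 : ((2 : ℕ) : WithBot ℕ∞) ≤ ((1 : ℕ) : WithBot ℕ∞))
    exact absurd h5 (by exact_mod_cast (by decide : ¬ (2 ≤ 1)))
  have hU : IsAffineOpen U := by
    refine isAffineOpen_of_meets k hdimY hmax hd fun C hC hC1 hCU => ?_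
    have hne : (C ∩ Set.range j).Nonempty := ⟨_, hC.1.1.some_mem, hCU hC.1.1.some_mem⟩
    have hC' : j ⁻¹' C ∈ irreducibleComponents (X : Type u) :=
      preimage_mem_irreducibleComponents hC j.isOpenEmbedding hne
    have himg : j '' (j ⁻¹' C) = C := Set.image_preimage_eq_of_subset hCU
    have hdimC : topologicalKrullDim (j ⁻¹' C : Set X) = 1 := by
      rw [IsHomeomorph.topologicalKrullDim_eq _
        (j.isOpenEmbedding.isEmbedding.homeomorphImage (j ⁻¹' C)).isHomeomorph, himg, hC1]
    refine h _ hC' hdimC ?_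
    let J := (X.irreducibleComponentIdeal (j ⁻¹' C) hC').radical
    show IsProper (J.subschemeι ≫ (X ↘ Spec (CommRingCat.of k)))
    have hr : Set.range (J.subschemeι ≫ j) = C := by
      rw [Scheme.Hom.comp_base, TopCat.coe_comp, Set.range_comp, Scheme.IdealSheafData.range_subschemeι]
      exact himg
    haveI : IsClosedImmersion (J.subschemeι ≫ j) := IsClosedImmersion.of_isPreimmersion _
      (hr ▸ isClosed_of_mem_irreducibleComponents C hC)
    rw [← hjc, ← Category.assoc]
    infer_instance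
  haveI : IsAffine U.toScheme := hU
  exact IsAffine.of_isIso j.isoOpensRange.hom

end Groth.Agent.H22Alg.CurveAffine
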