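import Mathlib
import Groth.Agent.H29RR.Twist
import Groth.Agent.H11Sym.InvertibleInverse
import Groth.Agent.H10Coh.SerreVanishing
import Groth.Agent.H10Coh.TwistExact
import Groth.Agent.H11Ample.Global
import Groth.Agent.H06Mod.StalkFinite
import Groth.Agent.H22Alg.CurveProj

/-! # Bundles on regular proper curves: ranks, images, splitting off -/

set_option autoImplicit false
set_option linter.style.haveILetI false
universe u

open CategoryTheory CategoryTheory.Limits AlgebraicGeometry TopologicalSpace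

noncomputable section

namespace Groth.Agent.H22Alg.CurveReg

open Groth.Agent.H29RR

attribute [local instance 10000] H10Coh.hasSheafifyAb H10Coh.hasWeakSheafifyAb H10Coh.hasExtAb H10Coh.enoughInjAb

variable {X : Scheme.{u}} [IsIntegral X] [IsLocallyNoetherian X]

theorem free_stalk (hdim : topologicalKrullDim X ≤ 1) (hreg : ∀ x : X, IsRegularLocalRing (X.presheaf.stalk x))
    {M : X.Modules} (hM : Coh.IsCoh M) (htf : TorSh.IsTorsionFree M) (x : X) :
    Module.Free (X.presheaf.stalk x) (M.presheaf.stalk x) := by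
  haveI := hreg x
  haveI : IsPrincipalIdealRing (X.presheaf.stalk x) :=
    H8Props.FlatDimOneBase.isPrincipalIdealRing_of_dim_le_one _
      ((H8Props.FlatDimOneBase.ringKrullDim_stalk_le X x).trans hdim)
  haveI := H29Ref.finite_stalk M hM.2 x
  haveI := htf x
  exact Module.free_of_finite_type_torsion_free'

theorem exists_rank (hdim : topologicalKrullDim X ≤ 1) (hreg : ∀ x : X, IsRegularLocalRing (X.presheaf.stalk x))
    {M : X.Modules} (hM : Coh.IsCoh M) (htf : TorSh.IsTorsionFree M) :
    ∃ r : ℕ, FlatMod.IsFinLocFreeOfRank r M := by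
  have hf := H29Ref.isFinLocFree_of_free_stalk M hM (free_stalk hdim hreg hM htf)
  obtain ⟨U, n, hgU, ⟨e⟩⟩ := hf (genericPoint X)
  refine ⟨n, fun y => ?_⟩
  obtain ⟨V, m, hyV, ⟨e'⟩⟩ := hf y
  have hgV : genericPoint X ∈ V := (genericPoint_specializes y).mem_open V.2 hyV
  obtain rfl : m = n := (H25Par.rank_at_generic e' hgV).trans (H25Par.rank_at_generic e hgU).symm
  exact ⟨V, hyV, ⟨e'⟩⟩

theorem exists_hom_ne_zero {M : X.Modules} (h : Curv2.IsGloballyGenerated M) (hne : ¬ IsZero M) :
    ∃ s : Coh.structureModule X ⟶ M, s ≠ 0 := by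
  obtain ⟨ι, p, hp⟩ := h
  haveI := hp
  by_contra hall
  push Not at hall
  have hp0 : p = 0 := Sigma.hom_ext _ _ fun i => (hall _).trans comp_zero.symm
  subst hp0
  exact hne (IsZero.of_epi_zero (SheafOfModules.free ι : X.Modules) M)

variable {k : Type u} [Field k] [X.Over (Spec (CommRingCat.of k))] [IsProper (X ↘ Spec (CommRingCat.of k))]

/-- Kernel and image of a map of bundles. -/
theorem exists_image_data (hdim : topologicalKrullDim X ≤ 1)
    (hreg : ∀ x : X, IsRegularLocalRing (X.presheaf.stalk x)) {n m : ℕ}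
    {E F : X.Modules} (hE : FlatMod.IsFinLocFreeOfRank n E) (hF : FlatMod.IsFinLocFreeOfRank m F) (f : E ⟶ F) :
    ∃ a r : ℕ, FlatMod.IsFinLocFreeOfRank a (kernel f) ∧ FlatMod.IsFinLocFreeOfRank r (Abelian.image f) ∧
      a + r = n ∧ r ≤ m ∧ (f ≠ 0 → 0 < r) ∧
      Curv2.deg k X E n = Curv2.deg k X (kernel f) a + Curv2.deg k X (Abelian.image f) r := by
  have hC := H10Coh.isCoh_cokernel f (isCoh_of_rank hE).1 (isCoh_of_rank hF)
  have hGc : Coh.IsCoh (Abelian.image f) := H10Coh.isCoh_kernel (cokernel.π f) (isCoh_of_rank hF) hC.1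
  have hKc : Coh.IsCoh (kernel f) := H10Coh.isCoh_kernel f (isCoh_of_rank hE) (isCoh_of_rank hF).1
  obtain ⟨a, hK⟩ := exists_rank hdim hreg hKc
    (H25Euler.isTorsionFree_of_mono (kernel.ι f) (H25Par.isTorsionFree_of_locFree (locFree_of_rank hE)))
  obtain ⟨r, hG⟩ := exists_rank hdim hreg hGc
    (H25Euler.isTorsionFree_of_mono (Abelian.image.ι f) (H25Par.isTorsionFree_of_locFree (locFree_of_rank hF)))
  let π := Abelian.factorThruImage f
  have hfac : π ≫ Abelian.image.ι f = f := Abelian.image.fac f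
  have hS : (ShortComplex.mk (kernel.ι f) π
      (by rw [← cancel_mono (Abelian.image.ι f), Category.assoc, hfac, kernel.condition, zero_comp])).ShortExact :=
    { exact := ShortComplex.exact_of_f_is_kernel _ (KernelFork.IsLimit.ofι' _ _ fun {A} x hx =>
        ⟨kernel.lift f x (by
          rw [← hfac, ← Category.assoc]
          show (x ≫ π) ≫ _ = 0
          rw [show x ≫ π = 0 from hx, zero_comp]), kernel.lift_ι _ _ _⟩) }
  obtain ⟨hr, hd⟩ := deg_add_of_shortExact (k := k) hS hK hE hG
  refine ⟨a, r, hK, hG, hr, H25Par.rank_le_of_mono (genericPoint X) hG hF (Abelian.image.ι f), fun hf => ?_, hd⟩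
  refine Nat.pos_of_ne_zero fun h0 => hf ?_
  subst h0
  rw [← hfac, (isZero_of_rank_zero hG).eq_of_src (Abelian.image.ι f) 0, comp_zero]

omit [IsLocallyNoetherian X] in
include k in
/-- A bundle of rank at least two is an extension of bundles of smaller positive ranks. -/
theorem exists_split (hdim : topologicalKrullDim X ≤ 1) (hreg : ∀ x : X, IsRegularLocalRing (X.presheaf.stalk x))
    {n : ℕ} {A : X.Modules} (hA : FlatMod.IsFinLocFreeOfRank (n + 2) A) :
    ∃ (S : ShortComplex X.Modules) (a c : ℕ), S.ShortExact ∧ S.X₂ = A ∧ FlatMod.IsFinLocFreeOfRank a S.X₁ ∧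
      FlatMod.IsFinLocFreeOfRank c S.X₃ ∧ a + c = n + 2 ∧ 0 < a ∧ 0 < c := by
  haveI := isNoetherian_of_proper (k := k) (X := X)
  obtain ⟨H, hH⟩ := CurveProj.exists_ample k hdim (X := X)
  obtain ⟨n₀, hn₀⟩ := H11Ample.eventually_globallyGenerated hH (isCoh_of_rank hA)
  let L := CohB1.tensorPow H n₀
  have hL : PicF.IsInvertible L := H11Ample.isInvertible_tensorPow hH.1 n₀
  let A' := CohB1.tensorMod A L
  have hA' : FlatMod.IsFinLocFreeOfRank (n + 2) A' := rank_tensor hA hL
  have hne : ¬ IsZero A' := fun h => by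
    obtain ⟨-, -, hr⟩ := H25Par.finrank_stalk hA' (genericPoint X)
    haveI : Subsingleton ((DerSch.stalkFunctor X (genericPoint X)).obj A') :=
      ModuleCat.isZero_iff_subsingleton.1 ((DerSch.stalkFunctor X (genericPoint X)).map_isZero h)
    haveI : Subsingleton (A'.presheaf.stalk (genericPoint X)) := this
    rw [Module.finrank_zero_of_subsingleton] at hr
    omega
  obtain ⟨s, hs⟩ := exists_hom_ne_zero (hn₀ n₀ le_rfl) hne
  have hO := rank_one_of_isInvertible (H11Ample.isInvertible_structureModule (X := X))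
  have hG : Coh.IsCoh (cokernel s) := H10Coh.isCoh_cokernel s (isCoh_of_rank hO).1 (isCoh_of_rank hA')
  obtain ⟨Q, q, hq, hQc, hQt, hη⟩ := H25Par.notMem_support_torsion hG
  haveI := hq
  obtain ⟨c, hQ⟩ := exists_rank hdim hreg hQc hQt
  let π : A' ⟶ Q := cokernel.π s ≫ q
  haveI : Epi π := epi_comp _ _
  have hKc : Coh.IsCoh (kernel π) := H10Coh.isCoh_kernel π (isCoh_of_rank hA') hQc.1
  obtain ⟨a, hK⟩ := exists_rank hdim hreg hKc
    (H25Euler.isTorsionFree_of_mono (kernel.ι π) (H25Par.isTorsionFree_of_locFree (locFree_of_rank hA')))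
  let S₀ := ShortComplex.mk (kernel.ι π) π (kernel.condition π)
  have hS₀ : S₀.ShortExact := { exact := ShortComplex.exact_kernel π }
  obtain ⟨hr, -⟩ := deg_add_of_shortExact (k := k) hS₀ hK hA' hQ
  have ha : 0 < a := Nat.pos_of_ne_zero fun h0 => hs (by
    subst h0
    have hsπ : s ≫ π = 0 := by
      show s ≫ cokernel.π s ≫ q = 0
      rw [cokernel.condition_assoc, zero_comp]
    rw [← kernel.lift_ι π s hsπ, (isZero_of_rank_zero hK).eq_of_src (kernel.ι π) 0, comp_zero])
  have hc : 0 < c := Nat.pos_of_ne_zero fun h0 => by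
    subst h0
    let F := DerSch.stalkFunctor X (genericPoint X)
    have hz : IsZero (F.obj (cokernel s)) := by
      obtain rfl : q = 0 := (isZero_of_rank_zero hQ).eq_of_tgt q 0
      exact IsZero.of_iso ((H25Euler.notMem_support_iff _ _).1 hη) (F.mapIso kernelZeroIsoSource.symm)
    haveI : Epi (F.map s) :=
      ((ShortComplex.exact_cokernel s).map F).epi_f (hz.eq_of_tgt _ _)
    have hsurj : Function.Surjective (F.map s).hom := (ModuleCat.epi_iff_surjective _).1 inferInstance
    obtain ⟨hf1, hfin1, hr1⟩ := H25Par.finrank_stalk hO (genericPoint X)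
    obtain ⟨hf2, hfin2, hr2⟩ := H25Par.finrank_stalk hA' (genericPoint X)
    haveI : Module.Finite (X.presheaf.stalk (genericPoint X)) (F.obj (Coh.structureModule X)) := hfin1
    haveI : Module.Free (X.presheaf.stalk (genericPoint X)) (F.obj (Coh.structureModule X)) := hf1
    have h1 : Module.finrank (X.presheaf.stalk (genericPoint X)) (F.obj A') ≤
        Module.finrank (X.presheaf.stalk (genericPoint X)) (F.obj (Coh.structureModule X)) :=
      LinearMap.finrank_le_finrank_of_surjective hsurj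
    have h2 : Module.finrank (X.presheaf.stalk (genericPoint X)) (F.obj (Coh.structureModule X)) = 1 := hr1
    have h3 : Module.finrank (X.presheaf.stalk (genericPoint X)) (F.obj A') = n + 2 := hr2
    omega
  obtain ⟨T, hT, ⟨eT⟩⟩ := H11Sym.exists_inverse hL
  let S₁ := H10Coh.Tw.seq S₀ hT
  have hS₁ : S₁.ShortExact := H10Coh.Tw.shortExact_seq hS₀ hT
  let e : S₁.X₂ ≅ A := H10Coh.Tw.assoc A L T ≪≫
    PicGrp.tensorModIso (Iso.refl A) (H10Coh.Tw.commIso L T ≪≫ eT) ≪≫ H10Coh.Tw.rightUnitIso A
  let S : ShortComplex X.Modules := ShortComplex.mk (S₁.f ≫ e.hom) (e.inv ≫ S₁.g) (by simp)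
  refine ⟨S, a, c, ?_, rfl, rank_tensor hK hT, rank_tensor hQ hT, hr, ha, hc⟩
  let i : S₁ ≅ S := ShortComplex.isoMk (Iso.refl _) e (Iso.refl _)
    ((Category.id_comp _).trans rfl) ((e.hom_inv_id_assoc S₁.g).trans (Category.comp_id _).symm)
  exact ShortComplex.shortExact_of_iso i hS₁

end Groth.Agent.H22Alg.CurveReg
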