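import Mathlib
import Groth.Agent.H22Alg.CycDiv
import Groth.Agent.H22Alg.CycBasic

/-!
Codimension one points and the flat pullback of principal divisors on integral schemes.
-/

universe u v

open AlgebraicGeometry CategoryTheory IsLocalRing

namespace Groth.Agent.H22Alg.CycFlatDiv

theorem dim_stalk_eq_one_iff {X : Scheme.{u}} [IsIntegral X] {δ : X → ℤ} (hδ : Cyc.IsDimFun X δ) (ξ : X) :
    ringKrullDim (X.presheaf.stalk ξ) = 1 ↔ δ ξ = δ (genericPoint X) - 1 := by
  rw [ringKrullDim_stalk_eq_coheight, show ((1 : WithBot ℕ∞)) = ((1 : ℕ∞) : WithBot ℕ∞) from rfl, WithBot.coe_inj]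
  have hgen : ∀ y : X, genericPoint X ⤳ y := genericPoint_specializes
  constructor
  · intro h
    have hne : genericPoint X ≠ ξ := fun he => by
      have : IsMax ξ := fun y _ => Scheme.le_iff_specializes.mpr (he ▸ hgen y)
      rw [Order.coheight_eq_zero.mpr this] at h
      exact zero_ne_one h
    have himm : ∀ z : X, genericPoint X ⤳ z → z ⤳ ξ → z = genericPoint X ∨ z = ξ := by
      intro z _ hzξ
      by_cases hz : z = ξ
      · exact Or.inr hz
      · refine Or.inl ?_
        have hlt : ξ < z := lt_of_le_not_ge (Scheme.le_iff_specializes.mpr hzξ)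
          fun h' => hz (hzξ.antisymm (Scheme.le_iff_specializes.mp h')).eq
        have h0 : Order.coheight z < (1 : ℕ) := (Order.coheight_le_coe_iff (n := 1)).mp h.le z hlt
        have hmax : IsMax z := Order.coheight_eq_zero.mp (Order.lt_one_iff.mp (by exact_mod_cast h0))
        exact ((Scheme.le_iff_specializes.mp (hmax (Scheme.le_iff_specializes.mpr (hgen z)))).antisymm (hgen z)).eq
    have := (hδ _ _ (hgen ξ) hne).2 himm
    omega
  · intro h
    have hmax : ∀ z : X, ξ < z → z = genericPoint X := by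
      intro z hz
      by_contra hne
      have hzξ : z ⤳ ξ := Scheme.le_iff_specializes.mp hz.le
      have h1 := (hδ _ _ hzξ hz.ne').1
      have h2 := (hδ _ _ (hgen z) (Ne.symm hne)).1
      omega
    have hltgen : ξ < genericPoint X := by
      refine lt_of_le_not_ge (Scheme.le_iff_specializes.mpr (hgen ξ)) fun h' => ?_
      have he : δ ξ = δ (genericPoint X) :=
        congrArg δ ((Scheme.le_iff_specializes.mp h').antisymm (hgen ξ)).eq
      omega
    refine le_antisymm ((Order.coheight_le_coe_iff (n := 1)).mpr fun y hy => ?_) ?_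
    · rw [hmax y hy, Order.coheight_eq_zero.mpr fun w _ => Scheme.le_iff_specializes.mpr (hgen w)]
      exact_mod_cast Nat.one_pos
    · refine Order.one_le_iff_ne_zero.mpr fun h0 => ?_
      exact hltgen.not_ge ((Order.coheight_eq_zero.mp h0) hltgen.le)

theorem ord_map {A B : Type u} [CommRing A] [CommRing B] [IsLocalRing A] [IsLocalRing B]
    (φ : A →+* B) [IsLocalHom φ] (hφ : φ.Flat) (a : A) :
    Ring.ord B (φ a) = Ring.ord A a * Module.length B (B ⧸ (maximalIdeal A).map φ) := by
  have h := CycBasic.length_quot_map φ hφ (Ideal.span {a})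
  rwa [Ideal.map_span, Set.image_singleton] at h

theorem isFractionRing_locQuot {X : Scheme.{u}} [IsIntegral X] (x : X) :
    Function.Injective (Cyc.specMap x (genericPoint X) (genericPoint_specializes x)) ∧
    IsFractionRing (Cyc.LocQuot x (genericPoint X) (genericPoint_specializes x))
      (X.residueField (genericPoint X)) := by
  set s := Cyc.specMap x (genericPoint X) (genericPoint_specializes x) with hs
  haveI : IsFractionRing (X.presheaf.stalk x) X.functionField := inferInstance
  have hfield : IsField (X.presheaf.stalk (genericPoint X)) := Field.toIsField X.functionField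
  have hres : Function.Bijective (X.residue (genericPoint X)).hom := by
    refine ⟨?_, X.residue_surjective _⟩
    rw [injective_iff_map_eq_zero]
    intro a ha
    by_contra h0
    obtain ⟨b, hb⟩ := hfield.mul_inv_cancel h0
    exact ((IsUnit.of_mul_eq_one b hb).map (X.residue (genericPoint X)).hom).ne_zero ha
  letI algF := (X.presheaf.stalkSpecializes (genericPoint_specializes x)).hom.toAlgebra
  haveI hF : IsFractionRing (X.presheaf.stalk x) (X.presheaf.stalk (genericPoint X)) := by
    have h := (inferInstance : IsFractionRing (X.presheaf.stalk x) X.functionField)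
    exact h
  have hinj : Function.Injective s := hres.1.comp (IsFractionRing.injective (X.presheaf.stalk x) (X.presheaf.stalk (genericPoint X)))
  refine ⟨hinj, ?_⟩
  have hker : RingHom.ker s = ⊥ := (RingHom.injective_iff_ker_eq_bot _).mp hinj
  let e : X.presheaf.stalk x ≃+* X.presheaf.stalk x ⧸ RingHom.ker s :=
    RingEquiv.ofBijective (Ideal.Quotient.mk (RingHom.ker s))
      ⟨by rw [RingHom.injective_iff_ker_eq_bot, Ideal.mk_ker, hker], Ideal.Quotient.mk_surjective⟩
  let φ := RingEquiv.ofBijective (X.residue (genericPoint X)).hom hres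
  have hsq : ∀ r, φ (algebraMap (X.presheaf.stalk x) (X.presheaf.stalk (genericPoint X)) r) = s r := fun r => rfl
  haveI : Nontrivial (Cyc.LocQuot x (genericPoint X) (genericPoint_specializes x)) :=
    Ideal.Quotient.nontrivial_iff.mpr (RingHom.ker_ne_top s)
  refine ⟨fun ⟨y, hy⟩ => ?_, fun z => ?_, fun {a b} hab => ?_⟩
  · obtain ⟨y, rfl⟩ := Ideal.Quotient.mk_surjective y
    refine isUnit_iff_ne_zero.mpr fun h0 => nonZeroDivisors.ne_zero hy ?_
    exact (Ideal.Quotient.eq_zero_iff_mem).mpr h0
  · obtain ⟨⟨a, b⟩, hab⟩ := IsLocalization.surj (nonZeroDivisors (X.presheaf.stalk x)) (φ.symm z)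
    refine ⟨⟨e a, ⟨e b, (MulEquivClass.map_nonZeroDivisors e).le ⟨b, b.2, rfl⟩⟩⟩, ?_⟩
    have h2 := congrArg φ hab
    rw [map_mul, φ.apply_symm_apply, hsq, hsq] at h2
    exact h2
  · obtain ⟨a, rfl⟩ := Ideal.Quotient.mk_surjective a
    obtain ⟨b, rfl⟩ := Ideal.Quotient.mk_surjective b
    exact ⟨1, by rw [hinj (hab : s a = s b)]⟩

theorem pullFun_divFun {X Y : Scheme.{u}} [IsIntegral X] [IsIntegral Y] {δX : X → ℤ} {δY : Y → ℤ}
    (hX : Cyc.IsSetup X δX) (hY : Cyc.IsSetup Y δY) (f : X ⟶ Y) [Flat f] [LocallyOfFiniteType f] {r : ℕ}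
    (hr : Cyc.HasRelDim f r) (hδ : Cyc.DeltaCompat f δX δY) (g : Y.residueField (f (genericPoint X))) (hg : g ≠ 0) :
    Cyc.pullFun f δX δY r (Cyc.divFun δY (f (genericPoint X)) g) =
      Cyc.divFun δX (genericPoint X) (f.residueFieldMap (genericPoint X) g) := by
  haveI := hX.1
  haveI := hY.1
  obtain ⟨hη, hηd⟩ := CycBasic.eq_and_delta_eq f hr hδ (genericPoint Y) (genericPoint X)
    (specializes_iff_mem_closure.mp (genericPoint_specializes _))
    (fun x' _ h => (h.antisymm (genericPoint_specializes x')).eq)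
  funext x
  have hspec : f (genericPoint X) ⤳ f x := (genericPoint_specializes x).map f.continuous
  have hle := CycBasic.delta_le_of_hasRelDim f hr hδ x
  by_cases hx : δX x + 1 = δX (genericPoint X)
  swap
  · simp only [Cyc.pullFun, Cyc.divFun]
    rw [dif_neg (c := genericPoint X ⤳ x ∧ _) (fun h => hx h.2)]
    split_ifs with h1 h2
    · exact absurd (by rw [hη] at h2; omega) hx
    · rw [zero_mul]
    · rfl
  by_cases hfx : f x = f (genericPoint X)
  · simp only [Cyc.pullFun, Cyc.divFun]
    rw [dif_pos (c := genericPoint X ⤳ x ∧ _) ⟨genericPoint_specializes x, hx⟩,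
      dif_neg (c := f (genericPoint X) ⤳ f x ∧ _) (fun h => by rw [hfx] at h; omega), zero_mul, ite_self]
    obtain ⟨t, ht⟩ := Y.residue_surjective (f (genericPoint X)) g
    let t' := Y.presheaf.stalkSpecializes (hfx ▸ specializes_rfl : f x ⤳ f (genericPoint X)) t
    have hback : Y.presheaf.stalkSpecializes hspec t' = t := by
      show (Y.presheaf.stalkSpecializes _ ≫ Y.presheaf.stalkSpecializes hspec) t = t
      rw [TopCat.Presheaf.stalkSpecializes_comp, TopCat.Presheaf.stalkSpecializes_refl]
      rfl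
    have ht' : IsUnit t' := by
      refine IsUnit.map _ ?_
      by_contra hnu
      refine hg ?_
      rw [← ht]
      exact (IsLocalRing.residue_eq_zero_iff t).mpr hnu
    have hval : f.residueFieldMap (genericPoint X) g =
        algebraMap (Cyc.LocQuot x (genericPoint X) (genericPoint_specializes x)) (X.residueField (genericPoint X))
          (Ideal.Quotient.mk _ (f.stalkMap x t')) := by
      rw [← ht, ← hback]
      refine (ConcreteCategory.congr_hom (Scheme.residue_residueFieldMap f (genericPoint X)) _).trans ?_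
      exact congrArg (X.residue (genericPoint X)).hom
        (f.stalkSpecializes_stalkMap_apply (genericPoint X) x (genericPoint_specializes x) t')
    rw [Cyc.ordAt, hval, ← div_one (algebraMap _ _ (Ideal.Quotient.mk _ (f.stalkMap x t'))),
      ← map_one (algebraMap (Cyc.LocQuot x (genericPoint X) (genericPoint_specializes x)) (X.residueField (genericPoint X)))]
    exact (CycDiv.ordFrac_eq_zero_of_isUnit ((ht'.map _).map _) isUnit_one).symm
  have h1 : δY (f x) < δY (f (genericPoint X)) := (hY.2.2 _ _ hspec (Ne.symm hfx)).1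
  rw [hη] at h1
  have hfd : δY (f x) + 1 = δY (genericPoint Y) := by omega
  simp only [Cyc.pullFun, Cyc.divFun]
  rw [if_pos (by omega), dif_pos (c := f (genericPoint X) ⤳ f x ∧ _) ⟨hspec, by rw [hη]; exact hfd⟩,
    dif_pos (c := genericPoint X ⤳ x ∧ _) ⟨genericPoint_specializes x, hx⟩]
  set A := Y.presheaf.stalk (f x)
  set B := X.presheaf.stalk x
  haveI : Ring.KrullDimLE 1 A := Ring.krullDimLE_iff.mpr ((dim_stalk_eq_one_iff hY.2.2 (f x)).mpr (by omega)).le
  haveI : Ring.KrullDimLE 1 B := Ring.krullDimLE_iff.mpr ((dim_stalk_eq_one_iff hX.2.2 x).mpr (by omega)).le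
  obtain ⟨hinjA', hfrA'⟩ := isFractionRing_locQuot (X := Y) (f x)
  obtain ⟨hinjB, hfrB⟩ := isFractionRing_locQuot (X := X) x
  let sA := Cyc.specMap (f x) (f (genericPoint X)) hspec
  let sB := Cyc.specMap x (genericPoint X) (genericPoint_specializes x)
  have hA : Function.Injective sA ∧ IsFractionRing (Cyc.LocQuot (f x) (f (genericPoint X)) hspec)
      (Y.residueField (f (genericPoint X))) := by
    have key : ∀ (η : Y) (h : η ⤳ f x), η = genericPoint Y → Function.Injective (Cyc.specMap (f x) η h) ∧
        IsFractionRing (Cyc.LocQuot (f x) η h) (Y.residueField η) := by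
      rintro η h rfl
      exact ⟨hinjA', hfrA'⟩
    exact key _ hspec hη
  haveI := hA.2
  haveI := hfrB
  letI := CycDiv.quotAlg sA
  haveI : Nontrivial (Cyc.LocQuot (f x) (f (genericPoint X)) hspec) :=
    Ideal.Quotient.nontrivial_iff.mpr (RingHom.ker_ne_top sA)
  haveI : Nontrivial (Cyc.LocQuot x (genericPoint X) (genericPoint_specializes x)) :=
    Ideal.Quotient.nontrivial_iff.mpr (RingHom.ker_ne_top sB)
  haveI : Ring.KrullDimLE 1 (Cyc.LocQuot (f x) (f (genericPoint X)) hspec) :=
    Ring.krullDimLE_iff.mpr ((ringKrullDim_quotient_le _).trans (Ring.krullDimLE_iff.mp ‹Ring.KrullDimLE 1 A›))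
  haveI : Ring.KrullDimLE 1 (Cyc.LocQuot x (genericPoint X) (genericPoint_specializes x)) :=
    Ring.krullDimLE_iff.mpr ((ringKrullDim_quotient_le _).trans (Ring.krullDimLE_iff.mp ‹Ring.KrullDimLE 1 B›))
  have hsq : ∀ a : A, f.residueFieldMap (genericPoint X) (sA a) = sB (f.stalkMap x a) := fun a => by
    refine (ConcreteCategory.congr_hom (Scheme.residue_residueFieldMap f (genericPoint X)) _).trans ?_
    exact congrArg (X.residue (genericPoint X)).hom
      (f.stalkSpecializes_stalkMap_apply (genericPoint X) x (genericPoint_specializes x) a)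
  obtain ⟨qa, qb, hqb, rfl⟩ := IsFractionRing.div_surjective (Cyc.LocQuot (f x) (f (genericPoint X)) hspec) g
  obtain ⟨a, rfl⟩ := Ideal.Quotient.mk_surjective qa
  obtain ⟨b, rfl⟩ := Ideal.Quotient.mk_surjective qb
  have ha0 : sA a ≠ 0 := fun h => hg (by
    show sA a / sA b = 0
    rw [h, zero_div])
  have hb0 : sA b ≠ 0 := fun h => nonZeroDivisors.ne_zero hqb (Ideal.Quotient.eq_zero_iff_mem.mpr h)
  have hB0 : ∀ c, sA c ≠ 0 → sB (f.stalkMap x c) ≠ 0 := fun c hc h => hc (by
    rw [← hsq] at h
    exact (map_eq_zero (f.residueFieldMap (genericPoint X)).hom).mp h)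
  have hnzd : ∀ {R : Type u} [CommRing R] [IsDomain R] {z : R}, z ≠ 0 → z ∈ nonZeroDivisors R :=
    fun hz => mem_nonZeroDivisors_of_ne_zero hz
  haveI := (RingHom.ker_isPrime sA : (RingHom.ker sA).IsPrime)
  haveI := (RingHom.ker_isPrime sB : (RingHom.ker sB).IsPrime)
  have hmk : ∀ {R : Type u} [CommRing R] {K : Type u} [Field K] (s : R →+* K) (z : R), s z ≠ 0 →
      Ideal.Quotient.mk (RingHom.ker s) z ≠ 0 := fun s z hz h => hz (Ideal.Quotient.eq_zero_iff_mem.mp h)
  have hRHS : f.residueFieldMap (genericPoint X) (algebraMap _ _ (Ideal.Quotient.mk (RingHom.ker sA) a) /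
      algebraMap _ _ (Ideal.Quotient.mk (RingHom.ker sA) b)) =
      algebraMap (Cyc.LocQuot x (genericPoint X) (genericPoint_specializes x)) _
          (Ideal.Quotient.mk (RingHom.ker sB) (f.stalkMap x a)) /
        algebraMap (Cyc.LocQuot x (genericPoint X) (genericPoint_specializes x)) _
          (Ideal.Quotient.mk (RingHom.ker sB) (f.stalkMap x b)) := by
    show f.residueFieldMap (genericPoint X) (sA a / sA b) = sB _ / sB _
    rw [map_div₀ (f.residueFieldMap (genericPoint X)).hom, hsq, hsq]
  simp only [Cyc.ordAt]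
  erw [hRHS, cycOrdFrac_div _ (hnzd (hmk sA a ha0)) (hnzd (hmk sA b hb0)),
    cycOrdFrac_div _ (hnzd (hmk sB _ (hB0 a ha0))) (hnzd (hmk sB _ (hB0 b hb0)))]
  have hord : ∀ c, Ring.ord (Cyc.LocQuot x (genericPoint X) (genericPoint_specializes x))
      (Ideal.Quotient.mk _ (f.stalkMap x c)) =
      Ring.ord (Cyc.LocQuot (f x) (f (genericPoint X)) hspec) (Ideal.Quotient.mk _ c) *
        Module.length B (B ⧸ (maximalIdeal A).map (f.stalkMap x).hom) := fun c => by
    let eA : A ≃+* Cyc.LocQuot (f x) (f (genericPoint X)) hspec := RingEquiv.ofBijective (Ideal.Quotient.mk _)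
      ⟨by rw [RingHom.injective_iff_ker_eq_bot, Ideal.mk_ker]; exact (RingHom.injective_iff_ker_eq_bot _).mp hA.1,
        Ideal.Quotient.mk_surjective⟩
    let eB : B ≃+* Cyc.LocQuot x (genericPoint X) (genericPoint_specializes x) := RingEquiv.ofBijective (Ideal.Quotient.mk _)
      ⟨by rw [RingHom.injective_iff_ker_eq_bot, Ideal.mk_ker]; exact (RingHom.injective_iff_ker_eq_bot _).mp hinjB,
        Ideal.Quotient.mk_surjective⟩
    show Ring.ord _ (eB (f.stalkMap x c)) = Ring.ord _ (eA c) * _
    rw [CycDiv.ord_ringEquiv, CycDiv.ord_ringEquiv]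
    exact ord_map (f.stalkMap x).hom (Flat.stalkMap f x) c
  rw [hord, hord, ENat.toNat_mul, ENat.toNat_mul]
  push_cast
  ring

end Groth.Agent.H22Alg.CycFlatDiv
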