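import Mathlib
import Groth.Prelude.Def_W4c1famcyclesFFR

/-!
# Determinants of endomorphisms of modules with finite free resolutions (helper22)
-/

set_option autoImplicit false
set_option linter.style.haveILetI false
universe u
open Polynomial

namespace Groth.Agent.H22Alg.DetFFR

section exact

variable {R : Type u} [CommRing R] {V : Type u} [AddCommGroup V] [Module R V]

open Module.Basis in
theorem charpoly_eq_mul [Module.Free R V] [Module.Finite R V] (W : Submodule R V) [Module.Free R W]
    [Module.Finite R W] [Module.Free R (V ⧸ W)] (e : V →ₗ[R] V) (he : W ≤ W.comap e) :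
    e.charpoly = (e.restrict he).charpoly * (W.mapQ W e he).charpoly := by
  classical
  let m := Module.Free.ChooseBasisIndex R W
  let bW : Module.Basis m R W := Module.Free.chooseBasis R W
  let n := Module.Free.ChooseBasisIndex R (V ⧸ W)
  let bQ : Module.Basis n R (V ⧸ W) := Module.Free.chooseBasis R (V ⧸ W)
  let b := sumQuot bW bQ
  let A : Matrix m m R := LinearMap.toMatrix bW bW (e.restrict he)
  let B : Matrix m n R := Matrix.of fun i l ↦
    ((sumQuot bW bQ).repr (e ((sumQuot bW bQ) (Sum.inr l)))) (Sum.inl i)
  let D : Matrix n n R := LinearMap.toMatrix bQ bQ (W.mapQ W e he)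
  suffices LinearMap.toMatrix b b e = Matrix.fromBlocks A B 0 D by
    rw [← LinearMap.charpoly_toMatrix e b, this, ← LinearMap.charpoly_toMatrix (e.restrict he) bW,
      ← LinearMap.charpoly_toMatrix (W.mapQ W e he) bQ, Matrix.charpoly_fromBlocks_zero₂₁]
  ext u v
  cases u with
  | inl i =>
    cases v with
    | inl k =>
      simp only [b, sumQuot_inl, Matrix.fromBlocks_apply₁₁, A, LinearMap.toMatrix_apply]
      apply sumQuot_repr_inl_of_mem
    | inr l => simp [b, LinearMap.toMatrix_apply, Matrix.fromBlocks_apply₁₂, B]
  | inr j =>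
    cases v with
    | inl k =>
      suffices W.mkQ (e (bW k)) = 0 by simp [LinearMap.toMatrix_apply, b, this]
      rw [← LinearMap.mem_ker, Submodule.ker_mkQ]
      exact he (Submodule.coe_mem (bW k))
    | inr l =>
      simp only [LinearMap.toMatrix_apply, sumQuot_repr_inr,
        Matrix.fromBlocks_apply₂₂, b, D]
      rw [← sumQuot_inr bW bQ l, W.mapQ_apply]
      simp

variable {K M : Type u} [AddCommGroup K] [Module R K] [AddCommGroup M] [Module R M]

theorem charpoly_of_exact [Module.Free R V] [Module.Finite R V] [Module.Free R K] [Module.Finite R K]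
    [Module.Free R M] [Module.Finite R M] (i : K →ₗ[R] V) (hi : Function.Injective i) (g : V →ₗ[R] M)
    (hg : Function.Surjective g) (h : Function.Exact i g)
    (eK : K →ₗ[R] K) (eV : V →ₗ[R] V) (eM : M →ₗ[R] M) (h1 : eV ∘ₗ i = i ∘ₗ eK) (h2 : g ∘ₗ eV = eM ∘ₗ g) :
    eV.charpoly = eK.charpoly * eM.charpoly := by
  let W := LinearMap.ker g
  let α : K ≃ₗ[R] W := (LinearEquiv.ofInjective i hi).trans (LinearEquiv.ofEq _ _ h.linearMap_ker_eq.symm)
  let β : (V ⧸ W) ≃ₗ[R] M := g.quotKerEquivOfSurjective hg
  haveI : Module.Free R W := Module.Free.of_equiv α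
  haveI : Module.Finite R W := Module.Finite.equiv α
  haveI : Module.Free R (V ⧸ W) := Module.Free.of_equiv β.symm
  have he : W ≤ W.comap eV := fun v hv => by
    show g (eV v) = 0
    rw [← LinearMap.comp_apply, h2, LinearMap.comp_apply, LinearMap.mem_ker.mp hv, map_zero]
  rw [charpoly_eq_mul W eV he]
  have e1 : eV.restrict he = α.conj eK := by
    refine LinearMap.ext fun w => Subtype.ext ?_
    obtain ⟨x, rfl⟩ := α.surjective w
    rw [LinearEquiv.conj_apply_apply, LinearEquiv.symm_apply_apply]
    exact LinearMap.congr_fun h1 x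
  have e2 : W.mapQ W eV he = β.symm.conj eM := by
    refine LinearMap.ext fun w => ?_
    obtain ⟨v, rfl⟩ := Submodule.Quotient.mk_surjective W w
    rw [LinearEquiv.conj_apply_apply, LinearEquiv.symm_symm, Submodule.mapQ_apply]
    apply β.injective
    rw [LinearEquiv.apply_symm_apply]
    exact LinearMap.congr_fun h2 v
  rw [e1, e2, LinearEquiv.charpoly_conj, LinearEquiv.charpoly_conj]

theorem free_of_exact [IsLocalRing R] [Module.Free R V] [Module.Finite R V] [Module.Free R K] [Module.Finite R K]
    (i : K →ₗ[R] V) (hi : Function.Injective i) (g : V →ₗ[R] M) (hg : Function.Surjective g)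
    (h : Function.Exact i g) {c : R} (hc : c ≠ 0) (hcm : ∀ r ∈ IsLocalRing.maximalIdeal R, r * c = 0) :
    Module.Free R M := by
  classical
  refine Module.free_of_lTensor_residueField_injective i g hg h ?_
  let m := IsLocalRing.maximalIdeal R
  rw [← LinearMap.ker_eq_bot, eq_bot_iff]
  intro z hz
  obtain ⟨x, rfl⟩ := TensorProduct.mk_surjective R K (IsLocalRing.ResidueField R) Ideal.Quotient.mk_surjective z
  change (1 : IsLocalRing.ResidueField R) ⊗ₜ[R] i x = 0 at hz
  have hmem : ∀ {N : Type u} [AddCommGroup N] [Module R N] (y : N),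
      (1 : IsLocalRing.ResidueField R) ⊗ₜ[R] y = 0 → y ∈ m • (⊤ : Submodule R N) := by
    intro N _ _ y hy
    have := (TensorProduct.quotTensorEquivQuotSMul N m).map_eq_zero_iff.mpr hy
    have e1 : (1 : IsLocalRing.ResidueField R) = Ideal.Quotient.mk m 1 := rfl
    rw [e1] at this
    erw [TensorProduct.quotTensorEquivQuotSMul_mk_tmul] at this
    simpa [Submodule.Quotient.mk_eq_zero] using this
  have hix : c • i x = 0 := by
    refine Submodule.smul_induction_on (hmem _ hz) (fun r hr n _ => ?_) (fun a b ha hb => by rw [smul_add, ha, hb, add_zero])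
    rw [smul_smul, mul_comm, hcm r hr, zero_smul]
  have hx : c • x = 0 := hi (by rw [map_smul, hix, map_zero])
  let b := Module.Free.chooseBasis R K
  have hmx : ∀ j, b.repr x j ∈ m := fun j => by
    by_contra hu
    have hu' : IsUnit (b.repr x j) := by simpa [m] using hu
    have := congrArg (fun v => b.repr v j) hx
    simp only [map_smul, Finsupp.smul_apply, smul_eq_mul, map_zero, Finsupp.zero_apply] at this
    exact hc (hu'.mul_left_eq_zero.mp this)
  rw [Submodule.mem_bot, ← b.sum_repr x, map_sum]
  refine Finset.sum_eq_zero fun j _ => ?_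
  show (1 : IsLocalRing.ResidueField R) ⊗ₜ[R] (b.repr x j • b j) = 0
  rw [TensorProduct.tmul_smul, TensorProduct.smul_tmul', Algebra.smul_def, mul_one]
  have : algebraMap R (IsLocalRing.ResidueField R) (b.repr x j) = 0 := Ideal.Quotient.eq_zero_iff_mem.mpr (hmx j)
  rw [this, TensorProduct.zero_tmul]

end exact

variable {A : Type u} [CommRing A]

theorem finite_of_ffr : ∀ (n : ℕ) (M : Type u) [AddCommGroup M] [Module A M],
    FamCyc.HasFiniteFreeResolutionLE A n M → Module.Finite A M
  | 0, _, _, _, h => h.2
  | _ + 1, _, _, _, ⟨_, f, hf, _⟩ => Module.Finite.of_surjective f hf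

/-- The charpoly relation of a localised endomorphism. -/
def Rel (M : Type u) [AddCommGroup M] [Module A M] [Module.Finite A M] (φ : M →ₗ[A] M) (P Q : A[X]) : Prop :=
  ∀ (p : Ideal A) [p.IsPrime] [Module.Free (Localization.AtPrime p) (LocalizedModule p.primeCompl M)],
    P.map (algebraMap A (Localization.AtPrime p)) =
      (LocalizedModule.map p.primeCompl φ).charpoly * Q.map (algebraMap A (Localization.AtPrime p))

theorem charpoly_localized {M : Type u} [AddCommGroup M] [Module A M] [Module.Free A M] [Module.Finite A M]
    (φ : M →ₗ[A] M) (S : Submonoid A) [Module.Free (Localization S) (LocalizedModule S M)] :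
    (LocalizedModule.map S φ).charpoly = φ.charpoly.map (algebraMap A (Localization S)) := by
  classical
  let b := Module.Free.chooseBasis A M
  let bS := b.ofIsLocalizedModule (Localization S) S (LocalizedModule.mkLinearMap S M)
  rw [← φ.charpoly_toMatrix b, ← LinearMap.charpoly_toMatrix (LocalizedModule.map S φ) bS, ← Matrix.charpoly_map]
  congr 1
  ext i j
  rw [LinearMap.toMatrix_apply, Matrix.map_apply, LinearMap.toMatrix_apply]
  rw [show bS j = LocalizedModule.mk (b j) 1 from b.ofIsLocalizedModule_apply _ _ _ _, LocalizedModule.map_mk]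
  exact b.ofIsLocalizedModule_repr_apply _ _ _ _ _

theorem exact_localized {K V M : Type u} [AddCommGroup K] [Module A K] [AddCommGroup V] [Module A V]
    [AddCommGroup M] [Module A M] (i : K →ₗ[A] V) (g : V →ₗ[A] M) (h : Function.Exact i g) (S : Submonoid A) :
    Function.Exact (LocalizedModule.map S i) (LocalizedModule.map S g) :=
  LocalizedModule.map_exact S i g h

theorem map_comp_localized {K V M : Type u} [AddCommGroup K] [Module A K] [AddCommGroup V] [Module A V]
    [AddCommGroup M] [Module A M] (i : K →ₗ[A] V) (g : V →ₗ[A] M) (S : Submonoid A) :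
    LocalizedModule.map S (g ∘ₗ i) = LocalizedModule.map S g ∘ₗ LocalizedModule.map S i := by
  refine LinearMap.ext fun x => ?_
  induction x using LocalizedModule.induction_on with
  | _ m s => simp

theorem exists_rel : ∀ (n : ℕ) (M : Type u) [AddCommGroup M] [Module A M] [Module.Finite A M],
    FamCyc.HasFiniteFreeResolutionLE A n M → ∀ φ : M →ₗ[A] M,
      ∃ P Q : A[X], P.Monic ∧ Q.Monic ∧ Rel M φ P Q := by
  intro n
  induction n with
  | zero =>
    intro M _ _ _ h φ
    haveI := h.1
    exact ⟨φ.charpoly, 1, φ.charpoly_monic, monic_one, fun p _ _ => by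
      rw [Polynomial.map_one, mul_one, charpoly_localized φ]⟩
  | succ n IH =>
    intro M _ _ _ h φ
    obtain ⟨k, f, hf, hK⟩ := h
    haveI : Module.Finite A (LinearMap.ker f) := finite_of_ffr n _ hK
    obtain ⟨ψ, hψ⟩ := Module.projective_lifting_property f (φ ∘ₗ f) hf
    have hstab : ∀ x ∈ LinearMap.ker f, ψ x ∈ LinearMap.ker f := fun x hx => by
      rw [LinearMap.mem_ker, ← LinearMap.comp_apply, hψ, LinearMap.comp_apply, LinearMap.mem_ker.mp hx, map_zero]
    let φ' := ψ.restrict hstab
    obtain ⟨P', Q', hP', hQ', hrel⟩ := IH _ hK φ'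
    refine ⟨ψ.charpoly * Q', P', ψ.charpoly_monic.mul hQ', hP', fun p _ _ => ?_⟩
    let S := p.primeCompl
    let ι := LocalizedModule.map S (LinearMap.ker f).subtype
    let fp := LocalizedModule.map S f
    have hι : Function.Injective ι := LocalizedModule.map_injective _ _ Subtype.val_injective
    have hfp : Function.Surjective fp := LocalizedModule.map_surjective _ _ hf
    have hex : Function.Exact ι fp := exact_localized _ _ (LinearMap.exact_subtype_ker_map f) S
    haveI : Module.Free (Localization.AtPrime p) (LocalizedModule S (LinearMap.ker f)) := by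
      haveI : Module.Projective (Localization.AtPrime p) (LocalizedModule S M) := inferInstance
      obtain ⟨sec, hsec⟩ := Module.projective_lifting_property fp LinearMap.id hfp
      haveI : Module.Free (Localization.AtPrime p) (LocalizedModule S (Fin k → A)) :=
        .of_basis ((Pi.basisFun A (Fin k)).ofIsLocalizedModule (Localization.AtPrime p) S (LocalizedModule.mkLinearMap S _))
      let e := Function.Exact.splitSurjectiveEquiv (M := LocalizedModule S (LinearMap.ker f)) (f := ι) (g := fp) hex hι ⟨sec, hsec⟩
      have h1 : (LinearMap.fst (Localization.AtPrime p) _ _ ∘ₗ e.1.toLinearMap) ∘ₗ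
          (e.1.symm.toLinearMap ∘ₗ LinearMap.inl (Localization.AtPrime p) _ _) = LinearMap.id := by
        refine LinearMap.ext fun x => ?_
        simp
      haveI : Module.Projective (Localization.AtPrime p) (LocalizedModule S (LinearMap.ker f)) :=
        Module.Projective.of_split _ _ h1
      exact Module.free_of_flat_of_isLocalRing (R := Localization.AtPrime p) (P := LocalizedModule S (LinearMap.ker f))
    have hrel' := hrel p
    haveI : Module.Free (Localization.AtPrime p) (LocalizedModule S (Fin k → A)) :=
      .of_basis ((Pi.basisFun A (Fin k)).ofIsLocalizedModule (Localization.AtPrime p) S (LocalizedModule.mkLinearMap S _))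
    have key := charpoly_of_exact (K := LocalizedModule S (LinearMap.ker f)) (V := LocalizedModule S (Fin k → A)) (M := LocalizedModule S M) ι hι fp hfp hex (LocalizedModule.map S φ') (LocalizedModule.map S ψ) (LocalizedModule.map S φ)
      (show LocalizedModule.map S ψ ∘ₗ LocalizedModule.map S (LinearMap.ker f).subtype =
          LocalizedModule.map S (LinearMap.ker f).subtype ∘ₗ LocalizedModule.map S φ' by
        rw [← map_comp_localized, ← map_comp_localized]; rfl)
      (show LocalizedModule.map S f ∘ₗ LocalizedModule.map S ψ = LocalizedModule.map S φ ∘ₗ LocalizedModule.map S f by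
        rw [← map_comp_localized, ← map_comp_localized, hψ])
    rw [Polynomial.map_mul, hrel', ← charpoly_localized ψ, key]
    ring

theorem free_localized : ∀ (n : ℕ) (M : Type u) [AddCommGroup M] [Module A M],
    FamCyc.HasFiniteFreeResolutionLE A n M → ∀ (p : Ideal A) [p.IsPrime] (c : Localization.AtPrime p), c ≠ 0 →
      (∀ r ∈ IsLocalRing.maximalIdeal (Localization.AtPrime p), r * c = 0) →
        Module.Free (Localization.AtPrime p) (LocalizedModule p.primeCompl M) := by
  intro n
  induction n with
  | zero =>
    intro M _ _ h p _ c _ _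
    haveI := h.1
    haveI := h.2
    exact .of_basis ((Module.Free.chooseBasis A M).ofIsLocalizedModule (Localization.AtPrime p) p.primeCompl
      (LocalizedModule.mkLinearMap p.primeCompl M))
  | succ n IH =>
    intro M _ _ h p _ c hc hcm
    obtain ⟨k, f, hf, hK⟩ := h
    let S := p.primeCompl
    haveI := IH _ hK p c hc hcm
    haveI : Module.Finite A (LinearMap.ker f) := finite_of_ffr n _ hK
    haveI : Module.Free (Localization.AtPrime p) (LocalizedModule S (Fin k → A)) :=
      .of_basis ((Pi.basisFun A (Fin k)).ofIsLocalizedModule (Localization.AtPrime p) S (LocalizedModule.mkLinearMap S _))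
    exact free_of_exact (K := LocalizedModule S (LinearMap.ker f)) (V := LocalizedModule S (Fin k → A)) (M := LocalizedModule S M) (LocalizedModule.map S (LinearMap.ker f).subtype)
      (LocalizedModule.map_injective _ _ Subtype.val_injective) (LocalizedModule.map S f)
      (LocalizedModule.map_surjective _ _ hf) (exact_localized _ _ (LinearMap.exact_subtype_ker_map f) S) hc hcm

/-- An element vanishing at all associated primes is zero. -/
theorem eq_zero_of_localized [IsNoetherianRing A] (x : A)
    (h : ∀ (p : Ideal A) [p.IsPrime] (c : Localization.AtPrime p), c ≠ 0 →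
      (∀ r ∈ IsLocalRing.maximalIdeal (Localization.AtPrime p), r * c = 0) →
        algebraMap A (Localization.AtPrime p) x = 0) : x = 0 := by
  by_contra hx
  obtain ⟨P, hP, hle⟩ := exists_le_isAssociatedPrime_of_isNoetherianRing A x hx
  obtain ⟨hPp, y, hy⟩ := isAssociatedPrime_iff.mp hP
  have hmem : ∀ r : A, r ∈ P ↔ r * y = 0 := fun r => by rw [hy, Submodule.mem_colon_singleton]; simp
  have h0 : algebraMap A (Localization.AtPrime P) y ≠ 0 := by
    intro h0
    obtain ⟨s, hs⟩ := (IsLocalization.map_eq_zero_iff P.primeCompl _ y).mp h0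
    exact s.2 ((hmem s).mpr hs)
  have := h P (algebraMap A (Localization.AtPrime P) y) h0 fun r hr => by
    obtain ⟨a, s, rfl⟩ := IsLocalization.exists_mk'_eq P.primeCompl r
    have ha : a ∈ P := (IsLocalization.AtPrime.mk'_mem_maximal_iff _ P a s).mp hr
    rw [mul_comm, IsLocalization.mul_mk'_eq_mk'_of_mul, mul_comm y a, (hmem a).mp ha]
    simp
  obtain ⟨s, hs⟩ := (IsLocalization.map_eq_zero_iff P.primeCompl _ x).mp this
  exact s.2 (hle (by rw [Submodule.mem_colon_singleton]; simpa using hs))

theorem existsUnique_det [IsNoetherianRing A] (M : Type u) [AddCommGroup M] [Module A M] (n : ℕ)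
    (hM : FamCyc.HasFiniteFreeResolutionLE A n M) (φ : M →ₗ[A] M) :
    ∃! a : A, ∀ (p : Ideal A) [p.IsPrime],
      Module.Free (Localization.AtPrime p) (LocalizedModule p.primeCompl M) →
        algebraMap A (Localization.AtPrime p) a = LinearMap.det (LocalizedModule.map p.primeCompl φ) := by
  haveI := finite_of_ffr n M hM
  obtain ⟨P, Q, hP, hQ, hrel⟩ := exists_rel n M hM φ
  have hmod : P %ₘ Q = 0 := by
    ext j
    rw [Polynomial.coeff_zero]
    refine eq_zero_of_localized _ fun p _ c hc hcm => ?_
    haveI := free_localized n M hM p c hc hcm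
    rw [← Polynomial.coeff_map, Polynomial.map_modByMonic _ hQ, hrel p,
      (Polynomial.modByMonic_eq_zero_iff_dvd (hQ.map _)).mpr (dvd_mul_left _ _), Polynomial.coeff_zero]
  let R := P /ₘ Q
  have hPR : P = Q * R := by
    conv_lhs => rw [← Polynomial.modByMonic_add_div P Q, hmod, zero_add]
  refine ⟨(-1) ^ (P.natDegree - Q.natDegree) * R.coeff 0, fun p hp hfree => ?_, fun b hb => ?_⟩
  · haveI := hfree
    let η := algebraMap A (Localization.AtPrime p)
    have hcp : (LocalizedModule.map p.primeCompl φ).charpoly = R.map η := by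
      refine (hQ.map η).isRegular.right ?_
      show _ * Q.map η = R.map η * Q.map η
      rw [← hrel p, ← Polynomial.map_mul, mul_comm R Q, ← hPR]
    have hdeg : Module.finrank (Localization.AtPrime p) (LocalizedModule p.primeCompl M) =
        P.natDegree - Q.natDegree := by
      rw [← LinearMap.charpoly_natDegree (LocalizedModule.map p.primeCompl φ), ← hP.natDegree_map η,
        ← hQ.natDegree_map η, hrel p,
        (LinearMap.charpoly_monic _).natDegree_mul (hQ.map η), Nat.add_sub_cancel]
    rw [LinearMap.det_eq_sign_charpoly_coeff, hcp, hdeg, map_mul, map_pow, map_neg, map_one, Polynomial.coeff_map]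
  · refine sub_eq_zero.mp (eq_zero_of_localized _ fun p _ c hc hcm => ?_)
    haveI := free_localized n M hM p c hc hcm
    let η := algebraMap A (Localization.AtPrime p)
    have hcp : (LocalizedModule.map p.primeCompl φ).charpoly = R.map η := by
      refine (hQ.map η).isRegular.right ?_
      show _ * Q.map η = R.map η * Q.map η
      rw [← hrel p, ← Polynomial.map_mul, mul_comm R Q, ← hPR]
    have hdeg : Module.finrank (Localization.AtPrime p) (LocalizedModule p.primeCompl M) =
        P.natDegree - Q.natDegree := by
      rw [← LinearMap.charpoly_natDegree (LocalizedModule.map p.primeCompl φ), ← hP.natDegree_map η,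
        ← hQ.natDegree_map η, hrel p,
        (LinearMap.charpoly_monic _).natDegree_mul (hQ.map η), Nat.add_sub_cancel]
    rw [map_sub, hb p inferInstance, LinearMap.det_eq_sign_charpoly_coeff, hcp, hdeg, map_mul, map_pow, map_neg,
      map_one, Polynomial.coeff_map, sub_self]

end Groth.Agent.H22Alg.DetFFR
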