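import Mathlib
import Groth.Prelude.Def_PolLaw2

/-!
Coefficients of homogeneous polynomial laws: the value at a finite linear combination, consistency,
homogeneity, extensionality along spanning families.
-/

universe u

open scoped TensorProduct

namespace Groth.Agent.H22Alg.PL

open MvPolynomial

variable {A : Type u} [CommRing A] {M N P : Type u} [AddCommGroup M] [Module A M]
  [AddCommGroup N] [Module A N] [AddCommGroup P] [Module A P]

/-- Coordinates of `A[X_σ] ⊗ N` on monomials. -/
noncomputable def cd {σ : Type u} : MvPolynomial σ A ⊗[A] N ≃ₗ[A] (σ →₀ ℕ) →₀ N :=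
  letI := Classical.decEq (σ →₀ ℕ)
  TensorProduct.equivFinsuppOfBasisLeft (basisMonomials σ A)

theorem cd_tmul {σ : Type u} (p : MvPolynomial σ A) (n : N) (τ : σ →₀ ℕ) :
    cd (p ⊗ₜ[A] n) τ = coeff τ p • n := by
  letI := Classical.decEq (σ →₀ ℕ)
  exact TensorProduct.equivFinsuppOfBasisLeft_apply_tmul_apply (basisMonomials σ A) p n τ

theorem cd_monomial {σ : Type u} [DecidableEq σ] (ν τ : σ →₀ ℕ) (a : A) (n : N) :
    cd (monomial ν a ⊗ₜ[A] n) τ = if ν = τ then a • n else 0 := by
  rw [cd_tmul, coeff_monomial]; split <;> simp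

theorem sum_monomial_cd {σ : Type u} (x : MvPolynomial σ A ⊗[A] N) :
    ∑ ν ∈ (cd x).support, monomial ν (1 : A) ⊗ₜ[A] cd x ν = x := by
  letI := Classical.decEq (σ →₀ ℕ)
  refine Eq.trans ?_ (LinearEquiv.symm_apply_apply cd x)
  exact (TensorProduct.equivFinsuppOfBasisLeft_symm_apply (basisMonomials σ A) (cd x)).symm.trans rfl

variable {ι : Type u}

/-- The generic element on a finite subfamily. -/
noncomputable def gen (b : ι → M) (s : Finset ι) : MvPolynomial ι A ⊗[A] M :=
  ∑ j ∈ s, X j ⊗ₜ[A] b j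

/-- The coefficients of a law on a finite subfamily. -/
noncomputable def cs (F : M →ₚₗ[A] N) (b : ι → M) (s : Finset ι) : (ι →₀ ℕ) →₀ N :=
  cd (F.toFun' _ (gen b s))

/-- The coefficient of a law at a multi-index. -/
noncomputable def co (F : M →ₚₗ[A] N) (b : ι → M) (ν : ι →₀ ℕ) : N :=
  cs F b ν.support ν

theorem map_gen {S : Type u} [CommSemiring S] [Algebra A S] (b : ι → M) (s : Finset ι)
    (φ : MvPolynomial ι A →ₐ[A] S) :
    φ.toLinearMap.rTensor M (gen b s) = ∑ j ∈ s, φ (X j) ⊗ₜ[A] b j := by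
  simp [gen]

theorem toFun'_sum (F : M →ₚₗ[A] N) (b : ι → M) (s : Finset ι) {S : Type u} [CommSemiring S]
    [Algebra A S] (v : ι → S) :
    F.toFun' S (∑ j ∈ s, v j ⊗ₜ[A] b j) =
      ∑ ν ∈ (cs F b s).support, (ν.prod fun j k => v j ^ k) ⊗ₜ[A] cs F b s ν := by
  have h := congrFun (F.isCompat' (aeval v : MvPolynomial ι A →ₐ[A] S)) (gen b s)
  simp only [Function.comp_apply] at h
  rw [map_gen] at h
  simp only [aeval_X] at h
  rw [← h]
  conv_lhs => rw [← sum_monomial_cd (F.toFun' _ (gen b s))]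
  rw [map_sum]
  refine Finset.sum_congr rfl fun ν _ => ?_
  rw [LinearMap.rTensor_tmul, AlgHom.toLinearMap_apply, aeval_monomial, map_one, one_mul]
  rfl

open Classical in
/-- The coefficients after substituting monomials. -/
theorem cd_toFun'_monomial (F : M →ₚₗ[A] N) (b : ι → M) (s : Finset ι) {σ : Type u}
    (e : ι → σ →₀ ℕ) (a : ι → A) (τ : σ →₀ ℕ) :
    cd (F.toFun' (MvPolynomial σ A) (∑ j ∈ s, monomial (e j) (a j) ⊗ₜ[A] b j)) τ =
      ∑ ν ∈ (cs F b s).support,
        if (ν.sum fun j k => k • e j) = τ then (ν.prod fun j k => a j ^ k) • cs F b s ν else 0 := by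
  rw [toFun'_sum, map_sum, Finsupp.finsetSum_apply]
  refine Finset.sum_congr rfl fun ν _ => ?_
  have : (ν.prod fun j k => monomial (e j) (a j) ^ k) =
      monomial (ν.sum fun j k => k • e j) (ν.prod fun j k => a j ^ k) := by
    simp only [Finsupp.prod, Finsupp.sum, monomial_pow, ← monomial_sum_prod]
  rw [this, cd_monomial]

theorem cs_eq_zero_of_not_subset (F : M →ₚₗ[A] N) (b : ι → M) {s : Finset ι} {ν : ι →₀ ℕ}
    (h : ¬ ν.support ⊆ s) : cs F b s ν = 0 := by
  classical
  have hg : gen b s = ∑ j ∈ s, monomial (Finsupp.single j 1) (if j ∈ s then (1 : A) else 0) ⊗ₜ[A] b j :=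
    Finset.sum_congr rfl fun j hj => by rw [if_pos hj]; rfl
  show cd (F.toFun' _ (gen b s)) ν = 0
  rw [hg, cd_toFun'_monomial]
  refine Finset.sum_eq_zero fun μ _ => ?_
  have hμ : (μ.sum fun j k => k • Finsupp.single j 1) = μ := by
    simp [Finsupp.smul_single]
  rw [hμ]
  split_ifs with he
  · subst he
    obtain ⟨j, hj, hjs⟩ := Finset.not_subset.mp h
    rw [Finsupp.prod, Finset.prod_eq_zero hj, zero_smul]
    rw [if_neg hjs, zero_pow (Finsupp.mem_support_iff.mp hj)]
  · rfl

theorem cs_of_subset (F : M →ₚₗ[A] N) (b : ι → M) {s t : Finset ι} (hst : s ⊆ t) {ν : ι →₀ ℕ}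
    (h : ν.support ⊆ s) : cs F b s ν = cs F b t ν := by
  classical
  have hg : gen b s = ∑ j ∈ t, monomial (Finsupp.single j 1) (if j ∈ s then (1 : A) else 0) ⊗ₜ[A] b j := by
    rw [gen, ← Finset.sum_subset hst (fun j _ hj => by rw [if_neg hj, map_zero, TensorProduct.zero_tmul])]
    exact Finset.sum_congr rfl fun j hj => by rw [if_pos hj]; rfl
  show cd (F.toFun' _ (gen b s)) ν = _
  rw [hg, cd_toFun'_monomial]
  have hμ : ∀ μ : ι →₀ ℕ, (μ.sum fun j k => k • Finsupp.single j 1) = μ := fun μ => by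
    simp [Finsupp.smul_single]
  simp only [hμ]
  rw [Finset.sum_ite_eq']
  split_ifs with he
  · rw [Finsupp.prod, Finset.prod_eq_one, one_smul]
    intro j hj
    rw [if_pos (h hj), one_pow]
  · exact (Finsupp.notMem_support_iff.mp he).symm

theorem cs_apply_of_subset (F : M →ₚₗ[A] N) (b : ι → M) {s : Finset ι} {ν : ι →₀ ℕ}
    (h : ν.support ⊆ s) : cs F b s ν = co F b ν :=
  (cs_of_subset F b h subset_rfl).symm

/-- Homogeneity for module-valued laws. -/
theorem co_eq_zero_of_degree_ne {F : M →ₚₗ[A] N} {d : ℕ} (hF : PolLaw.IsHomog F d) (b : ι → M)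
    {ν : ι →₀ ℕ} (h : (ν.sum fun _ k => k) ≠ d) : co F b ν = 0 := by
  classical
  set s := ν.support
  let emb : (ι →₀ ℕ) → (Option ι →₀ ℕ) := Finsupp.mapDomain some
  let e : ι → (Option ι →₀ ℕ) := fun j => Finsupp.single none 1 + Finsupp.single (some j) 1
  let τ : Option ι →₀ ℕ := (ν.sum fun _ k => k) • Finsupp.single none 1 + emb ν
  have hinj : ∀ (μ : ι →₀ ℕ) (k l : ℕ), k • Finsupp.single none 1 + emb μ = l • Finsupp.single none 1 + emb ν → μ = ν ∧ k = l := by
    intro μ k l hkl
    refine ⟨Finsupp.ext fun j => ?_, ?_⟩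
    · simpa [emb, Finsupp.mapDomain_apply (Option.some_injective ι)] using DFunLike.congr_fun hkl (some j)
    · simpa [emb, Finsupp.mapDomain_of_notMem_range] using DFunLike.congr_fun hkl none
  have hsum : ∀ μ : ι →₀ ℕ, (μ.sum fun j k => k • e j) =
      (μ.sum fun _ k => k) • Finsupp.single none 1 + emb μ := fun μ => by
    simp only [e, emb, smul_add, Finsupp.mapDomain, Finsupp.smul_single, smul_eq_mul, mul_one,
      Finsupp.sum_add]
    rw [← Finsupp.single_sum]
  have h1 := cd_toFun'_monomial F b s e (fun _ => 1) τ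
  have h2 : (∑ j ∈ s, monomial (e j) (1 : A) ⊗ₜ[A] b j) =
      (X (none : Option ι) : MvPolynomial (Option ι) A) • ∑ j ∈ s, monomial (Finsupp.single (some j) 1) (1 : A) ⊗ₜ[A] b j := by
    rw [Finset.smul_sum]
    refine Finset.sum_congr rfl fun j _ => ?_
    rw [TensorProduct.smul_tmul', smul_eq_mul, X, monomial_mul, mul_one]
  rw [h2, hF (MvPolynomial (Option ι) A), toFun'_sum, Finset.smul_sum, map_sum, Finsupp.finsetSum_apply] at h1
  rw [Finset.sum_eq_zero, Finset.sum_eq_single ν] at h1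
  · rw [hsum, if_pos rfl] at h1
    simpa [Finsupp.prod, co, s] using h1.symm
  · intro μ _ hμ
    rw [hsum, if_neg fun hh => hμ (hinj _ _ _ hh).1]
  · intro hν
    rw [Finsupp.notMem_support_iff.mp hν, smul_zero, ite_self]
  · intro μ _
    have : (X (none : Option ι) : MvPolynomial (Option ι) A) ^ d * (μ.prod fun j k => monomial (Finsupp.single (some j) 1) (1 : A) ^ k) =
        monomial (d • Finsupp.single none 1 + emb μ) (1 : A) := by
      simp only [X, monomial_pow, one_pow, Finsupp.prod, ← monomial_sum_one, monomial_mul, one_mul]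
      congr 2
      simp [emb, Finsupp.mapDomain, Finsupp.sum]
    rw [TensorProduct.smul_tmul', smul_eq_mul, this, cd_monomial, if_neg]
    intro hh
    exact h (hinj _ _ _ hh).2.symm

theorem cs_support_subset {F : M →ₚₗ[A] N} {d : ℕ} (hF : PolLaw.IsHomog F d) (b : ι → M) (s : Finset ι)
    [DecidableEq ι] : (cs F b s).support ⊆ s.finsuppAntidiag d := by
  intro ν hν
  have hνne := Finsupp.mem_support_iff.mp hν
  have hs : ν.support ⊆ s := by
    by_contra hc; exact hνne (cs_eq_zero_of_not_subset F b hc)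
  rw [Finset.mem_finsuppAntidiag']
  refine ⟨?_, hs⟩
  by_contra hd
  exact hνne ((cs_apply_of_subset F b hs).trans (co_eq_zero_of_degree_ne hF b hd))

/-- The value of a homogeneous law at a finite combination. -/
theorem eval_sum {F : M →ₚₗ[A] N} {d : ℕ} (hF : PolLaw.IsHomog F d) (b : ι → M) (s : Finset ι)
    [DecidableEq ι] {S : Type u} [CommSemiring S] [Algebra A S] (v : ι → S) :
    F.toFun' S (∑ j ∈ s, v j ⊗ₜ[A] b j) =
      ∑ ν ∈ s.finsuppAntidiag d, (ν.prod fun j k => v j ^ k) ⊗ₜ[A] co F b ν := by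
  rw [toFun'_sum, Finset.sum_subset (cs_support_subset hF b s) fun ν _ hν => by
    rw [Finsupp.notMem_support_iff.mp hν, TensorProduct.tmul_zero]]
  refine Finset.sum_congr rfl fun ν hν => ?_
  rw [cs_apply_of_subset F b (Finset.mem_finsuppAntidiag.mp hν).2]

/-- The coefficient formula after a monomial substitution, for homogeneous laws. -/
theorem coord_subst {F : M →ₚₗ[A] N} {d : ℕ} (hF : PolLaw.IsHomog F d) (b : ι → M) (s : Finset ι)
    [DecidableEq ι] {σ : Type u} [DecidableEq σ] (e : ι → σ →₀ ℕ) (a : ι → A) (τ : σ →₀ ℕ) :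
    cd (F.toFun' (MvPolynomial σ A) (∑ j ∈ s, monomial (e j) (a j) ⊗ₜ[A] b j)) τ =
      ∑ ν ∈ s.finsuppAntidiag d,
        if (ν.sum fun j k => k • e j) = τ then (ν.prod fun j k => a j ^ k) • co F b ν else 0 := by
  rw [eval_sum hF, map_sum, Finsupp.finsetSum_apply]
  refine Finset.sum_congr rfl fun ν _ => ?_
  have : (ν.prod fun j k => monomial (e j) (a j) ^ k) =
      monomial (ν.sum fun j k => k • e j) (ν.prod fun j k => a j ^ k) := by
    simp only [Finsupp.prod, Finsupp.sum, monomial_pow, ← monomial_sum_prod]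
  rw [this, cd_monomial]

/-- Every element of `S ⊗ M` is a finite combination of a spanning family. -/
theorem exists_sum_eq {b : ι → M} (hb : Submodule.span A (Set.range b) = ⊤) {S : Type u}
    [CommSemiring S] [Algebra A S] (x : S ⊗[A] M) :
    ∃ (s : Finset ι) (v : ι → S), x = ∑ j ∈ s, v j ⊗ₜ[A] b j := by
  classical
  induction x using TensorProduct.induction_on with
  | zero => exact ⟨∅, 0, by simp⟩
  | tmul t m =>
    obtain ⟨c, hc⟩ := (Finsupp.mem_span_range_iff_exists_finsupp).mp (hb ▸ Submodule.mem_top : m ∈ Submodule.span A (Set.range b))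
    refine ⟨c.support, fun j => c j • t, ?_⟩
    simp only [← hc, Finsupp.sum, TensorProduct.tmul_sum, TensorProduct.smul_tmul]
  | add x y hx hy =>
    obtain ⟨s, v, rfl⟩ := hx
    obtain ⟨t, w, rfl⟩ := hy
    refine ⟨s ∪ t, fun j => (if j ∈ s then v j else 0) + (if j ∈ t then w j else 0), ?_⟩
    simp only [TensorProduct.add_tmul, Finset.sum_add_distrib]
    congr 1
    · rw [← Finset.sum_subset Finset.subset_union_left (fun j _ hj => by rw [if_neg hj, TensorProduct.zero_tmul])]
      exact Finset.sum_congr rfl fun j hj => by rw [if_pos hj]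
    · rw [← Finset.sum_subset Finset.subset_union_right (fun j _ hj => by rw [if_neg hj, TensorProduct.zero_tmul])]
      exact Finset.sum_congr rfl fun j hj => by rw [if_pos hj]

/-- Homogeneous laws are determined by their coefficients on a spanning family. -/
theorem ext_of_co {F G : M →ₚₗ[A] N} {d : ℕ} (hF : PolLaw.IsHomog F d) (hG : PolLaw.IsHomog G d)
    {b : ι → M} (hb : Submodule.span A (Set.range b) = ⊤) (h : ∀ ν, co F b ν = co G b ν) : F = G := by
  classical
  ext S _ _ x
  obtain ⟨s, v, rfl⟩ := exists_sum_eq hb x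
  rw [eval_sum hF, eval_sum hG]
  simp only [h]

theorem co_postcomp (g : N →ₗ[A] P) (F : M →ₚₗ[A] N) (b : ι → M) (ν : ι →₀ ℕ) :
    co (PolLaw.postcomp g F) b ν = g (co F b ν) := by
  classical
  show cd (g.lTensor _ (F.toFun' _ (gen b ν.support))) ν = g (cd (F.toFun' _ (gen b ν.support)) ν)
  generalize F.toFun' _ (gen b ν.support) = x
  induction x using TensorProduct.induction_on with
  | zero => simp
  | tmul p n => rw [LinearMap.lTensor_tmul, cd_tmul, cd_tmul, map_smul]
  | add x y hx hy => simp only [map_add, Finsupp.add_apply, hx, hy]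

theorem co_precomp (F : N →ₚₗ[A] P) (g : M →ₗ[A] N) (b : ι → M) (ν : ι →₀ ℕ) :
    co (PolLaw.precomp F g) b ν = co F (g ∘ b) ν := by
  show cd (F.toFun' _ (g.lTensor _ (gen b ν.support))) ν = cd (F.toFun' _ (gen (g ∘ b) ν.support)) ν
  simp [gen]

/-- A coefficient at an index using a vanishing member of the family is zero. -/
theorem co_eq_zero_of_family_zero (F : M →ₚₗ[A] N) (b : ι → M) {ν : ι →₀ ℕ} {j : ι}
    (hj : ν j ≠ 0) (hb : b j = 0) : co F b ν = 0 := by
  classical
  have hg : gen b ν.support = gen b (ν.support.erase j) :=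
    (Finset.sum_erase (f := fun i => (X i : MvPolynomial ι A) ⊗ₜ[A] b i) _
      (by rw [hb, TensorProduct.tmul_zero])).symm
  show cd (F.toFun' _ (gen b ν.support)) ν = 0
  rw [hg]
  exact cs_eq_zero_of_not_subset F b fun h => Finset.notMem_erase j _ (h (Finsupp.mem_support_iff.mpr hj))

/-- Reindexing along an injective map. -/
theorem co_comp_injective {F : M →ₚₗ[A] N} {d : ℕ} (hF : PolLaw.IsHomog F d) {κ : Type u} (b : ι → M)
    (e : κ → ι) (he : Function.Injective e) (ν : κ →₀ ℕ) :
    co F (b ∘ e) ν = co F b (ν.mapDomain e) := by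
  classical
  have hsupp : (ν.mapDomain e).support = ν.support.image e := Finsupp.mapDomain_support_of_injective he ν
  have h1 : gen b (ν.mapDomain e).support =
      ∑ k ∈ ν.support, monomial (Finsupp.single (e k) 1) (1 : A) ⊗ₜ[A] (b ∘ e) k := by
    rw [gen, hsupp, Finset.sum_image fun x _ y _ h => he h]
    rfl
  show _ = cd (F.toFun' _ (gen b _)) _
  rw [h1, cd_toFun'_monomial]
  have hμ : ∀ μ : κ →₀ ℕ, (μ.sum fun j k => k • Finsupp.single (e j) 1) = μ.mapDomain e := fun μ => by
    simp [Finsupp.mapDomain, Finsupp.smul_single]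
  simp only [hμ, one_pow, Finsupp.prod, Finset.prod_const_one, one_smul,
    (Finsupp.mapDomain_injective he).eq_iff]
  rw [Finset.sum_ite_eq']
  split_ifs with h
  · rfl
  · exact Finsupp.notMem_support_iff.mp h

end Groth.Agent.H22Alg.PL
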