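import Mathlib
import Groth.Prelude.Def_PolLaw2
import Groth.Agent.H22Alg.PolLawCoeff

/-!
Functions `Fin d → ι`, orbit sums, polarisation of homogeneous laws, and the tensor power law.
-/

universe u

open scoped TensorProduct

namespace Groth.Agent.H22Alg.PL

open MvPolynomial

variable {A : Type u} [CommRing A] {M N P : Type u} [AddCommGroup M] [Module A M]
  [AddCommGroup N] [Module A N] [AddCommGroup P] [Module A P] {ι : Type u} {d : ℕ}

/-- The multi-index of a function on `Fin d`. -/
noncomputable def cnt (c : Fin d → ι) : ι →₀ ℕ := ∑ i, Finsupp.single (c i) 1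

theorem cnt_apply [DecidableEq ι] (c : Fin d → ι) (j : ι) :
    cnt c j = (Finset.univ.filter fun i => c i = j).card := by
  rw [cnt, Finsupp.finsetSum_apply, Finset.card_filter]
  exact Finset.sum_congr rfl fun i _ => Finsupp.single_apply

theorem mem_support_cnt (c : Fin d → ι) (i : Fin d) : c i ∈ (cnt c).support := by
  classical
  rw [Finsupp.mem_support_iff, cnt_apply]
  exact (Finset.card_pos.mpr ⟨i, by simp⟩).ne'

theorem degree_cnt (c : Fin d → ι) : ((cnt c).sum fun _ k => k) = d := by
  rw [cnt, ← Finsupp.sum_finsetSum_index (fun _ => rfl) (fun _ _ _ => rfl)]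
  simp

theorem support_cnt_subset {s : Finset ι} (c : Fin d → ι) (h : ∀ i, c i ∈ s) : (cnt c).support ⊆ s := by
  classical
  intro j hj
  rw [Finsupp.mem_support_iff, cnt_apply] at hj
  obtain ⟨i, hi⟩ := Finset.card_ne_zero.mp hj
  obtain rfl := (Finset.mem_filter.mp hi).2
  exact h i

theorem cnt_mem_antidiag [DecidableEq ι] {s : Finset ι} (c : Fin d → ι) (h : ∀ i, c i ∈ s) :
    cnt c ∈ s.finsuppAntidiag d :=
  Finset.mem_finsuppAntidiag'.mpr ⟨degree_cnt c, support_cnt_subset c h⟩

theorem prod_cnt {S : Type*} [CommMonoid S] (v : ι → S) (c : Fin d → ι) :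
    ((cnt c).prod fun j k => v j ^ k) = ∏ i, v (c i) := by
  rw [cnt, ← Finsupp.prod_finsetSum_index (fun _ => pow_zero _) (fun _ _ _ => pow_add _ _ _)]
  simp

theorem prod_X_eq_monomial (c : Fin d → ι) :
    (∏ i, (X (c i) : MvPolynomial ι A)) = monomial (cnt c) 1 := by
  rw [cnt, monomial_sum_one]
  rfl

theorem cnt_comp_perm (c : Fin d → ι) (σ : Equiv.Perm (Fin d)) : cnt (fun i => c (σ i)) = cnt c :=
  Equiv.sum_comp σ fun i => Finsupp.single (c i) 1

open Classical in
/-- The functions with a given multi-index. -/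
noncomputable def fib (d : ℕ) (ν : ι →₀ ℕ) : Finset (Fin d → ι) :=
  (Fintype.piFinset fun _ => ν.support).filter fun c => cnt c = ν

theorem mem_fib {ν : ι →₀ ℕ} {c : Fin d → ι} : c ∈ fib d ν ↔ cnt c = ν := by
  classical
  simp only [fib, Finset.mem_filter, Fintype.mem_piFinset]
  exact ⟨And.right, fun h => ⟨fun i => h ▸ mem_support_cnt c i, h⟩⟩

theorem fib_eq_filter [DecidableEq ι] {s : Finset ι} {ν : ι →₀ ℕ} (h : ν.support ⊆ s) :
    fib d ν = (Fintype.piFinset fun _ => s).filter fun c => cnt c = ν := by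
  ext c
  simp only [mem_fib, Finset.mem_filter, Fintype.mem_piFinset]
  exact ⟨fun hc => ⟨fun i => h (hc ▸ mem_support_cnt c i), hc⟩, And.right⟩

/-- Coefficients of a law given by an explicit expansion over functions. -/
theorem co_eq_sum_fib [DecidableEq ι] (F : M →ₚₗ[A] N) (b : ι → M) (G : (Fin d → ι) → N) (ν : ι →₀ ℕ)
    (h : F.toFun' (MvPolynomial ι A) (gen b ν.support) =
      ∑ c ∈ Fintype.piFinset (fun _ : Fin d => ν.support), (∏ i, X (c i)) ⊗ₜ[A] G c) :
    co F b ν = ∑ c ∈ fib d ν, G c := by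
  show cd (F.toFun' _ _) ν = _
  rw [h, map_sum, Finsupp.finsetSum_apply, fib_eq_filter subset_rfl, Finset.sum_filter]
  refine Finset.sum_congr rfl fun c _ => ?_
  rw [prod_X_eq_monomial, cd_monomial, one_smul]

/-- Regrouping a sum over functions by their multi-index. -/
theorem sum_functions_eq_sum_fib [DecidableEq ι] {Q : Type*} [AddCommMonoid Q] (s : Finset ι)
    (f : (Fin d → ι) → Q) :
    ∑ c ∈ Fintype.piFinset (fun _ : Fin d => s), f c = ∑ ν ∈ s.finsuppAntidiag d, ∑ c ∈ fib d ν, f c := by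
  rw [← Finset.sum_fiberwise_of_maps_to (g := cnt)
    (fun c hc => cnt_mem_antidiag c (Fintype.mem_piFinset.mp hc))]
  refine Finset.sum_congr rfl fun ν hν => ?_
  rw [fib_eq_filter (Finset.mem_finsuppAntidiag.mp hν).2]

/-- The all-ones index. -/
noncomputable def ones (d : ℕ) : ULift.{u} (Fin d) →₀ ℕ := cnt fun i => ULift.up i

theorem ones_apply (i : ULift.{u} (Fin d)) : ones d i = 1 := by
  classical
  rw [ones, cnt_apply]
  refine Finset.card_eq_one.mpr ⟨i.down, ?_⟩
  ext j; simp [ULift.ext_iff]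

/-- The polarisation of a law. -/
noncomputable def polar (d : ℕ) (F : M →ₚₗ[A] N) (m : Fin d → M) : N :=
  co F (fun i : ULift.{u} (Fin d) => m i.down) (ones d)

/-- The graph multi-index of a function. -/
noncomputable def graph (c : Fin d → ι) : ULift.{u} (Fin d) × ι →₀ ℕ :=
  cnt fun i => (ULift.up i, c i)

theorem graph_injective : Function.Injective (graph : (Fin d → ι) → _) := fun c c' h => funext fun i => by
  classical
  have := mem_support_cnt (fun i => (ULift.up.{u} i, c i)) i
  rw [show cnt (fun i => (ULift.up.{u} i, c i)) = graph c' from h, Finsupp.mem_support_iff, graph,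
    cnt_apply] at this
  obtain ⟨k, hk⟩ := Finset.card_ne_zero.mp this
  obtain ⟨h1, h2⟩ := Prod.ext_iff.mp (Finset.mem_filter.mp hk).2
  obtain rfl := ULift.up_injective h1
  exact h2.symm

theorem marginal_graph {σ : Type u} (e : ULift.{u} (Fin d) × ι → σ →₀ ℕ) (c : Fin d → ι) :
    ((graph c).sum fun p k => k • e p) = ∑ i, e (ULift.up i, c i) := by
  rw [graph, cnt, ← Finsupp.sum_finsetSum_index (h := fun p k => k • e p) (fun p => zero_nsmul (e p))
    (fun p _ _ => add_nsmul (e p) _ _)]
  simp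

/-- Multi-indices on a product whose first marginal is all ones are graphs of functions. -/
theorem sum_rows [DecidableEq ι] {Q : Type*} [AddCommMonoid Q] (s : Finset ι)
    (f : (ULift.{u} (Fin d) × ι →₀ ℕ) → Q) :
    ∑ μ ∈ ((Finset.univ ×ˢ s).finsuppAntidiag d).filter
        (fun μ : ULift.{u} (Fin d) × ι →₀ ℕ => (μ.sum fun p k => k • Finsupp.single p.1 1) = ones d), f μ =
      ∑ c ∈ Fintype.piFinset (fun _ : Fin d => s), f (graph c) := by
  rw [← Finset.sum_image (g := graph) fun x _ y _ h => graph_injective h]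
  refine Finset.sum_congr ?_ fun _ _ => rfl
  ext μ
  simp only [Finset.mem_filter, Finset.mem_image, Fintype.mem_piFinset]
  constructor
  · rintro ⟨hμ, hrow⟩
    obtain ⟨hdeg, hsupp⟩ := Finset.mem_finsuppAntidiag'.mp hμ
    have hi : ∀ i : Fin d, ∑ j ∈ s, μ (ULift.up i, j) = 1 := fun i => by
      have h1 := DFunLike.congr_fun hrow (ULift.up i)
      rw [ones_apply, Finsupp.sum_of_support_subset μ hsupp _ (fun _ _ => by simp),
        Finsupp.finsetSum_apply, Finset.sum_product,
        Finset.sum_eq_single (ULift.up i) (fun k _ hk => Finset.sum_eq_zero fun j _ => by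
          simp [Finsupp.single_apply, hk]) (by simp)] at h1
      simpa using h1
    have hex : ∀ i : Fin d, ∃ j ∈ s, μ (ULift.up i, j) = 1 ∧ ∀ k ∈ s, k ≠ j → μ (ULift.up i, k) = 0 := by
      intro i
      obtain ⟨j, hj, hj0⟩ := Finset.exists_ne_zero_of_sum_ne_zero (hi i ▸ one_ne_zero)
      refine ⟨j, hj, ?_, fun k hk hkj => ?_⟩
      · have := Finset.single_le_sum (f := fun j => μ (ULift.up i, j)) (fun _ _ => Nat.zero_le _) hj
        have h1 := hi i
        omega
      · have h1 := hi i
        rw [← Finset.add_sum_erase _ _ hj] at h1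
        have := Finset.single_le_sum (f := fun j => μ (ULift.up i, j)) (fun _ _ => Nat.zero_le _)
          (Finset.mem_erase.mpr ⟨hkj, hk⟩)
        omega
    choose c hcs hc1 hc0 using hex
    refine ⟨c, hcs, Finsupp.ext fun p => ?_⟩
    obtain ⟨⟨i⟩, j⟩ := p
    rw [graph, cnt_apply]
    by_cases hj : c i = j
    · subst hj
      rw [hc1]
      refine Finset.card_eq_one.mpr ⟨i, ?_⟩
      ext k; simp [Prod.ext_iff, ULift.ext_iff]; rintro rfl; rfl
    · have h0 : μ (ULift.up i, j) = 0 := by
        by_cases hjs : j ∈ s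
        · exact hc0 i j hjs (Ne.symm hj)
        · exact Finsupp.notMem_support_iff.mp fun h => hjs (Finset.mem_product.mp (hsupp h)).2
      rw [h0, Finset.card_eq_zero, Finset.filter_eq_empty_iff]
      rintro k - hk
      obtain ⟨h1, h2⟩ := Prod.ext_iff.mp hk
      obtain rfl := ULift.up_injective h1
      exact hj h2
  · rintro ⟨c, hc, rfl⟩
    exact ⟨cnt_mem_antidiag _ fun i => Finset.mem_product.mpr ⟨Finset.mem_univ _, hc i⟩,
      by rw [marginal_graph]; rfl⟩

theorem polar_comp {F : M →ₚₗ[A] N} (hF : PolLaw.IsHomog F d) (b : ι → M) (c : Fin d → ι) :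
    co F (fun p : ULift.{u} (Fin d) × ι => b p.2) (graph c) = polar d F (b ∘ c) := by
  symm
  rw [polar, show (fun i : ULift.{u} (Fin d) => (b ∘ c) i.down) =
    (fun p : ULift.{u} (Fin d) × ι => b p.2) ∘ (fun i => (i, c i.down)) from rfl,
    co_comp_injective hF _ _ (fun x y h => congrArg Prod.fst h)]
  congr 1
  simp [ones, graph, cnt, Finsupp.mapDomain_finsetSum, Finsupp.mapDomain_single]

/-- The polarisation is multilinear, in expanded form. -/
theorem polar_sum [DecidableEq ι] {F : M →ₚₗ[A] N} (hF : PolLaw.IsHomog F d) (b : ι → M) (s : Finset ι)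
    (a : Fin d → ι → A) :
    polar d F (fun i => ∑ j ∈ s, a i j • b j) =
      ∑ c ∈ Fintype.piFinset (fun _ : Fin d => s), (∏ i, a i (c i)) • polar d F (b ∘ c) := by
  set κ := ULift.{u} (Fin d)
  have hgen : gen (fun i : κ => ∑ j ∈ s, a i.down j • b j) (ones d).support =
      ∑ p ∈ Finset.univ ×ˢ s, monomial (Finsupp.single p.1 1) (a p.1.down p.2) ⊗ₜ[A] b p.2 := by
    have hu : (ones d : κ →₀ ℕ).support = Finset.univ := Finset.eq_univ_of_forall fun i => by
      rw [Finsupp.mem_support_iff, ones_apply]; exact one_ne_zero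
    rw [gen, hu, Finset.sum_product]
    refine Finset.sum_congr rfl fun i _ => ?_
    rw [TensorProduct.tmul_sum]
    refine Finset.sum_congr rfl fun j _ => ?_
    rw [← TensorProduct.smul_tmul, X, smul_monomial, smul_eq_mul, mul_one]
  show cd (F.toFun' _ (gen _ _)) _ = _
  rw [hgen, coord_subst hF, ← Finset.sum_filter, sum_rows]
  refine Finset.sum_congr rfl fun c _ => ?_
  rw [polar_comp hF]
  congr 1
  exact (prod_cnt (fun p : κ × ι => a p.1.down p.2) fun i => (ULift.up i, c i))

theorem ones_support (d : ℕ) : (ones d : ULift.{u} (Fin d) →₀ ℕ).support = Finset.univ :=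
  Finset.eq_univ_of_forall fun i => by rw [Finsupp.mem_support_iff, ones_apply]; exact one_ne_zero

theorem mem_fib_ones {c : Fin d → ULift.{u} (Fin d)} :
    c ∈ fib d (ones d) ↔ Function.Bijective c := by
  classical
  rw [mem_fib]
  constructor
  · intro h
    have hinj : Function.Injective c := fun i j hij => by
      have h1 : cnt c (c i) = 1 := by rw [h, ones_apply]
      rw [cnt_apply] at h1
      exact Finset.card_le_one.mp h1.le i (by simp) j (by simp [hij])
    exact (Fintype.bijective_iff_injective_and_card c).mpr ⟨hinj, by simp⟩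
  · intro h
    obtain ⟨σ, rfl⟩ : ∃ σ : Equiv.Perm (Fin d), c = fun i => ULift.up (σ i) :=
      ⟨(Equiv.ofBijective c h).trans Equiv.ulift, funext fun i => rfl⟩
    exact cnt_comp_perm (fun i => ULift.up i) σ

theorem sum_fib_ones {Q : Type*} [AddCommMonoid Q] (f : (Fin d → ULift.{u} (Fin d)) → Q) :
    ∑ c ∈ fib d (ones d), f c = ∑ σ : Equiv.Perm (Fin d), f fun i => ULift.up (σ i) := by
  symm
  refine Finset.sum_bij (fun σ _ i => ULift.up (σ i)) (fun σ _ => mem_fib_ones.mpr ?_) ?_ ?_ (fun _ _ => rfl)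
  · exact (Equiv.ulift.symm.bijective).comp σ.bijective
  · intro σ _ τ _ h
    exact Equiv.ext fun i => ULift.up_injective (congrFun h i)
  · intro c hc
    exact ⟨(Equiv.ofBijective c (mem_fib_ones.mp hc)).trans Equiv.ulift, Finset.mem_univ _, rfl⟩

/-- Full polarisation: summing the polarisation over a fibre gives `d!` times the coefficient. -/
theorem sum_fib_polar [DecidableEq ι] {F : M →ₚₗ[A] N} (hF : PolLaw.IsHomog F d) (b : ι → M)
    (ν : ι →₀ ℕ) (hν : (ν.sum fun _ k => k) = d) :
    ∑ c ∈ fib d ν, polar d F (b ∘ c) = d.factorial • co F b ν := by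
  set κ := ULift.{u} (Fin d)
  set s := ν.support
  let e : κ × ι → (κ ⊕ ι →₀ ℕ) := fun p => Finsupp.single (Sum.inl p.1) 1 + Finsupp.single (Sum.inr p.2) 1
  let τ : κ ⊕ ι →₀ ℕ := (ones d).mapDomain Sum.inl + ν.mapDomain Sum.inr
  have hτ : ∀ (x : κ →₀ ℕ) (y : ι →₀ ℕ), x.mapDomain Sum.inl + y.mapDomain Sum.inr = τ ↔ x = ones d ∧ y = ν := by
    intro x y
    refine ⟨fun h => ⟨Finsupp.ext fun i => ?_, Finsupp.ext fun j => ?_⟩, by rintro ⟨rfl, rfl⟩; rfl⟩
    · simpa [τ, Finsupp.mapDomain_apply Sum.inl_injective, Finsupp.mapDomain_of_notMem_range] using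
        DFunLike.congr_fun h (Sum.inl i)
    · simpa [τ, Finsupp.mapDomain_apply Sum.inr_injective, Finsupp.mapDomain_of_notMem_range] using
        DFunLike.congr_fun h (Sum.inr j)
  have hx : (∑ p ∈ Finset.univ ×ˢ s, monomial (e p) (1 : A) ⊗ₜ[A] b p.2) =
      (∑ i : κ, monomial (Finsupp.single (Sum.inl i) 1) (1 : A) : MvPolynomial (κ ⊕ ι) A) •
        ∑ j ∈ s, monomial (Finsupp.single (Sum.inr j) 1) (1 : A) ⊗ₜ[A] b j := by
    rw [Finset.sum_smul, Finset.sum_product]
    refine Finset.sum_congr rfl fun i _ => ?_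
    rw [Finset.smul_sum]
    refine Finset.sum_congr rfl fun j _ => ?_
    rw [TensorProduct.smul_tmul', smul_eq_mul, monomial_mul, one_mul]
  have hmarg : ∀ μ : κ × ι →₀ ℕ, (μ.sum fun p k => k • e p) =
      (μ.sum fun p k => k • Finsupp.single p.1 1).mapDomain Sum.inl +
        (μ.sum fun p k => k • Finsupp.single p.2 1).mapDomain Sum.inr := fun μ => by
    simp only [← Finsupp.mapDomain.addMonoidHom_apply, map_finsuppSum]
    simp only [Finsupp.mapDomain.addMonoidHom_apply, Finsupp.smul_single, Finsupp.mapDomain_single, e,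
      smul_add, Finsupp.sum_add]
  have h1 := coord_subst hF (fun p : κ × ι => b p.2) (Finset.univ ×ˢ s) e (fun _ => 1) τ
  simp only [one_pow, Finsupp.prod, Finset.prod_const_one, one_smul, hmarg, hτ, ite_and] at h1
  rw [← Finset.sum_filter, sum_rows] at h1
  have hright : ∀ c : Fin d → ι, ((graph c).sum fun p k => k • Finsupp.single p.2 1) = cnt c :=
    fun c => by rw [marginal_graph]; rfl
  replace h1 := h1.trans (Finset.sum_congr rfl (g := fun c => if cnt c = ν then polar d F (b ∘ c) else 0)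
    fun c _ => if_congr ⟨fun h => (hright c).symm.trans h, fun h => (hright c).trans h⟩
      (polar_comp hF b c) rfl)
  rw [← Finset.sum_filter, ← fib_eq_filter subset_rfl] at h1
  rw [← h1, hx, hF, eval_sum hF, Finset.smul_sum, map_sum, Finsupp.finsetSum_apply,
    Finset.sum_eq_single ν]
  · rw [Finset.sum_pow', TensorProduct.smul_tmul', smul_eq_mul, Finset.sum_mul, TensorProduct.sum_tmul,
      map_sum, Finsupp.finsetSum_apply]
    have hterm : ∀ c : Fin d → κ,
        ((∏ i, monomial (Finsupp.single (Sum.inl (c i)) 1) (1 : A)) *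
          ν.prod fun j k => monomial (Finsupp.single (Sum.inr j) 1) (1 : A) ^ k : MvPolynomial (κ ⊕ ι) A) =
        monomial ((cnt c).mapDomain Sum.inl + ν.mapDomain Sum.inr) 1 := fun c => by
      simp only [monomial_pow, one_pow, Finsupp.prod, ← monomial_sum_one, monomial_mul, one_mul]
      congr 2
      simp only [cnt, Finsupp.mapDomain_finsetSum, Finsupp.mapDomain_single]
      simp [Finsupp.mapDomain, Finsupp.sum]
    simp only [hterm, cd_monomial, hτ, and_true, one_smul]
    rw [← Finset.sum_filter, ← fib_eq_filter (Finset.subset_univ _), sum_fib_ones, Finset.sum_const,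
      Finset.card_univ, Fintype.card_perm, Fintype.card_fin]
  · intro μ _ hμ
    rw [Finset.sum_pow', TensorProduct.smul_tmul', smul_eq_mul, Finset.sum_mul, TensorProduct.sum_tmul,
      map_sum, Finsupp.finsetSum_apply]
    refine Finset.sum_eq_zero fun c _ => ?_
    have : ((∏ i, monomial (Finsupp.single (Sum.inl (c i)) 1) (1 : A)) *
          μ.prod fun j k => monomial (Finsupp.single (Sum.inr j) 1) (1 : A) ^ k : MvPolynomial (κ ⊕ ι) A) =
        monomial ((cnt c).mapDomain Sum.inl + μ.mapDomain Sum.inr) 1 := by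
      simp only [monomial_pow, one_pow, Finsupp.prod, ← monomial_sum_one, monomial_mul, one_mul]
      congr 2
      simp only [cnt, Finsupp.mapDomain_finsetSum, Finsupp.mapDomain_single]
      simp [Finsupp.mapDomain, Finsupp.sum]
    rw [this, cd_monomial, if_neg fun h => hμ ((hτ _ _).mp h).2]
  · intro hν'
    exact absurd (Finset.mem_finsuppAntidiag'.mpr ⟨hν, subset_rfl⟩) hν'

end Groth.Agent.H22Alg.PL
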