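import Mathlib
import Groth.Prelude.Def_PolLaw2
import Groth.Agent.H22Alg.PolLawCoeff
import Groth.Agent.H22Alg.PolLawSym

/-!
The polarisation of a homogeneous law as a linear map on the tensor power, and the coefficients of
the tensor power law.
-/

universe u

open scoped TensorProduct

namespace Groth.Agent.H22Alg.PL

open MvPolynomial

variable {A : Type u} [CommRing A] {M N : Type u} [AddCommGroup M] [Module A M]
  [AddCommGroup N] [Module A N] {ι : Type u} {d : ℕ}

variable (d) in
/-- The polarisation on the tensor power of the free module on `M`. -/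
noncomputable def polarFree (F : M →ₚₗ[A] N) : (⨂[A] _ : Fin d, (M →₀ A)) →ₗ[A] N :=
  (Basis.piTensorProduct fun _ : Fin d => (Finsupp.basisSingleOne : Module.Basis M A (M →₀ A))).constr A
    fun c => polar d F c

theorem polarFree_tprod {F : M →ₚₗ[A] N} (hF : PolLaw.IsHomog F d) (a : Fin d → M →₀ A) :
    polarFree d F (PiTensorProduct.tprod A a) =
      polar d F (fun i => Finsupp.linearCombination A id (a i)) := by
  classical
  set s := Finset.univ.biUnion fun i => (a i).support
  have hs : ∀ i, (a i).support ⊆ s := fun i => Finset.subset_biUnion_of_mem (fun i => (a i).support) (Finset.mem_univ i)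
  have hLHS : a = fun i => ∑ j ∈ s, a i j • Finsupp.single j (1 : A) := funext fun i => by
    simp only [Finsupp.smul_single, smul_eq_mul, mul_one]
    conv_lhs => rw [← Finsupp.sum_single (a i)]
    exact Finsupp.sum_of_support_subset _ (hs i) _ (fun _ _ => Finsupp.single_zero _)
  have hRHS : (fun i => Finsupp.linearCombination A id (a i)) = fun i => ∑ j ∈ s, a i j • id j :=
    funext fun i => by
      rw [Finsupp.linearCombination_apply]
      exact Finsupp.sum_of_support_subset _ (hs i) _ (fun _ _ => zero_smul _ _)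
  rw [hRHS, polar_sum hF]
  conv_lhs => rw [hLHS]
  rw [MultilinearMap.map_sum_finset, map_sum]
  refine Finset.sum_congr rfl fun c _ => ?_
  rw [MultilinearMap.map_smul_univ, map_smul]
  congr 1
  have : PiTensorProduct.tprod A (fun i => Finsupp.single (c i) (1 : A)) =
      Basis.piTensorProduct (fun _ : Fin d => (Finsupp.basisSingleOne : Module.Basis M A (M →₀ A))) c := by
    rw [Basis.piTensorProduct_apply]; simp
  rw [this, polarFree, Module.Basis.constr_basis]
  rfl

omit [AddCommGroup N] [Module A N] in
theorem upd [DecidableEq (Fin d)] (m : Fin d → M) (i : Fin d) (z : M →₀ A) :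
    (fun k => Finsupp.linearCombination A id (Function.update (fun k => Finsupp.single (m k) (1 : A)) i z k)) =
      Function.update m i (Finsupp.linearCombination A id z) := by
  funext k
  rcases eq_or_ne k i with rfl | h
  · simp
  · simp [Function.update_of_ne h]

/-- The polarisation of a homogeneous law, as a multilinear map. -/
noncomputable def polarML {F : M →ₚₗ[A] N} (hF : PolLaw.IsHomog F d) :
    MultilinearMap A (fun _ : Fin d => M) N where
  toFun := polar d F
  map_update_add' m i x y := by
    have key : ∀ m : Fin d → M, polar d F m =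
        polarFree d F (PiTensorProduct.tprod A fun k => Finsupp.single (m k) (1 : A)) := fun m => by
      rw [polarFree_tprod hF]; simp
    have h1 := polarFree_tprod hF (Function.update (fun k => Finsupp.single (m k) (1 : A)) i
      (Finsupp.single x 1 + Finsupp.single y 1))
    rw [MultilinearMap.map_update_add, map_add, polarFree_tprod hF, polarFree_tprod hF] at h1
    rw [upd m i, upd m i, upd m i] at h1
    simp only [map_add, Finsupp.linearCombination_single, one_smul, id] at h1
    exact h1.symm
  map_update_smul' m i r x := by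
    have h1 := polarFree_tprod hF (Function.update (fun k => Finsupp.single (m k) (1 : A)) i
      (r • Finsupp.single x 1))
    rw [MultilinearMap.map_update_smul, map_smul, polarFree_tprod hF] at h1
    rw [upd m i, upd m i] at h1
    simp only [map_smul, Finsupp.linearCombination_single, one_smul, id] at h1
    exact h1.symm

/-- The polarisation of a homogeneous law, as a linear map on the tensor power. -/
noncomputable def polarT {F : M →ₚₗ[A] N} (hF : PolLaw.IsHomog F d) : (⨂[A] _ : Fin d, M) →ₗ[A] N :=
  PiTensorProduct.lift (polarML hF)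

theorem polarT_tprod {F : M →ₚₗ[A] N} (hF : PolLaw.IsHomog F d) (m : Fin d → M) :
    polarT hF (PiTensorProduct.tprod A m) = polar d F m :=
  PiTensorProduct.lift.tprod _

/-- The sum of the pure tensors of a given multi-index. -/
noncomputable def orbSum (d : ℕ) (b : ι → M) (ν : ι →₀ ℕ) : ⨂[A] _ : Fin d, M :=
  ∑ c ∈ fib d ν, PiTensorProduct.tprod A (b ∘ c)

theorem polarT_orbSum {F : M →ₚₗ[A] N} (hF : PolLaw.IsHomog F d) (b : ι → M) (ν : ι →₀ ℕ)
    (hν : (ν.sum fun _ k => k) = d) :
    polarT hF (orbSum d b ν) = d.factorial • co F b ν := by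
  classical
  rw [orbSum, map_sum, ← sum_fib_polar hF b ν hν]
  simp only [polarT_tprod]

theorem orbSum_ones (m : Fin d → M) :
    orbSum (A := A) d (fun i : ULift.{u} (Fin d) => m i.down) (ones d) =
      ∑ σ : Equiv.Perm (Fin d), PiTensorProduct.tprod A (fun i => m (σ i)) :=
  sum_fib_ones fun c => PiTensorProduct.tprod A ((fun i : ULift.{u} (Fin d) => m i.down) ∘ c)

theorem reindex_orbSum (b : ι → M) (ν : ι →₀ ℕ) (σ : Equiv.Perm (Fin d)) :
    PiTensorProduct.reindex A (fun _ : Fin d => M) σ (orbSum d b ν) = orbSum d b ν := by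
  rw [orbSum, map_sum]
  refine Finset.sum_bij (fun c _ i => c (σ.symm i)) (fun c hc => ?_) ?_ ?_ ?_
  · rw [mem_fib] at hc ⊢
    rw [cnt_comp_perm c σ.symm, hc]
  · intro a _ a' _ h
    funext i
    simpa using congrFun h (σ i)
  · intro c hc
    refine ⟨fun i => c (σ i), ?_, funext fun i => by simp⟩
    rw [mem_fib] at hc ⊢
    rw [cnt_comp_perm c σ, hc]
  · intro c _
    rw [PiTensorProduct.reindex_tprod]
    rfl

/-- A law with the symmetric-power expansion on finite combinations has orbit sums as coefficients. -/
theorem co_of_tensor_formula {B : Type u} [CommRing B] [Algebra A B]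
    (L : B →ₚₗ[A] (⨂[A] _ : Fin d, B))
    (hL : ∀ (S : Type u) [CommSemiring S] [Algebra A S] (n : ℕ) (s : Fin n → S) (b : Fin n → B),
      L.toFun' S (∑ j, s j ⊗ₜ[A] b j) =
        ∑ c : Fin d → Fin n, (∏ i, s (c i)) ⊗ₜ[A] PiTensorProduct.tprod A (fun i => b (c i)))
    (b : ι → B) (ν : ι →₀ ℕ) : co L b ν = orbSum d b ν := by
  classical
  refine co_eq_sum_fib L b (fun c => PiTensorProduct.tprod A (b ∘ c)) ν ?_
  let e := ν.support.equivFin
  have h1 : gen b ν.support = ∑ j, (X (e.symm j : ι) : MvPolynomial ι A) ⊗ₜ[A] b (e.symm j) := by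
    rw [gen, ← Finset.sum_coe_sort, ← Equiv.sum_comp e.symm]
  rw [h1, hL]
  refine Finset.sum_bij (fun c _ i => (e.symm (c i) : ι)) (fun c _ => by simp) ?_ ?_ (fun c _ => rfl)
  · intro a _ a' _ h
    funext i
    exact e.symm.injective (Subtype.ext (congrFun h i))
  · intro c hc
    rw [Fintype.mem_piFinset] at hc
    exact ⟨fun i => e ⟨c i, hc i⟩, Finset.mem_univ _, funext fun i => by simp⟩

/-- The value of the tensor power law on a finite combination. -/
theorem tpowLaw_sum {B : Type u} [CommRing B] [Algebra A B] [DecidableEq ι] (b : ι → B) (s : Finset ι)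
    {S : Type u} [CommSemiring S] [Algebra A S] (v : ι → S) :
    (SymTen.tpowLaw A B d).law.toFun' S (∑ j ∈ s, v j ⊗ₜ[A] b j) =
      ∑ c ∈ Fintype.piFinset (fun _ : Fin d => s), (∏ i, v (c i)) ⊗ₜ[A] PiTensorProduct.tprod A (b ∘ c) := by
  classical
  rw [SymTen.tpowLaw, PolLaw.MulLaw.prodMap_toFun']
  simp only [map_sum, Algebra.TensorProduct.map_tmul, AlgHom.id_apply]
  rw [Finset.prod_univ_sum]
  refine Finset.sum_congr rfl fun c _ => ?_
  have hprod : ∀ (g : Fin d → S) (t : Fin d → ⨂[A] _ : Fin d, B) (u : Finset (Fin d)),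
      ∏ i ∈ u, g i ⊗ₜ[A] t i = (∏ i ∈ u, g i) ⊗ₜ[A] ∏ i ∈ u, t i := by
    intro g t u
    induction u using Finset.induction_on with
    | empty => simp [Algebra.TensorProduct.one_def]
    | insert j u hj ih =>
      rw [Finset.prod_insert hj, Finset.prod_insert hj, Finset.prod_insert hj, ih,
        Algebra.TensorProduct.tmul_mul_tmul]
  rw [hprod]
  congr 1
  simp only [PiTensorProduct.singleAlgHom_apply, MonoidHom.mulSingle_apply]
  rw [← PiTensorProduct.tprod_prod]
  exact congrArg _ (Finset.univ_prod_mulSingle (fun i : Fin d => b (c i)))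

theorem co_tpowLaw {B : Type u} [CommRing B] [Algebra A B] (b : ι → B) (ν : ι →₀ ℕ) :
    co (SymTen.tpowLaw A B d).law b ν = orbSum d b ν := by
  classical
  refine co_eq_sum_fib _ b (fun c => PiTensorProduct.tprod A (b ∘ c)) ν ?_
  exact tpowLaw_sum b ν.support fun j => X j

end Groth.Agent.H22Alg.PL
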