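import Mathlib

/-!
Polynomial laws are determined by, and can be constructed from, compatible families on polynomial
rings in finitely many variables.
-/

universe u v w

namespace Groth.Agent.H22Alg

open TensorProduct MvPolynomial

variable {A : Type u} [CommRing A] {M : Type v} [AddCommGroup M] [Module A M] {N : Type w}
  [AddCommGroup N] [Module A N]
  (T : ∀ n : ℕ, MvPolynomial (Fin n) A ⊗[A] M → MvPolynomial (Fin n) A ⊗[A] N)
  (hT : ∀ (n m : ℕ) (φ : MvPolynomial (Fin n) A →ₐ[A] MvPolynomial (Fin m) A),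
    φ.toLinearMap.rTensor N ∘ T n = T m ∘ φ.toLinearMap.rTensor M)

include hT in
theorem family_naturality {n m : ℕ} (φ : MvPolynomial (Fin n) A →ₐ[A] MvPolynomial (Fin m) A)
    (x : MvPolynomial (Fin n) A ⊗[A] M) :
    φ.toLinearMap.rTensor N (T n x) = T m (φ.toLinearMap.rTensor M x) :=
  congrFun (hT n m φ) x

theorem rTensor_algHom_comp {P Q R : Type*} [CommSemiring P] [CommSemiring Q] [CommSemiring R]
    [Algebra A P] [Algebra A Q] [Algebra A R] {L : Type*} [AddCommGroup L] [Module A L]
    (g : Q →ₐ[A] R) (f : P →ₐ[A] Q) (x : P ⊗[A] L) :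
    (g.comp f).toLinearMap.rTensor L x = g.toLinearMap.rTensor L (f.toLinearMap.rTensor L x) := by
  rw [AlgHom.comp_toLinearMap, LinearMap.rTensor_comp_apply]

include hT in
/-- Elements of a polynomial ring tensored with `M` differing by an element of the kernel of a map
give the same value after that map. -/
theorem family_add_ker {B : Type u} [CommRing B] [Algebra A B]
    {n : ℕ} (ψ : MvPolynomial (Fin n) A →ₐ[A] B)
    (z : LinearMap.ker ψ.toLinearMap ⊗[A] M) (v : MvPolynomial (Fin n) A ⊗[A] M) :
    ψ.toLinearMap.rTensor N (T n (v + (LinearMap.ker ψ.toLinearMap).subtype.rTensor M z)) =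
      ψ.toLinearMap.rTensor N (T n v) := by
  induction z using TensorProduct.induction_on generalizing v with
  | zero => simp
  | tmul f m =>
    let ι : MvPolynomial (Fin n) A →ₐ[A] MvPolynomial (Fin (n + 1)) A := rename Fin.castSucc
    let α : MvPolynomial (Fin (n + 1)) A →ₐ[A] MvPolynomial (Fin n) A := aeval (Fin.snoc X f.1)
    let β : MvPolynomial (Fin (n + 1)) A →ₐ[A] MvPolynomial (Fin n) A := aeval (Fin.snoc X 0)
    have hα : α.comp ι = AlgHom.id A _ := algHom_ext fun i => by simp [α, ι]
    have hβ : β.comp ι = AlgHom.id A _ := algHom_ext fun i => by simp [β, ι]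
    have hψ : ψ.comp α = ψ.comp β := algHom_ext fun i => by
      induction i using Fin.lastCases with
      | last =>
        have hf : ψ f.1 = 0 := f.2
        simp [α, β, hf]
      | cast i => simp [α, β]
    set U := ι.toLinearMap.rTensor M v + X (Fin.last n) ⊗ₜ[A] m with hU
    have h1 : α.toLinearMap.rTensor M U = v + (LinearMap.ker ψ.toLinearMap).subtype.rTensor M (f ⊗ₜ m) := by
      rw [hU, map_add, ← rTensor_algHom_comp, hα]
      simp [α]
    have h2 : β.toLinearMap.rTensor M U = v := by
      rw [hU, map_add, ← rTensor_algHom_comp, hβ]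
      simp [β]
    calc ψ.toLinearMap.rTensor N (T n (v + (LinearMap.ker ψ.toLinearMap).subtype.rTensor M (f ⊗ₜ m)))
        = (ψ.comp α).toLinearMap.rTensor N (T (n + 1) U) := by
          rw [rTensor_algHom_comp, family_naturality T hT, h1]
      _ = ψ.toLinearMap.rTensor N (T n v) := by
          rw [hψ, rTensor_algHom_comp, family_naturality T hT, h2]
  | add x y hx hy => rw [map_add, ← add_assoc, hy, hx]

include hT in
theorem family_congr_surjective {B : Type u} [CommRing B] [Algebra A B]
    {n : ℕ} (ψ : MvPolynomial (Fin n) A →ₐ[A] B) (hψ : Function.Surjective ψ)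
    {u u' : MvPolynomial (Fin n) A ⊗[A] M} (h : ψ.toLinearMap.rTensor M u = ψ.toLinearMap.rTensor M u') :
    ψ.toLinearMap.rTensor N (T n u) = ψ.toLinearMap.rTensor N (T n u') := by
  have hex := rTensor_exact M (LinearMap.exact_subtype_ker_map ψ.toLinearMap) hψ
  obtain ⟨z, hz⟩ := (hex (u - u')).mp (by rw [map_sub, h, sub_self])
  have := family_add_ker T hT ψ z u'
  rwa [hz, add_sub_cancel] at this

include hT in
theorem family_congr_self {S : Type u} [CommRing S] [Algebra A S]
    {n : ℕ} (φ : MvPolynomial (Fin n) A →ₐ[A] S)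
    {u u' : MvPolynomial (Fin n) A ⊗[A] M} (h : φ.toLinearMap.rTensor M u = φ.toLinearMap.rTensor M u') :
    φ.toLinearMap.rTensor N (T n u) = φ.toLinearMap.rTensor N (T n u') := by
  have hφ : φ = φ.range.val.comp φ.rangeRestrict := φ.val_comp_rangeRestrict.symm
  rw [hφ, rTensor_algHom_comp, rTensor_algHom_comp] at h
  have hfg : φ.range.FG := by
    rw [← Algebra.map_top]
    exact Subalgebra.FG.map _ Algebra.FiniteType.out
  obtain ⟨B, hle, hB, hB'⟩ := TensorProduct.Algebra.eq_of_fg_of_subtype_eq hfg h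
  have : Algebra.FiniteType A B := ⟨(Subalgebra.fg_top B).mpr hB⟩
  obtain ⟨m, ψ, hψ⟩ := Algebra.FiniteType.iff_quotient_mvPolynomial''.mp ‹Algebra.FiniteType A B›
  rw [← rTensor_algHom_comp, ← rTensor_algHom_comp] at hB'
  choose c hc using fun i : Fin n => hψ ((Subalgebra.inclusion hle).comp φ.rangeRestrict (X i))
  let lam : MvPolynomial (Fin n) A →ₐ[A] MvPolynomial (Fin m) A := aeval c
  have hlam : ψ.comp lam = (Subalgebra.inclusion hle).comp φ.rangeRestrict :=
    algHom_ext fun i => by simpa [lam] using hc i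
  rw [← hlam, rTensor_algHom_comp, rTensor_algHom_comp] at hB'
  have key := family_congr_surjective T hT ψ hψ hB'
  rw [← family_naturality T hT lam, ← family_naturality T hT lam, ← rTensor_algHom_comp,
    ← rTensor_algHom_comp, hlam] at key
  have hval : φ = B.val.comp ((Subalgebra.inclusion hle).comp φ.rangeRestrict) := by
    conv_lhs => rw [hφ]
    rfl
  rw [hval]
  exact (rTensor_algHom_comp _ _ _).trans ((congrArg (B.val.toLinearMap.rTensor N) key).trans
    (rTensor_algHom_comp _ _ _).symm)

include hT in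
theorem family_congr {S : Type u} [CommSemiring S] [Algebra A S] {n n' : ℕ}
    (φ : MvPolynomial (Fin n) A →ₐ[A] S) (φ' : MvPolynomial (Fin n') A →ₐ[A] S)
    (u : MvPolynomial (Fin n) A ⊗[A] M) (u' : MvPolynomial (Fin n') A ⊗[A] M)
    (h : φ.toLinearMap.rTensor M u = φ'.toLinearMap.rTensor M u') :
    φ.toLinearMap.rTensor N (T n u) = φ'.toLinearMap.rTensor N (T n' u') := by
  letI : CommRing S := { Algebra.semiringToRing A, ‹CommSemiring S› with }
  let Φ : MvPolynomial (Fin (n + n')) A →ₐ[A] S :=
    aeval (Fin.append (fun i => φ (X i)) (fun i => φ' (X i)))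
  have h1 : Φ.comp (rename (Fin.castAdd n')) = φ := algHom_ext fun i => by simp [Φ]
  have h2 : Φ.comp (rename (Fin.natAdd n)) = φ' := algHom_ext fun i => by simp [Φ]
  rw [← h1, ← h2, rTensor_algHom_comp, rTensor_algHom_comp] at h
  rw [← h1, ← h2, rTensor_algHom_comp, rTensor_algHom_comp, family_naturality T hT, family_naturality T hT]
  exact family_congr_self T hT Φ h

omit [AddCommGroup N] [Module A N] in
theorem exists_poly_lift {S : Type u} [CommSemiring S] [Algebra A S] (t : S ⊗[A] M) :
    ∃ p : Σ n : ℕ, (MvPolynomial (Fin n) A →ₐ[A] S) × (MvPolynomial (Fin n) A ⊗[A] M),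
      p.2.1.toLinearMap.rTensor M p.2.2 = t := by
  induction t using TensorProduct.induction_on with
  | zero => exact ⟨⟨0, aeval Fin.elim0, 0⟩, map_zero _⟩
  | tmul s m => exact ⟨⟨1, aeval ![s], X 0 ⊗ₜ m⟩, by simp⟩
  | add x y hx hy =>
    obtain ⟨⟨n, φ, u⟩, rfl⟩ := hx
    obtain ⟨⟨n', φ', u'⟩, rfl⟩ := hy
    let Φ : MvPolynomial (Fin (n + n')) A →ₐ[A] S :=
      aeval (Fin.append (fun i => φ (X i)) (fun i => φ' (X i)))
    have h1 : Φ.comp (rename (Fin.castAdd n')) = φ := algHom_ext fun i => by simp [Φ]
    have h2 : Φ.comp (rename (Fin.natAdd n)) = φ' := algHom_ext fun i => by simp [Φ]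
    refine ⟨⟨n + n', Φ, (rename (Fin.castAdd n')).toLinearMap.rTensor M u
      + (rename (Fin.natAdd n)).toLinearMap.rTensor M u'⟩, ?_⟩
    rw [map_add, ← rTensor_algHom_comp, ← rTensor_algHom_comp, h1, h2]

/-- The polynomial law attached to a compatible family on polynomial rings. -/
noncomputable def polyLawOfFamily : M →ₚₗ[A] N where
  toFun' S _ _ t :=
    (exists_poly_lift t).choose.2.1.toLinearMap.rTensor N
      (T _ (exists_poly_lift t).choose.2.2)
  isCompat' {S} _ _ {S'} _ _ φ := by
    funext t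
    show φ.toLinearMap.rTensor N (_root_.id _) = _
    rw [id, ← rTensor_algHom_comp]
    refine family_congr T hT _ _ _ _ ?_
    rw [rTensor_algHom_comp, (exists_poly_lift t).choose_spec]
    exact (exists_poly_lift _).choose_spec.symm

theorem polyLawOfFamily_toFun' (n : ℕ) :
    (polyLawOfFamily T hT).toFun' (MvPolynomial (Fin n) A) = T n := by
  funext t
  have := family_congr T hT (exists_poly_lift t).choose.2.1 (AlgHom.id A _) _ t
    (by rw [(exists_poly_lift t).choose_spec]; simp)
  exact this.trans (by simp)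

end Groth.Agent.H22Alg
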