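import Mathlib
import Groth.Prelude.Def_PolLaw2
import Groth.Agent.H22Alg.PolyLawExt
import Groth.Agent.H22Alg.PolLawCoeff
import Groth.Agent.H22Alg.PolLawSym
import Groth.Agent.H22Alg.PolLawPolar

/-!
Products of coefficients of multiplicative laws, restriction of the codomain, and generation of a
divided power algebra by the coefficients of its universal law.
-/

universe u

open scoped TensorProduct

namespace Groth.Agent.H22Alg.PL

open MvPolynomial

variable {A : Type u} [CommRing A] {B C : Type u} [CommRing B] [Algebra A B] [CommRing C] [Algebra A C]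
  {d : ℕ} {ι : Type u}

section Module

variable {M N : Type u} [AddCommGroup M] [Module A M] [AddCommGroup N] [Module A N]

/-- Coefficients on an arbitrary family lie in the span of the coefficients on a spanning family. -/
theorem co_mem_span {F : M →ₚₗ[A] N} (hF : PolLaw.IsHomog F d) {κ : Type u} {e : κ → M}
    (he : Submodule.span A (Set.range e) = ⊤) (b : ι → M) (ν : ι →₀ ℕ) :
    co F b ν ∈ Submodule.span A (Set.range (co F e)) := by
  classical
  obtain ⟨s, v, hv⟩ := exists_sum_eq he (gen b ν.support)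
  show cd (F.toFun' _ (gen b ν.support)) ν ∈ _
  rw [hv, eval_sum hF, map_sum, Finsupp.finsetSum_apply]
  refine Submodule.sum_mem _ fun μ _ => ?_
  rw [cd_tmul]
  exact Submodule.smul_mem _ _ (Submodule.subset_span ⟨μ, rfl⟩)

/-- All values of a homogeneous law lie in the span of `S ⊗ co`. -/
theorem toFun'_mem_span {F : M →ₚₗ[A] N} (hF : PolLaw.IsHomog F d) {κ : Type u} {e : κ → M}
    (he : Submodule.span A (Set.range e) = ⊤) {P : Submodule A N} (hP : ∀ ν, co F e ν ∈ P)
    {S : Type u} [CommSemiring S] [Algebra A S] (x : S ⊗[A] M) :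
    ∃ y : S ⊗[A] P, P.subtype.lTensor S y = F.toFun' S x := by
  classical
  obtain ⟨s, v, rfl⟩ := exists_sum_eq he x
  refine ⟨∑ ν ∈ s.finsuppAntidiag d, (ν.prod fun j k => v j ^ k) ⊗ₜ[A] ⟨co F e ν, hP ν⟩, ?_⟩
  rw [eval_sum hF, map_sum]
  rfl

end Module

theorem co_single_one (F : PolLaw.MulLaw A B C d) {b : ι → B} {j : ι} (hb : b j = 1) :
    co F.law b (Finsupp.single j d) = 1 := by
  classical
  have h := eval_sum F.homog b {j} (S := A) (fun _ => 1)
  have hs : ({j} : Finset ι).finsuppAntidiag d = {Finsupp.single j d} := by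
    ext ν
    rw [Finset.mem_finsuppAntidiag, Finset.mem_singleton, Finset.sum_singleton,
      Finsupp.support_subset_singleton, eq_comm (a := ν)]
    exact ⟨fun ⟨h1, h2⟩ => h1 ▸ h2.symm, fun h => by subst h; simp⟩
  rw [Finset.sum_singleton, hb, ← Algebra.TensorProduct.one_def, (F.mult A).1,
    hs, Finset.sum_singleton] at h
  simpa [Algebra.TensorProduct.one_def] using (congrArg (TensorProduct.lid A C) h).symm

theorem co_mul_co (F : PolLaw.MulLaw A B C d) {κ : Type u} [DecidableEq ι] [DecidableEq κ] (b : ι → B)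
    (b' : κ → B) (ν : ι →₀ ℕ) (μ : κ →₀ ℕ) :
    co F.law b ν * co F.law b' μ =
      ∑ ρ ∈ (ν.support ×ˢ μ.support).finsuppAntidiag d,
        if (ρ.sum fun p k => k • (Finsupp.single (Sum.inl p.1) 1 + Finsupp.single (Sum.inr p.2) 1)) =
            ν.mapDomain Sum.inl + μ.mapDomain Sum.inr
        then co F.law (fun p : ι × κ => b p.1 * b' p.2) ρ else 0 := by
  let x : MvPolynomial (ι ⊕ κ) A ⊗[A] B := ∑ j ∈ ν.support, monomial (Finsupp.single (Sum.inl j) 1) 1 ⊗ₜ[A] b j
  let y : MvPolynomial (ι ⊕ κ) A ⊗[A] B := ∑ j ∈ μ.support, monomial (Finsupp.single (Sum.inr j) 1) 1 ⊗ₜ[A] b' j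
  set τ := ν.mapDomain Sum.inl + μ.mapDomain (Sum.inr : κ → ι ⊕ κ)
  have hxy : x * y = ∑ p ∈ ν.support ×ˢ μ.support,
      monomial (Finsupp.single (Sum.inl p.1) 1 + Finsupp.single (Sum.inr p.2) 1) (1 : A) ⊗ₜ[A] (b p.1 * b' p.2) := by
    rw [Finset.sum_mul_sum, Finset.sum_product]
    simp only [Algebra.TensorProduct.tmul_mul_tmul, monomial_mul, one_mul]
  have h1 : cd (F.law.toFun' (MvPolynomial (ι ⊕ κ) A) (x * y)) τ = _ :=
    hxy ▸ coord_subst F.homog (fun p : ι × κ => b p.1 * b' p.2) (ν.support ×ˢ μ.support)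
      (fun p => Finsupp.single (Sum.inl p.1) 1 + Finsupp.single (Sum.inr p.2) 1) (fun _ => 1) τ
  simp only [one_pow, Finsupp.prod, Finset.prod_const_one, one_smul] at h1
  rw [← h1, (F.mult (MvPolynomial (ι ⊕ κ) A)).2, eval_sum F.homog, eval_sum F.homog, Finset.sum_mul_sum, map_sum,
    Finsupp.finsetSum_apply]
  have hterm : ∀ (ν' : ι →₀ ℕ) (μ' : κ →₀ ℕ),
      ((ν'.prod fun j k => monomial (Finsupp.single (Sum.inl j) 1) (1 : A) ^ k) *
        μ'.prod fun j k => monomial (Finsupp.single (Sum.inr j) 1) (1 : A) ^ k : MvPolynomial (ι ⊕ κ) A) =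
      monomial (ν'.mapDomain Sum.inl + μ'.mapDomain Sum.inr) 1 := fun ν' μ' => by
    simp only [monomial_pow, one_pow, Finsupp.prod, ← monomial_sum_one, monomial_mul, one_mul]
    congr 2
    simp [Finsupp.mapDomain, Finsupp.sum]
  have hτ : ∀ (ν' : ι →₀ ℕ) (μ' : κ →₀ ℕ),
      ν'.mapDomain Sum.inl + μ'.mapDomain Sum.inr = τ ↔ ν' = ν ∧ μ' = μ := by
    intro ν' μ'
    refine ⟨fun h => ⟨Finsupp.ext fun i => ?_, Finsupp.ext fun j => ?_⟩, by rintro ⟨rfl, rfl⟩; rfl⟩
    · simpa [τ, Finsupp.mapDomain_apply Sum.inl_injective, Finsupp.mapDomain_of_notMem_range] using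
        DFunLike.congr_fun h (Sum.inl i)
    · simpa [τ, Finsupp.mapDomain_apply Sum.inr_injective, Finsupp.mapDomain_of_notMem_range] using
        DFunLike.congr_fun h (Sum.inr j)
  simp only [map_sum, Finsupp.finsetSum_apply, Algebra.TensorProduct.tmul_mul_tmul, hterm, cd_monomial,
    hτ, one_smul, ite_and]
  rw [Finset.sum_comm]
  simp only [Finset.sum_ite_eq']
  by_cases hd : (ν.sum fun _ k => k) = d
  · simp only [if_pos (Finset.mem_finsuppAntidiag'.mpr ⟨hd, subset_rfl⟩ : ν ∈ ν.support.finsuppAntidiag d),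
      Finset.sum_ite_eq']
    split_ifs with hm
    · rfl
    · rw [co_eq_zero_of_degree_ne F.homog b' (ν := μ) fun h => hm (Finset.mem_finsuppAntidiag'.mpr ⟨h, subset_rfl⟩),
        mul_zero]
  · simp [co_eq_zero_of_degree_ne F.homog b hd]

theorem span_co_mul_mem (F : PolLaw.MulLaw A B C d) {κ : Type u} {e : κ → B}
    (he : Submodule.span A (Set.range e) = ⊤) {x y : C}
    (hx : x ∈ Submodule.span A (Set.range (co F.law e))) (hy : y ∈ Submodule.span A (Set.range (co F.law e))) :
    x * y ∈ Submodule.span A (Set.range (co F.law e)) := by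
  classical
  refine Submodule.span_induction (p := fun x _ => x * y ∈ _) ?_ (by simp)
    (fun a a' _ _ ha ha' => by rw [add_mul]; exact add_mem ha ha')
    (fun r a _ ha => by rw [smul_mul_assoc]; exact Submodule.smul_mem _ r ha) hx
  rintro _ ⟨ν, rfl⟩
  refine Submodule.span_induction (p := fun y _ => co F.law e ν * y ∈ _) ?_ (by simp)
    (fun a a' _ _ ha ha' => by rw [mul_add]; exact add_mem ha ha')
    (fun r a _ ha => by rw [mul_smul_comm]; exact Submodule.smul_mem _ r ha) hy
  rintro _ ⟨μ, rfl⟩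
  rw [co_mul_co]
  refine Submodule.sum_mem _ fun ρ _ => ?_
  split_ifs
  · exact co_mem_span F.homog he _ _
  · exact zero_mem _

theorem one_mem_span_co (F : PolLaw.MulLaw A B C d) {κ : Type u} {e : κ → B}
    (he : Submodule.span A (Set.range e) = ⊤) : (1 : C) ∈ Submodule.span A (Set.range (co F.law e)) :=
  co_single_one F (b := fun _ : PUnit.{u + 1} => (1 : B)) (j := PUnit.unit) rfl ▸
    co_mem_span F.homog he _ _

/-- The subalgebra of coefficients of a multiplicative law. -/
noncomputable def coSubalgebra (F : PolLaw.MulLaw A B C d) : Subalgebra A C :=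
  (Submodule.span A (Set.range (co F.law (id : B → B)))).toSubalgebra
    (one_mem_span_co F (by simp)) fun _ _ hx hy => span_co_mul_mem F (by simp) hx hy

theorem co_mem_coSubalgebra (F : PolLaw.MulLaw A B C d) (b : ι → B) (ν : ι →₀ ℕ) :
    co F.law b ν ∈ coSubalgebra F :=
  co_mem_span F.homog (by simp) b ν

/-- A multiplicative homogeneous law whose values lie in the image of an injective map of algebras
restricts along it. -/
theorem exists_restrict {C₀ : Type u} [CommRing C₀] [Algebra A C₀] (F : PolLaw.MulLaw A B C d)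
    (f : C₀ →ₐ[A] C) (hf : Function.Injective f) (h : ∀ ν, co F.law (id : B → B) ν ∈ f.range) :
    ∃ G : PolLaw.MulLaw A B C₀ d, PolLaw.postcomp f.toLinearMap G.law = F.law := by
  have hinj : ∀ n : ℕ, Function.Injective (f.toLinearMap.lTensor (MvPolynomial (Fin n) A)) := fun n =>
    Module.Flat.lTensor_preserves_injective_linearMap _ hf
  have hval : ∀ (n : ℕ) (x : MvPolynomial (Fin n) A ⊗[A] B),
      ∃ y, f.toLinearMap.lTensor (MvPolynomial (Fin n) A) y = F.law.toFun' _ x := by
    intro n x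
    obtain ⟨y, hy⟩ := toFun'_mem_span F.homog (e := (id : B → B)) (by simp) (P := LinearMap.range f.toLinearMap)
      (fun ν => h ν) x
    obtain ⟨z, hz⟩ := LinearMap.lTensor_surjective (MvPolynomial (Fin n) A)
      f.toLinearMap.surjective_rangeRestrict y
    refine ⟨z, ?_⟩
    rw [← hy, ← hz, ← LinearMap.comp_apply, ← LinearMap.lTensor_comp]
    rfl
  choose T hTf using hval
  have hT : ∀ (n m : ℕ) (φ : MvPolynomial (Fin n) A →ₐ[A] MvPolynomial (Fin m) A),
      φ.toLinearMap.rTensor C₀ ∘ T n = T m ∘ φ.toLinearMap.rTensor B := fun n m φ => funext fun x => by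
    refine hinj m ?_
    simp only [Function.comp_apply]
    rw [hTf, ← LinearMap.comp_apply, LinearMap.lTensor_comp_rTensor, ← LinearMap.rTensor_comp_lTensor,
      LinearMap.comp_apply, hTf]
    exact congrFun (F.law.isCompat' φ) x
  let G := polyLawOfFamily T hT
  have hG : ∀ (n : ℕ) (x : MvPolynomial (Fin n) A ⊗[A] B),
      f.toLinearMap.lTensor _ (G.toFun' _ x) = F.law.toFun' _ x := fun n x => by
    rw [show G.toFun' _ x = T n x from congrFun (polyLawOfFamily_toFun' T hT n) x, hTf]
  have hGS : ∀ (S : Type u) [CommSemiring S] [Algebra A S] (x : S ⊗[A] B),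
      f.toLinearMap.lTensor S (G.toFun' S x) = F.law.toFun' S x := fun S _ _ x => by
    obtain ⟨⟨n, φ, u⟩, rfl⟩ := exists_poly_lift (A := A) x
    have h1 := congrFun (G.isCompat' φ) u
    have h2 := congrFun (F.law.isCompat' φ) u
    simp only [Function.comp_apply] at h1 h2
    rw [← h1, ← h2, ← hG, ← LinearMap.comp_apply, LinearMap.lTensor_comp_rTensor,
      ← LinearMap.rTensor_comp_lTensor, LinearMap.comp_apply]
  have hmap : ∀ {n : ℕ} {S : Type u} [CommSemiring S] [Algebra A S]
      (φ : MvPolynomial (Fin n) A →ₐ[A] S) (x : MvPolynomial (Fin n) A ⊗[A] B),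
      G.toFun' S (Algebra.TensorProduct.map φ (AlgHom.id A B) x) =
        Algebra.TensorProduct.map φ (AlgHom.id A C₀) (G.toFun' _ x) := fun φ x => by
    rw [← PolLaw.rTensor_algHom_apply, ← PolLaw.rTensor_algHom_apply]
    exact (congrFun (G.isCompat' φ) x).symm
  refine ⟨⟨G, ?_, ?_⟩, PolynomialLaw.ext (funext fun S => funext fun _ => funext fun _ => funext fun x => hGS S x)⟩
  · intro S _ _ s x
    obtain ⟨⟨n, φ, u⟩, rfl⟩ := exists_poly_lift (A := A) x
    let Φ : MvPolynomial (Fin (n + 1)) A →ₐ[A] S := aeval (Fin.snoc (fun i => φ (X i)) s)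
    have hΦ : Φ.comp (rename Fin.castSucc) = φ := algHom_ext fun i => by simp [Φ]
    have hXs : Φ (X (Fin.last n)) = s := by simp [Φ]
    set w := (rename Fin.castSucc : MvPolynomial (Fin n) A →ₐ[A] _).toLinearMap.rTensor B u
    have hw : φ.toLinearMap.rTensor B u = Φ.toLinearMap.rTensor B w := by
      rw [← rTensor_algHom_comp, hΦ]
    simp only [hw, PolLaw.rTensor_algHom_apply]
    have hsm : ∀ {L : Type u} [CommRing L] [Algebra A L] (r : MvPolynomial (Fin (n + 1)) A)
        (z : MvPolynomial (Fin (n + 1)) A ⊗[A] L),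
        Algebra.TensorProduct.map Φ (AlgHom.id A L) (r • z) =
          Φ r • Algebra.TensorProduct.map Φ (AlgHom.id A L) z := by
      intro L _ _ r z
      induction z using TensorProduct.induction_on with
      | zero => simp
      | tmul p l => simp [TensorProduct.smul_tmul']
      | add z z' hz hz' => simp only [smul_add, map_add, hz, hz']
    conv_lhs => rw [← hXs, ← hsm, hmap]
    have hh : G.toFun' (MvPolynomial (Fin (n + 1)) A) ((X (Fin.last n) : MvPolynomial (Fin (n + 1)) A) • w) =
        (X (Fin.last n) : MvPolynomial (Fin (n + 1)) A) ^ d • G.toFun' _ w := by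
      refine hinj _ ?_
      rw [hG, F.homog, ← hG, PolLaw.lTensor_algHom_apply, PolLaw.lTensor_algHom_apply, map_smul]
    rw [hh, hsm, map_pow, hXs, hmap]
  · intro S _ _
    refine ⟨?_, fun x y => ?_⟩
    · have h1 : G.toFun' (MvPolynomial (Fin 0) A) 1 = 1 := by
        refine hinj _ ?_
        rw [hG, PolLaw.lTensor_algHom_apply, map_one]
        exact (F.mult _).1
      have := hmap (aeval Fin.elim0 : MvPolynomial (Fin 0) A →ₐ[A] S) 1
      rwa [map_one, h1, map_one] at this
    · obtain ⟨⟨n, φ, u⟩, rfl⟩ := exists_poly_lift (A := A) x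
      obtain ⟨⟨n', φ', u'⟩, rfl⟩ := exists_poly_lift (A := A) y
      let Φ : MvPolynomial (Fin (n + n')) A →ₐ[A] S :=
        aeval (Fin.append (fun i => φ (X i)) (fun i => φ' (X i)))
      have h1 : Φ.comp (rename (Fin.castAdd n')) = φ := algHom_ext fun i => by simp [Φ]
      have h2 : Φ.comp (rename (Fin.natAdd n)) = φ' := algHom_ext fun i => by simp [Φ]
      set w := (rename (Fin.castAdd n') : MvPolynomial (Fin n) A →ₐ[A] _).toLinearMap.rTensor B u
      set w' := (rename (Fin.natAdd n) : MvPolynomial (Fin n') A →ₐ[A] _).toLinearMap.rTensor B u'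
      have e1 : φ.toLinearMap.rTensor B u = Algebra.TensorProduct.map Φ (AlgHom.id A B) w := by
        rw [← PolLaw.rTensor_algHom_apply, ← rTensor_algHom_comp, h1]
      have e2 : φ'.toLinearMap.rTensor B u' = Algebra.TensorProduct.map Φ (AlgHom.id A B) w' := by
        rw [← PolLaw.rTensor_algHom_apply, ← rTensor_algHom_comp, h2]
      simp only [e1, e2, ← map_mul, hmap]
      congr 1
      refine hinj _ ?_
      rw [hG, (F.mult _).2, ← hG, ← hG, PolLaw.lTensor_algHom_apply, PolLaw.lTensor_algHom_apply,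
        PolLaw.lTensor_algHom_apply, map_mul]

/-- A divided power algebra is spanned by the coefficients of its universal law. -/
theorem coSubalgebra_eq_top {γ : PolLaw.MulLaw A B C d} (hγ : PolLaw.IsGammaD γ) :
    coSubalgebra γ = ⊤ := by
  obtain ⟨G, hG⟩ := exists_restrict γ (coSubalgebra γ).val Subtype.val_injective fun ν =>
    ⟨⟨_, co_mem_coSubalgebra γ id ν⟩, rfl⟩
  obtain ⟨g, hg, -⟩ := hγ _ G
  have h1 : ∀ g' : C →ₐ[A] C, PolLaw.postcomp g'.toLinearMap γ.law = γ.law → g' = AlgHom.id A C := by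
    intro g' hg'
    refine (hγ C γ).unique hg' ?_
    exact PolynomialLaw.ext (funext fun S => funext fun _ => funext fun _ => funext fun x => by
      exact LinearMap.congr_fun (LinearMap.lTensor_id S C) _)
  have h2 : (coSubalgebra γ).val.comp g = AlgHom.id A C := h1 _ <| by
    conv_rhs => rw [← hG, ← hg]
    exact PolynomialLaw.ext (funext fun S => funext fun _ => funext fun _ => funext fun x => by
      exact LinearMap.congr_fun (LinearMap.lTensor_comp S (coSubalgebra γ).val.toLinearMap g.toLinearMap) _)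
  refine eq_top_iff.mpr fun c _ => ?_
  have h3 : ((g c : coSubalgebra γ) : C) = c := AlgHom.congr_fun h2 c
  exact h3 ▸ (g c).2

theorem span_co_eq_top {γ : PolLaw.MulLaw A B C d} (hγ : PolLaw.IsGammaD γ) {κ : Type u} {e : κ → B}
    (he : Submodule.span A (Set.range e) = ⊤) : Submodule.span A (Set.range (co γ.law e)) = ⊤ := by
  refine eq_top_iff.mpr fun c _ => ?_
  have hc : c ∈ coSubalgebra γ := (coSubalgebra_eq_top hγ).symm ▸ Algebra.mem_top
  exact (Submodule.span_le.mpr (Set.range_subset_iff.mpr fun ν => co_mem_span γ.homog he id ν)) hc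

/-- The comparison map to symmetric tensors sends coefficients to orbit sums. -/
theorem val_co (γ : PolLaw.MulLaw A B C d) (φ : C →ₐ[A] SymTen.TS A B d)
    (hφ : ∀ (S : Type u) [CommSemiring S] [Algebra A S] (n : ℕ) (s : Fin n → S) (b : Fin n → B),
      ((SymTen.TS A B d).val.comp φ).toLinearMap.lTensor S (γ.law.toFun' S (∑ j, s j ⊗ₜ[A] b j)) =
        ∑ c : Fin d → Fin n, (∏ i, s (c i)) ⊗ₜ[A] PiTensorProduct.tprod A (fun i => b (c i)))
    (b : ι → B) (ν : ι →₀ ℕ) :
    ((φ (co γ.law b ν) : SymTen.TS A B d) : ⨂[A] _ : Fin d, B) = orbSum d b ν := by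
  rw [← co_of_tensor_formula (PolLaw.postcomp ((SymTen.TS A B d).val.comp φ).toLinearMap γ.law)
    (fun S _ _ n s b => hφ S n s b) b ν, co_postcomp]
  rfl

theorem val_polarT (γ : PolLaw.MulLaw A B C d) (φ : C →ₐ[A] SymTen.TS A B d)
    (hφ : ∀ (S : Type u) [CommSemiring S] [Algebra A S] (n : ℕ) (s : Fin n → S) (b : Fin n → B),
      ((SymTen.TS A B d).val.comp φ).toLinearMap.lTensor S (γ.law.toFun' S (∑ j, s j ⊗ₜ[A] b j)) =
        ∑ c : Fin d → Fin n, (∏ i, s (c i)) ⊗ₜ[A] PiTensorProduct.tprod A (fun i => b (c i)))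
    (y : ⨂[A] _ : Fin d, B) :
    ((φ (polarT γ.homog y) : SymTen.TS A B d) : ⨂[A] _ : Fin d, B) =
      ∑ σ : Equiv.Perm (Fin d), PiTensorProduct.reindex A (fun _ : Fin d => B) σ y := by
  induction y using PiTensorProduct.induction_on with
  | smul_tprod r m =>
    simp only [map_smul, Subalgebra.coe_smul, ← Finset.smul_sum, polarT_tprod, PiTensorProduct.reindex_tprod]
    congr 1
    rw [polar, val_co γ φ hφ, orbSum_ones]
    exact Fintype.sum_equiv (Equiv.inv (Equiv.Perm (Fin d))) _ _ fun σ => rfl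
  | add x y hx hy => simp only [map_add, Subalgebra.coe_add, hx, hy, Finset.sum_add_distrib]

end Groth.Agent.H22Alg.PL
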