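import Mathlib
import Groth.Prelude.Def_PolLaw2
import Groth.Agent.H22Alg.PolLawGamma

/-!
Laws out of a free module factor linearly through symmetric tensors; for algebras the factorisation is
multiplicative, so `TS^d` is the divided power algebra of an algebra free as a module.
-/

universe u

open scoped TensorProduct

namespace Groth.Agent.H22Alg.PL

open MvPolynomial

variable {A : Type u} [CommRing A] {M N : Type u} [AddCommGroup M] [Module A M]
  [AddCommGroup N] [Module A N] {ι : Type u} {d : ℕ}

theorem exists_cnt_eq (ν : ι →₀ ℕ) (h : (ν.sum fun _ k => k) = d) : ∃ c : Fin d → ι, cnt c = ν := by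
  classical
  induction d generalizing ν with
  | zero =>
    refine ⟨Fin.elim0, Finsupp.ext fun j => ?_⟩
    by_contra hne
    have h1 : ν j ≠ 0 := fun h0 => hne (by simp [cnt, h0])
    have h2 := Finset.single_le_sum (f := fun i => ν i) (fun _ _ => Nat.zero_le _) (Finsupp.mem_support_iff.mpr h1)
    rw [Finsupp.sum] at h
    omega
  | succ d ih =>
    have hne : ν ≠ 0 := by rintro rfl; simp at h
    obtain ⟨j, hj⟩ := Finsupp.support_nonempty_iff.mpr hne
    have hν : Finsupp.single j 1 + (ν - Finsupp.single j 1) = ν :=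
      add_tsub_cancel_of_le (Finsupp.single_le_iff.mpr (Nat.one_le_iff_ne_zero.mpr (Finsupp.mem_support_iff.mp hj)))
    obtain ⟨c, hc⟩ := ih (ν - Finsupp.single j 1) (by
      rw [← hν, Finsupp.sum_add_index' (fun _ => rfl) (fun _ _ _ => rfl), Finsupp.sum_single_index rfl] at h
      omega)
    refine ⟨Fin.cons j c, ?_⟩
    rw [cnt, Fin.sum_univ_succ]
    simp only [Fin.cons_zero, Fin.cons_succ]
    exact (congrArg (Finsupp.single j 1 + ·) hc).trans hν

theorem exists_perm_of_cnt_eq {c c' : Fin d → ι} (h : cnt c = cnt c') :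
    ∃ σ : Equiv.Perm (Fin d), ∀ i, c' (σ i) = c i := by
  classical
  have hj : ∀ j, Fintype.card {i // c i = j} = Fintype.card {i // c' i = j} := fun j => by
    have h1 := DFunLike.congr_fun h j
    rw [cnt_apply, cnt_apply] at h1
    rw [Fintype.card_subtype, Fintype.card_subtype]
    convert h1
  exact ⟨Equiv.ofFiberEquiv fun j => Fintype.equivOfCardEq (hj j), fun i => Equiv.ofFiberEquiv_map _ i⟩

/-- The basis of pure tensors of basis vectors. -/
noncomputable def piBasis (d : ℕ) (e : Module.Basis ι A M) : Module.Basis (Fin d → ι) A (⨂[A] _ : Fin d, M) :=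
  Basis.piTensorProduct fun _ => e

theorem piBasis_apply (e : Module.Basis ι A M) (c : Fin d → ι) :
    piBasis d e c = PiTensorProduct.tprod A (e ∘ c) :=
  Basis.piTensorProduct_apply _ c

open Classical in
theorem repr_orbSum (e : Module.Basis ι A M) (ν : ι →₀ ℕ) (c : Fin d → ι) :
    (piBasis d e).repr (orbSum d e ν) c = if cnt c = ν then 1 else 0 := by
  rw [orbSum, map_sum, Finsupp.finsetSum_apply]
  simp only [← piBasis_apply, Module.Basis.repr_self, Finsupp.single_apply]
  rw [Finset.sum_ite_eq']
  simp only [mem_fib]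

/-- An invariant tensor in a free module is a combination of orbit sums. -/
theorem mem_span_orbSum (e : Module.Basis ι A M) {t : ⨂[A] _ : Fin d, M}
    (ht : ∀ σ : Equiv.Perm (Fin d), PiTensorProduct.reindex A (fun _ : Fin d => M) σ t = t) :
    t ∈ Submodule.span A (Set.range fun ν : ι →₀ ℕ => orbSum d e ν) := by
  classical
  have hinv : ∀ c c' : Fin d → ι, cnt c = cnt c' → (piBasis d e).repr t c = (piBasis d e).repr t c' := by
    intro c c' h
    obtain ⟨σ, hσ⟩ := exists_perm_of_cnt_eq h
    have key : ∀ s : ⨂[A] _ : Fin d, M, (piBasis d e).repr (PiTensorProduct.reindex A (fun _ : Fin d => M) σ s) c' =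
        (piBasis d e).repr s c := by
      intro s
      induction s using PiTensorProduct.induction_on with
      | smul_tprod r m =>
        simp only [map_smul, PiTensorProduct.reindex_tprod, Finsupp.smul_apply, piBasis,
          Basis.piTensorProduct_repr_tprod_apply]
        congr 1
        rw [← Equiv.prod_comp σ]
        refine Finset.prod_congr rfl fun i _ => ?_
        rw [σ.symm_apply_apply, hσ]
      | add x y hx hy => simp only [map_add, Finsupp.add_apply, hx, hy]
    rw [← key, ht]
  set I := ((piBasis d e).repr t).support.image cnt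
  let pick : (ι →₀ ℕ) → A := fun ν =>
    if h : ∃ c : Fin d → ι, cnt c = ν then (piBasis d e).repr t h.choose else 0
  have : t = ∑ ν ∈ I, pick ν • orbSum d e ν := by
    refine (piBasis d e).ext_elem fun c => ?_
    simp only [map_sum, map_smul, Finsupp.finsetSum_apply, Finsupp.smul_apply, repr_orbSum, smul_eq_mul,
      mul_ite, mul_one, mul_zero]
    rw [Finset.sum_ite_eq]
    split_ifs with hc
    · have h : ∃ c' : Fin d → ι, cnt c' = cnt c := ⟨c, rfl⟩
      simp only [pick, dif_pos h]
      exact hinv _ _ h.choose_spec.symm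
    · exact Finsupp.notMem_support_iff.mp fun h => hc (Finset.mem_image_of_mem _ h)
  rw [this]
  exact Submodule.sum_mem _ fun ν _ => Submodule.smul_mem _ _ (Submodule.subset_span ⟨ν, rfl⟩)

open Classical in
/-- The linear form on the tensor power through which a law out of a free module factors. -/
noncomputable def fhat (d : ℕ) (F : M →ₚₗ[A] N) (e : Module.Basis ι A M) : (⨂[A] _ : Fin d, M) →ₗ[A] N :=
  (piBasis d e).constr A fun c =>
    if h : ∃ c' : Fin d → ι, cnt c' = cnt c then (if c = h.choose then co F e (cnt c) else 0) else 0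

theorem fhat_orbSum {F : M →ₚₗ[A] N} (hF : PolLaw.IsHomog F d) (e : Module.Basis ι A M) (ν : ι →₀ ℕ) :
    fhat d F e (orbSum d e ν) = co F e ν := by
  classical
  rw [orbSum, map_sum]
  simp only [← piBasis_apply, fhat, Module.Basis.constr_basis]
  by_cases hν : (ν.sum fun _ k => k) = d
  · have hex := exists_cnt_eq ν hν
    have hc₀ := hex.choose_spec
    rw [Finset.sum_eq_single hex.choose]
    · have h : ∃ c' : Fin d → ι, cnt c' = cnt hex.choose := ⟨_, rfl⟩
      rw [dif_pos h, if_pos, hc₀]
      congr 1
      rw [hc₀]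
    · intro c hc hne
      have hcν := mem_fib.mp hc
      rw [dif_pos ⟨c, rfl⟩, if_neg]
      intro h1
      apply hne
      rw [h1]
      congr 1
      rw [hcν]
    · intro h; exact absurd (mem_fib.mpr hc₀) h
  · rw [co_eq_zero_of_degree_ne hF _ hν]
    exact Finset.sum_eq_zero fun c hc => absurd (mem_fib.mp hc ▸ degree_cnt c) hν

section Algebra

variable {B C : Type u} [CommRing B] [Algebra A B] [CommRing C] [Algebra A C]

theorem postcomp_fhat (F : PolLaw.MulLaw A B C d) (e : Module.Basis ι A B) :
    PolLaw.postcomp (fhat d F.law e) (SymTen.tpowLaw A B d).law = F.law := by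
  refine ext_of_co (fun S _ _ s x => ?_) F.homog e.span_eq fun ν => ?_
  · show (fhat d F.law e).lTensor S ((SymTen.tpowLaw A B d).law.toFun' S (s • x)) = _
    rw [(SymTen.tpowLaw A B d).homog S s x]
    have : ∀ (r : S) (z : S ⊗[A] (⨂[A] _ : Fin d, B)),
        (fhat d F.law e).lTensor S (r • z) = r • (fhat d F.law e).lTensor S z := by
      intro r z
      induction z using TensorProduct.induction_on with
      | zero => simp
      | tmul p q => simp [TensorProduct.smul_tmul']
      | add z z' hz hz' => simp only [smul_add, map_add, hz, hz']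
    exact this _ _
  · rw [co_postcomp, co_tpowLaw, fhat_orbSum F.homog]

theorem fhat_co_tpowLaw (F : PolLaw.MulLaw A B C d) (e : Module.Basis ι A B) {κ : Type u} (b : κ → B)
    (ρ : κ →₀ ℕ) : fhat d F.law e (co (SymTen.tpowLaw A B d).law b ρ) = co F.law b ρ := by
  rw [← co_postcomp, postcomp_fhat]

theorem orbSum_mem_TS {κ : Type u} (b : κ → B) (ν : κ →₀ ℕ) : orbSum (A := A) d b ν ∈ SymTen.TS A B d :=
  fun σ => reindex_orbSum b ν σ

theorem TS_le_span (e : Module.Basis ι A B) :
    Subalgebra.toSubmodule (SymTen.TS A B d) ≤ Submodule.span A (Set.range fun ν : ι →₀ ℕ => orbSum d e ν) :=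
  fun _ ht => mem_span_orbSum e ht

/-- The algebra map out of symmetric tensors attached to a multiplicative law, for free `B`. -/
noncomputable def factorTS (F : PolLaw.MulLaw A B C d) (e : Module.Basis ι A B) :
    SymTen.TS A B d →ₐ[A] C :=
  AlgHom.ofLinearMap ((fhat d F.law e).comp (SymTen.TS A B d).val.toLinearMap)
    (by
      show fhat d F.law e (1 : ⨂[A] _ : Fin d, B) = 1
      rw [← co_single_one (SymTen.tpowLaw A B d) (b := fun _ : PUnit.{u + 1} => (1 : B)) (j := PUnit.unit) rfl,
        fhat_co_tpowLaw, co_single_one F (b := fun _ : PUnit.{u + 1} => (1 : B)) (j := PUnit.unit) rfl])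
    (by
      classical
      intro x y
      show fhat d F.law e ((x : ⨂[A] _ : Fin d, B) * y) = fhat d F.law e x * fhat d F.law e y
      refine Submodule.span_induction (p := fun z _ => fhat d F.law e (z * (y : ⨂[A] _ : Fin d, B)) =
        fhat d F.law e z * fhat d F.law e y) ?_ (by simp)
        (fun a a' _ _ ha ha' => by simp only [add_mul, map_add, ha, ha'])
        (fun r a _ ha => by simp only [smul_mul_assoc, map_smul, ha]) (TS_le_span e x.2)
      rintro _ ⟨ν, rfl⟩
      refine Submodule.span_induction (p := fun z _ => fhat d F.law e (orbSum d e ν * z) =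
        fhat d F.law e (orbSum d e ν) * fhat d F.law e z) ?_ (by simp)
        (fun a a' _ _ ha ha' => by simp only [mul_add, map_add, ha, ha'])
        (fun r a _ ha => by simp only [mul_smul_comm, map_smul, ha]) (TS_le_span e y.2)
      rintro _ ⟨μ, rfl⟩
      show fhat d F.law e (orbSum d e ν * orbSum d e μ) =
        fhat d F.law e (orbSum d e ν) * fhat d F.law e (orbSum d e μ)
      rw [fhat_orbSum F.homog, fhat_orbSum F.homog, ← co_tpowLaw e ν, ← co_tpowLaw e μ,
        co_mul_co (SymTen.tpowLaw A B d), co_mul_co F, map_sum]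
      refine Finset.sum_congr rfl fun ρ _ => ?_
      split_ifs with h
      · exact fhat_co_tpowLaw F e _ _
      · exact map_zero _)

theorem factorTS_apply (F : PolLaw.MulLaw A B C d) (e : Module.Basis ι A B) (t : SymTen.TS A B d) :
    factorTS F e t = fhat d F.law e t := rfl

theorem exists_tsLaw_of_free (e : Module.Basis ι A B) :
    ∃ τ : PolLaw.MulLaw A B (SymTen.TS A B d) d,
      PolLaw.postcomp (SymTen.TS A B d).val.toLinearMap τ.law = (SymTen.tpowLaw A B d).law :=
  exists_restrict (SymTen.tpowLaw A B d) (SymTen.TS A B d).val Subtype.val_injective fun ν =>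
    ⟨⟨_, orbSum_mem_TS id ν⟩, (co_tpowLaw id ν).symm⟩

/-- For `B` free, `TS^d_A(B)` is the divided power algebra. -/
theorem isGammaD_of_free (e : Module.Basis ι A B) (τ : PolLaw.MulLaw A B (SymTen.TS A B d) d)
    (hτ : PolLaw.postcomp (SymTen.TS A B d).val.toLinearMap τ.law = (SymTen.tpowLaw A B d).law) :
    PolLaw.IsGammaD τ := by
  intro C' _ _ F
  have hco : ∀ ν, ((co τ.law e ν : SymTen.TS A B d) : ⨂[A] _ : Fin d, B) = orbSum d e ν := fun ν => by
    rw [← co_tpowLaw e ν, ← hτ, co_postcomp]; rfl
  refine ⟨factorTS F e, ?_, fun g hg => ?_⟩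
  · refine ext_of_co (PolLaw.MulLaw.postcomp (factorTS F e) τ).homog F.homog e.span_eq fun ν => ?_
    rw [co_postcomp]
    show fhat d F.law e (co τ.law e ν : SymTen.TS A B d).1 = _
    rw [hco, fhat_orbSum F.homog]
  · refine AlgHom.ext fun t => ?_
    have hspan : t ∈ Submodule.span A (Set.range (co τ.law e)) := by
      have h1 := TS_le_span e t.2
      have h2 : Submodule.span A (Set.range fun ν : ι →₀ ℕ => orbSum d e ν) =
          (Submodule.span A (Set.range (co τ.law e))).map (SymTen.TS A B d).val.toLinearMap := by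
        rw [Submodule.map_span, ← Set.range_comp]
        exact congrArg _ (congrArg Set.range (funext fun ν => (hco ν).symm))
      rw [h2] at h1
      obtain ⟨s, hs, hst⟩ := h1
      exact (Subtype.ext hst : s = t) ▸ hs
    induction hspan using Submodule.span_induction with
    | mem x hx =>
      obtain ⟨ν, rfl⟩ := hx
      have h3 : co (PolLaw.postcomp g.toLinearMap τ.law) e ν = co F.law e ν := by rw [hg]
      rw [co_postcomp] at h3
      rw [factorTS_apply, hco, fhat_orbSum F.homog]
      exact h3
    | zero => simp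
    | add a b _ _ ha hb => rw [map_add, map_add, ha, hb]
    | smul r a _ ha => rw [map_smul, map_smul, ha]

end Algebra

end Groth.Agent.H22Alg.PL
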