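import Mathlib
import Groth.Prelude.Def_PolLaw2
import Groth.Agent.H22Alg.PolLawFree

/-!
Descent of multiplicative laws along surjections and existence of divided power algebras.
-/

universe u

open scoped TensorProduct

namespace Groth.Agent.H22Alg.PL

open MvPolynomial

variable {A : Type u} [CommRing A] {d : ℕ}

/-- A homogeneous law is constant modulo a set `K` of elements killing its coefficients. -/
theorem toFun'_add_of_kills {M N : Type u} [AddCommGroup M] [Module A M] [AddCommGroup N] [Module A N]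
    {G : M →ₚₗ[A] N} (hG : PolLaw.IsHomog G d) (K : Set M)
    (hK : ∀ {κ : Type u} (b : κ → M) (ν : κ →₀ ℕ) (j : κ), b j ∈ K → ν j ≠ 0 → co G b ν = 0)
    {S : Type u} [CommSemiring S] [Algebra A S] (x : S ⊗[A] M) {y : S ⊗[A] M}
    (hy : y ∈ LinearMap.range ((Submodule.span A K).subtype.lTensor S)) :
    G.toFun' S (x + y) = G.toFun' S x := by
  classical
  obtain ⟨z, rfl⟩ := hy
  have hspan : Submodule.span A (Set.range fun k : K =>
      (⟨(k : M), Submodule.subset_span k.2⟩ : Submodule.span A K)) = ⊤ := by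
    refine eq_top_iff.mpr ?_
    rintro ⟨m, hm⟩ -
    induction hm using Submodule.span_induction with
    | mem w hw => exact Submodule.subset_span ⟨⟨w, hw⟩, rfl⟩
    | zero => exact zero_mem _
    | add a b ha hb iha ihb => exact add_mem iha ihb
    | smul r a ha iha => exact Submodule.smul_mem _ r iha
  obtain ⟨s, v, rfl⟩ := exists_sum_eq hspan z
  obtain ⟨t, w, rfl⟩ := exists_sum_eq (b := (id : M → M)) (by simp) x
  let b : M ⊕ ↥K → M := Sum.elim id Subtype.val
  let v' : M ⊕ ↥K → S := Sum.elim w v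
  have e1 : ∑ j ∈ t, w j ⊗ₜ[A] id j + (Submodule.span A K).subtype.lTensor S
      (∑ k ∈ s, v k ⊗ₜ[A] (⟨(k : M), Submodule.subset_span k.2⟩ : Submodule.span A K)) =
      ∑ p ∈ t.disjSum s, v' p ⊗ₜ[A] b p := by
    rw [Finset.sum_disjSum, map_sum]
    rfl
  have e2 : ∑ j ∈ t, w j ⊗ₜ[A] id j = ∑ p ∈ t.map Function.Embedding.inl, v' p ⊗ₜ[A] b p := by
    rw [Finset.sum_map]; rfl
  rw [e1, e2, eval_sum hG, eval_sum hG]
  refine (Finset.sum_subset ?_ fun ν hν hν' => ?_).symm
  · intro ν hν
    obtain ⟨h1, h2⟩ := Finset.mem_finsuppAntidiag'.mp hν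
    exact Finset.mem_finsuppAntidiag'.mpr ⟨h1, h2.trans fun p hp => by
      obtain ⟨j, hj, rfl⟩ := Finset.mem_map.mp hp
      exact Finset.inl_mem_disjSum.mpr hj⟩
  · obtain ⟨h1, h2⟩ := Finset.mem_finsuppAntidiag'.mp hν
    obtain ⟨p, hp, hpt⟩ := Finset.not_subset.mp fun h => hν' (Finset.mem_finsuppAntidiag'.mpr ⟨h1, h⟩)
    rcases p with j | k
    · exact absurd (Finset.mem_map.mpr ⟨j, Finset.inl_mem_disjSum.mp (h2 hp), rfl⟩) hpt
    · rw [hK b ν (Sum.inr k) k.2 (Finsupp.mem_support_iff.mp hp), TensorProduct.tmul_zero]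

variable {P B C : Type u} [CommRing P] [Algebra A P] [CommRing B] [Algebra A B] [CommRing C] [Algebra A C]

/-- Descent of a multiplicative law along a surjection, given a spanning set of the kernel whose
members kill the coefficients. -/
theorem exists_descend (π : P →ₐ[A] B) (hπ : Function.Surjective π) (G : PolLaw.MulLaw A P C d)
    (K : Set P) (hker : LinearMap.ker π.toLinearMap ≤ Submodule.span A K)
    (hK : ∀ {κ : Type u} (b : κ → P) (ν : κ →₀ ℕ) (j : κ), b j ∈ K → ν j ≠ 0 → co G.law b ν = 0) :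
    ∃ F : PolLaw.MulLaw A B C d, F.precomp π = G := by
  have hs : ∀ (S : Type u) [CommSemiring S] [Algebra A S],
      Function.Surjective (π.toLinearMap.lTensor S) := fun S _ _ => LinearMap.lTensor_surjective S hπ
  have hwd : ∀ (S : Type u) [CommSemiring S] [Algebra A S] (x x' : S ⊗[A] P),
      π.toLinearMap.lTensor S x = π.toLinearMap.lTensor S x' → G.law.toFun' S x = G.law.toFun' S x' := by
    intro S _ _ x x' h
    letI : CommRing S := { Algebra.semiringToRing A, ‹CommSemiring S› with }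
    obtain ⟨z, hz⟩ := (lTensor_exact S (LinearMap.exact_subtype_ker_map π.toLinearMap) hπ (x - x')).mp
      (by rw [map_sub, h, sub_self])
    have hy : x - x' ∈ LinearMap.range ((Submodule.span A K).subtype.lTensor S) := by
      refine ⟨(Submodule.inclusion hker).lTensor S z, ?_⟩
      rw [← hz, ← LinearMap.comp_apply, ← LinearMap.lTensor_comp]
      rfl
    rw [← toFun'_add_of_kills G.homog K hK x' hy, add_sub_cancel]
  let T : B →ₚₗ[A] C :=
    { toFun' := fun S _ _ y => G.law.toFun' S (Function.surjInv (hs S) y)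
      isCompat' := by
        intro S _ _ S' _ _ φ
        funext y
        simp only [Function.comp_apply]
        refine (congrFun (G.law.isCompat' φ) _).trans (hwd S' _ _ ?_)
        simp only [Function.surjInv_eq (hs S')]
        rw [← LinearMap.comp_apply, LinearMap.lTensor_comp_rTensor, ← LinearMap.rTensor_comp_lTensor,
          LinearMap.comp_apply, Function.surjInv_eq (hs S)] }
  have hT : ∀ (S : Type u) [CommSemiring S] [Algebra A S] (x : S ⊗[A] P),
      T.toFun' S (π.toLinearMap.lTensor S x) = G.law.toFun' S x := fun S _ _ x =>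
    hwd S _ _ (Function.surjInv_eq (hs S) _)
  refine ⟨⟨T, ?_, ?_⟩, PolLaw.MulLaw.ext (PolynomialLaw.ext (funext fun S => funext fun _ => funext fun _ =>
    funext fun x => hT S x))⟩
  · intro S _ _ s y
    obtain ⟨x, rfl⟩ := hs S y
    rw [PolLaw.lTensor_algHom_apply, ← map_smul, ← PolLaw.lTensor_algHom_apply,
      ← PolLaw.lTensor_algHom_apply, hT, hT, G.homog]
  · intro S _ _
    refine ⟨?_, fun y y' => ?_⟩
    · have := hT S 1
      rw [PolLaw.lTensor_algHom_apply, map_one, (G.mult S).1] at this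
      exact this
    · obtain ⟨x, rfl⟩ := hs S y
      obtain ⟨x', rfl⟩ := hs S y'
      rw [PolLaw.lTensor_algHom_apply, PolLaw.lTensor_algHom_apply, ← map_mul, ← PolLaw.lTensor_algHom_apply,
        ← PolLaw.lTensor_algHom_apply, ← PolLaw.lTensor_algHom_apply, hT, hT, hT, (G.mult S).2]

theorem co_precomp_law (F : PolLaw.MulLaw A B C d) (π : P →ₐ[A] B) {κ : Type u} (b : κ → P) (ν : κ →₀ ℕ) :
    co (F.precomp π).law b ν = co F.law (π ∘ b) ν :=
  co_precomp F.law π.toLinearMap b ν

theorem co_postcomp_law {C' : Type u} [CommRing C'] [Algebra A C'] (g : C →ₐ[A] C')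
    (F : PolLaw.MulLaw A B C d) {κ : Type u} (b : κ → B) (ν : κ →₀ ℕ) :
    co (F.postcomp g).law b ν = g (co F.law b ν) :=
  co_postcomp g.toLinearMap F.law b ν

/-- A law out of `B` is determined by its pullback along a surjection. -/
theorem law_ext_of_precomp {F F' : PolLaw.MulLaw A B C d} (π : P →ₐ[A] B) (hπ : Function.Surjective π)
    (h : F.precomp π = F'.precomp π) : F = F' := by
  refine PolLaw.MulLaw.ext (ext_of_co F.homog F'.homog (b := fun p : P => π p) ?_ fun ν => ?_)
  · rw [show Set.range (fun p : P => π p) = Set.univ from hπ.range_eq]; simp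
  · show co F.law (π ∘ id) ν = co F'.law (π ∘ id) ν
    rw [← co_precomp_law, ← co_precomp_law, h]

/-- The elements of `TS^d(P)` killed in every law factoring through `π`. -/
def relGen {ι : Type u} (τ : PolLaw.MulLaw A P C d) (π : P →ₐ[A] B) (_e : ι → P) : Set C :=
  {t | ∃ (κ : Type u) (b : κ → P) (ν : κ →₀ ℕ) (j : κ), π (b j) = 0 ∧ ν j ≠ 0 ∧ t = co τ.law b ν}

theorem factor_kills_relGen {R C' : Type u} [CommRing R] [Algebra A R] [CommRing C'] [Algebra A C']
    (τ : PolLaw.MulLaw A P R d) (π : P →ₐ[A] B) (f : R →ₐ[A] C') (F : PolLaw.MulLaw A B C' d)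
    (hf : PolLaw.postcomp f.toLinearMap τ.law = (F.precomp π).law) {ι : Type u} (e : ι → P) :
    ∀ a ∈ Ideal.span (relGen τ π e), f a = 0 := by
  intro a ha
  refine (Ideal.span_le (I := RingHom.ker f)).mpr ?_ ha
  rintro _ ⟨κ, b, ν, j, hj, hν, rfl⟩
  show f (co τ.law b ν) = 0
  have h1 : co (PolLaw.postcomp f.toLinearMap τ.law) b ν = co (F.precomp π).law b ν := by rw [hf]
  rw [co_postcomp, co_precomp_law] at h1
  exact h1.trans (co_eq_zero_of_family_zero _ _ hν hj)

/-- Recognising a divided power algebra below that of a cover. -/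
theorem isGammaD_of_cover {R R' : Type u} [CommRing R] [Algebra A R] [CommRing R'] [Algebra A R']
    {ι : Type u} (e : Module.Basis ι A P) (π : P →ₐ[A] B) (hπ : Function.Surjective π)
    (τ : PolLaw.MulLaw A P R d) (hτ : PolLaw.IsGammaD τ) (q : R →ₐ[A] R') (hq : Function.Surjective q)
    (hker : ∀ a, q a = 0 → a ∈ Ideal.span (relGen τ π e)) (γ : PolLaw.MulLaw A B R' d)
    (hγ : γ.precomp π = τ.postcomp q) : PolLaw.IsGammaD γ := by
  intro C' _ _ F
  obtain ⟨f, hf, huniq⟩ := hτ C' (F.precomp π)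
  have hfker : RingHom.ker q ≤ RingHom.ker f := fun a ha =>
    factor_kills_relGen τ π f F hf e a (hker a ha)
  let g₀ : R' →ₐ[A] C' := AlgHom.liftOfSurjective q hq f hfker
  have hg₀ : ∀ a, g₀ (q a) = f a := fun a => AlgHom.liftOfSurjective_apply q hq f hfker a
  have hbase : ∀ g : R' →ₐ[A] C', ∀ ν, co ((γ.postcomp g).precomp π).law e ν = g (q (co τ.law e ν)) := by
    intro g ν
    rw [co_precomp_law, co_postcomp_law, ← co_precomp_law γ π, hγ, co_postcomp_law]
  refine ⟨g₀, ?_, fun g hg => ?_⟩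
  · have hfac : γ.postcomp g₀ = F := by
      refine law_ext_of_precomp π hπ (PolLaw.MulLaw.ext ?_)
      refine ext_of_co (PolLaw.MulLaw.homog _) (PolLaw.MulLaw.homog _) e.span_eq fun ν => ?_
      rw [hbase, hg₀, ← co_postcomp_law f τ]
      exact congrArg (fun L => co L e ν) hf
    exact congrArg PolLaw.MulLaw.law hfac
  · have hfeq : g.comp q = f := huniq _ <| by
      refine ext_of_co ((τ.postcomp (g.comp q)).homog) (PolLaw.MulLaw.homog _) e.span_eq fun ν => ?_
      rw [co_postcomp]
      refine (hbase g ν).symm.trans ?_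
      rw [show γ.postcomp g = F from PolLaw.MulLaw.ext hg]
    refine AlgHom.ext fun r => ?_
    obtain ⟨a, rfl⟩ := hq r
    rw [hg₀, ← hfeq]
    rfl

/-- A law on a free cover descends to a divided power algebra of the base. -/
theorem exists_gammaD_below {R : Type u} [CommRing R] [Algebra A R] {ι : Type u} (e : Module.Basis ι A P)
    (π : P →ₐ[A] B) (hπ : Function.Surjective π) (τ : PolLaw.MulLaw A P R d) (hτ : PolLaw.IsGammaD τ) :
    ∃ (C : Type u) (_ : CommRing C) (_ : Algebra A C) (γ : PolLaw.MulLaw A B C d), PolLaw.IsGammaD γ := by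
  let J : Ideal R := Ideal.span (relGen τ π e)
  obtain ⟨γ, hγ⟩ := exists_descend π hπ (τ.postcomp (Ideal.Quotient.mkₐ A J)) {p | π p = 0}
    (fun p hp => Submodule.subset_span hp) (fun {κ} b ν j hj hν => by
      rw [co_postcomp_law]
      exact Ideal.Quotient.eq_zero_iff_mem.mpr (Ideal.subset_span ⟨κ, b, ν, j, hj, hν, rfl⟩))
  exact ⟨R ⧸ J, inferInstance, inferInstance, γ, isGammaD_of_cover e π hπ τ hτ _ Ideal.Quotient.mk_surjective
    (fun a ha => Ideal.Quotient.eq_zero_iff_mem.mp ha) γ hγ⟩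

/-- Every algebra has a divided power algebra in each degree. -/
theorem exists_gammaD (A B : Type u) [CommRing A] [CommRing B] [Algebra A B] (d : ℕ) :
    ∃ (C : Type u) (_ : CommRing C) (_ : Algebra A C) (γ : PolLaw.MulLaw A B C d), PolLaw.IsGammaD γ := by
  obtain ⟨τ, hτ⟩ := exists_tsLaw_of_free (d := d) (basisMonomials B A)
  exact exists_gammaD_below (basisMonomials B A) (aeval (id : B → B)) (fun b => ⟨X b, aeval_X _ b⟩) τ
    (isGammaD_of_free (basisMonomials B A) τ hτ)

/-- For any free cover `P → B`, the divided power algebra of `B` is a quotient of `TS^d(P)`. -/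
theorem exists_surjective_of_isGammaD {ι : Type u} (e : Module.Basis ι A P) (π : P →ₐ[A] B)
    (hπ : Function.Surjective π) {γ : PolLaw.MulLaw A B C d} (hγ : PolLaw.IsGammaD γ)
    (τ : PolLaw.MulLaw A P (SymTen.TS A P d) d)
    (hτ : PolLaw.postcomp (SymTen.TS A P d).val.toLinearMap τ.law = (SymTen.tpowLaw A P d).law) :
    ∃ q : SymTen.TS A P d →ₐ[A] C, Function.Surjective q ∧ τ.postcomp q = γ.precomp π := by
  obtain ⟨f, hf, -⟩ := isGammaD_of_free e τ hτ C (γ.precomp π)
  refine ⟨f, fun c => ?_, PolLaw.MulLaw.ext hf⟩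
  have hc : c ∈ LinearMap.range f.toLinearMap := by
    refine (Submodule.span_le.mpr ?_ : _ ≤ LinearMap.range f.toLinearMap)
      ((span_co_eq_top hγ (e := fun p : P => π p) (by
        rw [show Set.range (fun p : P => π p) = Set.univ from hπ.range_eq]; simp)).ge Submodule.mem_top)
    rintro _ ⟨ν, rfl⟩
    refine ⟨co τ.law id ν, ?_⟩
    rw [← co_postcomp, hf, co_precomp_law]
    rfl
  exact hc

end Groth.Agent.H22Alg.PL
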