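import Mathlib
import Groth.Prelude.Def_PolLaw2
import Groth.Agent.H22Alg.PolLawFree
import Groth.Agent.H22Alg.PolLawDescend

/-!
Norms attached to multiplicative laws with values in the base, their characteristic polynomials,
and the relative Cayley–Hamilton theorem.
-/

universe u

open scoped TensorProduct

namespace Groth.Agent.H22Alg.PL

open Polynomial Algebra.TensorProduct

variable {A : Type u} [CommRing A] {B C : Type u} [CommRing B] [Algebra A B] [CommRing C] [Algebra A C]
  {d : ℕ}

/-- Base change of the coefficient ring of a tensor product. -/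
noncomputable def bc {S S' : Type u} [CommSemiring S] [Algebra A S] [CommSemiring S'] [Algebra A S']
    (φ : S →ₐ[A] S') : S ⊗[A] B →ₐ[A] S' ⊗[A] B :=
  Algebra.TensorProduct.map φ (AlgHom.id A B)

theorem rTensor_eq_map {S S' : Type u} [CommSemiring S] [Algebra A S] [CommSemiring S'] [Algebra A S']
    (φ : S →ₐ[A] S') (x : S ⊗[A] B) :
    φ.toLinearMap.rTensor B x = bc φ x := by
  induction x using TensorProduct.induction_on with
  | zero => simp
  | tmul s b => rfl
  | add a b ha hb => simp [ha, hb]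

@[simp] theorem bc_tmul {S S' : Type u} [CommSemiring S] [Algebra A S] [CommSemiring S'] [Algebra A S']
    (φ : S →ₐ[A] S') (s : S) (b : B) : bc φ (s ⊗ₜ[A] b) = φ s ⊗ₜ[A] b := rfl

theorem bc_bc {S S' S'' : Type u} [CommSemiring S] [Algebra A S] [CommSemiring S'] [Algebra A S']
    [CommSemiring S''] [Algebra A S''] (ψ : S' →ₐ[A] S'') (φ : S →ₐ[A] S') (x : S ⊗[A] B) :
    bc ψ (bc φ x) = bc (ψ.comp φ) x := by
  induction x using TensorProduct.induction_on with
  | zero => simp
  | tmul s b => simp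
  | add a b ha hb => simp [ha, hb]

theorem bc_id {S : Type u} [CommSemiring S] [Algebra A S] (x : S ⊗[A] B) :
    bc (AlgHom.id A S) x = x := by
  induction x using TensorProduct.induction_on with
  | zero => simp
  | tmul s b => simp
  | add a b ha hb => simp [ha, hb]

theorem bc_smul {S S' : Type u} [CommSemiring S] [Algebra A S] [CommSemiring S'] [Algebra A S']
    (φ : S →ₐ[A] S') (s : S) (x : S ⊗[A] B) : bc φ (s • x) = φ s • bc φ x := by
  induction x using TensorProduct.induction_on with
  | zero => simp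
  | tmul t b => simp [TensorProduct.smul_tmul']
  | add a b ha hb => simp [ha, hb]

theorem law_bc (F : PolLaw.MulLaw A B C d) {S S' : Type u} [CommSemiring S] [Algebra A S]
    [CommSemiring S'] [Algebra A S'] (φ : S →ₐ[A] S') (x : S ⊗[A] B) :
    F.law.toFun' S' (bc φ x) = bc φ (F.law.toFun' S x) := by
  rw [← rTensor_eq_map, ← rTensor_eq_map]
  exact (congrFun (F.law.isCompat' φ) x).symm

theorem law_precomp_apply {B' : Type u} [CommRing B'] [Algebra A B'] (F : PolLaw.MulLaw A B C d)
    (π : B' →ₐ[A] B) (S : Type u) [CommSemiring S] [Algebra A S] (x : S ⊗[A] B') :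
    (F.precomp π).law.toFun' S x =
      F.law.toFun' S (Algebra.TensorProduct.map (AlgHom.id S S) π x) := by
  show F.law.toFun' S (π.toLinearMap.lTensor S x) = _
  rw [PolLaw.lTensor_algHom_apply]

/-- The product of two algebra maps on a tensor product. -/
noncomputable def pr {S T R : Type u} [CommRing S] [Algebra A S] [CommRing T] [Algebra A T] [CommRing R]
    [Algebra A R] (f : S →ₐ[A] R) (g : T →ₐ[A] R) : S ⊗[A] T →ₐ[A] R :=
  Algebra.TensorProduct.lift f g fun _ _ => Commute.all _ _

@[simp] theorem pr_tmul {S T R : Type u} [CommRing S] [Algebra A S] [CommRing T] [Algebra A T] [CommRing R]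
    [Algebra A R] (f : S →ₐ[A] R) (g : T →ₐ[A] R) (s : S) (t : T) : pr f g (s ⊗ₜ[A] t) = f s * g t := rfl

theorem algHom_prod {P Q : Type u} [CommRing P] [Algebra A P] [CommRing Q] [Algebra A Q] (M : P →ₐ[A] Q)
    {ι : Type*} (s : Finset ι) (g : ι → P) : M (∏ j ∈ s, g j) = ∏ j ∈ s, M (g j) := map_prod M g s

section Norm

variable (F : PolLaw.MulLaw A B A d)

/-- The norm `S ⊗ B → S` of a law with values in the base. -/
noncomputable def nm (S : Type u) [CommRing S] [Algebra A S] : S ⊗[A] B →* S where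
  toFun x := Algebra.TensorProduct.rid A S S (F.law.toFun' S x)
  map_one' := by rw [(F.mult S).1, map_one]
  map_mul' x y := by rw [(F.mult S).2, map_mul]

variable {S S' : Type u} [CommRing S] [Algebra A S] [CommRing S'] [Algebra A S']

theorem nm_def (x : S ⊗[A] B) : nm F S x = Algebra.TensorProduct.rid A S S (F.law.toFun' S x) := rfl

theorem nm_bc (φ : S →ₐ[A] S') (x : S ⊗[A] B) : nm F S' (bc φ x) = φ (nm F S x) := by
  rw [nm_def, nm_def, law_bc]
  induction F.law.toFun' S x using TensorProduct.induction_on with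
  | zero => simp
  | tmul s a => simp
  | add a b ha hb => simp [ha, hb]

theorem nm_smul (s : S) (x : S ⊗[A] B) : nm F S (s • x) = s ^ d * nm F S x := by
  rw [nm_def, nm_def, F.homog S s x, map_smul, smul_eq_mul]

theorem nm_smul_one (s : S) : nm F S (s • (1 : S ⊗[A] B)) = s ^ d := by
  rw [nm_smul, map_one, mul_one]

theorem law_eq_iff_nm_eq {x y : S ⊗[A] B} :
    F.law.toFun' S x = F.law.toFun' S y ↔ nm F S x = nm F S y :=
  (Algebra.TensorProduct.rid A S S).injective.eq_iff.symm

theorem nm_precomp {B' : Type u} [CommRing B'] [Algebra A B'] (π : B' →ₐ[A] B) (x : S ⊗[A] B') :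
    nm (F.precomp π) S x = nm F S (Algebra.TensorProduct.map (AlgHom.id S S) π x) := by
  rw [nm_def, nm_def, law_precomp_apply]

/-- The inclusion of constants. -/
noncomputable def cst (A : Type u) [CommRing A] (S : Type u) [CommRing S] [Algebra A S] : S →ₐ[A] S[X] :=
  Polynomial.CAlgHom

@[simp] theorem cst_apply (s : S) : cst A S s = Polynomial.C s := rfl

/-- The characteristic polynomial `N (z - X)`. -/
noncomputable def chi (z : S ⊗[A] B) : S[X] :=
  nm F S[X] (bc (cst A S) z - (X : S[X]) • (1 : S[X] ⊗[A] B))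

theorem chi_bc (φ : S →ₐ[A] S') (z : S ⊗[A] B) :
    (chi F z).map φ.toRingHom = chi F (bc φ z) := by
  show Polynomial.mapAlgHom φ (chi F z) = _
  rw [chi, chi, ← nm_bc, map_sub, bc_smul, map_one, bc_bc, bc_bc]
  congr 3
  · congr 1
    ext s
    simp
  · simp

theorem chi_precomp {B' : Type u} [CommRing B'] [Algebra A B'] (π : B' →ₐ[A] B) (z : S ⊗[A] B') :
    chi (F.precomp π) z = chi F (Algebra.TensorProduct.map (AlgHom.id S S) π z) := by
  rw [chi, chi, nm_precomp]
  congr 1
  rw [map_sub, map_smul, map_one]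
  congr 1
  induction z using TensorProduct.induction_on with
  | zero => simp
  | tmul s b => simp
  | add a b ha hb => simp [ha, hb]

set_option maxHeartbeats 1000000 in
set_option synthInstance.maxHeartbeats 200000 in
/-- Cayley–Hamilton when both algebras are free. -/
theorem ch_free {ι : Type u} (e : Module.Basis ι A B) [Module.Flat A S] (z x w : S ⊗[A] B) :
    nm F S (x + w * aeval z (chi F z)) = nm F S x := by
  obtain ⟨τ, hτ⟩ := exists_tsLaw_of_free (d := d) e
  obtain ⟨f, hf, -⟩ := isGammaD_of_free e τ hτ A F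
  let fl : ∀ (R : Type u) [CommRing R] [Algebra A R], R ⊗[A] SymTen.TS A B d →ₐ[A] R := fun R _ _ =>
    pr (AlgHom.id A R) ((Algebra.ofId A R).comp f)
  have hnm : ∀ (R : Type u) [CommRing R] [Algebra A R] (y : R ⊗[A] B),
      nm F R y = fl R (τ.law.toFun' R y) := by
    intro R _ _ y
    rw [nm_def, ← hf]
    show Algebra.TensorProduct.rid A R R (f.toLinearMap.lTensor R (τ.law.toFun' R y)) = _
    induction τ.law.toFun' R y using TensorProduct.induction_on with
    | zero => simp
    | tmul s t => simp [fl, Algebra.smul_def, mul_comm]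
    | add a b ha hb => simp [ha, hb]
  let σ : Fin d → (B →ₐ[A] (⨂[A] _ : Fin d, B)) := fun j => PiTensorProduct.singleAlgHom (A := fun _ : Fin d => B) j
  have htp : ∀ (R : Type u) [CommRing R] [Algebra A R] (y : R ⊗[A] B),
      Algebra.TensorProduct.map (AlgHom.id A R) (SymTen.TS A B d).val (τ.law.toFun' R y) =
        ∏ j, Algebra.TensorProduct.map (AlgHom.id A R) (σ j) y := by
    intro R _ _ y
    have h1 : (SymTen.TS A B d).val.toLinearMap.lTensor R (τ.law.toFun' R y) =
        (SymTen.tpowLaw A B d).law.toFun' R y := by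
      rw [← hτ]; rfl
    rw [SymTen.tpowLaw, PolLaw.MulLaw.prodMap_toFun'] at h1
    exact (by rfl : _ = _).trans (h1.trans (by rfl))
  let inS : S →ₐ[A] (S ⊗[A] SymTen.TS A B d) := Algebra.TensorProduct.includeLeft
  let inT : SymTen.TS A B d →ₐ[A] (S ⊗[A] SymTen.TS A B d) := Algebra.TensorProduct.includeRight
  have hinS : ∀ v, inS v = v ⊗ₜ 1 := fun _ => rfl
  have hinT : ∀ v, inT v = 1 ⊗ₜ v := fun _ => rfl
  let valS : (S ⊗[A] SymTen.TS A B d) →ₐ[A] S ⊗[A] (⨂[A] _ : Fin d, B) := Algebra.TensorProduct.map (AlgHom.id A S) (SymTen.TS A B d).val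
  have hvalS : ∀ a b, valS (a ⊗ₜ b) = a ⊗ₜ[A] (b : (⨂[A] _ : Fin d, B)) := fun _ _ => rfl
  have hval : Function.Injective valS := by
    have := Module.Flat.lTensor_preserves_injective_linearMap (M := S)
      (SymTen.TS A B d).val.toLinearMap Subtype.val_injective
    exact this
  have hfS : (fl S).comp inS = AlgHom.id A S := by
    ext s; simp [fl, inS]
  -- the universal characteristic polynomial
  let Φ : S[X] ⊗[A] SymTen.TS A B d →ₐ[A] (S ⊗[A] SymTen.TS A B d)[X] :=
    pr (Polynomial.mapAlgHom inS) ((cst A (S ⊗[A] SymTen.TS A B d)).comp inT)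
  let zX : S[X] ⊗[A] B := bc (cst A S) z - (X : S[X]) • 1
  let h : (S ⊗[A] SymTen.TS A B d)[X] := Φ (τ.law.toFun' S[X] zX)
  have hχ : h.map (fl S).toRingHom = chi F z := by
    have : (Polynomial.mapAlgHom (fl S)).comp Φ = fl S[X] := by
      apply Algebra.TensorProduct.ext
      · apply AlgHom.ext
        intro p
        show Polynomial.mapAlgHom (fl S) (Φ (p ⊗ₜ 1)) = fl S[X] (p ⊗ₜ 1)
        simp only [Φ, fl, pr_tmul, map_one, mul_one, AlgHom.id_apply]
        rw [← AlgHom.comp_apply, Polynomial.mapAlgHom_comp]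
        show p.map ((fl S).comp inS).toRingHom = p
        rw [hfS]
        exact Polynomial.map_id
      · apply AlgHom.ext
        intro t
        show Polynomial.mapAlgHom (fl S) (Φ (1 ⊗ₜ t)) = fl S[X] (1 ⊗ₜ t)
        simp [Φ, fl, hinT]
    show Polynomial.mapAlgHom (fl S) h = _
    rw [chi, hnm, ← this]
    rfl
  let E : Fin d → ((S ⊗[A] SymTen.TS A B d) ⊗[A] B →ₐ[A] S ⊗[A] (⨂[A] _ : Fin d, B)) := fun j =>
    pr valS (Algebra.TensorProduct.includeRight.comp (σ j))
  let u : Fin d → S ⊗[A] (⨂[A] _ : Fin d, B) := fun j => Algebra.TensorProduct.map (AlgHom.id A S) (σ j) z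
  have hEb : ∀ j (v : S ⊗[A] B), E j (bc inS v) = Algebra.TensorProduct.map (AlgHom.id A S) (σ j) v := by
    intro j v
    induction v using TensorProduct.induction_on with
    | zero => simp
    | tmul s b => simp [E, hinS, hvalS]
    | add a b ha hb => simp [ha, hb]
  have hvalh : h.map valS.toRingHom = ∏ j, (Polynomial.C (u j) - X) := by
    let Ψ : S[X] ⊗[A] (⨂[A] _ : Fin d, B) →ₐ[A] (S ⊗[A] (⨂[A] _ : Fin d, B))[X] := pr
      (Polynomial.mapAlgHom (Algebra.TensorProduct.includeLeft : S →ₐ[A] S ⊗[A] (⨂[A] _ : Fin d, B)))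
      ((cst A (S ⊗[A] (⨂[A] _ : Fin d, B))).comp Algebra.TensorProduct.includeRight)
    have h1 : (Polynomial.mapAlgHom valS).comp Φ =
        Ψ.comp (Algebra.TensorProduct.map (AlgHom.id A S[X]) (SymTen.TS A B d).val) := by
      apply Algebra.TensorProduct.ext
      · apply AlgHom.ext
        intro p
        show Polynomial.mapAlgHom valS (Φ (p ⊗ₜ 1)) = Ψ ((AlgHom.id A S[X] p) ⊗ₜ _)
        simp only [Φ, Ψ, pr_tmul, map_one, mul_one, AlgHom.id_apply]
        rw [← AlgHom.comp_apply, Polynomial.mapAlgHom_comp]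
        congr 2
        ext s
        simp [hvalS, hinS]
      · apply AlgHom.ext
        intro t
        show Polynomial.mapAlgHom valS (Φ (1 ⊗ₜ t)) = Ψ (1 ⊗ₜ _)
        simp [Φ, Ψ, hinT, hvalS]
    show Polynomial.mapAlgHom valS h = _
    rw [show Polynomial.mapAlgHom valS h = _ from DFunLike.congr_fun h1 _, AlgHom.comp_apply, htp,
      map_prod]
    refine Finset.prod_congr rfl fun j _ => ?_
    have h2 : ∀ v : S ⊗[A] B, Ψ (Algebra.TensorProduct.map (AlgHom.id A S[X]) (σ j) (bc (cst A S) v)) =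
        Polynomial.C (Algebra.TensorProduct.map (AlgHom.id A S) (σ j) v) := by
      intro v
      induction v using TensorProduct.induction_on with
      | zero => simp
      | tmul s b => simp [Ψ, ← Polynomial.C_mul]
      | add a b ha hb => simp [ha, hb]
    simp only [zX, map_sub, h2, u]
    congr 1
    rw [← mul_one (X : S[X]), ← smul_eq_mul (X : S[X]) 1]
    simp [Ψ, Algebra.TensorProduct.one_def, TensorProduct.smul_tmul']
    rw [← Algebra.TensorProduct.one_def, Polynomial.C_1]
  have hroot : ∀ j, E j (aeval (bc inS z) h) = 0 := by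
    intro j
    rw [Polynomial.aeval_def]
    refine (Polynomial.hom_eval₂ h (algebraMap (S ⊗[A] SymTen.TS A B d) ((S ⊗[A] SymTen.TS A B d) ⊗[A] B)) (E j).toRingHom (bc inS z)).trans ?_
    have : (E j).toRingHom.comp (algebraMap (S ⊗[A] SymTen.TS A B d) ((S ⊗[A] SymTen.TS A B d) ⊗[A] B)) = valS.toRingHom :=
      RingHom.ext fun r => by
        show E j (r ⊗ₜ 1) = valS r
        simp [E, ← Algebra.TensorProduct.one_def]
    rw [this, Polynomial.eval₂_eq_eval_map, hvalh, Polynomial.eval_prod]
    refine Finset.prod_eq_zero (Finset.mem_univ j) ?_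
    show Polynomial.eval (E j (bc inS z)) _ = 0
    rw [hEb]
    simp [u]
  set y := bc inS x + bc inS w * aeval (bc inS z) h with hy
  have hbx : ∀ v : S ⊗[A] B, bc (fl S) (bc inS v) = v := fun v => by rw [bc_bc, hfS, bc_id]
  have hy' : bc (fl S) y = x + w * aeval z (chi F z) := by
    simp only [hy, map_add, map_mul, hbx]
    congr 2
    rw [← hχ, Polynomial.aeval_def, Polynomial.aeval_def, Polynomial.eval₂_map]
    refine (Polynomial.hom_eval₂ h (algebraMap (S ⊗[A] SymTen.TS A B d) ((S ⊗[A] SymTen.TS A B d) ⊗[A] B)) (bc (fl S)).toRingHom (bc inS z)).trans ?_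
    rw [show (bc (fl S)).toRingHom (bc inS z) = z from hbx z]
    congr 1
  let m : (S ⊗[A] SymTen.TS A B d) ⊗[A] SymTen.TS A B d →ₐ[A] (S ⊗[A] SymTen.TS A B d) :=
    pr (AlgHom.id A (S ⊗[A] SymTen.TS A B d)) inT
  have hm : ∀ v, fl S (fl (S ⊗[A] SymTen.TS A B d) v) = fl S (m v) := by
    intro v
    induction v using TensorProduct.induction_on with
    | zero => simp
    | tmul r t => simp [m, fl, hinT, -AlgHom.commutes]
    | add a b ha hb => simp [ha, hb]
  have hvm : ∀ v, valS (m (τ.law.toFun' (S ⊗[A] SymTen.TS A B d) v)) = ∏ j, E j v := by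
    intro v
    let M : (S ⊗[A] SymTen.TS A B d) ⊗[A] (⨂[A] _ : Fin d, B) →ₐ[A] S ⊗[A] (⨂[A] _ : Fin d, B) :=
      pr valS Algebra.TensorProduct.includeRight
    have h1 : valS.comp m = M.comp (Algebra.TensorProduct.map (AlgHom.id A (S ⊗[A] SymTen.TS A B d)) (SymTen.TS A B d).val) := by
      apply Algebra.TensorProduct.ext
      · apply AlgHom.ext; intro r
        show valS (m (r ⊗ₜ 1)) = M (r ⊗ₜ _)
        simp [m, M, ← Algebra.TensorProduct.one_def]
      · apply AlgHom.ext; intro t
        show valS (m (1 ⊗ₜ t)) = M (1 ⊗ₜ _)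
        simp [m, M, hvalS, hinT]
    rw [show valS (m (τ.law.toFun' (S ⊗[A] SymTen.TS A B d) v)) = _ from DFunLike.congr_fun h1 _, AlgHom.comp_apply, htp]
    refine (algHom_prod (P := (S ⊗[A] SymTen.TS A B d) ⊗[A] (⨂[A] _ : Fin d, B)) (Q := S ⊗[A] (⨂[A] _ : Fin d, B)) M _ _).trans ?_
    refine Finset.prod_congr rfl fun j _ => ?_
    induction v using TensorProduct.induction_on with
    | zero => simp
    | tmul r b => simp [M, E]
    | add a b ha hb => simp [ha, hb]
  have hfin : m (τ.law.toFun' (S ⊗[A] SymTen.TS A B d) y) = m (τ.law.toFun' (S ⊗[A] SymTen.TS A B d) (bc inS x)) := hval <| by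
    rw [hvm, hvm]
    exact Finset.prod_congr rfl fun j _ => by rw [hy, map_add, map_mul, hroot, mul_zero, add_zero]
  conv_rhs => rw [← hbx x]
  rw [← hy', nm_bc, nm_bc, hnm, hnm, hm, hm, hfin]

/-- Cayley–Hamilton: `N (z - X)` evaluated at `z` does not change the norm. -/
theorem ch (z x w : S ⊗[A] B) : nm F S (x + w * aeval z (chi F z)) = nm F S x := by
  let π : MvPolynomial B A →ₐ[A] B := MvPolynomial.aeval (id : B → B)
  let φ : MvPolynomial S A →ₐ[A] S := MvPolynomial.aeval (id : S → S)
  let θ : MvPolynomial S A ⊗[A] MvPolynomial B A →ₐ[A] S ⊗[A] B := Algebra.TensorProduct.map φ π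
  have hθ : Function.Surjective θ :=
    TensorProduct.map_surjective (fun s => ⟨MvPolynomial.X s, MvPolynomial.aeval_X _ s⟩)
      (fun b => ⟨MvPolynomial.X b, MvPolynomial.aeval_X _ b⟩)
  obtain ⟨z', rfl⟩ := hθ z
  obtain ⟨x', rfl⟩ := hθ x
  obtain ⟨w', rfl⟩ := hθ w
  have hnmθ : ∀ v, nm F S (θ v) = φ (nm (F.precomp π) (MvPolynomial S A) v) := by
    intro v
    rw [nm_precomp, ← nm_bc]
    congr 1
    induction v using TensorProduct.induction_on with
    | zero => simp
    | tmul s b => simp [θ]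
    | add a b ha hb => simp [ha, hb]
  have hchi : chi F (θ z') = (chi (F.precomp π) z').map φ.toRingHom := by
    rw [chi_precomp, chi_bc]
    congr 1
    induction z' using TensorProduct.induction_on with
    | zero => simp
    | tmul s b => simp [θ]
    | add a b ha hb => simp [ha, hb]
  have haev : aeval (θ z') (chi F (θ z')) = θ (aeval z' (chi (F.precomp π) z')) := by
    rw [hchi, Polynomial.aeval_def, Polynomial.aeval_def, Polynomial.eval₂_map]
    refine ((Polynomial.hom_eval₂ _ (algebraMap (MvPolynomial S A) _) θ.toRingHom z').trans ?_).symm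
    congr 1
    refine RingHom.ext fun r => ?_
    show θ (r ⊗ₜ 1) = φ r ⊗ₜ 1
    simp [θ]
  rw [haev, ← map_mul, ← map_add, hnmθ, hnmθ,
    ch_free (F.precomp π) (MvPolynomial.basisMonomials B A)]

end Norm

end Groth.Agent.H22Alg.PL
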