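import Mathlib
import Groth.Agent.H22Alg.MulLawCH

/-!
The determinant law of a finitely generated projective module.
-/

universe u

open scoped TensorProduct

namespace Groth.Agent.H22Alg.PL

variable {A : Type u} [CommRing A] {B : Type u} [CommRing B] [Algebra A B]
  {M : Type u} [AddCommGroup M] [Module A M] [Module B M] [IsScalarTower A B M]
  {P : Type u} [AddCommGroup P] [Module A P] (ι : M →ₗ[A] P) (π : P →ₗ[A] M)

/-- The action extended by the identity on a complement. -/
noncomputable def extAct (S : Type u) [CommRing S] [Algebra A S] (x : S ⊗[A] B) : Module.End S (S ⊗[A] P) :=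
  (ι.baseChange S ∘ₗ PolLaw.actEnd M S x ∘ₗ π.baseChange S) + (1 - ι.baseChange S ∘ₗ π.baseChange S)

variable {ι π}

theorem retract_baseChange (h : π ∘ₗ ι = LinearMap.id) (S : Type u) [CommRing S] [Algebra A S]
    (m : S ⊗[A] M) : π.baseChange S (ι.baseChange S m) = m := by
  rw [← LinearMap.comp_apply, ← LinearMap.baseChange_comp, h, LinearMap.baseChange_id]
  rfl

theorem extAct_one (S : Type u) [CommRing S] [Algebra A S] : extAct ι π S (1 : S ⊗[A] B) = 1 := by
  refine LinearMap.ext fun z => ?_
  simp [extAct]

theorem extAct_mul (h : π ∘ₗ ι = LinearMap.id) (S : Type u) [CommRing S] [Algebra A S] (x y : S ⊗[A] B) :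
    extAct ι π S (x * y) = extAct ι π S x * extAct ι π S y := by
  refine LinearMap.ext fun z => ?_
  simp only [extAct, map_mul, LinearMap.add_apply, Module.End.mul_apply, LinearMap.comp_apply,
    LinearMap.sub_apply, Module.End.one_apply, map_add, map_sub, retract_baseChange h]
  abel

theorem rTensor_baseChange {N N' : Type u} [AddCommGroup N] [Module A N] [AddCommGroup N'] [Module A N']
    (f : N →ₗ[A] N') {S S' : Type u} [CommRing S] [Algebra A S] [CommRing S'] [Algebra A S']
    (φ : S →ₐ[A] S') (z : S ⊗[A] N) :
    φ.toLinearMap.rTensor N' (f.baseChange S z) = f.baseChange S' (φ.toLinearMap.rTensor N z) := by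
  induction z using TensorProduct.induction_on with
  | zero => simp
  | tmul s n => simp
  | add a b ha hb => simp only [map_add, ha, hb]

theorem rTensor_extAct {S S' : Type u} [CommRing S] [Algebra A S] [CommRing S'] [Algebra A S']
    (φ : S →ₐ[A] S') (x : S ⊗[A] B) (z : S ⊗[A] P) :
    φ.toLinearMap.rTensor P (extAct ι π S x z) = extAct ι π S' (bc φ x) (φ.toLinearMap.rTensor P z) := by
  simp only [extAct, LinearMap.add_apply, LinearMap.comp_apply, LinearMap.sub_apply, Module.End.one_apply,
    map_add, map_sub, rTensor_baseChange, PolLaw.rTensor_actEnd]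
  rfl

variable [Module.Free A P] [Module.Finite A P]

theorem det_extAct_map {S S' : Type u} [CommRing S] [Algebra A S] [CommRing S'] [Algebra A S']
    (φ : S →ₐ[A] S') (x : S ⊗[A] B) :
    LinearMap.det (extAct ι π S' (bc φ x)) = φ (LinearMap.det (extAct ι π S x)) := by
  classical
  let bP := Module.Free.chooseBasis A P
  rw [← LinearMap.det_toMatrix (Algebra.TensorProduct.basis S' bP),
    ← LinearMap.det_toMatrix (Algebra.TensorProduct.basis S bP), AlgHom.map_det]
  congr 1
  ext i j
  simp only [AlgHom.mapMatrix_apply, Matrix.map_apply, LinearMap.toMatrix_apply,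
    Algebra.TensorProduct.basis_apply]
  rw [← PolLaw.basis_repr_rTensor P φ, rTensor_extAct φ, LinearMap.rTensor_tmul, AlgHom.toLinearMap_apply,
    map_one]

theorem det_extAct_local (h : π ∘ₗ ι = LinearMap.id) (S : Type u) [CommRing S] [IsLocalRing S] [Algebra A S]
    [Module.Finite A M] [Module.Projective A M] (x : S ⊗[A] B) :
    LinearMap.det (extAct ι π S x) = PolLaw.detAct M S x := by
  set i := ι.baseChange S
  set p := π.baseChange S
  have hpi : ∀ m, p (i m) = m := retract_baseChange h S
  let K := LinearMap.ker p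
  let e : (S ⊗[A] P) ≃ₗ[S] (S ⊗[A] M) × K :=
    { toFun := fun z => (p z, ⟨z - i (p z), by simp [K, hpi]⟩)
      map_add' := fun a b => by
        refine Prod.ext (map_add p a b) (Subtype.ext ?_)
        show a + b - i (p (a + b)) = (a - i (p a)) + (b - i (p b))
        rw [map_add, map_add]
        abel
      map_smul' := fun c a => by
        refine Prod.ext (map_smul p c a) (Subtype.ext ?_)
        show c • a - i (p (c • a)) = c • (a - i (p a))
        rw [map_smul, map_smul, smul_sub]
      invFun := fun q => i q.1 + (q.2 : S ⊗[A] P)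
      left_inv := fun z => by
        show i (p z) + (z - i (p z)) = z
        abel
      right_inv := fun q => by
        have hq : p (q.2 : S ⊗[A] P) = 0 := q.2.2
        refine Prod.ext ?_ (Subtype.ext ?_)
        · show p (i q.1 + (q.2 : S ⊗[A] P)) = q.1
          rw [map_add, hpi, hq, add_zero]
        · show i q.1 + (q.2 : S ⊗[A] P) - i (p (i q.1 + (q.2 : S ⊗[A] P))) = q.2
          rw [map_add, hpi, hq, add_zero]
          abel }
  have : Module.Free S (S ⊗[A] M) := Module.free_of_flat_of_isLocalRing
  have : Module.Finite S ((S ⊗[A] M) × K) := Module.Finite.equiv e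
  have : Module.Finite S K := Module.Finite.of_surjective (LinearMap.snd S (S ⊗[A] M) K) Prod.snd_surjective
  have : Module.Projective S K := Module.Projective.of_split (e.symm.toLinearMap ∘ₗ LinearMap.inr S (S ⊗[A] M) K)
    ((LinearMap.snd S (S ⊗[A] M) K) ∘ₗ e.toLinearMap) (LinearMap.ext fun q => by simp)
  have : Module.Flat S K := Module.Flat.of_projective
  have : Module.Free S K := Module.free_of_flat_of_isLocalRing (R := S) (P := K)
  have key : (e.toLinearMap ∘ₗ extAct ι π S x) ∘ₗ e.symm.toLinearMap =
      (PolLaw.actEnd M S x).prodMap LinearMap.id := by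
    refine LinearMap.ext fun q => ?_
    have hq : p (q.2 : S ⊗[A] P) = 0 := q.2.2
    show e (extAct ι π S x (i q.1 + (q.2 : S ⊗[A] P))) = _
    rw [show extAct ι π S x (i q.1 + (q.2 : S ⊗[A] P)) = i (PolLaw.actEnd M S x q.1) + (q.2 : S ⊗[A] P) by
      show i (PolLaw.actEnd M S x (p _)) + ((i q.1 + (q.2 : S ⊗[A] P)) - i (p _)) = _
      rw [map_add p, hpi, hq, add_zero]
      abel]
    exact e.apply_symm_apply (PolLaw.actEnd M S x q.1, q.2)
  rw [← LinearMap.det_conj (N := (S ⊗[A] M) × K) (extAct ι π S x) e, ← LinearMap.comp_assoc, key, LinearMap.det_prodMap, LinearMap.det_id, mul_one]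
  rfl

/-- Two elements agreeing in all localisations at maximal ideals agree. -/
theorem eq_of_local {S : Type u} [CommRing S] [Algebra A S] {a b : S}
    (h : ∀ (m : Ideal S) [m.IsMaximal],
      IsScalarTower.toAlgHom A S (Localization.AtPrime m) a = IsScalarTower.toAlgHom A S (Localization.AtPrime m) b) :
    a = b := by
  refine sub_eq_zero.mp (eq_zero_of_localization _ fun m hm => ?_)
  rw [map_sub, sub_eq_zero]
  exact h m

variable (B M) in
/-- A multiplicative law computing determinants over local rings exists and is unique. -/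
theorem existsUnique_det [Module.Finite A M] [Module.Projective A M] :
    ∃! N : B →ₚₗ[A] A, PolLaw.IsMult N ∧ ∀ (S : Type u) [CommRing S] [IsLocalRing S] [Algebra A S] (x : S ⊗[A] B),
      N.toFun' S x = PolLaw.detAct M S x ⊗ₜ[A] (1 : A) := by
  classical
  obtain ⟨n, π, hπ⟩ := Module.Finite.exists_fin' A M
  obtain ⟨ι, hι⟩ := Module.projective_lifting_property π LinearMap.id hπ
  let τ : ∀ (S : Type u) [CommSemiring S] [Algebra A S], S ⊗[A] B →ₐ[A] (A ⊗[A] S) ⊗[A] B := fun S _ _ =>
    bc (Algebra.TensorProduct.lid A S).symm.toAlgHom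
  let val : ∀ (S : Type u) [CommSemiring S] [Algebra A S], S ⊗[A] B → S ⊗[A] A := fun S _ _ x =>
    Algebra.TensorProduct.lid A S (LinearMap.det (extAct ι π (A ⊗[A] S) (τ S x))) ⊗ₜ[A] (1 : A)
  have hval : ∀ (S : Type u) [CommRing S] [Algebra A S] (x : S ⊗[A] B),
      val S x = LinearMap.det (extAct ι π S x) ⊗ₜ[A] (1 : A) := by
    intro S _ _ x
    have h := det_extAct_map (ι := ι) (π := π) (Algebra.TensorProduct.lid A S).toAlgHom (τ S x)
    simp only [τ, bc_bc, AlgEquiv.comp_symm, bc_id] at h
    simp only [val, τ, h]
    rfl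
  let N : B →ₚₗ[A] A :=
    { toFun' := val
      isCompat' := by
        intro S _ _ S' _ _ φ
        funext x
        let ψ : A ⊗[A] S →ₐ[A] A ⊗[A] S' := Algebra.TensorProduct.map (AlgHom.id A A) φ
        have hψ : bc ψ (τ S x) = τ S' (φ.toLinearMap.rTensor B x) := by
          simp only [τ, rTensor_eq_map, bc_bc]
          congr 2
        have hl : ∀ r, Algebra.TensorProduct.lid A S' (ψ r) = φ (Algebra.TensorProduct.lid A S r) := by
          intro r
          induction r using TensorProduct.induction_on with
          | zero => simp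
          | tmul a s => simp [ψ]
          | add a b ha hb => simp only [map_add, ha, hb]
        show φ.toLinearMap.rTensor A (val S x) = val S' (φ.toLinearMap.rTensor B x)
        simp only [val]
        rw [LinearMap.rTensor_tmul, ← hψ, det_extAct_map, hl, AlgHom.toLinearMap_apply] }
  refine ⟨N, ⟨fun S _ _ => ?_, fun S _ _ _ x => ?_⟩, fun N' hN' => ?_⟩
  · refine ⟨?_, fun x y => ?_⟩
    · show val S 1 = 1
      have h1 : τ S 1 = 1 := by
        first
          | exact map_one (τ S)
          | simp [τ, Algebra.TensorProduct.one_def]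
      simp only [val, h1]
      rw [extAct_one, map_one]
      first
        | (rw [map_one]; rfl)
        | simp [Algebra.TensorProduct.one_def]
    · show val S (x * y) = val S x * val S y
      simp only [val, τ]
      rw [map_mul, extAct_mul hι, map_mul, map_mul, Algebra.TensorProduct.tmul_mul_tmul, one_mul]
  · show val S x = _
    rw [hval, det_extAct_local hι]
  · apply PolynomialLaw.ext
    funext S i₁ i₂ x
    letI : CommRing S := { Algebra.semiringToRing A, i₁ with }
    show N'.toFun' S x = val S x
    rw [hval]
    apply (Algebra.TensorProduct.rid A S S).injective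
    refine eq_of_local (A := A) fun m _ => ?_
    set φ := IsScalarTower.toAlgHom A S (Localization.AtPrime m)
    have h := congrFun (N'.isCompat' φ) x
    simp only [Function.comp_apply] at h
    rw [hN'.2 _ (φ.toLinearMap.rTensor B x), ← det_extAct_local hι] at h
    simp only [rTensor_eq_map] at h
    rw [det_extAct_map, ← rTensor_eq_map] at h
    generalize N'.toFun' S x = y at h ⊢
    obtain ⟨s, rfl⟩ : ∃ s : S, y = s ⊗ₜ[A] (1 : A) :=
      ⟨_, ((Algebra.TensorProduct.rid A S S).symm_apply_apply y).symm⟩
    rw [LinearMap.rTensor_tmul, AlgHom.toLinearMap_apply] at h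
    simpa using congrArg (Algebra.TensorProduct.rid A (Localization.AtPrime m) (Localization.AtPrime m)) h

end Groth.Agent.H22Alg.PL
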