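import Mathlib
import Groth.Agent.H22Alg.DetDeg
import Groth.Agent.H11Ample.Extend
import Groth.Agent.H11Ample.Ample

/-!
# Sections of a twisted bundle framing it at the associated points
-/

set_option autoImplicit false
set_option linter.style.haveILetI false

noncomputable section

universe u

open CategoryTheory CategoryTheory.Limits AlgebraicGeometry TopologicalSpace Opposite

namespace Groth.Agent.H22Alg.DetSections

open Groth.Agent.H11Ample Groth.Agent.H11Tilde

variable {X : Scheme.{u}}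

/-- Finitely many closed points testing regularity. -/
theorem exists_test_points [IsNoetherian X] :
    ∃ T : Set X, T.Finite ∧ (∀ t ∈ T, IsClosed ({t} : Set X)) ∧
      ∀ (x : X) (P : Ideal (X.presheaf.stalk x)) (hP : P ∈ associatedPrimes (X.presheaf.stalk x) (X.presheaf.stalk x)),
        ∃ t ∈ T, X.fromSpecStalk x ⟨P, hP.1⟩ ⤳ t := by
  classical
  let Ξ : Set X := {ξ | ∃ (x : X) (P : Ideal (X.presheaf.stalk x))
    (hP : P ∈ associatedPrimes (X.presheaf.stalk x) (X.presheaf.stalk x)), X.fromSpecStalk x ⟨P, hP.1⟩ = ξ}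
  obtain ⟨S, hS⟩ := CompactSpace.elim_nhds_subcover
    (fun x : X => ((exists_isAffineOpen_mem_and_subset (x := x) (U := (⊤ : X.Opens)) trivial).choose : Set X))
    fun x => IsOpen.mem_nhds (Opens.isOpen _)
      (exists_isAffineOpen_mem_and_subset (x := x) (U := (⊤ : X.Opens)) trivial).choose_spec.2.1
  have hΞ : Ξ.Finite := by
    let U : X → X.Opens := fun x => (exists_isAffineOpen_mem_and_subset (x := x) (U := (⊤ : X.Opens)) trivial).choose
    have hU : ∀ x, IsAffineOpen (U x) :=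
      fun x => (exists_isAffineOpen_mem_and_subset (x := x) (U := (⊤ : X.Opens)) trivial).choose_spec.1
    refine Set.Finite.subset (S.finite_toSet.biUnion (t := fun a =>
      (fun q : PrimeSpectrum Γ(X, U a) => (hU a).fromSpec q) ''
        {q | q.asIdeal ∈ associatedPrimes Γ(X, U a) Γ(X, U a)}) fun a _ => Set.Finite.image _ ?_) ?_
    · haveI : IsNoetherianRing Γ(X, U a) := IsLocallyNoetherian.component_noetherian ⟨U a, hU a⟩
      exact (associatedPrimes.finite Γ(X, U a) Γ(X, U a)).preimage fun q _ q' _ h => PrimeSpectrum.ext h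
    · rintro _ ⟨x, P, hP, rfl⟩
      obtain ⟨a, ha, hxa⟩ := Set.mem_iUnion₂.1 (hS.ge (Set.mem_univ x))
      refine Set.mem_biUnion (Finset.mem_coe.2 ha) ?_
      haveI : IsNoetherianRing Γ(X, U a) := IsLocallyNoetherian.component_noetherian ⟨U a, hU a⟩
      letI := TopCat.Presheaf.algebra_section_stalk X.presheaf (⟨x, hxa⟩ : U a)
      haveI := (hU a).isLocalization_stalk ⟨x, hxa⟩
      refine ⟨PrimeSpectrum.comap (algebraMap Γ(X, U a) (X.presheaf.stalk x)) ⟨P, hP.1⟩, ?_, ?_⟩
      · exact Module.associatedPrimes.comap_mem_associatedPrimes_of_mem_associatedPrimes_of_isLocalizedModule_of_fg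
          ((hU a).primeIdealOf ⟨x, hxa⟩).asIdeal.primeCompl (Algebra.linearMap Γ(X, U a) (X.presheaf.stalk x)) P hP
          ((isNoetherianRing_iff_ideal_fg _).1 inferInstance _)
      · rw [← (hU a).fromSpecStalk_eq_fromSpecStalk hxa]
        rfl
  have hcl : ∀ ξ : X, ∃ t : X, IsClosed ({t} : Set X) ∧ ξ ⤳ t := fun ξ => by
    obtain ⟨t, ht, htc⟩ := IsClosed.exists_closed_singleton (isClosed_closure (s := ({ξ} : Set X)))
      ⟨ξ, subset_closure rfl⟩
    exact ⟨t, htc, specializes_iff_mem_closure.2 ht⟩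
  choose g hg hg' using hcl
  refine ⟨g '' Ξ, hΞ.image g, ?_, fun x P hP => ⟨_, ⟨_, ⟨x, P, hP, rfl⟩, rfl⟩, hg' _⟩⟩
  rintro _ ⟨ξ, -, rfl⟩
  exact hg ξ

/-- Germs away from all associated primes are regular. -/
theorem mem_nonZeroDivisors [IsLocallyNoetherian X] {T : Set X}
    (hT : ∀ (x : X) (P : Ideal (X.presheaf.stalk x))
      (hP : P ∈ associatedPrimes (X.presheaf.stalk x) (X.presheaf.stalk x)),
        ∃ t ∈ T, X.fromSpecStalk x ⟨P, hP.1⟩ ⤳ t)
    {G : X.Opens} (hTG : T ⊆ (G : Set X)) {U : X.Opens} {x : X} (hx : x ∈ U) (f : Γ(X, U))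
    (hfG : G ⊓ U ≤ X.basicOpen f) :
    X.presheaf.germ U x hx f ∈ nonZeroDivisors (X.presheaf.stalk x) := by
  by_contra hf
  have h1 : X.presheaf.germ U x hx f ∈ (nonZeroDivisors (X.presheaf.stalk x) : Set (X.presheaf.stalk x))ᶜ := hf
  rw [← biUnion_associatedPrimes_eq_compl_nonZeroDivisors (X.presheaf.stalk x)] at h1
  obtain ⟨P, hP, hfP⟩ := Set.mem_iUnion₂.1 h1
  obtain ⟨t, htT, hspec⟩ := hT x P hP
  have hξx : X.fromSpecStalk x ⟨P, hP.1⟩ ⤳ x := by
    have : X.fromSpecStalk x ⟨P, hP.1⟩ ∈ Set.range (X.fromSpecStalk x) := ⟨_, rfl⟩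
    rwa [Scheme.range_fromSpecStalk] at this
  have hb : (⟨P, hP.1⟩ : PrimeSpectrum (X.presheaf.stalk x)) ∈ X.fromSpecStalk x ⁻¹ᵁ X.basicOpen f :=
    hfG ⟨hspec.mem_open G.2 (hTG htT), hξx.mem_open U.2 hx⟩
  rw [Scheme.preimage_basicOpen, Scheme.fromSpecStalk_app hx, CommRingCat.comp_apply, CommRingCat.comp_apply,
    Scheme.basicOpen_res, basicOpen_eq_of_affine] at hb
  exact hb.2 hfP

/-- Sections over an affine open framing a bundle at finitely many of its closed points. -/
theorem exists_sections [IsLocallyNoetherian X] {E : X.Modules} {n : ℕ} (hE : FlatMod.IsFinLocFreeOfRank n E)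
    {T : Set X} (hTf : T.Finite) (hTc : ∀ t ∈ T, IsClosed ({t} : Set X)) {U : X.Opens} (hU : IsAffineOpen U)
    (hTU : T ⊆ (U : Set X)) :
    ∃ s : Fin n → Γ(E, U), ∀ t (ht : t ∈ T), Submodule.span (X.presheaf.stalk t)
      (Set.range fun i => E.presheaf.germ U t (hTU ht) (s i)) = ⊤ := by
  classical
  have hEf : FlatMod.IsFinLocFree E := fun y => let ⟨V, hV⟩ := hE y; ⟨V, n, hV⟩
  have hq := H8Props.FinLocFree.isQCoh_of_isFinLocFree _ hEf
  haveI := hTf.fintype
  let p : T → Ideal Γ(X, U) := fun t => (hU.primeIdealOf ⟨t.1, hTU t.2⟩).asIdeal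
  have hpm : ∀ t, (p t).IsMaximal := fun t => hU.primeIdealOf_isMaximal_of_isClosed _ (hTc t.1 t.2)
  have hp : Function.Injective p := fun t t' h => by
    have h' := congrArg hU.fromSpec (PrimeSpectrum.ext h :
      hU.primeIdealOf ⟨t.1, hTU t.2⟩ = hU.primeIdealOf ⟨t'.1, hTU t'.2⟩)
    rw [hU.fromSpec_primeIdealOf, hU.fromSpec_primeIdealOf] at h'
    exact Subtype.ext h'
  have hf : ∀ t : T, ∃ f : Γ(X, U), f ∉ p t ∧ ∀ t' : T, t' ≠ t → f ∈ p t' := fun t => by
    have h : ∀ t' : T, t' ≠ t → ∃ a ∈ p t', a ∉ p t := fun t' hne => by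
      by_contra hc
      push Not at hc
      exact hne (hp ((hpm t').eq_of_le (hpm t).ne_top hc))
    choose a ha ha' using h
    refine ⟨∏ t' : T, if hne : t' ≠ t then a t' hne else 1, fun hmem => ?_, fun t' hne => ?_⟩
    · obtain ⟨t', -, ht'⟩ := (hpm t).isPrime.prod_mem_iff.1 hmem
      split_ifs at ht' with hne
      · exact ha' _ hne ht'
      · exact (hpm t).ne_top ((Ideal.eq_top_iff_one _).2 ht')
    · refine Ideal.prod_mem (p t') (Finset.mem_univ t') ?_
      rw [dif_pos hne]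
      exact ha _ hne
  choose f hf hf' using hf
  have hv : ∀ t : T, ∃ v : Fin n → Γ(E, U), Submodule.span (X.presheaf.stalk t.1)
      (Set.range fun i => E.presheaf.germ U t.1 (hTU t.2) (v i)) = ⊤ := fun t => by
    obtain ⟨hfree, hfin, hr⟩ := H25Par.finrank_stalk hE t.1
    haveI := hfree
    haveI := hfin
    let b := Module.finBasisOfFinrankEq (X.presheaf.stalk t.1) (E.presheaf.stalk t.1) hr
    let x : U := ⟨t.1, hTU t.2⟩
    letI := TopCat.Presheaf.algebra_section_stalk X.presheaf x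
    letI := Module.compHom (E.presheaf.stalk t.1) (algebraMap Γ(X, U) (X.presheaf.stalk t.1))
    haveI : IsScalarTower Γ(X, U) (X.presheaf.stalk t.1) (E.presheaf.stalk t.1) :=
      .of_algebraMap_smul fun _ _ => rfl
    haveI : IsLocalization (hU.primeIdealOf x).asIdeal.primeCompl (X.presheaf.stalk t.1) := hU.isLocalization_stalk x
    haveI : IsLocalizedModule (hU.primeIdealOf x).asIdeal.primeCompl (H29Fitt.germLin E x) :=
      H29Fitt.isLocalizedModule_germLin E hq hU x
    choose vc hvc using fun i => IsLocalizedModule.surj (hU.primeIdealOf x).asIdeal.primeCompl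
      (H29Fitt.germLin E x) (b i)
    refine ⟨fun i => (vc i).1, ?_⟩
    rw [eq_top_iff, ← b.span_eq, Submodule.span_le]
    rintro _ ⟨i, rfl⟩
    obtain ⟨w, hw⟩ := IsLocalization.map_units (X.presheaf.stalk t.1) (vc i).2
    have h1 : (↑w : X.presheaf.stalk t.1) • b i = E.presheaf.germ U t.1 (hTU t.2) (vc i).1 := by
      rw [hw, algebraMap_smul]
      exact hvc i
    have h2 : (↑w⁻¹ : X.presheaf.stalk t.1) • E.presheaf.germ U t.1 (hTU t.2) (vc i).1 = b i := by
      rw [← h1, smul_smul, Units.inv_mul, one_smul]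
    rw [← h2]
    exact Submodule.smul_mem _ _ (Submodule.subset_span ⟨i, rfl⟩)
  choose v hv using hv
  refine ⟨fun i => ∑ t : T, f t • v t i, fun t ht => ?_⟩
  let t0 : T := ⟨t, ht⟩
  obtain ⟨hfree, hfin, -⟩ := H25Par.finrank_stalk hE t
  haveI := hfin
  have hunit : IsUnit (X.presheaf.germ U t (hTU ht) (f t0)) := by
    letI := TopCat.Presheaf.algebra_section_stalk X.presheaf (⟨t, hTU ht⟩ : U)
    haveI := hU.isLocalization_stalk ⟨t, hTU ht⟩
    exact IsLocalization.map_units (X.presheaf.stalk t) (⟨f t0, hf t0⟩ : (p t0).primeCompl)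
  have hmax : ∀ t' : T, t' ≠ t0 → X.presheaf.germ U t (hTU ht) (f t') ∈ IsLocalRing.maximalIdeal _ := fun t' hne => by
    letI := TopCat.Presheaf.algebra_section_stalk X.presheaf (⟨t, hTU ht⟩ : U)
    haveI := hU.isLocalization_stalk ⟨t, hTU ht⟩
    exact (IsLocalization.AtPrime.to_map_mem_maximal_iff (X.presheaf.stalk t)
      (hU.primeIdealOf ⟨t, hTU ht⟩).asIdeal (f t')).2 (hf' t' t0 hne.symm)
  let S := Submodule.span (X.presheaf.stalk t) (Set.range fun i => E.presheaf.germ U t (hTU ht) (∑ t' : T, f t' • v t' i))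
  refine eq_top_iff.2 (Submodule.le_of_le_smul_of_le_jacobson_bot (I := IsLocalRing.maximalIdeal (X.presheaf.stalk t))
    Module.Finite.fg_top (IsLocalRing.maximalIdeal_le_jacobson (⊥ : Ideal (X.presheaf.stalk t))) ?_)
  refine le_trans (hv t0).ge (Submodule.span_le.2 ?_)
  rintro _ ⟨i, rfl⟩
  obtain ⟨w, hw⟩ := hunit
  have h1 : (↑w : X.presheaf.stalk t) • E.presheaf.germ U t (hTU ht) (v t0 i) =
      E.presheaf.germ U t (hTU ht) (∑ t' : T, f t' • v t' i) -
        ∑ t' ∈ Finset.univ.erase t0, X.presheaf.germ U t (hTU ht) (f t') • E.presheaf.germ U t (hTU ht) (v t' i) := by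
    rw [map_sum, ← Finset.add_sum_erase _ _ (Finset.mem_univ t0)]
    simp only [H06Mod.germ_smul, hw]
    rw [add_sub_cancel_right]
  have h2 : (↑w : X.presheaf.stalk t) • E.presheaf.germ U t (hTU ht) (v t0 i) ∈
      S ⊔ IsLocalRing.maximalIdeal (X.presheaf.stalk t) • ⊤ := by
    rw [h1]
    exact sub_mem (Submodule.mem_sup_left (Submodule.subset_span ⟨i, rfl⟩)) (Submodule.mem_sup_right
      (sum_mem fun t' ht' => Submodule.smul_mem_smul (hmax t' (Finset.ne_of_mem_erase ht')) trivial))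
  exact (Submodule.smul_mem_iff_of_isUnit _ w.isUnit).1 h2

theorem rank_tensor [IsLocallyNoetherian X] {E M : X.Modules} {n : ℕ} (hE : FlatMod.IsFinLocFreeOfRank n E) (hM : PicF.IsInvertible M) :
    FlatMod.IsFinLocFreeOfRank n (CohB1.tensorMod E M) := by
  have hT : FlatMod.IsFinLocFree (CohB1.tensorMod E M) := H16Derived.KFlat.Stalk.isFinLocFree_tensor
    (fun y => let ⟨U, hU⟩ := hE y; ⟨U, n, hU⟩) (H28Pinch.isFinLocFree_of_isInvertible hM)
  intro x
  obtain ⟨U, m, hxU, ⟨e⟩⟩ := hT x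
  obtain rfl : m = n := by
    obtain ⟨V, hV, hxV, hVU⟩ := exists_isAffineOpen_mem_and_subset (x := x) (U := U) hxU
    obtain ⟨b⟩ := H8Props.FinLocFree.exists_basis_of_chart _ e hVU
    obtain ⟨bx, -⟩ := DetDeg.exists_stalkBasis (H8Props.FinLocFree.isQCoh_of_isFinLocFree _ hT) hV b hxV
    obtain ⟨hf, hfin, hr⟩ := H25Par.finrank_stalk hE x
    obtain ⟨hf', hfin', hr'⟩ := H25Par.finrank_stalk (H29RR.rank_one_of_isInvertible hM) x
    haveI := hf; haveI := hfin; haveI := hf'; haveI := hfin'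
    haveI : Nontrivial (X.presheaf.stalk x) := inferInstance
    have h := Module.finrank_eq_card_basis bx
    rw [Fintype.card_fin, show Module.finrank (X.presheaf.stalk x) ((CohB1.tensorMod E M).presheaf.stalk x) = _ from
      (H16Derived.KFlat.Stalk.stalkEquiv E M x).finrank_eq.symm, Module.finrank_tensorProduct, hr, hr', mul_one] at h
    exact h.symm
  exact ⟨U, hxU, ⟨e⟩⟩

/-- Some twist of a bundle has sections whose determinant is regular everywhere. -/
theorem exists_regular_frame [IsNoetherian X] [X.IsSeparated] {A : X.Modules} (hA : CohB1.IsAmple A)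
    {E : X.Modules} {n : ℕ} (hE : FlatMod.IsFinLocFreeOfRank n E) :
    ∃ (m : ℕ) (σ : Fin n → Γ(CohB1.tensorMod E (CohB1.tensorPow A m), ⊤)),
      FlatMod.IsFinLocFreeOfRank n (CohB1.tensorMod E (CohB1.tensorPow A m)) ∧
      ∀ x, ∃ c : DetDeg.Chart σ x, c.detGerm ∈ nonZeroDivisors (X.presheaf.stalk x) := by
  classical
  have hEf : FlatMod.IsFinLocFree E := fun y => let ⟨V, hV⟩ := hE y; ⟨V, n, hV⟩
  have hq := H8Props.FinLocFree.isQCoh_of_isFinLocFree _ hEf
  have hAi := isInvertible_of_isAmple hA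
  obtain ⟨T, hTf, hTc, hT⟩ := exists_test_points (X := X)
  obtain ⟨k, g, hk, hTg, -, hgaff⟩ := exists_affine_gen_nhd_finite hA hTf (U := ⊤) (Set.subset_univ T)
  obtain ⟨s, hs⟩ := exists_sections hE hTf hTc hgaff hTg
  choose N hN using fun i : Fin n => exists_extend hAi hq k 0 g (tm (s i) (H11Ample.one _))
  let N₀ := Finset.univ.sup N
  choose σ hσ using fun i => hN i N₀ (Finset.le_sup (Finset.mem_univ i))
  let E' := CohB1.tensorMod E (CohB1.tensorPow A (0 + N₀ * k))
  have hrank : FlatMod.IsFinLocFreeOfRank n E' := rank_tensor hE (isInvertible_tensorPow hAi _)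
  have hE'f : FlatMod.IsFinLocFree E' := fun y => let ⟨V, hV⟩ := hrank y; ⟨V, n, hV⟩
  have hE'q := H8Props.FinLocFree.isQCoh_of_isFinLocFree _ hE'f
  refine ⟨0 + N₀ * k, σ, hrank, fun x => ?_⟩
  have hTG : T ⊆ (gen (ExtPowSheaf.sheaf n E') (DetDeg.detSec σ) : Set X) := fun t ht => by
    obtain ⟨c⟩ := DetDeg.nonempty_chart hrank σ t
    refine (DetDeg.gen_detSec_inter hE'q c).2 ?_
    obtain ⟨V, e, htV, he⟩ := exists_gen hAi t
    let W := V ⊓ gen (CohB1.tensorPow A k) g
    have htW : t ∈ W := ⟨htV, hTg ht⟩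
    have heW := he.res (inf_le_left : W ≤ V)
    obtain ⟨cg, hcg⟩ := exists_coeff (isGen_spow heW k)
      ((CohB1.tensorPow A k).presheaf.map (homOfLE (le_top : W ≤ ⊤)).op g)
    have hcu : IsUnit (X.presheaf.germ W t htW cg) :=
      (X.mem_basicOpen cg t htW).1 ((gen_inf_eq_basicOpen (isGen_spow heW k) g cg hcg).le ⟨hTg ht, htW⟩)
    have hgerm : ∀ i, E'.presheaf.germ ⊤ t trivial (σ i) =
        (X.presheaf.germ W t htW cg) ^ N₀ • H16Derived.KFlat.Stalk.pair E (CohB1.tensorPow A (0 + N₀ * k)) t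
          (E.presheaf.germ (gen (CohB1.tensorPow A k) g) t (hTg ht) (s i))
          ((CohB1.tensorPow A (0 + N₀ * k)).presheaf.germ W t htW
            (spow (A.presheaf.map (homOfLE (inf_le_left : W ≤ V)).op e) (0 + N₀ * k))) := fun i => by
      have h := congrArg (E'.presheaf.germ W t htW) (hσ i W inf_le_right _
        (E.presheaf.map (homOfLE (inf_le_right : W ≤ _)).op (s i)) cg heW
        (by
          rw [tm_res]
          exact congrArg (tm _) (one_res _)) hcg)
      rw [TopCat.Presheaf.germ_res_apply, tm_smul_left, H06Mod.germ_smul, map_pow] at h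
      refine h.trans (congrArg _ ?_)
      rw [← TopCat.Presheaf.germ_res_apply E.presheaf (homOfLE (inf_le_right : W ≤ _)) t htW (s i),
        H16Derived.KFlat.Stalk.pair_germ]
      rfl
    have hspan : Submodule.span (X.presheaf.stalk t) (Set.range fun i => E'.presheaf.germ ⊤ t trivial (σ i)) = ⊤ := by
      have hb := bijective_tm_stalk (F := E) (isGen_spow heW (0 + N₀ * k)) htW
      let L : E.presheaf.stalk t →ₗ[X.presheaf.stalk t] E'.presheaf.stalk t :=
        (H16Derived.KFlat.Stalk.pairLin E (CohB1.tensorPow A (0 + N₀ * k)) t).flip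
        ((CohB1.tensorPow A (0 + N₀ * k)).presheaf.germ W t htW
          (spow (A.presheaf.map (homOfLE (inf_le_left : W ≤ V)).op e) (0 + N₀ * k)))
      refine eq_top_iff.2 (le_trans (LinearMap.range_eq_top.2 (show Function.Surjective L from hb.2)).ge ?_)
      rw [LinearMap.range_eq_map, ← hs t ht, Submodule.map_span]
      refine Submodule.span_le.2 ?_
      rintro _ ⟨_, ⟨i, rfl⟩, rfl⟩
      refine (Submodule.smul_mem_iff_of_isUnit _ (hcu.pow N₀)).1 ?_
      exact Submodule.subset_span ⟨i, hgerm i⟩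
    obtain ⟨bx, e', he', -, hφ⟩ := DetDeg.frame_stalk hE'q σ c.hU c.b c.M c.hM c.hx
    rw [← c.det_map, ← Matrix.isUnit_iff_isUnit_det, ← Matrix.mulVec_surjective_iff_isUnit]
    intro y
    obtain ⟨e'', -, hφ''⟩ := DetDeg.exists_stalk_frame σ t
    obtain ⟨a, ha⟩ := (Submodule.mem_span_range_iff_exists_fun _).1
      (show bx.equivFun.symm y ∈ Submodule.span (X.presheaf.stalk t)
        (Set.range fun i => E'.presheaf.germ ⊤ t trivial (σ i)) by rw [hspan]; trivial)
    rw [← hφ'' a] at ha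
    obtain ⟨a', ha'⟩ := he' (e'' a)
    rw [← ha', hφ] at ha
    exact ⟨a', bx.equivFun.symm.injective ha⟩
  obtain ⟨c⟩ := DetDeg.nonempty_chart hrank σ x
  obtain ⟨d, hd, hgen, hval⟩ := DetDeg.exists_detChart hE'q c
  refine ⟨c, ?_⟩
  rw [← hd]
  refine mem_nonZeroDivisors hT hTG d.hx _ ?_
  rw [Matrix.det_fin_one]
  exact (gen_inf_eq_basicOpen hgen (DetDeg.detSec σ) _ hval).le

end Groth.Agent.H22Alg.DetSections
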