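import Mathlib
import Groth.Prelude.Def_CAlg
import Groth.Agent.H4Depth.DepthLemmas

/-! One-dimensional Noetherian local rings and localization at the minimal primes. -/

set_option autoImplicit false
universe u

namespace Groth.Agent.H22Alg.DimOneLoc

variable {A : Type u} [CommRing A] [IsLocalRing A] [IsNoetherianRing A]

/-- The product of the localizations at the minimal primes. -/
abbrev MinPi (A : Type u) [CommRing A] : Type u :=
  ∀ p : {p : PrimeSpectrum A // p.asIdeal ∈ minimalPrimes A}, Localization.AtPrime p.1.asIdeal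

variable (hdim : ringKrullDim A = 1)
include hdim

theorem maximal_or_minimal {p : Ideal A} (hp : p.IsPrime) :
    p = IsLocalRing.maximalIdeal A ∨ p ∈ minimalPrimes A := by
  haveI : Ring.KrullDimLE 1 A := Ring.krullDimLE_iff.mpr hdim.le
  rcases Ring.krullDimLE_one_iff.mp inferInstance p hp with h | h
  · exact Or.inr h
  · exact Or.inl (IsLocalRing.eq_maximalIdeal h)

omit [IsNoetherianRing A] in
theorem maximalIdeal_notMem_minimalPrimes : IsLocalRing.maximalIdeal A ∉ minimalPrimes A := fun h => by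
  have h1 := Ideal.height_eq_zero_iff.mpr h
  have h2 := IsLocalRing.maximalIdeal_height_eq_ringKrullDim (R := A)
  rw [h1, hdim] at h2
  exact zero_ne_one (α := ℕ∞) (WithBot.coe_injective (h2 : ((0 : ℕ∞) : WithBot ℕ∞) = ((1 : ℕ∞) : WithBot ℕ∞)))

theorem exists_avoiding : ∃ f ∈ IsLocalRing.maximalIdeal A, ∀ p ∈ minimalPrimes A, f ∉ p := by
  have hfin := minimalPrimes.finite_of_isNoetherianRing A
  by_contra! h
  have hsub : (IsLocalRing.maximalIdeal A : Set A) ⊆ ⋃ p ∈ (hfin.toFinset : Set (Ideal A)), (p : Set A) := fun x hx => by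
    obtain ⟨p, hp, hxp⟩ := h x hx
    exact Set.mem_biUnion (Finset.mem_coe.mpr (hfin.mem_toFinset.mpr hp)) hxp
  obtain ⟨p, hp, hle⟩ := (Ideal.subset_union_prime (f := id) ⊥ ⊥ fun p hp _ _ =>
    (hfin.mem_toFinset.mp hp).1.1).mp hsub
  have hp' := hfin.mem_toFinset.mp hp
  exact maximalIdeal_notMem_minimalPrimes hdim
    ((IsLocalRing.maximalIdeal.isMaximal A).eq_of_le hp'.1.1.ne_top hle ▸ hp')

theorem radical_eq_iff {f : A} (hf : f ∈ IsLocalRing.maximalIdeal A) :
    IsLocalRing.maximalIdeal A = (Ideal.span {f}).radical ↔ ∀ p ∈ minimalPrimes A, f ∉ p := by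
  constructor
  · intro h p hp hfp
    have hle : IsLocalRing.maximalIdeal A ≤ p := h.le.trans
      (hp.1.1.radical_le_iff.mpr ((Ideal.span_singleton_le_iff_mem p).mpr hfp))
    exact maximalIdeal_notMem_minimalPrimes hdim
      ((IsLocalRing.maximalIdeal.isMaximal A).eq_of_le hp.1.1.ne_top hle ▸ hp)
  · intro h
    refine le_antisymm ?_ ((IsLocalRing.maximalIdeal.isMaximal A).isPrime.radical_le_iff.mpr
      ((Ideal.span_singleton_le_iff_mem _).mpr hf))
    rw [Ideal.radical_eq_sInf]
    refine le_sInf fun J hJ => ?_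
    rcases maximal_or_minimal hdim hJ.2 with h1 | h1
    · exact h1.ge
    · exact absurd (hJ.1 (Ideal.mem_span_singleton_self f)) (h J h1)

/-- An ideal inside no minimal prime contains a power of every element of the maximal ideal. -/
theorem exists_pow_mem {J : Ideal A} (hJ : ∀ p ∈ minimalPrimes A, ¬ J ≤ p) {a : A}
    (ha : a ∈ IsLocalRing.maximalIdeal A) : ∃ n : ℕ, a ^ n ∈ J := by
  suffices a ∈ J.radical from Ideal.mem_radical_iff.mp this
  rw [Ideal.radical_eq_sInf, Submodule.mem_sInf]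
  intro q hq
  rcases maximal_or_minimal hdim hq.2 with h | h
  · exact h ▸ ha
  · exact absurd hq.1 (hJ q h)

omit [IsLocalRing A] [IsNoetherianRing A] hdim in
theorem isNilpotent_of_mem {q : Ideal A} [q.IsPrime] (hq : q ∈ minimalPrimes A) {t : A} (ht : t ∈ q) :
    IsNilpotent (algebraMap A (Localization.AtPrime q) t) := by
  rw [nilpotent_iff_mem_prime]
  intro J hJ
  have hle : J.comap (algebraMap A (Localization.AtPrime q)) ≤ q := fun x hx => by
    by_contra hxq
    exact hJ.ne_top (J.eq_top_of_isUnit_mem hx (IsLocalization.map_units _ (⟨x, hxq⟩ : q.primeCompl)))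
  have : q ≤ J.comap (algebraMap A (Localization.AtPrime q)) := hq.2 ⟨Ideal.IsPrime.comap _, bot_le⟩ hle
  exact this ht

/-- Elements vanishing at all minimal primes are torsion for the maximal ideal. -/
theorem exists_pow_mul_eq_zero {c : A} (hc : algebraMap A (MinPi A) c = 0) {a : A}
    (ha : a ∈ IsLocalRing.maximalIdeal A) : ∃ n : ℕ, a ^ n * c = 0 := by
  have hJ : ∀ p ∈ minimalPrimes A, ¬ (⊥ : Ideal A).colon {c} ≤ p := fun p hp hle => by
    haveI := hp.1.1
    have h := congrFun hc ⟨⟨p, hp.1.1⟩, hp⟩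
    rw [Pi.algebraMap_apply] at h
    obtain ⟨⟨s, hs⟩, hsc⟩ := (IsLocalization.map_eq_zero_iff p.primeCompl (Localization.AtPrime p) c).mp h
    exact hs (hle (by simpa [Submodule.mem_colon_singleton] using hsc))
  obtain ⟨n, hn⟩ := exists_pow_mem hdim hJ ha
  exact ⟨n, by simpa [Submodule.mem_colon_singleton] using hn⟩

omit [IsLocalRing A] [IsNoetherianRing A] hdim in
theorem isUnit_minPi {f : A} (h : ∀ p ∈ minimalPrimes A, f ∉ p) : IsUnit (algebraMap A (MinPi A) f) :=
  Pi.isUnit_iff.mpr fun p => IsLocalization.map_units (Localization.AtPrime p.1.asIdeal) (⟨f, h _ p.2⟩ : p.1.asIdeal.primeCompl)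

theorem isLocalization_away {f : A} (hf : f ∈ IsLocalRing.maximalIdeal A)
    (h : ∀ p ∈ minimalPrimes A, f ∉ p) : IsLocalization.Away f (MinPi A) := by
  classical
  haveI : Finite {p : PrimeSpectrum A // p.asIdeal ∈ minimalPrimes A} := by
    haveI := (minimalPrimes.finite_of_isNoetherianRing A).to_subtype
    exact Finite.of_injective (fun p => (⟨p.1.asIdeal, p.2⟩ : minimalPrimes A)) fun p q e =>
      Subtype.ext (PrimeSpectrum.ext (congrArg Subtype.val e))
  letI := Fintype.ofFinite {p : PrimeSpectrum A // p.asIdeal ∈ minimalPrimes A}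
  refine IsLocalization.Away.mk _ (isUnit_minPi h) (fun x => ?_) (fun a b hab => ?_)
  · choose a s has using fun p : {p : PrimeSpectrum A // p.asIdeal ∈ minimalPrimes A} =>
      IsLocalization.exists_mk'_eq p.1.asIdeal.primeCompl (x p)
    have hexists : ∀ p : {p : PrimeSpectrum A // p.asIdeal ∈ minimalPrimes A}, ∃ d ∉ p.1.asIdeal,
        ∀ q, q ≠ p → algebraMap A (Localization.AtPrime q.1.asIdeal) d = 0 := by
      intro p
      have : ∀ q : {q // q ≠ p}, ∃ t ∈ q.1.1.asIdeal, t ∉ p.1.asIdeal := fun q =>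
        SetLike.not_le_iff_exists.mp fun hle => q.2 (Subtype.ext (PrimeSpectrum.ext
          (le_antisymm hle (p.2.2 ⟨q.1.1.2, bot_le⟩ hle))))
      choose t ht htp using this
      choose m hm using fun q : {q // q ≠ p} => (isNilpotent_of_mem q.1.2 (ht q) :
        IsNilpotent (algebraMap A (Localization.AtPrime q.1.1.asIdeal) (t q)))
      refine ⟨∏ q, t q ^ m q, fun hmem => ?_, fun q hq => ?_⟩
      · obtain ⟨q, -, hq⟩ := (Ideal.IsPrime.prod_mem_iff (hp := p.1.2)).mp hmem
        exact htp q (p.1.2.mem_of_pow_mem _ hq)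
      · rw [map_prod]
        exact Finset.prod_eq_zero (Finset.mem_univ ⟨q, hq⟩) (by rw [map_pow]; exact hm ⟨q, hq⟩)
    choose d hd hd0 using hexists
    let u := ∑ p, d p * (s p : A)
    have hval : ∀ (g : {p : PrimeSpectrum A // p.asIdeal ∈ minimalPrimes A} → A) q,
        algebraMap A (Localization.AtPrime q.1.asIdeal) (∑ p, d p * g p) =
          algebraMap A _ (d q) * algebraMap A _ (g q) := fun g q => by
      rw [map_sum, Finset.sum_eq_single q (fun p _ hp => by rw [map_mul, hd0 p q hp.symm, zero_mul]) (by simp), map_mul]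
    have hu : ∀ p ∈ minimalPrimes A, ¬ Ideal.span {u} ≤ p := fun p hp hle => by
      obtain ⟨q, rfl⟩ : ∃ q : {p : PrimeSpectrum A // p.asIdeal ∈ minimalPrimes A}, q.1.asIdeal = p :=
        ⟨⟨⟨p, hp.1.1⟩, hp⟩, rfl⟩
      have h1 : IsUnit (algebraMap A (Localization.AtPrime q.1.asIdeal) u) := by
        rw [hval]
        exact (IsLocalization.map_units _ (⟨d q, hd q⟩ : q.1.asIdeal.primeCompl)).mul (IsLocalization.map_units _ (s q))
      exact (IsLocalization.AtPrime.isUnit_to_map_iff (Localization.AtPrime q.1.asIdeal) q.1.asIdeal u).mp h1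
        ((Ideal.span_singleton_le_iff_mem _).mp hle)
    obtain ⟨n, hn⟩ := exists_pow_mem hdim hu hf
    obtain ⟨v, hv⟩ := Ideal.mem_span_singleton'.mp hn
    refine ⟨n, v * ∑ p, d p * a p, ?_⟩
    funext q
    rw [Pi.mul_apply, Pi.pow_apply, Pi.algebraMap_apply, Pi.algebraMap_apply, ← map_pow, ← hv, map_mul, map_mul,
      hval, hval, ← has q]
    have hs : IsLocalization.mk' (Localization.AtPrime q.1.asIdeal) (a q) (s q) * algebraMap A _ (s q : A) =
        algebraMap A _ (a q) := IsLocalization.mk'_spec _ _ _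
    linear_combination (algebraMap A (Localization.AtPrime q.1.asIdeal) v * algebraMap A _ (d q)) * hs
  · obtain ⟨n, hn⟩ := exists_pow_mul_eq_zero hdim (c := a - b) (by rw [map_sub, hab, sub_self]) hf
    exact ⟨n, by linear_combination hn⟩

theorem exists_pow_smul_mem {a : A} (ha : a ∈ IsLocalRing.maximalIdeal A) (x : MinPi A) :
    ∃ n : ℕ, x * algebraMap A (MinPi A) a ^ n ∈ (algebraMap A (MinPi A)).range := by
  obtain ⟨f, hf, hf'⟩ := exists_avoiding hdim
  haveI := isLocalization_away hdim hf hf'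
  obtain ⟨s, b, hsb⟩ := IsLocalization.Away.surj f x
  obtain ⟨r, hr⟩ := exists_pow_mem hdim (J := Ideal.span {f})
    (fun p hp hle => hf' p hp ((Ideal.span_singleton_le_iff_mem p).mp hle)) ha
  obtain ⟨t, ht⟩ := Ideal.mem_span_singleton'.mp hr
  refine ⟨r * s, t ^ s * b, ?_⟩
  rw [pow_mul, ← map_pow _ a r, ← ht, map_mul, map_mul, mul_pow, map_pow, ← hsb]
  ring

theorem mem_nonZeroDivisors_of_depth_or_reduced (hd : LocCoh.depth A A = 1 ∨ IsReduced A) {f : A}
    (h : ∀ p ∈ minimalPrimes A, f ∉ p) : f ∈ nonZeroDivisors A := by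
  by_contra hf
  have hmem : f ∈ ⋃ p ∈ associatedPrimes A A, (p : Set A) := by
    rw [biUnion_associatedPrimes_eq_compl_nonZeroDivisors]; exact hf
  obtain ⟨p, hp, hfp⟩ := Set.mem_iUnion₂.mp hmem
  rcases maximal_or_minimal hdim hp.isPrime with rfl | hmin
  · rcases hd with hd | hd
    · have hne : IsLocalRing.maximalIdeal A • (⊤ : Submodule A A) ≠ ⊤ := by
        simpa using (IsLocalRing.maximalIdeal.isMaximal A).ne_top
      have := (H4Depth.idealDepth_eq_zero_iff_exists_associatedPrime hne).mpr ⟨_, hp, le_rfl⟩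
      rw [show LocCoh.idealDepth (IsLocalRing.maximalIdeal A) A = 1 from hd] at this
      exact one_ne_zero this
    · refine hf (mem_nonZeroDivisors_iff_right.mpr fun b hb => IsReduced.eq_zero b (nilpotent_iff_mem_prime.mpr fun J hJ => ?_))
      obtain ⟨q, hq, hqJ⟩ := Ideal.exists_minimalPrimes_le (J := J) bot_le
      exact hqJ ((hq.1.1.mem_or_mem (hb.symm ▸ q.zero_mem)).resolve_right (h q hq))
  · exact h p hmin hfp

end Groth.Agent.H22Alg.DimOneLoc
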