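import Mathlib

/-! In a ring with a one-dimensional Noetherian local ring at `p`, a finitely generated ideal has
the same zero locus as one of its elements near `p`. -/

namespace Groth.Agent.S1607

theorem exists_principal_near {R : Type*} [CommRing R] (p : Ideal R) [p.IsPrime] (S : Type*) [CommRing S]
    [Algebra R S] [IsLocalization.AtPrime S p] (hN : IsNoetherianRing S) (hd : ringKrullDim S ≤ 1)
    (I : Ideal R) (hI : I.FG) :
    ∃ t ∉ p, ∃ g ∈ I, ∀ P : Ideal R, P.IsPrime → t ∉ P → g ∈ P → I ≤ P := by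
  classical
  haveI := IsLocalization.AtPrime.isLocalRing S p
  haveI : Ring.KrullDimLE 1 S := (Ring.krullDimLE_iff (n := 1)).mpr hd
  have hsub : ∀ P : Ideal R, P.IsPrime → P ≤ p → Disjoint (p.primeCompl : Set R) (P : Set R) := fun P _ h =>
    Set.disjoint_left.mpr fun a ha haP => ha (h haP)
  let T : Set (Ideal R) := {P | P.IsPrime ∧ P ≤ p ∧ ¬ I ≤ P}
  have hT : T.Finite := by
    refine (((minimalPrimes.finite_of_isNoetherianRing S).union (Set.finite_singleton (IsLocalRing.maximalIdeal S))).image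
      (fun Q => Q.comap (algebraMap R S))).subset ?_
    rintro P ⟨hP, hPp, -⟩
    refine ⟨P.map (algebraMap R S), ?_, IsLocalization.under_map_of_isPrime_disjoint p.primeCompl S hP (hsub P hP hPp)⟩
    haveI := IsLocalization.isPrime_of_isPrime_disjoint p.primeCompl S P hP (hsub P hP hPp)
    exact (Ring.krullDimLE_one_iff.mp inferInstance _ this).imp id fun h => IsLocalRing.eq_maximalIdeal h
  obtain ⟨g, hg, hgT⟩ : ∃ g ∈ I, ∀ P ∈ T, g ∉ P := by
    by_contra h
    push Not at h
    have hs : (I : Set R) ⊆ ⋃ P ∈ (↑hT.toFinset : Set (Ideal R)), (P : Set R) := fun g hg => by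
      obtain ⟨P, hP, hgP⟩ := h g hg
      simp only [Set.mem_iUnion, exists_prop]
      exact ⟨P, by simpa using hP, hgP⟩
    obtain ⟨P, hP, hle⟩ := (Ideal.subset_union_prime (⊥ : Ideal R) ⊥ (fun P hP _ _ => (hT.mem_toFinset.mp hP).1)).mp hs
    exact (hT.mem_toFinset.mp hP).2.2 hle
  have hmem : ∀ f ∈ I, ∃ t ∉ p, ∀ P : Ideal R, P.IsPrime → t ∉ P → g ∈ P → f ∈ P := by
    intro f hf
    by_contra! h
    have hdisj : Disjoint ((Ideal.span {g} : Ideal R) : Set R) (p.primeCompl ⊔ Submonoid.powers f : Submonoid R) := by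
      refine Set.disjoint_left.mpr fun a ha ha' => ?_
      obtain ⟨t, ht, _, ⟨n, rfl⟩, rfl⟩ := Submonoid.mem_sup.mp ha'
      obtain ⟨P, hP, htP, hgP, hfP⟩ := h t ht
      have := (Ideal.span_singleton_le_iff_mem (I := P)).mpr hgP ha
      rcases hP.mem_or_mem this with h1 | h1
      exacts [htP h1, hfP (hP.mem_of_pow_mem n h1)]
    obtain ⟨Q, hQ, hgQ, hQd⟩ := Ideal.exists_le_prime_disjoint _ _ hdisj
    have hQp : Q ≤ p := fun a ha => by_contra fun hap =>
      Set.disjoint_left.mp hQd ha ((le_sup_left : p.primeCompl ≤ _) hap)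
    refine hgT Q ⟨hQ, hQp, fun hle => ?_⟩ (hgQ (Ideal.mem_span_singleton_self g))
    exact Set.disjoint_left.mp hQd (hle hf) ((le_sup_right : Submonoid.powers f ≤ _) (Submonoid.mem_powers f))
  obtain ⟨s, hs⟩ := hI
  choose! t ht htP using hmem
  refine ⟨∏ f ∈ s, t f, ?_, g, hg, fun P hP hPt hgP => ?_⟩
  · have : ∀ f ∈ s, t f ∈ p.primeCompl := fun f hf => ht f (hs ▸ Ideal.subset_span hf)
    exact Submonoid.prod_mem _ this
  · rw [← hs, Ideal.span_le]
    intro f hf
    exact htP f (hs ▸ Ideal.subset_span hf) P hP (fun h => hPt (Ideal.mem_of_dvd P (Finset.dvd_prod_of_mem t hf) h)) hgP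

end Groth.Agent.S1607
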