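import Groth.Agent.H22Alg.ZeroFam
import Groth.Agent.H22Alg.BoundedCoker
import Groth.Agent.H10Coh.Growth.Noetherian
import Groth.Agent.H7Flat.CohDim.Fibre
import Groth.Agent.H11Proj.PnGlobal
import Groth.Agent.H22Alg.NakaiSemi

/-! # A uniform bound on the common zero schemes of boundedly many sections. -/

set_option autoImplicit false
set_option linter.style.haveILetI false
set_option linter.unusedSectionVars false
set_option backward.isDefEq.respectTransparency.types false

universe u

open CategoryTheory CategoryTheory.Limits AlgebraicGeometry TopologicalSpace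
open Groth.Agent.H11Ample
open Groth.Agent.H25Theta (pT)

noncomputable section

namespace Groth.Agent.H22Alg.DivCut

attribute [local instance] H12Pic.PicCurve.fibreOverField

variable (k : Type u) [Field k] {X : Scheme.{u}} [X.Over (Spec (CommRingCat.of k))]
  [IsProper (X ↘ Spec (CommRingCat.of k))]

/-- The fibre over the point of a field is everything. -/
theorem dim_fiber_point {Z : Scheme.{u}} (p : Z ⟶ Spec (CommRingCat.of k)) (y : Spec (CommRingCat.of k)) :
    topologicalKrullDim ↥(p.fiber y) = topologicalKrullDim ↥Z := by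
  have h : (p : Z → Spec (CommRingCat.of k)) ⁻¹' {y} = Set.univ :=
    Set.eq_univ_of_forall fun z => Subsingleton.elim (p z) y
  exact ((p.fiberHomeo y).trans ((Homeomorph.setCongr h).trans (Homeomorph.Set.univ _))).isHomeomorph.topologicalKrullDim_eq

/-- The uniform bound on the zero schemes of `M` sections of `L`. -/
theorem exists_bound {A : X.Modules} (hA : RelAmple.IsRelVeryAmplePn (X ↘ Spec (CommRingCat.of k)) A)
    {L D : X.Modules} (hL : PicF.IsInvertible L) (hD : PicF.IsInvertible D) (M : ℕ) :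
    ∃ C : ℕ, ∀ (w : Fin M → (Coh.structureModule X ⟶ L)) (Z : Scheme.{u}) [Z.Over (Spec (CommRingCat.of k))]
      (ι : Z ⟶ X) [IsClosedImmersion ι], ι ≫ (X ↘ Spec (CommRingCat.of k)) = Z ↘ Spec (CommRingCat.of k) →
      ι.ker = ⨆ l, PicF2.zeroScheme L (w l) → ∀ e : ℕ, topologicalKrullDim Z = e → ∀ m : ℕ, 1 ≤ m → ∀ i,
        Module.finrank k (Coh.HH Z ((Scheme.Modules.pullback ι).obj (CohB1.tensorPow D m)) i) ≤ C * m ^ e := by
  haveI := H28Int.isNoetherian k (X := X)
  haveI : Module.Finite k (Coh.structureModule X ⟶ L) :=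
    H29RR.finite_hom (H10Coh.isCoh_structureModule' X) (isCoh_of_isInvertible hL)
  obtain ⟨r, u, hu⟩ := Module.Finite.exists_fin (R := k) (M := Coh.structureModule X ⟶ L)
  -- the parameter space and the universal sections
  let R := MvPolynomial (Fin M × Fin r) k
  let T := Spec (CommRingCat.of R)
  let q : T ⟶ Spec (CommRingCat.of k) := Spec.map (CommRingCat.ofHom (algebraMap k R))
  let W := Pic13.prodK k X q
  let pr : W ⟶ X := pullback.fst _ _
  letI : W.Over (Spec (CommRingCat.of R)) := ⟨pullback.snd _ _⟩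
  haveI : IsProper (pullback.snd (X ↘ Spec (CommRingCat.of k)) q) := MorphismProperty.pullback_snd _ _ inferInstance
  haveI : IsLocallyNoetherian W := LocallyOfFiniteType.isLocallyNoetherian (pullback.snd (X ↘ Spec (CommRingCat.of k)) q)
  let Fp := Scheme.Modules.pullback pr
  let σ : Fin M → (Coh.structureModule W ⟶ Fp.obj L) := fun l =>
    (H16Derived.KFlat.Stalk.structurePullbackIso pr).inv ≫
      ∑ j, Formal.smulMod R _ (MvPolynomial.X (l, j)) ≫ Fp.map (u j)
  let I : W.IdealSheafData := ⨆ l, PicF2.zeroScheme (Fp.obj L) (σ l)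
  let f : I.subscheme ⟶ T := I.subschemeι ≫ pullback.snd _ _
  haveI : IsProper f := inferInstanceAs (IsProper (I.subschemeι ≫ pullback.snd _ _))
  haveI : IsLocallyNoetherian I.subscheme := LocallyOfFiniteType.isLocallyNoetherian f
  -- the embedding
  obtain ⟨N, i, hi, hiq, -⟩ := hA
  haveI := hi
  haveI := H11Proj.isClosedImmersion_of_isImmersion (X ↘ Spec (CommRingCat.of k)) i hiq
  let J : I.subscheme ⟶ CohB1.ProjSpaceOver N T :=
    pullback.lift (I.subschemeι ≫ pr ≫ i ≫ pullback.fst _ _) f (specULiftZIsTerminal.hom_ext _ _)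
  have hJ : J ≫ CohB1.ProjSpaceOver.toBase N T = f := pullback.lift_snd _ _ _
  have hJ₁ : J ≫ pullback.fst (CohB1.ProjSpace.toSpec N (ULift.{u} ℤ)) (specULiftZIsTerminal.from T) =
      I.subschemeι ≫ pr ≫ i ≫ pullback.fst _ _ := pullback.lift_fst _ _ _
  haveI : IsProper (CohB1.ProjSpace.toSpec N (ULift.{u} ℤ)) := H27Weil.isProper_toSpec N _
  haveI : IsProper (CohB1.ProjSpaceOver.toBase N T) := MorphismProperty.pullback_snd _ _ inferInstance
  haveI : IsProper (J ≫ CohB1.ProjSpaceOver.toBase N T) := hJ ▸ inferInstance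
  haveI : IsProper J := IsProper.of_comp J (CohB1.ProjSpaceOver.toBase N T)
  haveI : Mono J := ⟨fun {Y} a b h => by
    have hs : a ≫ f = b ≫ f := by rw [← hJ, reassoc_of% h]
    have h1 := h =≫ pullback.fst (CohB1.ProjSpace.toSpec N (ULift.{u} ℤ)) (specULiftZIsTerminal.from T)
    rw [Category.assoc, Category.assoc, hJ₁] at h1
    rw [← cancel_mono I.subschemeι]
    refine pullback.hom_ext ?_ (by simpa only [Category.assoc] using hs)
    rw [← cancel_mono i]
    have hiq' : i ≫ CohB1.ProjSpaceOver.toBase N (Spec (CommRingCat.of k)) = X ↘ Spec (CommRingCat.of k) := hiq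
    apply pullback.hom_ext
    · simp only [Category.assoc] at h1 ⊢
      erw [Category.assoc, Category.assoc, Category.assoc, Category.assoc, Category.assoc, Category.assoc]
      exact h1
    show ((a ≫ I.subschemeι) ≫ pr) ≫ i ≫ CohB1.ProjSpaceOver.toBase N _ =
      ((b ≫ I.subschemeι) ≫ pr) ≫ i ≫ CohB1.ProjSpaceOver.toBase N _
    rw [hiq']
    simp only [Category.assoc]
    have h2 : ∀ c : Y ⟶ I.subscheme, c ≫ I.subschemeι ≫ pr ≫ (X ↘ Spec (CommRingCat.of k)) = (c ≫ f) ≫ q := fun c => by
      simp only [f, pr, Category.assoc, pullback.condition]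
    rw [h2, h2, hs]⟩
  haveI : IsClosedImmersion J := (IsClosedImmersion.iff_isProper_and_mono _).2 ⟨inferInstance, inferInstance⟩
  let D' := (Scheme.Modules.pullback (I.subschemeι ≫ pr)).obj D
  have hD' : PicF.IsInvertible D' := isInvertible_pullback _ hD
  have hO := H10Coh.isCoh_structureModule' I.subscheme
  obtain ⟨C, hC⟩ := H10Coh.Growth.growth_uniform f N J hJ hO hD'
  refine ⟨C, fun w Z _ ι _ hι hker e he m hm i => ?_⟩
  -- the point
  choose c hc using fun l => (Submodule.mem_span_range_iff_exists_fun k).1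
    (hu.symm ▸ Submodule.mem_top : w l ∈ Submodule.span k (Set.range u))
  let ev : R →+* k := MvPolynomial.eval fun p => c p.1 p.2
  let t : Spec (CommRingCat.of k) ⟶ T := Spec.map (CommRingCat.ofHom ev)
  haveI : IsClosedImmersion t := IsClosedImmersion.spec_of_surjective (CommRingCat.ofHom ev)
    fun a => ⟨MvPolynomial.C a, MvPolynomial.eval_C a⟩
  have ht : t ≫ q = 𝟙 _ := by
    rw [← Spec.map_comp, ← Spec.map_id]
    congr 1
    ext a
    exact MvPolynomial.eval_C a
  let s : X ⟶ W := Pic13.sliceAt k X q t ht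
  letI : X.Over (Spec (CommRingCat.of R)) := ⟨(X ↘ Spec (CommRingCat.of k)) ≫ t⟩
  have hs : s ≫ (W ↘ Spec (CommRingCat.of R)) = X ↘ Spec (CommRingCat.of R) := pullback.lift_snd _ _ _
  have hpr : s ≫ pr = 𝟙 X := pullback.lift_fst _ _ _
  let Fs := Scheme.Modules.pullback s
  let θ : Fp ⋙ Fs ≅ 𝟭 X.Modules :=
    Scheme.Modules.pullbackComp s pr ≪≫ Scheme.Modules.pullbackCongr hpr ≪≫ Scheme.Modules.pullbackId X
  have hsm : ∀ (N : X.Modules) (a : R), Formal.smulMod R N a = Formal.smulMod k N (ev a) := fun N a =>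
    congrArg (Formal.smulModΓ N) (BoundedCoker.toGlobal_comp_map (X ↘ Spec (CommRingCat.of k)) ev a)
  haveI : Fs.Additive := (Scheme.Modules.pullbackPushforwardAdjunction s).left_adjoint_additive
  have hU : ∀ l, Fs.map (∑ j, Formal.smulMod R _ (MvPolynomial.X (l, j)) ≫ Fp.map (u j)) ≫ (θ.app L).hom =
      (θ.app (Coh.structureModule X)).hom ≫ w l := fun l => by
    rw [Functor.map_sum, Preadditive.sum_comp, ← hc l, Preadditive.comp_sum]
    refine Finset.sum_congr rfl fun j _ => ?_
    have h1 := θ.hom.naturality (u j)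
    rw [Functor.map_comp, H24Formal.pullback_map_smulMod s hs, Category.assoc,
      show Fs.map (Fp.map (u j)) ≫ (θ.app L).hom = (θ.app (Coh.structureModule X)).hom ≫ u j from h1, hsm,
      MvPolynomial.eval_X, ← Category.assoc, H24Formal.smulMod_comm, Category.assoc]
    rfl
  have hFpL : PicF.IsInvertible (Fp.obj L) := isInvertible_pullback pr hL
  have hzero : ∀ l, (PicF2.zeroScheme (Fp.obj L) (σ l)).comap s = PicF2.zeroScheme L (w l) := fun l => by
    let v := (H16Derived.KFlat.Stalk.structurePullbackIso s).symm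
    let v' : Coh.structureModule X ≅ Coh.structureModule X :=
      v ≪≫ Fs.mapIso (H16Derived.KFlat.Stalk.structurePullbackIso pr).symm ≪≫ θ.app (Coh.structureModule X)
    rw [ZeroFam.comap_eq s hFpL (σ l) v, ← ZeroFam.comp_iso (isInvertible_pullback s hFpL) (θ.app L),
      ← ZeroFam.iso_comp hL v' (w l)]
    refine congrArg (PicF2.zeroScheme L) ?_
    show (v.hom ≫ Fs.map (σ l)) ≫ (θ.app L).hom = v'.hom ≫ w l
    simp only [σ, v', Functor.map_comp, Category.assoc, Iso.trans_hom, Functor.mapIso_hom, Iso.symm_hom]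
    exact congrArg (fun φ => v.hom ≫ Fs.map _ ≫ φ) (hU l)
  have hcomap : I.comap s = ι.ker := by
    rw [hker]
    exact ((Scheme.IdealSheafData.map_gc s).l_iSup).trans (iSup_congr hzero)
  have hle : I.subschemeι.ker ≤ (ι ≫ s).ker := by
    rw [Scheme.IdealSheafData.ker_subschemeι]
    refine (Scheme.IdealSheafData.le_map_comap I s).trans ?_
    rw [hcomap, Scheme.IdealSheafData.map]
    conv_rhs => rw [← Scheme.Hom.toImage_imageι ι, Category.assoc, Scheme.Hom.ker_comp_of_isIso]
  let g : Z ⟶ I.subscheme := IsClosedImmersion.lift I.subschemeι (ι ≫ s) hle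
  have hg : g ≫ I.subschemeι = ι ≫ s := IsClosedImmersion.lift_fac _ _ _
  have hsl : IsPullback s (X ↘ Spec (CommRingCat.of k)) (pullback.snd (X ↘ Spec (CommRingCat.of k)) q) t := by
    refine IsPullback.of_right ?_ (pullback.lift_snd _ _ _) (IsPullback.of_hasPullback _ q).flip.flip
    rw [ht, hpr]
    exact IsPullback.of_horiz_isIso ⟨by simp⟩
  have hsq : IsPullback g (Z ↘ Spec (CommRingCat.of k)) f t := by
    rw [← hι]
    exact (isPullback_of_isClosedImmersion ι I.subschemeι g s hg.symm
      (by rw [Scheme.IdealSheafData.ker_subschemeι, hcomap])).flip.paste_vert hsl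
  let y : Spec (CommRingCat.of k) := IsLocalRing.closedPoint k
  have hdim : topologicalKrullDim ↥(f.fiber (t y)) = e := by
    rw [← H7Flat.CohDim.dim_fiber_eq hsq y, dim_fiber_point k]
    exact he
  have hpow := isInvertible_tensorPow hD' m
  have hb := hC (t y) e hdim m hm i
  rw [← H10Coh.Growth.finrank_HH_point f (isCoh_tensor hO hpow) t hsq i] at hb
  refine le_trans (le_of_eq ?_) hb
  obtain ⟨e₁⟩ := exists_iso_pullback_tensorPow g hD' m
  obtain ⟨e₂⟩ := exists_iso_pullback_tensorPow ι hD m
  obtain ⟨e₃⟩ := NakaiSemi.nonempty_tensorPow_congr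
    ((Scheme.Modules.pullbackComp g (I.subschemeι ≫ pr)).app D ≪≫
      (Scheme.Modules.pullbackCongr (show g ≫ I.subschemeι ≫ pr = ι by
        rw [← Category.assoc, hg, Category.assoc, hpr, Category.comp_id])).app D) m
  exact (H29RR.hhIso (k := k) (e₂ ≪≫ e₃.symm ≪≫ e₁.symm ≪≫
    (Scheme.Modules.pullback g).mapIso (H10Coh.Tw.leftUnitIso _).symm) i).finrank_eq

end Groth.Agent.H22Alg.DivCut
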