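import Groth.Agent.H10Coh.HHSeq
import Groth.Agent.H10Coh.CurveBdd.Regular
import Groth.Agent.H10Coh.QCohOps
import Groth.Agent.H28Int.Core
import Groth.Agent.H11Ample.Twist
import Groth.Agent.H22Alg.ESZ

/-!
# A resolution with homology of small support computes cohomology
-/

set_option autoImplicit false
set_option linter.style.haveILetI false
set_option backward.isDefEq.respectTransparency.types false

universe u

open CategoryTheory CategoryTheory.Limits AlgebraicGeometry

namespace Groth.Agent.H22Alg.ENChase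

variable {X : Scheme.{u}}

theorem shortExact_kernel_image {M N : X.Modules} (f : M ⟶ N) :
    (ShortComplex.mk (kernel.ι f) (Abelian.factorThruImage f)
      ((cancel_mono (Abelian.image.ι f)).1 (by rw [Category.assoc, Abelian.image.fac, kernel.condition, zero_comp]))).ShortExact :=
  { exact := by
      refine ShortComplex.exact_of_f_is_kernel _ ?_
      exact isKernelOfComp (f := Abelian.factorThruImage f) (Abelian.image.ι f) f
        (kernelIsKernel f) _ (Abelian.image.fac f) }

theorem shortExact_image_cokernel {M N : X.Modules} (f : M ⟶ N) :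
    (ShortComplex.mk (Abelian.image.ι f) (cokernel.π f) (kernel.condition _)).ShortExact :=
  { exact := ShortComplex.exact_of_f_is_kernel _ (kernelIsKernel _) }

theorem shortExact_epi {M N : X.Modules} (p : M ⟶ N) [Epi p] :
    (ShortComplex.mk (kernel.ι p) p (kernel.condition p)).ShortExact :=
  { exact := ShortComplex.exact_of_f_is_kernel _ (kernelIsKernel _) }

variable {k : Type u} [Field k] [X.Over (Spec (CommRingCat.of k))] [IsProper (X ↘ Spec (CommRingCat.of k))]
  {r : ℕ} (hvan : ∀ (M : X.Modules), Coh.IsQCoh M → ∀ q, r < q → Subsingleton (Coh.HH X M q))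
  {Z : Set X} (hZ : IsClosed Z) (hdim : topologicalKrullDim Z ≤ 1)
  (E : ℕ → X.Modules) (hE : ∀ i, Coh.IsQCoh (E i)) (d : ∀ i, E (i + 1) ⟶ E i)
  (hdd : ∀ i, d (i + 1) ≫ d i = 0) {I : X.Modules} (ε : E 0 ⟶ I) [Epi ε] (hI : Coh.IsQCoh I) (hε : d 0 ≫ ε = 0)
  (h0 : CohB1.support (cokernel (kernel.lift ε (d 0) hε)) ⊆ Z)
  (hs : ∀ i, CohB1.support (cokernel (kernel.lift (d i) (d (i + 1)) (hdd i))) ⊆ Z)
  {L : X.Modules} (hL : PicF.IsInvertible L)

include k hvan hZ hdim hE hI h0 hs hL in
/-- The cohomology of the resolved sheaf vanishes when that of the terms does, in shifted degrees. -/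
theorem subsingleton_HH (j : ℕ) (hj : 1 ≤ j)
    (hH : ∀ i, Subsingleton (Coh.HH X (CohB1.tensorMod (E i) L) (j + i))) :
    Subsingleton (Coh.HH X (CohB1.tensorMod I L) j) := by
  classical
  haveI hEi : ∀ i, (E i).IsQuasicoherent := hE
  haveI : I.IsQuasicoherent := hI
  have hsupp : ∀ (H : X.Modules), Coh.IsQCoh H → CohB1.support H ⊆ Z → ∀ q, 2 ≤ q →
      Subsingleton (Coh.HH X (CohB1.tensorMod H L) q) := fun H hH hH' q hq =>
    H10Coh.CurveBdd.subsingleton_HH_of_dim (k := k) (H11Ample.isQCoh_tensor hH hL) hZ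
      ((H25Euler.support_tensor_subset H L).trans hH') (d := 1) (by exact_mod_cast hdim) (by omega)
  have hK : ∀ i, Coh.IsQCoh (kernel (d i)) := fun i => H10Coh.isQuasicoherent_kernel (d i)
  have step : ∀ {A B C : X.Modules} (g : A ⟶ B) (c : B ⟶ C) (w : g ≫ c = 0),
      Coh.IsQCoh A → Coh.IsQCoh B → Coh.IsQCoh C →
      CohB1.support (cokernel (kernel.lift c g w)) ⊆ Z → ∀ q, 2 ≤ q →
      Subsingleton (Coh.HH X (CohB1.tensorMod A L) q) →
      Subsingleton (Coh.HH X (CohB1.tensorMod (kernel g) L) (q + 1)) →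
      Subsingleton (Coh.HH X (CohB1.tensorMod (kernel c) L) q) := by
    intro A B C g c w hA hB hC hS q hq h₂ h₁
    haveI : A.IsQuasicoherent := hA
    haveI : B.IsQuasicoherent := hB
    haveI : C.IsQuasicoherent := hC
    haveI : (kernel c).IsQuasicoherent := H10Coh.isQuasicoherent_kernel c
    let b := kernel.lift c g w
    have hb : b ≫ kernel.ι c = g := kernel.lift_ι c g w
    have hker : Nonempty (kernel b ≅ kernel g) :=
      ⟨(kernelCompMono b (kernel.ι c)).symm ≪≫ kernelIsoOfEq hb⟩
    obtain ⟨e⟩ := hker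
    have h₁' : Subsingleton (Coh.HH X (CohB1.tensorMod (kernel b) L) (q + 1)) :=
      ESZ.subsingleton_HH_iso (PicGrp.tensorModIso e.symm (Iso.refl L)) h₁
    have hB' : Subsingleton (Coh.HH X (CohB1.tensorMod (Abelian.image b) L) q) :=
      H10Coh.HHSeq.subsingleton₃ (H28Int.tensor_shortExact (shortExact_kernel_image b) hL) h₂ h₁'
    exact H10Coh.HHSeq.subsingleton₂ (H28Int.tensor_shortExact (shortExact_image_cokernel b) hL) hB'
      (hsupp _ (H10Coh.isQuasicoherent_cokernel b) hS q hq)
  have main : ∀ (t i : ℕ), r < j + i + 2 + t →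
      Subsingleton (Coh.HH X (CohB1.tensorMod (kernel (d i)) L) (j + i + 2)) := by
    intro t
    induction t with
    | zero => exact fun i h => hvan _ (H11Ample.isQCoh_tensor (hK i) hL) _ (by omega)
    | succ t ih =>
      intro i h
      exact step (d (i + 1)) (d i) (hdd i) (hE _) (hE _) (hE _) (hs i) _ (by omega)
        (by simpa [add_assoc] using hH (i + 2)) (by simpa [add_assoc] using ih (i + 1) (by omega))
  have hK0 : Subsingleton (Coh.HH X (CohB1.tensorMod (kernel ε) L) (j + 1)) :=
    step (d 0) ε hε (hE _) (hE _) hI h0 _ (by omega) (hH 1) (main r 0 (by omega))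
  exact H10Coh.HHSeq.subsingleton₃ (H28Int.tensor_shortExact (shortExact_epi ε) hL) (hH 0) hK0

end Groth.Agent.H22Alg.ENChase
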