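import Groth.Agent.H22Alg.ENSheaf

/-!
# The ideal of maximal minors of a matrix of linear forms
-/

set_option autoImplicit false
set_option linter.style.haveILetI false
set_option backward.isDefEq.respectTransparency.types false

noncomputable section

universe u

open CategoryTheory CategoryTheory.Limits AlgebraicGeometry TopologicalSpace Opposite MvPolynomial
open Groth.Agent.H11Tilde Groth.Agent.H10Coh.Pn Groth.Agent.H17.PnDual

namespace Groth.Agent.H22Alg.EN

/-- An `m × m` determinant extracted from a matrix lies in any ideal containing the maximal minors. -/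
theorem det_mem_of_minor_mem {S : Type*} [CommRing S] {m n : ℕ} (B : Fin m → Fin n → S) (I : Ideal S)
    (h : ∀ T : Finset (Fin n), T.card = m → (if hT : T.card = m then
      (Matrix.of fun k q => B k (T.orderEmbOfFin hT q)).det else 0) ∈ I)
    (e : Fin m → Fin m) (s : Fin m → Fin n) : (Matrix.of fun a b => B (e a) (s b)).det ∈ I := by
  classical
  by_cases he : Function.Injective e
  swap
  · obtain ⟨a, a', hne, hab⟩ : ∃ a a', a ≠ a' ∧ e a = e a' := by
      simp only [Function.Injective] at he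
      push Not at he
      obtain ⟨a, a', h1, h2⟩ := he
      exact ⟨a, a', h2, h1⟩
    rw [Matrix.det_zero_of_row_eq hne (by ext b; simp [hab])]
    exact I.zero_mem
  by_cases hs : Function.Injective s
  swap
  · obtain ⟨b, b', hne, hbb⟩ : ∃ b b', b ≠ b' ∧ s b = s b' := by
      simp only [Function.Injective] at hs
      push Not at hs
      obtain ⟨a, a', h1, h2⟩ := hs
      exact ⟨a, a', h2, h1⟩
    rw [Matrix.det_zero_of_column_eq hne (fun a => by simp [hbb])]
    exact I.zero_mem
  let T : Finset (Fin n) := Finset.univ.image s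
  have hT : T.card = m := by rw [Finset.card_image_of_injective _ hs]; simp
  have hmem : ∀ b, s b ∈ Set.range (T.orderEmbOfFin hT) := fun b => by
    rw [Finset.range_orderEmbOfFin]
    exact Finset.mem_image_of_mem s (Finset.mem_univ b)
  choose σ hσ using hmem
  have hσi : Function.Injective σ := fun b b' hb => hs ((hσ b).symm.trans ((congrArg _ hb).trans (hσ b')))
  let M : Matrix (Fin m) (Fin m) S := Matrix.of fun k q => B k (T.orderEmbOfFin hT q)
  have hM : M.det ∈ I := by
    have := h T hT
    rwa [dif_pos hT] at this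
  let σ' : Equiv.Perm (Fin m) := Equiv.ofBijective σ (Finite.injective_iff_bijective.1 hσi)
  let e' : Equiv.Perm (Fin m) := Equiv.ofBijective e (Finite.injective_iff_bijective.1 he)
  have : (Matrix.of fun a b => B (e a) (s b)) = (M.submatrix e' id).submatrix id σ' := by
    ext a b
    show B (e a) (s b) = B (e a) (T.orderEmbOfFin hT (σ b))
    rw [hσ b]
  rw [this, Matrix.det_permute', Matrix.det_permute]
  exact Ideal.mul_mem_left _ _ (Ideal.mul_mem_left _ _ hM)

variable {r : ℕ} {R : Type u} [CommRing R] {m n : ℕ}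
  (φ : (∐ fun _ : Fin n => Od r R (-1)) ⟶ FlatMod.freeMod (Proj (Gr r R)) m)

theorem exists_matrix (hr : r ≠ 0) : ∃ A : Fin m → Fin n → L r R,
    (∀ k s, A k s ∈ allowedSub R 1 (∅ : Set (Fin (r + 1)))) ∧
    ∀ (p : Fin m → (FlatMod.freeMod (Proj (Gr r R)) m ⟶ Coh.structureModule (Proj (Gr r R))))
      (_ : ∀ i j, Sigma.ι (fun _ : Fin m => Coh.structureModule (Proj (Gr r R))) j ≫ p i =
        if j = i then 𝟙 _ else 0)
      (k : Fin m) (s : Fin n),
      IsMul ((Sigma.ι (fun _ : Fin n => Od r R (-1)) s ≫ φ ≫ p k) ≫ unitIso.hom) (A k s) := by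
  classical
  obtain ⟨p₀, hp₀, -⟩ := H29Fitt.exists_coord (X := Proj (Gr r R)) m
  choose y hy hy' using fun k s => exists_hom_eq hr
    ((Sigma.ι (fun _ : Fin n => Od r R (-1)) s ≫ φ ≫ p₀ k) ≫ unitIso.hom)
  refine ⟨y, fun k s => by simpa using hy k s, fun p hp k s => ?_⟩
  have : p k = p₀ k := Sigma.hom_ext _ _ fun j => (hp k j).trans (hp₀ k j).symm
  rw [this]
  exact hy' k s

section presentation

variable {φ} {A : Fin m → Fin n → L r R} (hA : ∀ k s, A k s ∈ allowedSub R 1 (∅ : Set (Fin (r + 1))))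
  (hAφ : ∀ (p : Fin m → (FlatMod.freeMod (Proj (Gr r R)) m ⟶ Coh.structureModule (Proj (Gr r R))))
      (_ : ∀ i j, Sigma.ι (fun _ : Fin m => Coh.structureModule (Proj (Gr r R))) j ≫ p i =
        if j = i then 𝟙 _ else 0)
      (k : Fin m) (s : Fin n),
      IsMul ((Sigma.ι (fun _ : Fin n => Od r R (-1)) s ≫ φ ≫ p k) ≫ unitIso.hom) (A k s))

include hA in
theorem entryMat_mem (j : Fin (r + 1)) (k : Fin m) (s : Fin n) :
    A k s * T (Finsupp.single j (-1 : ℤ)) ∈ allowedSub R 0 {l | 0 < qj j l} := by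
  have := mul_mem_allowedSub (mem_A A hA {l | 0 < qj j l} k s) (T_mem (R := R) (mem_qj j) (-1))
  simpa using this

/-- The dehomogenised matrix. -/
def matB (j : Fin (r + 1)) (k : Fin m) (s : Fin n) : Γ(Proj (Gr r R), Vj j) :=
  (theta_range (qj_pos j) (entryMat_mem hA j k s)).choose

theorem theta_matB (j : Fin (r + 1)) (k : Fin m) (s : Fin n) :
    theta (qj_pos j) (matB hA j k s) = A k s * T (Finsupp.single j (-1 : ℤ)) :=
  (theta_range (qj_pos j) (entryMat_mem hA j k s)).choose_spec

theorem T_single_pow (j : Fin (r + 1)) : ∀ p : ℕ,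
    (T (Finsupp.single j (-1 : ℤ)) : L r R) ^ p = T (-Finsupp.single j (p : ℤ))
  | 0 => by simp [T_zero]
  | p + 1 => by
    rw [pow_succ, T_single_pow j p, T_mul, Nat.cast_succ, Finsupp.single_add, neg_add, ← Finsupp.single_neg,
      ← Finsupp.single_neg]

theorem det_matB (j : Fin (r + 1)) {T₀ : Finset (Fin n)} (hT₀ : T₀.card = m) :
    (Matrix.of fun k q => matB hA j k (T₀.orderEmbOfFin hT₀ q)).det = discSec A hA j T₀ := by
  refine theta_injective (qj_pos j) ?_
  rw [theta_discSec, RingHom.map_det, disc, minor, dif_pos hT₀]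
  rw [show (theta (qj_pos j)).mapMatrix (Matrix.of fun k q => matB hA j k (T₀.orderEmbOfFin hT₀ q)) =
      (T (Finsupp.single j (-1 : ℤ)) : L r R) • Matrix.of fun k q => A k (T₀.orderEmbOfFin hT₀ q) from by
    ext k q
    simp [theta_matB, mul_comm]]
  rw [Matrix.det_smul, Fintype.card_fin, T_single_pow, mul_comm]

include hAφ in
/-- On a chart the Fitting ideal of the cokernel is generated by the dehomogenised maximal minors. -/
theorem ideal_cokernel (j : Fin (r + 1)) :
    Fitt.ideal Γ(Proj (Gr r R), Vj j) Γ(cokernel φ, Vj j) 0 =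
      Ideal.span (Set.range fun T₀ : {T₀ : Finset (Fin n) // T₀.card = m} => discSec A hA j T₀.1) := by
  classical
  set X := Proj (Gr r R)
  obtain ⟨p, hp, -⟩ := H29Fitt.exists_coord (X := X) m
  have hV := isAffineOpen_Vj (R := R) j
  let F : Fin n → X.Modules := fun _ => Od r R (-1)
  have hsrc : Coh.IsQCoh (∐ F) := by
    haveI := @H10Coh.isQuasicoherent_biproduct _ _ _ F fun _ => H11Tilde.tilde_isQuasicoherent (Gr r R) (Gr r R) _
    exact H10Coh.isQuasicoherent_of_iso (biproduct.isoCoproduct F)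
  have htgt : Coh.IsQCoh (FlatMod.freeMod X m) := H29Fitt.isQuasicoherent_freeMod X m
  obtain ⟨g, hg⟩ := psi_range (d := -1) (qj_pos j) (T_mem (R := R) (mem_qj j) (-1))
  let π := H17.FPExt.appLin' (cokernel.π φ) (Vj j)
  let x : Fin m → Γ(cokernel φ, Vj j) := fun k => π (H29Fitt.gen X m k (Vj j))
  have hx : Submodule.span Γ(X, Vj j) (Set.range x) = ⊤ := by
    rw [show Set.range x = π '' Set.range (fun k => H29Fitt.gen X m k (Vj j)) from Set.range_comp π _,
      ← Submodule.map_span, H29Fitt.gen_span, Submodule.map_top, LinearMap.range_eq_top]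
    haveI : (∐ F).IsQuasicoherent := hsrc
    haveI : (FlatMod.freeMod X m).IsQuasicoherent := htgt
    haveI := H10Coh.isQuasicoherent_cokernel φ
    exact H10Coh.surjective_app_of_epi (cokernel.π φ) hV
  have hgen : ∀ k l, (p k).app (Vj j) (H29Fitt.gen X m l (Vj j)) = if l = k then H10Coh.oneSec (Vj j) else 0 := by
    intro k l
    rw [H29Fitt.gen, ← ConcreteCategory.comp_apply, ← Scheme.Modules.Hom.comp_app, hp]
    split_ifs <;> rfl
  have hcol : ∀ s : Fin n, φ.app (Vj j) ((Sigma.ι F s).app (Vj j) g) =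
      ∑ k, matB hA j k s • H29Fitt.gen X m k (Vj j) := by
    intro s
    obtain ⟨c, hc⟩ := H29Fitt.exists_eq_sum_gen (X := X) m (Vj j) (φ.app (Vj j) ((Sigma.ι F s).app (Vj j) g))
    rw [← hc]
    refine Finset.sum_congr rfl fun k _ => congrArg (fun a : Γ(X, Vj j) => a • H29Fitt.gen X m k (Vj j))
      (theta_injective (qj_pos j) ?_)
    rw [theta_matB]
    have h1 := hAφ p hp k s (qj j) (qj_pos j) g
    rw [hg] at h1
    rw [← h1]
    have h2 : (p k).app (Vj j) (∑ l, c l • H29Fitt.gen X m l (Vj j)) = c k • H10Coh.oneSec (Vj j) := by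
      simp only [map_sum, Scheme.Modules.Hom.app_smul, hgen, smul_ite, smul_zero, Finset.sum_ite_eq',
        Finset.mem_univ, if_true]
    rw [hc] at h2
    show _ = psi (qj_pos j) (unitIso.hom.app (Vj j) ((p k).app (Vj j) (φ.app (Vj j) ((Sigma.ι F s).app (Vj j) g))))
    rw [h2, psi_unitIso]
    exact congrArg (theta (qj_pos j)) (mul_one (c k)).symm
  have hrel : ∀ s, ∑ k, matB hA j k s • x k = 0 := by
    intro s
    simp only [x, ← map_smul, ← map_sum]
    rw [← hcol s]
    exact congr($(congr(Scheme.Modules.Hom.app $(cokernel.condition φ) (Vj j))) ((Sigma.ι F s).app (Vj j) g))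
  rw [H29Fitt.ideal_eq x hx, Nat.sub_zero]
  refine le_antisymm (H29Fitt.J_le_of_span (Set.range fun s : Fin n => fun k => matB hA j k s) ?_ ?_) ?_
  · intro c hc
    have hc' : (cokernel.π φ).app (Vj j) (∑ k, c k • H29Fitt.gen X m k (Vj j)) = 0 := by
      rw [map_sum, ← hc]
      exact Finset.sum_congr rfl fun k _ => Scheme.Modules.Hom.app_smul _ _ _
    obtain ⟨a, ha⟩ := ENGen.exists_app_eq_of_cokernel_π hsrc htgt φ hV _ hc'
    let q : ∀ s, ∐ F ⟶ F s := fun s => (biproduct.isoCoproduct F).inv ≫ biproduct.π F s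
    have hq : ∑ s, q s ≫ Sigma.ι F s = 𝟙 _ := by
      calc ∑ s, q s ≫ Sigma.ι F s
          = (biproduct.isoCoproduct F).inv ≫ (∑ s, biproduct.π F s ≫ biproduct.ι F s) ≫
              (biproduct.isoCoproduct F).hom := by
            rw [Preadditive.sum_comp, Preadditive.comp_sum]
            refine Finset.sum_congr rfl fun s _ => ?_
            simp [q]
        _ = 𝟙 _ := by rw [biproduct.total, Category.id_comp, Iso.inv_hom_id]
    choose ρ hρ using fun s => exists_smul_eq (qj_pos j) (e := Finsupp.single j (-1 : ℤ))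
      (fun i hi => by
        have : j ≠ i := fun h => by subst h; exact absurd (mem_qj j) (by simp [hi])
        simp [this]) hg (by simp [deg]) ((q s).app (Vj j) a)
    have ha' : a = ∑ s, ρ s • (Sigma.ι F s).app (Vj j) g := by
      have h3 := congr($(congr(Scheme.Modules.Hom.app $hq (Vj j))) a)
      refine h3.symm.trans ((ExtPowSum.app_sum _ _ _ _).trans (Finset.sum_congr rfl fun s _ => ?_))
      show (Sigma.ι F s).app (Vj j) ((q s).app (Vj j) a) = _
      rw [hρ s, Scheme.Modules.Hom.app_smul]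
    have h4 : ∑ k, (c k - ∑ s, ρ s * matB hA j k s) • H29Fitt.gen X m k (Vj j) = 0 := by
      simp only [sub_smul, Finset.sum_sub_distrib, Finset.sum_smul, mul_smul]
      rw [Finset.sum_comm]
      simp only [← Finset.smul_sum, ← hcol]
      rw [sub_eq_zero, ← ha, ha', map_sum]
      exact Finset.sum_congr rfl fun s _ => Scheme.Modules.Hom.app_smul _ _ _
    have h5 : c = ∑ s, ρ s • fun k => matB hA j k s := by
      funext k
      rw [Finset.sum_apply]
      exact sub_eq_zero.1 (congrFun (H29Fitt.gen_independent m _ _ h4) k)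
    rw [h5]
    exact Submodule.sum_mem _ fun s _ => Submodule.smul_mem _ _ (Submodule.subset_span ⟨s, rfl⟩)
  · intro z e hz
    choose s hs using hz
    have hz' : (Matrix.of fun a b => z b (e a)) = Matrix.of fun a b => matB hA j (e a) (s b) := by
      ext a b
      exact congrFun (hs b).symm (e a)
    rw [hz']
    refine det_mem_of_minor_mem (fun k q => matB hA j k q) _ (fun T₀ hT₀ => ?_) e s
    rw [dif_pos hT₀, det_matB]
    exact Ideal.subset_span ⟨⟨T₀, hT₀⟩, rfl⟩
  · rw [Ideal.span_le]
    rintro _ ⟨⟨T₀, hT₀⟩, rfl⟩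
    have := H29Fitt.det_mem_J (x := x) (z := fun b k => matB hA j k (T₀.orderEmbOfFin hT₀ b))
      (fun b => hrel _) id
    show discSec A hA j T₀ ∈ _
    rw [← det_matB hA j hT₀]
    exact this

end presentation

end Groth.Agent.H22Alg.EN
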