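import Groth.Agent.H29Fitt.Sheaf
import Groth.Agent.H29Blow.IdealMod
import Groth.Agent.H10Coh.QCohOps
import Groth.Agent.H17.FPExt.Closure
import Groth.Prelude.Def_CohB1

/-!
# Quasi-coherent sheaves from their sections on an affine cover
-/

set_option autoImplicit false

universe u

open CategoryTheory CategoryTheory.Limits AlgebraicGeometry TopologicalSpace Opposite

namespace Groth.Agent.H22Alg.ENGen

variable {X : Scheme.{u}}

theorem app_res {M N : X.Modules} (f : M ⟶ N) {U V : X.Opens} (h : V ≤ U) (s : Γ(M, U)) :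
    f.app V (M.presheaf.map (homOfLE h).op s) = N.presheaf.map (homOfLE h).op (f.app U s) :=
  congr($(f.mapPresheaf.naturality (homOfLE h).op) s)

/-- A morphism out of a quasi-coherent module which vanishes on the sections over an affine cover is zero. -/
theorem eq_zero_of_cover {M N : X.Modules} (hM : Coh.IsQCoh M) (f : M ⟶ N) {ι : Type*} (V : ι → X.Opens)
    (hV : ∀ i, IsAffineOpen (V i)) (hcov : ∀ x : X, ∃ i, x ∈ V i) (h : ∀ i s, f.app (V i) s = 0) :
    f = 0 := by
  refine Scheme.Modules.hom_ext _ _ fun W => ConcreteCategory.hom_ext _ _ fun s => ?_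
  have hloc : ∀ x ∈ W, ∃ D : X.Opens, x ∈ D ∧ ∃ hD : D ≤ W,
      N.presheaf.map (homOfLE hD).op (f.app W s) = 0 := by
    intro x hx
    obtain ⟨i, hi⟩ := hcov x
    obtain ⟨g, hg, hxg⟩ := (hV i).exists_basicOpen_le (V := W) ⟨x, hx⟩ hi
    refine ⟨_, hxg, hg, ?_⟩
    obtain ⟨p, s', hs'⟩ := H29Blow.exists_pow_smul_eq_res M hM (hV i) g (M.presheaf.map (homOfLE hg).op s)
    have h1 := congrArg (f.app (X.basicOpen g)) hs'
    rw [app_res, h, map_zero, f.app_smul, app_res] at h1
    have hu : IsUnit (X.presheaf.map (homOfLE (X.basicOpen_le g)).op (g ^ p)) := by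
      rw [map_pow]; exact (X.toRingedSpace.isUnit_res_basicOpen g).pow p
    exact hu.smul_eq_zero.1 h1.symm
  choose D hxD hDW hD using hloc
  refine TopCat.Sheaf.eq_of_locally_eq' (H10Coh.sheafOf N) (fun x : W => D x.1 x.2) W
    (fun x => homOfLE (hDW x.1 x.2)) ?_ _ _ fun x => ?_
  · exact fun x hx => Opens.mem_iSup.2 ⟨⟨x, hx⟩, hxD x hx⟩
  · exact (hD x.1 x.2).trans (map_zero _).symm

/-- A quasi-coherent module without sections on an affine cover is zero. -/
theorem isZero_of_cover {M : X.Modules} (hM : Coh.IsQCoh M) {ι : Type*} (V : ι → X.Opens)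
    (hV : ∀ i, IsAffineOpen (V i)) (hcov : ∀ x : X, ∃ i, x ∈ V i) (h : ∀ i (s : Γ(M, V i)), s = 0) :
    IsZero M :=
  (IsZero.iff_id_eq_zero M).2 (eq_zero_of_cover hM _ V hV hcov fun i s => h i s)

/-- Surjectivity on the sections over an affine cover gives an epimorphism. -/
theorem epi_of_cover {M N : X.Modules} (hM : Coh.IsQCoh M) (hN : Coh.IsQCoh N) (f : M ⟶ N) {ι : Type*}
    (V : ι → X.Opens) (hV : ∀ i, IsAffineOpen (V i)) (hcov : ∀ x : X, ∃ i, x ∈ V i)
    (h : ∀ i, Function.Surjective (f.app (V i))) : Epi f := by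
  haveI : M.IsQuasicoherent := hM
  haveI : N.IsQuasicoherent := hN
  refine Preadditive.epi_of_cokernel_zero ?_
  refine eq_zero_of_cover hN _ V hV hcov fun i s => ?_
  obtain ⟨m, rfl⟩ := h i s
  exact congr($(congr(Scheme.Modules.Hom.app $(cokernel.condition f) (V i))) m)

/-- If the sections over an affine `V` are killed by a power of `δ` then the support avoids `D(δ)`. -/
theorem notMem_support {M : X.Modules} (hM : Coh.IsQCoh M) {V : X.Opens} (hV : IsAffineOpen V) (δ : Γ(X, V))
    (N : ℕ) (h : ∀ s : Γ(M, V), δ ^ N • s = 0) {x : X} (hx : x ∈ X.basicOpen δ) :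
    x ∉ CohB1.support M := by
  have hxV : x ∈ V := X.basicOpen_le δ hx
  letI := TopCat.Presheaf.algebra_section_stalk X.presheaf (⟨x, hxV⟩ : V)
  letI := Module.compHom (M.presheaf.stalk x) (algebraMap Γ(X, V) (X.presheaf.stalk x))
  have hloc := H29Fitt.isLocalizedModule_germLin M hM hV (⟨x, hxV⟩ : V)
  have hu : IsUnit (algebraMap Γ(X, V) (X.presheaf.stalk x) δ) := (X.mem_basicOpen δ x hxV).1 hx
  refine fun hsupp => hsupp (subsingleton_of_forall_eq 0 fun m => ?_)
  obtain ⟨⟨t, c⟩, htc⟩ := hloc.surj m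
  have h1 : algebraMap Γ(X, V) (X.presheaf.stalk x) (δ ^ N) •
      (H29Fitt.germLin M (⟨x, hxV⟩ : V) t) = 0 := by
    change δ ^ N • H29Fitt.germLin M (⟨x, hxV⟩ : V) t = 0
    rw [← map_smul, h, map_zero]
  rw [← htc] at h1
  have h2 : IsUnit (algebraMap Γ(X, V) (X.presheaf.stalk x) (δ ^ N)) := by rw [map_pow]; exact hu.pow N
  have h3 := h2.smul_eq_zero.1 h1
  haveI := hV.isLocalization_stalk (⟨x, hxV⟩ : V)
  have hc : IsUnit (algebraMap Γ(X, V) (X.presheaf.stalk x) c) := IsLocalization.map_units _ c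
  exact hc.smul_eq_zero.1 h3

/-- If on an affine `V` cycles become boundaries after multiplying by a power of `δ`, the homology avoids
`D(δ)`. -/
theorem notMem_support_homology {A B C : X.Modules} (hA : Coh.IsQCoh A) (hB : Coh.IsQCoh B) (hC : Coh.IsQCoh C)
    (f : A ⟶ B) (g : B ⟶ C) (w : f ≫ g = 0) {V : X.Opens} (hV : IsAffineOpen V) (δ : Γ(X, V)) (N : ℕ)
    (h : ∀ z : Γ(B, V), g.app V z = 0 → ∃ y, f.app V y = δ ^ N • z) {x : X} (hx : x ∈ X.basicOpen δ) :
    x ∉ CohB1.support (cokernel (kernel.lift g f w)) := by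
  haveI : A.IsQuasicoherent := hA
  haveI : B.IsQuasicoherent := hB
  haveI : C.IsQuasicoherent := hC
  haveI : (kernel g).IsQuasicoherent := H10Coh.isQuasicoherent_kernel g
  haveI : (cokernel (kernel.lift g f w)).IsQuasicoherent := H10Coh.isQuasicoherent_cokernel _
  refine notMem_support (M := cokernel (kernel.lift g f w))
    (inferInstanceAs (cokernel (kernel.lift g f w)).IsQuasicoherent) hV δ N (fun s => ?_) hx
  obtain ⟨s₀, rfl⟩ := H10Coh.surjective_app_of_epi (cokernel.π (kernel.lift g f w)) hV s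
  obtain ⟨y, hy⟩ := h ((kernel.ι g).app V s₀)
    (congr($(congr(Scheme.Modules.Hom.app $(kernel.condition g) V)) s₀))
  have h1 : (kernel.lift g f w).app V y = δ ^ N • s₀ := by
    refine H10Coh.injective_app_of_mono' (kernel.ι g) V ?_
    rw [Scheme.Modules.Hom.app_smul, ← hy]
    exact congr($(congr(Scheme.Modules.Hom.app $(kernel.lift_ι g f w) V)) y)
  rw [← Scheme.Modules.Hom.app_smul, ← h1]
  exact congr($(congr(Scheme.Modules.Hom.app $(cokernel.condition (kernel.lift g f w)) V)) y)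

/-- Exactness of sections at the target over an affine open. -/
theorem exists_app_eq_of_cokernel_π {A B : X.Modules} (hA : Coh.IsQCoh A) (hB : Coh.IsQCoh B) (φ : A ⟶ B)
    {V : X.Opens} (hV : IsAffineOpen V) (t : Γ(B, V)) (ht : (cokernel.π φ).app V t = 0) :
    ∃ a, φ.app V a = t := by
  haveI : A.IsQuasicoherent := hA
  haveI : B.IsQuasicoherent := hB
  haveI := H10Coh.isQuasicoherent_cokernel φ
  haveI : (kernel (cokernel.π φ)).IsQuasicoherent := H10Coh.isQuasicoherent_kernel _
  haveI : (Abelian.image φ).IsQuasicoherent := inferInstanceAs (kernel (cokernel.π φ)).IsQuasicoherent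
  obtain ⟨s, hs⟩ := H17.FPExt.exists_kernel_preimage (cokernel.π φ) V t ht
  obtain ⟨a, ha⟩ := H10Coh.surjective_app_of_epi (Abelian.factorThruImage φ) hV s
  refine ⟨a, ?_⟩
  rw [← hs]
  refine Eq.trans ?_ (congrArg ((kernel.ι (cokernel.π φ)).app V) ha)
  rw [← ConcreteCategory.comp_apply, ← Scheme.Modules.Hom.comp_app, Abelian.image.fac]

end Groth.Agent.H22Alg.ENGen
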