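import Mathlib.LinearAlgebra.Matrix.Adjugate
import Mathlib.LinearAlgebra.Matrix.Determinant.Basic
import Mathlib.Data.Finset.Sort
import Mathlib.Data.Finset.Powerset
import Mathlib.Algebra.Module.Submodule.Basic
import Mathlib.Data.Fintype.BigOperators
import Mathlib.Tactic.Ring
import Mathlib.Tactic.LinearCombination

/-!
# Contractions and exterior multiplications on functions on finite subsets

A function `w` on finite subsets of `Fin n` stands for the form `∑ w T • e_T`.
-/

set_option autoImplicit false

universe u

open Finset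

namespace Groth.Agent.H22Alg.EN

variable {n : ℕ} {R : Type u} [CommRing R]

/-- The sign of moving `s` to its place in `T`. -/
def sgn (s : Fin n) (T : Finset (Fin n)) : R := (-1) ^ #{x ∈ T | x < s}

theorem sgn_insert (s t : Fin n) (T : Finset (Fin n)) (ht : t ∉ T) :
    (sgn s (insert t T) : R) = (if t < s then -1 else 1) * sgn s T := by
  rw [sgn, sgn, Finset.filter_insert]
  split_ifs with h
  · rw [Finset.card_insert_of_notMem (fun h' => ht (Finset.mem_filter.1 h').1), pow_succ]
    ring
  · rw [one_mul]

theorem sgn_sq (s : Fin n) (T : Finset (Fin n)) : (sgn s T : R) * sgn s T = 1 := by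
  rw [sgn, ← mul_pow, neg_one_mul, neg_neg, one_pow]

/-- Contraction with the covector `a`. -/
def iota (a : Fin n → R) : (Finset (Fin n) → R) →ₗ[R] (Finset (Fin n) → R) where
  toFun w T := ∑ s, if s ∈ T then 0 else sgn s T * a s * w (insert s T)
  map_add' w w' := by
    funext T
    simp only [Pi.add_apply, ← Finset.sum_add_distrib]
    refine Finset.sum_congr rfl fun s _ => ?_
    split_ifs <;> ring
  map_smul' c w := by
    funext T
    simp only [Pi.smul_apply, smul_eq_mul, RingHom.id_apply, Finset.mul_sum]
    refine Finset.sum_congr rfl fun s _ => ?_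
    split_ifs <;> ring

/-- Exterior multiplication by the vector `u`. -/
def wedge (u : Fin n → R) : (Finset (Fin n) → R) →ₗ[R] (Finset (Fin n) → R) where
  toFun w T := ∑ s, if s ∈ T then sgn s T * u s * w (T.erase s) else 0
  map_add' w w' := by
    funext T
    simp only [Pi.add_apply, ← Finset.sum_add_distrib]
    refine Finset.sum_congr rfl fun s _ => ?_
    split_ifs <;> ring
  map_smul' c w := by
    funext T
    simp only [Pi.smul_apply, smul_eq_mul, RingHom.id_apply, Finset.mul_sum]
    refine Finset.sum_congr rfl fun s _ => ?_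
    split_ifs <;> ring

theorem iota_apply (a : Fin n → R) (w : Finset (Fin n) → R) (T : Finset (Fin n)) :
    iota a w T = ∑ s, if s ∈ T then 0 else sgn s T * a s * w (insert s T) := rfl

theorem wedge_apply (u : Fin n → R) (w : Finset (Fin n) → R) (T : Finset (Fin n)) :
    wedge u w T = ∑ s, if s ∈ T then sgn s T * u s * w (T.erase s) else 0 := rfl

theorem iota_iota_apply (a b : Fin n → R) (w : Finset (Fin n) → R) (T : Finset (Fin n)) :
    iota a (iota b w) T = ∑ s, ∑ t, if s ∈ T ∨ t ∈ T ∨ t = s then 0 else
      a s * b t * (sgn s T * sgn t (insert s T)) * w (insert t (insert s T)) := by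
  rw [iota_apply]
  refine Finset.sum_congr rfl fun s _ => ?_
  by_cases hs : s ∈ T
  · simp [hs]
  · rw [if_neg hs, iota_apply, Finset.mul_sum]
    refine Finset.sum_congr rfl fun t _ => ?_
    by_cases ht : t ∈ T ∨ t = s
    · rw [if_pos (by rcases ht with h | h <;> simp [h]), if_pos (Or.inr ht), mul_zero]
    · push Not at ht
      rw [if_neg (by simp [ht.1, ht.2]), if_neg (by simp [hs, ht.1, ht.2])]
      ring

theorem sgn_flip {s t : Fin n} {T : Finset (Fin n)} (hs : s ∉ T) (ht : t ∉ T) (hne : t ≠ s) :
    (sgn s T * sgn t (insert s T) : R) = -(sgn t T * sgn s (insert t T)) := by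
  rw [sgn_insert t s T hs, sgn_insert s t T ht]
  rcases lt_trichotomy s t with h | h | h
  · rw [if_pos h, if_neg (lt_asymm h)]; ring
  · exact absurd h.symm hne
  · rw [if_neg (lt_asymm h), if_pos h]; ring

theorem iota_anti (a b : Fin n → R) (w : Finset (Fin n) → R) :
    iota a (iota b w) = -iota b (iota a w) := by
  funext T
  rw [Pi.neg_apply, iota_iota_apply, iota_iota_apply, eq_neg_iff_add_eq_zero]
  conv_lhs => arg 2; rw [Finset.sum_comm]
  rw [← Finset.sum_add_distrib]
  refine Finset.sum_eq_zero fun s _ => ?_
  rw [← Finset.sum_add_distrib]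
  refine Finset.sum_eq_zero fun t _ => ?_
  by_cases h : s ∈ T ∨ t ∈ T ∨ t = s
  · rw [if_pos h, if_pos (by tauto), add_zero]
  · rw [if_neg h, if_neg (by tauto)]
    push Not at h
    rw [sgn_flip h.1 h.2.1 h.2.2, Finset.insert_comm s t]
    ring

theorem iota_sq (a : Fin n → R) (w : Finset (Fin n) → R) : iota a (iota a w) = 0 := by
  funext T
  rw [iota_iota_apply, Pi.zero_apply, ← Fintype.sum_prod_type']
  refine Finset.sum_involution (fun p _ => (p.2, p.1)) (fun p _ => ?_) (fun p _ hp h => ?_)
    (fun p _ => Finset.mem_univ _) (fun p _ => rfl)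
  · dsimp only
    by_cases h : p.1 ∈ T ∨ p.2 ∈ T ∨ p.2 = p.1
    · rw [if_pos h, if_pos (by tauto), add_zero]
    · rw [if_neg h, if_neg (by tauto)]
      push Not at h
      rw [sgn_flip h.1 h.2.1 h.2.2, Finset.insert_comm p.1 p.2]
      ring
  · exact hp (if_pos (Or.inr (Or.inr (congrArg Prod.fst h))))

theorem iota_wedge (a u : Fin n → R) (w : Finset (Fin n) → R) :
    iota a (wedge u w) + wedge u (iota a w) = (∑ s, a s * u s) • w := by
  funext T
  simp only [Pi.add_apply, Pi.smul_apply, smul_eq_mul, iota_apply, wedge_apply]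
  have h1 : ∀ s, (if s ∈ T then (0 : R) else sgn s T * a s *
        ∑ t, if t ∈ insert s T then sgn t (insert s T) * u t * w ((insert s T).erase t) else 0) =
      ∑ t, if s ∈ T then 0 else if t = s then a s * u s * w T else
        if t ∈ T then a s * u t * (sgn s T * sgn t (insert s T)) * w ((insert s T).erase t) else 0 := by
    intro s
    by_cases hs : s ∈ T
    · simp [hs]
    · rw [if_neg hs, Finset.mul_sum]
      refine Finset.sum_congr rfl fun t _ => ?_
      rw [if_neg hs]
      by_cases ht : t = s
      · subst ht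
        rw [if_pos rfl, if_pos (Finset.mem_insert_self t T), Finset.erase_insert hs]
        have : (sgn t (insert t T) : R) = sgn t T := by rw [sgn_insert t t T hs, if_neg (lt_irrefl t), one_mul]
        rw [this]
        linear_combination (a t * u t * w T) * sgn_sq (R := R) t T
      · rw [if_neg ht]
        by_cases ht' : t ∈ T
        · rw [if_pos (Finset.mem_insert_of_mem ht'), if_pos ht']
          ring
        · rw [if_neg (by simp [ht, ht']), if_neg ht', mul_zero]
  have h2 : ∀ t, (if t ∈ T then sgn t T * u t *
        ∑ s, (if s ∈ T.erase t then 0 else sgn s (T.erase t) * a s * w (insert s (T.erase t))) else 0) =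
      ∑ s, if t ∈ T then (if t = s then a s * u s * w T else
        if s ∈ T then 0 else -(a s * u t * (sgn s T * sgn t (insert s T)) * w ((insert s T).erase t))) else 0 := by
    intro t
    by_cases ht : t ∈ T
    · rw [if_pos ht, Finset.mul_sum]
      refine Finset.sum_congr rfl fun s _ => ?_
      rw [if_pos ht]
      by_cases hts : t = s
      · subst hts
        rw [if_pos rfl, if_neg (Finset.notMem_erase t T), Finset.insert_erase ht]
        have : (sgn t T : R) = sgn t (T.erase t) := by
          conv_lhs => rw [← Finset.insert_erase ht]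
          rw [sgn_insert t t _ (Finset.notMem_erase t T), if_neg (lt_irrefl t), one_mul]
        rw [this]
        linear_combination (a t * u t * w T) * sgn_sq (R := R) t (T.erase t)
      · rw [if_neg hts]
        by_cases hs : s ∈ T
        · rw [if_pos hs, if_pos (Finset.mem_erase.2 ⟨Ne.symm hts, hs⟩), mul_zero]
        · rw [if_neg hs, if_neg (fun h => hs (Finset.mem_of_mem_erase h)),
            Finset.erase_insert_of_ne (Ne.symm hts)]
          have e1 : (sgn t (insert s T) : R) = (if s < t then -1 else 1) * sgn t T := sgn_insert t s T hs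
          have e2 : (sgn s T : R) = (if t < s then -1 else 1) * sgn s (T.erase t) := by
            conv_lhs => rw [← Finset.insert_erase ht]
            exact sgn_insert s t _ (Finset.notMem_erase t T)
          rw [e1, e2]
          rcases lt_trichotomy s t with h | h | h
          · rw [if_pos h, if_neg (lt_asymm h)]; ring
          · exact absurd h.symm hts
          · rw [if_neg (lt_asymm h), if_pos h]; ring
    · simp [ht]
  rw [Finset.sum_congr rfl fun s _ => h1 s, Finset.sum_congr rfl fun t _ => h2 t, Finset.sum_comm,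
    ← Finset.sum_add_distrib, Finset.sum_mul]
  refine Finset.sum_congr rfl fun t _ => ?_
  rw [← Finset.sum_add_distrib, Finset.sum_eq_single t (fun s _ hs => ?_) (by simp)]
  · by_cases ht : t ∈ T <;> simp [ht]
  · by_cases ht : t ∈ T <;> by_cases hs' : s ∈ T <;> simp [ht, hs', hs.symm]

/-- Iterated contraction, the first covector innermost. -/
def contr : ∀ {m : ℕ}, (Fin m → Fin n → R) → (Finset (Fin n) → R) →ₗ[R] (Finset (Fin n) → R)
  | 0, _ => LinearMap.id
  | _ + 1, A => (contr fun k => A k.succ) ∘ₗ iota (A 0)

/-- The maximal minor of `A` at the columns of a set. -/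
def minor {m : ℕ} (A : Fin m → Fin n → R) (T : Finset (Fin n)) : R :=
  if h : T.card = m then (Matrix.of fun k j => A k (T.orderEmbOfFin h j)).det else 0

theorem sum_sgn_minor {m : ℕ} (A : Fin (m + 1) → Fin n → R) (T : Finset (Fin n)) (hT : T.card = m + 1) :
    ∑ s ∈ T, sgn s (T.erase s) * A 0 s * minor (fun k => A k.succ) (T.erase s) = minor A T := by
  classical
  rw [show minor A T = _ from dif_pos hT, Matrix.det_succ_row_zero]
  conv_lhs => rw [← Finset.image_orderEmbOfFin_univ T hT]
  rw [Finset.sum_image (fun x _ y _ h => (T.orderEmbOfFin hT).injective h)]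
  refine Finset.sum_congr rfl fun j _ => ?_
  rw [Finset.image_orderEmbOfFin_univ T hT]
  have hmem := Finset.orderEmbOfFin_mem T hT j
  have hc : (T.erase (T.orderEmbOfFin hT j)).card = m := by
    rw [Finset.card_erase_of_mem hmem, hT]; rfl
  have hcard : #{x ∈ T.erase (T.orderEmbOfFin hT j) | x < T.orderEmbOfFin hT j} = (j : ℕ) := by
    have : {x ∈ T.erase (T.orderEmbOfFin hT j) | x < T.orderEmbOfFin hT j} =
        (Finset.Iio j).image (T.orderEmbOfFin hT) := by
      ext x
      simp only [Finset.mem_filter, Finset.mem_erase, Finset.mem_image, Finset.mem_Iio]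
      constructor
      · rintro ⟨⟨-, hx⟩, hlt⟩
        have hx' : x ∈ Set.range (T.orderEmbOfFin hT) := by
          rw [Finset.range_orderEmbOfFin]; exact hx
        obtain ⟨i, rfl⟩ := hx'
        exact ⟨i, (T.orderEmbOfFin hT).lt_iff_lt.1 hlt, rfl⟩
      · rintro ⟨i, hi, rfl⟩
        exact ⟨⟨(T.orderEmbOfFin hT).injective.ne hi.ne, Finset.orderEmbOfFin_mem T hT i⟩,
          (T.orderEmbOfFin hT).lt_iff_lt.2 hi⟩
    rw [this, Finset.card_image_of_injective _ (T.orderEmbOfFin hT).injective, Fin.card_Iio]
  have hemb : (fun i => T.orderEmbOfFin hT (j.succAbove i)) = (T.erase (T.orderEmbOfFin hT j)).orderEmbOfFin hc :=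
    Finset.orderEmbOfFin_unique hc (fun i => Finset.mem_erase.2
      ⟨fun h => Fin.succAbove_ne j i ((T.orderEmbOfFin hT).injective h), Finset.orderEmbOfFin_mem T hT _⟩)
      ((T.orderEmbOfFin hT).strictMono.comp (Fin.strictMono_succAbove j))
  rw [sgn, hcard, show minor (fun k => A k.succ) _ = _ from dif_pos hc]
  simp only [Matrix.of_apply]
  refine congrArg _ (congrArg Matrix.det ?_)
  ext k i
  simp only [Matrix.submatrix_apply, Matrix.of_apply, ← hemb]

theorem contr_empty : ∀ {m : ℕ} (A : Fin m → Fin n → R) (w : Finset (Fin n) → R),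
    contr A w ∅ = ∑ T ∈ Finset.powersetCard m univ, minor A T * w T
  | 0, A, w => by
    simp [contr, minor]
  | m + 1, A, w => by
    classical
    rw [contr, LinearMap.comp_apply, contr_empty (fun k => A k.succ)]
    simp only [iota_apply, Finset.mul_sum, mul_ite, mul_zero]
    have key : ∀ T' ∈ Finset.powersetCard (m + 1) (univ : Finset (Fin n)), minor A T' * w T' =
        ∑ s ∈ T', minor (fun k => A k.succ) (T'.erase s) * (sgn s (T'.erase s) * A 0 s * w T') := by
      intro T' hT'
      rw [← sum_sgn_minor A T' (Finset.mem_powersetCard.1 hT').2, Finset.sum_mul]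
      exact Finset.sum_congr rfl fun s _ => by ring
    rw [Finset.sum_congr rfl key]
    have hc : ∀ (T : Finset (Fin n)) (f : Fin n → R),
        (∑ s, if s ∈ T then 0 else f s) = ∑ s ∈ Tᶜ, f s := by
      intro T f
      rw [← Finset.sum_add_sum_compl T, Finset.sum_eq_zero (fun s hs => if_pos hs), zero_add]
      exact Finset.sum_congr rfl fun s hs => if_neg (Finset.mem_compl.1 hs)
    simp only [hc]
    rw [Finset.sum_sigma', Finset.sum_sigma']
    refine Finset.sum_bij' (fun x _ => ⟨insert x.2 x.1, x.2⟩) (fun x _ => ⟨x.1.erase x.2, x.2⟩) ?_ ?_ ?_ ?_ ?_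
    · rintro ⟨T, s⟩ h
      simp only [Finset.mem_sigma, Finset.mem_powersetCard, Finset.mem_compl] at h
      simp [Finset.mem_sigma, Finset.mem_powersetCard, Finset.card_insert_of_notMem h.2, h.1.2]
    · rintro ⟨T, s⟩ h
      simp only [Finset.mem_sigma, Finset.mem_powersetCard] at h
      simp [Finset.mem_sigma, Finset.mem_powersetCard, Finset.card_erase_of_mem h.2, h.1.2]
    · rintro ⟨T, s⟩ h
      simp only [Finset.mem_sigma, Finset.mem_compl] at h
      simp [Finset.erase_insert h.2]
    · rintro ⟨T, s⟩ h
      simp only [Finset.mem_sigma] at h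
      simp [Finset.insert_erase h.2]
    · rintro ⟨T, s⟩ h
      simp only [Finset.mem_sigma, Finset.mem_compl] at h
      simp only [Finset.erase_insert h.2]

end Groth.Agent.H22Alg.EN
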