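import Groth.Agent.H22Alg.ENOp
import Groth.Agent.H22Alg.ENWedge
import Groth.Agent.H10Coh.Pn.Laurent
import Mathlib.Algebra.Order.Antidiag.Pi

/-!
# The Eagon–Northcott complex of a matrix of linear forms, in Laurent polynomials
-/

set_option autoImplicit false

noncomputable section

universe u

open Finset Groth.Agent.H10Coh.Pn

namespace Groth.Agent.H22Alg.EN

variable {r n m : ℕ} {R : Type u} [CommRing R]

theorem mul_mem_allowedSub {a b : ℤ} {S : Set (Fin (r + 1))} {y z : L r R}
    (hy : y ∈ allowedSub R a S) (hz : z ∈ allowedSub R b S) : y * z ∈ allowedSub R (a + b) S := by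
  classical
  intro e he
  obtain ⟨f, hf, g, hg, rfl⟩ := Finset.mem_add.1
    (AddMonoidAlgebra.support_coeff_mul_subset _ _ (Finsupp.mem_support_iff.2 he))
  obtain ⟨h1, h2⟩ := hy f (Finsupp.mem_support_iff.1 hf)
  obtain ⟨h3, h4⟩ := hz g (Finsupp.mem_support_iff.1 hg)
  exact ⟨by rw [deg_add, h1, h3], fun i hi => by simpa using add_nonneg (h2 i hi) (h4 i hi)⟩

theorem allowedSub_mono {a : ℤ} {S S' : Set (Fin (r + 1))} (h : S ⊆ S') :
    allowedSub R a S ≤ allowedSub R a S' := fun _ hz e he => allowed_mono a h (hz e he)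

theorem one_mem_allowedSub (S : Set (Fin (r + 1))) : (1 : L r R) ∈ allowedSub R 0 S := by
  intro e he
  rw [← T_zero, T, AddMonoidAlgebra.coeff_single, Finsupp.single_apply] at he
  obtain rfl : (0 : Expo r) = e := by
    by_contra h
    exact he (if_neg h)
  exact ⟨by simp [deg], fun i _ => by simp⟩

theorem neg_one_pow_mul_mem {a : ℤ} {S : Set (Fin (r + 1))} {z : L r R} (hz : z ∈ allowedSub R a S) (k : ℕ) :
    (-1) ^ k * z ∈ allowedSub R a S := by
  rcases Nat.even_or_odd k with hk | hk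
  · rwa [hk.neg_one_pow, one_mul]
  · rw [hk.neg_one_pow, neg_one_mul]
    exact Submodule.neg_mem _ hz

theorem prod_mem_allowedSub {ι : Type*} (s : Finset ι) {d : ι → ℤ} {y : ι → L r R} {S : Set (Fin (r + 1))}
    (h : ∀ i ∈ s, y i ∈ allowedSub R (d i) S) : ∏ i ∈ s, y i ∈ allowedSub R (∑ i ∈ s, d i) S := by
  classical
  induction s using Finset.induction_on with
  | empty => simpa using one_mem_allowedSub S
  | insert a s ha ih =>
    rw [Finset.prod_insert ha, Finset.sum_insert ha]
    exact mul_mem_allowedSub (h a (Finset.mem_insert_self a s)) (ih fun i hi => h i (Finset.mem_insert_of_mem hi))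

theorem det_mem_allowedSub {p : ℕ} {d : Fin p → ℤ} {M : Matrix (Fin p) (Fin p) (L r R)} {S : Set (Fin (r + 1))}
    (h : ∀ i j, M i j ∈ allowedSub R (d i) S) : M.det ∈ allowedSub R (∑ i, d i) S := by
  rw [Matrix.det_apply]
  refine Submodule.sum_mem _ fun σ _ => ?_
  have : ∏ i, M (σ i) i ∈ allowedSub R (∑ i, d (σ i)) S := prod_mem_allowedSub _ fun i _ => h (σ i) i
  rw [Equiv.sum_comp σ d] at this
  rcases Int.units_eq_one_or (Equiv.Perm.sign σ) with hs | hs <;> rw [hs]
  · simpa using this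
  · simpa using Submodule.neg_mem _ this

variable (A : Fin m → Fin n → L r R)

/-- The graded pieces: forms of degree `m + i` with values in the allowed Laurent polynomials. -/
def Pc (c : ℤ) (S : Set (Fin (r + 1))) (i : ℕ) : AddSubgroup (Finset (Fin n) → L r R) where
  carrier := {w | (∀ T, T.card ≠ m + i → w T = 0) ∧ ∀ T, w T ∈ allowedSub R (c - (m + i)) S}
  zero_mem' := ⟨fun _ _ => rfl, fun _ => Submodule.zero_mem _⟩
  add_mem' hv hw := ⟨fun T h => by simp [hv.1 T h, hw.1 T h], fun T => Submodule.add_mem _ (hv.2 T) (hw.2 T)⟩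
  neg_mem' hv := ⟨fun T h => by simp [hv.1 T h], fun T => Submodule.neg_mem _ (hv.2 T)⟩

theorem mem_Pc {c : ℤ} {S : Set (Fin (r + 1))} {i : ℕ} {w : Finset (Fin n) → L r R} :
    w ∈ Pc (m := m) c S i ↔
      (∀ T, T.card ≠ m + i → w T = 0) ∧ ∀ T, w T ∈ allowedSub R (c - (m + i)) S := Iff.rfl

theorem iota_mem_Pc {c : ℤ} {S : Set (Fin (r + 1))} {i : ℕ} {a : Fin n → L r R}
    (ha : ∀ s, a s ∈ allowedSub R 1 S) {w : Finset (Fin n) → L r R} (hw : w ∈ Pc (m := m) c S (i + 1)) :
    iota a w ∈ Pc (m := m) c S i := by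
  refine ⟨fun T hT => (iota_apply _ _ _).trans (Finset.sum_eq_zero fun s _ => ?_), fun T => ?_⟩
  · split_ifs with hs
    · rfl
    · rw [hw.1 _ (by rw [Finset.card_insert_of_notMem hs]; omega), mul_zero]
  · rw [iota_apply]
    refine Submodule.sum_mem _ fun s _ => ?_
    split_ifs with hs
    · exact Submodule.zero_mem _
    · rw [sgn, mul_assoc]
      refine neg_one_pow_mul_mem ?_ _
      have := mul_mem_allowedSub (ha s) (hw.2 (insert s T))
      rwa [show (1 : ℤ) + (c - ((m : ℤ) + ((i + 1 : ℕ) : ℤ))) = c - ((m : ℤ) + (i : ℤ)) by omega] at this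

theorem wedge_mem_Pc {c : ℤ} {S : Set (Fin (r + 1))} {i : ℕ} {v : Fin n → L r R}
    (hv : ∀ s, v s ∈ allowedSub R (-1) S) {w : Finset (Fin n) → L r R} (hw : w ∈ Pc (m := m) c S i) :
    wedge v w ∈ Pc (m := m) c S (i + 1) := by
  refine ⟨fun T hT => (wedge_apply _ _ _).trans (Finset.sum_eq_zero fun s _ => ?_), fun T => ?_⟩
  · split_ifs with hs
    · have h1 := Finset.card_erase_of_mem hs
      have h2 := Finset.card_pos.2 ⟨s, hs⟩
      rw [hw.1 _ (by omega), mul_zero]
    · rfl
  · rw [wedge_apply]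
    refine Submodule.sum_mem _ fun s _ => ?_
    split_ifs with hs
    · rw [sgn, mul_assoc]
      refine neg_one_pow_mul_mem ?_ _
      have := mul_mem_allowedSub (hv s) (hw.2 (T.erase s))
      rwa [show (-1 : ℤ) + (c - ((m : ℤ) + (i : ℤ))) = c - ((m : ℤ) + ((i + 1 : ℕ) : ℤ)) by omega] at this
    · exact Submodule.zero_mem _

theorem iota_supp {a : Fin n → L r R} {p : ℕ} {w : Finset (Fin n) → L r R}
    (hw : ∀ T, T.card ≠ p + 1 → w T = 0) (T : Finset (Fin n)) (hT : T.card ≠ p) : iota a w T = 0 := by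
  rw [iota_apply]
  refine Finset.sum_eq_zero fun s _ => ?_
  split_ifs with hs
  · rfl
  · rw [hw _ (by rw [Finset.card_insert_of_notMem hs]; omega), mul_zero]

theorem contr_supp : ∀ {m : ℕ} (A : Fin m → Fin n → L r R) (p : ℕ) (w : Finset (Fin n) → L r R),
    (∀ T, T.card ≠ p + m → w T = 0) → ∀ T, T.card ≠ p → contr A w T = 0
  | 0, _, _, _, hw => hw
  | m + 1, A, p, w, hw => by
    rw [contr, LinearMap.comp_apply]
    exact contr_supp (fun k => A k.succ) p _ (iota_supp hw)

theorem foldr_eq_contr : ∀ {m : ℕ} (A : Fin m → Fin n → L r R) (v : Finset (Fin n) → L r R),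
    (List.finRange m).reverse.foldr (fun k x => iota (A k) x) v = contr A v
  | 0, _, _ => rfl
  | m + 1, A, v => by
    rw [List.finRange_succ, List.reverse_cons, List.foldr_append, ← List.map_reverse, List.foldr_map]
    exact foldr_eq_contr (fun k => A k.succ) _

/-- The index set of the `i`-th term. -/
abbrev Idx (m n i : ℕ) : Type :=
  ↥(Finset.piAntidiag (univ : Finset (Fin m)) i) × ↥(Finset.powersetCard (m + i) (univ : Finset (Fin n)))

/-- A family on the index set as a graded function. -/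
def toFun {i : ℕ} (z : Idx m n i → L r R) : (Fin m → ℕ) → Finset (Fin n) → L r R :=
  ∑ x, z x • Pi.single (x.1 : Fin m → ℕ) (Pi.single (x.2 : Finset (Fin n)) (1 : L r R))

/-- The basis element. -/
def delta {i : ℕ} (x : Idx m n i) : (Fin m → ℕ) → Finset (Fin n) → L r R :=
  Pi.single (x.1 : Fin m → ℕ) (Pi.single (x.2 : Finset (Fin n)) (1 : L r R))

theorem toFun_apply {i : ℕ} (z : Idx m n i → L r R) (x : Idx m n i) : toFun z x.1 x.2 = z x := by
  classical
  rw [toFun, Finset.sum_apply, Finset.sum_apply, Finset.sum_eq_single x]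
  · simp
  · intro y _ hy
    by_cases h1 : (x.1 : Fin m → ℕ) = y.1
    · have h2 : (x.2 : Finset (Fin n)) ≠ y.2 := fun h => hy (Prod.ext (Subtype.ext h1.symm) (Subtype.ext h.symm))
      simp [h1, h2]
    · simp [h1]
  · simp

theorem mem_idx {i : ℕ} (x : Idx m n i) : ∑ k, (x.1 : Fin m → ℕ) k = i ∧ (x.2 : Finset (Fin n)).card = m + i :=
  ⟨(Finset.mem_piAntidiag.1 x.1.2).1, (Finset.mem_powersetCard.1 x.2.2).2⟩

theorem isGr_toFun {i : ℕ} {c : ℤ} {S : Set (Fin (r + 1))} {z : Idx m n i → L r R}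
    (hz : ∀ x, z x ∈ allowedSub R (c - (m + i)) S) : IsGr (Pc (n := n) (m := m) c S) i (toFun z) := by
  classical
  refine ⟨fun α hα => ?_, fun α => ?_⟩
  · rw [toFun, Finset.sum_apply]
    refine Finset.sum_eq_zero fun x _ => ?_
    have : α ≠ (x.1 : Fin m → ℕ) := fun h => hα (h ▸ (mem_idx x).1)
    simp [this]
  · rw [toFun, Finset.sum_apply]
    refine AddSubgroup.sum_mem _ fun x _ => ?_
    by_cases h : α = (x.1 : Fin m → ℕ)
    · subst h
      rw [Pi.smul_apply, Pi.single_eq_same]
      refine ⟨fun T hT => ?_, fun T => ?_⟩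
      · have : T ≠ (x.2 : Finset (Fin n)) := fun h => hT (h ▸ (mem_idx x).2)
        simp [this]
      · by_cases hT : T = (x.2 : Finset (Fin n))
        · subst hT; simpa using hz x
        · simp [hT]
    · simp [h]

theorem eq_toFun {i : ℕ} {c : ℤ} {S : Set (Fin (r + 1))} {w : (Fin m → ℕ) → Finset (Fin n) → L r R}
    (hw : IsGr (Pc (n := n) (m := m) c S) i w) : toFun (fun x : Idx m n i => w x.1 x.2) = w := by
  classical
  funext α T
  by_cases h : ∑ k, α k = i ∧ T.card = m + i
  · exact toFun_apply (fun x : Idx m n i => w x.1 x.2)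
      (⟨α, Finset.mem_piAntidiag.2 ⟨h.1, fun _ _ => mem_univ _⟩⟩,
        ⟨T, Finset.mem_powersetCard.2 ⟨subset_univ _, h.2⟩⟩)
  · have h0 : w α T = 0 := by
      by_cases h1 : ∑ k, α k = i
      · exact (hw.2 α).1 T fun h2 => h ⟨h1, h2⟩
      · rw [hw.1 α h1]; rfl
    rw [h0, toFun, Finset.sum_apply, Finset.sum_apply]
    refine Finset.sum_eq_zero fun x _ => ?_
    by_cases hα : α = (x.1 : Fin m → ℕ)
    · have hT : T ≠ (x.2 : Finset (Fin n)) := fun h' => h ⟨hα ▸ (mem_idx x).1, h' ▸ (mem_idx x).2⟩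
      simp [hα, hT]
    · simp [hα]

/-- The coefficient of the differential. -/
def entry {i : ℕ} (x : Idx m n (i + 1)) (b : Idx m n i) : L r R :=
  dd (fun k => iota (A k)) (delta x) b.1 b.2

theorem dd_toFun {i : ℕ} (z : Idx m n i → L r R) :
    dd (fun k => iota (A k)) (toFun z) = ∑ x, z x • dd (fun k => iota (A k)) (delta x) := by
  let D : ((Fin m → ℕ) → Finset (Fin n) → L r R) →ₗ[L r R] ((Fin m → ℕ) → Finset (Fin n) → L r R) :=
    { toFun := dd (fun k => iota (A k))
      map_add' := dd_add _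
      map_smul' := dd_smul _ }
  exact (map_sum D _ _).trans (Finset.sum_congr rfl fun x _ => map_smul D (z x) _)

theorem dd_toFun_apply {i : ℕ} (z : Idx m n (i + 1) → L r R) (b : Idx m n i) :
    dd (fun k => iota (A k)) (toFun z) b.1 b.2 = ∑ x, z x * entry A x b := by
  rw [dd_toFun, Finset.sum_apply, Finset.sum_apply]
  rfl

variable (hA : ∀ k s, A k s ∈ allowedSub R 1 (∅ : Set (Fin (r + 1))))

include hA in
theorem mem_A (S : Set (Fin (r + 1))) (k : Fin m) (s : Fin n) : A k s ∈ allowedSub R 1 S :=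
  allowedSub_mono (Set.empty_subset S) (hA k s)

theorem delta_eq {i : ℕ} (x : Idx m n i) :
    (delta x : (Fin m → ℕ) → Finset (Fin n) → L r R) = toFun (Pi.single x 1) := by
  rw [toFun, Finset.sum_eq_single x (fun y _ hy => by simp [hy]) (by simp), Pi.single_eq_same, one_smul]
  rfl

include hA in
theorem entry_mem {i : ℕ} (x : Idx m n (i + 1)) (b : Idx m n i) :
    entry A x b ∈ allowedSub R 1 (∅ : Set (Fin (r + 1))) := by
  have h : IsGr (Pc (n := n) (m := m) ((m : ℤ) + i + 1) (∅ : Set (Fin (r + 1)))) (i + 1) (delta x (R := R)) := by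
    rw [delta_eq]
    refine isGr_toFun fun y => ?_
    rw [show ((m : ℤ) + i + 1 - ((m : ℤ) + ((i + 1 : ℕ) : ℤ))) = 0 by omega]
    by_cases hy : y = x
    · subst hy; simpa using one_mem_allowedSub ∅
    · simp [hy]
  have := ((IsGr.dd (G := Pc (n := n) (m := m) ((m : ℤ) + i + 1) (∅ : Set (Fin (r + 1)))) (ι := fun k => iota (A k)) (fun k j v hv => iota_mem_Pc (hA k) hv) h).2 b.1).2 b.2
  rwa [show ((m : ℤ) + i + 1 - ((m : ℤ) + (i : ℤ))) = 1 by omega] at this

include hA in
theorem dd_toFun_eq {i : ℕ} {c : ℤ} {S : Set (Fin (r + 1))} {z : Idx m n (i + 1) → L r R}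
    (hz : ∀ x, z x ∈ allowedSub R (c - (m + ((i + 1 : ℕ) : ℤ))) S) :
    dd (fun k => iota (A k)) (toFun z) = toFun (fun b : Idx m n i => ∑ x, z x * entry A x b) := by
  have h := IsGr.dd (G := Pc (n := n) (m := m) c S) (ι := fun k => iota (A k)) (fun k j v hv => iota_mem_Pc (mem_A A hA S k) hv) (isGr_toFun hz)
  rw [← eq_toFun h]
  exact congrArg _ (funext fun b => dd_toFun_apply A z b)

include hA in
theorem sum_entry_mul_entry {i : ℕ} (x : Idx m n (i + 2)) (b : Idx m n i) :
    ∑ y : Idx m n (i + 1), entry A x y * entry A y b = 0 := by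
  have hz : ∀ w, (Pi.single x 1 : Idx m n (i + 2) → L r R) w ∈
      allowedSub R ((m : ℤ) + ((i + 2 : ℕ) : ℤ) - (m + ((i + 1 + 1 : ℕ) : ℤ))) (∅ : Set (Fin (r + 1))) := fun w => by
    rw [show ((m : ℤ) + ((i + 2 : ℕ) : ℤ) - (m + ((i + 1 + 1 : ℕ) : ℤ))) = 0 by omega]
    by_cases hw : w = x
    · subst hw; simpa using one_mem_allowedSub ∅
    · simp [hw]
  have h1 := dd_toFun_eq A hA hz
  have h2 : dd (fun k => iota (A k)) (dd (fun k => iota (A k)) (delta x)) = 0 :=
    dd_dd _ (fun k l v => iota_anti (A k) (A l) v) (fun k v => iota_sq (A k) v) _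
  rw [delta_eq, h1] at h2
  have h3 := congrFun (congrFun h2 b.1) b.2
  rw [dd_toFun_apply] at h3
  refine Eq.trans (Finset.sum_congr rfl fun y _ => ?_) h3
  congr 1
  rw [Finset.sum_eq_single x (fun w _ hw => by simp [hw]) (by simp), Pi.single_eq_same, one_mul]

theorem mem_idx_zero (x : Idx m n 0) : (x.1 : Fin m → ℕ) = 0 :=
  funext fun k => Nat.eq_zero_of_le_zero ((Finset.single_le_sum (fun j _ => Nat.zero_le _) (mem_univ k)).trans
    (mem_idx x).1.le)

theorem contr_toFun {S : Set (Fin (r + 1))} {c : ℤ} {z : Idx m n 0 → L r R}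
    (hz : ∀ x, z x ∈ allowedSub R (c - (m + ((0 : ℕ) : ℤ))) S) :
    contr A (toFun z 0) ∅ = ∑ x : Idx m n 0, minor A x.2 * z x ∧
      ∀ T, T.card ≠ 0 → contr A (toFun z 0) T = 0 := by
  refine ⟨?_, contr_supp A 0 _ fun T hT => ((isGr_toFun hz).2 0).1 T (by omega)⟩
  rw [contr_empty]
  have hα : (0 : Fin m → ℕ) ∈ Finset.piAntidiag (univ : Finset (Fin m)) 0 :=
    Finset.mem_piAntidiag.2 ⟨by simp, fun _ _ => mem_univ _⟩
  symm
  refine Finset.sum_bij' (fun x _ => (x.2 : Finset (Fin n)))
    (fun T hT => (⟨0, hα⟩, ⟨T, hT⟩)) (fun x _ => x.2.2) (fun T _ => mem_univ _) (fun x _ => ?_)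
    (fun T _ => rfl) (fun x _ => ?_)
  · exact Prod.ext (Subtype.ext (mem_idx_zero x).symm) rfl
  · rw [← mem_idx_zero x, toFun_apply]

include hA in
theorem sum_entry_mul_minor (x : Idx m n 1) : ∑ y : Idx m n 0, entry A x y * minor A y.2 = 0 := by
  have hz : ∀ w, (Pi.single x 1 : Idx m n 1 → L r R) w ∈
      allowedSub R ((m : ℤ) + 1 - (m + ((0 + 1 : ℕ) : ℤ))) (∅ : Set (Fin (r + 1))) := fun w => by
    rw [show ((m : ℤ) + 1 - (m + ((0 + 1 : ℕ) : ℤ))) = 0 by omega]
    by_cases hw : w = x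
    · subst hw; simpa using one_mem_allowedSub ∅
    · simp [hw]
  have h1 := dd_toFun_eq A hA hz
  have hd : ∀ y, ∑ w, (Pi.single x 1 : Idx m n 1 → L r R) w * entry A w y = entry A x y := fun y => by
    rw [Finset.sum_eq_single x (fun w _ hw => by simp [hw]) (by simp), Pi.single_eq_same, one_mul]
  simp only [hd] at h1
  have hmem : ∀ y, entry A x y ∈ allowedSub R ((m : ℤ) + 1 - (m + ((0 : ℕ) : ℤ))) (∅ : Set (Fin (r + 1))) := fun y => by
    rw [show ((m : ℤ) + 1 - (m + ((0 : ℕ) : ℤ))) = 1 by omega]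
    exact entry_mem A hA x y
  have h2 := (contr_toFun A hmem).1
  rw [← h1] at h2
  have h3 : ∀ k, contr A (iota (A k) (toFun (Pi.single x 1 : Idx m n 1 → L r R) (0 + Pi.single k 1))) = 0 := by
    intro k
    rw [← foldr_eq_contr]
    have : ∀ l : List (Fin m), k ∈ l → ∀ v,
        l.foldr (fun b y => iota (A b) y) (iota (A k) v) = 0 := by
      intro l
      induction l with
      | nil => simp
      | cons a l ih =>
        intro hk v
        rw [List.foldr_cons]
        have hcomm : ∀ l' : List (Fin m), ∀ v, iota (A k) (l'.foldr (fun j y => iota (A j) y) v) =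
            (-1 : L r R) ^ l'.length • l'.foldr (fun j y => iota (A j) y) (iota (A k) v) := by
          intro l'
          induction l' with
          | nil => intro v; simp
          | cons b l' ih' =>
            intro v
            simp only [List.foldr_cons, List.length_cons]
            rw [iota_anti, ih' v, map_smul, pow_succ, mul_comm, mul_smul, neg_smul, one_smul]
        rcases List.mem_cons.1 hk with rfl | hk
        · have hu : IsUnit ((-1 : L r R) ^ l.length) := isUnit_one.neg.pow _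
          refine hu.smul_left_cancel.1 ?_
          rw [← map_smul, ← hcomm, iota_sq, smul_zero]
        · rw [ih hk, map_zero]
    exact this _ (by simp) _
  rw [show dd (fun k => iota (A k)) (toFun (Pi.single x 1 : Idx m n 1 → L r R)) 0 =
      ∑ k, iota (A k) (toFun (Pi.single x 1 : Idx m n 1 → L r R) (0 + Pi.single k 1)) from rfl,
    map_sum, Finset.sum_eq_zero fun k _ => h3 k] at h2
  refine Eq.trans (Finset.sum_congr rfl fun y _ => mul_comm _ _) h2.symm

/-- The vectors from the adjugate of a maximal minor. -/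
def uvec (T₀ : Finset (Fin n)) (hT₀ : T₀.card = m) (j : Fin (r + 1)) (l : Fin m) (s : Fin n) : L r R :=
  ∑ p, if T₀.orderEmbOfFin hT₀ p = s then
    (Matrix.of fun k q => A k (T₀.orderEmbOfFin hT₀ q)).adjugate p l * T (-Finsupp.single j (m : ℤ)) else 0

/-- The minor made homogeneous of degree zero. -/
def disc (T₀ : Finset (Fin n)) (j : Fin (r + 1)) : L r R := minor A T₀ * T (-Finsupp.single j (m : ℤ))

theorem T_mem {S : Set (Fin (r + 1))} {j : Fin (r + 1)} (hj : j ∈ S) (d : ℤ) :
    (T (Finsupp.single j d) : L r R) ∈ allowedSub R d S := by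
  intro e he
  rw [T, AddMonoidAlgebra.coeff_single, Finsupp.single_apply] at he
  obtain rfl : Finsupp.single j d = e := by
    by_contra h
    exact he (if_neg h)
  exact ⟨by simp [deg], fun i hi => by simp [show i ≠ j from fun h => hi (h ▸ hj)]⟩

include hA in
theorem minor_mem (S : Set (Fin (r + 1))) (T₀ : Finset (Fin n)) : minor A T₀ ∈ allowedSub R (m : ℤ) S := by
  rw [minor]
  split_ifs with h
  · simpa using det_mem_allowedSub (d := fun _ => 1) (M := Matrix.of fun k q => A k (T₀.orderEmbOfFin h q))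
      fun i q => mem_A A hA S i _
  · exact Submodule.zero_mem _

include hA in
theorem disc_mem {S : Set (Fin (r + 1))} {j : Fin (r + 1)} (hj : j ∈ S) (T₀ : Finset (Fin n)) :
    disc A T₀ j ∈ allowedSub R 0 S := by
  have := mul_mem_allowedSub (minor_mem A hA S T₀) (T_mem (R := R) hj (-(m : ℤ)))
  rwa [add_neg_cancel, Finsupp.single_neg] at this

include hA in
theorem uvec_mem {S : Set (Fin (r + 1))} {j : Fin (r + 1)} (hj : j ∈ S) (T₀ : Finset (Fin n))
    (hT₀ : T₀.card = m) (l : Fin m) (s : Fin n) : uvec A T₀ hT₀ j l s ∈ allowedSub R (-1) S := by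
  refine Submodule.sum_mem _ fun p _ => ?_
  split_ifs with h
  · have hadj : (Matrix.of fun k q => A k (T₀.orderEmbOfFin hT₀ q)).adjugate p l ∈
        allowedSub R ((m : ℤ) - 1) S := by
      rw [Matrix.adjugate_apply]
      have := det_mem_allowedSub (r := r) (R := R) (S := S) (d := fun i => if i = l then 0 else 1)
        (M := (Matrix.of fun k q => A k (T₀.orderEmbOfFin hT₀ q)).updateRow l (Pi.single p 1)) fun i q => ?_
      · rwa [show (∑ i : Fin m, if i = l then (0 : ℤ) else 1) = (m : ℤ) - 1 by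
          rw [← Finset.add_sum_erase _ _ (mem_univ l), if_pos rfl, zero_add,
            Finset.sum_congr rfl fun i hi => if_neg (Finset.ne_of_mem_erase hi),
            Finset.sum_const, Finset.card_erase_of_mem (mem_univ l)]
          have := l.2
          simp only [Finset.card_univ, Fintype.card_fin, nsmul_eq_mul, mul_one]
          omega] at this
      · by_cases hi : i = l
        · subst hi
          rw [if_pos rfl, Matrix.updateRow_self]
          by_cases hq : q = p
          · subst hq; simpa using one_mem_allowedSub S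
          · simp [hq]
        · rw [if_neg hi, Matrix.updateRow_ne hi]
          exact mem_A A hA S i _
    have := mul_mem_allowedSub hadj (T_mem (R := R) hj (-(m : ℤ)))
    rwa [show (m : ℤ) - 1 + -(m : ℤ) = -1 by omega, Finsupp.single_neg] at this
  · exact Submodule.zero_mem _

theorem sum_mul_uvec (T₀ : Finset (Fin n)) (hT₀ : T₀.card = m) (j : Fin (r + 1)) (k l : Fin m) :
    ∑ s, A k s * uvec A T₀ hT₀ j l s = if k = l then disc A T₀ j else 0 := by
  simp only [uvec, Finset.mul_sum, mul_ite, mul_zero]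
  rw [Finset.sum_comm]
  simp only [Finset.sum_ite_eq, mem_univ, if_true]
  have := congrFun (congrFun (Matrix.mul_adjugate (Matrix.of fun k q => A k (T₀.orderEmbOfFin hT₀ q))) k) l
  rw [Matrix.mul_apply] at this
  simp only [← mul_assoc, ← Finset.sum_mul]
  simp only [Matrix.of_apply] at this
  rw [this, Matrix.smul_apply, Matrix.one_apply, disc, minor, dif_pos hT₀]
  split_ifs <;> simp

include hA in
/-- Cycles are boundaries up to a power of the minor. -/
theorem exists_eq_sum_entry {i : ℕ} {c : ℤ} {S : Set (Fin (r + 1))} {j : Fin (r + 1)} (hj : j ∈ S)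
    {T₀ : Finset (Fin n)} (hT₀ : T₀.card = m) (z : Idx m n (i + 1) → L r R)
    (hz : ∀ x, z x ∈ allowedSub R (c - (m + ((i + 1 : ℕ) : ℤ))) S)
    (hd : ∀ b : Idx m n i, ∑ x, z x * entry A x b = 0) :
    ∃ y : Idx m n (i + 2) → L r R, (∀ x, y x ∈ allowedSub R (c - (m + ((i + 2 : ℕ) : ℤ))) S) ∧
      ∀ b, ∑ x, y x * entry A x b = disc A T₀ j ^ m * z b := by
  have hd' : dd (fun k => iota (A k)) (toFun z) = 0 := by
    rw [dd_toFun_eq A hA hz]
    simp only [hd]
    simp [toFun]
  obtain ⟨Y, hY, hdY⟩ := exists_dd_eq (G := Pc (n := n) (m := m) c S) (ι := fun k => iota (A k))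
    (e := fun l => wedge (uvec A T₀ hT₀ j l)) (Δ := disc A T₀ j)
    (fun k l v => iota_anti (A k) (A l) v) (fun k v => iota_sq (A k) v)
    (fun k l hkl v => by rw [iota_wedge, sum_mul_uvec, if_neg hkl, zero_smul])
    (fun k v => by rw [iota_wedge, sum_mul_uvec, if_pos rfl])
    (fun k p v hv => iota_mem_Pc (mem_A A hA S k) hv)
    (fun k p v hv => wedge_mem_Pc (uvec_mem A hA hj T₀ hT₀ k) hv)
    (fun p v hv => ⟨fun T hT => by simp [hv.1 T hT], fun T => by
      simpa using mul_mem_allowedSub (disc_mem A hA hj T₀) (hv.2 T)⟩)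
    (toFun z) (isGr_toFun hz) hd'
  refine ⟨fun x => Y x.1 x.2, fun x => (hY.2 _).2 _, fun b => ?_⟩
  rw [← dd_toFun_apply, eq_toFun hY, hdY, Pi.smul_apply, Pi.smul_apply, smul_eq_mul, toFun_apply]

include hA in
/-- Elements killed by all maximal minors are boundaries up to a power of the minor. -/
theorem exists_eq_sum_entry_zero {c : ℤ} {S : Set (Fin (r + 1))} {j : Fin (r + 1)} (hj : j ∈ S)
    {T₀ : Finset (Fin n)} (hT₀ : T₀.card = m) (z : Idx m n 0 → L r R)
    (hz : ∀ x, z x ∈ allowedSub R (c - (m + ((0 : ℕ) : ℤ))) S)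
    (hd : ∑ x : Idx m n 0, minor A x.2 * z x = 0) :
    ∃ y : Idx m n 1 → L r R, (∀ x, y x ∈ allowedSub R (c - (m + ((1 : ℕ) : ℤ))) S) ∧
      ∀ b, ∑ x, y x * entry A x b = disc A T₀ j ^ m * z b := by
  classical
  have hv : contr A (toFun z 0) = 0 := by
    funext T'
    by_cases hT' : T'.card = 0
    · rw [Finset.card_eq_zero.1 hT', (contr_toFun A hz).1, hd]; rfl
    · exact (contr_toFun A hz).2 T' hT'
  obtain ⟨y, hy, hsum⟩ := exists_sum_eq (G := Pc (n := n) (m := m) c S) (ι := fun k => iota (A k))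
    (e := fun l => wedge (uvec A T₀ hT₀ j l)) (Δ := disc A T₀ j)
    (fun k l v => iota_anti (A k) (A l) v)
    (fun k l hkl v => by rw [iota_wedge, sum_mul_uvec, if_neg hkl, zero_smul])
    (fun k v => by rw [iota_wedge, sum_mul_uvec, if_pos rfl])
    (fun k p v hv => iota_mem_Pc (mem_A A hA S k) hv)
    (fun k p v hv => wedge_mem_Pc (uvec_mem A hA hj T₀ hT₀ k) hv)
    (fun p v hv => ⟨fun T hT => by simp [hv.1 T hT], fun T => by
      simpa using mul_mem_allowedSub (disc_mem A hA hj T₀) (hv.2 T)⟩)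
    (List.finRange m).reverse (List.nodup_reverse.2 (List.nodup_finRange m)) (toFun z 0)
    ((isGr_toFun hz).2 0) ((foldr_eq_contr A _).trans hv)
  let Y : (Fin m → ℕ) → Finset (Fin n) → L r R := fun α => ∑ k, if α = Pi.single k 1 then y k else 0
  have hY : IsGr (Pc (n := n) (m := m) c S) 1 Y := by
    refine ⟨fun α hα => Finset.sum_eq_zero fun k _ => if_neg fun h => hα (by simp [h]), fun α => ?_⟩
    refine AddSubgroup.sum_mem _ fun k _ => ?_
    split_ifs
    · exact hy k
    · exact AddSubgroup.zero_mem _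
  refine ⟨fun x => Y x.1 x.2, fun x => (hY.2 _).2 _, fun b => ?_⟩
  rw [← dd_toFun_apply, eq_toFun hY, mem_idx_zero b]
  have hYk : ∀ k, Y (0 + Pi.single k 1) = y k := fun k => by
    rw [zero_add]
    refine (Finset.sum_eq_single k (fun l _ hl => if_neg fun h => hl ?_) (by simp)).trans (if_pos rfl)
    have := congrFun h k
    by_contra hne
    simp [Ne.symm hne] at this
  have h0 : dd (fun k => iota (A k)) Y 0 = disc A T₀ j ^ m • toFun z 0 := by
    rw [dd, Finset.sum_congr rfl fun k _ => congrArg _ (hYk k)]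
    rw [hsum, List.length_reverse, List.length_finRange]
  rw [h0, Pi.smul_apply, smul_eq_mul, ← mem_idx_zero b, toFun_apply]

end Groth.Agent.H22Alg.EN
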