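import Groth.Agent.H22Alg.ENFitt
import Groth.Agent.H22Alg.ENChase
import Groth.Agent.H10Coh.BiprodHH
import Groth.Agent.H10Coh.Pn.Hodge
import Groth.Prelude.Def_Curv2

/-!
# Regularity of the ideal of maximal minors of a matrix of linear forms
-/

set_option autoImplicit false
set_option linter.style.haveILetI false
set_option backward.isDefEq.respectTransparency.types false

noncomputable section

universe u

open CategoryTheory CategoryTheory.Limits AlgebraicGeometry TopologicalSpace Opposite MvPolynomial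
open Groth.Agent.H11Tilde Groth.Agent.H10Coh.Pn Groth.Agent.H17.PnDual

namespace Groth.Agent.H22Alg.EN

section resolution

variable {r : ℕ} {R : Type u} [CommRing R] {m n : ℕ} {A : Fin m → Fin n → L r R}
  (hA : ∀ k s, A k s ∈ allowedSub R 1 (∅ : Set (Fin (r + 1))))
  {I : (Proj (Gr r R)).IdealSheafData}
  (hI : ∀ j, I.ideal ⟨Vj j, isAffineOpen_Vj j⟩ =
    Ideal.span (Set.range fun T₀ : {T₀ : Finset (Fin n) // T₀.card = m} => discSec A hA j T₀.1))

include hI in
theorem mem_ideal_iff (j : Fin (r + 1)) (a : Γ(Proj (Gr r R), Vj j)) :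
    a ∈ I.ideal ⟨Vj j, isAffineOpen_Vj j⟩ ↔ ∃ z, (augMor A hA).app (Vj j) z = a := by
  classical
  constructor
  · intro ha
    rw [hI j, Ideal.mem_span_range_iff_exists_fun] at ha
    obtain ⟨c, hc⟩ := ha
    let w : Idx m n 0 → L r R := fun x =>
      theta (qj_pos j) (c ⟨x.2.1, by simpa using (mem_idx x).2⟩) * T (-Finsupp.single j (m : ℤ))
    obtain ⟨z, hz⟩ := coord_surj (R := R) j w fun x => by
      have := mul_mem_allowedSub (theta_mem (qj_pos j) (c ⟨x.2.1, by simpa using (mem_idx x).2⟩))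
        (T_mem (R := R) (mem_qj j) (-(m : ℤ)))
      rw [Finsupp.single_neg] at this
      simpa using this
    refine ⟨z, theta_injective (qj_pos j) ?_⟩
    have hα : (0 : Fin m → ℕ) ∈ Finset.piAntidiag (Finset.univ : Finset (Fin m)) 0 :=
      Finset.mem_piAntidiag.2 ⟨by simp, fun _ _ => Finset.mem_univ _⟩
    let e : Idx m n 0 ≃ {T₀ : Finset (Fin n) // T₀.card = m} :=
      { toFun := fun x => ⟨x.2.1, by simpa using (mem_idx x).2⟩
        invFun := fun T₀ => (⟨0, hα⟩, ⟨T₀.1, Finset.mem_powersetCard.2 ⟨Finset.subset_univ _, by simpa using T₀.2⟩⟩)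
        left_inv := fun x => Prod.ext (Subtype.ext (mem_idx_zero x).symm) rfl
        right_inv := fun T₀ => rfl }
    rw [theta_augMor, ← hc, map_sum, ← e.sum_comp]
    refine Finset.sum_congr rfl fun x _ => ?_
    rw [hz, map_mul, theta_discSec]
    show _ = theta (qj_pos j) (c ⟨x.2.1, _⟩) * (minor A x.2.1 * T (-Finsupp.single j (m : ℤ)))
    simp only [w]
    ring
  · rintro ⟨z, rfl⟩
    have hc : ∀ x : Idx m n 0, ∃ ρ : Γ(Proj (Gr r R), Vj j),
        theta (qj_pos j) ρ = coord j z x * T (Finsupp.single j (m : ℤ)) := fun x => theta_range (qj_pos j) (by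
      have := mul_mem_allowedSub (coord_mem j z x) (T_mem (R := R) (mem_qj j) (m : ℤ))
      simpa using this)
    choose c hc using hc
    have : (augMor A hA).app (Vj j) z = ∑ x : Idx m n 0, discSec A hA j x.2 * c x := by
      refine theta_injective (qj_pos j) ?_
      rw [theta_augMor, map_sum]
      refine Finset.sum_congr rfl fun x _ => ?_
      rw [map_mul, theta_discSec, hc, disc]
      rw [mul_assoc, mul_left_comm (T _), T_mul, neg_add_cancel, T_zero, mul_one]
    rw [this, hI j]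
    exact Submodule.sum_mem _ fun x _ => Ideal.mul_mem_right _ _
      (Ideal.subset_span ⟨⟨x.2.1, by simpa using (mem_idx x).2⟩, rfl⟩)

include hI in
theorem augMor_toSubscheme : augMor A hA ≫ ClSub.toSubscheme I = 0 :=
  ENGen.eq_zero_of_cover (isQCoh_Et 0) _ (Vj (R := R)) isAffineOpen_Vj exists_mem_Vj fun j s => by
    obtain ⟨m', hm'⟩ := (H29Blow.mem_ideal_iff_exists_idealSect I (isAffineOpen_Vj j) _).1
      ((mem_ideal_iff hA hI j _).2 ⟨s, rfl⟩)
    show (ClSub.toSubscheme I).app (Vj j) ((augMor A hA).app (Vj j) s) = 0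
    rw [← hm']
    exact congr($(congr(Scheme.Modules.Hom.app $(kernel.condition (ClSub.toSubscheme I)) (Vj j))) m')

/-- The augmentation onto the ideal. -/
def augI : Et R r m n 0 ⟶ ClSub.idealMod I :=
  kernel.lift (ClSub.toSubscheme I) (augMor A hA) (augMor_toSubscheme hA hI)

theorem augI_ι : augI hA hI ≫ ClSub.idealModι I = augMor A hA := kernel.lift_ι _ _ _

theorem idealSect_augI (j : Fin (r + 1)) (z : Γ(Et R r m n 0, Vj j)) :
    OmegaSh.idealSect I (Vj j) ((augI hA hI).app (Vj j) z) = (augMor A hA).app (Vj j) z :=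
  congr($(congr(Scheme.Modules.Hom.app $(augI_ι hA hI) (Vj j))) z)

theorem dMor_augI : dMor A hA 0 ≫ augI hA hI = 0 := by
  haveI : Mono (ClSub.idealModι I) := inferInstanceAs (Mono (kernel.ι (ClSub.toSubscheme I)))
  rw [← cancel_mono (ClSub.idealModι I), Category.assoc, augI_ι, dMor_augMor, zero_comp]

theorem epi_augI : Epi (augI hA hI) :=
  ENGen.epi_of_cover (isQCoh_Et 0) (H17.OmegaLocal.isQuasicoherent_idealMod I) _ (Vj (R := R)) isAffineOpen_Vj
    exists_mem_Vj fun j a => by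
      obtain ⟨z, hz⟩ := (mem_ideal_iff hA hI j _).1
        ((H29Blow.mem_ideal_iff_exists_idealSect I (isAffineOpen_Vj j) _).2 ⟨a, rfl⟩)
      exact ⟨z, H29Blow.idealSect_injective I _ ((idealSect_augI hA hI j z).trans hz)⟩

theorem notMem_support_homology_zero (j : Fin (r + 1)) {T₀ : Finset (Fin n)} (hT₀ : T₀.card = m)
    {x : Proj (Gr r R)} (hx : x ∈ (Proj (Gr r R)).basicOpen (discSec A hA j T₀)) :
    x ∉ CohB1.support (cokernel (kernel.lift (augI hA hI) (dMor A hA 0) (dMor_augI hA hI))) := by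
  refine ENGen.notMem_support_homology (isQCoh_Et _) (isQCoh_Et _) (H17.OmegaLocal.isQuasicoherent_idealMod I) _ _ _
    (isAffineOpen_Vj j) (discSec A hA j T₀) m (fun z hz => ?_) hx
  obtain ⟨y, hy, hy'⟩ := exists_eq_sum_entry_zero A hA (mem_qj j) hT₀ (coord j z) (coord_mem j z) (by
    rw [← theta_augMor A hA j z, ← idealSect_augI hA hI j z, hz]
    exact (congrArg (theta (qj_pos j)) (map_zero ((ClSub.idealModι I).app (Vj j)).hom)).trans (map_zero _))
  obtain ⟨w, hw⟩ := coord_surj j y hy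
  refine ⟨w, coord_injective j (funext fun b => ?_)⟩
  rw [coord_dMor, coord_discSec_smul, ← hy' b]
  exact Finset.sum_congr rfl fun x _ => by rw [hw]

end resolution

theorem subsingleton_HH_tensor_biproduct {k : Type u} [Field k] {X : Scheme.{u}}
    [X.Over (Spec (CommRingCat.of k))] {ι : Type} [Fintype ι] (T : ι → X.Modules) (L : X.Modules) (q : ℕ)
    (h : ∀ x, Subsingleton (Coh.HH X (CohB1.tensorMod (T x) L) q)) :
    Subsingleton (Coh.HH X (CohB1.tensorMod (⨁ T) L) q) := by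
  let G : X.Modules ⥤ X.Modules := (DCoh.tensorBi (X := X)).flip.obj L
  refine subsingleton_of_forall_eq 0 fun x => ?_
  have hid : ∑ j, G.map (biproduct.π T j) ≫ G.map (biproduct.ι T j) = 𝟙 (G.obj (⨁ T)) := by
    simp only [← Functor.map_comp, ← Functor.map_sum, biproduct.total]
    exact G.map_id _
  have h1 := LeadFF.Hm_id (G.obj (⨁ T)) q x
  rw [← hid, H10Coh.BiprodHH.Hm_sum] at h1
  rw [← h1]
  refine Finset.sum_eq_zero fun j _ => ?_
  rw [LeadFF.Hm_comp]
  exact (congrArg _ ((h j).elim (LeadFF.Hm (G.map (biproduct.π T j)) q x) 0)).trans (map_zero (LeadFF.Hm (G.map (biproduct.ι T j)) q))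

theorem twistProjSpace_eq (r : ℕ) (k : Type u) [Field k] (a : ℤ) :
    Twist.twistProjSpace r k a = Od r k a := rfl

variable {r : ℕ} in
theorem subsingleton_HH_tensor_Od (k : Type u) [Field k] [inst : (Proj (Gr r k)).Over (Spec (CommRingCat.of k))]
    (a b c : ℤ) (h : c = a + b) (q : ℕ) (h₀ : ¬ (q = 0 ∧ 0 ≤ c)) (hn : ¬ (q = r ∧ c ≤ -((r : ℤ) + 1))) :
    Subsingleton (Coh.HH (Proj (Gr r k)) (CohB1.tensorMod (Od r k a) (Od r k b)) q) := by
  obtain ⟨e⟩ := H11Tilde.nonempty_tilde_tensor_iso (Gr r k) (Gr r k) h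
    (H11Tilde.cover_of_degOne (Gr r k) (H22Alg.RegSheaf.cover r k) b)
  exact ESZ.subsingleton_HH_iso e.symm (H10Coh.Pn.subsingleton_HH_Od (n := r) (R := k) (d := c) q h₀ hn)

variable {r : ℕ} in
theorem subsingleton_HH_Et (k : Type u) [Field k] [inst : (Proj (Gr r k)).Over (Spec (CommRingCat.of k))]
    (m n p i : ℕ) (hi : 1 ≤ i) :
    Subsingleton (Coh.HH (Proj (Gr r k))
      (CohB1.tensorMod (Et k r m n p) (Od r k ((m : ℤ) - (i : ℤ)))) (i + p)) :=
  subsingleton_HH_tensor_biproduct (k := k) _ _ _ fun _ =>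
    subsingleton_HH_tensor_Od k _ _ (-((p : ℤ) + (i : ℤ))) (by ring) _ (by omega) (by omega)

theorem isMRegular (k : Type u) [Field k] (r m n : ℕ)
    (φ : (∐ fun _ : Fin n => Od r k (-1)) ⟶ FlatMod.freeMod (Proj (Gr r k)) m)
    (hdim : topologicalKrullDim ((Fitt.sheafIdeal (cokernel φ) 0).support : Set (Proj (Gr r k))) ≤ 1) :
    Curv2.IsMRegular k r (ClSub.idealMod (Fitt.sheafIdeal (cokernel φ) 0)) m := by
  classical
  intro i hi1 hir
  have hr : r ≠ 0 := by omega
  letI : (Proj (Gr r k)).Over (Spec (CommRingCat.of k)) := ⟨CohB1.ProjSpace.toSpec r k⟩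
  haveI : IsProper (Proj (Gr r k) ↘ Spec (CommRingCat.of k)) := H27Weil.isProper_toSpec r k
  obtain ⟨A, hA, hAφ⟩ := exists_matrix φ hr
  have htgt : CohB1.IsFP (FlatMod.freeMod (Proj (Gr r k)) m) := H8Props.FinLocFree.isFP_of_isFinLocFree _
    (H16Derived.KFlat.Stalk.isFinLocFree_sigma _ fun _ => (H16Derived.KFlat.Stalk.isFinLocFree_iff _).2 fun x =>
      ⟨⊤, trivial, H16Derived.KFlat.Stalk.isFreeFin_structureModule.pullback _⟩)
  let F : Fin n → (Proj (Gr r k)).Modules := fun _ => Od r k (-1)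
  have hsrc : Coh.IsQCoh (∐ F) := by
    haveI := @H10Coh.isQuasicoherent_biproduct _ _ _ F fun _ => H11Tilde.tilde_isQuasicoherent (Gr r k) (Gr r k) _
    exact H10Coh.isQuasicoherent_of_iso (biproduct.isoCoproduct F)
  have hqc : Coh.IsQCoh (cokernel φ) :=
    @H10Coh.isQuasicoherent_cokernel _ _ _ φ hsrc (H29Fitt.isQuasicoherent_freeMod (Proj (Gr r k)) m)
  have hft : CohB1.IsFT (cokernel φ) :=
    H16Derived.KFlat.Stalk.isFT_of_epi (cokernel.π φ) (H29Fitt.isFT_of_isFP _ htgt)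
  set I := Fitt.sheafIdeal (cokernel φ) 0 with hIdef
  have hI : ∀ j, I.ideal ⟨Vj j, isAffineOpen_Vj j⟩ =
      Ideal.span (Set.range fun T₀ : {T₀ : Finset (Fin n) // T₀.card = m} => discSec A hA j T₀.1) := fun j => by
    rw [hIdef, H29Fitt.sheafIdeal_ideal _ hqc hft 0 ⟨Vj j, isAffineOpen_Vj j⟩]
    exact ideal_cokernel hA hAφ j
  have hout : ∀ x : Proj (Gr r k), x ∉ (I.support : Set (Proj (Gr r k))) →
      ∃ (j : Fin (r + 1)) (T₀ : Finset (Fin n)), T₀.card = m ∧
        x ∈ (Proj (Gr r k)).basicOpen (discSec A hA j T₀) := by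
    intro x hx
    obtain ⟨j, hj⟩ := exists_mem_Vj x
    by_contra hcon
    push Not at hcon
    refine hx ((H29Fitt.mem_support_iff _ hqc hft 0 (isAffineOpen_Vj j) ⟨x, hj⟩).2 ?_)
    rw [← H29Fitt.sheafIdeal_ideal _ hqc hft 0 ⟨Vj j, isAffineOpen_Vj j⟩, ← hIdef, hI j, Ideal.span_le]
    rintro _ ⟨⟨T₀, hT₀⟩, rfl⟩
    exact (H29Blow.mem_primeIdealOf_iff (isAffineOpen_Vj j) ⟨x, hj⟩ _).2 fun hu =>
      hcon j T₀ hT₀ (((Proj (Gr r k)).mem_basicOpen _ x hj).2 hu)
  rw [twistProjSpace_eq]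
  haveI := epi_augI hA hI
  refine ENChase.subsingleton_HH (X := Proj (Gr r k)) (k := k) (r := r)
    (fun M hM q hq => H10Coh.PnHodge.subsingleton_top r k hM hq) I.support.isClosed hdim
    (Et k r m n) isQCoh_Et (dMor A hA) (dMor_dMor A hA) (augI hA hI) (H17.OmegaLocal.isQuasicoherent_idealMod I)
    (dMor_augI hA hI) ?_ (fun p x hx => ?_) (twistProjSpace_eq r k _ ▸ H22Alg.RegSheaf.isInvertible_twistProjSpace r k ((m : ℤ) - (i : ℤ))) i hi1 fun p => ?_
  · intro x hx
    by_contra hxs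
    obtain ⟨j, T₀, hT₀, hxb⟩ := hout x hxs
    exact notMem_support_homology_zero hA hI j hT₀ hxb hx
  · by_contra hxs
    obtain ⟨j, T₀, hT₀, hxb⟩ := hout x hxs
    exact notMem_support_homology_succ A hA p j hT₀ hxb hx
  · exact subsingleton_HH_Et k m n p i hi1

end Groth.Agent.H22Alg.EN
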