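import Mathlib.LinearAlgebra.Pi
import Mathlib.Algebra.Module.LinearMap.Basic
import Mathlib.Algebra.BigOperators.Pi
import Mathlib.Data.Fintype.BigOperators
import Mathlib.Data.Finset.Update
import Mathlib.Algebra.Group.Subgroup.Basic
import Mathlib.Tactic.Abel

/-!
# The complex built from anticommuting contractions

For pairwise anticommuting operators `ι k` and operators `e k` with `ι k ∘ e l + e l ∘ ι k = Δ δ_kl`, the complex
`(d z) β = ∑ k, ι k (z (β + ε_k))` is exact in positive degree up to powers of `Δ`.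
-/

set_option autoImplicit false

universe u v

open Finset

namespace Groth.Agent.H22Alg.EN

variable {R : Type u} [CommRing R] {Λ : Type v} [AddCommGroup Λ] [Module R Λ] {m : ℕ}
  (ι e : Fin m → Module.End R Λ)

/-- The differential. -/
def dd (z : (Fin m → ℕ) → Λ) : (Fin m → ℕ) → Λ := fun β => ∑ k, ι k (z (β + Pi.single k 1))

/-- The homotopy in the direction `a`. -/
def hh (a : Fin m) (z : (Fin m → ℕ) → Λ) : (Fin m → ℕ) → Λ := fun β =>
  if β a = 0 then 0 else e a (z (β - Pi.single a 1))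

theorem dd_dd (hanti : ∀ k l, ∀ v, ι k (ι l v) = -ι l (ι k v)) (hsq : ∀ k v, ι k (ι k v) = 0)
    (z : (Fin m → ℕ) → Λ) : dd ι (dd ι z) = 0 := by
  funext β
  simp only [dd, map_sum, Pi.zero_apply]
  rw [← Fintype.sum_prod_type']
  refine Finset.sum_involution (fun p _ => (p.2, p.1)) (fun p _ => ?_) (fun p _ hp h => ?_)
    (fun p _ => Finset.mem_univ _) (fun p _ => rfl)
  · dsimp only
    rw [hanti p.1 p.2, add_right_comm β (Pi.single p.1 1) (Pi.single p.2 1), neg_add_cancel]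
  · exact hp (by rw [show p.2 = p.1 from congrArg Prod.fst h]; exact hsq _ _)

theorem dd_smul (c : R) (z : (Fin m → ℕ) → Λ) : dd ι (c • z) = c • dd ι z := by
  funext β
  simp [dd, Finset.smul_sum]

theorem dd_add (z w : (Fin m → ℕ) → Λ) : dd ι (z + w) = dd ι z + dd ι w := by
  funext β
  simp [dd, Finset.sum_add_distrib]

theorem dd_zero : dd ι (0 : (Fin m → ℕ) → Λ) = 0 := by
  funext β
  simp [dd]

theorem dd_sub (z w : (Fin m → ℕ) → Λ) : dd ι (z - w) = dd ι z - dd ι w := by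
  funext β
  simp [dd, Finset.sum_sub_distrib]

variable {ι e}

theorem dd_hh_add {Δ : R} (hcross : ∀ k l, k ≠ l → ∀ v, ι k (e l v) + e l (ι k v) = 0)
    (hdiag : ∀ k v, ι k (e k v) + e k (ι k v) = Δ • v) (a : Fin m) (z : (Fin m → ℕ) → Λ) :
    dd ι (hh e a z) + hh e a (dd ι z) =
      fun β => Δ • z β - if β a = 0 then e a (ι a (z β)) else 0 := by
  funext β
  simp only [Pi.add_apply, dd, hh]
  by_cases hβ : β a = 0
  · rw [if_pos hβ, if_pos hβ, add_zero, Finset.sum_eq_single a (fun k _ hk => by simp [hk.symm, hβ])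
      (by simp)]
    have h1 : β + Pi.single a 1 - Pi.single a 1 = β := by funext j; simp
    simp [← hdiag a (z β), hβ, h1]
  · rw [if_neg hβ, if_neg hβ, map_sum, ← Finset.sum_add_distrib,
      Finset.sum_eq_single a (fun k _ hk => ?_) (by simp)]
    · have h1 : β + Pi.single a 1 - Pi.single a 1 = β := by funext j; simp
      have h2 : β - Pi.single a 1 + Pi.single a 1 = β := by
        funext j
        by_cases hj : j = a
        · subst hj; simp; omega
        · simp [Pi.single_eq_of_ne hj]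
      simp [h1, h2, ← hdiag a (z β)]
    · have h3 : β + Pi.single k 1 - Pi.single a 1 = β - Pi.single a 1 + Pi.single k 1 := by
        funext j
        by_cases hj : j = a
        · subst hj; simp [Pi.single_eq_of_ne (Ne.symm hk)]
        · simp [Pi.single_eq_of_ne hj]
      simp [Ne.symm hk, hβ, h3, hcross k a hk]

variable (G : ℕ → AddSubgroup Λ)

/-- `z` lives in cohomological position `i`. -/
def IsGr (i : ℕ) (z : (Fin m → ℕ) → Λ) : Prop :=
  (∀ α, ∑ k, α k ≠ i → z α = 0) ∧ ∀ α, z α ∈ G i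

variable {G}

theorem IsGr.smul {i : ℕ} {z : (Fin m → ℕ) → Λ} (hz : IsGr G i z) {c : R}
    (hc : ∀ v ∈ G i, c • v ∈ G i) : IsGr G i (c • z) :=
  ⟨fun α h => by simp [hz.1 α h], fun α => hc _ (hz.2 α)⟩

theorem pow_smul_mem {Δ : R} {i : ℕ} (hΔ : ∀ v ∈ G i, Δ • v ∈ G i) (k : ℕ) :
    ∀ v ∈ G i, Δ ^ k • v ∈ G i := by
  induction k with
  | zero => intro v hv; simpa using hv
  | succ k ih => intro v hv; rw [pow_succ, mul_smul]; exact ih _ (hΔ v hv)

theorem IsGr.add {i : ℕ} {z w : (Fin m → ℕ) → Λ} (hz : IsGr G i z) (hw : IsGr G i w) : IsGr G i (z + w) :=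
  ⟨fun α h => by simp [hz.1 α h, hw.1 α h], fun α => (G i).add_mem (hz.2 α) (hw.2 α)⟩

theorem isGr_zero (i : ℕ) : IsGr G i (0 : (Fin m → ℕ) → Λ) :=
  ⟨fun _ _ => rfl, fun _ => (G i).zero_mem⟩

theorem IsGr.dd (hι : ∀ k i, ∀ v ∈ G (i + 1), ι k v ∈ G i) {i : ℕ} {z : (Fin m → ℕ) → Λ}
    (hz : IsGr G (i + 1) z) : IsGr G i (EN.dd ι z) := by
  refine ⟨fun β h => Finset.sum_eq_zero fun k _ => ?_, fun β => (G i).sum_mem fun k _ => hι k i _ (hz.2 _)⟩
  rw [hz.1 _ (fun h' => h ?_), map_zero]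
  simpa [Finset.sum_add_distrib] using h'

theorem IsGr.hh (he : ∀ k i, ∀ v ∈ G i, e k v ∈ G (i + 1)) (a : Fin m) {i : ℕ} {z : (Fin m → ℕ) → Λ}
    (hz : IsGr G i z) : IsGr G (i + 1) (EN.hh e a z) := by
  refine ⟨fun β h => ?_, fun β => ?_⟩
  · simp only [EN.hh]
    split_ifs with hβ
    · rfl
    · rw [hz.1 _ (fun h' => h ?_), map_zero]
      have h2 : β = β - Pi.single a 1 + Pi.single a 1 := by
        funext j
        by_cases hj : j = a
        · subst hj; simp; omega
        · simp [Pi.single_eq_of_ne hj]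
      rw [h2]
      simp [Finset.sum_add_distrib, -Pi.sub_apply, h']
  · simp only [EN.hh]
    split_ifs
    · exact (G (i + 1)).zero_mem
    · exact he a i _ (hz.2 _)

/-- Cycles in positive degree are boundaries up to a power of `Δ`. -/
theorem exists_dd_eq (hanti : ∀ k l, ∀ v, ι k (ι l v) = -ι l (ι k v)) (hsq : ∀ k v, ι k (ι k v) = 0)
    {Δ : R} (hcross : ∀ k l, k ≠ l → ∀ v, ι k (e l v) + e l (ι k v) = 0)
    (hdiag : ∀ k v, ι k (e k v) + e k (ι k v) = Δ • v)
    (hι : ∀ k i, ∀ v ∈ G (i + 1), ι k v ∈ G i) (he : ∀ k i, ∀ v ∈ G i, e k v ∈ G (i + 1))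
    (hΔ : ∀ i, ∀ v ∈ G i, Δ • v ∈ G i) {i : ℕ} (z : (Fin m → ℕ) → Λ) (hz : IsGr G (i + 1) z) (hd : dd ι z = 0) :
    ∃ y, IsGr G (i + 2) y ∧ dd ι y = Δ ^ m • z := by
  suffices H : ∀ (A : Finset (Fin m)) (w : (Fin m → ℕ) → Λ), IsGr G (i + 1) w → dd ι w = 0 →
      (∀ α, (∃ k ∉ A, α k ≠ 0) → w α = 0) → ∃ y, IsGr G (i + 2) y ∧ dd ι y = Δ ^ A.card • w by
    simpa using H univ z hz hd (fun α h => absurd h (by simp))
  intro A
  induction A using Finset.induction_on with
  | empty =>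
    intro w hw _ hA
    have : w = 0 := by
      funext α
      by_cases hα : ∑ k, α k = i + 1
      · obtain ⟨k, -, hk⟩ := Finset.exists_ne_zero_of_sum_ne_zero (s := univ) (f := α) (by omega)
        exact hA α ⟨k, by simp, hk⟩
      · exact hw.1 α hα
    exact ⟨0, isGr_zero _, by simp [this, dd_zero]⟩
  | insert a A ha IH =>
    intro w hw hdw hA
    set w' := Δ • w - dd ι (hh e a w) with hw'
    have key : w' = fun β => if β a = 0 then e a (ι a (w β)) else 0 := by
      have := dd_hh_add (ι := ι) (e := e) hcross hdiag a w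
      have h0 : hh e a (0 : (Fin m → ℕ) → Λ) = 0 := by funext β; simp [hh]
      rw [hdw, h0, add_zero] at this
      rw [hw', this]
      funext β
      simp
    have h1 : IsGr G (i + 1) w' :=
      hw'.symm ▸ ⟨fun α h => by simp [hw.1 α h, (IsGr.dd hι (hw.hh he a)).1 α h],
        fun α => (G (i + 1)).sub_mem (hΔ _ _ (hw.2 α)) ((IsGr.dd hι (hw.hh he a)).2 α)⟩
    have h2 : dd ι w' = 0 := by
      rw [hw', dd_sub, dd_smul, hdw, dd_dd ι hanti hsq, smul_zero, sub_zero]
    have h3 : ∀ α, (∃ k ∉ A, α k ≠ 0) → w' α = 0 := fun α ⟨k, hk, hαk⟩ => by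
      rw [key]
      dsimp only
      split_ifs with h
      · rw [hA α ⟨k, by simp [hk, show k ≠ a from fun h' => hαk (h' ▸ h)], hαk⟩, map_zero, map_zero]
      · rfl
    obtain ⟨y, hy, hdy⟩ := IH w' h1 h2 h3
    refine ⟨Δ ^ A.card • hh e a w + y, ((hw.hh he a).smul (pow_smul_mem (hΔ _) _)).add hy, ?_⟩
    rw [dd_add, dd_smul, hdy, hw', smul_sub, smul_smul, Finset.card_insert_of_notMem ha, pow_succ]
    abel

/-- In degree zero: a common cycle of the composite is a boundary up to a power of `Δ`. -/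
theorem exists_sum_eq (hanti : ∀ k l, ∀ v, ι k (ι l v) = -ι l (ι k v))
    {Δ : R} (hcross : ∀ k l, k ≠ l → ∀ v, ι k (e l v) + e l (ι k v) = 0)
    (hdiag : ∀ k v, ι k (e k v) + e k (ι k v) = Δ • v)
    (hι : ∀ k i, ∀ v ∈ G (i + 1), ι k v ∈ G i) (he : ∀ k i, ∀ v ∈ G i, e k v ∈ G (i + 1))
    (hΔ : ∀ i, ∀ v ∈ G i, Δ • v ∈ G i) (l : List (Fin m)) (hl : l.Nodup) :
    ∀ v ∈ G 0, l.foldr (fun k x => ι k x) v = 0 →
      ∃ y : Fin m → Λ, (∀ k, y k ∈ G 1) ∧ ∑ k, ι k (y k) = Δ ^ l.length • v := by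
  induction l with
  | nil =>
    intro v _ hv
    exact ⟨0, fun k => (G 1).zero_mem, by simp at hv; simp [hv]⟩
  | cons a l IH =>
    intro v hv hav
    rw [List.nodup_cons] at hl
    simp only [List.foldr_cons] at hav
    have hcomm : ∀ (l' : List (Fin m)) (x : Λ), a ∉ l' →
        l'.foldr (fun k x => ι k x) (ι a (e a x)) = ι a (e a (l'.foldr (fun k x => ι k x) x)) := by
      intro l'
      induction l' with
      | nil => intros; rfl
      | cons b l' IH' =>
        intro x hb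
        simp only [List.mem_cons, not_or] at hb
        simp only [List.foldr_cons, IH' x hb.2]
        rw [hanti, eq_neg_of_add_eq_zero_left (hcross b a (Ne.symm hb.1) _), map_neg, neg_neg]
    have hlin : ∀ (l' : List (Fin m)) (x y : Λ) (c : R),
        l'.foldr (fun k x => ι k x) (c • x - y) =
          c • l'.foldr (fun k x => ι k x) x - l'.foldr (fun k x => ι k x) y := by
      intro l'
      induction l' with
      | nil => intros; rfl
      | cons b l' IH' => intros; simp [IH']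
    have hz : l.foldr (fun k x => ι k x) (Δ • v - ι a (e a v)) = 0 := by
      rw [hlin, hcomm l v hl.1, ← hdiag a, hav]
      simp
    obtain ⟨y, hy, hsum⟩ := IH hl.2 (Δ • v - ι a (e a v))
      ((G 0).sub_mem (hΔ 0 _ hv) (hι a 0 _ (he a 0 _ hv))) hz
    refine ⟨y + Pi.single a (Δ ^ l.length • e a v), fun k => (G 1).add_mem (hy k) ?_, ?_⟩
    · by_cases hk : k = a
      · subst hk; simpa using pow_smul_mem (hΔ 1) _ _ (he k 0 _ hv)
      · simp [hk]
    · simp only [Pi.add_apply, map_add, Finset.sum_add_distrib, hsum]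
      rw [Finset.sum_eq_single a (fun k _ hk => by simp [hk]) (by simp)]
      simp [smul_sub, smul_smul, pow_succ]

end Groth.Agent.H22Alg.EN
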