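import Groth.Agent.H22Alg.ENLaurent
import Groth.Agent.H22Alg.ENGen
import Groth.Agent.H17.PnDual.TopPairing
import Groth.Agent.H11Tilde.TwistPow
import Groth.Agent.H29Fitt.FreeLocal
import Groth.Agent.H17.OmegaLocal
import Groth.Agent.H22Alg.ExtPowSum
import Groth.Agent.H16Derived.KFlat.PerfCoh
import Groth.Agent.H16Derived.KFlat.FinLocFree
import Groth.Agent.H16Derived.KFlat.PerfCohLocal

/-!
# The Eagon–Northcott complex of sheaves on projective space
-/

set_option autoImplicit false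
set_option linter.style.haveILetI false
set_option backward.isDefEq.respectTransparency.types false

noncomputable section

universe u

open CategoryTheory CategoryTheory.Limits AlgebraicGeometry TopologicalSpace Opposite MvPolynomial
open Groth.Agent.H11Tilde Groth.Agent.H10Coh.Pn Groth.Agent.H17.PnDual Groth.Agent.H15Site

namespace Groth.Agent.H22Alg.EN

variable {r : ℕ} {R : Type u} [CommRing R]

/-- The chart where the `j`-th variable is inverted. -/
abbrev qj (j : Fin (r + 1)) : Fin (r + 1) →₀ ℕ := qa (fun _ : Fin 1 => j)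

theorem qj_pos (j : Fin (r + 1)) : 0 < (qj j).degree := degree_qa_pos _

theorem mem_qj (j : Fin (r + 1)) : j ∈ {l | 0 < qj j l} := (qa_pos_iff _ _).2 ⟨0, rfl⟩

/-- The chart. -/
abbrev Vj (j : Fin (r + 1)) : (Proj (Gr r R)).Opens := Dm (qj j)

theorem isAffineOpen_Vj (j : Fin (r + 1)) : IsAffineOpen (Vj (R := R) j) := by
  have h : Vj (R := R) j = CechTop.cap (X := (Proj (Gr r R)).toTopCat) (Us r R) (fun _ : Fin 1 => ULift.up.{u} j) :=
    Dm_qa (fun _ : Fin 1 => ULift.up.{u} j)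
  rw [h]
  exact isAffineOpen_cap _

theorem exists_mem_Vj (x : Proj (Gr r R)) : ∃ j, x ∈ Vj (R := R) j := by
  obtain ⟨i, hi⟩ := Opens.mem_iSup.1 ((iSup_Us (n := r) (R := R)).ge (show x ∈ ⊤ by trivial))
  exact ⟨i.down, (Dm_qa (fun _ : Fin 1 => i)).ge ((le_iInf fun _ => le_rfl : Us r R i ≤ _) hi)⟩

theorem psi_one0 {q₀ : Fin (r + 1) →₀ ℕ} (hpos : 0 < q₀.degree) :
    psi hpos (one0 (n := r) (R := R) (Dm q₀)) = 1 := by
  refine psi_eq hpos ⟨0, 1, 0, fun x _ => ?_, SetLike.one_mem_graded _, by simp, ?_, fun x => ?_⟩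
  · rw [show (mon 0 : MvPolynomial (Fin (r + 1)) R) = 1 from rfl]
    exact one_notMem (Gr r R) x
  · rw [map_one, one_mul, map_zero, neg_zero, T_zero]
  · exact fracAt_congr (Gr r R) x.1 _ _ rfl rfl

/-- The Laurent polynomial of a function. -/
def theta {q₀ : Fin (r + 1) →₀ ℕ} (hpos : 0 < q₀.degree) : Γ(Proj (Gr r R), Dm q₀) →+* L r R where
  toFun ρ := psi hpos (ρ • one0 (Dm q₀))
  map_one' := by rw [one_smul, psi_one0]
  map_mul' a b := by rw [mul_smul, psi_smul', mul_comm]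
  map_zero' := by rw [zero_smul, map_zero]
  map_add' a b := by rw [add_smul, map_add]

theorem psi_smul {a : ℤ} {q₀ : Fin (r + 1) →₀ ℕ} (hpos : 0 < q₀.degree) (ρ : Γ(Proj (Gr r R), Dm q₀))
    (σ : Γ(Od r R a, Dm q₀)) : psi hpos (ρ • σ) = theta hpos ρ * psi hpos σ :=
  (psi_smul' hpos ρ σ).trans (mul_comm _ _)

theorem bijective_smul_one0 (U : (Proj (Gr r R)).Opens) :
    Function.Bijective fun ρ : Γ(Proj (Gr r R), U) => ρ • one0 U :=
  bijective_smul_gen (Gr r R) (SetLike.one_mem_graded (Gr r R)) (SetLike.one_mem_graded (Gr r R))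
    (fun x _ => one_notMem (Gr r R) x) (fun x _ => one_notMem (Gr r R) x) (by simp) (one0 U) fun _ => rfl

theorem theta_injective {q₀ : Fin (r + 1) →₀ ℕ} (hpos : 0 < q₀.degree) :
    Function.Injective (theta (R := R) hpos) :=
  (psi_injective hpos).comp (bijective_smul_one0 _).1

theorem theta_mem {q₀ : Fin (r + 1) →₀ ℕ} (hpos : 0 < q₀.degree) (ρ : Γ(Proj (Gr r R), Dm q₀)) :
    theta hpos ρ ∈ allowedSub R 0 {l | 0 < q₀ l} := psi_mem hpos _

theorem theta_range {q₀ : Fin (r + 1) →₀ ℕ} (hpos : 0 < q₀.degree) {z : L r R}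
    (hz : z ∈ allowedSub R 0 {l | 0 < q₀ l}) : ∃ ρ : Γ(Proj (Gr r R), Dm q₀), theta hpos ρ = z := by
  obtain ⟨τ, hτ⟩ := psi_range (d := 0) hpos hz
  obtain ⟨ρ, hρ⟩ := (bijective_smul_one0 _).2 τ
  exact ⟨ρ, (congrArg (psi hpos) hρ).trans hτ⟩

/-- The identification of `O` with `O(0)`. -/
def unitIso : Coh.structureModule (Proj (Gr r R)) ≅ Od r R 0 :=
  haveI := isIso_homOfGlobal (Od r R 0) (one0 ⊤) fun V =>
    bijective_smul_gen (Gr r R) (SetLike.one_mem_graded (Gr r R)) (SetLike.one_mem_graded (Gr r R))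
      (fun x _ => one_notMem (Gr r R) x) (fun x _ => one_notMem (Gr r R) x) (by simp) _ fun _ => rfl
  asIso (homOfGlobal (Od r R 0) (one0 ⊤))

theorem psi_unitIso {q₀ : Fin (r + 1) →₀ ℕ} (hpos : 0 < q₀.degree) (ρ : Γ(Proj (Gr r R), Dm q₀)) :
    psi hpos (unitIso.hom.app (Dm q₀) ρ) = theta hpos ρ := by
  show psi hpos ((homOfGlobal (Od r R 0) (one0 ⊤)).app (Dm q₀) ρ) = _
  rw [homOfGlobal_app]
  refine congrArg (psi hpos) (congrArg (ρ • ·) ?_)
  exact sval_ext (Gr r R) (Gr r R) fun x => sval_map (Gr r R) (Gr r R) _ _ x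

theorem theta_unitIso_inv {q₀ : Fin (r + 1) →₀ ℕ} (hpos : 0 < q₀.degree) (σ : Γ(Od r R 0, Dm q₀)) :
    theta hpos (unitIso.inv.app (Dm q₀) σ) = psi hpos σ := by
  rw [← psi_unitIso]
  refine congrArg (psi hpos) ?_
  exact congr($(congr(Scheme.Modules.Hom.app $(unitIso.inv_hom_id) (Dm q₀))) σ)

theorem IsMul.comp {a b c : ℤ} {φ : Od r R a ⟶ Od r R b} {φ' : Od r R b ⟶ Od r R c} {y y' : L r R}
    (h : IsMul φ y) (h' : IsMul φ' y') : IsMul (φ ≫ φ') (y' * y) := fun q₀ hpos σ => by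
  show psi hpos (φ'.app _ (φ.app _ σ)) = _
  rw [h', h, mul_assoc]

theorem isMul_zero (a c : ℤ) : IsMul (0 : Od r R a ⟶ Od r R c) 0 := fun q₀ hpos σ => by
  show psi hpos 0 = _
  rw [map_zero, zero_mul]

theorem isMul_sum {a c : ℤ} {κ : Type*} (s : Finset κ) {φ : κ → (Od r R a ⟶ Od r R c)} {y : κ → L r R}
    (h : ∀ k ∈ s, IsMul (φ k) (y k)) : IsMul (∑ k ∈ s, φ k) (∑ k ∈ s, y k) := fun q₀ hpos σ => by
  rw [ExtPowSum.app_sum, map_sum, Finset.sum_mul]
  exact Finset.sum_congr rfl fun k hk => h k hk q₀ hpos σ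

section complex

variable {m n : ℕ} (A : Fin m → Fin n → L r R)

/-- The terms. -/
abbrev Et (R : Type u) [CommRing R] (r m n i : ℕ) : (Proj (Gr r R)).Modules :=
  ⨁ fun _ : Idx m n i => Od r R (-((m : ℤ) + i))

theorem isQCoh_Et (i : ℕ) : Coh.IsQCoh (Et R r m n i) :=
  @H10Coh.isQuasicoherent_biproduct _ _ _ (fun _ : Idx m n i => Od r R (-((m : ℤ) + i)))
    fun _ => H11Tilde.tilde_isQuasicoherent (Gr r R) (Gr r R) _

/-- The Laurent coordinates of a section. -/
def coord {i : ℕ} (j : Fin (r + 1)) (z : Γ(Et R r m n i, Vj j)) (x : Idx m n i) : L r R :=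
  psi (qj_pos j) ((biproduct.π (fun _ : Idx m n i => Od r R (-((m : ℤ) + i))) x).app (Vj j) z)

theorem coord_mem {i : ℕ} (j : Fin (r + 1)) (z : Γ(Et R r m n i, Vj j)) (x : Idx m n i) :
    coord j z x ∈ allowedSub R (0 - ((m : ℤ) + i)) {l | 0 < qj j l} := by
  rw [zero_sub]
  exact psi_mem _ _

theorem coord_injective {i : ℕ} (j : Fin (r + 1)) :
    Function.Injective (coord (R := R) (m := m) (n := n) (i := i) j) := by
  intro z w h
  have hz : ∀ z : Γ(Et R r m n i, Vj j), z = ∑ x, (biproduct.ι (fun _ : Idx m n i => Od r R (-((m : ℤ) + i))) x).app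
      (Vj j) ((biproduct.π (fun _ : Idx m n i => Od r R (-((m : ℤ) + i))) x).app (Vj j) z) := fun z =>
    (congr($(congr(Scheme.Modules.Hom.app $(biproduct.total
      (f := fun _ : Idx m n i => Od r R (-((m : ℤ) + i)))) (Vj j))) z)).symm.trans (ExtPowSum.app_sum _ _ _ _)
  rw [hz z, hz w]
  refine Finset.sum_congr rfl fun x _ => congrArg _ (psi_injective _ (congrFun h x))

theorem coord_smul {i : ℕ} (j : Fin (r + 1)) (ρ : Γ(Proj (Gr r R), Vj j)) (z : Γ(Et R r m n i, Vj j))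
    (x : Idx m n i) : coord j (ρ • z) x = theta (qj_pos j) ρ * coord j z x := by
  rw [coord, Scheme.Modules.Hom.app_smul, psi_smul]
  rfl

theorem coord_surj {i : ℕ} (j : Fin (r + 1)) (w : Idx m n i → L r R)
    (hw : ∀ x, w x ∈ allowedSub R (0 - ((m : ℤ) + i)) {l | 0 < qj j l}) :
    ∃ z : Γ(Et R r m n i, Vj j), ∀ x, coord j z x = w x := by
  classical
  simp only [zero_sub] at hw
  choose s hs using fun x => psi_range (qj_pos j) (hw x)
  refine ⟨∑ x, (biproduct.ι (fun _ : Idx m n i => Od r R (-((m : ℤ) + i))) x).app (Vj j) (s x), fun x => ?_⟩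
  rw [coord, map_sum, map_sum, Finset.sum_eq_single x]
  · rw [← hs x]
    exact congrArg _ (congr($(congr(Scheme.Modules.Hom.app $(biproduct.ι_π_self
      (fun _ : Idx m n i => Od r R (-((m : ℤ) + i))) x) (Vj j))) (s x)))
  · intro y _ hy
    have h0 := congr($(congr(Scheme.Modules.Hom.app $(biproduct.ι_π_ne
      (fun _ : Idx m n i => Od r R (-((m : ℤ) + i))) hy) (Vj j))) (s y))
    exact (congrArg (psi (qj_pos j)) h0).trans (map_zero _)
  · simp

variable (hA : ∀ k s, A k s ∈ allowedSub R 1 (∅ : Set (Fin (r + 1))))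

/-- An entry of the differential. -/
def entryHom {i : ℕ} (x : Idx m n (i + 1)) (b : Idx m n i) :
    Od r R (-((m : ℤ) + (i + 1 : ℕ))) ⟶ Od r R (-((m : ℤ) + i)) :=
  (exists_mulHom (a := -((m : ℤ) + (i + 1 : ℕ))) (c := -((m : ℤ) + i)) (b := 1) (by push_cast; ring)
    (entry A x b) (entry_mem A hA x b)).choose

theorem isMul_entryHom {i : ℕ} (x : Idx m n (i + 1)) (b : Idx m n i) :
    IsMul (entryHom A hA x b) (entry A x b) :=
  (exists_mulHom (a := -((m : ℤ) + (i + 1 : ℕ))) (c := -((m : ℤ) + i)) (b := 1) (by push_cast; ring)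
    (entry A x b) (entry_mem A hA x b)).choose_spec

/-- The differential. -/
def dMor (i : ℕ) : Et R r m n (i + 1) ⟶ Et R r m n i := biproduct.matrix (entryHom A hA)

theorem coord_dMor {i : ℕ} (j : Fin (r + 1)) (z : Γ(Et R r m n (i + 1), Vj j)) (b : Idx m n i) :
    coord j ((dMor A hA i).app (Vj j) z) b = ∑ x, coord j z x * entry A x b := by
  rw [coord, ← ConcreteCategory.comp_apply, ← Scheme.Modules.Hom.comp_app, dMor, biproduct.matrix_π,
    biproduct.desc_eq, ExtPowSum.app_sum, map_sum]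
  refine Finset.sum_congr rfl fun x _ => ?_
  rw [mul_comm]
  exact isMul_entryHom A hA x b _ (qj_pos j) _

theorem dMor_dMor (i : ℕ) : dMor A hA (i + 1) ≫ dMor A hA i = 0 := by
  refine biproduct.hom_ext' _ _ fun x => biproduct.hom_ext _ _ fun b => ?_
  rw [comp_zero, zero_comp, Category.assoc, Category.assoc, dMor, dMor, biproduct.matrix_π, biproduct.desc_eq,
    Preadditive.comp_sum, Preadditive.comp_sum]
  refine IsMul.ext ?_ (isMul_zero _ _)
  rw [← sum_entry_mul_entry A hA x b]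
  refine isMul_sum _ fun y _ => ?_
  rw [← Category.assoc, ← Category.assoc, Category.assoc (biproduct.ι _ x), biproduct.matrix_π, biproduct.ι_desc,
    mul_comm]
  exact IsMul.comp (isMul_entryHom A hA x y) (isMul_entryHom A hA y b)

/-- A maximal minor as a morphism. -/
def minorHom (x : Idx m n 0) : Od r R (-((m : ℤ) + (0 : ℕ))) ⟶ Od r R 0 :=
  (exists_mulHom (a := -((m : ℤ) + (0 : ℕ))) (c := 0) (b := (m : ℤ)) (by push_cast; ring)
    (minor A x.2) (minor_mem A hA ∅ x.2)).choose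

theorem isMul_minorHom (x : Idx m n 0) : IsMul (minorHom A hA x) (minor A x.2) :=
  (exists_mulHom (a := -((m : ℤ) + (0 : ℕ))) (c := 0) (b := (m : ℤ)) (by push_cast; ring)
    (minor A x.2) (minor_mem A hA ∅ x.2)).choose_spec

/-- The augmentation. -/
def augMor : Et R r m n 0 ⟶ Coh.structureModule (Proj (Gr r R)) :=
  biproduct.desc (minorHom A hA) ≫ unitIso.inv

theorem theta_augMor (j : Fin (r + 1)) (z : Γ(Et R r m n 0, Vj j)) :
    theta (qj_pos j) ((augMor A hA).app (Vj j) z) = ∑ x : Idx m n 0, minor A x.2 * coord j z x := by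
  rw [augMor, Scheme.Modules.Hom.comp_app, ConcreteCategory.comp_apply, theta_unitIso_inv, biproduct.desc_eq,
    ExtPowSum.app_sum, map_sum]
  exact Finset.sum_congr rfl fun x _ => isMul_minorHom A hA x _ (qj_pos j) _

theorem dMor_augMor : dMor A hA 0 ≫ augMor A hA = 0 := by
  refine biproduct.hom_ext' _ _ fun x => ?_
  rw [comp_zero, augMor, biproduct.desc_eq, Preadditive.sum_comp, Preadditive.comp_sum, Preadditive.comp_sum]
  rw [← cancel_mono unitIso.hom, zero_comp, Preadditive.sum_comp]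
  refine IsMul.ext ?_ (isMul_zero _ _)
  rw [← sum_entry_mul_minor A hA x]
  refine isMul_sum _ fun y _ => ?_
  simp only [Category.assoc, Iso.inv_hom_id, Category.comp_id]
  rw [← Category.assoc (dMor A hA 0), dMor, biproduct.matrix_π, biproduct.ι_desc_assoc, mul_comm]
  exact IsMul.comp (isMul_entryHom A hA x y) (isMul_minorHom A hA y)

/-- The function `minor / x_j^m`. -/
def discSec (j : Fin (r + 1)) (T₀ : Finset (Fin n)) : Γ(Proj (Gr r R), Vj j) :=
  (theta_range (qj_pos j) (disc_mem A hA (mem_qj j) T₀)).choose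

theorem theta_discSec (j : Fin (r + 1)) (T₀ : Finset (Fin n)) :
    theta (qj_pos j) (discSec A hA j T₀) = disc A T₀ j :=
  (theta_range (qj_pos j) (disc_mem A hA (mem_qj j) T₀)).choose_spec

theorem coord_discSec_smul {i : ℕ} (j : Fin (r + 1)) (T₀ : Finset (Fin n)) (z : Γ(Et R r m n i, Vj j))
    (x : Idx m n i) : coord j (discSec A hA j T₀ ^ m • z) x = disc A T₀ j ^ m * coord j z x := by
  rw [coord_smul, map_pow, theta_discSec]

theorem notMem_support_homology_succ (i : ℕ) (j : Fin (r + 1)) {T₀ : Finset (Fin n)} (hT₀ : T₀.card = m)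
    {x : Proj (Gr r R)} (hx : x ∈ (Proj (Gr r R)).basicOpen (discSec A hA j T₀)) :
    x ∉ CohB1.support (cokernel (kernel.lift (dMor A hA i) (dMor A hA (i + 1)) (dMor_dMor A hA i))) := by
  refine ENGen.notMem_support_homology (isQCoh_Et _) (isQCoh_Et _) (isQCoh_Et _) _ _ _ (isAffineOpen_Vj j)
    (discSec A hA j T₀) m (fun z hz => ?_) hx
  obtain ⟨y, hy, hy'⟩ := exists_eq_sum_entry A hA (mem_qj j) hT₀ (coord j z) (coord_mem j z) fun b => by
    rw [← coord_dMor A hA, hz, coord, map_zero, map_zero]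
  obtain ⟨w, hw⟩ := coord_surj j y hy
  refine ⟨w, coord_injective j (funext fun b => ?_)⟩
  rw [coord_dMor, coord_discSec_smul, ← hy' b]
  exact Finset.sum_congr rfl fun x _ => by rw [hw]

end complex

end Groth.Agent.H22Alg.EN
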