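import Mathlib
import Groth.Agent.H22Alg.ESZConverse

/-!
# The case of the projective space of dimension zero
-/

set_option autoImplicit false
set_option linter.style.haveILetI false

universe u

open CategoryTheory CategoryTheory.Limits AlgebraicGeometry Opposite TopologicalSpace

namespace Groth.Agent.H22Alg.ESZZero

variable {k : Type u} [Field k]

attribute [local instance] ESZ.isNoetherian_proj ESZ.isSeparated_proj

theorem lt_depth {F : (CohB1.ProjSpace 0 k).Modules} (hF : Coh.IsCoh F) (n : ℕ)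
    (h : ∀ i ≤ n, ∃ m₀ : ℤ, Subsingleton (Coh.HH (CohB1.ProjSpace 0 k)
      (Twist.twistBy (CohB1.polyGrading 0 k) F (-m₀)) i))
    (x : CohB1.ProjSpace 0 k) (hx : IsClosed ({x} : Set (CohB1.ProjSpace 0 k))) :
    (n : ℕ∞) < LocCoh.depth ((CohB1.ProjSpace 0 k).presheaf.stalk x) (F.presheaf.stalk x) := by
  haveI := H11Proj.ProjSpace.isIso_toSpec_zero k
  haveI : Subsingleton (CohB1.ProjSpace 0 k) :=
    (CohB1.ProjSpace.toSpec 0 k).isOpenEmbedding.injective.subsingleton
  haveI : Subsingleton (F.presheaf.stalk x) := by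
    by_contra hne
    obtain ⟨m₀, hm⟩ := h 0 (Nat.zero_le _)
    obtain ⟨z, hz, -⟩ := H17.AssPts.exists_ass_specializes F hF.1 (y := x) (not_subsingleton_iff_nontrivial.1 hne)
    let G : (CohB1.ProjSpace 0 k).Modules := Twist.twistBy (CohB1.polyGrading 0 k) F (-m₀)
    have hinv := ESZ.hinvertible 0 k (-m₀)
    have hG : Coh.IsCoh G := H11Ample.isCoh_tensor hF hinv
    haveI : IsLocallyNoetherian (CohB1.ProjSpace 0 k) := (ESZ.isNoetherian_proj (r := 0) (k := k)).toIsLocallyNoetherian
    obtain ⟨t, ht⟩ := ESZ.exists_global_of_ass (X := CohB1.ProjSpace 0 k) G hG.1 ((NegTwist.mem_ass_tensor hinv F).symm ▸ hz)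
      (by rwa [Subsingleton.elim z x])
    haveI : Subsingleton Γ(G, ⊤) := (H10Coh.HH0Equiv G).toEquiv.symm.subsingleton_congr.2 hm
    exact ht (by rw [Subsingleton.elim t 0, map_zero])
  rw [show LocCoh.depth ((CohB1.ProjSpace 0 k).presheaf.stalk x) (F.presheaf.stalk x) = ⊤ from
    H4Depth.idealDepth_eq_top (Subsingleton.elim _ _)]
  exact ENat.coe_lt_top n

end Groth.Agent.H22Alg.ESZZero
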