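import Groth.Agent.H06EGA14.Chevalley3
import Groth.Agent.H06EGA14.Chevalley4

/-! # Universal openness over a geometrically unibranch base with finitely many components. -/

set_option autoImplicit false
set_option linter.style.haveILetI false
universe u

open CategoryTheory CategoryTheory.Limits AlgebraicGeometry TopologicalSpace Topology

namespace Groth.Agent.H22Alg.EquidimOpen

open H8Props.FieldDim

variable {S : Scheme.{u}} (hS : ∀ s : S, CAlg2.IsGeomUnibranch (S.presheaf.stalk s))

include hS in
/-- Maximal generizations of a unibranch point are unique. -/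
theorem eq_of_maximal {s η η' : S} (h : η ⤳ s) (h' : η' ⤳ s) (hm : ∀ w, w ⤳ η → w = η)
    (hm' : ∀ w, w ⤳ η' → w = η') : η = η' := by
  obtain ⟨P, hP⟩ := (Scheme.range_fromSpecStalk (x := s)).ge h
  obtain ⟨P', hP'⟩ := (Scheme.range_fromSpecStalk (x := s)).ge h'
  haveI : IsDomain (S.presheaf.stalk s ⧸ nilradical (S.presheaf.stalk s)) := (hS s).1.1
  haveI hN : (nilradical (S.presheaf.stalk s)).IsPrime :=
    (Ideal.Quotient.isDomain_iff_prime _).1 inferInstance
  let N : Spec (S.presheaf.stalk s) := (⟨_, hN⟩ : PrimeSpectrum (S.presheaf.stalk s))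
  have key : ∀ Q : Spec (S.presheaf.stalk s), S.fromSpecStalk s N ⤳ S.fromSpecStalk s Q := fun Q =>
    ((PrimeSpectrum.le_iff_specializes N Q).1 (by
      show nilradical _ ≤ _
      rw [nilradical_eq_sInf]; exact sInf_le Q.2)).map (S.fromSpecStalk s).continuous
  exact (hm _ (hP ▸ key P)).symm.trans (hm' _ (hP' ▸ key P'))

include hS in
/-- The components of such a scheme are open. -/
theorem isOpen_component (hfin : (irreducibleComponents (S : Type u)).Finite) {η : S}
    (hη : closure ({η} : Set S) ∈ irreducibleComponents (S : Type u)) :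
    IsOpen (closure ({η} : Set S)) := by
  have hc : closure ({η} : Set S) = (⋃ T ∈ irreducibleComponents (S : Type u) \ {closure {η}}, T)ᶜ := by
    ext z
    constructor
    · intro hz hmem
      obtain ⟨T, ⟨hT, hne⟩, hzT⟩ := Set.mem_iUnion₂.1 hmem
      obtain ⟨θ, rfl, hgen⟩ := mem_irreducibleComponents_iff hT
      refine hne ?_
      rw [Set.mem_singleton_iff, eq_of_maximal hS (specializes_iff_mem_closure.2 hzT)
        (specializes_iff_mem_closure.2 hz) hgen
        (H06Equidim.eq_of_specializes_of_component hη)]
    · intro hz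
      obtain ⟨θ, hθ, hT⟩ := exists_component_generization z
      by_contra hne
      exact hz (Set.mem_iUnion₂.2 ⟨_, ⟨hT, fun he => hne (Set.mem_singleton_iff.1 he ▸ hθ.mem_closure)⟩,
        hθ.mem_closure⟩)
  rw [hc]
  exact (hfin.sdiff.isClosed_biUnion fun T hT => isClosed_of_mem_irreducibleComponents T hT.1).isOpen_compl

include hS in
theorem universallyOpen (hfin : (irreducibleComponents (S : Type u)).Finite) {X : Scheme.{u}} (f : X ⟶ S)
    [LocallyOfFiniteType f]
    (hT : ∀ x : X, ∃ W : TopologicalSpace.Closeds X, (W : Set X) ∈ irreducibleComponents (X : Type u) ∧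
      ∃ w : ↥((Scheme.IdealSheafData.vanishingIdeal W).subscheme),
        (Scheme.IdealSheafData.vanishingIdeal W).subschemeι.base w = x ∧
        EGA43.IsEquidimAt ((Scheme.IdealSheafData.vanishingIdeal W).subschemeι ≫ f) w) :
    UniversallyOpen f := by
  have key : ∀ x : X, ∃ (V : Scheme.{u}) (j : V ⟶ X), x ∈ Set.range j ∧ UniversallyOpen (j ≫ f) := by
    intro x
    obtain ⟨W, hW, w, hw, e, U, hwU, hcomp, hfib⟩ := hT x
    let Z := (Scheme.IdealSheafData.vanishingIdeal W).subscheme
    let i : Z ⟶ X := (Scheme.IdealSheafData.vanishingIdeal W).subschemeι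
    have hri : Set.range i = (W : Set X) := by
      rw [Scheme.IdealSheafData.range_subschemeι]
      rfl
    haveI : IrreducibleSpace Z := by
      haveI : IrreducibleSpace (W : Set X) := Subtype.irreducibleSpace hW.1
      exact ((Homeomorph.setCongr hri.symm).trans i.isEmbedding.toHomeomorph.symm).irreducibleSpace_iff.1 ‹_›
    haveI : Nonempty U := ⟨⟨w, hwU⟩⟩
    haveI : IrreducibleSpace U.toScheme := by
      have hU : IsIrreducible (U : Set Z) :=
        ⟨⟨w, hwU⟩, IsPreirreducible.open_subset (IrreducibleSpace.isIrreducible_univ Z).isPreirreducible U.2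
          (Set.subset_univ _)⟩
      exact Subtype.irreducibleSpace hU
    let g : U.toScheme ⟶ S := U.ι ≫ i ≫ f
    have hdimU : ∀ z : U.toScheme, FlatMor.fibreDimAt g z = e :=
      H06Equidim.fibreDimAt_eq_of_dim_component_fibre g e hfib
    have hall : ∀ z : U.toScheme, g (genericPoint U.toScheme) ⤳ g z := fun z =>
      (genericPoint_specializes z).map g.continuous
    have hη : closure ({g (genericPoint U.toScheme)} : Set S) ∈ irreducibleComponents (S : Type u) := by
      obtain ⟨C, hC, -, hCeq⟩ := hcomp Set.univ ((irreducibleComponents_eq_singleton (X := U.toScheme)).ge (Set.mem_singleton _))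
      refine (?_ : closure ({g (genericPoint U.toScheme)} : Set S) = C) ▸ hC
      rw [← hCeq]
      refine Eq.trans ?_ (congrArg (fun T => closure (g '' T)) (genericPoint_spec U.toScheme).def)
      exact (H06Equidim.closure_image_closure_singleton g _).symm
    let C : S.Opens := ⟨_, isOpen_component hS hfin hη⟩
    have hgC : Set.range g ⊆ Set.range C.ι := by
      rw [Scheme.Opens.range_ι]
      rintro _ ⟨z, rfl⟩
      exact (hall z).mem_closure
    let h : U.toScheme ⟶ C.toScheme := IsOpenImmersion.lift C.ι g hgC
    have hhg : h ≫ C.ι = g := IsOpenImmersion.lift_fac _ _ _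
    haveI : IrreducibleSpace C.toScheme := by
      exact Subtype.irreducibleSpace hη.1
    haveI : LocallyOfFiniteType (h ≫ C.ι) := hhg ▸ inferInstance
    haveI : LocallyOfFiniteType h := locallyOfFiniteType_of_comp h C.ι
    haveI : UniversallyOpen h := by
      refine H06EGA14.universallyOpen_of_irreducible (fun y => ?_) h (fun v hv => ?_) fun z => ?_
      · exact H06EGA14.isGeomUnibranch_of_ringEquiv
          (asIso (C.ι.stalkMap y)).commRingCatIsoToRingEquiv (hS _)
      · refine C.ι.isEmbedding.injective ?_
        have := hv.map C.ι.continuous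
        rw [← Scheme.Hom.comp_apply, hhg] at this
        rw [← Scheme.Hom.comp_apply, hhg]
        exact H06Equidim.eq_of_specializes_of_component hη _ this
      · have hd : ∀ z, FlatMor.fibreDimAt h z = e := fun z => by
          rw [← fibreDimAt_comp_openImmersion h C.ι z]
          simp only [hhg, hdimU z]
        rw [H06Equidim.cdim_asFiber_eq_fibreDimAt h _
          (fun ζ hζ => (hζ.antisymm (genericPoint_specializes ζ)).eq), hd, hd]
    refine ⟨U.toScheme, U.ι ≫ i, ⟨⟨w, hwU⟩, hw⟩, ?_⟩
    rw [Category.assoc, show U.ι ≫ i ≫ f = h ≫ C.ι from hhg.symm]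
    infer_instance
  choose V j hj hUO using key
  haveI : Surjective (Sigma.desc j) := ⟨fun x => by
    obtain ⟨v, hv⟩ := hj x
    refine ⟨Sigma.ι V x v, ?_⟩
    rw [← Scheme.Hom.comp_apply, Sigma.ι_desc]
    exact hv⟩
  haveI : UniversallyOpen (Sigma.desc j ≫ f) := by
    refine (IsZariskiLocalAtSource.iff_of_openCover (P := @UniversallyOpen) (sigmaOpenCover V)).2 fun x => ?_
    show UniversallyOpen (Sigma.ι V x ≫ Sigma.desc j ≫ f)
    rw [Sigma.ι_desc_assoc]
    exact hUO x
  exact H06EGA14.universallyOpen_of_comp_surjective (Sigma.desc j) f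

end Groth.Agent.H22Alg.EquidimOpen
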