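import Groth.Agent.H18Inertia.Etale
import Mathlib

/-!
# The standard étale neighbourhood of invariants is compatible with equivariant maps

For `x ∈ R^I` the ring `R^I[1/∂x]` (`∂x` the discriminant element) is `P.Ring` for the standard étale
pair of the orbit polynomial of `x` over `R^G`; hence for an equivariant map `R → R'` the comparison
`R'^G ⊗ R^I[1/∂x] → R'^I[1/∂x']` is injective.
-/

set_option autoImplicit false
set_option linter.style.haveILetI false
universe u

noncomputable section

open Polynomial TensorProduct

namespace Groth.Agent.H22Alg.EtalePair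

open _root_.H18Inertia

variable {G R : Type u} [Group G] [Finite G] [CommRing R] [MulSemiringAction G R] (I : Subgroup G)
  [Fintype (G ⧸ I)] [DecidableEq (G ⧸ I)]
  [Algebra (FixedPoints.subring R G) (FixedPoints.subring R I)]
  [IsScalarTower (FixedPoints.subring R G) (FixedPoints.subring R I) R]

/-- The standard étale pair of a monic polynomial and its derivative. -/
def derivPair {A : Type u} [CommRing A] (f : A[X]) (hf : f.Monic) : StandardEtalePair A :=
  ⟨f, hf, derivative f, 1, 0, 1, by ring⟩

theorem aeval_f (x : FixedPoints.subring R I) {f : (FixedPoints.subring R G)[X]}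
    (hf : f.map (algebraMap (FixedPoints.subring R G) R) = prodR I x) : aeval x f = 0 := by
  apply Subtype.val_injective
  show algebraMap (FixedPoints.subring R I) R (aeval x f) = 0
  rw [← aeval_algebraMap_apply, aeval_def, ← eval_map, hf, prodR, eval_prod]
  exact Finset.prod_eq_zero (Finset.mem_univ ((1 : G) : G ⧸ I)) (by
    rw [show algebraMap (FixedPoints.subring R I) R x = (x : R) from rfl]; simp [conj_mk])

theorem aeval_derivative (x : FixedPoints.subring R I) {f : (FixedPoints.subring R G)[X]}
    (hf : f.map (algebraMap (FixedPoints.subring R G) R) = prodR I x) :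
    aeval x (derivative f) = discElt I x := by
  apply Subtype.val_injective
  show algebraMap (FixedPoints.subring R I) R (aeval x (derivative f)) = _
  rw [← aeval_algebraMap_apply, aeval_def, ← eval_map, ← derivative_map, hf]
  exact eval_derivative I x

theorem hasMap (x : FixedPoints.subring R I) {f : (FixedPoints.subring R G)[X]} (hfm : f.Monic)
    (hf : f.map (algebraMap (FixedPoints.subring R G) R) = prodR I x) :
    (derivPair f hfm).HasMap (algebraMap (FixedPoints.subring R I) (Localization.Away (discElt I x)) x) :=
  ⟨by rw [aeval_algebraMap_apply, show (derivPair f hfm).f = f from rfl, aeval_f I x hf, map_zero],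
    by rw [aeval_algebraMap_apply, show (derivPair f hfm).g = derivative f from rfl, aeval_derivative I x hf]
       exact IsLocalization.Away.algebraMap_isUnit _⟩

/-- `R^I[1/∂x]` is the standard étale algebra of the orbit polynomial. -/
theorem bijective_lift (x : FixedPoints.subring R I) {f : (FixedPoints.subring R G)[X]} (hfm : f.Monic)
    (hf : f.map (algebraMap (FixedPoints.subring R G) R) = prodR I x) :
    Function.Bijective ((derivPair f hfm).lift _ (hasMap I x hfm hf)) := by
  rcases subsingleton_or_nontrivial R with hR | hR
  · haveI : Subsingleton (FixedPoints.subring R G) := inferInstance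
    haveI : Subsingleton (FixedPoints.subring R I) := inferInstance
    haveI : Subsingleton (derivPair f hfm).Ring :=
      (algebraMap (FixedPoints.subring R G) (derivPair f hfm).Ring).codomain_trivial
    haveI : Subsingleton (Localization.Away (discElt I x)) :=
      (algebraMap (FixedPoints.subring R I) _).codomain_trivial
    exact ⟨fun a b _ => Subsingleton.elim a b, fun b => ⟨0, Subsingleton.elim _ _⟩⟩
  let A := FixedPoints.subring R G
  let B := FixedPoints.subring R I
  have hinjA : Function.Injective (algebraMap A R) := Subtype.val_injective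
  have hinjB : Function.Injective (algebraMap B R) := Subtype.val_injective
  have hval : ∀ P : A[X], algebraMap B R (aeval x P) = (P.map (algebraMap A R)).eval (x : R) :=
    fun P => by
      rw [← aeval_algebraMap_apply, eval_map]
      rfl
  have hf0 : aeval x f = 0 := aeval_f I x hf
  have hd : aeval x (derivative f) = discElt I x := aeval_derivative I x hf
  let P := derivPair f hfm
  let T := Localization.Away (discElt I x)
  let ψ : AdjoinRoot f →ₐ[A] B := Ideal.Quotient.liftₐ (Ideal.span {f}) (aeval x) fun a ha => by
    obtain ⟨b, rfl⟩ := Ideal.mem_span_singleton.mp ha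
    rw [map_mul, hf0, zero_mul]
  have hψ : ∀ Q : A[X], ψ (AdjoinRoot.mk f Q) = aeval x Q := fun Q => rfl
  letI : Algebra (AdjoinRoot f) T := ((algebraMap B T).comp ψ.toRingHom).toAlgebra
  haveI : IsScalarTower A (AdjoinRoot f) T := IsScalarTower.of_algebraMap_eq fun a => by
    show algebraMap A T a = algebraMap B T (ψ (algebraMap A (AdjoinRoot f) a))
    rw [ψ.commutes]
    exact IsScalarTower.algebraMap_apply A B T a
  have hpow : ∀ n : ℕ, algebraMap (AdjoinRoot f) T (AdjoinRoot.mk f (derivative f) ^ n) =
      algebraMap B T (discElt I x ^ n) := fun n => by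
    show algebraMap B T (ψ _) = _
    rw [map_pow, hψ, hd]
  haveI : IsLocalization.Away (AdjoinRoot.mk f (derivative f)) T :=
    { map_units := by
        rintro ⟨_, n, rfl⟩
        rw [hpow, map_pow]
        exact (IsLocalization.Away.algebraMap_isUnit (discElt I x)).pow n
      surj := fun z => by
        obtain ⟨⟨y, ⟨_, n, rfl⟩⟩, hz⟩ := IsLocalization.surj (Submonoid.powers (discElt I x)) z
        obtain ⟨h, hh⟩ := (mem_lifts _).mp (mem_lifts_of_smul_eq (smul_interpR I x y))
        refine ⟨⟨AdjoinRoot.mk f h, ⟨_, n + 1, rfl⟩⟩, ?_⟩
        have he : ψ (AdjoinRoot.mk f h) = y * discElt I x := hinjB (by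
          rw [hψ, hval, hh, eval_interpR, map_mul]
          rfl)
        show z * algebraMap (AdjoinRoot f) T (AdjoinRoot.mk f (derivative f) ^ (n + 1)) =
          algebraMap B T (ψ (AdjoinRoot.mk f h))
        rw [hpow, he, map_mul, map_pow, pow_succ, ← mul_assoc, ← map_pow, hz]
      exists_of_eq := fun {a b} hab => by
        obtain ⟨a, rfl⟩ := AdjoinRoot.mk_surjective a
        obtain ⟨b, rfl⟩ := AdjoinRoot.mk_surjective b
        obtain ⟨⟨_, N, rfl⟩, hN⟩ :=
          (IsLocalization.eq_iff_exists (Submonoid.powers (discElt I x)) T).mp hab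
        refine ⟨⟨_, N + 1, rfl⟩, ?_⟩
        show AdjoinRoot.mk f (derivative f) ^ (N + 1) * AdjoinRoot.mk f a =
          AdjoinRoot.mk f (derivative f) ^ (N + 1) * AdjoinRoot.mk f b
        rw [← map_pow, ← map_mul, ← map_mul, AdjoinRoot.mk_eq_mk]
        refine (map_dvd_map (algebraMap A R) hinjA hfm).mp ?_
        let W : A[X] := derivative f ^ N * (a - b)
        have hW0 : aeval x W = 0 := by
          change discElt I x ^ N * ψ (AdjoinRoot.mk f a) = discElt I x ^ N * ψ (AdjoinRoot.mk f b) at hN
          rw [hψ, hψ] at hN
          simp only [W, map_mul, map_pow, map_sub, hd, mul_sub, hN, sub_self]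
        have hW : ∀ q, (W.map (algebraMap A R)).eval (conj I x q) = 0 := by
          intro q
          induction q using QuotientGroup.induction_on with
          | H g =>
            have hfix : g • W.map (algebraMap A R) = W.map (algebraMap A R) := by
              refine Polynomial.ext fun n => ?_
              rw [Polynomial.coeff_smul, coeff_map]
              exact (W.coeff n).2 g
            rw [conj_mk, ← hfix, Polynomial.smul_eval_smul, ← hval, hW0, map_zero, smul_zero]
        have hdvd := dvd_derivative_mul I x hW
        rw [← hf, derivative_map, ← Polynomial.map_mul] at hdvd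
        have e : derivative f * W = derivative f ^ (N + 1) * a - derivative f ^ (N + 1) * b := by
          show derivative f * (derivative f ^ N * (a - b)) = _
          ring
        rw [e] at hdvd
        exact hdvd }
  let E := P.equivAwayAdjoinRoot.trans
    ((IsLocalization.algEquiv (Submonoid.powers (AdjoinRoot.mk f (derivative f)))
      (Localization.Away (AdjoinRoot.mk f (derivative f))) T).restrictScalars A)
  have he : P.lift _ (hasMap I x hfm hf) = E.toAlgHom := by
    refine P.hom_ext ?_
    rw [StandardEtalePair.lift_X]
    show algebraMap B T x = IsLocalization.algEquiv (Submonoid.powers (AdjoinRoot.mk f (derivative f)))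
      (Localization.Away (AdjoinRoot.mk f (derivative f))) T (P.equivAwayAdjoinRoot P.X)
    erw [show P.equivAwayAdjoinRoot P.X = algebraMap (AdjoinRoot P.f) _ (AdjoinRoot.root P.f) from
      StandardEtalePair.lift_X _ _ ⟨by
        rw [aeval_algebraMap_apply, AdjoinRoot.aeval_eq, AdjoinRoot.mk_self, map_zero], by
        rw [aeval_algebraMap_apply, AdjoinRoot.aeval_eq]
        exact IsLocalization.Away.algebraMap_isUnit _⟩]
    erw [AlgEquiv.commutes]
    show algebraMap B T x = algebraMap B T (ψ (AdjoinRoot.mk f Polynomial.X))
    rw [hψ, aeval_X]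
  show Function.Bijective (P.lift _ (hasMap I x hfm hf))
  rw [he]
  exact E.bijective

section BaseChange

variable {R' : Type u} [CommRing R'] [MulSemiringAction G R']
  [Algebra (FixedPoints.subring R' G) (FixedPoints.subring R' I)]
  [IsScalarTower (FixedPoints.subring R' G) (FixedPoints.subring R' I) R']
  {φ : R →+* R'}

/-- The map induced on invariants. -/
def fixMap (hφ : ∀ (γ : G) (a : R), φ (γ • a) = γ • φ a) (J : Subgroup G) :
    FixedPoints.subring R J →+* FixedPoints.subring R' J :=
  (φ.comp (FixedPoints.subring R J).subtype).codRestrict _ fun a γ => by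
    show (γ : G) • φ a.1 = φ a.1
    rw [← hφ]
    exact congrArg φ (a.2 γ)

/-- The map induced on `G`-invariants. -/
def fixMapTop (hφ : ∀ (γ : G) (a : R), φ (γ • a) = γ • φ a) :
    FixedPoints.subring R G →+* FixedPoints.subring R' G :=
  (φ.comp (FixedPoints.subring R G).subtype).codRestrict _ fun a γ => by
    show γ • φ a.1 = φ a.1
    rw [← hφ]
    exact congrArg φ (a.2 γ)

theorem discElt_fixMap (hφ : ∀ (γ : G) (a : R), φ (γ • a) = γ • φ a) (x : FixedPoints.subring R I) :
    discElt I (fixMap hφ I x) = fixMap hφ I (discElt I x) := by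
  refine Subtype.ext ?_
  show _ = φ (discElt I x : R)
  rw [coe_discElt, coe_discElt, map_prod]
  refine Finset.prod_congr rfl fun p _ => ?_
  induction p using QuotientGroup.induction_on with
  | H g => rw [conj_mk, conj_mk, map_sub, hφ]; rfl

/-- The comparison `R'^G ⊗ R^I[1/∂x] → R'^I[1/∂x']` is injective: if a tensor has image zero it is zero. -/
theorem eq_zero_of_compare (hφ : ∀ (γ : G) (a : R), φ (γ • a) = γ • φ a) (x : FixedPoints.subring R I)
    [Algebra (FixedPoints.subring R G) (FixedPoints.subring R' G)]
    (halg : algebraMap (FixedPoints.subring R G) (FixedPoints.subring R' G) = fixMapTop hφ)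
    (ν : (FixedPoints.subring R' G) ⊗[FixedPoints.subring R G] (Localization.Away (discElt I x)) →+*
      Localization.Away (discElt I (fixMap hφ I x)))
    (hν1 : ∀ c : FixedPoints.subring R' G, ν (c ⊗ₜ 1) =
      algebraMap (FixedPoints.subring R' I) _ (algebraMap (FixedPoints.subring R' G) (FixedPoints.subring R' I) c))
    (hν2 : ν (1 ⊗ₜ algebraMap (FixedPoints.subring R I) _ x) =
      algebraMap (FixedPoints.subring R' I) _ (fixMap hφ I x)) :
    Function.Injective ν := by
  classical
  rcases subsingleton_or_nontrivial R' with hR' | hR'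
  · haveI : Subsingleton (FixedPoints.subring R' G) := inferInstance
    haveI : Subsingleton ((FixedPoints.subring R' G) ⊗[FixedPoints.subring R G]
        (Localization.Away (discElt I x))) :=
      (algebraMap (FixedPoints.subring R' G) _).codomain_trivial
    exact fun a b _ => Subsingleton.elim a b
  haveI : Nontrivial R := φ.domain_nontrivial
  let A := FixedPoints.subring R G
  let A' := FixedPoints.subring R' G
  let L := Localization.Away (discElt I x)
  obtain ⟨f, hf, -, hfm⟩ := lifts_and_natDegree_eq_and_monic
    (mem_lifts_of_smul_eq (smul_prodR I x)) (monic_prod_of_monic _ _ fun q _ => monic_X_sub_C _)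
  have hf' : (f.map (algebraMap A A')).map (algebraMap A' R') = prodR I (fixMap hφ I x) := by
    rw [Polynomial.map_map, show (algebraMap A' R').comp (algebraMap A A') = φ.comp (algebraMap A R) from
      RingHom.ext fun a => by rw [halg]; rfl, ← Polynomial.map_map, hf]
    simp only [prodR, Polynomial.map_prod, Polynomial.map_sub, Polynomial.map_X, Polynomial.map_C]
    refine Finset.prod_congr rfl fun p _ => ?_
    induction p using QuotientGroup.induction_on with
    | H g => rw [conj_mk, conj_mk, hφ]; rfl
  let P := derivPair f hfm
  let P' := derivPair (f.map (algebraMap A A')) (hfm.map _)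
  let x1 : A' ⊗[A] L := 1 ⊗ₜ algebraMap (FixedPoints.subring R I) L x
  let inc : L →ₐ[A] A' ⊗[A] L := Algebra.TensorProduct.includeRight
  have hx1 : P'.HasMap x1 := by
    have h1 := (hasMap I x hfm hf).map inc
    exact ⟨by
      show aeval x1 (f.map (algebraMap A A')) = 0
      rw [aeval_map_algebraMap]; exact h1.1, by
      show IsUnit (aeval x1 (derivative (f.map (algebraMap A A'))))
      rw [derivative_map, aeval_map_algebraMap]; exact h1.2⟩
  let κ := P'.lift x1 hx1
  have hsurj : Function.Surjective κ := by
    letI : Algebra A P'.Ring := ((algebraMap A' P'.Ring).comp (algebraMap A A')).toAlgebra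
    haveI : IsScalarTower A A' P'.Ring := IsScalarTower.of_algebraMap_eq fun _ => rfl
    have hX : P.HasMap P'.X := by
      constructor
      · show aeval P'.X f = 0
        rw [← aeval_map_algebraMap A' P'.X f]
        exact P'.hasMap_X.1
      · show IsUnit (aeval P'.X (derivative f))
        rw [← aeval_map_algebraMap A' P'.X, ← derivative_map]
        exact P'.hasMap_X.2
    let θ := P.lift P'.X hX
    have hθ : (κ.restrictScalars A).comp θ = inc.comp (P.lift _ (hasMap I x hfm hf)) := by
      refine P.hom_ext ?_
      simp only [AlgHom.comp_apply, θ, StandardEtalePair.lift_X, AlgHom.restrictScalars_apply]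
      exact StandardEtalePair.lift_X _ _ _
    intro z
    induction z using TensorProduct.induction_on with
    | zero => exact ⟨0, map_zero _⟩
    | tmul a l =>
      obtain ⟨w, rfl⟩ := (bijective_lift I x hfm hf).2 l
      refine ⟨algebraMap A' _ a * θ w, ?_⟩
      rw [map_mul, AlgHom.commutes, show κ (θ w) = inc (P.lift _ (hasMap I x hfm hf) w) from
        AlgHom.congr_fun hθ w]
      show (a ⊗ₜ[A] (1 : L)) * (1 ⊗ₜ _) = _
      rw [Algebra.TensorProduct.tmul_mul_tmul, mul_one, one_mul]
    | add z z' hz hz' =>
      obtain ⟨w, rfl⟩ := hz; obtain ⟨w', rfl⟩ := hz'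
      exact ⟨w + w', map_add _ _ _⟩
  let νa : A' ⊗[A] L →ₐ[A'] Localization.Away (discElt I (fixMap hφ I x)) :=
    { ν with commutes' := fun c => (hν1 c).trans (IsScalarTower.algebraMap_apply A' _ _ c).symm }
  have hκν : νa.comp κ = P'.lift _ (hasMap I (fixMap hφ I x) (hfm.map _) hf') := by
    refine P'.hom_ext ?_
    show νa (κ P'.X) = _
    rw [StandardEtalePair.lift_X, StandardEtalePair.lift_X]
    exact hν2
  intro a b hab
  obtain ⟨a, rfl⟩ := hsurj a
  obtain ⟨b, rfl⟩ := hsurj b
  have h2 : (νa.comp κ) a = (νa.comp κ) b := hab
  rw [hκν] at h2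
  rw [(bijective_lift I (fixMap hφ I x) (hfm.map _) hf').1 h2]

end BaseChange

end Groth.Agent.H22Alg.EtalePair
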