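import Mathlib.LinearAlgebra.ExteriorPower.Basis
import Mathlib.LinearAlgebra.Alternating.DomCoprod
import Mathlib.Data.Nat.Choose.Vandermonde
import Mathlib.RingTheory.Finiteness.Basic

/-! # The components of an exterior power of a direct sum. -/

universe u v

open TensorProduct exteriorPower
open scoped TensorProduct

noncomputable section

namespace Groth.Agent.H22Alg.ExtPowSumAlg

variable {R : Type u} [CommRing R] {M A B : Type v} [AddCommGroup M] [Module R M] [AddCommGroup A] [Module R A]
  [AddCommGroup B] [Module R B]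

/-- The (j,k) component on alternating families. -/
def compAlt (p : M →ₗ[R] A) (q : M →ₗ[R] B) (j k i : ℕ) (h : j + k = i) :
    M [⋀^Fin i]→ₗ[R] (↥(⋀[R]^j A) ⊗[R] ↥(⋀[R]^k B)) :=
  ((((ιMulti R j (M := A)).compLinearMap p).domCoprod ((ιMulti R k (M := B)).compLinearMap q))).domDomCongr
    (finSumFinEquiv.trans (finCongr h))

theorem compAlt_apply (p : M →ₗ[R] A) (q : M →ₗ[R] B) (j k i : ℕ) (h : j + k = i) (v : Fin i → M) :
    compAlt p q j k i h v = ∑ σ : Equiv.Perm.ModSumCongr (Fin j) (Fin k),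
      AlternatingMap.domCoprod.summand ((ιMulti R j (M := A)).compLinearMap p) ((ιMulti R k (M := B)).compLinearMap q) σ
        (v ∘ (finSumFinEquiv.trans (finCongr h))) := by
  show (⇑(∑ σ : Equiv.Perm.ModSumCongr (Fin j) (Fin k), AlternatingMap.domCoprod.summand
    ((ιMulti R j (M := A)).compLinearMap p) ((ιMulti R k (M := B)).compLinearMap q) σ)) _ = _
  rw [MultilinearMap.sum_apply]

theorem summand_mk (p : M →ₗ[R] A) (q : M →ₗ[R] B) {j k : ℕ} (σ : Equiv.Perm (Fin j ⊕ Fin k))
    (w : Fin j ⊕ Fin k → M) :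
    AlternatingMap.domCoprod.summand ((ιMulti R j (M := A)).compLinearMap p)
        ((ιMulti R k (M := B)).compLinearMap q) (Quotient.mk'' σ) w =
      Equiv.Perm.sign σ • (ιMulti R j (fun t => p (w (σ (Sum.inl t)))) ⊗ₜ[R]
        ιMulti R k (fun t => q (w (σ (Sum.inr t))))) := rfl

/-- Naturality in the module and the ring. -/
theorem compAlt_map {S : Type u} [CommRing S] {M' A' B' : Type v} [AddCommGroup M'] [Module S M'] [AddCommGroup A']
    [Module S A'] [AddCommGroup B'] [Module S B'] (p : M →ₗ[R] A) (q : M →ₗ[R] B) (p' : M' →ₗ[S] A')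
    (q' : M' →ₗ[S] B') (j k i : ℕ) (h : j + k = i)
    {G : Type v} [AddCommGroup G] (F : (↥(⋀[R]^j A) ⊗[R] ↥(⋀[R]^k B)) →+ G)
    (F' : (↥(⋀[S]^j A') ⊗[S] ↥(⋀[S]^k B')) →+ G) (fM : M → M') (fA : A → A') (fB : B → B')
    (hA : ∀ m, p' (fM m) = fA (p m)) (hB : ∀ m, q' (fM m) = fB (q m))
    (hF : ∀ (a : Fin j → A) (b : Fin k → B),
      F (ιMulti R j a ⊗ₜ ιMulti R k b) = F' (ιMulti S j (fA ∘ a) ⊗ₜ ιMulti S k (fB ∘ b)))
    (v : Fin i → M) : F (compAlt p q j k i h v) = F' (compAlt p' q' j k i h (fM ∘ v)) := by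
  rw [compAlt_apply, compAlt_apply, map_sum, map_sum]
  refine Finset.sum_congr rfl fun σ _ => ?_
  induction σ using Quotient.inductionOn' with
  | _ σ =>
    rw [summand_mk, summand_mk, Units.smul_def, Units.smul_def, map_zsmul, map_zsmul]
    congr 1
    simp only [Function.comp_apply]
    refine (hF _ _).trans ?_
    simp only [Function.comp_def, hA, hB]

section Values

variable (p : M →ₗ[R] A) (q : M →ₗ[R] B) (a : A →ₗ[R] M) (b : B →ₗ[R] M)
  (hpa : ∀ x, p (a x) = x) (hqb : ∀ y, q (b y) = y) (hpb : ∀ y, p (b y) = 0) (hqa : ∀ x, q (a x) = 0)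

/-- A test family. -/
def mix {j' k' i : ℕ} (h' : j' + k' = i) (x : Fin j' → A) (y : Fin k' → B) : Fin i → M :=
  Sum.elim (a ∘ x) (b ∘ y) ∘ (finSumFinEquiv.trans (finCongr h')).symm

include hpb hqa in
theorem compAlt_mix_of_ne {j k j' k' i : ℕ} (h : j + k = i) (h' : j' + k' = i) (hne : j ≠ j')
    (x : Fin j' → A) (y : Fin k' → B) : compAlt p q j k i h (mix a b h' x y) = 0 := by
  classical
  rw [compAlt_apply]
  refine Finset.sum_eq_zero fun σ _ => ?_
  induction σ using Quotient.inductionOn' with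
  | _ σ =>
    let e : Fin j ⊕ Fin k ≃ Fin j' ⊕ Fin k' :=
      σ.trans ((finSumFinEquiv.trans (finCongr h)).trans (finSumFinEquiv.trans (finCongr h')).symm)
    rw [summand_mk]
    suffices hz : (∃ t, Sum.isRight (e (Sum.inl t))) ∨ ∃ t, Sum.isLeft (e (Sum.inr t)) by
      rcases hz with ⟨t, ht⟩ | ⟨t, ht⟩
      · obtain ⟨s, hs⟩ := Sum.isRight_iff.1 ht
        have h0 : p (mix a b h' x y ((finSumFinEquiv.trans (finCongr h)) (σ (Sum.inl t)))) = 0 := by
          show p (Sum.elim (a ∘ x) (b ∘ y) (e (Sum.inl t))) = 0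
          rw [hs]; exact hpb _
        rw [(ιMulti R j).map_coord_zero t h0, zero_tmul, smul_zero]
      · obtain ⟨s, hs⟩ := Sum.isLeft_iff.1 ht
        have h0 : q (mix a b h' x y ((finSumFinEquiv.trans (finCongr h)) (σ (Sum.inr t)))) = 0 := by
          show q (Sum.elim (a ∘ x) (b ∘ y) (e (Sum.inr t))) = 0
          rw [hs]; exact hqa _
        rw [
          (ιMulti R k).map_coord_zero t h0, tmul_zero, smul_zero]
    by_contra hc
    simp only [not_or, not_exists] at hc
    have hl : ∀ t, ∃ s, e (Sum.inl t) = Sum.inl s := fun t => by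
      rcases he : e (Sum.inl t) with s | s
      · exact ⟨s, rfl⟩
      · exact absurd (by rw [he]; rfl) (hc.1 t)
    have hr : ∀ t, ∃ s, e (Sum.inr t) = Sum.inr s := fun t => by
      rcases he : e (Sum.inr t) with s | s
      · exact absurd (by rw [he]; rfl) (hc.2 t)
      · exact ⟨s, rfl⟩
    choose fl hfl using hl
    choose fr hfr using hr
    have h1 : j ≤ j' := by
      simpa using Fintype.card_le_of_injective fl fun s t hst =>
        Sum.inl_injective (e.injective (by rw [hfl, hfl, hst]))
    have h2 : k ≤ k' := by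
      simpa using Fintype.card_le_of_injective fr fun s t hst =>
        Sum.inr_injective (e.injective (by rw [hfr, hfr, hst]))
    omega

include hpa hqb hpb hqa in
theorem compAlt_mix {j k i : ℕ} (h : j + k = i) (x : Fin j → A) (y : Fin k → B) :
    compAlt p q j k i h (mix a b h x y) = ιMulti R j x ⊗ₜ ιMulti R k y := by
  classical
  rw [compAlt_apply]
  refine (Finset.sum_eq_single (Quotient.mk'' (1 : Equiv.Perm (Fin j ⊕ Fin k))) ?_ ?_).trans ?_
  · intro σ _ hσ
    induction σ using Quotient.inductionOn' with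
    | _ σ =>
      rw [summand_mk]
      by_cases hz : ∃ t, Sum.isRight (σ (Sum.inl t))
      · obtain ⟨t, ht⟩ := hz
        obtain ⟨s, hs⟩ := Sum.isRight_iff.1 ht
        have h0 : p (mix a b h x y ((finSumFinEquiv.trans (finCongr h)) (σ (Sum.inl t)))) = 0 := by
          simp [mix, hs, hpb]
        rw [(ιMulti R j).map_coord_zero t h0, zero_tmul, smul_zero]
      · refine absurd ?_ hσ
        simp only [not_exists] at hz
        have hl : Set.MapsTo σ (Set.range Sum.inl) (Set.range Sum.inl) := by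
          rintro _ ⟨t, rfl⟩
          rcases he : σ (Sum.inl t) with s | s
          · exact ⟨s, rfl⟩
          · exact absurd (by rw [he]; rfl) (hz t)
        obtain ⟨⟨sl, sr⟩, hs⟩ := Equiv.Perm.mem_sumCongrHom_range_of_perm_mapsTo_inl hl
        refine Quotient.sound' (QuotientGroup.leftRel_apply.2 ?_)
        rw [mul_one, Subgroup.inv_mem_iff]
        exact ⟨(sl, sr), hs⟩
  · exact fun hn => absurd (Finset.mem_univ _) hn
  · rw [summand_mk, map_one, one_smul]
    simp only [Function.comp_apply, Equiv.Perm.one_apply, mix, Equiv.symm_apply_apply,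
      Sum.elim_inl, Sum.elim_inr, hpa, hqb]

end Values

/-- A surjective map between finite free modules of equal rank is bijective. -/
theorem bijective_of_surjective_of_basis {P : Type v} {Q : Type*} [AddCommGroup P] [Module R P] [AddCommGroup Q]
    [Module R Q] {ι κ : Type*} [Fintype ι] [Fintype κ] (bP : Module.Basis ι R P) (bQ : Module.Basis κ R Q)
    (hcard : Fintype.card ι = Fintype.card κ) (f : P →ₗ[R] Q) (hf : Function.Surjective f) : Function.Bijective f := by
  let e : Q ≃ₗ[R] P := bQ.equiv bP (Fintype.equivOfCardEq hcard.symm)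
  haveI : Module.Finite R P := Module.Finite.of_basis bP
  have h := OrzechProperty.injective_of_surjective_endomorphism (e.toLinearMap.comp f) (e.surjective.comp hf)
  exact ⟨fun s t hst => h (congrArg e hst), hf⟩

theorem choose_sum (p q i : ℕ) :
    (p + q).choose i = ∑ j : Fin (i + 1), p.choose j * q.choose (i - j) := by
  rw [Nat.add_choose_eq, Finset.Nat.sum_antidiagonal_eq_sum_range_succ (fun a b => p.choose a * q.choose b),
    Fin.sum_univ_eq_sum_range (fun j => p.choose j * q.choose (i - j))]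

end Groth.Agent.H22Alg.ExtPowSumAlg
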