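import Groth.Agent.H22Alg.MultFibre
import Groth.Agent.H22Alg.RedIntegral
import Groth.Agent.H28Vert.Cartier
import Groth.Agent.H28Index.IndexPoint

/-!
# The multiplicity of the closed fibre divides the Euler characteristic
-/

set_option autoImplicit false
universe u

open CategoryTheory CategoryTheory.Limits AlgebraicGeometry TopologicalSpace

namespace Groth.Agent.H22Alg.FibreMult

open Groth.Agent.H28Vert

section General

theorem finite_maximalPoints (Y : Scheme.{u}) [IsNoetherian Y] :
    {η : Y | ∀ y, y ⤳ η → y = η}.Finite := by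
  refine Set.Finite.of_finite_image (f := fun η : Y => closure ({η} : Set Y))
    (NoetherianSpace.finite_irreducibleComponents.subset ?_) ?_
  · rintro _ ⟨η, hη, rfl⟩
    refine ⟨isIrreducible_singleton.closure, fun T hT hle => ?_⟩
    have ht := hT.isGenericPoint_genericPoint_closure
    have h1 : hT.genericPoint ⤳ η :=
      ht.specializes (subset_closure (hle (subset_closure rfl)))
    rw [← hη _ h1]
    exact fun x hx => (ht.specializes (subset_closure hx)).mem_closure
  · intro a ha b hb h
    exact hb a (specializes_iff_mem_closure.2 (by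
      rw [show closure ({a} : Set Y) = closure {b} from h]
      exact subset_closure rfl))

theorem exists_maximalPoint_specializes {Y : Scheme.{u}} (z : Y) :
    ∃ η : Y, (∀ y, y ⤳ η → y = η) ∧ η ⤳ z := by
  obtain ⟨T, hT, hzT⟩ := exists_mem_irreducibleComponents_subset_of_isIrreducible _
    (isIrreducible_singleton (x := z))
  have hg := hT.1.isGenericPoint_genericPoint_closure
  refine ⟨hT.1.genericPoint, fun y hy => ?_, hg.specializes (subset_closure (hzT rfl))⟩
  have hsub : T ⊆ closure {y} := fun x hx => (hy.trans (hg.specializes (subset_closure hx))).mem_closure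
  have h := hT.2 isIrreducible_singleton.closure hsub
  exact ((hg.specializes (subset_closure (h (subset_closure rfl)))).antisymm hy).eq.symm

theorem stalkId_eq_maximalIdeal {X : Scheme.{u}} (I : X.IdealSheafData) [IsIntegral I.subscheme]
    (V : X.affineOpens) (hx : I.subschemeι (genericPoint ↥I.subscheme) ∈ V.1) :
    stalkId I V hx = IsLocalRing.maximalIdeal _ := by
  let j := I.subschemeι
  let η := genericPoint ↥I.subscheme
  have h : I.ideal V = RingHom.ker (j.app V.1).hom := by
    rw [← Scheme.Hom.ker_apply, Scheme.IdealSheafData.ker_subschemeι]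
  rw [stalkId, h]
  refine (H17.ker_stalkMap_eq_map j V.2 η hx).symm.trans (IsLocalRing.eq_maximalIdeal ?_)
  letI : Field (I.subscheme.presheaf.stalk η) :=
    inferInstanceAs (Field I.subscheme.functionField)
  exact RingHom.ker_isMaximal_of_surjective (j.stalkMap η).hom (j.stalkMap_surjective η)

theorem eq_of_specializes_of_dim_eq_one {X : Scheme.{u}} [IsLocallyNoetherian X] {ξ y : X} (h : ξ ⤳ y)
    (hξ : ringKrullDim (X.presheaf.stalk ξ) = 1) (hy : ringKrullDim (X.presheaf.stalk y) = 1) : ξ = y := by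
  obtain ⟨U, hU, hyU, -⟩ := exists_isAffineOpen_mem_and_subset (U := (⊤ : X.Opens)) (x := y) trivial
  have hξU : ξ ∈ U := h.mem_open U.2 hyU
  have hle : (hU.primeIdealOf ⟨_, hξU⟩).asIdeal ≤ (hU.primeIdealOf ⟨y, hyU⟩).asIdeal := by
    refine (PrimeSpectrum.le_iff_specializes _ _).2
      ((@Scheme.Hom.isOpenEmbedding _ _ hU.fromSpec hU.isOpenImmersion_fromSpec).isInducing.specializes_iff.1 ?_)
    rwa [hU.fromSpec_primeIdealOf, hU.fromSpec_primeIdealOf]
  have hh : ∀ (w : X) (hw : w ∈ U), ringKrullDim (X.presheaf.stalk w) = 1 →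
      (hU.primeIdealOf ⟨w, hw⟩).asIdeal.height = 1 := fun w hw hd => by
    letI := TopCat.Presheaf.algebra_section_stalk X.presheaf (⟨w, hw⟩ : U)
    haveI := hU.isLocalization_stalk ⟨w, hw⟩
    have h2 := IsLocalization.AtPrime.ringKrullDim_eq_height (hU.primeIdealOf ⟨w, hw⟩).asIdeal
      (X.presheaf.stalk w)
    rw [hd] at h2
    exact (WithBot.coe_eq_coe.1 h2).symm
  by_contra hne
  have hlt : (hU.primeIdealOf ⟨_, hξU⟩).asIdeal < (hU.primeIdealOf ⟨y, hyU⟩).asIdeal := by
    refine lt_of_le_of_ne hle fun he => hne ?_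
    have h5 := congrArg hU.fromSpec (PrimeSpectrum.ext he)
    rw [hU.fromSpec_primeIdealOf, hU.fromSpec_primeIdealOf] at h5
    exact h5
  haveI : IsNoetherianRing Γ(X, U) := IsLocallyNoetherian.component_noetherian ⟨U, hU⟩
  have h4 := Ideal.height_strict_mono_of_isPrime_of_isPrime hlt
  rw [hh _ hξU hξ, hh _ hyU hy] at h4
  exact lt_irrefl _ h4

end General

variable {R : Type u} [CommRing R] [IsDomain R] [IsDiscreteValuationRing R]
  {X : Over (Spec (CommRingCat.of R))} [IsLocallyNoetherian X.left] [Flat X.hom]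

/-- At the generic point of a component the local ring is a DVR and the uniformizer has order the
length of the local ring of the closed fibre. -/
theorem stalk_genPt (hreg : Models.IsRegularScheme X.left) {ϖ : R} (hϖ : Irreducible ϖ)
    (η : ↥(pullback X.hom (closedPt R))) {ℓ : ℕ}
    (hℓ : Module.length ((pullback X.hom (closedPt R)).presheaf.stalk η)
      ((pullback X.hom (closedPt R)).presheaf.stalk η) = ℓ) :
    ringKrullDim (X.left.presheaf.stalk ((pullback.fst X.hom (closedPt R)) η)) = 1 ∧
      Ideal.span {Models.stalkHom R X ((pullback.fst X.hom (closedPt R)) η) ϖ} =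
        IsLocalRing.maximalIdeal (X.left.presheaf.stalk ((pullback.fst X.hom (closedPt R)) η)) ^ ℓ := by
  let b := pullback.fst X.hom (closedPt R)
  let A := X.left.presheaf.stalk (b η)
  let B := (pullback X.hom (closedPt R)).presheaf.stalk η
  let a : A := Models.stalkHom R X (b η) ϖ
  haveI : IsDomain A := (ufd_stalk hreg (b η)).1
  haveI : IsNoetherianRing A := (hreg (b η)).toIsNoetherian
  haveI : IsRegularLocalRing A := hreg (b η)
  have hker : RingHom.ker (b.stalkMap η).hom = Ideal.span {a} := by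
    rw [ker_stalkMap_fst η, hϖ.maximalIdeal_eq, Ideal.map_span, Set.image_singleton]
  let e : A ⧸ Ideal.span {a} ≃+* B :=
    (Ideal.quotEquivOfEq hker.symm).trans (RingHom.quotientKerEquivOfSurjective (b.stalkMap_surjective η))
  have hlen : Module.length (A ⧸ Ideal.span {a}) (A ⧸ Ideal.span {a}) = ℓ :=
    (H28Index.length_self_congr e).trans hℓ
  have hu : a ∈ IsLocalRing.maximalIdeal A := by
    by_contra hu
    rw [IsLocalRing.mem_maximalIdeal, mem_nonunits_iff, not_not] at hu
    haveI : Subsingleton (A ⧸ Ideal.span {a}) :=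
      Ideal.Quotient.subsingleton_iff.2 (Ideal.span_singleton_eq_top.2 hu)
    haveI : Subsingleton B := e.symm.toEquiv.subsingleton
    exact false_of_nontrivial_of_subsingleton B
  have ha : a ≠ 0 := stalkHom_ne_zero hϖ.ne_zero _
  haveI : IsArtinianRing (A ⧸ Ideal.span {a}) :=
    (isFiniteLength_iff_isNoetherian_isArtinian.1
      (Module.length_ne_top_iff.1 (by rw [hlen]; exact ENat.coe_ne_top ℓ))).2
  have hmin : IsLocalRing.maximalIdeal A ∈ (Ideal.span {a}).minimalPrimes := by
    refine ⟨⟨inferInstance, (Ideal.span_singleton_le_iff_mem _).2 hu⟩, ?_⟩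
    rintro Q ⟨hQ, hQa⟩ -
    haveI := hQ
    haveI : (Q.map (Ideal.Quotient.mk (Ideal.span {a}))).IsPrime :=
      Ideal.map_isPrime_of_surjective Ideal.Quotient.mk_surjective (by rwa [Ideal.mk_ker])
    haveI := IsArtinianRing.isMaximal_of_isPrime (Q.map (Ideal.Quotient.mk (Ideal.span {a})))
    have hQm : Q.IsMaximal := by
      have h := Ideal.comap_isMaximal_of_surjective (Ideal.Quotient.mk (Ideal.span {a}))
        Ideal.Quotient.mk_surjective (K := Q.map (Ideal.Quotient.mk (Ideal.span {a})))
      rwa [Ideal.comap_map_of_surjective _ Ideal.Quotient.mk_surjective, ← RingHom.ker_eq_comap_bot, Ideal.mk_ker,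
        sup_eq_left.2 hQa] at h
    exact (IsLocalRing.eq_maximalIdeal hQm).ge
  have hdim : ringKrullDim A = 1 := by
    rw [← IsLocalRing.maximalIdeal_height_eq_ringKrullDim]
    refine le_antisymm (WithBot.coe_le_coe.2
      (Ideal.height_le_one_of_isPrincipal_of_mem_minimalPrimes _ _ hmin)) (WithBot.coe_le_coe.2 ?_)
    rw [← Ideal.height_span_singleton_eq_one_of_mem_nonZeroDivisors (mem_nonZeroDivisors_of_ne_zero ha) hu]
    exact Ideal.height_mono ((Ideal.span_singleton_le_iff_mem _).2 hu)
  refine ⟨hdim, ?_⟩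
  haveI : UniqueFactorizationMonoid A := (ufd_stalk hreg (b η)).2
  have hne0 : IsLocalRing.maximalIdeal A ≠ ⊥ := fun h => ha (by simpa [h] using hu)
  obtain ⟨π, hπm, hπ⟩ := Ideal.IsPrime.exists_mem_prime_of_ne_bot (IsLocalRing.maximalIdeal.isMaximal A).isPrime hne0
  have hm : IsLocalRing.maximalIdeal A = Ideal.span {π} := by
    haveI : (Ideal.span {π}).IsPrime := (Ideal.span_singleton_prime hπ.ne_zero).2 hπ
    refine le_antisymm ?_ ((Ideal.span_singleton_le_iff_mem _).2 hπm)
    by_contra hnle
    have h4 := Ideal.height_strict_mono_of_isPrime_of_isPrime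
      (lt_of_le_not_ge ((Ideal.span_singleton_le_iff_mem _).2 hπm) hnle)
    rw [Ideal.height_span_singleton_eq_one_of_mem_nonZeroDivisors (mem_nonZeroDivisors_of_ne_zero hπ.ne_zero)
      hπ.not_unit] at h4
    have h5 : ((IsLocalRing.maximalIdeal A).height : WithBot ℕ∞) = 1 := by
      rw [IsLocalRing.maximalIdeal_height_eq_ringKrullDim]; exact hdim
    exact h4.ne' (WithBot.coe_eq_coe.1 h5)
  haveI : IsDiscreteValuationRing A := by
    refine ((IsDiscreteValuationRing.TFAE A ?_).out 4 0).1 (show (IsLocalRing.maximalIdeal A).IsPrincipal from ⟨⟨π, hm⟩⟩)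
    exact fun hf => hne0 (IsLocalRing.isField_iff_maximalIdeal_eq.1 hf)
  obtain ⟨n, hn⟩ := IsDiscreteValuationRing.associated_pow_irreducible ha hπ.irreducible
  have hspan : Ideal.span {a} = IsLocalRing.maximalIdeal A ^ n := by
    rw [hm, Ideal.span_singleton_pow, Ideal.span_singleton_eq_span_singleton]
    exact hn
  have hlenA : Module.length A (A ⧸ Ideal.span {a}) = ℓ := by
    rw [← hlen]
    exact Module.length_eq_of_surjective (S := A) Ideal.Quotient.mk_surjective
  rw [hspan, IsDiscreteValuationRing.length_quotient_pow_maximalIdeal] at hlenA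
  rw [show ℓ = n from (by exact_mod_cast hlenA.symm)]
  exact hspan

variable [IsProper X.hom]

/-- A common divisor of the multiplicities of the components of the closed fibre divides the Euler
characteristic of the generic fibre. -/
theorem dvd_euler_of_dvd_length (hreg : Models.IsRegularScheme X.left) (K : Type u) [Field K]
    {X' : Scheme.{u}} [X'.Over (Spec (CommRingCat.of K))] (g : X' ⟶ X.left)
    (t : Spec (CommRingCat.of K) ⟶ Spec (CommRingCat.of R))
    (hsq : IsPullback g (X' ↘ Spec (CommRingCat.of K)) X.hom t) (m : ℕ)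
    (hdiv : ∀ η : ↥(pullback X.hom (closedPt R)), (∀ y, y ⤳ η → y = η) →
      ∃ e : ℕ, Module.length ((pullback X.hom (closedPt R)).presheaf.stalk η)
        ((pullback X.hom (closedPt R)).presheaf.stalk η) = (((m + 1) * e : ℕ) : ℕ∞)) :
    ((m + 1 : ℕ) : ℤ) ∣ Curv2.euler K X' (Coh.structureModule X') := by
  classical
  obtain ⟨ϖ, hϖ⟩ := IsDiscreteValuationRing.exists_irreducible R
  let b := pullback.fst X.hom (closedPt R)
  haveI := H28Int.isNoetherian (IsLocalRing.ResidueField R) (X := pullback X.hom (closedPt R))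
  let S := (finite_maximalPoints (pullback X.hom (closedPt R))).toFinset
  have hS : ∀ η, η ∈ S ↔ ∀ y, y ⤳ η → y = η := fun η => Set.Finite.mem_toFinset _
  choose! e he using hdiv
  let J : ↥(pullback X.hom (closedPt R)) → X.left.IdealSheafData := fun η =>
    Scheme.IdealSheafData.vanishingIdeal (⟨closure {b η}, isClosed_closure⟩ : Closeds X.left)
  haveI : ∀ η, IsIntegral (J η).subscheme := fun η => isIntegral_vanishingIdeal_closure (b η)
  have hJr : ∀ η, Set.range (J η).subschemeι = closure {b η} := fun η =>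
    H17.range_vanishingIdeal_subschemeι _
  have hJg : ∀ η, (J η).subschemeι (genericPoint ↥(J η).subscheme) = b η := fun η => by
    obtain ⟨w, hw⟩ : b η ∈ Set.range (J η).subschemeι := by rw [hJr]; exact subset_closure rfl
    have h1 : (J η).subschemeι (genericPoint ↥(J η).subscheme) ⤳ b η :=
      hw ▸ (genericPoint_specializes w).map (J η).subschemeι.continuous
    have h2 : b η ⤳ (J η).subschemeι (genericPoint ↥(J η).subscheme) :=
      specializes_iff_mem_closure.2 (hJr η ▸ Set.mem_range_self _)
    exact (h1.antisymm h2).eq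
  have hJtop : ∀ η (V : X.left.affineOpens) (y : X.left) (hy : y ∈ V.1), ¬ b η ⤳ y →
      stalkId (J η) V hy = 1 := fun η V y hy hn => by
    rw [Ideal.one_eq_top]
    refine H29Blow.map_germ_eq_top_of_notMem_support _ y V hy fun h => hn ?_
    rw [specializes_iff_mem_closure, ← hJr, Scheme.IdealSheafData.range_subschemeι]
    exact h
  have hd : ∀ η ∈ S, ringKrullDim (X.left.presheaf.stalk (b η)) = 1 := fun η hη =>
    (stalk_genPt hreg hϖ η (he η ((hS η).1 hη))).1
  have hJC : ∀ η ∈ S, BlowUp.IsEffCartierIdeal (J η) := fun η hη => by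
    refine S1684.result X.left (J η) ?_ fun x _ => ufd_stalk hreg x
    rw [hJg]
    exact hd η hη
  let I := ∏ η ∈ S, J η ^ e η
  refine MultFibre.dvd_euler K g t hsq m I (isEffCartierIdeal_prod S J hJC e) ?_
  have hpow : I ^ (m + 1) = ∏ η ∈ S, J η ^ (e η * (m + 1)) := by
    rw [← Finset.prod_pow]
    exact Finset.prod_congr rfl fun η _ => (pow_mul _ _ _).symm
  rw [hpow]
  have hdom : ∀ x : X.left, IsDomain (X.left.presheaf.stalk x) := fun x => (ufd_stalk hreg x).1
  have hsp : ∀ (x : X.left) (V : X.left.affineOpens) (hx : x ∈ V.1),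
      stalkId (Models.specialFibreIdeal R X) V hx = Ideal.span {Models.stalkHom R X x ϖ} := fun x V hx => by
    rw [specialFibreIdeal_stalk V hx, hϖ.maximalIdeal_eq, Ideal.map_span, Set.image_singleton]
  refine ext_of_height_one (ufd_stalk hreg) _ _ (fun x V hx => ?_)
    (fun x V hx => ⟨_, stalkHom_ne_zero hϖ.ne_zero x, hsp x V hx⟩) fun y V hy hdim => ?_
  · have h : ∀ η ∈ S, ∃ a ≠ 0, stalkId (J η) V hx = Ideal.span {a} := fun η hη =>
      exists_gen_of_isEffCartierIdeal (hJC η hη) x V hx
    choose! a ha0 ha using h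
    refine ⟨∏ η ∈ S, a η ^ (e η * (m + 1)), Finset.prod_ne_zero_iff.2 fun i hi => pow_ne_zero _ (ha0 i hi), ?_⟩
    rw [stalkId_prod S, ← Ideal.prod_span_singleton]
    exact Finset.prod_congr rfl fun i hi => by rw [ha i hi, Ideal.span_singleton_pow]
  · rw [hsp y V hy, stalkId_prod S]
    by_cases hys : y ∈ Models.specialFibreSet R X
    · obtain ⟨z, rfl⟩ : y ∈ Set.range b := by
        rw [Scheme.Pullback.range_fst]
        exact ⟨IsLocalRing.closedPoint _, (IsLocalRing.PrimeSpectrum.comap_residue R _).trans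
          (show X.hom y = IsLocalRing.closedPoint R from hys).symm⟩
      obtain ⟨η, hη, hηz⟩ := exists_maximalPoint_specializes z
      have hηS : η ∈ S := (hS η).2 hη
      obtain rfl : η = z := b.isClosedEmbedding.injective
        (eq_of_specializes_of_dim_eq_one (hηz.map b.continuous) (hd η hηS) hdim)
      rw [Finset.prod_eq_single η (fun j hj hne => ?_) (fun h => absurd hηS h)]
      · have hmax : stalkId (J η) V hy = IsLocalRing.maximalIdeal _ := by
          have key : ∀ (w : X.left) (hw : w ∈ V.1), (J η).subschemeι (genericPoint ↥(J η).subscheme) = w →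
              stalkId (J η) V hw = IsLocalRing.maximalIdeal _ := by
            rintro _ hw rfl
            exact stalkId_eq_maximalIdeal (J η) V hw
          exact key _ hy (hJg η)
        rw [hmax, (stalk_genPt hreg hϖ η (he η hη)).2, Nat.mul_comm (m + 1)]
      · have hn : ¬ b j ⤳ b η := fun h => hne (hη j (b.isEmbedding.isInducing.specializes_iff.1 h))
        rw [hJtop j V _ hy hn, one_pow]
    · have hu : IsUnit (Models.stalkHom R X y ϖ) := (notMem_specialFibreSet_iff hϖ y).1 hys
      rw [Finset.prod_eq_one fun j hj => ?_, Ideal.one_eq_top, eq_comm, Ideal.span_singleton_eq_top]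
      · exact hu
      · rw [hJtop j V y hy fun h => hys ?_, one_pow]
        refine (h.mem_closed (Models.isClosed_specialFibreSet R X) ?_)
        show X.hom (b j) = IsLocalRing.closedPoint R
        rw [← Scheme.Hom.comp_apply, pullback.condition, Scheme.Hom.comp_apply]
        exact IsLocalRing.PrimeSpectrum.comap_residue R _

/-- The Euler characteristic lies in every subgroup containing the multiplicities. -/
theorem euler_mem_of_length_mem (hreg : Models.IsRegularScheme X.left) (K : Type u) [Field K]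
    {X' : Scheme.{u}} [X'.Over (Spec (CommRingCat.of K))] (g : X' ⟶ X.left)
    (t : Spec (CommRingCat.of K) ⟶ Spec (CommRingCat.of R))
    (hsq : IsPullback g (X' ↘ Spec (CommRingCat.of K)) X.hom t) (H : AddSubgroup ℤ)
    (hH : ∀ η : ↥(pullback X.hom (closedPt R)), (∀ y, y ⤳ η → y = η) →
      ∃ ℓ : ℕ, Module.length ((pullback X.hom (closedPt R)).presheaf.stalk η)
        ((pullback X.hom (closedPt R)).presheaf.stalk η) = (ℓ : ℕ∞) ∧ (ℓ : ℤ) ∈ H) :
    Curv2.euler K X' (Coh.structureModule X') ∈ H := by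
  obtain ⟨d, hd⟩ := Int.subgroup_cyclic H
  have hmem : ∀ x : ℤ, x ∈ H ↔ d ∣ x := fun x => by
    rw [hd, ← AddSubgroup.zmultiples_eq_closure, Int.mem_zmultiples_iff]
  rw [hmem]
  have hkey : ∀ m : ℕ, (∀ η : ↥(pullback X.hom (closedPt R)), (∀ y, y ⤳ η → y = η) →
      ∃ e : ℕ, Module.length ((pullback X.hom (closedPt R)).presheaf.stalk η)
        ((pullback X.hom (closedPt R)).presheaf.stalk η) = (((m + 1) * e : ℕ) : ℕ∞)) →
      ((m + 1 : ℕ) : ℤ) ∣ Curv2.euler K X' (Coh.structureModule X') := fun m h =>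
    dvd_euler_of_dvd_length hreg K g t hsq m h
  by_cases hne : ∃ η : ↥(pullback X.hom (closedPt R)), ∀ y, y ⤳ η → y = η
  · obtain ⟨η, hη⟩ := hne
    obtain ⟨ℓ, hℓ, hℓH⟩ := hH η hη
    have hℓ0 : ℓ ≠ 0 := by
      rintro rfl
      exact Module.length_pos.ne' (hℓ.trans Nat.cast_zero)
    have hd0 : d.natAbs ≠ 0 := by
      rw [Ne, Int.natAbs_eq_zero]
      rintro rfl
      exact hℓ0 (by exact_mod_cast zero_dvd_iff.1 ((hmem _).1 hℓH))
    refine Int.natAbs_dvd.1 ?_
    rw [show d.natAbs = (d.natAbs - 1) + 1 by omega]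
    refine hkey _ fun η' hη' => ?_
    obtain ⟨ℓ', hℓ', hℓ'H⟩ := hH η' hη'
    obtain ⟨e, he⟩ : d.natAbs ∣ ℓ' := Int.natAbs_dvd_natAbs.2 ((hmem _).1 hℓ'H)
    exact ⟨e, by rw [hℓ', he, show d.natAbs - 1 + 1 = d.natAbs by omega]⟩
  · have h := hkey (Curv2.euler K X' (Coh.structureModule X')).natAbs fun η hη => absurd ⟨η, hη⟩ hne
    rw [Int.eq_zero_of_dvd_of_natAbs_lt_natAbs h (by rw [Int.natAbs_natCast]; omega)]
    exact dvd_zero d

end Groth.Agent.H22Alg.FibreMult
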