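import Mathlib
import Groth.Agent.H22Alg.GaloisFibres
import Groth.Agent.H17.Reduced

/-! Connected components of base changes to arbitrary field extensions. -/

set_option autoImplicit false
set_option linter.style.haveILetI false
universe u

open AlgebraicGeometry CategoryTheory CategoryTheory.Limits

namespace Groth.Agent.H22Alg.FieldComponents

variable {k : Type u} [Field k] {X : Scheme.{u}} (f : X ⟶ Spec (CommRingCat.of k))
  (K : Type u) [Field K] [Algebra k K]

/-- Over a connected scheme every connected component of a base change surjects. -/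
theorem image_connectedComponent_of_connected [PreconnectedSpace X] (z : ↥(FBase.bc f K)) :
    FBase.bcπ f K '' connectedComponent z = Set.univ := by
  obtain ⟨E, _, _, a, b, -⟩ := H06Geom.exists_over (k := k) K (AlgebraicClosure k)
  obtain ⟨w, rfl⟩ := H06Geom.surjective_bcMap f a z
  have h1 := H06Geom.isConnected_preimage_bcMap f b (isConnected_connectedComponent (x := H06Geom.bcMap f b w))
  have h2 : H06Geom.bcMap f a '' (H06Geom.bcMap f b ⁻¹' connectedComponent (H06Geom.bcMap f b w)) ⊆
      connectedComponent (H06Geom.bcMap f a w) :=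
    (h1.2.image _ (H06Geom.bcMap f a).continuous.continuousOn).subset_connectedComponent
      ⟨w, show H06Geom.bcMap f b w ∈ _ from mem_connectedComponent, rfl⟩
  refine Set.eq_univ_of_forall fun x => ?_
  obtain ⟨y, hy, hyx⟩ : x ∈ FBase.bcπ f (AlgebraicClosure k) '' connectedComponent (H06Geom.bcMap f b w) := by
    rw [show FBase.bcπ f (AlgebraicClosure k) '' connectedComponent (H06Geom.bcMap f b w) = Set.univ from
      GaloisFibres.image_connectedComponent f (AlgebraicClosure k) _]
    trivial
  obtain ⟨q, rfl⟩ := H06Geom.surjective_bcMap f b y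
  refine ⟨H06Geom.bcMap f a q, h2 ⟨q, hy, rfl⟩, ?_⟩
  rw [← hyx, ← Scheme.Hom.comp_apply, ← Scheme.Hom.comp_apply, H06Geom.bcMap_bcπ, H06Geom.bcMap_bcπ]

/-- The image of a connected component of a base change is a connected component. -/
theorem image_connectedComponent (z : ↥(FBase.bc f K)) :
    FBase.bcπ f K '' connectedComponent z = connectedComponent (FBase.bcπ f K z) := by
  refine Set.Subset.antisymm (((isConnected_connectedComponent.image _ (FBase.bcπ f K).continuous.continuousOn).2).subset_connectedComponent
    ⟨z, mem_connectedComponent, rfl⟩) fun x hx => ?_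
  set C := connectedComponent (FBase.bcπ f K z)
  let I := Scheme.IdealSheafData.vanishingIdeal (X := X) ⟨C, isClosed_connectedComponent⟩
  let i := I.subschemeι
  have hr : Set.range i.base = C := by
    show Set.range I.subschemeι = _
    rw [Scheme.IdealSheafData.range_subschemeι, Scheme.IdealSheafData.coe_support_vanishingIdeal]
    rfl
  haveI : PreconnectedSpace I.subscheme :=
    ⟨i.isEmbedding.isInducing.isPreconnected_image.mp (by
      rw [Set.image_univ, hr]; exact isPreconnected_connectedComponent)⟩
  let j : FBase.bc (i ≫ f) K ⟶ FBase.bc f K :=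
    pullback.map (i ≫ f) _ f _ i (𝟙 _) (𝟙 _) (by simp) (by simp)
  obtain ⟨w, hw⟩ : z ∈ Set.range j := by
    show z ∈ Set.range (pullback.map (i ≫ f) _ f _ i (𝟙 _) (𝟙 _) _ _)
    rw [Scheme.Pullback.range_map]
    exact ⟨hr.ge mem_connectedComponent, _, rfl⟩
  have hj : j ≫ FBase.bcπ f K = FBase.bcπ (i ≫ f) K ≫ i := pullback.lift_fst _ _ _
  obtain ⟨y, rfl⟩ := hr.ge hx
  obtain ⟨q, hq, hqy⟩ := (image_connectedComponent_of_connected (i ≫ f) K w).ge (Set.mem_univ y)
  refine ⟨j q, ?_, ?_⟩
  · exact ((isPreconnected_connectedComponent (x := w)).image _ j.continuous.continuousOn).subset_connectedComponent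
      ⟨w, mem_connectedComponent, hw⟩ ⟨q, hq, rfl⟩
  · rw [← Scheme.Hom.comp_apply, hj, Scheme.Hom.comp_apply, hqy]

end Groth.Agent.H22Alg.FieldComponents
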