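import Mathlib
import Groth.Agent.H22Alg.GaloisFibres
import Groth.Agent.H22Alg.VarGeom

/-! Irreducible components of base changes to field extensions. -/

set_option autoImplicit false
set_option linter.style.haveILetI false
universe u

open AlgebraicGeometry CategoryTheory CategoryTheory.Limits
open Groth.Agent.H8Props (mem_genericPoints_iff exists_genericPoints_specializes flat_map_genericPoints)

namespace Groth.Agent.H22Alg.FieldIrred

theorem eq_closure_of_mem_irreducibleComponents {Y : Scheme.{u}} {T : Set Y} (hT : T ∈ irreducibleComponents Y) :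
    ∃ η ∈ genericPoints Y, T = closure {η} := by
  obtain ⟨η, hη⟩ := QuasiSober.sober hT.1 (isClosed_of_mem_irreducibleComponents T hT)
  exact ⟨η, show closure {η} ∈ irreducibleComponents Y by rwa [hη.def], hη.def.symm⟩

variable {k : Type u} [Field k] {X : Scheme.{u}} (f : X ⟶ Spec (CommRingCat.of k))
  (K : Type u) [Field K] [Algebra k K]

local notation "sK" => Spec.map (CommRingCat.ofHom (algebraMap k K))

theorem flat_fst : Flat (pullback.fst f sK) := by
  haveI : Flat sK := by
    rw [HasRingHomProperty.Spec_iff (P := @Flat)]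
    exact RingHom.flat_algebraMap_iff.2 inferInstance
  infer_instance

theorem map_genericPoints {ξ : ↥(pullback f sK)} (hξ : ξ ∈ genericPoints ↥(pullback f sK)) :
    pullback.fst f sK ξ ∈ genericPoints ↥X :=
  haveI := flat_fst f K
  flat_map_genericPoints _ hξ

/-- Every point lies below a generic point over a given generization of its image. -/
theorem exists_genericPoint_specializes (z : ↥(pullback f sK)) {η : X} (hη : η ∈ genericPoints X)
    (h : η ⤳ pullback.fst f sK z) :
    ∃ ξ ∈ genericPoints ↥(pullback f sK), ξ ⤳ z ∧ pullback.fst f sK ξ = η := by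
  haveI := flat_fst f K
  obtain ⟨w, hw, rfl⟩ := Flat.generalizingMap (pullback.fst f sK) h
  obtain ⟨ξ, hξ, hξw⟩ := exists_genericPoints_specializes w
  exact ⟨ξ, hξ, hξw.trans hw, mem_genericPoints_iff.mp hη _ (hξw.map (pullback.fst f sK).continuous)⟩

/-- Components of the base change surject onto components. -/
theorem image_closure {ξ : ↥(FBase.bc f K)} (hξ : ξ ∈ genericPoints ↥(FBase.bc f K)) :
    FBase.bcπ f K '' closure {ξ} = closure {FBase.bcπ f K ξ} := by
  refine Set.Subset.antisymm ((image_closure_subset_closure_image (FBase.bcπ f K).continuous).trans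
    (by rw [Set.image_singleton])) fun y hy => ?_
  obtain ⟨E, _, _, a, b, -⟩ := H06Geom.exists_over (k := k) K (AlgebraicClosure k)
  haveI := H06Geom.flat_bcMap f a
  obtain ⟨ξ', hξ', hξ'ξ⟩ := H06Geom.exists_component_over (H06Geom.bcMap f a) (H06Geom.surjective_bcMap f a) hξ
  have hirr := H06Geom.isIrreducible_preimage_bcMap f b
    (isIrreducible_singleton (x := H06Geom.bcMap f b ξ')).closure
  obtain ⟨ζ, hζ⟩ := QuasiSober.sober hirr (isClosed_closure.preimage (H06Geom.bcMap f b).continuous)
  obtain rfl := mem_genericPoints_iff.mp hξ' ζ (hζ.specializes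
    (show H06Geom.bcMap f b ξ' ∈ closure {H06Geom.bcMap f b ξ'} from subset_closure rfl))
  have e : ∀ w, FBase.bcπ f (AlgebraicClosure k) (H06Geom.bcMap f b w) = FBase.bcπ f K (H06Geom.bcMap f a w) := fun w => by
    rw [← Scheme.Hom.comp_apply, ← Scheme.Hom.comp_apply, H06Geom.bcMap_bcπ, H06Geom.bcMap_bcπ]
  have hcl := (H06Geom.isClosedMap_bcπ_algClosure f).closure_image_subset {H06Geom.bcMap f b ζ}
  rw [Set.image_singleton, e, hξ'ξ] at hcl
  obtain ⟨v, hv, hvy⟩ := hcl hy
  obtain ⟨q, rfl⟩ := H06Geom.surjective_bcMap f b v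
  refine ⟨H06Geom.bcMap f a q, ?_, (e q).symm.trans hvy⟩
  have hq : ζ ⤳ q := hζ.specializes hv
  rw [← hξ'ξ]
  exact (hq.map (H06Geom.bcMap f a).continuous).mem_closure

theorem image_irreducibleComponent {T : Set ↥(FBase.bc f K)} (hT : T ∈ irreducibleComponents ↥(FBase.bc f K)) :
    FBase.bcπ f K '' T ∈ irreducibleComponents ↥X := by
  obtain ⟨ξ, hξ, rfl⟩ := eq_closure_of_mem_irreducibleComponents hT
  rw [image_closure f K hξ]
  exact map_genericPoints f K hξ

/-- If the fibre over the generic point is irreducible, so is the base change. -/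
theorem irreducibleSpace_of_fibre [IrreducibleSpace X]
    (h : IsIrreducible (pullback.fst f sK ⁻¹' {genericPoint X})) : IrreducibleSpace ↥(pullback f sK) := by
  have huniv : closure (pullback.fst f sK ⁻¹' {genericPoint X}) = Set.univ := by
    refine Set.eq_univ_of_forall fun z => ?_
    have hg : genericPoint X ∈ genericPoints X := by
      rw [genericPoints_eq_singleton]; rfl
    obtain ⟨ξ, -, hξz, hξ⟩ := exists_genericPoint_specializes f K z hg (genericPoint_specializes _)
    exact closure_mono (Set.singleton_subset_iff.mpr (show ξ ∈ pullback.fst f sK ⁻¹' {genericPoint X} from hξ)) hξz.mem_closure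
  rw [irreducibleSpace_def, Set.top_eq_univ, ← huniv]
  exact h.closure

/-- Automorphisms preserve generic points. -/
theorem smul_mem_genericPoints [Normal k K] (σ : K ≃ₐ[k] K) {ξ : ↥(pullback f sK)}
    (hξ : ξ ∈ genericPoints ↥(pullback f sK)) : σ • ξ ∈ genericPoints ↥(pullback f sK) := by
  rw [mem_genericPoints_iff] at hξ ⊢
  intro w hw
  have h1 := hw.map (GaloisFibres.act f K σ).continuous
  have h2 := inv_smul_smul σ ξ
  rw [GaloisFibres.smul_eq (σ := σ⁻¹), inv_inv] at h2
  rw [h2] at h1
  have h3 := hξ _ h1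
  rw [← h3]
  have h4 := smul_inv_smul σ w
  rw [GaloisFibres.smul_eq (σ := σ⁻¹), inv_inv] at h4
  exact h4.symm

/-- If all intermediate finite base changes are irreducible, so is the base change. -/
theorem irreducibleSpace_of_forall_finite [IrreducibleSpace X] [Normal k K]
    (h : ∀ L : IntermediateField k K, FiniteDimensional k L → IrreducibleSpace ↥(FBase.bc f L)) :
    IrreducibleSpace ↥(pullback f sK) := by
  obtain ⟨z₀, -⟩ := GaloisFibres.surjective_bcπ f K (genericPoint X)
  obtain ⟨ξ, hξ, -⟩ := exists_genericPoints_specializes z₀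
  suffices huniv : closure {ξ} = Set.univ by
    rw [irreducibleSpace_def, Set.top_eq_univ, ← huniv]
    exact isIrreducible_singleton.closure
  refine Set.eq_univ_of_forall fun z => ?_
  obtain ⟨ξ', hξ', hξ'z⟩ := exists_genericPoints_specializes z
  suffices ξ' = ξ from this ▸ hξ'z.mem_closure
  by_contra hne
  have hW : IsOpen {σ : K ≃ₐ[k] K | σ • ξ' ∈ closure {ξ}}ᶜ :=
    (isClosed_closure.preimage (continuous_id.smul continuous_const)).isOpen_compl
  haveI := H18Gal.KrullCompact.compactSpace k K
  obtain ⟨N, hN⟩ := ProfiniteGrp.exist_openNormalSubgroup_sub_open_nhds_of_one hW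
    (show (1 : K ≃ₐ[k] K) • ξ' ∉ closure {ξ} by
      rw [one_smul]
      exact fun hm => hne (mem_genericPoints_iff.mp hξ' ξ (specializes_iff_mem_closure.mpr hm)).symm)
  obtain ⟨L, hfd, hL⟩ := (krullTopology_mem_nhds_one_iff k K _).mp (N.isOpen'.mem_nhds N.toSubgroup.one_mem)
  haveI := h L hfd
  haveI := H06Geom.flat_bcMap f L.val
  have hgen : ∀ w ∈ genericPoints ↥(FBase.bc f K), H06Geom.bcMap f L.val w = genericPoint ↥(FBase.bc f L) := fun w hw => by
    have := flat_map_genericPoints (H06Geom.bcMap f L.val) hw
    rw [genericPoints_eq_singleton] at this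
    exact this
  obtain ⟨σ, hσ, hσe⟩ := GaloisFibres.exists_smul_eq_of_bcMap f K L (z := ξ) (z' := ξ')
    ((hgen ξ hξ).trans (hgen ξ' hξ').symm)
  exact hN (hL hσ) (show σ • ξ' ∈ closure {ξ} from hσe ▸ subset_closure rfl)

omit K in
/-- The projection from the algebraic closure to the separable closure is a homeomorphism. -/
theorem isHomeomorph_bcMap_separableClosure :
    IsHomeomorph (H06Geom.bcMap f (separableClosure k (AlgebraicClosure k)).val) := by
  let L := separableClosure k (AlgebraicClosure k)
  let m := H06Geom.bcMap f L.val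
  have hinj : Function.Injective m := fun z z' h => by
    obtain ⟨σ, hσ, rfl⟩ := GaloisFibres.exists_smul_eq_of_bcMap f (AlgebraicClosure k) L h
    have : σ = 1 := by
      refine AlgEquiv.ext fun y => ?_
      obtain ⟨n, c, hc⟩ := IsPurelyInseparable.pow_mem L (ringExpChar L) y
      haveI : ExpChar (AlgebraicClosure k) (ringExpChar L) :=
        expChar_of_injective_ringHom (algebraMap L (AlgebraicClosure k)).injective _
      refine iterateFrobenius_inj (AlgebraicClosure k) (ringExpChar L) n ?_
      show (σ y) ^ ringExpChar L ^ n = y ^ ringExpChar L ^ n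
      rw [← map_pow, ← hc]
      exact (IntermediateField.mem_fixingSubgroup_iff L σ).mp hσ (c : AlgebraicClosure k) c.2
    rw [this]
    exact @MulAction.one_smul _ _ _ (GaloisFibres.instMulAction f (AlgebraicClosure k)) z'
  have hcl : IsClosedMap m := by
    haveI : IsIntegralHom (Spec.map (CommRingCat.ofHom L.val.toRingHom)) := by
      rw [IsIntegralHom.SpecMap_iff]
      exact algebraMap_isIntegral_iff (R := L) (A := AlgebraicClosure k).2 inferInstance
    haveI : IsIntegralHom m :=
      MorphismProperty.of_isPullback (P := @IsIntegralHom) (H06Geom.isPullback_bcMap f L.val).flip inferInstance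
    exact m.isClosedMap
  exact isHomeomorph_iff_continuous_isClosedMap_bijective.mpr
    ⟨m.continuous, hcl, hinj, H06Geom.surjective_bcMap f L.val⟩

omit K in
/-- Irreducible preimage over a separable closure gives irreducible preimage over every extension. -/
theorem isIrreducible_preimage_of_separableClosure {T : Set X}
    (h : IsIrreducible (FBase.bcπ f (SeparableClosure k) ⁻¹' T)) (K : Type u) [Field K] [Algebra k K] :
    IsIrreducible (FBase.bcπ f K ⁻¹' T) := by
  obtain ⟨E, _, _, a, b, -⟩ := H06Geom.exists_over (k := k) K (AlgebraicClosure k)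
  let m := H06Geom.bcMap f (separableClosure k (AlgebraicClosure k)).val
  have hh : IsHomeomorph m := isHomeomorph_bcMap_separableClosure f
  have h1 : IsIrreducible (FBase.bcπ f (AlgebraicClosure k) ⁻¹' T) := by
    have e : FBase.bcπ f (AlgebraicClosure k) ⁻¹' T = hh.homeomorph.symm '' (FBase.bcπ f (SeparableClosure k) ⁻¹' T) := by
      rw [Homeomorph.image_symm, ← H06Geom.bcMap_bcπ f (separableClosure k (AlgebraicClosure k)).val]
      rfl
    rw [e]
    exact h.image _ hh.homeomorph.symm.continuous.continuousOn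
  have h2 := (H06Geom.isIrreducible_preimage_bcMap f b h1).image (H06Geom.bcMap f a) (H06Geom.bcMap f a).continuous.continuousOn
  have e : FBase.bcπ f K ⁻¹' T = H06Geom.bcMap f a '' (H06Geom.bcMap f b ⁻¹' (FBase.bcπ f (AlgebraicClosure k) ⁻¹' T)) := by
    have e' : ∀ w, FBase.bcπ f (AlgebraicClosure k) (H06Geom.bcMap f b w) = FBase.bcπ f K (H06Geom.bcMap f a w) := fun w => by
      rw [← Scheme.Hom.comp_apply, ← Scheme.Hom.comp_apply, H06Geom.bcMap_bcπ, H06Geom.bcMap_bcπ]
    ext y
    constructor
    · intro hy
      obtain ⟨q, rfl⟩ := H06Geom.surjective_bcMap f a y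
      exact ⟨q, show FBase.bcπ f _ _ ∈ T by rw [e']; exact hy, rfl⟩
    · rintro ⟨q, hq, rfl⟩
      show FBase.bcπ f K _ ∈ T
      rw [← e']; exact hq
  rw [e]
  exact h2

end Groth.Agent.H22Alg.FieldIrred
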