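import Groth.Agent.H29Fitt.Rank
import Groth.Agent.H29Fitt.LocFree
import Groth.Agent.H06FlatCx.FibreDim
import Mathlib.RingTheory.LocalRing.Module
import Mathlib.RingTheory.Flat.FaithfullyFlat.Basic

/-! # Fitting ideals, constant rank, and bijectivity tested on fibres. -/

set_option autoImplicit false
set_option linter.style.haveILetI false

universe u

open TensorProduct

noncomputable section

namespace Groth.Agent.H22Alg.FittRank

open Groth.Agent.H06FlatCx

variable {B : Type u} [CommRing B] (M : Type u) [AddCommGroup M] [Module B M]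

theorem le_of_ne_top [Module.Finite B M] (x : PrimeSpectrum B) (k : ℕ) (h : Fitt.ideal B M k ≤ x.asIdeal) :
    k < fibDim M x := by
  by_contra hlt
  exact (H29Fitt.not_le_prime_iff_finrank_le k x.asIdeal).2 (not_lt.1 hlt) h

/-- Vanishing of the lower Fitting ideals and at most `r` generators on every fibre give flatness of rank `r`. -/
theorem flat_of_fitting [Module.Finite B M] (r : ℕ) (hr : ∀ x : PrimeSpectrum B, fibDim M x ≤ r)
    (h : ∀ k, k < r → Fitt.ideal B M k = ⊥) :
    Module.Flat B M ∧ ∀ x : PrimeSpectrum B, fibDim M x = r := by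
  have hdim : ∀ x : PrimeSpectrum B, fibDim M x = r := fun x => by
    refine le_antisymm (hr x) ?_
    by_contra hlt
    have := le_of_ne_top M x (fibDim M x) (by rw [h _ (not_le.1 hlt)]; exact bot_le)
    omega
  refine ⟨Module.flat_of_localized_maximal M fun m hm => ?_, hdim⟩
  let L := Localization.AtPrime m
  let N := L ⊗[B] M
  obtain ⟨v, hv⟩ := exists_spanning_fibre N (IsLocalRing.closedPoint L)
  have hd : fibDim N (IsLocalRing.closedPoint L) = r := by rw [fibDim_baseChange]; exact hdim _
  have hspan : Submodule.span L (Set.range v) = ⊤ := by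
    by_contra hne
    let S : Submodule L N := Submodule.span L (Set.range v)
    haveI : Nontrivial (N ⧸ S) := Submodule.Quotient.nontrivial_iff.2 hne
    have hs : IsLocalRing.closedPoint L ∈ Module.support L (N ⧸ S) :=
      IsLocalRing.closedPoint_mem_support L (N ⧸ S)
    rw [Module.mem_support_iff_nontrivial_residueField_tensorProduct] at hs
    refine not_subsingleton ((IsLocalRing.closedPoint L).asIdeal.ResidueField ⊗[L] (N ⧸ S)) ?_
    refine subsingleton_of_forall_eq 0 fun w => ?_
    obtain ⟨t, rfl⟩ := LinearMap.baseChange_surjective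
      (A := (IsLocalRing.closedPoint L).asIdeal.ResidueField) (Submodule.mkQ_surjective S) w
    have ht : t ∈ Submodule.span (IsLocalRing.closedPoint L).asIdeal.ResidueField
        (Set.range fun i => (1 : (IsLocalRing.closedPoint L).asIdeal.ResidueField) ⊗ₜ[L] v i) :=
      hv ▸ Submodule.mem_top
    refine (Submodule.span_le.2 ?_ ht : t ∈ LinearMap.ker (S.mkQ.baseChange _))
    rintro _ ⟨i, rfl⟩
    rw [SetLike.mem_coe, LinearMap.mem_ker, LinearMap.baseChange_tmul, Submodule.mkQ_apply,
      (Submodule.Quotient.mk_eq_zero S).2 (Submodule.subset_span ⟨i, rfl⟩), tmul_zero]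
  let w : Fin r → N := v ∘ Fin.cast hd.symm
  have hw : Submodule.span L (Set.range w) = ⊤ := by
    rw [show Set.range w = Set.range v from (finCongr hd.symm).surjective.range_comp v]
    exact hspan
  have hli : LinearIndependent L w := Fintype.linearIndependent_iff.2 fun c hc i =>
    congrFun (H29Fitt.eq_zero_of_ideal_eq_bot w hw (fun k hk => by
      rw [H29Fitt.ideal_baseChange, h k hk, Ideal.map_bot]) c hc) i
  haveI : Module.Free L N := Module.Free.of_basis (Module.Basis.mk hli hw.ge)
  haveI : Module.Flat B N := Module.Flat.trans B L _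
  exact Module.Flat.of_linearEquiv ((LocalizedModule.equivTensorProduct m.primeCompl M).restrictScalars B)

/-- The lower Fitting ideals of a projective module of constant rank vanish. -/
theorem fitting_of_projective [Module.Finite B M] [Module.Projective B M] (r : ℕ)
    (hr : ∀ x : PrimeSpectrum B, fibDim M x = r) {k : ℕ} (hk : k < r) : Fitt.ideal B M k = ⊥ := by
  by_contra hne
  obtain ⟨a, ha, ha0⟩ := Submodule.exists_mem_ne_zero_of_ne_bot hne
  let Ann : Ideal B := LinearMap.ker (LinearMap.toSpanSingleton B B a)
  have hann : Ann ≠ ⊤ := fun h => ha0 (by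
    have h1 : (1 : B) ∈ Ann := h ▸ trivial
    simpa [Ann] using h1)
  obtain ⟨m, hm, hle⟩ := Ideal.exists_le_maximal Ann hann
  let L := Localization.AtPrime m
  let N := L ⊗[B] M
  haveI : Module.Free L N := Module.free_of_flat_of_isLocalRing
  let b := Module.Free.chooseBasis L N
  haveI : Fintype (Module.Free.ChooseBasisIndex L N) := Module.Free.ChooseBasisIndex.fintype L N
  have hcard : Fintype.card (Module.Free.ChooseBasisIndex L N) = r := by
    rw [← Module.finrank_eq_card_basis b, ← hr (PrimeSpectrum.comap (algebraMap B L) (IsLocalRing.closedPoint L)),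
      ← fibDim_baseChange]
    exact Module.finrank_baseChange.symm
  let e : Fin r ≃ Module.Free.ChooseBasisIndex L N := (Fintype.equivFinOfCardEq hcard).symm
  have hbot := H29Fitt.ideal_eq_bot_of_independent (A := L) (M := N) (b ∘ e)
    (by rw [e.surjective.range_comp b]; exact b.span_eq)
    (fun c hc => funext fun i => Fintype.linearIndependent_iff.1 (b.linearIndependent.comp e e.injective) c hc i) hk
  rw [H29Fitt.ideal_baseChange] at hbot
  have h0 : algebraMap B L a = 0 := by
    rw [← Ideal.mem_bot, ← hbot]
    exact Ideal.mem_map_of_mem _ ha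
  obtain ⟨c, hc⟩ := (IsLocalization.map_eq_zero_iff m.primeCompl L a).1 h0
  exact c.2 (hle (show (c : B) • a = 0 from hc))

/-- A map to a finite projective module which is bijective on the fibres at maximal ideals is bijective. -/
theorem bijective_of_fibres {Q : Type u} [AddCommGroup Q] [Module B Q] [Module.Finite B Q] [Module.Projective B Q]
    [Module.Finite B M] (α : M →ₗ[B] Q)
    (h : ∀ m : PrimeSpectrum B, m.asIdeal.IsMaximal → Function.Bijective (α.lTensor m.asIdeal.ResidueField)) :
    Function.Bijective α := by
  have hzero : ∀ (N : Type u) [AddCommGroup N] [Module B N] [Module.Finite B N],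
      (∀ m : PrimeSpectrum B, m.asIdeal.IsMaximal → Subsingleton (m.asIdeal.ResidueField ⊗[B] N)) →
      Subsingleton N := by
    intro N _ _ _ hN
    refine Module.support_eq_empty_iff (R := B).1 (Set.eq_empty_iff_forall_notMem.2 fun p hp => ?_)
    obtain ⟨m, hm, hle⟩ := Ideal.exists_le_maximal p.asIdeal p.2.ne_top
    let m' : PrimeSpectrum B := ⟨m, hm.isPrime⟩
    exact not_nontrivial_iff_subsingleton.2 (hN m' hm)
      ((Module.mem_support_iff_nontrivial_residueField_tensorProduct m').1 (Module.mem_support_mono hle hp))
  have hsurj : Function.Surjective α := by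
    rw [← LinearMap.range_eq_top, ← Submodule.Quotient.subsingleton_iff]
    refine hzero _ fun m hm => subsingleton_of_forall_eq 0 fun w => ?_
    obtain ⟨t, rfl⟩ := LinearMap.lTensor_surjective m.asIdeal.ResidueField (Submodule.mkQ_surjective (LinearMap.range α)) w
    obtain ⟨s, rfl⟩ := (h m hm).2 t
    rw [← LinearMap.comp_apply, ← LinearMap.lTensor_comp, LinearMap.range_mkQ_comp, LinearMap.lTensor_zero,
      LinearMap.zero_apply]
  refine ⟨?_, hsurj⟩
  obtain ⟨σ, hσ⟩ := Module.projective_lifting_property α LinearMap.id hsurj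
  let π : M →ₗ[B] LinearMap.ker α := (LinearMap.id - σ.comp α).codRestrict _ fun x => by
    have := LinearMap.congr_fun hσ (α x)
    simp only [LinearMap.comp_apply, LinearMap.id_apply] at this
    simp [this]
  have hπ : π.comp (LinearMap.ker α).subtype = LinearMap.id := by
    refine LinearMap.ext fun x => Subtype.ext ?_
    show (x : M) - σ (α x) = x
    rw [LinearMap.mem_ker.1 x.2, map_zero, sub_zero]
  haveI : Module.Finite B (LinearMap.ker α) := Module.Finite.of_surjective π fun x =>
    ⟨x, LinearMap.congr_fun hπ x⟩
  rw [← LinearMap.ker_eq_bot, ← Submodule.subsingleton_iff_eq_bot]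
  refine hzero _ fun m hm => subsingleton_of_forall_eq 0 fun w => ?_
  have hw : (LinearMap.ker α).subtype.lTensor m.asIdeal.ResidueField w = 0 := (h m hm).1 (by
    rw [map_zero, ← LinearMap.comp_apply, ← LinearMap.lTensor_comp, LinearMap.comp_ker_subtype,
      LinearMap.lTensor_zero, LinearMap.zero_apply])
  rw [← LinearMap.id_apply (R := B) w, ← LinearMap.lTensor_id, ← hπ, LinearMap.lTensor_comp, LinearMap.comp_apply,
    hw, map_zero]

end Groth.Agent.H22Alg.FittRank
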