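import Groth.Agent.H22Alg.HilbertFinite
import Groth.Agent.H22Alg.AmpleModel
import Groth.Agent.H17.QcImage
import Groth.Agent.H11Ample.RelPullback
import Groth.Agent.H19Grp.Components

/-! # Upper semicontinuity of Hilbert polynomials of the fibres. -/

set_option autoImplicit false
set_option linter.style.haveILetI false
set_option linter.unusedSectionVars false

universe u

open CategoryTheory CategoryTheory.Limits AlgebraicGeometry Opposite TopologicalSpace

noncomputable section

namespace Groth.Agent.H22Alg.HilbertFlat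

open Groth.Agent.H10Coh Groth.Agent.H11Ample
open Groth.Agent.H25Theta (pb pT pC pI tI pO)

attribute [local instance 10000] H10Coh.hasSheafifyAb H10Coh.hasWeakSheafifyAb H10Coh.hasExtAb H10Coh.enoughInjAb

theorem nonempty_tensorPow_congr {X : Scheme.{u}} {L M : X.Modules} (e : L ≅ M) :
    ∀ n, Nonempty (CohB1.tensorPow L n ≅ CohB1.tensorPow M n)
  | 0 => ⟨Iso.refl _⟩
  | n + 1 => by
    obtain ⟨en⟩ := nonempty_tensorPow_congr e n
    exact ⟨PicGrp.tensorModIso en e⟩

theorem hilb_congr {X S : Scheme.{u}} (f : X ⟶ S) {L L' F F' : X.Modules} (eL : L ≅ L') (eF : F ≅ F') (s : S) :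
    hilb f L F s = hilb f L' F' s := funext fun n => by
  obtain ⟨e⟩ := nonempty_tensorPow_congr eL n
  letI : (f.fiber s).Over (Spec (CommRingCat.of (S.residueField s))) := ⟨f.fiberToSpecResidueField s⟩
  exact H25Euler.euler_congr ((Scheme.Modules.pullback _).mapIso (PicGrp.tensorModIso eF e))

theorem hilb_baseChange {X S X' S' : Scheme.{u}} {f : X ⟶ S} {g : S' ⟶ S} {g' : X' ⟶ X} {f' : X' ⟶ S'}
    (h : IsPullback g' f' f g) [IsProper f] {L : X.Modules} (hL : PicF.IsInvertible L) {F : X.Modules}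
    (hF : CohB1.IsFP F) (s' : S') : hilb f' (pb g' L) (pb g' F) s' = hilb f L F (g s') :=
  funext fun n => fibEuler_twist_baseChange h hL hF n s'

/-- Over a Noetherian affine base Hilbert functions increase eventually under specialisation. -/
theorem eventually_hilb_le_noetherian {A : Type u} [CommRing A] [IsNoetherianRing A] {X : Scheme.{u}}
    [X.Over (Spec (CommRingCat.of A))] [IsProper (X ↘ Spec (CommRingCat.of A))] {L : X.Modules}
    (hA : CohB1.IsAmple L) (F : X.Modules) (hF : Coh.IsCoh F) {p q : PrimeSpectrum A} (h : p ⤳ q) :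
    ∃ N : ℕ, ∀ n, N ≤ n → hilb (X ↘ Spec (CommRingCat.of A)) L F p n ≤
      hilb (X ↘ Spec (CommRingCat.of A)) L F q n := by
  obtain ⟨n₁, h₁⟩ := TwistFibre.exists_fibDim_eq_euler hA F hF p
  obtain ⟨n₂, h₂⟩ := TwistFibre.exists_fibDim_eq_euler hA F hF q
  refine ⟨n₁ + n₂, fun n hn => ?_⟩
  haveI : IsLocallyNoetherian X := LocallyOfFiniteType.isLocallyNoetherian (X ↘ Spec (CommRingCat.of A))
  haveI : CompactSpace X := QuasiCompact.compactSpace_of_compactSpace (X ↘ Spec (CommRingCat.of A))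
  haveI : IsNoetherian X := ⟨⟩
  haveI := H10Coh.finite_HH_proper A X (CohB1.tensorMod F (CohB1.tensorPow L n))
    (isCoh_tensor hF (isInvertible_tensorPow (isAmple_iff.1 hA).1 n)) 0
  have key : (H06FlatCx.fibDim (A := A) (Coh.HH X (CohB1.tensorMod F (CohB1.tensorPow L n)) 0) p : ℤ) ≤
      (H06FlatCx.fibDim (A := A) (Coh.HH X (CohB1.tensorMod F (CohB1.tensorPow L n)) 0) q : ℤ) :=
    Int.ofNat_le.2 (h.mem_open (H06FlatCx.isOpen_fibDim_le
      (Coh.HH X (CohB1.tensorMod F (CohB1.tensorPow L n)) 0) _)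
      (show H06FlatCx.fibDim (A := A) (Coh.HH X (CohB1.tensorMod F (CohB1.tensorPow L n)) 0) q ≤ _ from le_rfl))
  rw [h₁ n (by omega), h₂ n (by omega)] at key
  exact key

/-- Hilbert functions increase eventually under specialisation, over an affine base. -/
theorem eventually_hilb_le {R : Type u} [CommRing R] {X : Scheme.{u}}
    (f : X ⟶ Spec (CommRingCat.of R)) [IsProper f] [LocallyOfFinitePresentation f]
    {L : X.Modules} (hL : RelAmple.IsRelAmple f L) {F : X.Modules} (hF : CohB1.IsFP F)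
    {x y : PrimeSpectrum R} (h : x ⤳ y) :
    ∃ N : ℕ, ∀ n, N ≤ n → hilb f L F x n ≤ hilb f L F y n := by
  obtain ⟨R₀, _, _, _, X₀, f₀, L₀, F₀, g, _, hL₀, hA₀, hF₀, hsq, ⟨eL⟩, ⟨eF⟩⟩ :=
    AmpleModel.exists_ample_model f L (isInvertible_of_isRelAmple hL)
      ((isRelAmple_iff_isAmple_of_isAffine (f := f) (L := L)).1 hL) F hF
  letI : X₀.Over (Spec (CommRingCat.of R₀)) := ⟨f₀⟩
  haveI : IsProper (X₀ ↘ Spec (CommRingCat.of R₀)) := ‹IsProper f₀›
  have key : ∀ s, hilb f L F s = hilb f₀ L₀ F₀ (Spec.map (CommRingCat.ofHom (algebraMap R₀ R)) s) := fun s =>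
    (hilb_congr f eL.symm eF.symm s).trans (hilb_baseChange hsq hL₀ hF₀ s)
  obtain ⟨N, hN⟩ := eventually_hilb_le_noetherian hA₀ F₀ (H17.ConsProp.isCoh_of_isFP hF₀)
    (h.map (Spec.map (CommRingCat.ofHom (algebraMap R₀ R))).continuous)
  exact ⟨N, fun n hn => by rw [key, key]; exact hN n hn⟩

/-- The loci where the Hilbert function is eventually at least a given function are closed. -/
theorem isClosed_eventually_ge {X S : Scheme.{u}} (f : X ⟶ S) [IsProper f] [LocallyOfFinitePresentation f]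
    {L : X.Modules} (hL : RelAmple.IsRelAmple f L) {F : X.Modules} (hF : CohB1.IsFP F) (P : (ℕ → ℤ) → Prop)
    (hP : ∀ a b : ℕ → ℤ, (∃ N, ∀ n, N ≤ n → a n ≤ b n) → P a → P b) :
    IsClosed {s : S | P (hilb f L F s)} := by
  rw [(TopologicalSpace.IsOpenCover.mk (iSup_affineOpens_eq_top S)).isClosed_iff_coe_preimage]
  intro i
  haveI : IsAffine i.1.toScheme := i.2
  let u : i.1.toScheme ⟶ S := i.1.ι
  have hkey : ∀ z, hilb (pullback.snd f u) (pb (pullback.fst f u) L) (pb (pullback.fst f u) F) z =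
      hilb f L F (u z) := fun z => hilb_baseChange (IsPullback.of_hasPullback f u) (isInvertible_of_isRelAmple hL) hF z
  have hcl : IsClosed (u ⁻¹' {s : S | P (hilb f L F s)}) := by
    let f' := pullback.snd f u
    have hL' : RelAmple.IsRelAmple f' (pb (pullback.fst f u) L) := isRelAmple_baseChange f u hL
    have hF' := H06EGA9.isFP_pullback (pullback.fst f u) hF
    obtain ⟨t, T, g, hT, hq, -, hfl, hcov⟩ := exists_flat_strata f' (pb (pullback.fst f u) F) hF'
    rw [← closure_subset_iff_isClosed]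
    intro y hy
    let A : ∀ k : Fin t, Set (T k) := fun k =>
      {z | P (hilb f' (pb (pullback.fst f u) L) (pb (pullback.fst f u) F) (g k z))}
    have hsub : u ⁻¹' {s : S | P (hilb f L F s)} ⊆ ⋃ k, g k '' A k := fun z hz => by
      obtain ⟨k, w, rfl⟩ := hcov z
      refine Set.mem_iUnion.2 ⟨k, w, ?_, rfl⟩
      show P _
      rw [hkey]
      exact hz
    have hy' := closure_mono hsub hy
    rw [closure_iUnion_of_finite] at hy'
    obtain ⟨k, hk⟩ := Set.mem_iUnion.1 hy'
    have hlc := isLocallyConstant_hilb_of_flat f' (isInvertible_of_isRelAmple hL') hF' (g k) (hfl k)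
    let W : (T k).Opens := ⟨A k, hlc {a | P a}⟩
    haveI := hT k
    haveI : QuasiCompact (W.ι ≫ g k) := by
      haveI : CompactSpace W.toScheme := isCompact_iff_compactSpace.mp
        (IsClosed.isCompact (s := A k) ⟨hlc {a | P a}ᶜ⟩)
      exact HasAffineProperty.iff_of_isAffine.2 ‹_›
    have hk' : y ∈ closure (Set.range (W.ι ≫ g k)) := by
      rwa [Scheme.Hom.comp_base, TopCat.coe_comp, Set.range_comp, Scheme.Opens.range_ι]
    obtain ⟨w, hw⟩ := H17.exists_specializes_of_mem_closure_range (W.ι ≫ g k) hk'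
    show P (hilb f L F (u y))
    rw [← hkey]
    refine hP _ _ ?_ (w.2 : P _)
    let e := i.1.toScheme.isoSpec
    haveI : LocallyOfFinitePresentation (f' ≫ e.hom) := inferInstance
    obtain ⟨N, hN⟩ := eventually_hilb_le (f' ≫ e.hom) (isRelAmple_iff_isAmple_of_isAffine.2 (isRelAmple_iff_isAmple_of_isAffine.1 hL')) hF'
      (hw.map e.hom.continuous)
    refine ⟨N, fun n hn => ?_⟩
    have hsq : IsPullback (𝟙 _) f' (f' ≫ e.hom) e.hom := IsPullback.of_horiz_isIso ⟨by simp⟩
    have hcomp : ∀ z, hilb f' (pb (pullback.fst f u) L) (pb (pullback.fst f u) F) z =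
        hilb (f' ≫ e.hom) (pb (pullback.fst f u) L) (pb (pullback.fst f u) F) (e.hom z) := fun z =>
      (hilb_congr f' ((Scheme.Modules.pullbackId _).app _).symm ((Scheme.Modules.pullbackId _).app _).symm z).trans
        (hilb_baseChange hsq (isInvertible_of_isRelAmple hL') hF' z)
    rw [hcomp, hcomp]
    exact hN n hn
  exact hcl

end Groth.Agent.H22Alg.HilbertFlat
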