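import Groth.Agent.H22Alg.FlatIdeal
import Groth.Agent.H22Alg.HilbertSemicont
import Mathlib.Analysis.Polynomial.Basic

/-! # Functoriality of the flattening condition; Hilbert polynomials. -/

set_option autoImplicit false
set_option linter.style.haveILetI false
set_option linter.unusedSectionVars false

universe u

open CategoryTheory CategoryTheory.Limits AlgebraicGeometry Opposite TopologicalSpace

noncomputable section

namespace Groth.Agent.H22Alg.HilbertFlat

open Groth.Agent.H10Coh Groth.Agent.H11Ample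
open Groth.Agent.H25Theta (pb pT pC pI tI pO)

/-- Flatness of the base change may be tested on any cartesian square. -/
theorem isFlatOver_iff_of_square {X S T X' : Scheme.{u}} {f : X ⟶ S} {g : T ⟶ S} {q : X' ⟶ X} {p : X' ⟶ T}
    (h : IsPullback q p f g) (F : X.Modules) :
    FlatMod.IsFlatOver p (pb q F) ↔ FlatMod.IsFlatOver (pullback.snd f g) (pb (pullback.fst f g) F) := by
  constructor
  · intro hfl x
    have hsq : IsPullback h.isoPullback.inv (pullback.snd f g) p (𝟙 T) :=
      IsPullback.of_horiz_isIso ⟨by rw [Category.comp_id]; exact h.isoPullback_inv_snd⟩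
    exact (H06EGA9.isFlatOverAt_congr_iso _ (pC h.isoPullback.inv q h.isoPullback_inv_fst F) x).1
      (H06EGA9.isFlatOverAt_of_isPullback hsq _ x (hfl _))
  · intro hfl x
    have hsq : IsPullback h.isoPullback.hom p (pullback.snd f g) (𝟙 T) :=
      IsPullback.of_horiz_isIso ⟨by rw [Category.comp_id]; exact h.isoPullback_hom_snd⟩
    exact (H06EGA9.isFlatOverAt_congr_iso _ (pC h.isoPullback.hom (pullback.fst f g) h.isoPullback_hom_fst F) x).1
      (H06EGA9.isFlatOverAt_of_isPullback hsq _ x (hfl _))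

theorem Cond.comp {X S T T' : Scheme.{u}} {f : X ⟶ S} {L F : X.Modules} {P : ℕ → ℤ} {g : T ⟶ S}
    (hg : Cond f L F P g) (h : T' ⟶ T) : Cond f L F P (h ≫ g) :=
  ⟨flat_pullback_comp f F g h hg.1, fun t => hg.2 (h t)⟩

theorem cond_congr {X S T : Scheme.{u}} (f : X ⟶ S) {L L' F F' : X.Modules} (eL : L ≅ L') (eF : F ≅ F')
    (P : ℕ → ℤ) (g : T ⟶ S) : Cond f L F P g ↔ Cond f L' F' P g := by
  constructor
  · exact fun h => ⟨isFlatOver_congr_iso _ ((Scheme.Modules.pullback _).mapIso eF) h.1,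
      fun t => (hilb_congr f eL eF (g t)).symm.trans (h.2 t)⟩
  · exact fun h => ⟨isFlatOver_congr_iso _ ((Scheme.Modules.pullback _).mapIso eF.symm) h.1,
      fun t => (hilb_congr f eL eF (g t)).trans (h.2 t)⟩

/-- The condition commutes with base change. -/
theorem cond_baseChange_iff {X S X' S' T : Scheme.{u}} {f : X ⟶ S} {v : S' ⟶ S} {q : X' ⟶ X} {f' : X' ⟶ S'}
    (h : IsPullback q f' f v) [IsProper f] {L : X.Modules} (hL : PicF.IsInvertible L) {F : X.Modules}
    (hF : CohB1.IsFP F) (P : ℕ → ℤ) (w : T ⟶ S') :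
    Cond f' (pb q L) (pb q F) P w ↔ Cond f L F P (w ≫ v) := by
  have hsq : IsPullback (pullback.fst f' w ≫ q) (pullback.snd f' w) f (w ≫ v) :=
    (IsPullback.of_hasPullback f' w).paste_horiz h
  have e := pC (pullback.fst f' w) q (h := pullback.fst f' w ≫ q) rfl F
  constructor
  · exact fun hw => ⟨(isFlatOver_iff_of_square hsq F).1 (isFlatOver_congr_iso _ e hw.1),
      fun t => (hilb_baseChange h hL hF (w t)).symm.trans (hw.2 t)⟩
  · exact fun hw => ⟨isFlatOver_congr_iso _ e.symm ((isFlatOver_iff_of_square hsq F).2 hw.1),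
      fun t => (hilb_baseChange h hL hF (w t)).trans (hw.2 t)⟩

/-- Flatness of a base change is local on its source. -/
theorem flat_of_cover {X S T : Scheme.{u}} {f : X ⟶ S} {F : X.Modules} {g : T ⟶ S}
    {ι : Type*} (U : ι → Scheme.{u}) (u : ∀ i, U i ⟶ T) [∀ i, IsOpenImmersion (u i)]
    (hu : ∀ t : T, ∃ i, t ∈ Set.range (u i))
    (h : ∀ i, FlatMod.IsFlatOver (pullback.snd f (u i ≫ g)) (pb (pullback.fst f (u i ≫ g)) F)) :
    FlatMod.IsFlatOver (pullback.snd f g) (pb (pullback.fst f g) F) := by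
  intro x
  obtain ⟨i, hi⟩ := hu (pullback.snd f g x)
  let q : pullback f (u i ≫ g) ⟶ pullback f g := pullback.lift (pullback.fst f (u i ≫ g))
    (pullback.snd f (u i ≫ g) ≫ u i) (by rw [pullback.condition, Category.assoc])
  have hq : q ≫ pullback.fst f g = pullback.fst f (u i ≫ g) := pullback.lift_fst _ _ _
  have hsq : IsPullback q (pullback.snd f (u i ≫ g)) (pullback.snd f g) (u i) := by
    refine IsPullback.of_right ?_ (pullback.lift_snd _ _ _) (IsPullback.of_hasPullback f g)
    rw [hq]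
    exact IsPullback.of_hasPullback f (u i ≫ g)
  obtain ⟨z, hz⟩ := hi
  obtain ⟨w, hw₁, hw₂⟩ := Scheme.Pullback.exists_preimage_pullback x z hz.symm
  have hx : q (hsq.isoPullback.inv w) = x := by
    rw [← Scheme.Hom.comp_apply, hsq.isoPullback_inv_fst, hw₁]
  rw [← hx]
  refine H7Flat.isFlatOverAt_of_isPullback_flatAt _ _ hsq _ _ (Flat.stalkMap (u i) _) ?_
  exact (H06EGA9.isFlatOverAt_congr_iso _ (pC q (pullback.fst f g) hq F) _).2 (h i _)

/-- The condition is local on the source of the base change. -/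
theorem cond_of_cover {X S T : Scheme.{u}} {f : X ⟶ S} {L F : X.Modules} {P : ℕ → ℤ} {g : T ⟶ S}
    {ι : Type*} (U : ι → Scheme.{u}) (u : ∀ i, U i ⟶ T) [∀ i, IsOpenImmersion (u i)]
    (hu : ∀ t : T, ∃ i, t ∈ Set.range (u i)) (h : ∀ i, Cond f L F P (u i ≫ g)) : Cond f L F P g :=
  ⟨flat_of_cover U u hu fun i => (h i).1, fun t => by
    obtain ⟨i, z, rfl⟩ := hu t
    exact (h i).2 z⟩

/-- The condition holds over the spectrum of a field exactly at the points with the given function. -/
theorem cond_fromSpecResidueField {X S : Scheme.{u}} (f : X ⟶ S) (L F : X.Modules) (P : ℕ → ℤ) (s : S)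
    (hs : hilb f L F s = P) : Cond f L F P (S.fromSpecResidueField s) :=
  ⟨H28Int.FieldExt.isFlatOver_of_field (k := S.residueField s) _ _,
    fun t => by rw [Scheme.fromSpecResidueField_apply]; exact hs⟩

/-- The Hilbert function of a fibre is a polynomial. -/
theorem exists_poly_hilb {X S : Scheme.{u}} (f : X ⟶ S) [IsProper f] [LocallyOfFinitePresentation f]
    {L : X.Modules} (hL : PicF.IsInvertible L) {F : X.Modules} (hF : CohB1.IsFP F) (s : S) :
    ∃ p : Polynomial ℚ, ∀ n : ℕ, (hilb f L F s n : ℚ) = p.eval (n : ℚ) := by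
  obtain ⟨d, hd⟩ := H7Flat.exists_nat_dim_fiber f s
  letI : (f.fiber s).Over (Spec (CommRingCat.of (S.residueField s))) := ⟨f.fiberToSpecResidueField s⟩
  haveI : IsProper (f.fiber s ↘ Spec (CommRingCat.of (S.residueField s))) :=
    MorphismProperty.of_isPullback (IsPullback.of_hasPullback f (S.fromSpecResidueField s)) inferInstance
  haveI : IsNoetherian (f.fiber s) := H29RR.isNoetherian_of_proper (k := S.residueField s)
  have hc : Coh.IsCoh (pb (f.fiberι s) F) := H17.ConsProp.isCoh_of_isFP (H06EGA9.isFP_pullback _ hF)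
  obtain ⟨P, -, hP⟩ := Snapper.exists_poly (S.residueField s) hc (d := d)
    ((Topology.IsInducing.topologicalKrullDim_le Topology.IsEmbedding.subtypeVal.isInducing).trans hd)
    (L := fun _ : Fin 1 => pb (f.fiberι s) L) (fun _ => H11Ample.isInvertible_pullback _ hL)
  refine ⟨MvPolynomial.aeval (fun _ => Polynomial.X) P, fun n => ?_⟩
  obtain ⟨e⟩ := SnapperConst.nonempty_pullback_tensorPows (f.fiberι s) F 1 (fun _ => L) (fun _ => hL) (fun _ => n)
  calc (hilb f L F s n : ℚ) = (Curv2.euler (S.residueField s) (f.fiber s)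
        (Curv2.tensorPows (pb (f.fiberι s) F) 1 (fun _ => pb (f.fiberι s) L) (fun _ => n)) : ℚ) := by
        exact_mod_cast H25Euler.euler_congr e
    _ = MvPolynomial.eval (fun _ => (n : ℚ)) P := hP _
    _ = _ := by
      rw [← Polynomial.coe_aeval_eq_eval, ← AlgHom.comp_apply, MvPolynomial.comp_aeval, ← MvPolynomial.aeval_eq_eval]
      simp only [Polynomial.aeval_X]

/-- A polynomial function on the naturals vanishes or has an eventual sign. -/
theorem eventually_sign (p : Polynomial ℚ) :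
    p = 0 ∨ (∃ N : ℕ, ∀ n, N ≤ n → p.eval (n : ℚ) < 0) ∨ ∃ N : ℕ, ∀ n, N ≤ n → 0 < p.eval (n : ℚ) := by
  by_cases hd : 0 < p.degree
  · rcases le_total p.leadingCoeff 0 with h | h
    · exact Or.inr (Or.inl (Filter.eventually_atTop.1 (((p.tendsto_atBot_of_leadingCoeff_nonpos hd h).comp
        tendsto_natCast_atTop_atTop).eventually (Filter.eventually_lt_atBot 0))))
    · exact Or.inr (Or.inr (Filter.eventually_atTop.1 (((p.tendsto_atTop_of_leadingCoeff_nonneg hd h).comp
        tendsto_natCast_atTop_atTop).eventually (Filter.eventually_gt_atTop 0))))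
  · rw [Polynomial.eq_C_of_degree_le_zero (not_lt.1 hd)]
    rcases lt_trichotomy (p.coeff 0) 0 with h | h | h
    · exact Or.inr (Or.inl ⟨0, fun n _ => by simpa using h⟩)
    · exact Or.inl (by simp [h])
    · exact Or.inr (Or.inr ⟨0, fun n _ => by simpa using h⟩)

/-- A sequence is the value sequence of a polynomial. -/
def IsPoly (P : ℕ → ℤ) : Prop := ∃ p : Polynomial ℚ, ∀ n : ℕ, (P n : ℚ) = p.eval (n : ℚ)

/-- The points at which the Hilbert function is eventually above `P` but not equal to it. -/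
def Above (P a : ℕ → ℤ) : Prop :=
  (∃ N, ∀ n, N ≤ n → P n ≤ a n) ∧ ¬ ∃ N, ∀ n, N ≤ n → a n = P n

theorem above_mono (P a b : ℕ → ℤ) (h : ∃ N, ∀ n, N ≤ n → a n ≤ b n) (ha : Above P a) : Above P b := by
  obtain ⟨⟨N₁, h₁⟩, h₂⟩ := ha
  obtain ⟨N, hN⟩ := h
  refine ⟨⟨N₁ + N, fun n hn => (h₁ n (by omega)).trans (hN n (by omega))⟩, fun ⟨N₂, h₃⟩ => h₂ ?_⟩
  exact ⟨N₁ + N + N₂, fun n hn =>
    le_antisymm ((hN n (by omega)).trans (h₃ n (by omega)).le) (h₁ n (by omega))⟩

theorem eq_or_lt_of_not_above {P a : ℕ → ℤ} (hP : IsPoly P) (ha : IsPoly a) (h : ¬ Above P a) :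
    a = P ∨ ∃ N : ℕ, ∀ n, N ≤ n → a n < P n := by
  obtain ⟨p, hp⟩ := hP
  obtain ⟨q, hq⟩ := ha
  rcases eventually_sign (q - p) with h0 | ⟨N, hN⟩ | ⟨N, hN⟩
  · exact Or.inl (funext fun n => by rw [← Int.cast_inj (α := ℚ), hq, hp, sub_eq_zero.1 h0])
  · refine Or.inr ⟨N, fun n hn => ?_⟩
    have := hN n hn
    rw [Polynomial.eval_sub, ← hq, ← hp, sub_neg] at this
    exact_mod_cast this
  · refine absurd ⟨⟨N, fun n hn => ?_⟩, fun ⟨N', hN'⟩ => ?_⟩ h
    · have := hN n hn
      rw [Polynomial.eval_sub, ← hq, ← hp, sub_pos] at this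
      exact le_of_lt (by exact_mod_cast this)
    · have := hN (N + N') (by omega)
      rw [Polynomial.eval_sub, ← hq, ← hp, hN' _ (by omega), sub_self] at this
      exact lt_irrefl _ this

theorem not_above_self (P : ℕ → ℤ) : ¬ Above P P := fun h => h.2 ⟨0, fun _ _ => rfl⟩

end Groth.Agent.H22Alg.HilbertFlat
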