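import Mathlib

/-! # Exact complexes of flat modules stay exact after tensoring, given exactness in high degrees. -/

set_option autoImplicit false

universe u

open scoped TensorProduct

noncomputable section

namespace Groth.Agent.H22Alg.FlatExact

variable {R : Type u} [CommRing R] {K : ℕ → Type u} [∀ p, AddCommGroup (K p)] [∀ p, Module R (K p)]
  [∀ p, Module.Flat R (K p)] (d : ∀ p, K p →ₗ[R] K (p + 1))

/-- Exactness in degree `p + 1` after tensoring with every module. -/
def UEx (p : ℕ) : Prop :=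
  ∀ (M : Type u) [AddCommGroup M] [Module R M],
    Function.Exact ((d p).rTensor M) ((d (p + 1)).rTensor M)

variable {d}

theorem rT_lT {M N : Type u} [AddCommGroup M] [Module R M] [AddCommGroup N] [Module R N]
    (g : M →ₗ[R] N) (p : ℕ) (z : K p ⊗[R] M) :
    (d p).rTensor N (g.lTensor _ z) = g.lTensor _ ((d p).rTensor M z) := by
  rw [← LinearMap.comp_apply, ← LinearMap.comp_apply, LinearMap.rTensor_comp_lTensor, LinearMap.lTensor_comp_rTensor]

theorem rT_d_d (hd : ∀ p, d (p + 1) ∘ₗ d p = 0) (M : Type u) [AddCommGroup M] [Module R M] (p : ℕ)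
    (z : K p ⊗[R] M) : (d (p + 1)).rTensor M ((d p).rTensor M z) = 0 := by
  rw [← LinearMap.comp_apply, ← LinearMap.rTensor_comp, hd, LinearMap.rTensor_zero, LinearMap.zero_apply]

theorem exists_lift (M : Type u) [AddCommGroup M] [Module R M] :
    ∃ (P : Type u) (_ : AddCommGroup P) (_ : Module R P) (_ : Module.Flat R P) (π : P →ₗ[R] M),
      Function.Surjective π :=
  ⟨M →₀ R, inferInstance, inferInstance, inferInstance, Finsupp.linearCombination R id,
    fun m => ⟨Finsupp.single m 1, by simp⟩⟩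

/-- Key step: a cycle lifts to a cycle along a surjection of coefficients. -/
theorem exists_free_cycle (hd : ∀ p, d (p + 1) ∘ₗ d p = 0) (p : ℕ) (h : UEx d p) {M : Type u}
    [AddCommGroup M] [Module R M] {P : Type u} [AddCommGroup P] [Module R P] {π : P →ₗ[R] M}
    (hπ : Function.Surjective π)
    (z : K p ⊗[R] M) (hz : (d p).rTensor M z = 0) :
    ∃ z' : K p ⊗[R] P, (d p).rTensor _ z' = 0 ∧ π.lTensor _ z' = z := by
  obtain ⟨z', rfl⟩ := LinearMap.lTensor_surjective (K p) hπ z
  rw [rT_lT] at hz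
  obtain ⟨w, hw⟩ := (lTensor_exact (K (p + 1)) (LinearMap.exact_subtype_ker_map π) hπ _).1 hz
  have hdw : (d (p + 1)).rTensor _ w = 0 := by
    apply Module.Flat.lTensor_preserves_injective_linearMap (M := K (p + 1 + 1)) (LinearMap.ker π).subtype
      Subtype.val_injective
    rw [map_zero, ← rT_lT, hw, rT_d_d hd]
  obtain ⟨v, hv⟩ := (h _ w).1 hdw
  refine ⟨z' - (LinearMap.ker π).subtype.lTensor _ v, ?_, ?_⟩
  · rw [map_sub, rT_lT, hv, hw, sub_self]
  · rw [map_sub, ← LinearMap.comp_apply (π.lTensor _), ← LinearMap.lTensor_comp,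
      LinearMap.comp_ker_subtype, LinearMap.lTensor_zero, LinearMap.zero_apply, sub_zero]

/-- Universal exactness in all positive degrees. -/
theorem uex_all (hd : ∀ p, d (p + 1) ∘ₗ d p = 0) (hex : ∀ p, Function.Exact (d p) (d (p + 1))) {N : ℕ}
    (hN : ∀ p, N ≤ p → UEx d p) (p : ℕ) : UEx d p := by
  suffices h : ∀ k p, N ≤ p + k → UEx d p from h N p (Nat.le_add_left _ _)
  intro k
  induction k with
  | zero => exact fun p hp => hN p hp
  | succ k ih =>
    intro p hp M _ _ z
    refine ⟨fun hz => ?_, fun ⟨v, hv⟩ => hv ▸ rT_d_d hd M p v⟩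
    obtain ⟨P, _, _, _, π, hπ⟩ := exists_lift (R := R) M
    obtain ⟨z', hz', rfl⟩ := exists_free_cycle hd (p + 1) (ih (p + 1) (by omega)) hπ z hz
    obtain ⟨v, rfl⟩ := (Module.Flat.rTensor_exact P (hex p) _).1 hz'
    exact ⟨π.lTensor _ v, rT_lT π p v⟩

/-- The cycles in degree zero tensored. -/
def cyc (d : ∀ p, K p →ₗ[R] K (p + 1)) (M : Type u) [AddCommGroup M] [Module R M] :
    LinearMap.ker (d 0) ⊗[R] M →ₗ[R] K 0 ⊗[R] M :=
  (LinearMap.ker (d 0)).subtype.rTensor M

theorem exact_cyc_free (P : Type u) [AddCommGroup P] [Module R P] [Module.Flat R P] :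
    Function.Exact (cyc d P) ((d 0).rTensor P) :=
  Module.Flat.rTensor_exact _ (LinearMap.exact_subtype_ker_map (d 0))

theorem exact_cyc (hd : ∀ p, d (p + 1) ∘ₗ d p = 0) (h : UEx d 0) (M : Type u) [AddCommGroup M] [Module R M] :
    Function.Exact (cyc d M) ((d 0).rTensor M) := by
  intro z
  refine ⟨fun hz => ?_, fun ⟨v, hv⟩ => hv ▸ ?_⟩
  · obtain ⟨P, _, _, _, π, hπ⟩ := exists_lift (R := R) M
    obtain ⟨z', hz', rfl⟩ := exists_free_cycle hd 0 h hπ z hz
    obtain ⟨v, rfl⟩ := (exact_cyc_free P z').1 hz'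
    refine ⟨π.lTensor _ v, ?_⟩
    rw [cyc, cyc, ← LinearMap.comp_apply, ← LinearMap.comp_apply, LinearMap.rTensor_comp_lTensor,
      LinearMap.lTensor_comp_rTensor]
  · rw [cyc, ← LinearMap.comp_apply, ← LinearMap.rTensor_comp, LinearMap.comp_ker_subtype,
      LinearMap.rTensor_zero, LinearMap.zero_apply]

theorem cyc_lTensor {M N : Type u} [AddCommGroup M] [Module R M] [AddCommGroup N] [Module R N]
    (g : M →ₗ[R] N) (z : LinearMap.ker (d 0) ⊗[R] M) : cyc d N (g.lTensor _ z) = g.lTensor _ (cyc d M z) := by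
  rw [cyc, cyc, ← LinearMap.comp_apply, ← LinearMap.comp_apply, LinearMap.rTensor_comp_lTensor,
    LinearMap.lTensor_comp_rTensor]

theorem injective_cyc (hd : ∀ p, d (p + 1) ∘ₗ d p = 0) (h : UEx d 0) (M : Type u) [AddCommGroup M]
    [Module R M] : Function.Injective (cyc d M) := by
  rw [injective_iff_map_eq_zero]
  intro x hx
  obtain ⟨P, _, _, _, π, hπ⟩ := exists_lift (R := R) M
  obtain ⟨x', rfl⟩ := LinearMap.lTensor_surjective (LinearMap.ker (d 0)) hπ x
  rw [cyc_lTensor] at hx
  obtain ⟨v, hv⟩ := (lTensor_exact (K 0) (LinearMap.exact_subtype_ker_map π) hπ _).1 hx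
  have hdv : (d 0).rTensor _ v = 0 := by
    apply Module.Flat.lTensor_preserves_injective_linearMap (M := K (0 + 1)) (LinearMap.ker π).subtype
      Subtype.val_injective
    rw [map_zero, ← rT_lT, hv]
    exact (exact_cyc hd h _ _).2 ⟨x', rfl⟩
  obtain ⟨y, rfl⟩ := (exact_cyc hd h _ v).1 hdv
  rw [← cyc_lTensor] at hv
  have hxy : x' = (LinearMap.ker π).subtype.lTensor _ y :=
    Module.Flat.rTensor_preserves_injective_linearMap (M := P) (LinearMap.ker (d 0)).subtype
      Subtype.val_injective hv.symm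
  rw [hxy, ← LinearMap.comp_apply (π.lTensor _), ← LinearMap.lTensor_comp, LinearMap.comp_ker_subtype,
    LinearMap.lTensor_zero, LinearMap.zero_apply]

end Groth.Agent.H22Alg.FlatExact
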