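import Groth.Agent.H22Alg.HilbertSemicont
import Groth.Agent.LeadBC.Amplitude
import Groth.Agent.LeadBC.Basic
import Groth.Agent.H16Derived.KFlat.FinLocFree
import Groth.Agent.H10Coh.BaseChange
import Groth.Agent.S0051
import Groth.Agent.S14444

/-! # Uniform vanishing on the fibres, and flatness via direct images of twists. -/

set_option autoImplicit false
set_option linter.style.haveILetI false
set_option linter.unusedSectionVars false

universe u

open CategoryTheory CategoryTheory.Limits AlgebraicGeometry Opposite TopologicalSpace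

noncomputable section

namespace Groth.Agent.H22Alg.HilbertFlat

open Groth.Agent.H10Coh Groth.Agent.H11Ample
open Groth.Agent.H25Theta (pb pT pC pI tI pO)

attribute [local instance 10000] H10Coh.hasSheafifyAb H10Coh.hasWeakSheafifyAb H10Coh.hasExtAb H10Coh.enoughInjAb

/-- For a flat family, vanishing of the higher cohomology gives vanishing on the fibres. -/
theorem subsingleton_fiberH_of_HH {A : Type u} [CommRing A] [IsNoetherianRing A] {X : Scheme.{u}}
    [X.Over (Spec (CommRingCat.of A))] [IsProper (X ↘ Spec (CommRingCat.of A))] (F : X.Modules)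
    (hF : Coh.IsCoh F) (hfl : FlatMod.IsFlatOver (X ↘ Spec (CommRingCat.of A)) F)
    (h : ∀ p : ℕ, 0 < p → Subsingleton (Coh.HH X F p)) (y : Spec (CommRingCat.of A)) {p : ℕ} (hp : 0 < p) :
    Subsingleton (CohIII.fiberH (X ↘ Spec (CommRingCat.of A)) F y p) := by
  obtain ⟨ι, hι, U, hU, ⟨m⟩⟩ := LeadBC.exists_model A F hF hfl
  haveI := hι
  haveI : F.IsQuasicoherent := hF.1
  obtain ⟨K, -, hK, -, hT⟩ := m.exists_amplitude hU 0 0 h (fun y q hq => absurd hq (Nat.not_lt_zero q))
  obtain ⟨e⟩ := hT (p : ℤ) (ModuleCat.of A (LeadBC.resK y))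
  haveI : Subsingleton (CohIII.T K (p : ℤ) (ModuleCat.of A (LeadBC.resK y))) := by
    refine ModuleCat.subsingleton_of_isZero ?_
    refine HomologicalComplex.ExactAt.isZero_homology (ShortComplex.exact_of_isZero_X₂ _ ?_)
    exact Functor.map_isZero (MonoidalCategory.tensorRight (ModuleCat.of A (LeadBC.resK y))) (hK _ (Or.inr (show ((0 : ℕ) : ℤ) < (p : ℤ) from Nat.cast_lt.2 hp)))
  exact (m.subsingleton_fiberH_iff hU y p).2 e.toEquiv.subsingleton

/-- Vanishing of the cohomology of fibres is unchanged by base change. -/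
theorem subsingleton_fiberH_baseChange {X S X' S' : Scheme.{u}} {f : X ⟶ S} {g : S' ⟶ S} {g' : X' ⟶ X}
    {f' : X' ⟶ S'} (h : IsPullback g' f' f g) [IsProper f] {G : X.Modules} (hG : Coh.IsCoh G) {G' : X'.Modules}
    (e : G' ≅ pb g' G) (s' : S') (p : ℕ) :
    Subsingleton (CohIII.fiberH f' G' s' p) ↔ Subsingleton (CohIII.fiberH f G (g s') p) := by
  haveI : IsProper f' := MorphismProperty.of_isPullback h inferInstance
  letI : Algebra (S.residueField (g s')) (S'.residueField s') := (g.residueFieldMap s').hom.toAlgebra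
  letI : (f.fiber (g s')).Over (Spec (CommRingCat.of (S.residueField (g s')))) := ⟨f.fiberToSpecResidueField (g s')⟩
  letI : (f'.fiber s').Over (Spec (CommRingCat.of (S'.residueField s'))) := ⟨f'.fiberToSpecResidueField s'⟩
  haveI : IsProper (f.fiber (g s') ↘ Spec (CommRingCat.of (S.residueField (g s')))) :=
    MorphismProperty.of_isPullback (IsPullback.of_hasPullback f (S.fromSpecResidueField (g s'))) inferInstance
  haveI : IsProper (f'.fiber s' ↘ Spec (CommRingCat.of (S'.residueField s'))) :=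
    MorphismProperty.of_isPullback (IsPullback.of_hasPullback f' (S'.fromSpecResidueField s')) inferInstance
  have hcond : (f'.fiberι s' ≫ g') ≫ f = (f'.fiberToSpecResidueField s' ≫ Spec.map (g.residueFieldMap s')) ≫
      S.fromSpecResidueField (g s') := by
    rw [Category.assoc, h.w, ← Category.assoc, f'.fiber_fac s', Category.assoc, Category.assoc,
      Scheme.Hom.SpecMap_residueFieldMap_fromSpecResidueField]
  let q : f'.fiber s' ⟶ f.fiber (g s') := pullback.lift (f'.fiberι s' ≫ g')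
    (f'.fiberToSpecResidueField s' ≫ Spec.map (g.residueFieldMap s')) hcond
  have hq : q ≫ f.fiberι (g s') = f'.fiberι s' ≫ g' := pullback.lift_fst _ _ _
  have hsq : IsPullback q (f'.fiber s' ↘ Spec (CommRingCat.of (S'.residueField s')))
      (f.fiber (g s') ↘ Spec (CommRingCat.of (S.residueField (g s'))))
      (Spec.map (CommRingCat.ofHom (algebraMap (S.residueField (g s')) (S'.residueField s')))) := by
    refine IsPullback.of_right ?_ (pullback.lift_snd _ _ _)
      (IsPullback.of_hasPullback f (S.fromSpecResidueField (g s')))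
    show IsPullback (q ≫ f.fiberι (g s')) _ f (Spec.map (g.residueFieldMap s') ≫ S.fromSpecResidueField (g s'))
    rw [hq, Scheme.Hom.SpecMap_residueFieldMap_fromSpecResidueField]
    exact (IsPullback.of_hasPullback f' (S'.fromSpecResidueField s')).paste_horiz h
  have hGf := H17.ConsProp.isCoh_pullback (f.fiberι (g s')) hG
  have key := H28Int.FieldExt.finrank_HH_bc (S'.residueField s') hsq hGf p
  let E : CohIII.fiberMod f' G' s' ≅ pb q (pb (f.fiberι (g s')) G) :=
    (Scheme.Modules.pullback _).mapIso e ≪≫ pC (f'.fiberι s') g' hq.symm G ≪≫ (pC q (f.fiberι (g s')) rfl G).symm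
  haveI := H10Coh.finite_HH_proper (S.residueField (g s')) (f.fiber (g s')) _ hGf p
  haveI := H10Coh.finite_HH_proper (S'.residueField s') (f'.fiber s') _ (H17.ConsProp.isCoh_pullback q hGf) p
  refine (((LeadBC.HMod (S'.residueField s') (X := f'.fiber s') p).mapIso E).toLinearEquiv.toEquiv.subsingleton_congr).trans ?_
  show Subsingleton (Coh.HH (f'.fiber s') _ p) ↔ Subsingleton (Coh.HH (f.fiber (g s')) _ p)
  rw [← Module.finrank_zero_iff (R := S'.residueField s'), ← Module.finrank_zero_iff (R := S.residueField (g s')), key]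

/-- A common bound for finitely many eventual properties. -/
theorem exists_bound {α : Type*} [Finite α] (P : α → ℕ → Prop) (h : ∀ a, ∃ N, ∀ n, N ≤ n → P a n) :
    ∃ N, ∀ a n, N ≤ n → P a n := by
  choose N hN using h
  haveI := Fintype.ofFinite α
  exact ⟨Finset.univ.sup N, fun a n hn => hN a n ((Finset.le_sup (Finset.mem_univ a)).trans hn)⟩

/-- Uniform vanishing on the fibres over a Noetherian affine flat family. -/
theorem exists_vanishing_flat {A : Type u} [CommRing A] [IsNoetherianRing A] {X : Scheme.{u}}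
    (f : X ⟶ Spec (CommRingCat.of A)) [IsProper f] {L : X.Modules} (hA : CohB1.IsAmple L)
    (F : X.Modules) (hF : CohB1.IsFP F) (hfl : FlatMod.IsFlatOver f F) :
    ∃ N : ℕ, ∀ n, N ≤ n → ∀ (y : Spec (CommRingCat.of A)) (p : ℕ), 0 < p →
      Subsingleton (CohIII.fiberH f (CohB1.tensorMod F (CohB1.tensorPow L n)) y p) := by
  letI : X.Over (Spec (CommRingCat.of A)) := ⟨f⟩
  haveI : IsProper (X ↘ Spec (CommRingCat.of A)) := ‹IsProper f›
  have hL : PicF.IsInvertible L := (isAmple_iff.1 hA).1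
  obtain ⟨N, hN⟩ := (Groth.Agent.S0051.result A X f L hL).1 hA F (H17.ConsProp.isCoh_of_isFP hF)
  exact ⟨N, fun n hn y p hp => subsingleton_fiberH_of_HH _ (H17.ConsProp.isCoh_of_isFP (isFP_tensorPow hF hL n))
    (fun x => H12Pic.AlgEquivEuler.isFlatOverAt_tensor f (isInvertible_tensorPow hL n) (hfl x)) (hN n hn) y hp⟩

/-- Uniform vanishing on the fibres of a proper family. -/
theorem exists_uniform_vanishing {X S : Scheme.{u}} [CompactSpace S] (f : X ⟶ S) [IsProper f]
    [LocallyOfFinitePresentation f] {L : X.Modules} (hL : RelAmple.IsRelAmple f L) {F : X.Modules}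
    (hF : CohB1.IsFP F) :
    ∃ N : ℕ, ∀ n, N ≤ n → ∀ (s : S) (p : ℕ), 0 < p →
      Subsingleton (CohIII.fiberH f (CohB1.tensorMod F (CohB1.tensorPow L n)) s p) := by
  have hLi := isInvertible_of_isRelAmple hL
  have key : ∀ {X₁ S₁ : Scheme.{u}} {g : S₁ ⟶ S} {g' : X₁ ⟶ X} {f₁ : X₁ ⟶ S₁} (_ : IsPullback g' f₁ f g) (n : ℕ)
      (z : S₁) (p : ℕ),
      Subsingleton (CohIII.fiberH f₁ (CohB1.tensorMod (pb g' F) (CohB1.tensorPow (pb g' L) n)) z p) ↔
        Subsingleton (CohIII.fiberH f (CohB1.tensorMod F (CohB1.tensorPow L n)) (g z) p) := fun {X₁ S₁ g g' f₁} h n z p => by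
    obtain ⟨e⟩ := exists_iso_pullback_tensorPow g' hLi n
    exact subsingleton_fiberH_baseChange h (H17.ConsProp.isCoh_of_isFP (isFP_tensorPow hF hLi n))
      (tI (Iso.refl _) e.symm ≪≫ (pT _ _ _).symm) z p
  have hloc : ∀ V : S.affineOpens, ∃ N : ℕ, ∀ n, N ≤ n → ∀ z : V.1, ∀ p : ℕ, 0 < p →
      Subsingleton (CohIII.fiberH f (CohB1.tensorMod F (CohB1.tensorPow L n)) z.1 p) := by
    intro V
    let u := V.2.fromSpec
    let f₁ := pullback.snd f u
    let L₁ := pb (pullback.fst f u) L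
    let F₁ := pb (pullback.fst f u) F
    have hA₁ : RelAmple.IsRelAmple f₁ L₁ := isRelAmple_baseChange f u hL
    have hF₁ : CohB1.IsFP F₁ := H06EGA9.isFP_pullback _ hF
    obtain ⟨R₀, _, _, _, X₀, f₀, L₀, F₀, g, _, hL₀, hA₀, hF₀, hsq, ⟨eL⟩, ⟨eF⟩⟩ :=
      AmpleModel.exists_ample_model f₁ L₁ (isInvertible_of_isRelAmple hA₁)
        ((isRelAmple_iff_isAmple_of_isAffine (f := f₁) (L := L₁)).1 hA₁) F₁ hF₁
    haveI : LocallyOfFinitePresentation f₀ := LocallyOfFinitePresentation.iff_locallyOfFiniteType.2 inferInstance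
    have hR₀ : RelAmple.IsRelAmple f₀ L₀ := (isRelAmple_iff_isAmple_of_isAffine (f := f₀) (L := L₀)).2 hA₀
    obtain ⟨t, T, γ, hT, -, hft, hfl, hcov⟩ := exists_flat_strata f₀ F₀ hF₀
    have key₀ : ∀ {X₂ S₂ : Scheme.{u}} {b : S₂ ⟶ Spec (CommRingCat.of R₀)} {b' : X₂ ⟶ X₀} {f₂ : X₂ ⟶ S₂}
        (_ : IsPullback b' f₂ f₀ b) (n : ℕ) {F₂ L₂ : X₂.Modules} (_ : F₂ ≅ pb b' F₀) (_ : L₂ ≅ pb b' L₀)
        (z : S₂) (p : ℕ),
        Subsingleton (CohIII.fiberH f₂ (CohB1.tensorMod F₂ (CohB1.tensorPow L₂ n)) z p) ↔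
          Subsingleton (CohIII.fiberH f₀ (CohB1.tensorMod F₀ (CohB1.tensorPow L₀ n)) (b z) p) :=
      fun {X₂ S₂ b b' f₂} h n {F₂ L₂} e₁ e₂ z p => by
        obtain ⟨e⟩ := exists_iso_pullback_tensorPow b' hL₀ n
        obtain ⟨e'⟩ := nonempty_tensorPow_congr e₂ n
        exact subsingleton_fiberH_baseChange h (H17.ConsProp.isCoh_of_isFP (isFP_tensorPow hF₀ hL₀ n))
          (tI e₁ e' ≪≫ tI (Iso.refl _) e.symm ≪≫ (pT _ _ _).symm) z p
    have hstr : ∀ k : Fin t, ∃ N : ℕ, ∀ n, N ≤ n → ∀ y : T k, ∀ p : ℕ, 0 < p →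
        Subsingleton (CohIII.fiberH f₀ (CohB1.tensorMod F₀ (CohB1.tensorPow L₀ n)) (γ k y) p) := by
      intro k
      haveI := hT k
      haveI := hft k
      haveI : IsLocallyNoetherian (T k) := LocallyOfFiniteType.isLocallyNoetherian (γ k)
      let 𝒰 := (T k).affineCover.finiteSubcover
      have h𝒰 : ∀ a, ∃ N : ℕ, ∀ n, N ≤ n → ∀ y : 𝒰.X a, ∀ p : ℕ, 0 < p →
          Subsingleton (CohIII.fiberH f₀ (CohB1.tensorMod F₀ (CohB1.tensorPow L₀ n)) (γ k (𝒰.f a y)) p) := by
        intro a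
        haveI : IsAffine (𝒰.X a) := inferInstanceAs (IsAffine ((T k).affineCover.X _))
        haveI : IsLocallyNoetherian (𝒰.X a) := isLocallyNoetherian_of_isOpenImmersion (𝒰.f a)
        let i : Spec Γ(𝒰.X a, ⊤) ⟶ T k := (𝒰.X a).isoSpec.inv ≫ 𝒰.f a
        haveI : IsLocallyNoetherian (Spec Γ(𝒰.X a, ⊤)) := isLocallyNoetherian_of_isOpenImmersion (𝒰.X a).isoSpec.inv
        haveI hnoe : IsNoetherianRing Γ(𝒰.X a, ⊤) :=
          IsLocallyNoetherian.component_noetherian ⟨⊤, isAffineOpen_top (𝒰.X a)⟩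
        let F₂ := pb (pullback.fst f₀ (γ k)) F₀
        let f₂ := pullback.snd f₀ (γ k)
        let F₃ := pb (pullback.fst f₂ i) F₂
        let L₃ := pb (pullback.fst f₂ i) (pb (pullback.fst f₀ (γ k)) L₀)
        have hA₃ : RelAmple.IsRelAmple (pullback.snd f₂ i) L₃ := isRelAmple_baseChange f₂ i (isRelAmple_baseChange f₀ (γ k) hR₀)
        obtain ⟨N, hN⟩ := @exists_vanishing_flat _ _ hnoe _ (pullback.snd f₂ i) inferInstance _
          ((isRelAmple_iff_isAmple_of_isAffine (f := pullback.snd f₂ i) (L := L₃)).1 hA₃) F₃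
          (H06EGA9.isFP_pullback _ (H06EGA9.isFP_pullback _ hF₀))
          (fun x => H06EGA9.isFlatOverAt_of_isPullback (IsPullback.of_hasPullback f₂ i) F₂ x (hfl k _))
        refine ⟨N, fun n hn y p hp => ?_⟩
        have := (key₀ ((IsPullback.of_hasPullback f₂ i).paste_horiz (IsPullback.of_hasPullback f₀ (γ k))) n
          (F₂ := F₃) (L₂ := L₃) (pC _ _ rfl F₀) (pC _ _ rfl L₀) ((𝒰.X a).isoSpec.hom y) p).1
            (hN n hn _ p hp)
        have hi : i ((𝒰.X a).isoSpec.hom y) = 𝒰.f a y := by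
          rw [← Scheme.Hom.comp_apply, Iso.hom_inv_id_assoc]
        rw [Scheme.Hom.comp_apply, hi] at this
        exact this
      obtain ⟨N, hN⟩ := exists_bound _ h𝒰
      refine ⟨N, fun n hn y p hp => ?_⟩
      obtain ⟨y', hy'⟩ := 𝒰.covers y
      rw [← hy']
      exact hN _ n hn y' p hp
    obtain ⟨N, hN⟩ := exists_bound _ hstr
    refine ⟨N, fun n hn z p hp => ?_⟩
    obtain ⟨w, hw⟩ : z.1 ∈ Set.range u := by rw [V.2.range_fromSpec]; exact z.2
    obtain ⟨k, y, hy⟩ := hcov (Spec.map (CommRingCat.ofHom (algebraMap R₀ Γ(S, V.1))) w)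
    rw [← hw]
    refine (key (IsPullback.of_hasPullback f u) n w p).1 ((key₀ hsq n eF.symm eL.symm w p).2 ?_)
    rw [← hy]
    exact hN k n hn y p hp
  obtain ⟨us, hus⟩ := isCompact_univ.elim_finite_subcover (fun U : S.affineOpens => (U.1 : Set S))
    (fun U => U.1.2) (fun x _ => by
      obtain ⟨V, hV, hx, -⟩ := exists_isAffineOpen_mem_and_subset (U := (⊤ : S.Opens)) (x := x) trivial
      exact Set.mem_iUnion.mpr ⟨⟨V, hV⟩, hx⟩)
  obtain ⟨N, hN⟩ := exists_bound _ fun V : us => hloc V.1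
  refine ⟨N, fun n hn s p hp => ?_⟩
  obtain ⟨U, hU, hsU⟩ := Set.mem_iUnion₂.1 (hus (Set.mem_univ s))
  exact hN ⟨U, hU⟩ n hn ⟨s, hsU⟩ p hp

/-- The direct images of high twists of a flat family are finite locally free. -/
theorem exists_push_finLocFree {X S : Scheme.{u}} [CompactSpace S] (f : X ⟶ S) [IsProper f]
    [LocallyOfFinitePresentation f] {L : X.Modules} (hL : RelAmple.IsRelAmple f L) {F : X.Modules}
    (hF : CohB1.IsFP F) (hfl : FlatMod.IsFlatOver f F) :
    ∃ N : ℕ, ∀ n : ℕ, N ≤ n →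
      FlatMod.IsFinLocFree ((Coh.push f).obj (CohB1.tensorMod F (CohB1.tensorPow L n))) := by
  have hLi := isInvertible_of_isRelAmple hL
  obtain ⟨N, hN⟩ := exists_uniform_vanishing f hL hF
  refine ⟨N, fun n hn => ?_⟩
  have hFn := isFP_tensorPow hF hLi n
  haveI : Coh.IsQCoh (CohB1.tensorMod F (CohB1.tensorPow L n)) := H29Fitt.isQCoh_of_isFP _ hFn
  exact (Groth.Agent.S14444.result f _ hFn
    (fun x => H12Pic.AlgEquivEuler.isFlatOverAt_tensor f (isInvertible_tensorPow hLi n) (hfl x))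
    (fun v => hN n hn v 1 Nat.one_pos)).1

/-- Finite locally free direct images of all high twists give flatness. -/
theorem isFlatOver_of_push_finLocFree {X S : Scheme.{u}} (f : X ⟶ S) [IsProper f]
    [LocallyOfFinitePresentation f] {L : X.Modules} (hL : RelAmple.IsRelAmple f L) {F : X.Modules}
    (hF : CohB1.IsFP F) (N : ℕ)
    (h : ∀ n : ℕ, N ≤ n → FlatMod.IsFinLocFree ((Coh.push f).obj (CohB1.tensorMod F (CohB1.tensorPow L n)))) :
    FlatMod.IsFlatOver f F := by
  have hLi := isInvertible_of_isRelAmple hL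
  intro x
  obtain ⟨V, hV, hxV, -⟩ := exists_isAffineOpen_mem_and_subset (U := (⊤ : S.Opens)) (x := f x) trivial
  let A : Type u := Γ(S, V)
  let u : Spec (CommRingCat.of A) ⟶ S := hV.fromSpec
  let X₁ := pullback f u
  letI : X₁.Over (Spec (CommRingCat.of A)) := ⟨pullback.snd f u⟩
  haveI : IsProper (X₁ ↘ Spec (CommRingCat.of A)) := inferInstanceAs (IsProper (pullback.snd f u))
  let L₁ := pb (pullback.fst f u) L
  let F₁ := pb (pullback.fst f u) F
  have hA : CohB1.IsAmple L₁ := (isRelAmple_iff_isAmple_of_isAffine (f := pullback.snd f u) (L := L₁)).1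
    (isRelAmple_baseChange f u hL)
  have hflat : ∀ n, N ≤ n → Module.Flat A (Coh.HH X₁ (CohB1.tensorMod F₁ (CohB1.tensorPow L₁ n)) 0) := by
    intro n hn
    obtain ⟨e⟩ := exists_iso_pullback_tensorPow (pullback.fst f u) hLi n
    let G₁ := CohB1.tensorMod F₁ (CohB1.tensorPow L₁ n)
    have hlf : FlatMod.IsFinLocFree ((Scheme.Modules.pushforward (pullback.snd f u)).obj G₁) :=
      H7Lim.ModLocFree.isFinLocFree_of_iso
        ((Scheme.Modules.restrictFunctorIsoPullback u).symm.app _ ≪≫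
          H10Coh.pushRestrictIso (IsPullback.of_hasPullback f u).flip _ ≪≫
          (Scheme.Modules.pushforward _).mapIso
            ((Scheme.Modules.restrictFunctorIsoPullback (pullback.fst f u)).app _ ≪≫ pT _ _ _ ≪≫ tI (Iso.refl _) e))
        (H16Derived.KFlat.Stalk.isFinLocFree_pullback u (h n hn))
    have hp := (H8Props.FinLocFree.finite_projective_sections _ hlf (isAffineOpen_top _)).2
    let σ := (Scheme.ΓSpecIso (CommRingCat.of A)).commRingCatIsoToRingEquiv
    letI : Algebra A Γ(Spec (CommRingCat.of A), ⊤) := σ.symm.toRingHom.toAlgebra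
    letI : Module A Γ((Scheme.Modules.pushforward (pullback.snd f u)).obj G₁, ⊤) :=
      Module.compHom _ σ.symm.toRingHom
    haveI : IsScalarTower A Γ(Spec (CommRingCat.of A), ⊤) Γ((Scheme.Modules.pushforward (pullback.snd f u)).obj G₁, ⊤) :=
      .of_algebraMap_smul fun _ _ => rfl
    haveI : Module.Flat A Γ(Spec (CommRingCat.of A), ⊤) :=
      Module.Flat.of_linearEquiv (AlgEquiv.ofRingEquiv (f := σ.symm) (fun _ => rfl) :
        A ≃ₐ[A] Γ(Spec (CommRingCat.of A), ⊤)).toLinearEquiv.symm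
    haveI : Module.Flat A Γ((Scheme.Modules.pushforward (pullback.snd f u)).obj G₁, ⊤) :=
      haveI := hp
      Module.Flat.trans A Γ(Spec (CommRingCat.of A), ⊤) _
    refine Module.Flat.of_linearEquiv ((TwistFibre.hh0Lin G₁).trans
      ({ toFun := fun z => z, invFun := fun z => z, left_inv := fun _ => rfl, right_inv := fun _ => rfl,
         map_add' := fun _ _ => rfl, map_smul' := fun c z => ?_ } :
        LeadBC.sec A G₁ ⊤ ≃ₗ[A] Γ((Scheme.Modules.pushforward (pullback.snd f u)).obj G₁, ⊤)))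
    show LeadBC.sc A (⊤ : X₁.Opens) c • (show Γ(G₁, (⊤ : X₁.Opens)) from z) =
      (show Γ(X₁, (⊤ : X₁.Opens)) from (pullback.snd f u).app ⊤ (σ.symm c)) • (show Γ(G₁, (⊤ : X₁.Opens)) from z)
    refine congrArg (· • (show Γ(G₁, (⊤ : X₁.Opens)) from z)) ?_
    exact congr($((Scheme.Hom.app_eq_appLE (pullback.snd f u) (U := ⊤)).symm) (σ.symm c))
  have hfl₁ := isFlatOver_of_flat_HH hA F₁ (H29Fitt.isQCoh_of_isFP _ (H06EGA9.isFP_pullback _ hF)) N hflat
  obtain ⟨z, hz⟩ : f x ∈ Set.range u := by rw [hV.range_fromSpec]; exact hxV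
  obtain ⟨x₁, hx₁, -⟩ := Scheme.Pullback.exists_preimage_pullback (f := f) (g := u) x z hz.symm
  have := H7Flat.isFlatOverAt_of_isPullback_flatAt f u (IsPullback.of_hasPullback f u) F x₁
    (Flat.stalkMap u _) (hfl₁ x₁)
  rwa [hx₁] at this

end Groth.Agent.H22Alg.HilbertFlat
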