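import Groth.Agent.H22Alg.SectBC
import Groth.Agent.H22Alg.FittRank
import Groth.Agent.H22Alg.HilbertPush

/-! # The ideal of a flattening stratum over a Noetherian affine base. -/

set_option autoImplicit false
set_option linter.style.haveILetI false
set_option linter.unusedSectionVars false

universe u

open CategoryTheory CategoryTheory.Limits AlgebraicGeometry Opposite TopologicalSpace
open scoped TensorProduct

noncomputable section

namespace Groth.Agent.H22Alg.HilbertFlat

open Groth.Agent.LeadBC Groth.Agent.H10Coh Groth.Agent.H11Ample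
open Groth.Agent.H25Theta (pb pT pC pI tI pO)

attribute [local instance 10000] H10Coh.hasSheafifyAb H10Coh.hasWeakSheafifyAb H10Coh.hasExtAb H10Coh.enoughInjAb

attribute [local instance] LeadBC.algebraResK

/-- The stratum condition on a base change. -/
def Cond {X S : Scheme.{u}} (f : X ⟶ S) (L F : X.Modules) (P : ℕ → ℤ) {T : Scheme.{u}} (g : T ⟶ S) : Prop :=
  FlatMod.IsFlatOver (pullback.snd f g) (pb (pullback.fst f g) F) ∧ ∀ t : T, hilb f L F (g t) = P

theorem flat_pullback_comp {X S T T' : Scheme.{u}} (f : X ⟶ S) (F : X.Modules) (g : T ⟶ S) (h : T' ⟶ T)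
    (hfl : FlatMod.IsFlatOver (pullback.snd f g) (pb (pullback.fst f g) F)) :
    FlatMod.IsFlatOver (pullback.snd f (h ≫ g)) (pb (pullback.fst f (h ≫ g)) F) := by
  let q : pullback f (h ≫ g) ⟶ pullback f g := pullback.lift (pullback.fst f (h ≫ g)) (pullback.snd f (h ≫ g) ≫ h)
    (by rw [pullback.condition, Category.assoc])
  have hq : q ≫ pullback.fst f g = pullback.fst f (h ≫ g) := pullback.lift_fst _ _ _
  have hsq : IsPullback q (pullback.snd f (h ≫ g)) (pullback.snd f g) h := by
    refine IsPullback.of_right ?_ (pullback.lift_snd _ _ _) (IsPullback.of_hasPullback f g)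
    rw [hq]
    exact IsPullback.of_hasPullback f (h ≫ g)
  intro x
  exact (H06EGA9.isFlatOverAt_congr_iso _ (pC q (pullback.fst f g) hq F) x).1
    (H06EGA9.isFlatOverAt_of_isPullback hsq _ x (hfl _))

theorem isFlatOver_congr_iso {X S : Scheme.{u}} (f : X ⟶ S) {F G : X.Modules} (e : F ≅ G)
    (h : FlatMod.IsFlatOver f F) : FlatMod.IsFlatOver f G :=
  fun x => (H06EGA9.isFlatOverAt_congr_iso _ e x).1 (h x)

theorem isQuasicoherent_twist {X : Scheme.{u}} {L F : X.Modules} (hL : PicF.IsInvertible L) (hF : CohB1.IsFP F)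
    (n : ℕ) : (CohB1.tensorMod F (CohB1.tensorPow L n)).IsQuasicoherent :=
  H29Fitt.isQCoh_of_isFP _ (isFP_tensorPow hF hL n)

variable {A : Type u} [CommRing A] {X : Scheme.{u}} [X.Over (Spec (CommRingCat.of A))]

/-- Fibre dimension through the residue field of the scheme. -/
theorem fibDim_eq_finrank_resK (M : Type u) [AddCommGroup M] [Module A M] (y : Spec (CommRingCat.of A)) :
    H06FlatCx.fibDim M (primeOf y) = Module.finrank (resK y) (resK y ⊗[A] M) := by
  let K := (primeOf y).asIdeal.ResidueField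
  letI : Algebra K (resK y) := (kToResK y).toAlgebra
  haveI : IsScalarTower A K (resK y) := .of_algebraMap_eq fun _ => rfl
  rw [← (TensorProduct.AlgebraTensorModule.cancelBaseChange A K (resK y) (resK y) M).finrank_eq]
  exact Module.finrank_baseChange.symm

/-- The Hilbert function through the sections of the fibre. -/
theorem hilb_eq_finrank [IsProper (X ↘ Spec (CommRingCat.of A))] (L F : X.Modules) (n : ℕ)
    (y : Spec (CommRingCat.of A))
    (hv : ∀ p : ℕ, 0 < p →
      Subsingleton (CohIII.fiberH (X ↘ Spec (CommRingCat.of A)) (CohB1.tensorMod F (CohB1.tensorPow L n)) y p)) :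
    letI : ((X ↘ Spec (CommRingCat.of A)).fiber y).Over (Spec (CommRingCat.of (resK y))) :=
      ⟨(X ↘ Spec (CommRingCat.of A)).fiberToSpecResidueField y⟩
    hilb (X ↘ Spec (CommRingCat.of A)) L F y n =
      (Module.finrank (resK y) (sec (resK y) (qF ((X ↘ Spec (CommRingCat.of A)).fiberι y)
        (CohB1.tensorMod F (CohB1.tensorPow L n))) (⊤ : ((X ↘ Spec (CommRingCat.of A)).fiber y).Opens)) : ℤ) := by
  letI : ((X ↘ Spec (CommRingCat.of A)).fiber y).Over (Spec (CommRingCat.of (resK y))) :=
    ⟨(X ↘ Spec (CommRingCat.of A)).fiberToSpecResidueField y⟩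
  haveI : IsProper (((X ↘ Spec (CommRingCat.of A)).fiber y) ↘ Spec (CommRingCat.of (resK y))) :=
    MorphismProperty.of_isPullback (LeadBC.fiber_isPullback (A := A) (X := X) y) inferInstance
  show fibEuler _ _ y = _
  rw [fibEuler, H25Euler.euler_eq_sum _ 1 fun p hp => hv p (by omega)]
  rw [Finset.sum_range_one, pow_zero, one_mul, Nat.cast_inj]
  exact (TwistFibre.hh0Lin _).finrank_eq

theorem finite_sec [IsNoetherianRing A] [IsProper (X ↘ Spec (CommRingCat.of A))] (G : X.Modules) (hG : Coh.IsCoh G) :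
    Module.Finite A (sec A G ⊤) := by
  haveI := H10Coh.finite_HH_proper A X G hG 0
  exact Module.Finite.equiv (TwistFibre.hh0Lin G)

/-- Uniformly in the point, the base change map to the fibres is bijective for high twists. -/
theorem exists_uniform_bij [IsNoetherianRing A] [IsProper (X ↘ Spec (CommRingCat.of A))] {L : X.Modules}
    (hA : CohB1.IsAmple L) {F : X.Modules} (hF : CohB1.IsFP F) :
    ∃ N : ℕ, ∀ n, N ≤ n →
      (∀ (y : Spec (CommRingCat.of A)) (p : ℕ), 0 < p →
        Subsingleton (CohIII.fiberH (X ↘ Spec (CommRingCat.of A)) (CohB1.tensorMod F (CohB1.tensorPow L n)) y p)) ∧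
      (∀ [(CohB1.tensorMod F (CohB1.tensorPow L n)).IsQuasicoherent] (y : Spec (CommRingCat.of A)),
        letI : ((X ↘ Spec (CommRingCat.of A)).fiber y).Over (Spec (CommRingCat.of (resK y))) :=
          ⟨(X ↘ Spec (CommRingCat.of A)).fiberToSpecResidueField y⟩
        SectBC.Bij (LeadBC.fiber_isPullback (A := A) (X := X) y) (CohB1.tensorMod F (CohB1.tensorPow L n))) ∧
      ∀ y : Spec (CommRingCat.of A),
        (H06FlatCx.fibDim (sec A (CohB1.tensorMod F (CohB1.tensorPow L n)) ⊤) (primeOf y) : ℤ) =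
          hilb (X ↘ Spec (CommRingCat.of A)) L F y n := by
  let f : X ⟶ Spec (CommRingCat.of A) := X ↘ Spec (CommRingCat.of A)
  haveI : IsProper f := ‹IsProper (X ↘ Spec (CommRingCat.of A))›
  haveI : LocallyOfFinitePresentation f := LocallyOfFinitePresentation.iff_locallyOfFiniteType.2 inferInstance
  have hL : PicF.IsInvertible L := (isAmple_iff.1 hA).1
  have hR : RelAmple.IsRelAmple f L := (isRelAmple_iff_isAmple_of_isAffine (f := f) (L := L)).2 hA
  haveI : CompactSpace X := QuasiCompact.compactSpace_of_compactSpace f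
  obtain ⟨N₀, hN₀⟩ := exists_uniform_vanishing f hR hF
  obtain ⟨t, T, γ, hT, -, hft, hfl, hcov⟩ := exists_flat_strata f F hF
  have hstr : ∀ k : Fin t, ∃ N : ℕ, ∀ n, N ≤ n → ∀ [(CohB1.tensorMod F (CohB1.tensorPow L n)).IsQuasicoherent]
      (w : T k) (y : Spec (CommRingCat.of A)), γ k w = y →
      letI : (f.fiber y).Over (Spec (CommRingCat.of (resK y))) := ⟨f.fiberToSpecResidueField y⟩
      SectBC.Bij (LeadBC.fiber_isPullback (A := A) (X := X) y) (CohB1.tensorMod F (CohB1.tensorPow L n)) := by
    intro k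
    haveI := hT k
    haveI := hft k
    haveI : IsLocallyNoetherian (T k) := LocallyOfFiniteType.isLocallyNoetherian (γ k)
    let 𝒰 := (T k).affineCover.finiteSubcover
    have h𝒰 : ∀ a, ∃ N : ℕ, ∀ n, N ≤ n → ∀ [(CohB1.tensorMod F (CohB1.tensorPow L n)).IsQuasicoherent]
        (w : 𝒰.X a) (y : Spec (CommRingCat.of A)), γ k (𝒰.f a w) = y →
        letI : (f.fiber y).Over (Spec (CommRingCat.of (resK y))) := ⟨f.fiberToSpecResidueField y⟩
        SectBC.Bij (LeadBC.fiber_isPullback (A := A) (X := X) y) (CohB1.tensorMod F (CohB1.tensorPow L n)) := by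
      intro a
      haveI : IsAffine (𝒰.X a) := inferInstanceAs (IsAffine ((T k).affineCover.X _))
      haveI : IsLocallyNoetherian (𝒰.X a) := isLocallyNoetherian_of_isOpenImmersion (𝒰.f a)
      let C : Type u := Γ(𝒰.X a, ⊤)
      haveI : IsNoetherianRing C := IsLocallyNoetherian.component_noetherian ⟨⊤, isAffineOpen_top (𝒰.X a)⟩
      let i : Spec (CommRingCat.of C) ⟶ Spec (CommRingCat.of A) := ((𝒰.X a).isoSpec.inv ≫ 𝒰.f a) ≫ γ k
      haveI : LocallyOfFiniteType i := inferInstanceAs (LocallyOfFiniteType ((_ ≫ _) ≫ _))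
      letI : Algebra A C := (Spec.preimage i).hom.toAlgebra
      have hi : Spec.map (CommRingCat.ofHom (algebraMap A C)) = i := Spec.map_preimage i
      haveI : Algebra.FiniteType A C := by
        have h' : LocallyOfFiniteType (Spec.map (CommRingCat.ofHom (algebraMap A C))) := hi ▸ inferInstance
        exact RingHom.finiteType_algebraMap.1
          ((HasRingHomProperty.Spec_iff (P := @LocallyOfFiniteType)).1 h')
      let g := Spec.map (CommRingCat.ofHom (algebraMap A C))
      let X₁ := pullback f g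
      letI : X₁.Over (Spec (CommRingCat.of C)) := ⟨pullback.snd f g⟩
      let q₁ : X₁ ⟶ X := pullback.fst f g
      have h₁ : IsPullback q₁ (X₁ ↘ Spec (CommRingCat.of C)) f g := IsPullback.of_hasPullback f g
      haveI : IsProper (X₁ ↘ Spec (CommRingCat.of C)) := inferInstanceAs (IsProper (pullback.snd f g))
      haveI : LocallyOfFinitePresentation (X₁ ↘ Spec (CommRingCat.of C)) :=
        MorphismProperty.of_isPullback h₁ inferInstance
      have hflC : FlatMod.IsFlatOver (pullback.snd f g) (pb (pullback.fst f g) F) := by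
        have := flat_pullback_comp f F (γ k) ((𝒰.X a).isoSpec.inv ≫ 𝒰.f a) (hfl k)
        suffices key : ∀ g' : Spec (CommRingCat.of C) ⟶ Spec (CommRingCat.of A), i = g' →
            FlatMod.IsFlatOver (pullback.snd f g') (pb (pullback.fst f g') F) from key g hi.symm
        rintro _ rfl
        exact this
      obtain ⟨N₁, hN₁⟩ := SectBC.exists_bij_finiteType h₁ hA F (H17.ConsProp.isCoh_of_isFP hF)
      refine ⟨N₀ + N₁, fun n hn hq w y hwy => ?_⟩
      let G := CohB1.tensorMod F (CohB1.tensorPow L n)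
      letI : (f.fiber y).Over (Spec (CommRingCat.of (resK y))) := ⟨f.fiberToSpecResidueField y⟩
      let z : Spec (CommRingCat.of C) := (𝒰.X a).isoSpec.hom w
      have hzy : g z = y := by
        rw [show g = i from hi, ← hwy]
        show ((𝒰.X a).isoSpec.hom ≫ ((𝒰.X a).isoSpec.inv ≫ 𝒰.f a) ≫ γ k) w = _
        simp
      subst hzy
      let K := resK (g z)
      let K' := resK z
      letI : Algebra K K' := (g.residueFieldMap z).hom.toAlgebra
      letI : Algebra A K' := ((algebraMap C K').comp (algebraMap A C)).toAlgebra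
      haveI : IsScalarTower A C K' := .of_algebraMap_eq fun _ => rfl
      haveI : IsScalarTower A K K' := .of_algebraMap_eq' <| by
        have e : Spec.map (CommRingCat.ofHom ((algebraMap K K').comp (algebraMap A K))) =
            Spec.map (CommRingCat.ofHom (algebraMap A K')) := by
          rw [CommRingCat.ofHom_comp, Spec.map_comp, LeadBC.specMap_resK]
          show Spec.map (g.residueFieldMap z) ≫ _ = _
          rw [Scheme.Hom.SpecMap_residueFieldMap_fromSpecResidueField, ← LeadBC.specMap_resK, ← Spec.map_comp,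
            ← CommRingCat.ofHom_comp]
        exact (congrArg CommRingCat.Hom.hom (Spec.map_injective e)).symm
      haveI : Module.FaithfullyFlat K K' := inferInstance
      letI : ((X₁ ↘ Spec (CommRingCat.of C)).fiber z).Over (Spec (CommRingCat.of K')) :=
        ⟨(X₁ ↘ Spec (CommRingCat.of C)).fiberToSpecResidueField z⟩
      let X₂ := (X₁ ↘ Spec (CommRingCat.of C)).fiber z
      let q₂ : X₂ ⟶ X₁ := (X₁ ↘ Spec (CommRingCat.of C)).fiberι z
      have h₂ : IsPullback q₂ (X₂ ↘ Spec (CommRingCat.of K')) (X₁ ↘ Spec (CommRingCat.of C))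
          (Spec.map (CommRingCat.ofHom (algebraMap C K'))) := LeadBC.fiber_isPullback (A := C) (X := X₁) z
      have hK₀ := LeadBC.fiber_isPullback (A := A) (X := X) (g z)
      have h₃ : IsPullback (q₂ ≫ q₁) (X₂ ↘ Spec (CommRingCat.of K')) f
          (Spec.map (CommRingCat.ofHom (algebraMap A K'))) := by
        rw [show Spec.map (CommRingCat.ofHom (algebraMap A K')) =
          Spec.map (CommRingCat.ofHom (algebraMap C K')) ≫ g from
            (congrArg Spec.map (CommRingCat.ofHom_comp _ _)).trans (Spec.map_comp _ _)]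
        exact h₂.paste_horiz h₁
      have hAK : Spec.map (CommRingCat.ofHom (algebraMap K K')) ≫ Spec.map (CommRingCat.ofHom (algebraMap A K)) =
          Spec.map (CommRingCat.ofHom (algebraMap A K')) := by
        rw [← Spec.map_comp, ← CommRingCat.ofHom_comp, ← IsScalarTower.algebraMap_eq]
      let qK : X₂ ⟶ f.fiber (g z) := hK₀.lift (q₂ ≫ q₁)
        ((X₂ ↘ Spec (CommRingCat.of K')) ≫ Spec.map (CommRingCat.ofHom (algebraMap K K')))
        (by rw [h₃.w, ← hAK, Category.assoc])
      have hqK : qK ≫ f.fiberι (g z) = q₂ ≫ q₁ := hK₀.lift_fst _ _ _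
      have h₄ : IsPullback qK (X₂ ↘ Spec (CommRingCat.of K')) (f.fiber (g z) ↘ Spec (CommRingCat.of K))
          (Spec.map (CommRingCat.ofHom (algebraMap K K'))) := by
        refine IsPullback.of_right ?_ (hK₀.lift_snd _ _ _) hK₀
        rw [hqK, hAK]
        exact h₃
      have h₅ : IsPullback (qK ≫ f.fiberι (g z)) (X₂ ↘ Spec (CommRingCat.of K')) f
          (Spec.map (CommRingCat.ofHom (algebraMap A K'))) := by rw [hqK]; exact h₃
      haveI : IsProper (f.fiber (g z) ↘ Spec (CommRingCat.of K)) := MorphismProperty.of_isPullback hK₀ inferInstance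
      haveI : CompactSpace (f.fiber (g z)) :=
        QuasiCompact.compactSpace_of_compactSpace (f.fiber (g z) ↘ Spec (CommRingCat.of K))
      haveI : QuasiSeparatedSpace (f.fiber (g z)) :=
        quasiSeparatedSpace_of_quasiSeparated (f.fiber (g z) ↘ Spec (CommRingCat.of K))
      have hGf : CohB1.IsFP (pb q₁ G) := H06EGA9.isFP_pullback _ (isFP_tensorPow hF hL n)
      haveI : (qF q₁ G).IsQuasicoherent := H29Fitt.isQCoh_of_isFP _ hGf
      haveI : (qF (f.fiberι (g z)) G).IsQuasicoherent := H29Fitt.isQCoh_pullback _ _ hq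
      have hb₂ : SectBC.Bij h₂ (qF q₁ G) := by
        obtain ⟨e⟩ := exists_iso_pullback_tensorPow q₁ hL n
        refine (SectBC.bij_of_vanishing h₂ (qF q₁ G) hGf ?_ fun v =>
          (subsingleton_fiberH_baseChange h₁ (H17.ConsProp.isCoh_of_isFP (isFP_tensorPow hF hL n)) (Iso.refl _) v 1).2
            (hN₀ n (by omega) _ 1 Nat.one_pos)).1
        refine isFlatOver_congr_iso _ (tI (Iso.refl _) e.symm ≪≫ (pT q₁ F _).symm) ?_
        exact fun x => H12Pic.AlgEquivEuler.isFlatOverAt_tensor _
          (isInvertible_tensorPow (isInvertible_pullback _ hL) n) (hflC x)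
      have hb₃ : SectBC.Bij h₃ G := SectBC.bij_comp h₁ h₂ h₃ G (hN₁ n (by omega)) hb₂
      have hb₅ : SectBC.Bij h₅ G := by
        suffices key : ∀ (q' : X₂ ⟶ X) (_ : q₂ ≫ q₁ = q') (h' : IsPullback q' (X₂ ↘ Spec (CommRingCat.of K')) f
            (Spec.map (CommRingCat.ofHom (algebraMap A K')))), SectBC.Bij h' G from key _ hqK.symm h₅
        rintro _ rfl h'
        exact hb₃
      have hl := SectBC.bij_left hK₀ h₄ h₅ G (SectBC.bij_of_flat h₄ _) hb₅
      exact ⟨(Module.FaithfullyFlat.lTensor_injective_iff_injective K K' _).1 hl.1,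
        (Module.FaithfullyFlat.lTensor_surjective_iff_surjective K K' _).1 hl.2⟩
    obtain ⟨N, hN⟩ := exists_bound _ h𝒰
    refine ⟨N, fun n hn hq w y hy => ?_⟩
    obtain ⟨w', hw'⟩ := 𝒰.covers w
    exact hN _ n hn w' y (hw'.symm ▸ hy)
  obtain ⟨N, hN⟩ := exists_bound _ hstr
  refine ⟨N₀ + N, fun n hn => ?_⟩
  have hb : ∀ [(CohB1.tensorMod F (CohB1.tensorPow L n)).IsQuasicoherent] (y : Spec (CommRingCat.of A)),
      letI : (f.fiber y).Over (Spec (CommRingCat.of (resK y))) := ⟨f.fiberToSpecResidueField y⟩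
      SectBC.Bij (LeadBC.fiber_isPullback (A := A) (X := X) y) (CohB1.tensorMod F (CohB1.tensorPow L n)) :=
    fun {hq} y => by
      obtain ⟨k, w, hw⟩ := hcov y
      exact hN k n (by omega) w y hw
  refine ⟨fun y p hp => hN₀ n (by omega) y p hp, hb, fun y => ?_⟩
  letI : (f.fiber y).Over (Spec (CommRingCat.of (resK y))) := ⟨f.fiberToSpecResidueField y⟩
  haveI := isQuasicoherent_twist hL hF n
  rw [hilb_eq_finrank L F n y (fun p hp => hN₀ n (by omega) y p hp), fibDim_eq_finrank_resK]
  exact_mod_cast (LinearEquiv.ofBijective _ (hb y)).finrank_eq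

/-- The ideal cutting out a flattening stratum. -/
theorem exists_ideal [IsNoetherianRing A] [IsProper (X ↘ Spec (CommRingCat.of A))] {L : X.Modules}
    (hA : CohB1.IsAmple L) {F : X.Modules} (hF : CohB1.IsFP F) (P : ℕ → ℤ)
    (hP : ∀ y : Spec (CommRingCat.of A), hilb (X ↘ Spec (CommRingCat.of A)) L F y = P ∨
      ∃ N : ℕ, ∀ n, N ≤ n → hilb (X ↘ Spec (CommRingCat.of A)) L F y n < P n) :
    ∃ I : Ideal A, ∀ (B : Type u) [CommRing B] [Algebra A B],
      Cond (X ↘ Spec (CommRingCat.of A)) L F P (Spec.map (CommRingCat.ofHom (algebraMap A B))) ↔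
        I.map (algebraMap A B) = ⊥ := by
  let f : X ⟶ Spec (CommRingCat.of A) := X ↘ Spec (CommRingCat.of A)
  haveI : IsProper f := ‹IsProper (X ↘ Spec (CommRingCat.of A))›
  haveI : LocallyOfFinitePresentation f := LocallyOfFinitePresentation.iff_locallyOfFiniteType.2 inferInstance
  have hL : PicF.IsInvertible L := (isAmple_iff.1 hA).1
  haveI : CompactSpace X := QuasiCompact.compactSpace_of_compactSpace f
  obtain ⟨N₁, hN₁⟩ := exists_uniform_bij (A := A) (X := X) hA hF
  haveI : Finite (Set.range (hilb f L F)) := (finite_range_hilb f hL hF).to_subtype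
  obtain ⟨N₂, hN₂⟩ := exists_bound (fun (v : Set.range (hilb f L F)) n => v.1 = P ∨ v.1 n < P n) (by
    rintro ⟨_, y, rfl⟩
    rcases hP y with h | ⟨N, hN⟩
    · exact ⟨0, fun n _ => Or.inl h⟩
    · exact ⟨N, fun n hn => Or.inr (hN n hn)⟩)
  let N := N₁ + N₂
  let G : ℕ → X.Modules := fun n => CohB1.tensorMod F (CohB1.tensorPow L n)
  have hGq : ∀ n, (G n).IsQuasicoherent := fun n => isQuasicoherent_twist hL hF n
  let r : ℕ → ℕ := fun n => (P n).toNat
  have hfin : ∀ n, Module.Finite A (sec A (G n) ⊤) := fun n =>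
    finite_sec _ (H17.ConsProp.isCoh_of_isFP (isFP_tensorPow hF hL n))
  have hle : ∀ n, N ≤ n → ∀ y : Spec (CommRingCat.of A), hilb f L F y n ≤ P n ∧
      (hilb f L F y n = P n → hilb f L F y = P) := fun n hn y => by
    rcases hN₂ ⟨_, y, rfl⟩ n (by omega) with h | h
    · exact ⟨(congrFun h n).le, fun _ => h⟩
    · exact ⟨h.le, fun h' => absurd h' h.ne⟩
  have hdim : ∀ n, N ≤ n → ∀ y : Spec (CommRingCat.of A),
      (H06FlatCx.fibDim (sec A (G n) ⊤) (primeOf y) : ℤ) = hilb f L F y n := fun n hn => (hN₁ n (by omega)).2.2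
  refine ⟨⨆ (n : ℕ) (_ : N ≤ n) (k : ℕ) (_ : k < r n), Fitt.ideal A (sec A (G n) ⊤) k, fun B _ _ => ?_⟩
  let g := Spec.map (CommRingCat.ofHom (algebraMap A B))
  simp only [Ideal.map_iSup, iSup_eq_bot]
  constructor
  · rintro ⟨hflat, hpt⟩ n hn k hk
    haveI := hGq n
    haveI := hfin n
    let X' := pullback f g
    letI : X'.Over (Spec (CommRingCat.of B)) := ⟨pullback.snd f g⟩
    let q : X' ⟶ X := pullback.fst f g
    have h₁ : IsPullback q (X' ↘ Spec (CommRingCat.of B)) f g := IsPullback.of_hasPullback f g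
    haveI : IsProper (X' ↘ Spec (CommRingCat.of B)) := inferInstanceAs (IsProper (pullback.snd f g))
    haveI : LocallyOfFinitePresentation (X' ↘ Spec (CommRingCat.of B)) :=
      MorphismProperty.of_isPullback h₁ inferInstance
    have hGB : CohB1.IsFP (qF q (G n)) := H06EGA9.isFP_pullback _ (isFP_tensorPow hF hL n)
    haveI : (qF q (G n)).IsQuasicoherent := H29Fitt.isQCoh_of_isFP _ hGB
    have hflB : FlatMod.IsFlatOver (X' ↘ Spec (CommRingCat.of B)) (qF q (G n)) := by
      obtain ⟨e⟩ := exists_iso_pullback_tensorPow q hL n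
      refine isFlatOver_congr_iso _ (tI (Iso.refl _) e.symm ≪≫ (pT q F _).symm) ?_
      exact fun x => H12Pic.AlgEquivEuler.isFlatOverAt_tensor _
        (isInvertible_tensorPow (isInvertible_pullback _ hL) n) (hflat x)
    have hvB : ∀ v, Subsingleton (CohIII.fiberH (X' ↘ Spec (CommRingCat.of B)) (qF q (G n)) v 1) := fun v =>
      (subsingleton_fiberH_baseChange h₁ (H17.ConsProp.isCoh_of_isFP (isFP_tensorPow hF hL n)) (Iso.refl _) v 1).2
        ((hN₁ n (by omega)).1 _ 1 Nat.one_pos)
    have hid : IsPullback (𝟙 X') (X' ↘ Spec (CommRingCat.of B)) (X' ↘ Spec (CommRingCat.of B))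
        (Spec.map (CommRingCat.ofHom (algebraMap B B))) := by
      rw [show Spec.map (CommRingCat.ofHom (algebraMap B B)) = 𝟙 _ from Spec.map_id _]
      exact IsPullback.of_horiz_isIso ⟨by simp⟩
    obtain ⟨-, hQf, hQp⟩ := SectBC.bij_of_vanishing hid (qF q (G n)) hGB hflB hvB
    let α := SectBC.bcSect h₁ (G n)
    have hα : Function.Bijective α := by
      refine FittRank.bijective_of_fibres _ α fun m hm => ?_
      let z : Spec (CommRingCat.of B) := m
      let K' := resK z
      letI : Algebra A K' := ((algebraMap B K').comp (algebraMap A B)).toAlgebra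
      haveI : IsScalarTower A B K' := .of_algebraMap_eq fun _ => rfl
      let K := resK (g z)
      letI : Algebra K K' := (g.residueFieldMap z).hom.toAlgebra
      haveI : IsScalarTower A K K' := .of_algebraMap_eq' <| by
        have e : Spec.map (CommRingCat.ofHom ((algebraMap K K').comp (algebraMap A K))) =
            Spec.map (CommRingCat.ofHom (algebraMap A K')) := by
          rw [CommRingCat.ofHom_comp, Spec.map_comp, LeadBC.specMap_resK]
          show Spec.map (g.residueFieldMap z) ≫ _ = _
          rw [Scheme.Hom.SpecMap_residueFieldMap_fromSpecResidueField, ← LeadBC.specMap_resK, ← Spec.map_comp,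
            ← CommRingCat.ofHom_comp]
        exact (congrArg CommRingCat.Hom.hom (Spec.map_injective e)).symm
      letI : ((X' ↘ Spec (CommRingCat.of B)).fiber z).Over (Spec (CommRingCat.of K')) :=
        ⟨(X' ↘ Spec (CommRingCat.of B)).fiberToSpecResidueField z⟩
      letI : (f.fiber (g z)).Over (Spec (CommRingCat.of K)) := ⟨f.fiberToSpecResidueField (g z)⟩
      let X₂ := (X' ↘ Spec (CommRingCat.of B)).fiber z
      let q₂ : X₂ ⟶ X' := (X' ↘ Spec (CommRingCat.of B)).fiberι z
      have h₂ : IsPullback q₂ (X₂ ↘ Spec (CommRingCat.of K')) (X' ↘ Spec (CommRingCat.of B))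
          (Spec.map (CommRingCat.ofHom (algebraMap B K'))) := LeadBC.fiber_isPullback (A := B) (X := X') z
      have hK₀ := LeadBC.fiber_isPullback (A := A) (X := X) (g z)
      have h₃ : IsPullback (q₂ ≫ q) (X₂ ↘ Spec (CommRingCat.of K')) f
          (Spec.map (CommRingCat.ofHom (algebraMap A K'))) := by
        rw [show Spec.map (CommRingCat.ofHom (algebraMap A K')) =
          Spec.map (CommRingCat.ofHom (algebraMap B K')) ≫ g from
            (congrArg Spec.map (CommRingCat.ofHom_comp _ _)).trans (Spec.map_comp _ _)]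
        exact h₂.paste_horiz h₁
      have hAK : Spec.map (CommRingCat.ofHom (algebraMap K K')) ≫ Spec.map (CommRingCat.ofHom (algebraMap A K)) =
          Spec.map (CommRingCat.ofHom (algebraMap A K')) := by
        rw [← Spec.map_comp, ← CommRingCat.ofHom_comp, ← IsScalarTower.algebraMap_eq]
      let qK : X₂ ⟶ f.fiber (g z) := hK₀.lift (q₂ ≫ q)
        ((X₂ ↘ Spec (CommRingCat.of K')) ≫ Spec.map (CommRingCat.ofHom (algebraMap K K')))
        (by rw [h₃.w, ← hAK, Category.assoc])
      have hqK : qK ≫ f.fiberι (g z) = q₂ ≫ q := hK₀.lift_fst _ _ _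
      have h₄ : IsPullback qK (X₂ ↘ Spec (CommRingCat.of K')) (f.fiber (g z) ↘ Spec (CommRingCat.of K))
          (Spec.map (CommRingCat.ofHom (algebraMap K K'))) := by
        refine IsPullback.of_right ?_ (hK₀.lift_snd _ _ _) hK₀
        rw [hqK, hAK]
        exact h₃
      have h₅ : IsPullback (qK ≫ f.fiberι (g z)) (X₂ ↘ Spec (CommRingCat.of K')) f
          (Spec.map (CommRingCat.ofHom (algebraMap A K'))) := by rw [hqK]; exact h₃
      haveI : IsProper (f.fiber (g z) ↘ Spec (CommRingCat.of K)) := MorphismProperty.of_isPullback hK₀ inferInstance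
      haveI : CompactSpace (f.fiber (g z)) :=
        QuasiCompact.compactSpace_of_compactSpace (f.fiber (g z) ↘ Spec (CommRingCat.of K))
      haveI : QuasiSeparatedSpace (f.fiber (g z)) :=
        quasiSeparatedSpace_of_quasiSeparated (f.fiber (g z) ↘ Spec (CommRingCat.of K))
      haveI : (qF (f.fiberι (g z)) (G n)).IsQuasicoherent := H29Fitt.isQCoh_pullback _ _ (hGq n)
      have hb₅ : SectBC.Bij h₅ (G n) :=
        SectBC.bij_comp hK₀ h₄ h₅ _ ((hN₁ n (by omega)).2.1 (g z)) (SectBC.bij_of_flat h₄ _)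
      have hb₃ : SectBC.Bij h₃ (G n) := by
        suffices key : ∀ (q' : X₂ ⟶ X) (_ : qK ≫ f.fiberι (g z) = q')
            (h' : IsPullback q' (X₂ ↘ Spec (CommRingCat.of K')) f
              (Spec.map (CommRingCat.ofHom (algebraMap A K')))), SectBC.Bij h' (G n) from key _ hqK h₃
        rintro _ rfl h'
        exact hb₅
      have hl := SectBC.bij_left h₁ h₂ h₃ (G n) (SectBC.bij_of_vanishing h₂ (qF q (G n)) hGB hflB hvB).1 hb₃
      let e₀ : m.asIdeal.ResidueField ≃ₗ[B] K' :=
        { RingEquiv.ofBijective (kToResK z) (ConcreteCategory.bijective_of_isIso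
            (Scheme.Spec.residueFieldIso (CommRingCat.of B) z).inv) with
          map_smul' := fun a x => by
            show kToResK z (a • x) = a • kToResK z x
            rw [Algebra.smul_def, Algebra.smul_def, map_mul]
            rfl }
      have he : (α.lTensor m.asIdeal.ResidueField : _ → _) = (e₀.symm.rTensor _) ∘ α.lTensor K' ∘ (e₀.rTensor _) := by
        funext x
        induction x using TensorProduct.induction_on with
        | zero => simp
        | add a b ha hb => simp only [Function.comp_apply, map_add, ha, hb] at *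
        | tmul c x => simp
      rw [he]
      exact (LinearEquiv.bijective _).comp (hl.comp (LinearEquiv.bijective _))
    let eα := LinearEquiv.ofBijective α hα
    haveI := hQf
    haveI := hQp
    haveI : Module.Projective B (B ⊗[A] sec A (G n) ⊤) := Module.Projective.of_equiv eα.symm
    rw [← H29Fitt.ideal_baseChange]
    refine FittRank.fitting_of_projective _ (r n) (fun x => ?_) hk
    rw [H06FlatCx.fibDim_baseChange]
    have h := hdim n hn (PrimeSpectrum.comap (algebraMap A B) x)
    have hx := congrFun (hpt x) n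
    have h' : (H06FlatCx.fibDim (sec A (G n) ⊤) (PrimeSpectrum.comap (algebraMap A B) x) : ℤ) = P n :=
      h.trans hx
    show _ = (P n).toNat
    omega
  · intro hI
    let I : Ideal A := ⨆ (n : ℕ) (_ : N ≤ n) (k : ℕ) (_ : k < r n), Fitt.ideal A (sec A (G n) ⊤) k
    have hIB : I ≤ RingHom.ker (algebraMap A B) := by
      rw [← Ideal.map_eq_bot_iff_le_ker]
      simp only [I, Ideal.map_iSup, iSup_eq_bot]
      exact hI
    let C := A ⧸ I
    letI : Algebra C B := (Ideal.Quotient.lift I (algebraMap A B) fun a ha => hIB ha).toAlgebra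
    haveI : IsScalarTower A C B := .of_algebraMap_eq fun _ => rfl
    let gC := Spec.map (CommRingCat.ofHom (algebraMap A C))
    let X₁ := pullback f gC
    letI : X₁.Over (Spec (CommRingCat.of C)) := ⟨pullback.snd f gC⟩
    let q : X₁ ⟶ X := pullback.fst f gC
    have h₁ : IsPullback q (X₁ ↘ Spec (CommRingCat.of C)) f gC := IsPullback.of_hasPullback f gC
    haveI : IsProper (X₁ ↘ Spec (CommRingCat.of C)) := inferInstanceAs (IsProper (pullback.snd f gC))
    haveI : IsAffineHom q := LeadFF.isAffineHom_fst h₁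
    have hA₁ : CohB1.IsAmple (pb q L) := isAmple_pullback_of_isAffineHom q hA
    obtain ⟨N₃, hN₃⟩ := SectBC.exists_bij_surjective h₁ (Ideal.Quotient.mk_surjective) hA F
      (H17.ConsProp.isCoh_of_isFP hF)
    have hrank : ∀ n, N ≤ n → Module.Flat C (C ⊗[A] sec A (G n) ⊤) ∧
        ∀ c : PrimeSpectrum C, H06FlatCx.fibDim (C ⊗[A] sec A (G n) ⊤) c = r n := fun n hn => by
      haveI := hfin n
      refine FittRank.flat_of_fitting _ (r n) (fun c => ?_) fun k hk => ?_
      · rw [H06FlatCx.fibDim_baseChange]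
        have h := hdim n hn (PrimeSpectrum.comap (algebraMap A C) c)
        have h' := (hle n hn (PrimeSpectrum.comap (algebraMap A C) c)).1
        show _ ≤ (P n).toNat
        have h'' : (H06FlatCx.fibDim (sec A (G n) ⊤) (PrimeSpectrum.comap (algebraMap A C) c) : ℤ) ≤ P n :=
          h.trans_le h'
        omega
      · rw [H29Fitt.ideal_baseChange, Ideal.map_eq_bot_iff_le_ker, Ideal.Quotient.algebraMap_eq, Ideal.mk_ker]
        exact le_iSup₂_of_le n hn (le_iSup₂_of_le k hk le_rfl)
    have hflC : FlatMod.IsFlatOver (pullback.snd f gC) (pb (pullback.fst f gC) F) := by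
      refine isFlatOver_of_flat_HH hA₁ _ (H29Fitt.isQCoh_of_isFP _ (H06EGA9.isFP_pullback _ hF)) (N + N₃)
        fun n hn => ?_
      haveI := hGq n
      obtain ⟨e⟩ := exists_iso_pullback_tensorPow q hL n
      haveI := (hrank n (by omega)).1
      exact Module.Flat.of_linearEquiv ((((LeadBC.HMod C (X := X₁) 0).mapIso
        (pT q F (CohB1.tensorPow L n) ≪≫ tI (Iso.refl _) e)).toLinearEquiv).symm.trans
          ((TwistFibre.hh0Lin _).trans (LinearEquiv.ofBijective _ (hN₃ n (by omega))).symm))
    have hgg : Spec.map (CommRingCat.ofHom (algebraMap C B)) ≫ gC = g := by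
      rw [← Spec.map_comp, ← CommRingCat.ofHom_comp, ← IsScalarTower.algebraMap_eq]
    refine ⟨?_, fun t => ?_⟩
    · have := flat_pullback_comp f F gC (Spec.map (CommRingCat.ofHom (algebraMap C B))) hflC
      suffices key : ∀ g' : Spec (CommRingCat.of B) ⟶ Spec (CommRingCat.of A),
          Spec.map (CommRingCat.ofHom (algebraMap C B)) ≫ gC = g' →
          FlatMod.IsFlatOver (pullback.snd f g') (pb (pullback.fst f g') F) from key g hgg
      rintro _ rfl
      exact this
    · let c : PrimeSpectrum C := Spec.map (CommRingCat.ofHom (algebraMap C B)) t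
      have hy : PrimeSpectrum.comap (algebraMap A C) c = g t := by
        rw [← hgg]
        rfl
      refine (hle N le_rfl (g t)).2 (le_antisymm (hle N le_rfl (g t)).1 ?_)
      have h := (hrank N le_rfl).2 c
      rw [H06FlatCx.fibDim_baseChange, hy] at h
      have hd : (H06FlatCx.fibDim (sec A (G N) ⊤) (primeOf (g t)) : ℤ) = hilb f L F (g t) N := hdim N le_rfl (g t)
      rw [← hd]
      have h' : (H06FlatCx.fibDim (sec A (G N) ⊤) (primeOf (g t)) : ℤ) = ((P N).toNat : ℤ) := congrArg _ h
      rw [h']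
      exact Int.self_le_toNat _

end Groth.Agent.H22Alg.HilbertFlat
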