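import Groth.Agent.H22Alg.FlatCond
import Groth.Agent.H22Alg.AmpleModel

/-! # The ideal of a flattening stratum over an affine base. -/

set_option autoImplicit false
set_option linter.style.haveILetI false
set_option linter.unusedSectionVars false

universe u

open CategoryTheory CategoryTheory.Limits AlgebraicGeometry Opposite TopologicalSpace

noncomputable section

namespace Groth.Agent.H22Alg.HilbertFlat

open Groth.Agent.H10Coh Groth.Agent.H11Ample
open Groth.Agent.H25Theta (pb pT pC pI tI pO)

/-- An element vanishing on the members of a covering by basic opens is zero. -/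
theorem eq_zero_of_cover {B : Type u} [CommRing B] {ι : Type*} (c : ι → B) (hc : Ideal.span (Set.range c) = ⊤)
    (x : B) (h : ∀ i, algebraMap B (Localization.Away (c i)) x = 0) : x = 0 := by
  suffices (Ideal.torsionOf B B x).radical = ⊤ by
    have h1 := (Ideal.eq_top_iff_one _).1 (Ideal.radical_eq_top.1 this)
    rwa [Ideal.mem_torsionOf_iff, one_smul] at h1
  rw [← top_le_iff, ← hc, Ideal.span_le]
  rintro _ ⟨i, rfl⟩
  obtain ⟨⟨m, N, rfl⟩, hm⟩ := (IsLocalization.map_eq_zero_iff (Submonoid.powers (c i)) _ x).1 (h i)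
  exact ⟨N, by rw [Ideal.mem_torsionOf_iff]; exact hm⟩

/-- Ideals representing a local property on the members of a finite covering by basic opens glue. -/
theorem exists_ideal_glue {R : Type u} [CommRing R] (Q : ∀ (B : Type u) [CommRing B], (R →+* B) → Prop)
    {ι : Type} [Finite ι] (b : ι → R) (hb : Ideal.span (Set.range b) = ⊤)
    (hmono : ∀ (B C : Type u) [CommRing B] [CommRing C] (φ : R →+* B) (ψ : B →+* C), Q B φ → Q C (ψ.comp φ))
    (hlocal : ∀ (B : Type u) [CommRing B] (φ : R →+* B),
      (∀ i, Q (Localization.Away (φ (b i))) ((algebraMap B _).comp φ)) → Q B φ)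
    (hi : ∀ i, ∃ K : Ideal (Localization.Away (b i)), K.FG ∧ ∀ (B : Type u) [CommRing B]
      (ψ : Localization.Away (b i) →+* B), Q B (ψ.comp (algebraMap R _)) ↔ K.map ψ = ⊥) :
    ∃ I : Ideal R, I.FG ∧ ∀ (B : Type u) [CommRing B] (φ : R →+* B), Q B φ ↔ I.map φ = ⊥ := by
  choose K hKfg hK using hi
  let al : ∀ i, R →+* Localization.Away (b i) := fun i => algebraMap R _
  -- compatibility on the overlaps
  have hcompat : ∀ (i j : ι) (L : Type u) [CommRing L] (θ : Localization.Away (b i) →+* L)
      (η : Localization.Away (b j) →+* L), θ.comp (al i) = η.comp (al j) → (K i).map θ = (K j).map η := by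
    have key : ∀ (i j : ι) (L : Type u) [CommRing L] (θ : Localization.Away (b i) →+* L)
        (η : Localization.Away (b j) →+* L), θ.comp (al i) = η.comp (al j) → (K j).map η ≤ (K i).map θ := by
      intro i j L _ θ η h
      let q := Ideal.Quotient.mk ((K i).map θ)
      have hQ : Q _ ((q.comp θ).comp (al i)) := (hK i _ _).2 (by
        rw [← Ideal.map_map, Ideal.map_quotient_self])
      rw [RingHom.comp_assoc, h, ← RingHom.comp_assoc, hK j, ← Ideal.map_map, Ideal.map_eq_bot_iff_le_ker,
        Ideal.mk_ker] at hQ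
      exact hQ
    exact fun i j L _ θ η h => le_antisymm (key j i L η θ h.symm) (key i j L θ η h)
  let I : Ideal R := ⨅ i, (K i).comap (al i)
  have hI : ∀ i, I.map (al i) = K i := fun i => by
    refine le_antisymm (Ideal.map_le_iff_le_comap.2 (iInf_le _ i)) fun x hx => ?_
    obtain ⟨r, ⟨m, hm⟩, rfl⟩ := IsLocalization.exists_mk'_eq (Submonoid.powers (b i)) x
    have hr : al i r ∈ K i := by
      have := (K i).mul_mem_right (al i m) hx
      rwa [show _ * al i m = al i r from IsLocalization.mk'_spec _ r ⟨m, hm⟩] at this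
    have hN : ∀ j, ∃ N : ℕ, al j (b i ^ N * r) ∈ K j := fun j => by
      let L := Localization.Away (al j (b i))
      let η : Localization.Away (b j) →+* L := algebraMap _ L
      let θ : Localization.Away (b i) →+* L := IsLocalization.Away.lift (b i) (g := η.comp (al j))
        (IsLocalization.Away.algebraMap_isUnit (al j (b i)))
      have hθ : θ.comp (al i) = η.comp (al j) := IsLocalization.Away.lift_comp _ _
      have h1 : η (al j r) ∈ (K j).map η := by
        rw [← hcompat i j L θ η hθ, ← RingHom.comp_apply, ← hθ]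
        exact Ideal.mem_map_of_mem θ hr
      obtain ⟨_, ⟨N, rfl⟩, h2⟩ :=
        (IsLocalization.algebraMap_mem_map_algebraMap_iff (Submonoid.powers (al j (b i))) L _ _).1 h1
      exact ⟨N, by rwa [map_mul, map_pow]⟩
    choose N hN using hN
    obtain ⟨M, hM⟩ := Finite.exists_le N
    have hrI : b i ^ M * r ∈ I := by
      simp only [I, Ideal.mem_iInf, Ideal.mem_comap]
      intro j
      rw [← Nat.sub_add_cancel (hM j), pow_add, mul_assoc, map_mul]
      exact (K j).mul_mem_left _ (hN j)
    have h3 := Ideal.mem_map_of_mem (al i) hrI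
    rw [map_mul, Ideal.unit_mul_mem_iff_mem _ (by
      rw [map_pow]; exact (IsLocalization.Away.algebraMap_isUnit (b i)).pow M)] at h3
    exact (IsLocalization.mk'_mem_iff).2 h3
  have hfg : I.FG := Ideal.fg_of_localizationSpan (Set.range b) hb <| by
    rintro ⟨_, i, rfl⟩
    show (I.map (al i)).FG
    rw [hI]
    exact hKfg i
  refine ⟨I, hfg, fun B _ φ => ?_⟩
  let c : ι → B := fun i => φ (b i)
  let ψ : ∀ i, Localization.Away (b i) →+* Localization.Away (c i) := fun i =>
    IsLocalization.Away.lift (b i) (g := (algebraMap B (Localization.Away (c i))).comp φ)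
      (IsLocalization.Away.algebraMap_isUnit (c i))
  have hψ : ∀ i, (ψ i).comp (al i) = (algebraMap B (Localization.Away (c i))).comp φ :=
    fun i => IsLocalization.Away.lift_comp _ _
  constructor
  · intro hQ
    rw [Ideal.map_eq_bot_iff_le_ker]
    intro x hx
    refine eq_zero_of_cover c ?_ _ fun i => ?_
    · show Ideal.span (Set.range (φ ∘ b)) = ⊤
      rw [Set.range_comp, ← Ideal.map_span, hb, Ideal.map_top]
    have h1 := hmono _ (Localization.Away (c i)) φ (algebraMap B _) hQ
    rw [← hψ i, hK i, Ideal.map_eq_bot_iff_le_ker] at h1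
    rw [← RingHom.comp_apply, ← hψ i]
    exact h1 ((hI i).le (Ideal.mem_map_of_mem (al i) hx))
  · intro h
    refine hlocal B φ fun i => ?_
    rw [← hψ i, hK i, ← hI i, Ideal.map_map, hψ i, ← Ideal.map_map, h, Ideal.map_bot]

theorem ofHom_comp_map {A B C : Type u} [CommRing A] [CommRing B] [CommRing C] (φ : A →+* B) (ψ : B →+* C) :
    Spec.map (CommRingCat.ofHom (ψ.comp φ)) = Spec.map (CommRingCat.ofHom ψ) ≫ Spec.map (CommRingCat.ofHom φ) := by
  rw [CommRingCat.ofHom_comp, Spec.map_comp]

/-- The ideal cutting out a stratum over a Noetherian affine base, for arbitrary ring maps. -/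
theorem exists_ideal_ringHom {A : Type u} [CommRing A] [IsNoetherianRing A] {X : Scheme.{u}}
    (f : X ⟶ Spec (CommRingCat.of A)) [IsProper f] {L : X.Modules}
    (hA : CohB1.IsAmple L) {F : X.Modules} (hF : CohB1.IsFP F) (P : ℕ → ℤ)
    (hP : ∀ y : Spec (CommRingCat.of A), hilb f L F y = P ∨ ∃ N : ℕ, ∀ n, N ≤ n → hilb f L F y n < P n) :
    ∃ I : Ideal A, ∀ (B : Type u) [CommRing B] (φ : A →+* B),
      Cond f L F P (Spec.map (CommRingCat.ofHom φ)) ↔ I.map φ = ⊥ := by
  letI : X.Over (Spec (CommRingCat.of A)) := ⟨f⟩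
  haveI : IsProper (X ↘ Spec (CommRingCat.of A)) := ‹IsProper f›
  obtain ⟨I, hI⟩ := exists_ideal hA hF P hP
  exact ⟨I, fun B _ φ => @hI B _ φ.toAlgebra⟩

/-- The ideal cutting out a stratum over an affine base. -/
theorem exists_ideal_affine {R : Type u} [CommRing R] {X : Scheme.{u}}
    (f : X ⟶ Spec (CommRingCat.of R)) [IsProper f] [LocallyOfFinitePresentation f]
    {L : X.Modules} (hL : RelAmple.IsRelAmple f L) {F : X.Modules} (hF : CohB1.IsFP F)
    (P : ℕ → ℤ) (hP : IsPoly P) (hgood : ∀ y, ¬ Above P (hilb f L F y)) :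
    ∃ I : Ideal R, I.FG ∧ ∀ (B : Type u) [CommRing B] (φ : R →+* B),
      Cond f L F P (Spec.map (CommRingCat.ofHom φ)) ↔ I.map φ = ⊥ := by
  obtain ⟨R₀, _, _, _, X₀, f₀, L₀, F₀, g, _, hL₀, hA₀, hF₀, hsq, ⟨eL⟩, ⟨eF⟩⟩ :=
    AmpleModel.exists_ample_model f L (isInvertible_of_isRelAmple hL)
      ((isRelAmple_iff_isAmple_of_isAffine (f := f) (L := L)).1 hL) F hF
  haveI : LocallyOfFinitePresentation f₀ := LocallyOfFinitePresentation.iff_locallyOfFiniteType.2 inferInstance
  have hcl : IsClosed {y : Spec (CommRingCat.of R₀) | Above P (hilb f₀ L₀ F₀ y)} :=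
    isClosed_eventually_ge f₀ (isRelAmple_iff_isAmple_of_isAffine.2 hA₀) hF₀ (Above P) (above_mono P)
  obtain ⟨J, hJ⟩ := (PrimeSpectrum.isClosed_iff_zeroLocus_ideal (R := R₀) _).1 hcl
  obtain ⟨G, hG⟩ : J.FG := IsNoetherian.noetherian J
  let ψ : R₀ →+* R := algebraMap R₀ R
  let v₀ : Spec (CommRingCat.of R) ⟶ Spec (CommRingCat.of R₀) := Spec.map (CommRingCat.ofHom ψ)
  have hzero : ∀ y : Spec (CommRingCat.of R₀), Above P (hilb f₀ L₀ F₀ y) ↔ ∀ a ∈ G, a ∈ y.asIdeal := fun y => by
    refine (Set.ext_iff.1 hJ y).trans ?_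
    show (J : Set R₀) ⊆ y.asIdeal ↔ _
    rw [SetLike.coe_subset_coe, ← hG]
    exact Ideal.span_le
  have hcond : ∀ {T : Scheme.{u}} (w : T ⟶ Spec (CommRingCat.of R)),
      Cond f L F P w ↔ Cond f₀ L₀ F₀ P (w ≫ v₀) := fun w =>
    (cond_congr f eL.symm eF.symm P w).trans (cond_baseChange_iff hsq hL₀ hF₀ P w)
  have hbspan : Ideal.span (Set.range fun i : Fin G.card => ψ (G.equivFin.symm i)) = ⊤ := by
    by_contra hne
    obtain ⟨m, hm, hle⟩ := Ideal.exists_le_maximal _ hne
    let y : PrimeSpectrum R := ⟨m, hm.isPrime⟩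
    refine hgood y ?_
    rw [hilb_congr f eL.symm eF.symm y, hilb_baseChange hsq hL₀ hF₀ y, hzero]
    exact fun a ha => hle (Ideal.subset_span ⟨G.equivFin ⟨a, ha⟩, by simp [ψ]⟩)
  refine exists_ideal_glue (fun B _ φ => Cond f L F P (Spec.map (CommRingCat.ofHom φ)))
    (fun i : Fin G.card => ψ (G.equivFin.symm i)) hbspan (fun B C _ _ φ χ h => ?_) (fun B _ φ h => ?_) fun i => ?_
  · show Cond f L F P (Spec.map (CommRingCat.ofHom (χ.comp φ)))
    rw [ofHom_comp_map]
    exact h.comp _
  · haveI : ∀ i : Fin G.card, IsOpenImmersion (Spec.map (CommRingCat.ofHom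
        (algebraMap B (Localization.Away (φ (ψ (G.equivFin.symm i))))))) := fun i =>
      IsOpenImmersion.of_isLocalization (φ (ψ (G.equivFin.symm i)))
    refine cond_of_cover _ (fun i => Spec.map (CommRingCat.ofHom
      (algebraMap B (Localization.Away (φ (ψ (G.equivFin.symm i))))))) (fun t => ?_) fun i => ?_
    · by_contra ht
      push Not at ht
      have hsub : Ideal.span (Set.range fun i : Fin G.card => ψ (G.equivFin.symm i)) ≤ t.asIdeal.comap φ := by
        rw [Ideal.span_le]
        rintro _ ⟨i, rfl⟩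
        by_contra hi
        have hr : t ∈ Set.range (PrimeSpectrum.comap
            (algebraMap B (Localization.Away (φ (ψ (G.equivFin.symm i)))))) := by
          rw [PrimeSpectrum.localization_away_comap_range _ (φ (ψ (G.equivFin.symm i)))]
          exact hi
        exact ht i hr
      rw [hbspan, top_le_iff, Ideal.comap_eq_top_iff] at hsub
      exact t.isPrime.ne_top hsub
    · rw [← ofHom_comp_map]
      exact h i
  · let a : R₀ := (G.equivFin.symm i : R₀)
    let v := Spec.map (CommRingCat.ofHom (algebraMap R₀ (Localization.Away a)))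
    have hsa := IsPullback.of_hasPullback f₀ v
    haveI : IsProper (pullback.snd f₀ v) := inferInstance
    haveI : IsAffineHom (pullback.fst f₀ v) :=
      MorphismProperty.of_isPullback hsa.flip (isAffineHom_of_isAffine v)
    have hgood' : ∀ y, ¬ Above P (hilb (pullback.snd f₀ v) (pb (pullback.fst f₀ v) L₀)
        (pb (pullback.fst f₀ v) F₀) y) := fun y h => by
      rw [hilb_baseChange hsa hL₀ hF₀ y, hzero] at h
      have hu : algebraMap R₀ (Localization.Away a) a ∈ y.asIdeal := h a (G.equivFin.symm i).2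
      exact y.isPrime.ne_top (Ideal.eq_top_of_isUnit_mem _ hu (IsLocalization.Away.algebraMap_isUnit a))
    obtain ⟨Ja, hJa⟩ := exists_ideal_ringHom (pullback.snd f₀ v) (isAmple_pullback_of_isAffineHom _ hA₀)
      (H06EGA9.isFP_pullback (pullback.fst f₀ v) hF₀) P
      fun y => eq_or_lt_of_not_above hP (exists_poly_hilb _ (isInvertible_pullback _ hL₀)
        (H06EGA9.isFP_pullback _ hF₀) y) (hgood' y)
    let θ : Localization.Away a →+* Localization.Away (ψ a) :=
      IsLocalization.Away.lift a (g := (algebraMap R (Localization.Away (ψ a))).comp ψ)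
        (IsLocalization.Away.algebraMap_isUnit (ψ a))
    have hθ : θ.comp (algebraMap R₀ (Localization.Away a)) = (algebraMap R (Localization.Away (ψ a))).comp ψ :=
      IsLocalization.Away.lift_comp _ _
    refine ⟨Ja.map θ, Ideal.FG.map (IsNoetherian.noetherian Ja) θ, fun B _ χ => ?_⟩
    rw [Ideal.map_map, ← hJa, hcond, cond_baseChange_iff hsa hL₀ hF₀, ← ofHom_comp_map, ← ofHom_comp_map,
      RingHom.comp_assoc, RingHom.comp_assoc, hθ]

end Groth.Agent.H22Alg.HilbertFlat
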