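import Groth.Agent.H06Red.Algebra
import Groth.Agent.H18NormExt.Extend
import Groth.Agent.S2111
import Mathlib

/-!
# Functions constant on the fibres of a surjection onto a normal variety
-/

set_option autoImplicit false
set_option linter.style.haveILetI false
universe u

open CategoryTheory AlgebraicGeometry Opposite TopologicalSpace
open scoped TensorProduct

namespace Groth.Agent.H22Alg.FunctionDescent

section Alg

/-- An element of a field extension equalised by the two maps to the tensor square lies in the base. -/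
theorem mem_range_of_tmul_comm {L E : Type u} [Field L] [Field E] [Algebra L E] (s : E)
    (h : s ⊗ₜ[L] (1 : E) = (1 : E) ⊗ₜ[L] s) : s ∈ Set.range (algebraMap L E) := by
  by_contra hs
  have h1 : (1 : E) ∉ L ∙ s := fun h1 => by
    obtain ⟨c, hc⟩ := Submodule.mem_span_singleton.1 h1
    refine hs ⟨c⁻¹, ?_⟩
    rw [Algebra.smul_def] at hc
    rw [map_inv₀]
    exact (eq_inv_of_mul_eq_one_right hc).symm
  obtain ⟨φ, hφ1, hφ⟩ := Submodule.exists_dual_map_eq_bot_of_notMem h1 inferInstance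
  have hφs : φ s = 0 := by
    have := Submodule.mem_map_of_mem (f := φ) (Submodule.mem_span_singleton_self (R := L) s)
    rw [hφ] at this
    exact this
  have h2 := congrArg ((TensorProduct.lid L E).toLinearMap.comp (φ.rTensor E)) h
  simp [hφs] at h2
  exact hs ⟨0, by rw [map_zero]; exact ((smul_eq_zero.1 h2.symm).resolve_left hφ1).symm⟩

theorem exists_mul_eq (k : Type u) [Field k] [IsAlgClosed k] [CharZero k] (B A : Type u) [CommRing B]
    [CommRing A] [IsDomain B] [IsDomain A] [Algebra k B] [Algebra k A] [Algebra B A] [IsScalarTower k B A]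
    [Algebra.FiniteType k A] (hinj : Function.Injective (algebraMap B A)) (s : A)
    (hs : ∀ φ₁ φ₂ : A →ₐ[k] k, (∀ b : B, φ₁ (algebraMap B A b) = φ₂ (algebraMap B A b)) → φ₁ s = φ₂ s) :
    ∃ a b : B, b ≠ 0 ∧ algebraMap B A b * s = algebraMap B A a := by
  let L := FractionRing B
  let E := FractionRing A
  haveI : FaithfulSMul B E := (faithfulSMul_iff_algebraMap_injective B E).2 (by
    rw [IsScalarTower.algebraMap_eq B A E]; exact (IsFractionRing.injective A E).comp hinj)
  letI : Algebra L E := FractionRing.liftAlgebra B E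
  haveI : Algebra.FiniteType k (A ⊗[B] A) := by
    haveI : Algebra.FiniteType B A := Algebra.FiniteType.of_restrictScalars_finiteType k B A
    exact Algebra.FiniteType.trans (R := k) (S := A) ‹_› inferInstance
  let N : A ⊗[B] A := s ⊗ₜ 1 - 1 ⊗ₜ s
  have hN : IsNilpotent N := by
    haveI : IsJacobsonRing (A ⊗[B] A) := isJacobsonRing_of_finiteType (A := k) (B := A ⊗[B] A)
    rw [← mem_nilradical, nilradical, Ideal.radical_eq_jacobson]
    refine Ideal.mem_sInf.2 ?_
    rintro M ⟨-, hM⟩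
    haveI : M.IsMaximal := hM
    letI := Ideal.Quotient.field M
    haveI : Module.Finite k ((A ⊗[B] A) ⧸ M) := finite_of_finite_type_of_isJacobsonRing k _
    haveI : Algebra.IsIntegral k ((A ⊗[B] A) ⧸ M) := Algebra.IsIntegral.of_finite k _
    let e : k ≃ₐ[k] (A ⊗[B] A) ⧸ M :=
      AlgEquiv.ofBijective (Algebra.ofId k _) IsAlgClosed.algebraMap_bijective_of_isIntegral
    let ψ : A ⊗[B] A →ₐ[k] k := e.symm.toAlgHom.comp (Ideal.Quotient.mkₐ k M)
    let φ₁ : A →ₐ[k] k := ψ.comp ((Algebra.TensorProduct.includeLeft : A →ₐ[B] A ⊗[B] A).restrictScalars k)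
    let φ₂ : A →ₐ[k] k := ψ.comp ((Algebra.TensorProduct.includeRight : A →ₐ[B] A ⊗[B] A).restrictScalars k)
    have h := hs φ₁ φ₂ fun b => congrArg ψ (Algebra.TensorProduct.tmul_one_eq_one_tmul b)
    have h0 : ψ N = 0 := by rw [map_sub]; exact sub_eq_zero.2 h
    exact Ideal.Quotient.eq_zero_iff_mem.1 (e.symm.map_eq_zero_iff.1 h0)
  haveI : CharZero L := charZero_of_injective_algebraMap (algebraMap k L).injective
  haveI := H06Red.isGeometricallyReduced_of_perfectField L E
  haveI : IsReduced (E ⊗[L] E) := H06Red.isReduced_tensor L E E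
  let ι : A →ₐ[B] E := IsScalarTower.toAlgHom B A E
  let θ : A ⊗[B] A →ₐ[B] E ⊗[L] E := Algebra.TensorProduct.lift
    (((Algebra.TensorProduct.includeLeft : E →ₐ[L] E ⊗[L] E).restrictScalars B).comp ι)
    (((Algebra.TensorProduct.includeRight : E →ₐ[L] E ⊗[L] E).restrictScalars B).comp ι)
    (fun _ _ => Commute.all _ _)
  have h0 : θ N = 0 := (hN.map θ).eq_zero
  have h1 : (algebraMap A E s) ⊗ₜ[L] (1 : E) = (1 : E) ⊗ₜ[L] (algebraMap A E s) := by
    rw [map_sub, sub_eq_zero] at h0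
    simpa [θ, ι] using h0
  obtain ⟨r, hr⟩ := mem_range_of_tmul_comm _ h1
  obtain ⟨a, b, hb, rfl⟩ := IsFractionRing.div_surjective (A := B) r
  refine ⟨a, b, nonZeroDivisors.ne_zero hb, IsFractionRing.injective A E ?_⟩
  rw [map_div₀, ← IsScalarTower.algebraMap_apply B L E, ← IsScalarTower.algebraMap_apply B L E,
    IsScalarTower.algebraMap_apply B A E, IsScalarTower.algebraMap_apply B A E, div_eq_iff ((map_ne_zero_iff _ (IsFractionRing.injective A E)).2 ((map_ne_zero_iff _ hinj).2 (nonZeroDivisors.ne_zero hb)))] at hr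
  rw [map_mul, hr, mul_comm]

end Alg

variable {X Y : Scheme.{u}} (f : X ⟶ Y)

theorem app_injective_of_surjective [IsReduced Y] (hf : Function.Surjective f) (W : Y.Opens) :
    Function.Injective (f.app W) := by
  rw [injective_iff_map_eq_zero]
  intro t ht
  rw [← AlgebraicGeometry.basicOpen_eq_bot_iff]
  refine Opens.ext (Set.eq_empty_iff_forall_notMem.2 fun y hy => ?_)
  obtain ⟨x, rfl⟩ := hf y
  have h : x ∈ f ⁻¹ᵁ Y.basicOpen t := hy
  rw [Scheme.preimage_basicOpen, ht, Scheme.basicOpen_zero] at h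
  exact h

/-- Dividing in a normal Noetherian domain of sections is detected through a surjection. -/
theorem exists_app_eq [IsIntegral X] [IsIntegral Y] [IsLocallyNoetherian Y] (hY : Pi1.IsNormalScheme Y)
    (hf : Function.Surjective f) {V : Y.Opens} (hV : IsAffineOpen V) [Nonempty V]
    (σ : Γ(X, f ⁻¹ᵁ V)) (a b : Γ(Y, V)) (hb : b ≠ 0) (h : f.app V b * σ = f.app V a) :
    ∃ t : Γ(Y, V), f.app V t = σ := by
  obtain ⟨y₀, hy₀⟩ := (inferInstance : Nonempty V)
  obtain ⟨x₀, hx₀⟩ := hf y₀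
  haveI : IsDomain Γ(X, f ⁻¹ᵁ V) := @AlgebraicGeometry.IsIntegral.component_integral _ _ (f ⁻¹ᵁ V) ⟨⟨x₀, show f x₀ ∈ V from hx₀.symm ▸ hy₀⟩⟩
  haveI : IsNoetherianRing Γ(Y, V) := IsLocallyNoetherian.component_noetherian ⟨V, hV⟩
  haveI := H18NormExt.isIntegrallyClosed_section hY hV
  have hinj := app_injective_of_surjective f hf V
  let K := FractionRing Γ(Y, V)
  have hbK : algebraMap Γ(Y, V) K b ≠ 0 := (map_ne_zero_iff _ (IsFractionRing.injective _ K)).2 hb
  rcases eq_or_ne a 0 with rfl | ha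
  · refine ⟨0, ?_⟩
    rw [map_zero, mul_eq_zero] at h
    exact (map_zero _).trans (h.resolve_left fun h' => hb (hinj (h'.trans (map_zero _).symm))).symm
  obtain ⟨t, ht⟩ := S2111.result (algebraMap Γ(Y, V) K a / algebraMap Γ(Y, V) K b) fun P _ hP => by
    haveI : ValuationRing (Localization.AtPrime P) := by
      haveI : IsIntegrallyClosed (Localization.AtPrime P) :=
        isIntegrallyClosed_of_isLocalization _ P.primeCompl P.primeCompl_le_nonZeroDivisors
      have hdim : ringKrullDim (Localization.AtPrime P) = 1 := by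
        rw [IsLocalization.AtPrime.ringKrullDim_eq_height P (Localization.AtPrime P), hP]
        rfl
      haveI : Ring.KrullDimLE 1 (Localization.AtPrime P) := Ring.krullDimLE_iff.2 (hdim.le.trans (le_of_eq Nat.cast_one.symm))
      have h4 : IsIntegrallyClosed (Localization.AtPrime P) ∧ ∀ Q : Ideal (Localization.AtPrime P), Q ≠ ⊥ →
          Q.IsPrime → Q = IsLocalRing.maximalIdeal _ :=
        ⟨inferInstance, fun Q hQ0 hQ => IsLocalRing.eq_maximalIdeal
          (Ring.krullDimLE_one_iff_of_isPrime_bot.1 inferInstance Q hQ0 hQ)⟩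
      exact ((tfae_of_isNoetherianRing_of_isLocalRing_of_isDomain (Localization.AtPrime P)).out 3 1).1 h4
    rcases ValuationRing.isInteger_or_isInteger (Localization.AtPrime P)
      (algebraMap Γ(Y, V) K a / algebraMap Γ(Y, V) K b) with hint | ⟨w, hw⟩
    · exact hint
    · by_cases hu : IsUnit w
      · obtain ⟨v, rfl⟩ := hu
        exact ⟨↑v⁻¹, by rw [map_units_inv, hw, inv_inv]⟩
      · exfalso
        obtain ⟨⟨c, d⟩, hcd⟩ := IsLocalization.surj P.primeCompl w
        -- b * d = a * c with c in P and d outside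
        have hc : c ∈ P := by
          by_contra hc
          refine hu (isUnit_of_mul_isUnit_left (y := algebraMap Γ(Y, V) (Localization.AtPrime P) d) ?_)
          rw [hcd]
          exact IsLocalization.map_units _ (⟨c, hc⟩ : P.primeCompl)
        have h2 : b * d = a * c := by
          apply IsFractionRing.injective Γ(Y, V) K
          have h3 := congrArg (algebraMap (Localization.AtPrime P) K) hcd
          rw [map_mul, hw, inv_div, ← IsScalarTower.algebraMap_apply, ← IsScalarTower.algebraMap_apply,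
            div_mul_eq_mul_div, div_eq_iff ((map_ne_zero_iff _ (IsFractionRing.injective _ K)).2 ha)] at h3
          rw [map_mul, map_mul, h3, mul_comm]
        have h4 : f.app V c * σ = f.app V d := by
          refine mul_left_cancel₀ (a := f.app V a) (fun h' => ha (hinj (h'.trans (map_zero _).symm))) ?_
          rw [← mul_assoc, ← map_mul, ← h2, map_mul, mul_right_comm, h]
        obtain ⟨x, hx⟩ := hf (hV.fromSpec (⟨P, ‹_›⟩ : PrimeSpectrum Γ(Y, V)))
        have hmem : hV.fromSpec (⟨P, ‹_›⟩ : PrimeSpectrum Γ(Y, V)) ∈ V := by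
          rw [← SetLike.mem_coe, ← hV.range_fromSpec]; exact ⟨_, rfl⟩
        have hxV : f x ∈ V := hx.symm ▸ hmem
        have key : ∀ e : Γ(Y, V), IsUnit (Y.presheaf.germ V (f x) hxV e) ↔ e ∉ P := fun e => by
          rw [← Y.mem_basicOpen, hx]
          show (⟨P, ‹_›⟩ : PrimeSpectrum Γ(Y, V)) ∈ hV.fromSpec ⁻¹ᵁ Y.basicOpen e ↔ _
          rw [IsAffineOpen.fromSpec_preimage_basicOpen hV e]
          rfl
        have hcu : IsUnit (f.stalkMap x (Y.presheaf.germ V (f x) hxV c)) := by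
          rw [Scheme.Hom.germ_stalkMap_apply]
          have h5 := congrArg (X.presheaf.germ (f ⁻¹ᵁ V) x hxV) h4
          rw [map_mul] at h5
          refine isUnit_of_mul_isUnit_left (y := X.presheaf.germ (f ⁻¹ᵁ V) x hxV σ) ?_
          rw [h5, ← Scheme.Hom.germ_stalkMap_apply]
          exact ((key _).2 d.2).map _
        exact (key c).1 (isUnit_of_map_unit (f.stalkMap x).hom _ hcu) hc
  refine ⟨t, mul_left_cancel₀ (a := f.app V b) (fun h' => hb (hinj (h'.trans (map_zero _).symm))) ?_⟩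
  rw [h, ← map_mul]
  refine congrArg (f.app V) (IsFractionRing.injective Γ(Y, V) K ?_)
  rw [map_mul, ht, mul_div_cancel₀ _ hbK]

theorem appTop_fromSpec {K' : Type u} [CommRing K'] {U : X.Opens} (hU : IsAffineOpen U) (φ : Γ(X, U) ⟶ CommRingCat.of.{u} K') (s : Γ(X, ⊤)) :
    (Scheme.ΓSpecIso (CommRingCat.of K')).hom ((Spec.map φ ≫ hU.fromSpec).appTop s) =
      φ (X.presheaf.map (homOfLE le_top).op s) := by
  have h1 : hU.fromSpec.appTop = X.presheaf.map (homOfLE (le_top : U ≤ ⊤)).op ≫ (Scheme.ΓSpecIso Γ(X, U)).inv := by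
    rw [Scheme.Hom.appTop, hU.fromSpec_app_of_le ⊤ le_top]
    simp
  rw [Scheme.Hom.comp_appTop, h1]
  show (X.presheaf.map (homOfLE le_top).op ≫ (Scheme.ΓSpecIso Γ(X, U)).inv ≫ (Spec.map φ).appTop ≫
    (Scheme.ΓSpecIso (CommRingCat.of K')).hom) s = _
  rw [Scheme.ΓSpecIso_naturality, Iso.inv_hom_id_assoc]
  rfl

/-- A function constant on the fibres of a surjection onto a normal variety descends. -/
theorem exists_descend (k : Type u) [Field k] [IsAlgClosed k] [CharZero k] [IsIntegral X] [IsIntegral Y]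
    (pX : X ⟶ Spec (CommRingCat.of k)) (pY : Y ⟶ Spec (CommRingCat.of k)) (hfp : f ≫ pY = pX)
    [LocallyOfFiniteType pX] [IsLocallyNoetherian Y]
    (hY : Pi1.IsNormalScheme Y) (hf : Function.Surjective f) (s : Γ(X, ⊤))
    (hs : ∀ x₁ x₂ : Spec (CommRingCat.of k) ⟶ X,
      x₁ ≫ pX = 𝟙 _ → x₂ ≫ pX = 𝟙 _ → x₁ ≫ f = x₂ ≫ f → x₁.appTop.hom s = x₂.appTop.hom s) :
    ∃ r : Γ(Y, ⊤), f.appTop.hom r = s := by
  let ι := {V : Y.Opens // IsAffineOpen V ∧ Nonempty V}
  have hloc : ∀ i : ι, ∃ t : Γ(Y, i.1), f.app i.1 t = X.presheaf.map (homOfLE le_top).op s := by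
    rintro ⟨V, hV, hne⟩
    haveI := hne
    obtain ⟨y₀, hy₀⟩ := hne
    obtain ⟨x₀, hx₀⟩ := hf y₀
    obtain ⟨U, hU, hxU, hUV'⟩ := exists_isAffineOpen_mem_and_subset (x := x₀) (U := f ⁻¹ᵁ V)
      (show f x₀ ∈ V from hx₀.symm ▸ hy₀)
    have hUV : U ≤ f ⁻¹ᵁ V := hUV'
    haveI : Nonempty U := ⟨⟨x₀, hxU⟩⟩
    haveI : Nonempty V := ⟨⟨y₀, hy₀⟩⟩
    haveI : IsDomain Γ(Y, V) := AlgebraicGeometry.IsIntegral.component_integral _
    haveI : IsDomain Γ(X, U) := AlgebraicGeometry.IsIntegral.component_integral _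
    obtain ⟨ψ, hψ⟩ := Spec.map_surjective (hV.fromSpec ≫ pY)
    letI : Algebra k Γ(Y, V) := ψ.hom.toAlgebra
    letI : Algebra Γ(Y, V) Γ(X, U) := (f.appLE V U hUV).hom.toAlgebra
    letI : Algebra k Γ(X, U) := (ψ ≫ f.appLE V U hUV).hom.toAlgebra
    haveI : IsScalarTower k Γ(Y, V) Γ(X, U) := IsScalarTower.of_algebraMap_eq fun _ => rfl
    have hpU : Spec.map (ψ ≫ f.appLE V U hUV) = hU.fromSpec ≫ pX := by
      rw [Spec.map_comp, hψ, IsAffineOpen.SpecMap_appLE_fromSpec_assoc f hV hU hUV, hfp]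
    haveI : Algebra.FiniteType k Γ(X, U) := by
      haveI : LocallyOfFiniteType (Spec.map (ψ ≫ f.appLE V U hUV)) := by rw [hpU]; infer_instance
      exact RingHom.finiteType_algebraMap.1 ((HasRingHomProperty.Spec_iff (P := @LocallyOfFiniteType)).1 ‹_›)
    haveI : Nonempty ↥(f ⁻¹ᵁ V) := ⟨⟨x₀, show f x₀ ∈ V from hx₀.symm ▸ hy₀⟩⟩
    have hres : Function.Injective (X.presheaf.map (homOfLE hUV).op) := map_injective_of_isIntegral X (homOfLE hUV)
    have hinj : Function.Injective (algebraMap Γ(Y, V) Γ(X, U)) :=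
      hres.comp (app_injective_of_surjective f hf V)
    obtain ⟨a, b, hb, hab⟩ := exists_mul_eq k Γ(Y, V) Γ(X, U) hinj (X.presheaf.map (homOfLE le_top).op s)
      fun φ₁ φ₂ hφ => by
        have hpt : ∀ φ : Γ(X, U) →ₐ[k] k, (Spec.map (CommRingCat.ofHom φ.toRingHom) ≫ hU.fromSpec) ≫ pX = 𝟙 _ := by
          intro φ
          rw [Category.assoc, ← hpU, ← Spec.map_comp, ← Spec.map_id]
          exact congrArg Spec.map (CommRingCat.hom_ext φ.comp_algebraMap)
        have h := congrArg (Scheme.ΓSpecIso (CommRingCat.of k)).hom (hs (Spec.map (CommRingCat.ofHom φ₁.toRingHom) ≫ hU.fromSpec)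
          (Spec.map (CommRingCat.ofHom φ₂.toRingHom) ≫ hU.fromSpec) (hpt φ₁) (hpt φ₂) (by
            rw [Category.assoc, Category.assoc, ← IsAffineOpen.SpecMap_appLE_fromSpec f hV hU hUV, ← Category.assoc,
              ← Category.assoc, ← Spec.map_comp, ← Spec.map_comp]
            exact congrArg (fun ψ => Spec.map ψ ≫ hV.fromSpec) (CommRingCat.hom_ext (RingHom.ext hφ))))
        erw [appTop_fromSpec hU, appTop_fromSpec hU] at h
        exact h
    refine exists_app_eq f hY hf hV _ a b hb (hres ?_)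
    rw [map_mul]
    refine Eq.trans ?_ hab
    refine congrArg (_ * ·) ?_
    rw [← ConcreteCategory.comp_apply, ← X.presheaf.map_comp]
    rfl
  choose t ht using hloc
  have hcomp : TopCat.Presheaf.IsCompatible Y.presheaf (fun i : ι => i.1) t := fun i j => by
    refine app_injective_of_surjective f hf _ ?_
    rw [← ConcreteCategory.comp_apply, ← ConcreteCategory.comp_apply, Scheme.Hom.naturality, Scheme.Hom.naturality,
      ConcreteCategory.comp_apply, ConcreteCategory.comp_apply, ht, ht, ← ConcreteCategory.comp_apply,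
      ← ConcreteCategory.comp_apply, ← X.presheaf.map_comp, ← X.presheaf.map_comp]
    rfl
  obtain ⟨r, hr, -⟩ := Y.sheaf.existsUnique_gluing' (fun i : ι => i.1) ⊤ (fun i => homOfLE le_top)
    (fun y _ => by
      obtain ⟨V, hV, hyV, -⟩ := exists_isAffineOpen_mem_and_subset (U := (⊤ : Y.Opens)) (x := y) trivial
      exact Opens.mem_iSup.2 ⟨⟨V, hV, ⟨⟨y, hyV⟩⟩⟩, hyV⟩) t hcomp
  refine ⟨r, ?_⟩
  obtain ⟨x⟩ := (inferInstance : Nonempty X)
  obtain ⟨V, hV, hyV, -⟩ := exists_isAffineOpen_mem_and_subset (U := (⊤ : Y.Opens)) (x := f x) trivial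
  haveI : Nonempty ↥(f ⁻¹ᵁ V) := ⟨⟨x, hyV⟩⟩
  refine map_injective_of_isIntegral X (H := ⟨⟨x, hyV⟩⟩) (homOfLE (le_top : f ⁻¹ᵁ V ≤ ⊤)) ?_
  refine Eq.trans ?_ (ht ⟨V, hV, ⟨⟨f x, hyV⟩⟩⟩)
  rw [← hr ⟨V, hV, ⟨⟨f x, hyV⟩⟩⟩]
  exact (DFunLike.congr_fun (congrArg CommRingCat.Hom.hom (f.naturality (homOfLE (le_top : V ≤ ⊤)).op)) r).symm

end Groth.Agent.H22Alg.FunctionDescent
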