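import Groth.Agent.H22Alg.GGDescent
import Groth.Agent.H8Props.RelFP.PullSections

/-! # Global sections under flat base change of the affine base, as a base change of modules over the global functions. -/

set_option autoImplicit false
set_option linter.style.haveILetI false

universe u

open CategoryTheory CategoryTheory.Limits AlgebraicGeometry Opposite TopologicalSpace
open scoped TensorProduct

noncomputable section

namespace Groth.Agent.H22Alg.GammaBC

open Groth.Agent.LeadBC Groth.Agent.LeadBC.GenBC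

attribute [local instance 10000] H10Coh.hasSheafifyAb H10Coh.hasWeakSheafifyAb H10Coh.hasExtAb H10Coh.enoughInjAb

variable {A A' : Type u} [CommRing A] [CommRing A'] [Algebra A A'] {X X' : Scheme.{u}}
  {f : X ⟶ Spec (CommRingCat.of A)} {f' : X' ⟶ Spec (CommRingCat.of A')} {g' : X' ⟶ X}

theorem appLE_top {X Y : Scheme.{u}} (f : X ⟶ Y) (h : (⊤ : X.Opens) ≤ f ⁻¹ᵁ (⊤ : Y.Opens)) :
    f.appLE ⊤ ⊤ h = f.appTop := (Scheme.Hom.app_eq_appLE f).symm

theorem isPushout_global [Module.Flat A A'] [CompactSpace X] [QuasiSeparatedSpace X]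
    (h : IsPullback g' f' f (Spec.map (CommRingCat.ofHom (algebraMap A A')))) :
    IsPushout f.appTop (Spec.map (CommRingCat.ofHom (algebraMap A A'))).appTop g'.appTop f'.appTop := by
  let g := Spec.map (CommRingCat.ofHom (algebraMap A A'))
  haveI : Flat g := Flat.SpecMap_iff.2 (RingHom.flat_algebraMap_iff.2 inferInstance)
  have h1 : (⊤ : (Spec (CommRingCat.of A')).Opens) ≤ g ⁻¹ᵁ (⊤ : (Spec (CommRingCat.of A)).Opens) := fun _ _ => trivial
  have h2 : (⊤ : X.Opens) ≤ f ⁻¹ᵁ (⊤ : (Spec (CommRingCat.of A)).Opens) := fun _ _ => trivial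
  have h3 : (⊤ : X'.Opens) = g' ⁻¹ᵁ (⊤ : X.Opens) ⊓ f' ⁻¹ᵁ (⊤ : (Spec (CommRingCat.of A')).Opens) := by
    ext; simp
  haveI := isIso_pushoutSection_of_isQuasiSeparated_of_flat_right (UY := ⊤) h h1 h2 h3 (isAffineOpen_top _)
    (isAffineOpen_top _) CompactSpace.isCompact_univ (IsQuasiSeparated.of_quasiSeparatedSpace _)
  have := (isIso_pushoutSection_iff h h1 h2 h3).1 ‹_›
  rw [appLE_top f, appLE_top g, appLE_top g', appLE_top f'] at this
  exact this

theorem faithfullyFlat_global [Module.FaithfullyFlat A A'] [CompactSpace X] [QuasiSeparatedSpace X]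
    (h : IsPullback g' f' f (Spec.map (CommRingCat.ofHom (algebraMap A A')))) :
    g'.appTop.hom.FaithfullyFlat := by
  let P := RingHom.toMorphismProperty RingHom.FaithfullyFlat
  haveI : P.RespectsIso := RingHom.toMorphismProperty_respectsIso_iff.1 RingHom.FaithfullyFlat.respectsIso
  haveI : P.IsStableUnderCobaseChange :=
    RingHom.isStableUnderCobaseChange_toMorphismProperty_iff.2 RingHom.FaithfullyFlat.isStableUnderBaseChange
  have h0 : P (CommRingCat.ofHom (algebraMap A A')) := RingHom.faithfullyFlat_algebraMap_iff.2 inferInstance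
  refine MorphismProperty.of_isPushout (P := P) (isPushout_global h) ?_
  exact (P.arrow_mk_iso_iff (arrowIsoΓSpecOfIsAffine (CommRingCat.ofHom (algebraMap A A')))).1 h0

theorem isBaseChange_global [Module.Flat A A'] [CompactSpace X] [QuasiSeparatedSpace X]
    (h : IsPullback g' f' f (Spec.map (CommRingCat.ofHom (algebraMap A A'))))
    (F : X.Modules) (hF : Coh.IsQCoh F) (hle'' : (⊤ : X'.Opens) ≤ g' ⁻¹ᵁ (⊤ : X.Opens)) :
    letI := (g'.appLE ⊤ ⊤ hle'').hom.toAlgebra
    letI := Module.compHom Γ((Scheme.Modules.pullback g').obj F, (⊤ : X'.Opens)) (g'.appLE ⊤ ⊤ hle'').hom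
    haveI : IsScalarTower Γ(X, ⊤) Γ(X', ⊤) Γ((Scheme.Modules.pullback g').obj F, (⊤ : X'.Opens)) :=
      .of_algebraMap_smul fun _ _ => rfl
    IsBaseChange Γ(X', ⊤) (H8Props.PullSections.pullLin g' F hle'') := by
  let g := Spec.map (CommRingCat.ofHom (algebraMap A A'))
  haveI : F.IsQuasicoherent := hF
  haveI : Coh.IsQCoh F := hF
  haveI : Flat g := Flat.SpecMap_iff.2 (RingHom.flat_algebraMap_iff.2 inferInstance)
  haveI : QuasiCompact f := (quasiCompact_iff_compactSpace f).2 inferInstance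
  haveI : QuasiSeparated f := (quasiSeparated_iff_quasiSeparatedSpace f).2 inferInstance
  letI := (g'.appLE ⊤ ⊤ hle'').hom.toAlgebra
  letI := Module.compHom Γ((Scheme.Modules.pullback g').obj F, (⊤ : X'.Opens)) (g'.appLE ⊤ ⊤ hle'').hom
  haveI : IsScalarTower Γ(X, ⊤) Γ(X', ⊤) Γ((Scheme.Modules.pullback g').obj F, (⊤ : X'.Opens)) :=
    .of_algebraMap_smul fun _ _ => rfl
  let F' := (Scheme.Modules.pullback g').obj F
  let θ : Γ(X', ⊤) ⊗[Γ(X, ⊤)] Γ(F, ⊤) →ₗ[Γ(X', ⊤)] Γ(F', ⊤) :=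
    LinearMap.liftBaseChange Γ(X', ⊤) (H8Props.PullSections.pullLin g' F hle'')
  refine Function.Bijective.comp (g := θ) ⟨?_, fun σ => ?_⟩ Function.bijective_id
  rotate_left
  · refine (Submodule.span_le.2 ?_ (GGDescent.global_mem_span h F hF σ) : σ ∈ LinearMap.range θ)
    rintro _ ⟨m, rfl⟩
    refine ⟨1 ⊗ₜ m, ?_⟩
    rw [LinearMap.liftBaseChange_tmul, one_smul]
    exact H10Coh.mres_self _ _ _
  haveI : IsIso (((Scheme.Modules.pullbackPushforwardAdjunction g).homEquiv _ _).symm (GenBC.τ₀ f F h)) := by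
    rw [← Seesaw.bc0Adj_eq f h F]
    have h0 := Groth.Agent.S11133.result f g g' f' h F
    rw [CohBC.bc0Adj, Adjunction.homEquiv_counit]
    simp only [Functor.map_comp, Category.assoc] at h0 ⊢
    simpa only [Iso.trans_hom, NatTrans.comp_app, Iso.symm_hom, Functor.map_comp, Category.assoc] using h0
  have hle : (⊤ : (Spec (CommRingCat.of A')).Opens) ≤ g ⁻¹ᵁ (⊤ : (Spec (CommRingCat.of A)).Opens) := fun _ _ => trivial
  have hle' : f' ⁻¹ᵁ (⊤ : (Spec (CommRingCat.of A')).Opens) ≤ g' ⁻¹ᵁ (f ⁻¹ᵁ (⊤ : (Spec (CommRingCat.of A)).Opens)) :=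
    fun _ _ => trivial
  letI := (g.appLE ⊤ ⊤ hle).hom.toAlgebra
  let P := (Scheme.Modules.pushforward f').obj F'
  let N := (Scheme.Modules.pushforward f).obj F
  letI := Module.compHom Γ(P, ⊤) (g.appLE ⊤ ⊤ hle).hom
  haveI : IsScalarTower Γ(Spec (CommRingCat.of A), ⊤) Γ(Spec (CommRingCat.of A'), ⊤) Γ(P, ⊤) :=
    .of_algebraMap_smul fun _ _ => rfl
  obtain ⟨c, hc, hcf⟩ := exists_transpose_app g (H10Coh.isQuasicoherent_pushforward f F) (GenBC.τ₀ f F h)
    (isAffineOpen_top _) (isAffineOpen_top _) hle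
  have hK : Function.Bijective
      (LinearMap.liftBaseChange Γ(Spec (CommRingCat.of A'), ⊤) (H10Coh.FBC.locLin g (GenBC.τ₀ f F h) hle)) := by
    rw [hcf]
    exact (ConcreteCategory.bijective_of_isIso
      ((((Scheme.Modules.pullbackPushforwardAdjunction g).homEquiv _ _).symm (GenBC.τ₀ f F h)).app ⊤)).comp hc
  have hgl : g.appLE ⊤ ⊤ hle = g.appTop := appLE_top _ hle
  have hgl' : g'.appLE ⊤ ⊤ hle'' = g'.appTop := appLE_top _ hle''
  have hcomm : ∀ r : Γ(Spec (CommRingCat.of A), ⊤),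
      f'.appTop (g.appLE ⊤ ⊤ hle r) = g'.appLE ⊤ ⊤ hle'' (f.appTop r) := fun r => by
    rw [hgl, hgl']
    exact congr($((isPushout_global h).w.symm) r)
  let ν : Γ(Spec (CommRingCat.of A'), ⊤) ⊗[Γ(Spec (CommRingCat.of A), ⊤)] Γ(N, ⊤) →+
      Γ(X', ⊤) ⊗[Γ(X, ⊤)] Γ(F, ⊤) :=
    TensorProduct.liftAddHom
      (AddMonoidHom.mk' (fun b => AddMonoidHom.mk' (fun m : Γ(N, ⊤) =>
          (f'.appTop b ⊗ₜ (show Γ(F, ⊤) from m) : Γ(X', ⊤) ⊗[Γ(X, ⊤)] Γ(F, ⊤)))
        fun m n => TensorProduct.tmul_add _ _ _)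
        fun a b => by ext m; exact (congrArg (· ⊗ₜ[Γ(X, ⊤)] _) (map_add _ a b)).trans (TensorProduct.add_tmul _ _ _))
      fun r b m => by
        show f'.appTop (g.appLE ⊤ ⊤ hle r * b) ⊗ₜ (show Γ(F, ⊤) from m) =
          f'.appTop b ⊗ₜ[Γ(X, ⊤)] (show Γ(F, ⊤) from f.appTop r • (show Γ(F, ⊤) from m))
        rw [TensorProduct.tmul_smul, TensorProduct.smul_tmul']
        congr 1
        rw [map_mul, hcomm]
        rfl
  have hθν : ∀ z, θ (ν z) = (show Γ(F', ⊤) from
      LinearMap.liftBaseChange Γ(Spec (CommRingCat.of A'), ⊤) (H10Coh.FBC.locLin g (GenBC.τ₀ f F h) hle) z) := by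
    intro z
    induction z using TensorProduct.induction_on with
    | zero => rw [map_zero, map_zero, map_zero]; rfl
    | add a b ha hb => rw [map_add, map_add, ha, hb, map_add]; rfl
    | tmul b m =>
      erw [LinearMap.liftBaseChange_tmul, LinearMap.liftBaseChange_tmul]
      exact congrArg ((f'.appTop b) • ·) (Seesaw.locLin_τ₀ f F h hle hle' m).symm
  have hν : ∀ (s : Γ(X', ⊤)) (m : Γ(F, ⊤)), s ⊗ₜ m ∈ AddMonoidHom.mrange ν := by
    letI := f.appTop.hom.toAlgebra
    letI := f'.appTop.hom.toAlgebra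
    letI := (f.appTop ≫ g'.appTop).hom.toAlgebra
    haveI : IsScalarTower Γ(Spec (CommRingCat.of A), ⊤) Γ(Spec (CommRingCat.of A'), ⊤) Γ(X', ⊤) :=
      .of_algebraMap_eq fun r => by
        show g'.appTop (f.appTop r) = f'.appTop (g.appLE ⊤ ⊤ hle r)
        rw [hcomm, hgl']
    haveI : IsScalarTower Γ(Spec (CommRingCat.of A), ⊤) Γ(X, ⊤) Γ(X', ⊤) :=
      .of_algebraMap_eq fun r => by
        show g'.appTop (f.appTop r) = g'.appLE ⊤ ⊤ hle'' (f.appTop r)
        rw [hgl']
    have hp : Algebra.IsPushout Γ(Spec (CommRingCat.of A), ⊤) Γ(Spec (CommRingCat.of A'), ⊤) Γ(X, ⊤) Γ(X', ⊤) := by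
      refine CommRingCat.isPushout_iff_isPushout.1 ?_
      have := (isPushout_global h).flip
      rw [← hgl, ← hgl'] at this
      exact this
    intro s
    suffices ∀ (b : Γ(Spec (CommRingCat.of A'), ⊤)) (m : Γ(F, ⊤)), (f'.appTop b * s) ⊗ₜ m ∈ AddMonoidHom.mrange ν by
      intro m; simpa using this 1 m
    induction s using hp.out.inductionOn with
    | zero => intro b m; rw [mul_zero, TensorProduct.zero_tmul]; exact zero_mem _
    | tmul r =>
      intro b m
      refine ⟨b ⊗ₜ (show Γ(N, ⊤) from r • m), ?_⟩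
      show f'.appTop b ⊗ₜ[Γ(X, ⊤)] (r • m) = _
      rw [TensorProduct.tmul_smul, TensorProduct.smul_tmul', Algebra.smul_def, mul_comm]
      rfl
    | smul b' s ih =>
      intro b m
      rw [Algebra.smul_def, ← mul_assoc]
      exact (map_mul f'.appTop.hom b b').symm ▸ ih (b * b') m
    | add s t hs ht => intro b m; rw [mul_add, TensorProduct.add_tmul]; exact add_mem (hs b m) (ht b m)
  have hνs : Function.Surjective ν := fun w => by
    induction w using TensorProduct.induction_on with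
    | zero => exact ⟨0, map_zero ν⟩
    | tmul s m => exact hν s m
    | add a b ha hb => obtain ⟨z, rfl⟩ := ha; obtain ⟨z', rfl⟩ := hb; exact ⟨z + z', map_add ν z z'⟩
  intro w w' hw
  obtain ⟨z, rfl⟩ := hνs w
  obtain ⟨z', rfl⟩ := hνs w'
  rw [hθν, hθν] at hw
  rw [hK.1 hw]

end Groth.Agent.H22Alg.GammaBC
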