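import Mathlib
import Groth.Agent.H22Alg.MulLawCH

/-!
Kernels of multiplicative laws with values in the base: membership criteria, characteristic
polynomials, and the kernel of the base change to polynomial rings.
-/

universe u

open scoped TensorProduct

namespace Groth.Agent.H22Alg.PL

open Polynomial

variable {A : Type u} [CommRing A] {B : Type u} [CommRing B] [Algebra A B] {d : ℕ}
  (F : PolLaw.MulLaw A B A d)

theorem bc_one_tmul {S : Type u} [CommRing S] [Algebra A S] (b : B) :
    bc (Algebra.ofId A S) ((1 : A) ⊗ₜ[A] b) = (1 : S) ⊗ₜ[A] b := by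
  simp

theorem bc_aeval {S S' : Type u} [CommRing S] [Algebra A S] [CommRing S'] [Algebra A S']
    (φ : S →ₐ[A] S') (z : S ⊗[A] B) (p : S[X]) :
    bc φ (aeval z p) = aeval (bc φ z) (p.map φ.toRingHom) := by
  rw [Polynomial.aeval_def, Polynomial.aeval_def, Polynomial.eval₂_map]
  refine (Polynomial.hom_eval₂ p (algebraMap S (S ⊗[A] B)) (bc φ).toRingHom z).trans ?_
  congr 1

theorem aeval_one_tmul {S : Type u} [CommRing S] [Algebra A S] (b : B) (p : A[X]) :
    aeval ((1 : S) ⊗ₜ[A] b) (p.map (algebraMap A S)) = (1 : S) ⊗ₜ[A] aeval b p := by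
  rw [Polynomial.aeval_map_algebraMap,
    show (1 : S) ⊗ₜ[A] b = (Algebra.TensorProduct.includeRight : B →ₐ[A] S ⊗[A] B) b from rfl,
    Polynomial.aeval_algHom_apply]
  rfl

theorem mem_ker_iff {b : B} : b ∈ PolLaw.ker F.law ↔
    ∀ (S : Type u) [CommRing S] [Algebra A S] (x w : S ⊗[A] B),
      nm F S (x + w * (1 ⊗ₜ[A] b)) = nm F S x := by
  constructor
  · intro h S _ _ x w
    exact congrArg (Algebra.TensorProduct.rid A S S) (h S x w)
  · intro h S i₁ i₂ x w
    letI : CommRing S := { Algebra.semiringToRing A, i₁ with }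
    exact (Algebra.TensorProduct.rid A S S).injective (h S x w)

theorem mem_kerBC_iff {A' : Type u} [CommRing A'] [Algebra A A'] {b' : A' ⊗[A] B} :
    b' ∈ PolLaw.kerBC F.law A' ↔
      ∀ (R : Type u) [CommRing R] [Algebra A R] (φ : A' →ₐ[A] R) (x w : R ⊗[A] B),
        nm F R (x + w * bc φ b') = nm F R x := by
  constructor
  · intro h R _ _ φ x w
    letI : Algebra A' R := φ.toRingHom.toAlgebra
    haveI : IsScalarTower A A' R := IsScalarTower.of_algebraMap_eq fun a => (φ.commutes a).symm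
    have : IsScalarTower.toAlgHom A A' R = φ := AlgHom.ext fun _ => rfl
    have h' := h R x w
    rw [this] at h'
    exact congrArg (Algebra.TensorProduct.rid A R R) h'
  · intro h R i₁ i₂ i₃ i₄ x w
    letI : CommRing R := { Algebra.semiringToRing A, i₁ with }
    exact (Algebra.TensorProduct.rid A R R).injective (h R (IsScalarTower.toAlgHom A A' R) x w)

theorem bc_mem_kerBC {A' A'' : Type u} [CommRing A'] [Algebra A A'] [CommRing A''] [Algebra A A'']
    (ψ : A' →ₐ[A] A'') {b' : A' ⊗[A] B} (h : b' ∈ PolLaw.kerBC F.law A') :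
    bc ψ b' ∈ PolLaw.kerBC F.law A'' := by
  rw [mem_kerBC_iff] at h ⊢
  intro R _ _ φ x w
  rw [bc_bc]
  exact h R _ x w

theorem map_ker_le_kerBC (A' : Type u) [CommRing A'] [Algebra A A'] :
    (PolLaw.ker F.law).map (Algebra.TensorProduct.includeRight : B →ₐ[A] A' ⊗[A] B) ≤
      PolLaw.kerBC F.law A' := by
  rw [Ideal.map_le_iff_le_comap]
  intro b hb
  rw [Ideal.mem_comap, mem_kerBC_iff]
  intro R _ _ φ x w
  rw [show bc φ ((Algebra.TensorProduct.includeRight : B →ₐ[A] A' ⊗[A] B) b) = (1 : R) ⊗ₜ[A] b by simp]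
  exact (mem_ker_iff F).mp hb R x w

/-- Cayley–Hamilton, relative form. -/
theorem ch_mem_kerBC {S : Type u} [CommRing S] [Algebra A S] (z : S ⊗[A] B) :
    aeval z (chi F z) ∈ PolLaw.kerBC F.law S := by
  rw [mem_kerBC_iff]
  intro R _ _ φ x w
  rw [bc_aeval, chi_bc]
  exact ch F (bc φ z) x w

/-- Cayley–Hamilton. -/
theorem ch_mem_ker (b : B) : aeval b (chi F ((1 : A) ⊗ₜ[A] b)) ∈ PolLaw.ker F.law := by
  rw [mem_ker_iff]
  intro S _ _ x w
  rw [← aeval_one_tmul (S := S) b]
  have h := ch F ((1 : S) ⊗ₜ[A] b) x w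
  rw [← bc_one_tmul, ← chi_bc] at h
  simpa using h

/-- A generator of the Cayley–Hamilton ideal and the defining formula. -/
theorem chi_one_tmul (b : B) : chi F ((1 : A) ⊗ₜ[A] b) = TensorProduct.rid A A[X]
    (F.law.toFun' A[X] ((1 : A[X]) ⊗ₜ[A] b - (X : A[X]) ⊗ₜ[A] (1 : B))) := by
  have : bc (cst A A) ((1 : A) ⊗ₜ[A] b) - (X : A[X]) • (1 : A[X] ⊗[A] B) =
      (1 : A[X]) ⊗ₜ[A] b - (X : A[X]) ⊗ₜ[A] (1 : B) := by
    simp [Algebra.TensorProduct.one_def, TensorProduct.smul_tmul']
  rw [chi, this, nm_def]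
  rfl

theorem chi_of_mem_kerBC {S : Type u} [CommRing S] [Algebra A S] {z : S ⊗[A] B}
    (hz : z ∈ PolLaw.kerBC F.law S) : chi F z = (-X) ^ d := by
  have h := (mem_kerBC_iff F).mp hz S[X] (cst A S) ((-X : S[X]) • 1) 1
  rw [one_mul, neg_smul, ← sub_eq_neg_add] at h
  rw [chi, h, ← neg_smul, nm_smul_one]

theorem chi_of_mem_ker {b : B} (hb : b ∈ PolLaw.ker F.law) {S : Type u} [CommRing S] [Algebra A S] :
    chi F ((1 : S) ⊗ₜ[A] b) = (-X) ^ d :=
  chi_of_mem_kerBC F (map_ker_le_kerBC F S (Ideal.mem_map_of_mem _ hb))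

open Classical in
/-- The characteristic polynomial is `(-X)^d` plus lower terms. -/
theorem natDegree_chi_sub_lt {S : Type u} [CommRing S] [Algebra A S] (z : S ⊗[A] B) {k : ℕ} (hk : d ≤ k) :
    (chi F z - (-X) ^ d).coeff k = 0 := by
  obtain ⟨s, v, hv⟩ := exists_sum_eq (b := (id : B → B)) (by simp) z
  set T := s.map Function.Embedding.some with hT
  have hn : none ∉ T := by simp [hT]
  let b' : Option B → B := fun o => o.elim 1 id
  let v' : Option B → S[X] := fun o => o.elim (-X) fun j => C (v j)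
  have harg : bc (cst A S) z - (X : S[X]) • (1 : S[X] ⊗[A] B) = ∑ o ∈ insert none T, v' o ⊗ₜ[A] b' o := by
    rw [Finset.sum_insert hn, hT, Finset.sum_map, hv, map_sum]
    simp [v', b', Algebra.TensorProduct.one_def, TensorProduct.smul_tmul', TensorProduct.neg_tmul, sub_eq_add_neg,
      add_comm]
  rw [chi, nm_def, harg, eval_sum F.homog, map_sum,
    Finset.sum_eq_add_sum_sdiff_singleton_of_mem (i := Finsupp.single none d)
      (Finset.mem_finsuppAntidiag'.mpr ⟨by simp,
        Finsupp.support_single_subset.trans (by simp)⟩),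
    co_single_one F (b := b') (j := none) rfl]
  have h0 : (Finsupp.single none d : Option B →₀ ℕ).prod (fun j k => v' j ^ k) = (-X) ^ d := by
    simp [v']
  rw [h0, Algebra.TensorProduct.rid_tmul, one_smul, add_sub_cancel_left, finsetSum_coeff]
  refine Finset.sum_eq_zero fun ν hν => ?_
  simp only [Finset.mem_sdiff, Finset.mem_singleton] at hν
  obtain ⟨hsum, hsupp⟩ := Finset.mem_finsuppAntidiag'.mp hν.1
  have hlt : ν none < d := by
    rw [← hsum]
    by_contra hge
    apply hν.2
    have htot : ν.sum (fun _ k => k) = ν none + (ν.erase none).sum fun _ k => k := by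
      rw [← Finsupp.add_sum_erase' ν none (fun _ k => k) fun _ => rfl]
    have he : ν.erase none = 0 := by
      ext o
      by_contra ho
      have : 0 < (ν.erase none).sum fun _ k => k :=
        Finset.sum_pos' (fun _ _ => Nat.zero_le _) ⟨o, Finsupp.mem_support_iff.mpr ho, Nat.pos_of_ne_zero ho⟩
      omega
    ext o
    have := DFunLike.congr_fun he o
    cases o with
    | none =>
      rw [Finsupp.single_eq_same]
      rw [he, Finsupp.sum_zero_index, add_zero] at htot
      exact htot.symm.trans hsum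
    | some j => simpa using this
  rw [Algebra.TensorProduct.rid_tmul, Polynomial.coeff_smul]
  refine (congrArg _ ?_).trans (smul_zero _)
  obtain ⟨c, hc⟩ : ∃ c : S, (ν.prod fun j k => v' j ^ k) = (-X) ^ ν none * C c := by
    refine ⟨(ν.erase none).prod fun j k => (j.elim (1 : S) v) ^ k, ?_⟩
    rw [map_finsuppProd]
    rw [← Finsupp.mul_prod_erase' ν none (fun j k => v' j ^ k) fun _ => pow_zero _]
    congr 1
    refine Finset.prod_congr rfl fun j hj => ?_
    cases j with
    | none => simp at hj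
    | some j => simp [v']
  rw [hc, neg_pow, mul_right_comm, ← C_1, ← C_neg, ← C_pow, ← C_mul, Polynomial.coeff_C_mul,
    Polynomial.coeff_X_pow, if_neg (by omega), mul_zero]

theorem coeff_chi_top {S : Type u} [CommRing S] [Algebra A S] (z : S ⊗[A] B) :
    (chi F z).coeff d = (-1) ^ d := by
  have h := natDegree_chi_sub_lt F z le_rfl
  rw [coeff_sub, sub_eq_zero] at h
  rw [h, neg_pow, ← C_1, ← C_neg, ← C_pow, coeff_C_mul, coeff_X_pow, if_pos rfl, mul_one]

theorem coeff_chi_gt {S : Type u} [CommRing S] [Algebra A S] (z : S ⊗[A] B) {k : ℕ} (hk : d < k) :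
    (chi F z).coeff k = 0 := by
  have h := natDegree_chi_sub_lt F z hk.le
  rw [coeff_sub, sub_eq_zero] at h
  rw [h, neg_pow, ← C_1, ← C_neg, ← C_pow, coeff_C_mul, coeff_X_pow, if_neg hk.ne', mul_zero]

theorem natDegree_chi_le {S : Type u} [CommRing S] [Algebra A S] (z : S ⊗[A] B) :
    (chi F z).natDegree ≤ d :=
  natDegree_le_iff_coeff_eq_zero.mpr fun _ hk => coeff_chi_gt F z hk

theorem natDegree_chi {S : Type u} [CommRing S] [Algebra A S] [Nontrivial S] (z : S ⊗[A] B) :
    (chi F z).natDegree = d :=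
  (natDegree_chi_le F z).antisymm <| le_natDegree_of_ne_zero <| by
    rw [coeff_chi_top]
    exact (isUnit_one.neg.pow d).ne_zero

/-- A unit multiple of the characteristic polynomial is monic. -/
theorem monic_chi {S : Type u} [CommRing S] [Algebra A S] (z : S ⊗[A] B) :
    (C ((-1 : S) ^ d) * chi F z).Monic := by
  refine monic_of_natDegree_le_of_coeff_eq_one d ?_ ?_
  · exact (natDegree_C_mul_le _ _).trans (natDegree_chi_le F z)
  · rw [coeff_C_mul, coeff_chi_top, ← mul_pow, neg_mul_neg, one_mul, one_pow]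

end Groth.Agent.H22Alg.PL
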