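import Mathlib
import Groth.Agent.H22Alg.MulLawKer

/-!
The law over `A'` attached to a multiplicative law `B → A'` over `A`, on `A' ⊗ B`.
-/

universe u

open scoped TensorProduct

namespace Groth.Agent.H22Alg.PL

variable {A : Type u} [CommRing A] {A' : Type u} [CommRing A'] [Algebra A A']
  {B : Type u} [CommRing B] [Algebra A B] {d : ℕ}

section Maps

variable (A A' B) (S : Type u) [CommSemiring S] [Algebra A S] [Algebra A' S] [IsScalarTower A A' S]

/-- Forgetting a base change. -/
noncomputable def cancelBC : S ⊗[A'] (A' ⊗[A] B) ≃ₐ[S] S ⊗[A] B :=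
  Algebra.TensorProduct.cancelBaseChange A A' S S B

/-- The multiplication `S ⊗ A' → S`. -/
noncomputable def mulBC : S ⊗[A] A' →ₐ[A] S :=
  Algebra.TensorProduct.lift (AlgHom.id A S) ((Algebra.ofId A' S).restrictScalars A) fun _ _ => Commute.all _ _

@[simp] theorem cancelBC_tmul (s : S) (a : A') (b : B) :
    cancelBC A A' B S (s ⊗ₜ[A'] (a ⊗ₜ[A] b)) = (a • s) ⊗ₜ[A] b :=
  Algebra.TensorProduct.cancelBaseChange_tmul A A' S S B s a b

@[simp] theorem mulBC_tmul (s : S) (a : A') : mulBC A A' S (s ⊗ₜ[A] a) = s * algebraMap A' S a := rfl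

end Maps

/-- The value of the adjoint law on a test algebra. -/
noncomputable def adjFun (F : PolLaw.MulLaw A B A' d) (S : Type u) [CommSemiring S] [Algebra A S] [Algebra A' S]
    [IsScalarTower A A' S] (x : S ⊗[A'] (A' ⊗[A] B)) : S ⊗[A'] A' :=
  mulBC A A' S (F.law.toFun' S (cancelBC A A' B S x)) ⊗ₜ[A'] (1 : A')

theorem cancelBC_map {S S' : Type u} [CommSemiring S] [Algebra A S] [Algebra A' S] [IsScalarTower A A' S]
    [CommSemiring S'] [Algebra A S'] [Algebra A' S'] [IsScalarTower A A' S'] (φ : S →ₐ[A'] S')
    (x : S ⊗[A'] (A' ⊗[A] B)) :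
    cancelBC A A' B S' (φ.toLinearMap.rTensor _ x) = bc (φ.restrictScalars A) (cancelBC A A' B S x) := by
  induction x using TensorProduct.induction_on with
  | zero => simp
  | tmul s y =>
    induction y using TensorProduct.induction_on with
    | zero => simp
    | tmul a b => simp [map_smul]
    | add y y' hy hy' => simp only [TensorProduct.tmul_add, map_add, hy, hy']
  | add x x' hx hx' => simp only [map_add, hx, hx']

theorem mulBC_map {S S' : Type u} [CommSemiring S] [Algebra A S] [Algebra A' S] [IsScalarTower A A' S]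
    [CommSemiring S'] [Algebra A S'] [Algebra A' S'] [IsScalarTower A A' S'] (φ : S →ₐ[A'] S')
    (y : S ⊗[A] A') : mulBC A A' S' (bc (φ.restrictScalars A) y) = φ (mulBC A A' S y) := by
  induction y using TensorProduct.induction_on with
  | zero => simp
  | tmul s a => simp
  | add y y' hy hy' => simp only [map_add, hy, hy']

theorem adjFun_smul (F : PolLaw.MulLaw A B A' d) (S : Type u) [CommSemiring S] [Algebra A S] [Algebra A' S]
    [IsScalarTower A A' S] (s : S) (x : S ⊗[A'] (A' ⊗[A] B)) :
    adjFun F S (s • x) = s ^ d • adjFun F S x := by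
  rw [adjFun, adjFun, map_smul, F.homog, TensorProduct.smul_tmul']
  congr 1
  generalize F.law.toFun' S (cancelBC A A' B S x) = y
  induction y using TensorProduct.induction_on with
  | zero => simp
  | tmul t a => simp [TensorProduct.smul_tmul', mul_assoc]
  | add y y' hy hy' => simp only [smul_add, map_add, hy, hy']

theorem adjFun_one (F : PolLaw.MulLaw A B A' d) (S : Type u) [CommSemiring S] [Algebra A S] [Algebra A' S]
    [IsScalarTower A A' S] : adjFun F S 1 = 1 := by
  rw [adjFun, map_one, (F.mult S).1, map_one, Algebra.TensorProduct.one_def]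

theorem adjFun_mul (F : PolLaw.MulLaw A B A' d) (S : Type u) [CommSemiring S] [Algebra A S] [Algebra A' S]
    [IsScalarTower A A' S] (x y : S ⊗[A'] (A' ⊗[A] B)) :
    adjFun F S (x * y) = adjFun F S x * adjFun F S y := by
  rw [adjFun, adjFun, adjFun, map_mul, (F.mult S).2, map_mul, Algebra.TensorProduct.tmul_mul_tmul, one_mul]

/-- The composite algebra structure. -/
@[reducible] noncomputable def compAlg (A : Type u) [CommRing A] (A' : Type u) [CommRing A'] [Algebra A A']
    (S : Type u) [CommSemiring S] [Algebra A' S] : Algebra A S :=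
  ((algebraMap A' S).comp (algebraMap A A')).toAlgebra

theorem compAlg_tower (S : Type u) [CommSemiring S] [Algebra A' S] :
    letI := compAlg A A' S; IsScalarTower A A' S :=
  letI := compAlg A A' S; IsScalarTower.of_algebraMap_eq fun _ => rfl

/-- The adjoint law over `A'` of a multiplicative law `B → A'` over `A`. -/
noncomputable def adjLaw (F : PolLaw.MulLaw A B A' d) : PolLaw.MulLaw A' (A' ⊗[A] B) A' d where
  law :=
  { toFun' := fun S _ _ =>
      letI := compAlg A A' S
      haveI := compAlg_tower (A := A) (A' := A') S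
      adjFun F S
    isCompat' := by
      intro S _ _ S' _ _ φ
      letI := compAlg A A' S
      haveI := compAlg_tower (A := A) (A' := A') S
      letI := compAlg A A' S'
      haveI := compAlg_tower (A := A) (A' := A') S'
      funext x
      show φ.toLinearMap.rTensor A' (adjFun F S x) = adjFun F S' (φ.toLinearMap.rTensor _ x)
      rw [adjFun, adjFun, cancelBC_map, law_bc, mulBC_map, LinearMap.rTensor_tmul, AlgHom.toLinearMap_apply] }
  homog := fun S _ _ s x =>
    letI := compAlg A A' S
    haveI := compAlg_tower (A := A) (A' := A') S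
    adjFun_smul F S s x
  mult := fun S _ _ =>
    letI := compAlg A A' S
    haveI := compAlg_tower (A := A) (A' := A') S
    ⟨adjFun_one F S, adjFun_mul F S⟩

theorem adjLaw_apply (F : PolLaw.MulLaw A B A' d) (S : Type u) [CommSemiring S] [i : Algebra A S]
    [Algebra A' S] [IsScalarTower A A' S] (x : S ⊗[A'] (A' ⊗[A] B)) :
    (adjLaw F).law.toFun' S x = adjFun F S x := by
  have h : i = compAlg A A' S := Algebra.algebra_ext _ _ fun r => IsScalarTower.algebraMap_apply A A' S r
  subst h
  rfl

/-- The norm of the adjoint law. -/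
theorem nm_adjLaw (F : PolLaw.MulLaw A B A' d) {S : Type u} [CommRing S] [Algebra A S] [Algebra A' S]
    [IsScalarTower A A' S] (x : S ⊗[A'] (A' ⊗[A] B)) :
    nm (adjLaw F) S x = mulBC A A' S (F.law.toFun' S (cancelBC A A' B S x)) := by
  rw [nm_def, adjLaw_apply, adjFun, Algebra.TensorProduct.rid_tmul, one_smul]

end Groth.Agent.H22Alg.PL
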