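import Mathlib
import Groth.Agent.H22Alg.MulLawBaseChange
import Groth.Agent.H22Alg.PolLawGamma

/-!
Base change of multiplicative laws: extension and restriction of scalars, and the compatibility of
divided power algebras with base change.
-/

universe u

open scoped TensorProduct

namespace Groth.Agent.H22Alg.PL

open MvPolynomial

variable {A : Type u} [CommRing A] {A' : Type u} [CommRing A'] [Algebra A A']
  {B : Type u} [CommRing B] [Algebra A B] {Q : Type u} [CommRing Q] [Algebra A Q] [Algebra A' Q]
  [IsScalarTower A A' Q] {d : ℕ}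

section Maps

variable (S : Type u) [CommSemiring S] [Algebra A S] [Algebra A' S] [IsScalarTower A A' S]

/-- The canonical map from the tensor product over the smaller base. -/
noncomputable def toBC : S ⊗[A] Q →ₐ[A] S ⊗[A'] Q :=
  Algebra.TensorProduct.lift ((Algebra.TensorProduct.includeLeft (R := A') (S := A') (A := S) (B := Q)).restrictScalars A)
    ((Algebra.TensorProduct.includeRight (R := A') (A := S) (B := Q)).restrictScalars A) fun _ _ => Commute.all _ _

@[simp] theorem toBC_tmul (s : S) (q : Q) : toBC (A := A) (A' := A') S (s ⊗ₜ[A] q) = s ⊗ₜ[A'] q := by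
  simp [toBC]

end Maps

/-- The value of the extended law. -/
noncomputable def extFun (F : PolLaw.MulLaw A B Q d) (S : Type u) [CommSemiring S] [Algebra A S] [Algebra A' S]
    [IsScalarTower A A' S] (x : S ⊗[A'] (A' ⊗[A] B)) : S ⊗[A'] Q :=
  toBC (A := A) (A' := A') S (F.law.toFun' S (cancelBC A A' B S x))

theorem toBC_map {S S' : Type u} [CommSemiring S] [Algebra A S] [Algebra A' S] [IsScalarTower A A' S]
    [CommSemiring S'] [Algebra A S'] [Algebra A' S'] [IsScalarTower A A' S'] (φ : S →ₐ[A'] S')
    (y : S ⊗[A] Q) :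
    toBC (A := A) (A' := A') S' (bc (φ.restrictScalars A) y) =
      φ.toLinearMap.rTensor Q (toBC (A := A) (A' := A') S y) := by
  induction y using TensorProduct.induction_on with
  | zero => simp
  | tmul s a => simp
  | add y y' hy hy' => simp only [map_add, hy, hy']

theorem extFun_smul (F : PolLaw.MulLaw A B Q d) (S : Type u) [CommSemiring S] [Algebra A S] [Algebra A' S]
    [IsScalarTower A A' S] (s : S) (x : S ⊗[A'] (A' ⊗[A] B)) :
    extFun F S (s • x) = s ^ d • extFun F S x := by
  rw [extFun, extFun, map_smul, F.homog]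
  generalize F.law.toFun' S (cancelBC A A' B S x) = y
  induction y using TensorProduct.induction_on with
  | zero => simp
  | tmul t a => simp [TensorProduct.smul_tmul']
  | add y y' hy hy' => simp only [smul_add, map_add, hy, hy']

theorem extFun_one (F : PolLaw.MulLaw A B Q d) (S : Type u) [CommSemiring S] [Algebra A S] [Algebra A' S]
    [IsScalarTower A A' S] : extFun (A' := A') F S 1 = 1 := by
  rw [extFun, map_one, (F.mult S).1, map_one]

theorem extFun_mul (F : PolLaw.MulLaw A B Q d) (S : Type u) [CommSemiring S] [Algebra A S] [Algebra A' S]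
    [IsScalarTower A A' S] (x y : S ⊗[A'] (A' ⊗[A] B)) :
    extFun F S (x * y) = extFun F S x * extFun F S y := by
  rw [extFun, extFun, extFun, map_mul, (F.mult S).2, map_mul]

variable (A') in
/-- Extension of scalars of a multiplicative law with values in an `A'`-algebra. -/
noncomputable def extLaw (F : PolLaw.MulLaw A B Q d) : PolLaw.MulLaw A' (A' ⊗[A] B) Q d where
  law :=
  { toFun' := fun S _ _ =>
      letI := compAlg A A' S
      haveI := compAlg_tower (A := A) (A' := A') S
      extFun F S
    isCompat' := by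
      intro S _ _ S' _ _ φ
      letI := compAlg A A' S
      haveI := compAlg_tower (A := A) (A' := A') S
      letI := compAlg A A' S'
      haveI := compAlg_tower (A := A) (A' := A') S'
      funext x
      show φ.toLinearMap.rTensor Q (extFun F S x) = extFun F S' (φ.toLinearMap.rTensor _ x)
      rw [extFun, extFun, cancelBC_map, law_bc, toBC_map] }
  homog := fun S _ _ s x =>
    letI := compAlg A A' S
    haveI := compAlg_tower (A := A) (A' := A') S
    extFun_smul F S s x
  mult := fun S _ _ =>
    letI := compAlg A A' S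
    haveI := compAlg_tower (A := A) (A' := A') S
    ⟨extFun_one F S, extFun_mul F S⟩

theorem extLaw_apply (F : PolLaw.MulLaw A B Q d) (S : Type u) [CommSemiring S] [i : Algebra A S]
    [Algebra A' S] [IsScalarTower A A' S] (x : S ⊗[A'] (A' ⊗[A] B)) :
    (extLaw A' F).law.toFun' S x = extFun F S x := by
  have h : i = compAlg A A' S := Algebra.algebra_ext _ _ fun r => IsScalarTower.algebraMap_apply A A' S r
  subst h
  rfl

theorem co_extLaw (F : PolLaw.MulLaw A B Q d) {ι : Type u} (b : ι → B) (ν : ι →₀ ℕ) :
    co (extLaw A' F).law (fun j => (1 : A') ⊗ₜ[A] b j) ν = co F.law b ν := by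
  classical
  have h1 : ((extLaw A' F).law.toFun' (MvPolynomial ι A') (gen (fun j => (1 : A') ⊗ₜ[A] b j) ν.support)) =
      extFun F (MvPolynomial ι A') (gen (fun j => (1 : A') ⊗ₜ[A] b j) ν.support) :=
    extLaw_apply F _ _
  show cd _ ν = _
  rw [h1, extFun]
  have h2 : cancelBC A A' B (MvPolynomial ι A') (gen (fun j => (1 : A') ⊗ₜ[A] b j) ν.support) =
      ∑ j ∈ ν.support, (X j : MvPolynomial ι A') ⊗ₜ[A] b j := by
    simp [gen]
  rw [h2, eval_sum F.homog, map_sum, map_sum, Finsupp.finsetSum_apply, Finset.sum_eq_single ν]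
  · rw [toBC_tmul, cd_tmul, Finsupp.prod, MvPolynomial.prod_X_pow_eq_monomial, coeff_monomial, if_pos rfl, one_smul]
  · intro μ _ hμ
    rw [toBC_tmul, cd_tmul, Finsupp.prod, MvPolynomial.prod_X_pow_eq_monomial, coeff_monomial, if_neg hμ, zero_smul]
  · intro hν
    rw [co_eq_zero_of_degree_ne F.homog b fun hd => hν (Finset.mem_finsuppAntidiag'.mpr ⟨hd, subset_rfl⟩),
      TensorProduct.tmul_zero, map_zero, map_zero, Finsupp.zero_apply]

section Restrict

variable (A A') (B Q) (S : Type u) [CommSemiring S] [Algebra A S]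

/-- The base change of `S ⊗ B`. -/
noncomputable def upBC : S ⊗[A] B →ₐ[A] (A' ⊗[A] S) ⊗[A'] (A' ⊗[A] B) :=
  Algebra.TensorProduct.lift
    (((Algebra.TensorProduct.includeLeft (R := A') (S := A') (A := A' ⊗[A] S) (B := A' ⊗[A] B)).restrictScalars A).comp
      Algebra.TensorProduct.includeRight)
    (((Algebra.TensorProduct.includeRight (R := A') (A := A' ⊗[A] S) (B := A' ⊗[A] B)).restrictScalars A).comp
      Algebra.TensorProduct.includeRight)
    fun _ _ => Commute.all _ _

/-- Cancelling the base change in the values. -/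
noncomputable def downBC : (A' ⊗[A] S) ⊗[A'] Q →ₐ[A] S ⊗[A] Q :=
  ((Algebra.TensorProduct.comm A Q S).toAlgHom.comp
    ((Algebra.TensorProduct.cancelBaseChange A A' A' Q S).toAlgHom.restrictScalars A)).comp
    ((Algebra.TensorProduct.comm A' (A' ⊗[A] S) Q).toAlgHom.restrictScalars A)

variable {A A' B Q S}

@[simp] theorem upBC_tmul (s : S) (b : B) :
    upBC A A' B S (s ⊗ₜ[A] b) = ((1 : A') ⊗ₜ[A] s) ⊗ₜ[A'] ((1 : A') ⊗ₜ[A] b) := by
  simp [upBC]

@[simp] theorem downBC_tmul (a : A') (s : S) (q : Q) :
    downBC A A' Q S ((a ⊗ₜ[A] s) ⊗ₜ[A'] q) = s ⊗ₜ[A] (a • q) := by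
  simp [downBC]

theorem upBC_smul (s : S) (x : S ⊗[A] B) :
    upBC A A' B S (s • x) = ((1 : A') ⊗ₜ[A] s) • upBC A A' B S x := by
  induction x using TensorProduct.induction_on with
  | zero => simp
  | tmul t b => simp [TensorProduct.smul_tmul']
  | add y y' hy hy' => simp only [smul_add, map_add, hy, hy']

theorem downBC_smul (s : S) (z : (A' ⊗[A] S) ⊗[A'] Q) :
    downBC A A' Q S (((1 : A') ⊗ₜ[A] s) • z) = s • downBC A A' Q S z := by
  induction z using TensorProduct.induction_on with
  | zero => simp
  | tmul r q =>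
    induction r using TensorProduct.induction_on with
    | zero => simp
    | tmul a t => simp [TensorProduct.smul_tmul']
    | add r r' hr hr' => simp only [TensorProduct.add_tmul, smul_add, map_add, hr, hr']
  | add y y' hy hy' => simp only [smul_add, map_add, hy, hy']

theorem upBC_map {S' : Type u} [CommSemiring S'] [Algebra A S'] (φ : S →ₐ[A] S') (x : S ⊗[A] B) :
    upBC A A' B S' (φ.toLinearMap.rTensor B x) =
      (Algebra.TensorProduct.map (AlgHom.id A' A') φ).toLinearMap.rTensor _ (upBC A A' B S x) := by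
  induction x using TensorProduct.induction_on with
  | zero => simp
  | tmul s b => simp
  | add y y' hy hy' => simp only [map_add, hy, hy']

theorem downBC_map {S' : Type u} [CommSemiring S'] [Algebra A S'] (φ : S →ₐ[A] S') (z : (A' ⊗[A] S) ⊗[A'] Q) :
    φ.toLinearMap.rTensor Q (downBC A A' Q S z) =
      downBC A A' Q S' ((Algebra.TensorProduct.map (AlgHom.id A' A') φ).toLinearMap.rTensor Q z) := by
  induction z using TensorProduct.induction_on with
  | zero => simp
  | tmul r q =>
    induction r using TensorProduct.induction_on with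
    | zero => simp
    | tmul a t => simp
    | add r r' hr hr' => simp only [TensorProduct.add_tmul, map_add, hr, hr']
  | add y y' hy hy' => simp only [map_add, hy, hy']

end Restrict

variable (A) in
/-- Restriction of scalars of a multiplicative law out of a base change. -/
noncomputable def resLaw (G : PolLaw.MulLaw A' (A' ⊗[A] B) Q d) : PolLaw.MulLaw A B Q d where
  law :=
  { toFun' := fun S _ _ x => downBC A A' Q S (G.law.toFun' (A' ⊗[A] S) (upBC A A' B S x))
    isCompat' := by
      intro S _ _ S' _ _ φ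
      funext x
      simp only [Function.comp_apply]
      rw [downBC_map, upBC_map]
      congr 1
      exact congrFun (G.law.isCompat' (Algebra.TensorProduct.map (AlgHom.id A' A') φ)) _ }
  homog := fun S _ _ s x => by
    show downBC A A' Q S (G.law.toFun' _ (upBC A A' B S (s • x))) = _
    rw [upBC_smul, G.homog, Algebra.TensorProduct.tmul_pow, one_pow, downBC_smul]
  mult := fun S _ _ => by
    refine ⟨?_, fun x y => ?_⟩
    · show downBC A A' Q S (G.law.toFun' _ (upBC A A' B S 1)) = 1
      rw [map_one, (G.mult _).1, map_one]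
    · show downBC A A' Q S (G.law.toFun' _ (upBC A A' B S (x * y))) =
        downBC A A' Q S (G.law.toFun' _ (upBC A A' B S x)) * downBC A A' Q S (G.law.toFun' _ (upBC A A' B S y))
      rw [map_mul, (G.mult _).2, map_mul]

theorem co_resLaw (G : PolLaw.MulLaw A' (A' ⊗[A] B) Q d) {ι : Type u} (b : ι → B) (ν : ι →₀ ℕ) :
    co (resLaw A G).law b ν = co G.law (fun j => (1 : A') ⊗ₜ[A] b j) ν := by
  classical
  show cd (downBC A A' Q _ (G.law.toFun' _ (upBC A A' B _ (gen b ν.support)))) ν = _
  have h1 : upBC A A' B (MvPolynomial ι A) (gen b ν.support) =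
      ∑ j ∈ ν.support, ((1 : A') ⊗ₜ[A] (X j : MvPolynomial ι A)) ⊗ₜ[A'] ((1 : A') ⊗ₜ[A] b j) := by
    simp [gen]
  rw [h1, eval_sum G.homog, map_sum, map_sum, Finsupp.finsetSum_apply, Finset.sum_eq_single ν]
  · simp only [Algebra.TensorProduct.tmul_pow, one_pow, Finsupp.prod]
    rw [show ∏ j ∈ ν.support, ((1 : A') ⊗ₜ[A] ((X j : MvPolynomial ι A) ^ ν j)) =
        (1 : A') ⊗ₜ[A] monomial ν (1 : A) by
      rw [← MvPolynomial.prod_X_pow_eq_monomial]
      exact (map_prod (Algebra.TensorProduct.includeRight : MvPolynomial ι A →ₐ[A] A' ⊗[A] MvPolynomial ι A) _ _).symm]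
    rw [downBC_tmul, one_smul, cd_tmul, coeff_monomial, if_pos rfl, one_smul]
  · intro μ _ hμ
    simp only [Algebra.TensorProduct.tmul_pow, one_pow, Finsupp.prod]
    rw [show ∏ j ∈ μ.support, ((1 : A') ⊗ₜ[A] ((X j : MvPolynomial ι A) ^ μ j)) =
        (1 : A') ⊗ₜ[A] monomial μ (1 : A) by
      rw [← MvPolynomial.prod_X_pow_eq_monomial]
      exact (map_prod (Algebra.TensorProduct.includeRight : MvPolynomial ι A →ₐ[A] A' ⊗[A] MvPolynomial ι A) _ _).symm]
    rw [downBC_tmul, one_smul, cd_tmul, coeff_monomial, if_neg hμ, zero_smul]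
  · intro hν
    rw [co_eq_zero_of_degree_ne G.homog _ fun hd => hν (Finset.mem_finsuppAntidiag'.mpr ⟨hd, subset_rfl⟩),
      TensorProduct.tmul_zero, map_zero, map_zero, Finsupp.zero_apply]

variable (A') in
/-- The base change of a divided power algebra is the divided power algebra of the base change. -/
theorem isGammaD_extLaw {C : Type u} [CommRing C] [Algebra A C] {γ : PolLaw.MulLaw A B C d}
    (hγ : PolLaw.IsGammaD γ) :
    PolLaw.IsGammaD (extLaw A' (γ.postcomp (Algebra.TensorProduct.includeRight : C →ₐ[A] A' ⊗[A] C))) := by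
  intro P _ _ G
  letI := compAlg A A' P
  haveI := compAlg_tower (A := A) (A' := A') P
  obtain ⟨f, hf, huniq⟩ := hγ P (resLaw A G)
  have hspan : Submodule.span A' (Set.range fun b : B => (1 : A') ⊗ₜ[A] id b) = ⊤ := by
    refine eq_top_iff.mpr fun v _ => ?_
    induction v using TensorProduct.induction_on with
    | zero => exact zero_mem _
    | tmul r b =>
      rw [← mul_one r, ← smul_eq_mul, ← TensorProduct.smul_tmul']
      exact Submodule.smul_mem _ r (Submodule.subset_span ⟨b, rfl⟩)
    | add a b ha hb => exact add_mem (ha trivial) (hb trivial)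
  set γ' := extLaw A' (γ.postcomp (Algebra.TensorProduct.includeRight : C →ₐ[A] A' ⊗[A] C))
  have hco : ∀ (g : A' ⊗[A] C →ₐ[A'] P) (ν : B →₀ ℕ),
      co (PolLaw.postcomp g.toLinearMap γ'.law) (fun b : B => (1 : A') ⊗ₜ[A] id b) ν =
        g ((1 : A') ⊗ₜ[A] co γ.law id ν) := by
    intro g ν
    rw [co_postcomp, co_extLaw _ (id : B → B)]
    show g (co (PolLaw.postcomp _ γ.law) _ ν) = _
    rw [co_postcomp]
    rfl
  refine ⟨Algebra.TensorProduct.lift (Algebra.ofId A' P) f fun _ _ => Commute.all _ _, ?_, fun g hg => ?_⟩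
  · refine ext_of_co (PolLaw.MulLaw.homog (γ'.postcomp _)) G.homog hspan fun ν => ?_
    rw [hco, Algebra.TensorProduct.lift_tmul, map_one, one_mul, ← co_resLaw G id ν, ← hf, co_postcomp]
    rfl
  · refine Algebra.TensorProduct.ext (AlgHom.ext fun a => ?_) ?_
    · simp only [AlgHom.comp_apply, Algebra.TensorProduct.includeLeft_apply, Algebra.TensorProduct.lift_tmul,
        map_one, mul_one]
      exact g.commutes a
    · have hg' : (g.restrictScalars A).comp Algebra.TensorProduct.includeRight = f := by
        refine huniq _ (ext_of_co (PolLaw.MulLaw.homog (γ.postcomp _)) (resLaw A G).homog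
          (b := (id : B → B)) (by simp) fun ν => ?_)
        rw [co_postcomp, co_resLaw]
        show g ((1 : A') ⊗ₜ[A] co γ.law id ν) = co G.law (fun b : B => (1 : A') ⊗ₜ[A] id b) ν
        rw [← hco, hg]
      refine AlgHom.ext fun c => ?_
      show g ((1 : A') ⊗ₜ[A] c) = _
      simp [← hg']

end Groth.Agent.H22Alg.PL
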