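import Mathlib
import Groth.Agent.H22Alg.MulLawBaseChange
import Groth.Agent.H22Alg.PolLawGamma

/-!
The divided power algebra of an algebra of finite type is of finite type: it is a finite module
over the subalgebra generated by the coefficients of the characteristic polynomials of generators.
-/

universe u

open scoped TensorProduct

namespace Groth.Agent.H22Alg.PL

open MvPolynomial

variable {A B C : Type u} [CommRing A] [CommRing B] [Algebra A B] [CommRing C] [Algebra A C] {d : ℕ}

/-- The coefficients of the adjoint law are those of the law. -/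
theorem co_adjLaw (γ : PolLaw.MulLaw A B C d) {ι : Type u} (b : ι → B) (ν : ι →₀ ℕ) :
    co (adjLaw γ).law (fun j => (1 : C) ⊗ₜ[A] b j) ν = co γ.law b ν := by
  classical
  let S := MvPolynomial ι C
  have h1 : ((adjLaw γ).law.toFun' (MvPolynomial ι C) (gen (fun j => (1 : C) ⊗ₜ[A] b j) ν.support)) =
      adjFun γ (MvPolynomial ι C) (gen (fun j => (1 : C) ⊗ₜ[A] b j) ν.support) :=
    adjLaw_apply γ _ _
  show cd _ ν = _
  rw [h1, adjFun, cd_tmul, smul_eq_mul, mul_one]
  have h2 : cancelBC A C B (MvPolynomial ι C) (gen (fun j => (1 : C) ⊗ₜ[A] b j) ν.support) =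
      ∑ j ∈ ν.support, (X j : MvPolynomial ι C) ⊗ₜ[A] b j := by
    simp [gen]
  rw [h2, eval_sum γ.homog, map_sum, coeff_sum, Finset.sum_eq_single ν]
  · rw [mulBC_tmul, MvPolynomial.algebraMap_eq, mul_comm, coeff_C_mul, Finsupp.prod,
      MvPolynomial.prod_X_pow_eq_monomial, coeff_monomial, if_pos rfl, mul_one]
  · intro μ _ hμ
    rw [mulBC_tmul, MvPolynomial.algebraMap_eq, mul_comm, coeff_C_mul, Finsupp.prod,
      MvPolynomial.prod_X_pow_eq_monomial, coeff_monomial, if_neg hμ, mul_zero]
  · intro hν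
    rw [co_eq_zero_of_degree_ne γ.homog b fun hd => hν (Finset.mem_finsuppAntidiag'.mpr ⟨hd, subset_rfl⟩),
      TensorProduct.tmul_zero, map_zero, MvPolynomial.coeff_zero]

/-- A law does not see multiples of kernel elements. -/
theorem toFun'_add_of_mem_ker {R P Q : Type u} [CommRing R] [CommRing P] [Algebra R P] [CommRing Q]
    [Algebra R Q] (F : P →ₚₗ[R] Q) (S : Type u) [CommSemiring S] [Algebra R S] {κ : Type*} (s : Finset κ)
    (v : κ → S) (j : κ → P) (hj : ∀ k ∈ s, j k ∈ PolLaw.ker F) (x : S ⊗[R] P) :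
    F.toFun' S (x + ∑ k ∈ s, v k ⊗ₜ[R] j k) = F.toFun' S x := by
  classical
  induction s using Finset.induction_on generalizing x with
  | empty => simp
  | insert a s ha ih =>
    rw [Finset.sum_insert ha, ← add_assoc, ih (fun k hk => hj k (Finset.mem_insert_of_mem hk))]
    have h := hj a (Finset.mem_insert_self a s) S x (v a ⊗ₜ[R] 1)
    rw [Algebra.TensorProduct.tmul_mul_tmul, mul_one, one_mul] at h
    exact h

set_option maxHeartbeats 800000 in
/-- The divided power algebra of a finite type algebra is of finite type. -/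
theorem finiteType_gammaD [Algebra.FiniteType A B] {γ : PolLaw.MulLaw A B C d} (hγ : PolLaw.IsGammaD γ) :
    Algebra.FiniteType A C := by
  classical
  obtain ⟨s, hs⟩ := (Algebra.FiniteType.out : (⊤ : Subalgebra A B).FG)
  let G := adjLaw γ
  let x : B → C ⊗[A] B := fun b => (1 : C) ⊗ₜ[A] b
  let χ : B → Polynomial C := fun b => chi G ((1 : C) ⊗ₜ[C] x b)
  let cf : Finset C := s.biUnion fun b => (Finset.range (d + 1)).image fun k => (χ b).coeff k
  let C₀ := Algebra.adjoin A (cf : Set C)
  have hcf : ∀ b ∈ s, ∀ k, (χ b).coeff k ∈ C₀ := by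
    intro b hb k
    rcases le_or_gt k d with hk | hk
    · exact Algebra.subset_adjoin (Finset.mem_biUnion.mpr
        ⟨b, hb, Finset.mem_image_of_mem _ (Finset.mem_range.mpr (Nat.lt_succ_of_le hk))⟩)
    · rw [coeff_chi_gt G _ hk]; exact zero_mem _
  let J := PolLaw.ker G.law
  let mk : C ⊗[A] B →+* (C ⊗[A] B) ⧸ J := Ideal.Quotient.mk J
  have hint : ∀ b ∈ s, IsIntegral C₀ (mk (x b)) := by
    intro b hb
    have hl : Polynomial.C ((-1 : C) ^ d) * χ b ∈ Polynomial.lifts (algebraMap C₀ C) := by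
      refine (Polynomial.lifts_iff_coeff_lifts _).mpr fun k => ⟨⟨_, ?_⟩, rfl⟩
      show (Polynomial.C ((-1 : C) ^ d) * χ b).coeff k ∈ C₀
      rw [Polynomial.coeff_C_mul]
      exact mul_mem (pow_mem (neg_mem (one_mem _)) _) (hcf b hb k)
    obtain ⟨p, hp, -, hpm⟩ := Polynomial.lifts_and_natDegree_eq_and_monic hl (monic_chi G _)
    refine ⟨p, hpm, ?_⟩
    show Polynomial.eval₂ ((Ideal.Quotient.mk J).comp (algebraMap C₀ (C ⊗[A] B))) (mk (x b)) p = 0
    rw [← Polynomial.hom_eval₂, IsScalarTower.algebraMap_eq C₀ C (C ⊗[A] B), ← Polynomial.eval₂_map, hp,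
      Ideal.Quotient.eq_zero_iff_mem, Polynomial.eval₂_mul, Polynomial.eval₂_C]
    exact Ideal.mul_mem_left _ _ (ch_mem_ker G (x b))
  let D := Algebra.adjoin C₀ (mk '' (x '' s))
  have hDfg : (Subalgebra.toSubmodule D).FG := fg_adjoin_of_finite ((s.finite_toSet.image _).image _) (by
    rintro _ ⟨_, ⟨b, hb, rfl⟩, rfl⟩
    exact hint b hb)
  have hxD : ∀ b : B, mk (x b) ∈ D := by
    intro b
    have hb : b ∈ Algebra.adjoin A (s : Set B) := hs ▸ Algebra.mem_top
    induction hb using Algebra.adjoin_induction with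
    | mem v hv => exact Algebra.subset_adjoin ⟨_, ⟨v, hv, rfl⟩, rfl⟩
    | algebraMap a =>
      have : x (algebraMap A B a) = algebraMap C₀ (C ⊗[A] B) (algebraMap A C₀ a) := by
        show (1 : C) ⊗ₜ[A] algebraMap A B a = (algebraMap A C a) ⊗ₜ[A] (1 : B)
        rw [Algebra.algebraMap_eq_smul_one, Algebra.algebraMap_eq_smul_one, TensorProduct.tmul_smul,
          TensorProduct.smul_tmul']
      rw [this]
      exact D.algebraMap_mem _
    | add v w _ _ hv hw => rw [show x (v + w) = x v + x w from TensorProduct.tmul_add _ _ _, map_add]; exact add_mem hv hw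
    | mul v w _ _ hv hw =>
      rw [show x (v * w) = x v * x w by simp [x, Algebra.TensorProduct.tmul_mul_tmul], map_mul]
      exact mul_mem hv hw
  obtain ⟨t, ht⟩ := hDfg
  choose lift hlift using (Ideal.Quotient.mk_surjective (I := J))
  let y : {q // q ∈ t} → C ⊗[A] B := fun q => lift q.1
  have hrep : ∀ b : B, ∃ lam : {q // q ∈ t} → C₀, x b - ∑ q, (lam q : C) • y q ∈ J := by
    intro b
    obtain ⟨lam, hlam⟩ := Submodule.mem_span_finset'.mp (ht.symm ▸ hxD b : mk (x b) ∈ Submodule.span C₀ (t : Set _))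
    refine ⟨lam, Ideal.Quotient.eq.mp ?_⟩
    rw [← hlam, map_sum]
    refine Finset.sum_congr rfl fun q _ => ?_
    rw [Algebra.smul_def, Algebra.smul_def, map_mul, hlift]
    rfl
  choose lam hlam using hrep
  let W : Finset C := ((Finset.univ : Finset {q // q ∈ t}).finsuppAntidiag d).image fun μ => co G.law y μ
  let C₁ := Algebra.adjoin A ((cf ∪ W : Finset C) : Set C)
  have hC₀ : C₀ ≤ C₁ := Algebra.adjoin_mono (by simp)
  have key : ∀ ν : B →₀ ℕ, co γ.law id ν ∈ C₁ := by
    intro ν
    have hco : co γ.law id ν = co G.law (fun b => ∑ q, (lam b q : C) • y q) ν := by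
      rw [← co_adjLaw γ id ν]
      show cd _ ν = cd _ ν
      congr 2
      have : gen (fun b => x b) ν.support = gen (fun b => ∑ q, (lam b q : C) • y q) ν.support +
          ∑ b ∈ ν.support, (X b : MvPolynomial B C) ⊗ₜ[C] (x b - ∑ q, (lam b q : C) • y q) := by
        rw [gen, gen, ← Finset.sum_add_distrib]
        exact Finset.sum_congr rfl fun b _ => by rw [← TensorProduct.tmul_add, add_sub_cancel]
      show G.law.toFun' _ (gen (fun b => x b) ν.support) = _
      rw [this]
      exact toFun'_add_of_mem_ker G.law _ _ _ _ (fun b _ => hlam b) _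
    rw [hco]
    let L : {q // q ∈ t} → MvPolynomial B C₀ := fun q => ∑ b ∈ ν.support, MvPolynomial.C (lam b q) * X b
    have hgen : gen (fun b => ∑ q, (lam b q : C) • y q) ν.support =
        ∑ q, (MvPolynomial.map (algebraMap C₀ C) (L q)) ⊗ₜ[C] y q := by
      simp only [gen, L, map_sum, map_mul, MvPolynomial.map_C, MvPolynomial.map_X, TensorProduct.sum_tmul, TensorProduct.tmul_sum]
      rw [Finset.sum_comm]
      refine Finset.sum_congr rfl fun q _ => Finset.sum_congr rfl fun b _ => ?_
      rw [TensorProduct.tmul_smul, TensorProduct.smul_tmul', smul_eq_C_mul]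
      rfl
    show cd (G.law.toFun' _ _) ν ∈ C₁
    rw [hgen, eval_sum G.homog, map_sum, Finsupp.finsetSum_apply]
    refine sum_mem fun μ hμ => ?_
    rw [cd_tmul, smul_eq_mul]
    refine mul_mem (hC₀ ?_) (Algebra.subset_adjoin (Finset.mem_coe.mpr (Finset.mem_union_right _
      (Finset.mem_image_of_mem _ hμ))))
    have hμ' : (μ.prod fun q k => MvPolynomial.map (algebraMap C₀ C) (L q) ^ k) =
        MvPolynomial.map (algebraMap C₀ C) (μ.prod fun q k => L q ^ k) := by
      simp only [Finsupp.prod, map_prod, map_pow]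
    rw [hμ', MvPolynomial.coeff_map]
    exact SetLike.coe_mem _
  refine ⟨⟨cf ∪ W, ?_⟩⟩
  rw [eq_top_iff]
  intro c _
  have hc : c ∈ Submodule.span A (Set.range (co γ.law (id : B → B))) :=
    (span_co_eq_top hγ (e := (id : B → B)) (by simp)).symm ▸ Submodule.mem_top
  refine (Submodule.span_le (p := Subalgebra.toSubmodule C₁)).mpr ?_ hc
  rintro _ ⟨ν, rfl⟩
  exact key ν

end Groth.Agent.H22Alg.PL
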