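import Mathlib
import Groth.Prelude.Def_PolLaw2
import Groth.Agent.H22Alg.PolLawDescend

/-!
The norm law from the tensor power to the divided power algebra: the symmetrised product descends.
-/

universe u

open scoped TensorProduct

namespace Groth.Agent.H22Alg.PL

open MvPolynomial

variable {A : Type u} [CommRing A] {d : ℕ} {P B C : Type u} [CommRing P] [Algebra A P] [CommRing B]
  [Algebra A B] [CommRing C] [Algebra A C]

theorem perm_perm (σ τ : Equiv.Perm (Fin d)) (t : ⨂[A] _ : Fin d, B) :
    SymTen.perm A B d τ (SymTen.perm A B d σ t) = SymTen.perm A B d (τ * σ) t := by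
  induction t using PiTensorProduct.induction_on with
  | smul_tprod r f =>
    simp only [map_smul, SymTen.perm_tprod]
    rfl
  | add x y hx hy => simp only [map_add, hx, hy]

theorem postcomp_perm_symmLaw (τ : Equiv.Perm (Fin d)) :
    (SymTen.symmLaw A B d).postcomp (SymTen.perm A B d τ) = SymTen.symmLaw A B d := by
  refine PolLaw.MulLaw.ext (PolynomialLaw.ext (funext fun S => funext fun _ => funext fun _ => funext fun x => ?_))
  show (SymTen.perm A B d τ).toLinearMap.lTensor S ((SymTen.symmLaw A B d).law.toFun' S x) = _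
  rw [PolLaw.lTensor_algHom_apply, SymTen.symmLaw, PolLaw.MulLaw.prodMap_toFun', map_prod]
  refine Fintype.prod_equiv (Equiv.mulLeft τ) _ _ fun σ => ?_
  have h : (SymTen.perm A B d τ).comp (SymTen.perm A B d σ) = SymTen.perm A B d (τ * σ) :=
    AlgHom.ext fun t => perm_perm σ τ t
  rw [Equiv.coe_mulLeft, ← h]
  induction x using TensorProduct.induction_on with
  | zero => simp
  | tmul s b => simp
  | add x y hx hy => simp only [map_add, hx, hy]

theorem co_symmLaw_mem_TS {κ : Type u} (b : κ → ⨂[A] _ : Fin d, B) (ν : κ →₀ ℕ) :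
    co (SymTen.symmLaw A B d).law b ν ∈ SymTen.TS A B d := fun σ => by
  rw [← SymTen.perm_apply]
  exact (co_postcomp_law (SymTen.perm A B d σ) _ b ν).symm.trans (by rw [postcomp_perm_symmLaw])

theorem exists_symLawTS (A B : Type u) [CommRing A] [CommRing B] [Algebra A B] (d : ℕ) :
    ∃ G : PolLaw.MulLaw A (⨂[A] _ : Fin d, B) (SymTen.TS A B d) d.factorial,
      PolLaw.postcomp (SymTen.TS A B d).val.toLinearMap G.law = (SymTen.symmLaw A B d).law :=
  exists_restrict (SymTen.symmLaw A B d) (SymTen.TS A B d).val Subtype.val_injective fun ν =>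
    ⟨⟨_, co_symmLaw_mem_TS id ν⟩, rfl⟩

/-- The pure tensors with a factor killed by `π`. -/
def badTensors (d : ℕ) (π : P →ₐ[A] B) : Set (⨂[A] _ : Fin d, P) :=
  {t | ∃ (p : Fin d → P) (k : Fin d), π (p k) = 0 ∧ t = PiTensorProduct.tprod A p}

theorem tprod_sub_tprod_mem (π : P →ₐ[A] B) {m m' : Fin d → P} (h : ∀ i, π (m i) = π (m' i)) :
    PiTensorProduct.tprod A m - PiTensorProduct.tprod A m' ∈ Submodule.span A (badTensors d π) := by
  classical
  have e : m = (m - m') + m' := (sub_add_cancel m m').symm
  rw [e, MultilinearMap.map_add_univ, ← Finset.add_sum_erase _ _ (Finset.mem_univ (∅ : Finset (Fin d))),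
    Finset.piecewise_empty, add_sub_cancel_left]
  refine Submodule.sum_mem _ fun s hs => ?_
  obtain ⟨k, hk⟩ := Finset.nonempty_iff_ne_empty.mpr (Finset.ne_of_mem_erase hs)
  refine Submodule.subset_span ⟨_, k, ?_, rfl⟩
  rw [Finset.piecewise_eq_of_mem _ _ _ hk, Pi.sub_apply, map_sub, h, sub_self]

/-- The kernel of the tensor power of a surjection is spanned by the bad pure tensors. -/
theorem ker_tmap_le (π : P →ₐ[A] B) (hπ : Function.Surjective π) :
    LinearMap.ker (SymTen.tmap A d π).toLinearMap ≤ Submodule.span A (badTensors d π) := by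
  classical
  set R := Submodule.span A (badTensors d π)
  have hwd : ∀ m m' : Fin d → P, (∀ i, π (m i) = π (m' i)) →
      R.mkQ (PiTensorProduct.tprod A m) = R.mkQ (PiTensorProduct.tprod A m') := fun m m' h =>
    (Submodule.Quotient.eq R).mpr (tprod_sub_tprod_mem π h)
  set σ := Function.surjInv hπ
  have hσ : ∀ b, π (σ b) = b := Function.surjInv_eq hπ
  let Ψ : MultilinearMap A (fun _ : Fin d => B) ((⨂[A] _ : Fin d, P) ⧸ R) :=
    { toFun := fun b => R.mkQ (PiTensorProduct.tprod A fun i => σ (b i))
      map_update_add' := fun b i x y => by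
        have h1 := hwd (fun k => σ (Function.update b i (x + y) k))
          (Function.update (fun k => σ (b k)) i (σ x + σ y)) fun k => by
            rcases eq_or_ne k i with rfl | hk
            · simp [hσ]
            · simp [hσ, Function.update_of_ne hk]
        rw [h1, MultilinearMap.map_update_add, map_add]
        congr 1 <;>
        · refine hwd _ _ fun k => ?_
          rcases eq_or_ne k i with rfl | hk
          · simp [hσ]
          · simp [hσ, Function.update_of_ne hk]
      map_update_smul' := fun b i r x => by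
        have h1 := hwd (fun k => σ (Function.update b i (r • x) k))
          (Function.update (fun k => σ (b k)) i (r • σ x)) fun k => by
            rcases eq_or_ne k i with rfl | hk
            · simp [hσ]
            · simp [hσ, Function.update_of_ne hk]
        rw [h1, MultilinearMap.map_update_smul, map_smul]
        congr 1
        refine hwd _ _ fun k => ?_
        rcases eq_or_ne k i with rfl | hk
        · simp [hσ]
        · simp [hσ, Function.update_of_ne hk] }
  have key : ∀ t, PiTensorProduct.lift Ψ (SymTen.tmap A d π t) = R.mkQ t := by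
    intro t
    induction t using PiTensorProduct.induction_on with
    | smul_tprod r f =>
      simp only [map_smul, SymTen.tmap_tprod, PiTensorProduct.lift.tprod]
      congr 1
      exact hwd _ _ fun i => hσ _
    | add x y hx hy => simp only [map_add, hx, hy]
  intro t ht
  rw [← Submodule.Quotient.mk_eq_zero R]
  rw [LinearMap.mem_ker] at ht
  exact (key t).symm.trans (by
    rw [show SymTen.tmap A d π t = 0 from ht, map_zero])

open Classical in
/-- The symmetrised product of pure tensors. -/
noncomputable def qfun {κ : Type u} (p : κ → Fin d → P) (g : Equiv.Perm (Fin d) → κ) : Fin d → P :=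
  fun i => ∏ σ : Equiv.Perm (Fin d), p (g σ) (σ.symm i)

open Classical in
theorem co_symmLaw_tprod {κ : Type u} (p : κ → Fin d → P) (ν : κ →₀ ℕ) :
    co (SymTen.symmLaw A P d).law (fun i => PiTensorProduct.tprod A (p i)) ν =
      ∑ g ∈ (Fintype.piFinset fun _ : Equiv.Perm (Fin d) => ν.support).filter
          (fun g => (∑ σ, Finsupp.single (g σ) 1) = ν),
        PiTensorProduct.tprod A (qfun p g) := by
  show cd ((SymTen.symmLaw A P d).law.toFun' (MvPolynomial κ A) (gen _ ν.support)) ν = _
  rw [SymTen.symmLaw, PolLaw.MulLaw.prodMap_toFun', gen]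
  simp only [map_sum, Algebra.TensorProduct.map_tmul, AlgHom.id_apply, SymTen.perm_tprod]
  rw [Finset.prod_univ_sum, map_sum, Finsupp.finsetSum_apply, Finset.sum_filter]
  refine Finset.sum_congr rfl fun g _ => ?_
  have hprod : ∀ (u : Finset (Equiv.Perm (Fin d))),
      ∏ σ ∈ u, (X (g σ) : MvPolynomial κ A) ⊗ₜ[A] PiTensorProduct.tprod A (fun i => p (g σ) (σ.symm i)) =
        monomial (∑ σ ∈ u, Finsupp.single (g σ) 1) 1 ⊗ₜ[A]
          PiTensorProduct.tprod A (∏ σ ∈ u, fun i => p (g σ) (σ.symm i)) := by
    intro u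
    induction u using Finset.induction_on with
    | empty => simp [Algebra.TensorProduct.one_def, PiTensorProduct.one_def]
    | insert j u hj ih =>
      rw [Finset.prod_insert hj, Finset.prod_insert hj, Finset.sum_insert hj, ih,
        Algebra.TensorProduct.tmul_mul_tmul, X, monomial_mul, one_mul, PiTensorProduct.tprod_mul_tprod]
  rw [hprod, cd_monomial, one_smul]
  congr 2
  funext i
  rw [qfun, Finset.prod_apply]

theorem qfun_comp {κ : Type u} (p : κ → Fin d → P) (g : Equiv.Perm (Fin d) → κ) (τ : Equiv.Perm (Fin d)) :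
    (fun i => qfun p g (τ.symm i)) = qfun p (fun σ => g (τ⁻¹ * σ)) := by
  classical
  funext i
  simp only [qfun]
  refine Fintype.prod_equiv (Equiv.mulLeft τ) _ _ fun σ => ?_
  rw [Equiv.coe_mulLeft, inv_mul_cancel_left]
  rfl

/-- The coefficients of the symmetrised product vanish in every law through `π`, at pure tensors one
of which is bad. -/
theorem kills_pure (π : P →ₐ[A] B) (γ : PolLaw.MulLaw A B C d)
    (τ : PolLaw.MulLaw A P (SymTen.TS A P d) d)
    (hτ : PolLaw.postcomp (SymTen.TS A P d).val.toLinearMap τ.law = (SymTen.tpowLaw A P d).law)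
    (q : SymTen.TS A P d →ₐ[A] C) (hq : τ.postcomp q = γ.precomp π)
    (G : PolLaw.MulLaw A (⨂[A] _ : Fin d, P) (SymTen.TS A P d) d.factorial)
    (hG : PolLaw.postcomp (SymTen.TS A P d).val.toLinearMap G.law = (SymTen.symmLaw A P d).law)
    {κ : Type u} (p : κ → Fin d → P) (ν : κ →₀ ℕ) (j : κ) (k : Fin d) (hj : π (p j k) = 0) (hν : ν j ≠ 0) :
    q (co G.law (fun i => PiTensorProduct.tprod A (p i)) ν) = 0 := by
  classical
  set X' := (Fintype.piFinset fun _ : Equiv.Perm (Fin d) => ν.support).filter
    (fun g => (∑ σ, Finsupp.single (g σ) 1) = ν)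
  let N : (Fin d → P) → ℕ := fun c => (X'.filter fun g => qfun p g = c).card
  have hstab : ∀ g ∈ X', ∀ τ' : Equiv.Perm (Fin d), (fun σ => g (τ'⁻¹ * σ)) ∈ X' := by
    intro g hg τ'
    rw [Finset.mem_filter, Fintype.mem_piFinset] at hg ⊢
    refine ⟨fun σ => hg.1 _, ?_⟩
    rw [← hg.2]
    exact Equiv.sum_comp (Equiv.mulLeft τ'⁻¹) fun σ => Finsupp.single (g σ) 1
  have hN : ∀ (c : Fin d → P) (τ' : Equiv.Perm (Fin d)), N (fun i => c (τ'.symm i)) = N c := by
    intro c τ'
    refine (Finset.card_bij' (fun g _ σ => g (τ'⁻¹ * σ)) (fun g _ σ => g (τ' * σ)) ?_ ?_ ?_ ?_).symm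
    · intro g hg
      obtain ⟨hgX, hgc⟩ := Finset.mem_filter.mp hg
      refine Finset.mem_filter.mpr ⟨hstab g hgX τ', ?_⟩
      rw [← qfun_comp, hgc]
    · intro g hg
      obtain ⟨hgX, hgc⟩ := Finset.mem_filter.mp hg
      refine Finset.mem_filter.mpr ⟨by simpa using hstab g hgX τ'⁻¹, ?_⟩
      have h2 := qfun_comp p g τ'⁻¹
      rw [hgc, inv_inv] at h2
      rw [← h2]
      funext i
      exact congrArg c (τ'.symm_apply_apply i)
    · intro g _; funext σ; simp
    · intro g _; funext σ; simp
  set K := X'.image fun g => cnt (qfun p g)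
  have hbad : ∀ μ ∈ K, ∃ x, π x = 0 ∧ μ x ≠ 0 := by
    intro μ hμ
    obtain ⟨g, hg, rfl⟩ := Finset.mem_image.mp hμ
    obtain ⟨-, hgν⟩ := Finset.mem_filter.mp hg
    obtain ⟨σ, hσ⟩ : ∃ σ, g σ = j := by
      by_contra! hc
      refine hν ?_
      rw [← hgν, Finsupp.finsetSum_apply]
      exact Finset.sum_eq_zero fun σ _ => by rw [Finsupp.single_apply, if_neg (hc σ)]
    refine ⟨qfun p g (σ k), ?_, Finsupp.mem_support_iff.mp (mem_support_cnt _ _)⟩
    rw [qfun, map_prod]
    exact Finset.prod_eq_zero (Finset.mem_univ σ) (by rw [hσ, σ.symm_apply_apply, hj])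
  have hrep : ∀ μ ∈ K, ∃ n : ℕ, ∀ c : Fin d → P, cnt c = μ → N c = n := by
    intro μ hμ
    obtain ⟨g, -, rfl⟩ := Finset.mem_image.mp hμ
    refine ⟨N (qfun p g), fun c hc => ?_⟩
    obtain ⟨σ, hσ⟩ := exists_perm_of_cnt_eq hc
    rw [show c = fun i => qfun p g ((σ⁻¹).symm i) from funext fun i => (hσ i).symm, hN]
  choose! n hn using hrep
  have hsum : co (SymTen.symmLaw A P d).law (fun i => PiTensorProduct.tprod A (p i)) ν =
      ∑ μ ∈ K, (n μ : A) • orbSum d (id : P → P) μ := by
    rw [co_symmLaw_tprod, ← Finset.sum_fiberwise_of_maps_to (g := fun g => cnt (qfun p g))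
      (t := K) (fun g hg => Finset.mem_image.mpr ⟨g, hg, rfl⟩)]
    refine Finset.sum_congr rfl fun μ hμ => ?_
    rw [orbSum, Finset.smul_sum, ← Finset.sum_fiberwise_of_maps_to (g := fun g => qfun p g)
      (t := fib d μ) (fun g hg => mem_fib.mpr (Finset.mem_filter.mp hg).2)]
    refine Finset.sum_congr rfl fun c hc => ?_
    have hc' := mem_fib.mp hc
    have hset : (X'.filter fun g => cnt (qfun p g) = μ).filter (fun g => qfun p g = c) =
        X'.filter fun g => qfun p g = c := by
      ext g
      simp only [Finset.mem_filter]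
      exact ⟨fun h => ⟨h.1.1, h.2⟩, fun h => ⟨⟨h.1, by rw [h.2]; exact hc'⟩, h.2⟩⟩
    rw [hset, Finset.sum_congr rfl fun g hg => congrArg (PiTensorProduct.tprod A) (Finset.mem_filter.mp hg).2,
      Finset.sum_const, ← hn μ hμ c hc', Nat.cast_smul_eq_nsmul]
    rfl
  have hco : co G.law (fun i => PiTensorProduct.tprod A (p i)) ν =
      ∑ μ ∈ K, (n μ : A) • co τ.law (id : P → P) μ := by
    refine Subtype.ext ?_
    have h1 := co_postcomp (SymTen.TS A P d).val.toLinearMap G.law (fun i => PiTensorProduct.tprod A (p i)) ν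
    rw [hG, hsum] at h1
    refine h1.symm.trans ?_
    simp only [AddSubmonoidClass.coe_finsetSum, Subalgebra.coe_smul]
    refine Finset.sum_congr rfl fun μ _ => ?_
    congr 1
    rw [← co_tpowLaw, ← hτ, co_postcomp]
    rfl
  rw [hco, map_sum]
  refine Finset.sum_eq_zero fun μ hμ => ?_
  obtain ⟨x, hx, hμx⟩ := hbad μ hμ
  rw [map_smul, ← co_postcomp_law q τ, hq, co_precomp_law,
    co_eq_zero_of_family_zero γ.law (π ∘ id) hμx hx, smul_zero]

/-- The norm law on the tensor power. -/
theorem exists_normLaw (π : P →ₐ[A] B) (hπ : Function.Surjective π) (γ : PolLaw.MulLaw A B C d)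
    (τ : PolLaw.MulLaw A P (SymTen.TS A P d) d)
    (hτ : PolLaw.postcomp (SymTen.TS A P d).val.toLinearMap τ.law = (SymTen.tpowLaw A P d).law)
    (q : SymTen.TS A P d →ₐ[A] C) (hq : τ.postcomp q = γ.precomp π)
    (G : PolLaw.MulLaw A (⨂[A] _ : Fin d, P) (SymTen.TS A P d) d.factorial)
    (hG : PolLaw.postcomp (SymTen.TS A P d).val.toLinearMap G.law = (SymTen.symmLaw A P d).law) :
    ∃ F : PolLaw.MulLaw A (⨂[A] _ : Fin d, B) C d.factorial, F.precomp (SymTen.tmap A d π) = G.postcomp q := by
  classical
  refine exists_descend (SymTen.tmap A d π) ?_ (G.postcomp q) (badTensors d π) (ker_tmap_le π hπ) ?_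
  · intro t
    induction t using PiTensorProduct.induction_on with
    | smul_tprod r f =>
      exact ⟨r • PiTensorProduct.tprod A (fun i => Function.surjInv hπ (f i)), by
        simp [Function.surjInv_eq hπ]⟩
    | add x y hx hy => obtain ⟨a, rfl⟩ := hx; obtain ⟨b, rfl⟩ := hy; exact ⟨a + b, map_add _ _ _⟩
  · intro κ b ν j hj hν
    obtain ⟨p₀, k, hk, hb⟩ := hj
    rw [co_postcomp_law]
    -- expand the other members into pure tensors
    have hex : ∀ i : κ, ∃ (s : Finset (Fin d → P)) (a : (Fin d → P) → A),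
        b i = ∑ c ∈ s, a c • PiTensorProduct.tprod A c ∧ (i = j → s = {p₀}) := by
      intro i
      by_cases hi : i = j
      · exact ⟨{p₀}, fun _ => 1, by simp [hi, hb], fun _ => rfl⟩
      · have hm : b i ∈ Submodule.span A (Set.range (PiTensorProduct.tprod A (s := fun _ : Fin d => P))) := by
          rw [PiTensorProduct.span_tprod_eq_top]; trivial
        obtain ⟨l, hl⟩ := Finsupp.mem_span_range_iff_exists_finsupp.mp hm
        exact ⟨l.support, l, hl.symm, fun h => absurd h hi⟩
    choose s a hsum hs0 using hex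
    let T : Finset (κ × (Fin d → P)) :=
      ν.support.biUnion fun i => (s i).map ⟨fun c => (i, c), fun c c' h => congrArg Prod.snd h⟩
    have hgen : gen b ν.support = ∑ t ∈ T, monomial (Finsupp.single t.1 1) (a t.1 t.2) ⊗ₜ[A]
        PiTensorProduct.tprod A t.2 := by
      rw [Finset.sum_biUnion]
      · refine Finset.sum_congr rfl fun i _ => ?_
        rw [hsum i, TensorProduct.tmul_sum, Finset.sum_map]
        refine Finset.sum_congr rfl fun c _ => ?_
        simp only [Function.Embedding.coeFn_mk]
        rw [← TensorProduct.smul_tmul, X, smul_monomial, smul_eq_mul, mul_one]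
      · intro i _ i' _ hne
        simp only [Function.onFun, Finset.disjoint_left, Finset.mem_map, Function.Embedding.coeFn_mk]
        rintro _ ⟨c, -, rfl⟩ ⟨c', -, h⟩
        exact hne (congrArg Prod.fst h).symm
    show q (cd (G.law.toFun' _ (gen b ν.support)) ν) = 0
    rw [hgen, coord_subst G.homog, map_sum]
    refine Finset.sum_eq_zero fun ρ hρ => ?_
    split_ifs with hmarg
    · rw [map_smul]
      obtain ⟨t, htρ, ht1⟩ : ∃ t ∈ ρ.support, t.1 = j := by
        by_contra! hc
        refine hν ?_
        rw [← hmarg, Finsupp.sum, Finsupp.finsetSum_apply]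
        exact Finset.sum_eq_zero fun t ht => by simp [hc t ht]
      obtain ⟨i, -, hti⟩ := Finset.mem_biUnion.mp ((Finset.mem_finsuppAntidiag'.mp hρ).2 htρ)
      obtain ⟨c, hc, hct⟩ := Finset.mem_map.mp hti
      simp only [Function.Embedding.coeFn_mk] at hct
      subst hct
      simp only at ht1
      subst ht1
      rw [hs0 i rfl, Finset.mem_singleton] at hc
      subst hc
      rw [kills_pure π γ τ hτ q hq G hG (fun t : κ × (Fin d → P) => t.2) ρ (i, c) k hk
        (Finsupp.mem_support_iff.mp htρ), smul_zero]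
    · exact map_zero q

end Groth.Agent.H22Alg.PL
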