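import Mathlib
import Groth.Prelude.Def_PolLaw2
import Groth.Agent.H22Alg.PolLawNorm

/-!
The norm law of a divided power algebra and the power identities with symmetric tensors.
-/

universe u

open scoped TensorProduct

namespace Groth.Agent.H22Alg.PL

open MvPolynomial

variable {A : Type u} [CommRing A] {d : ℕ} {B B' B'' C C' C'' : Type u} [CommRing B] [Algebra A B]
  [CommRing B'] [Algebra A B'] [CommRing B''] [Algebra A B''] [CommRing C] [Algebra A C]
  [CommRing C'] [Algebra A C'] [CommRing C''] [Algebra A C'']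

theorem law_ext {F G : PolLaw.MulLaw A B C d}
    (h : ∀ (S : Type u) [CommSemiring S] [Algebra A S] (x : S ⊗[A] B), F.law.toFun' S x = G.law.toFun' S x) :
    F = G :=
  PolLaw.MulLaw.ext (PolynomialLaw.ext (funext fun S => funext fun _ => funext fun _ => funext fun x => h S x))

theorem precomp_precomp (F : PolLaw.MulLaw A B C d) (f : B' →ₐ[A] B) (g : B'' →ₐ[A] B') :
    (F.precomp f).precomp g = F.precomp (f.comp g) :=
  law_ext fun S _ _ x => congrArg (F.law.toFun' S) (LinearMap.lTensor_comp_apply S f.toLinearMap g.toLinearMap x).symm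

theorem postcomp_postcomp (F : PolLaw.MulLaw A B C d) (f : C →ₐ[A] C') (g : C' →ₐ[A] C'') :
    (F.postcomp f).postcomp g = F.postcomp (g.comp f) :=
  law_ext fun S _ _ x => (LinearMap.lTensor_comp_apply S g.toLinearMap f.toLinearMap _).symm

theorem postcomp_precomp (F : PolLaw.MulLaw A B C d) (f : B' →ₐ[A] B) (g : C →ₐ[A] C') :
    (F.precomp f).postcomp g = (F.postcomp g).precomp f :=
  rfl

theorem postcomp_pow (f : B →ₐ[A] C) :
    (PolLaw.MulLaw.pow A B d).postcomp f = (PolLaw.MulLaw.pow A C d).precomp f :=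
  law_ext fun S _ _ x => by
    show f.toLinearMap.lTensor S (x ^ d) = (f.toLinearMap.lTensor S x) ^ d
    rw [PolLaw.lTensor_algHom_apply, PolLaw.lTensor_algHom_apply, map_pow]

theorem postcomp_injective (f : C →ₐ[A] C') (hf : Function.Injective f) {F G : PolLaw.MulLaw A B C d}
    (h : F.postcomp f = G.postcomp f) : F = G :=
  PolLaw.MulLaw.ext (ext_of_co F.homog G.homog (b := (id : B → B)) (by simp) fun ν => hf (by
    rw [← co_postcomp_law, ← co_postcomp_law, h]))

theorem symmLaw_precomp_val :
    (SymTen.symmLaw A B d).precomp (SymTen.TS A B d).val =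
      (PolLaw.MulLaw.pow A (SymTen.TS A B d) d.factorial).postcomp (SymTen.TS A B d).val :=
  law_ext fun S _ _ x => by
    show (SymTen.symmLaw A B d).law.toFun' S ((SymTen.TS A B d).val.toLinearMap.lTensor S x) =
      (SymTen.TS A B d).val.toLinearMap.lTensor S (x ^ d.factorial)
    rw [SymTen.symmLaw, PolLaw.MulLaw.prodMap_toFun', PolLaw.lTensor_algHom_apply, PolLaw.lTensor_algHom_apply,
      map_pow]
    have h : ∀ (σ : Equiv.Perm (Fin d)) (z : S ⊗[A] SymTen.TS A B d),
        Algebra.TensorProduct.map (AlgHom.id S S) (SymTen.perm A B d σ)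
          (Algebra.TensorProduct.map (AlgHom.id S S) (SymTen.TS A B d).val z) =
        Algebra.TensorProduct.map (AlgHom.id S S) (SymTen.TS A B d).val z := by
      intro σ z
      induction z using TensorProduct.induction_on with
      | zero => simp
      | tmul s t =>
        simp only [Algebra.TensorProduct.map_tmul, AlgHom.id_apply, Subalgebra.coe_val]
        rw [SymTen.perm_apply, t.2 σ]
      | add z z' hz hz' => simp only [map_add, hz, hz']
    rw [Finset.prod_congr rfl (fun σ _ => h σ x), Finset.prod_const, Finset.card_univ, Fintype.card_perm,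
      Fintype.card_fin]

theorem symmLaw_natural (π : B →ₐ[A] B') :
    (SymTen.symmLaw A B' d).precomp (SymTen.tmap A d π) = (SymTen.symmLaw A B d).postcomp (SymTen.tmap A d π) :=
  law_ext fun S _ _ x => by
    show (SymTen.symmLaw A B' d).law.toFun' S ((SymTen.tmap A d π).toLinearMap.lTensor S x) =
      (SymTen.tmap A d π).toLinearMap.lTensor S ((SymTen.symmLaw A B d).law.toFun' S x)
    simp only [SymTen.symmLaw, PolLaw.MulLaw.prodMap_toFun', PolLaw.lTensor_algHom_apply, map_prod]
    refine Finset.prod_congr rfl fun σ _ => ?_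
    induction x using TensorProduct.induction_on with
    | zero => simp
    | tmul s b =>
      simp only [Algebra.TensorProduct.map_tmul, AlgHom.id_apply]
      rw [SymTen.perm_apply, SymTen.perm_apply, SymTen.tmap_reindex]
    | add x y hx hy => simp only [map_add, hx, hy]

theorem tmap_orbSum {κ : Type u} (π : B →ₐ[A] B') (b : κ → B) (ν : κ →₀ ℕ) :
    SymTen.tmap A d π (orbSum d b ν) = orbSum d (π ∘ b) ν := by
  simp only [orbSum, map_sum, SymTen.tmap_tprod]
  rfl

/-- The norm law from the tensor power into a divided power algebra, with its two identities. -/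
theorem exists_norm {γ : PolLaw.MulLaw A B C d} (hγ : PolLaw.IsGammaD γ) (φ : C →ₐ[A] SymTen.TS A B d)
    (hφ : ∀ (S : Type u) [CommSemiring S] [Algebra A S] (n : ℕ) (s : Fin n → S) (b : Fin n → B),
      ((SymTen.TS A B d).val.comp φ).toLinearMap.lTensor S (γ.law.toFun' S (∑ j, s j ⊗ₜ[A] b j)) =
        ∑ c : Fin d → Fin n, (∏ i, s (c i)) ⊗ₜ[A] PiTensorProduct.tprod A (fun i => b (c i))) :
    ∃ F : PolLaw.MulLaw A (⨂[A] _ : Fin d, B) C d.factorial,
      F.postcomp ((SymTen.TS A B d).val.comp φ) = SymTen.symmLaw A B d ∧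
      F.precomp ((SymTen.TS A B d).val.comp φ) = PolLaw.MulLaw.pow A C d.factorial := by
  let e := basisMonomials B A
  let π : MvPolynomial B A →ₐ[A] B := aeval (id : B → B)
  have hπ : Function.Surjective π := fun b => ⟨X b, aeval_X _ b⟩
  obtain ⟨τ, hτ⟩ := exists_tsLaw_of_free (d := d) e
  obtain ⟨q, hqs, hq⟩ := exists_surjective_of_isGammaD e π hπ hγ τ hτ
  obtain ⟨G, hG⟩ := exists_symLawTS A (MvPolynomial B A) d
  obtain ⟨F, hF⟩ := exists_normLaw π hπ γ τ hτ q hq G hG
  have hsq : ((SymTen.TS A B d).val.comp φ).comp q =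
      (SymTen.tmap A d π).comp (SymTen.TS A (MvPolynomial B A) d).val := by
    refine AlgHom.ext fun t => ?_
    have ht : t ∈ Submodule.span A (Set.range (co τ.law e)) :=
      (span_co_eq_top (isGammaD_of_free e τ hτ) e.span_eq).ge Submodule.mem_top
    induction ht using Submodule.span_induction with
    | mem x hx =>
      obtain ⟨ν, rfl⟩ := hx
      show ((φ (q (co τ.law e ν)) : SymTen.TS A B d) : ⨂[A] _ : Fin d, B) =
        SymTen.tmap A d π ((co τ.law e ν : SymTen.TS A (MvPolynomial B A) d) : ⨂[A] _ : Fin d, MvPolynomial B A)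
      rw [← co_postcomp_law q τ, hq, co_precomp_law, val_co γ φ hφ, ← tmap_orbSum, ← co_tpowLaw, ← hτ,
        co_postcomp]
      rfl
    | zero => simp
    | add a b _ _ ha hb => simp only [map_add, ha, hb]
    | smul r a _ ha => simp only [map_smul, ha]
  have hG' : G.postcomp (SymTen.TS A (MvPolynomial B A) d).val = SymTen.symmLaw A (MvPolynomial B A) d :=
    PolLaw.MulLaw.ext hG
  have hsurjT : Function.Surjective (SymTen.tmap A d π) := by
    intro t
    induction t using PiTensorProduct.induction_on with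
    | smul_tprod r f =>
      exact ⟨r • PiTensorProduct.tprod A (fun i => Function.surjInv hπ (f i)), by
        simp [Function.surjInv_eq hπ]⟩
    | add x y hx hy => obtain ⟨a, rfl⟩ := hx; obtain ⟨b, rfl⟩ := hy; exact ⟨a + b, map_add _ _ _⟩
  refine ⟨F, law_ext_of_precomp _ hsurjT ?_, law_ext_of_precomp q hqs ?_⟩
  · rw [← postcomp_precomp, hF, postcomp_postcomp, hsq, ← postcomp_postcomp, hG', symmLaw_natural]
  · have hpowP : G.precomp (SymTen.TS A (MvPolynomial B A) d).val =
        PolLaw.MulLaw.pow A (SymTen.TS A (MvPolynomial B A) d) d.factorial := by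
      refine postcomp_injective (SymTen.TS A (MvPolynomial B A) d).val Subtype.val_injective ?_
      rw [postcomp_precomp, hG', symmLaw_precomp_val]
    rw [precomp_precomp, hsq, ← precomp_precomp, hF, ← postcomp_precomp, hpowP, postcomp_pow]

end Groth.Agent.H22Alg.PL
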