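import Mathlib
import Groth.Agent.H22Alg.GammaBaseChange
import Groth.Agent.H22Alg.GammaFinite
import Groth.Agent.H22Alg.PolLawDescend
import Groth.Agent.H22Alg.PolLawTS

/-!
Noetherian descent: divided powers of a finitely presented algebra are finitely presented.
-/

universe u

open scoped TensorProduct

namespace Groth.Agent.H22Alg.PL

variable {A : Type u} [CommRing A] {B B' C C' : Type u} [CommRing B] [Algebra A B] [CommRing B'] [Algebra A B']
  [CommRing C] [Algebra A C] [CommRing C'] [Algebra A C'] {d : ℕ}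

theorem precomp_comp (F : PolLaw.MulLaw A B C d) (f : B' →ₐ[A] B) {P : Type u} [CommRing P] [Algebra A P]
    (g : P →ₐ[A] B') : (F.precomp f).precomp g = F.precomp (f.comp g) := by
  refine PolLaw.MulLaw.ext (ext_of_co (PolLaw.MulLaw.homog _) (PolLaw.MulLaw.homog _)
    (b := (id : P → P)) (by simp) fun ν => ?_)
  rw [co_precomp_law, co_precomp_law, co_precomp_law]
  rfl

theorem precomp_id' (F : PolLaw.MulLaw A B C d) : F.precomp (AlgHom.id A B) = F := by
  refine PolLaw.MulLaw.ext (ext_of_co (PolLaw.MulLaw.homog _) (PolLaw.MulLaw.homog _)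
    (b := (id : B → B)) (by simp) fun ν => ?_)
  rw [co_precomp_law]
  rfl

/-- The universal property is transported along an isomorphism. -/
theorem isGammaD_precomp_equiv {γ : PolLaw.MulLaw A B C d} (hγ : PolLaw.IsGammaD γ) (e : B' ≃ₐ[A] B) :
    PolLaw.IsGammaD (γ.precomp e.toAlgHom) := by
  intro P _ _ G
  obtain ⟨f, hf, huniq⟩ := hγ P (G.precomp e.symm.toAlgHom)
  have hf' : γ.postcomp f = G.precomp e.symm.toAlgHom := PolLaw.MulLaw.ext hf
  refine ⟨f, ?_, fun g hg => huniq g ?_⟩
  · have : (γ.precomp e.toAlgHom).postcomp f = G := by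
      rw [postcomp_precomp, hf', precomp_comp, show e.symm.toAlgHom.comp e.toAlgHom = AlgHom.id A B' from
        AlgHom.ext fun x => e.symm_apply_apply x, precomp_id']
    exact congrArg PolLaw.MulLaw.law this
  · have hg' : (γ.precomp e.toAlgHom).postcomp g = G := PolLaw.MulLaw.ext hg
    have : γ.postcomp g = G.precomp e.symm.toAlgHom := by
      rw [← hg', postcomp_precomp, precomp_comp, show e.toAlgHom.comp e.symm.toAlgHom = AlgHom.id A B from
        AlgHom.ext fun x => e.apply_symm_apply x, precomp_id']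
    exact congrArg PolLaw.MulLaw.law this

/-- Divided power algebras are unique up to isomorphism. -/
theorem nonempty_algEquiv_of_isGammaD {γ : PolLaw.MulLaw A B C d} (hγ : PolLaw.IsGammaD γ)
    {γ' : PolLaw.MulLaw A B C' d} (hγ' : PolLaw.IsGammaD γ') : Nonempty (C ≃ₐ[A] C') := by
  obtain ⟨f, hf, -⟩ := hγ C' γ'
  obtain ⟨g, hg, -⟩ := hγ' C γ
  have hf' : γ.postcomp f = γ' := PolLaw.MulLaw.ext hf
  have hg' : γ'.postcomp g = γ := PolLaw.MulLaw.ext hg
  have key : ∀ {E : Type u} [CommRing E] [Algebra A E] {δ : PolLaw.MulLaw A B E d}, PolLaw.IsGammaD δ →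
      ∀ h : E →ₐ[A] E, δ.postcomp h = δ → h = AlgHom.id A E := by
    intro E _ _ δ hδ h hh
    obtain ⟨i, -, hu⟩ := hδ E δ
    refine (hu h (congrArg PolLaw.MulLaw.law hh)).trans (hu _ ?_).symm
    refine ext_of_co (δ.postcomp (AlgHom.id A E)).homog δ.homog (b := (id : B → B)) (by simp) fun ν => ?_
    rw [co_postcomp]
    rfl
  exact ⟨AlgEquiv.ofAlgHom f g (key hγ' _ (by rw [← postcomp_postcomp, hg', hf']))
    (key hγ _ (by rw [← postcomp_postcomp, hf', hg']))⟩

/-- Divided powers of a finitely presented algebra are finitely presented. -/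
theorem finitePresentation_gammaD [Algebra.FinitePresentation A B] {γ : PolLaw.MulLaw A B C d}
    (hγ : PolLaw.IsGammaD γ) : Algebra.FinitePresentation A C := by
  let P := Algebra.Presentation.ofFinitePresentation A B
  have : IsNoetherianRing P.Core := Algebra.FiniteType.isNoetherianRing ℤ P.Core
  obtain ⟨C₀, _, _, γ₀, hγ₀⟩ := exists_gammaD P.Core (P.ModelOfHasCoeffs P.Core) d
  have : Algebra.FinitePresentation P.Core C₀ := Algebra.FinitePresentation.of_finiteType.mp (finiteType_gammaD hγ₀)
  have h := isGammaD_precomp_equiv (isGammaD_extLaw A hγ₀) (P.tensorModelOfHasCoeffsEquiv P.Core).symm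
  obtain ⟨e⟩ := nonempty_algEquiv_of_isGammaD h hγ
  exact Algebra.FinitePresentation.equiv e

end Groth.Agent.H22Alg.PL
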