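import Mathlib
import Groth.Prelude.Def_PolLaw

/-!
When the degree `d` part of a divided power algebra is spanned by `d`-th divided powers.
-/

universe u

open DividedPowerAlgebra

namespace Groth.Agent.H22Alg.GammaSpan

variable {A M : Type u} [CommRing A] [AddCommGroup M] [Module A M]

/-- The local condition: many residues or a single generator. -/
def Cond (d : ℕ) (p : Ideal A) : Prop :=
  (∃ t : Fin d → A, ∀ i j, i ≠ j → t i - t j ∉ p) ∨
    ∃ m₀ : M, ∀ m : M, ∃ u, u ∉ p ∧ ∃ a : A, u • m = a • m₀

theorem mul_mem_of_local {d a b : ℕ} (hab : a + b ≤ d) (h : ∀ p : Ideal A, p.IsMaximal → Cond (M := M) d p)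
    (m n : M) :
    dp A a m * dp A b n ∈ Submodule.span A (Set.range (dp A (a + b) : M → DividedPowerAlgebra A M)) := by
  set N := Submodule.span A (Set.range (dp A (a + b) : M → DividedPowerAlgebra A M))
  rcases Nat.eq_zero_or_pos a with rfl | ha
  · rw [dp_zero, one_mul]
    exact Submodule.subset_span ⟨n, by rw [zero_add]⟩
  let I : Ideal A := (N.comap (LinearMap.toSpanSingleton A _ (dp A a m * dp A b n)))
  suffices hI : I = ⊤ by
    have h1 : (1 : A) ∈ I := hI ▸ Submodule.mem_top
    simpa [I] using h1
  by_contra hne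
  obtain ⟨p, hp, hIp⟩ := Ideal.exists_le_maximal I hne
  rcases h p hp with ⟨t, ht⟩ | ⟨m₀, hm₀⟩
  · -- interpolation
    set D := a + b with hD
    let s : Fin D → A := fun j => t (Fin.castLE hab j)
    let V := Matrix.vandermonde s
    have hdet : V.det ∉ p := by
      rw [Matrix.det_vandermonde]
      refine fun hmem => ?_
      haveI := hp.isPrime
      obtain ⟨i, -, hi⟩ := Ideal.IsPrime.prod_mem_iff.mp hmem
      obtain ⟨j, hj, hij⟩ := Ideal.IsPrime.prod_mem_iff.mp hi
      exact ht _ _ (fun e => (Finset.mem_Ioi.mp hj).ne ((Fin.castLE_injective hab e).symm)) hij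
    let x : Fin D → DividedPowerAlgebra A M := fun k => dp A (D - (k : ℕ)) m * dp A (k : ℕ) n
    have hx : ∀ j, ∑ k, V j k • x k = dp A D (m + s j • n) - s j ^ D • dp A D n := by
      intro j
      rw [dp_add, Finset.Nat.sum_antidiagonal_eq_sum_range_succ (fun i l => dp A i m * dp A l (s j • n)),
        ← Finset.sum_range_reflect, Finset.sum_range_succ]
      simp only [Nat.succ_eq_add_one, Nat.add_sub_cancel, Nat.sub_self, dp_zero, one_mul, Nat.sub_zero, dp_smul]
      rw [add_sub_cancel_right, ← Fin.sum_univ_eq_sum_range]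
      refine Finset.sum_congr rfl fun k _ => ?_
      rw [show D - (D - (k : ℕ)) = (k : ℕ) by omega, mul_smul_comm]
      rfl
    have hmem : ∀ j, ∑ k, V j k • x k ∈ N := fun j => by
      rw [hx]
      exact sub_mem (Submodule.subset_span ⟨_, rfl⟩) (Submodule.smul_mem _ _ (Submodule.subset_span ⟨_, rfl⟩))
    let k₀ : Fin D := ⟨b, by omega⟩
    have h2 : V.det • x k₀ ∈ N := by
      have : V.det • x k₀ = ∑ j, V.adjugate k₀ j • ∑ k, V j k • x k := by
        simp only [Finset.smul_sum, smul_smul]
        rw [Finset.sum_comm]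
        simp only [← Finset.sum_smul, ← Matrix.mul_apply, Matrix.adjugate_mul]
        simp [Matrix.one_apply, Finset.sum_ite_eq]
      rw [this]
      exact sum_mem fun j _ => Submodule.smul_mem _ _ (hmem j)
    refine hdet (hIp ?_)
    have hxk : x k₀ = dp A a m * dp A b n := by
      simp only [x, k₀]
      rw [show D - b = a by omega]
    rw [hxk] at h2
    exact h2
  · obtain ⟨u, hu, α, hα⟩ := hm₀ m
    obtain ⟨w, hw, β, hβ⟩ := hm₀ n
    have h2 : (u ^ a * w ^ b) • (dp A a m * dp A b n) ∈ N := by
      rw [← smul_mul_smul_comm, ← dp_smul, ← dp_smul, hα, hβ, dp_smul, dp_smul, smul_mul_smul_comm, dp_mul]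
      exact Submodule.smul_mem _ _ (nsmul_mem (Submodule.subset_span (Set.mem_range_self m₀)) _)
    haveI := hp.isPrime
    rcases hp.isPrime.mem_or_mem (hIp h2 : u ^ a * w ^ b ∈ p) with h3 | h3
    · exact hu (hp.isPrime.mem_of_pow_mem _ h3)
    · exact hw (hp.isPrime.mem_of_pow_mem _ h3)

theorem span_dp_eq (d : ℕ) (h : ∀ p : Ideal A, p.IsMaximal → Cond (M := M) d p) :
    Submodule.span A (Set.range (dp A d : M → DividedPowerAlgebra A M)) = PolLaw.gammaPiece A M d := by
  refine le_antisymm (Submodule.span_le.mpr ?_) (Submodule.span_le.mpr ?_)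
  · rintro _ ⟨m, rfl⟩
    exact Submodule.subset_span ⟨1, fun _ => d, fun _ => m, by simp, by simp⟩
  · rintro _ ⟨n, k, m, hk, rfl⟩
    suffices ∀ (n : ℕ) (k : Fin n → ℕ) (m : Fin n → M), (∑ i, k i) ≤ d →
        ∏ i, dp A (k i) (m i) ∈ Submodule.span A (Set.range (dp A (∑ i, k i) : M → DividedPowerAlgebra A M)) by
      have h1 := this n k m hk.le
      rw [hk] at h1
      exact h1
    intro n
    induction n with
    | zero =>
      intro k m _
      exact Submodule.subset_span ⟨0, by simp [dp_zero]⟩
    | succ n ih =>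
      intro k m hle
      rw [Fin.prod_univ_succ]
      rw [Fin.sum_univ_succ] at hle ⊢
      have h1 := ih (fun i => k i.succ) (fun i => m i.succ) (le_of_add_le_right hle)
      generalize ∏ i : Fin n, dp A (k i.succ) (m i.succ) = z at h1 ⊢
      induction h1 using Submodule.span_induction with
      | mem x hx => obtain ⟨y, rfl⟩ := hx; exact mul_mem_of_local hle h _ _
      | zero => rw [mul_zero]; exact zero_mem _
      | add x y _ _ hx hy => rw [mul_add]; exact add_mem hx hy
      | smul r x _ hx => rw [mul_smul_comm]; exact Submodule.smul_mem _ r hx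

theorem cond_of_residue_or_cyclic {d : ℕ} (p : Ideal A) [hp : p.IsMaximal]
    (h : (d : Cardinal) ≤ Cardinal.mk p.ResidueField ∨
      ∃ x : LocalizedModule p.primeCompl M, Submodule.span (Localization.AtPrime p) {x} = ⊤) :
    Cond (M := M) d p := by
  rcases h with h | ⟨x, hx⟩
  · left
    rw [← Cardinal.mk_congr (Equiv.ofBijective _ (Ideal.bijective_algebraMap_quotient_residueField p))] at h
    obtain ⟨e⟩ : Nonempty (ULift.{u} (Fin d) ↪ A ⧸ p) :=
      Cardinal.le_def _ _ |>.mp (by simpa using h)
    choose t ht using fun i : Fin d => Ideal.Quotient.mk_surjective (e ⟨i⟩)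
    refine ⟨t, fun i j hij hmem => hij ?_⟩
    have h1 := (Ideal.Quotient.eq).mpr hmem
    rw [ht, ht] at h1
    simpa using e.injective h1
  · right
    induction x using LocalizedModule.induction_on with
    | h m₀ s =>
      refine ⟨m₀, fun m => ?_⟩
      obtain ⟨c, hc⟩ := Submodule.mem_span_singleton.mp
        (hx ▸ Submodule.mem_top : LocalizedModule.mk m (1 : p.primeCompl) ∈
          Submodule.span (Localization.AtPrime p) {LocalizedModule.mk m₀ s})
      induction c using Localization.induction_on with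
      | _ y =>
        obtain ⟨α, v⟩ := y
        rw [LocalizedModule.mk_smul_mk, LocalizedModule.mk_eq] at hc
        obtain ⟨w, hw⟩ := hc
        refine ⟨((w * (v * s) : p.primeCompl) : A), (w * (v * s)).2, (w : A) * α, ?_⟩
        simp only [Submonoid.smul_def, Submonoid.coe_mul, Submonoid.coe_one, one_smul, one_mul, smul_smul] at hw ⊢
        exact hw.symm

end Groth.Agent.H22Alg.GammaSpan
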