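import Mathlib
import Groth.Prelude.Def_PolLaw

/-!
Over a small residue field the degree `d` divided powers of a plane do not span.
-/

universe u

open MvPolynomial

namespace Groth.Agent.H22Alg.GammaSpanConverse

variable {F : Type u} [CommRing F] {d : ℕ}

/-- The monomials of degree two in one slot. -/
def slotSq (d : ℕ) : Set ((Fin d × Bool) →₀ ℕ) :=
  {e | ∃ i a b, e = Finsupp.single (i, a) 1 + Finsupp.single (i, b) 1}

/-- The ideal killing products inside one slot. -/
noncomputable def slotIdeal (F : Type u) [CommRing F] (d : ℕ) : Ideal (MvPolynomial (Fin d × Bool) F) :=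
  Ideal.span ((fun e => monomial e (1 : F)) '' slotSq d)

/-- The linear form of one slot. -/
noncomputable def slot (i : Fin d) (v : F × F) : MvPolynomial (Fin d × Bool) F :=
  C v.1 * X (i, true) + C v.2 * X (i, false)

theorem slot_mul_slot (i : Fin d) (v w : F × F) : slot i v * slot i w ∈ slotIdeal F d := by
  have h : ∀ a b, (X (i, a) * X (i, b) : MvPolynomial (Fin d × Bool) F) ∈ slotIdeal F d := fun a b =>
    Ideal.subset_span ⟨_, ⟨i, a, b, rfl⟩, by
      rw [X, X, monomial_mul, one_mul]⟩
  rw [slot, slot, show ∀ a b c e : MvPolynomial (Fin d × Bool) F,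
    (C v.1 * a + C v.2 * b) * (C w.1 * c + C w.2 * e) =
      C v.1 * C w.1 * (a * c) + C v.1 * C w.2 * (a * e) + C v.2 * C w.1 * (b * c) + C v.2 * C w.2 * (b * e) from
    fun a b c e => by ring]
  exact add_mem (add_mem (add_mem (Ideal.mul_mem_left _ _ (h _ _)) (Ideal.mul_mem_left _ _ (h _ _)))
    (Ideal.mul_mem_left _ _ (h _ _))) (Ideal.mul_mem_left _ _ (h _ _))

/-- The quotient ring. -/
abbrev Ring' (F : Type u) [CommRing F] (d : ℕ) : Type u := MvPolynomial (Fin d × Bool) F ⧸ slotIdeal F d

/-- The generating series of the divided powers of a vector. -/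
noncomputable def gf (v : F × F) : Polynomial (Ring' F d) :=
  ∏ i : Fin d, (1 + Polynomial.C (Ideal.Quotient.mk _ (slot i v)) * Polynomial.X)

theorem mk_mul_mk (i : Fin d) (v w : F × F) :
    Ideal.Quotient.mk (slotIdeal F d) (slot i v) * Ideal.Quotient.mk (slotIdeal F d) (slot i w) = 0 := by
  rw [← map_mul, Ideal.Quotient.eq_zero_iff_mem]; exact slot_mul_slot i v w

theorem gf_add (v w : F × F) : gf (d := d) (v + w) = gf v * gf w := by
  rw [gf, gf, gf, ← Finset.prod_mul_distrib]
  refine Finset.prod_congr rfl fun i _ => ?_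
  have h : slot i (v + w) = slot i v + slot i w := by simp [slot]; ring
  have h0 : (Polynomial.C (Ideal.Quotient.mk (slotIdeal F d) (slot i v)) : Polynomial (Ring' F d)) *
      Polynomial.C (Ideal.Quotient.mk (slotIdeal F d) (slot i w)) = 0 := by
    rw [← Polynomial.C_mul, mk_mul_mk, map_zero]
  rw [h, map_add, map_add]
  linear_combination (-(Polynomial.X * Polynomial.X) : Polynomial (Ring' F d)) * h0

theorem gf_eq_sum (v : F × F) : gf (d := d) v = ∑ S : Finset (Fin d),
    Polynomial.C (∏ i ∈ S, Ideal.Quotient.mk _ (slot i v)) * Polynomial.X ^ S.card := by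
  rw [gf]
  refine (Finset.prod_one_add (f := fun i : Fin d => (Polynomial.C (Ideal.Quotient.mk (slotIdeal F d) (slot i v)) * Polynomial.X : Polynomial (Ring' F d))) Finset.univ).trans ?_
  rw [Finset.powerset_univ]
  refine Finset.sum_congr rfl fun S _ => ?_
  rw [Finset.prod_mul_distrib, Finset.prod_const, map_prod]

/-- The divided powers of a vector. -/
noncomputable def dpv (n : ℕ) (v : F × F) : Ring' F d := (gf v).coeff n

theorem dpv_eq (n : ℕ) (v : F × F) :
    dpv (d := d) n v = ∑ S ∈ (Finset.univ : Finset (Fin d)).powersetCard n, ∏ i ∈ S, Ideal.Quotient.mk _ (slot i v) := by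
  rw [dpv, gf_eq_sum, Polynomial.finsetSum_coeff]
  simp only [Polynomial.coeff_C_mul_X_pow]
  rw [← Finset.sum_filter]
  refine Finset.sum_congr ?_ fun _ _ => rfl
  ext S; simp [eq_comm]

theorem dpv_zero (v : F × F) : dpv (d := d) 0 v = 1 := by
  rw [dpv_eq, Finset.powersetCard_zero, Finset.sum_singleton, Finset.prod_empty]

theorem dpv_smul (n : ℕ) (r : F) (v : F × F) :
    dpv (d := d) n (r • v) = algebraMap F (Ring' F d) r ^ n * dpv n v := by
  rw [dpv_eq, dpv_eq, Finset.mul_sum]
  refine Finset.sum_congr rfl fun S hS => ?_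
  rw [← (Finset.mem_powersetCard.mp hS).2, ← Finset.prod_const, ← Finset.prod_mul_distrib]
  refine Finset.prod_congr rfl fun i _ => ?_
  rw [IsScalarTower.algebraMap_apply F (MvPolynomial (Fin d × Bool) F) (Ring' F d), Ideal.Quotient.algebraMap_eq,
    ← map_mul]
  congr 1
  simp [slot]; ring

theorem dpv_mul (n p : ℕ) (v : F × F) :
    dpv (d := d) n v * dpv p v = (n + p).choose n • dpv (n + p) v := by
  classical
  set L : Fin d → Ring' F d := fun i => Ideal.Quotient.mk _ (slot i v)
  rw [dpv_eq, dpv_eq, dpv_eq, Finset.sum_mul_sum, ← Finset.sum_product', Finset.smul_sum]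
  rw [← Finset.sum_filter_add_sum_filter_not _ (fun x : Finset (Fin d) × Finset (Fin d) => Disjoint x.1 x.2)]
  have hz : ∑ x ∈ ((Finset.univ : Finset (Fin d)).powersetCard n ×ˢ Finset.univ.powersetCard p).filter
      (fun x => ¬ Disjoint x.1 x.2), (∏ i ∈ x.1, L i) * ∏ i ∈ x.2, L i = 0 :=
    Finset.sum_eq_zero fun x hx => by
      obtain ⟨i, hi1, hi2⟩ := Finset.not_disjoint_iff.mp (Finset.mem_filter.mp hx).2
      rw [← Finset.mul_prod_erase _ _ hi1, ← Finset.mul_prod_erase _ _ hi2, mul_mul_mul_comm, mk_mul_mk, zero_mul]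
  rw [hz, add_zero]
  rw [← Finset.sum_fiberwise_of_maps_to (g := fun x : Finset (Fin d) × Finset (Fin d) => x.1 ∪ x.2)
    (t := Finset.univ.powersetCard (n + p))]
  · refine Finset.sum_congr rfl fun U hU => ?_
    have hcard : ((((Finset.univ : Finset (Fin d)).powersetCard n ×ˢ Finset.univ.powersetCard p).filter
        fun x => Disjoint x.1 x.2).filter fun x => x.1 ∪ x.2 = U).card = (n + p).choose n := by
      rw [← (Finset.mem_powersetCard.mp hU).2, ← Finset.card_powersetCard]
      refine Finset.card_nbij' (fun x => x.1) (fun S => (S, U \ S)) ?_ ?_ ?_ ?_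
      · intro x hx
        simp only [Finset.coe_filter, Finset.mem_filter, Finset.mem_product, Finset.mem_powersetCard,
          Set.mem_ofPred_eq, Finset.mem_coe] at hx ⊢
        exact ⟨hx.2 ▸ Finset.subset_union_left, hx.1.1.1.2⟩
      · intro S hS
        simp only [Finset.coe_filter, Finset.mem_filter, Finset.mem_product, Finset.mem_powersetCard,
          Set.mem_ofPred_eq, Finset.mem_coe] at hS ⊢
        have hU' := (Finset.mem_powersetCard.mp hU).2
        exact ⟨⟨⟨⟨Finset.subset_univ _, hS.2⟩, Finset.subset_univ _, by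
          rw [Finset.card_sdiff_of_subset hS.1]; omega⟩, Finset.disjoint_sdiff⟩,
          Finset.union_sdiff_of_subset hS.1⟩
      · intro x hx
        simp only [Finset.coe_filter, Finset.mem_filter, Set.mem_ofPred_eq, Finset.mem_coe] at hx
        refine Prod.ext rfl ?_
        show U \ x.1 = x.2
        rw [← hx.2, Finset.union_sdiff_cancel_left hx.1.2]
      · intro S _; rfl
    rw [Finset.sum_congr rfl (g := fun _ => ∏ i ∈ U, L i) fun x hx => ?_, Finset.sum_const, hcard]
    simp only [Finset.mem_filter] at hx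
    rw [← hx.2, Finset.prod_union hx.1.2]
  · intro x hx
    simp only [Finset.mem_filter, Finset.mem_product, Finset.mem_powersetCard] at hx
    simp [Finset.card_union_of_disjoint hx.2, hx.1.1.2, hx.1.2.2]

theorem dpv_add (n : ℕ) (v w : F × F) :
    dpv (d := d) n (v + w) = ∑ k ∈ Finset.HasAntidiagonal.antidiagonal n, dpv k.1 v * dpv k.2 w := by
  rw [dpv, gf_add, Polynomial.coeff_mul]
  rfl

/-- The coefficient of a monomial with at most one variable in each slot. -/
theorem coeff_eq_of_sub_mem {e : (Fin d × Bool) →₀ ℕ} (he : ∀ i, e (i, true) + e (i, false) ≤ 1)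
    {P Q : MvPolynomial (Fin d × Bool) F} (h : P - Q ∈ slotIdeal F d) : P.coeff e = Q.coeff e := by
  by_contra hne
  rw [slotIdeal, mem_ideal_span_monomial_image] at h
  obtain ⟨g, ⟨i, a, b, rfl⟩, hle⟩ := h e (by rw [mem_support_iff, coeff_sub]; exact sub_ne_zero.mpr hne)
  have h1 := hle (i, true)
  have h2 := hle (i, false)
  have := he i
  cases a <;> cases b <;> simp at h1 h2 <;> omega

/-- The exponent with first variable on a given set of slots. -/
noncomputable def expo (T : Finset (Fin d)) : (Fin d × Bool) →₀ ℕ :=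
  ∑ i, Finsupp.single (i, decide (i ∈ T)) 1

theorem expo_apply (T : Finset (Fin d)) (i : Fin d) (b : Bool) :
    expo T (i, b) = if b = decide (i ∈ T) then 1 else 0 := by
  rw [expo, Finsupp.finsetSum_apply, Finset.sum_eq_single i]
  · simp [Finsupp.single_apply, eq_comm]
  · intro j _ hj; simp [Finsupp.single_apply, hj]
  · simp

theorem coeff_prod_slot (T : Finset (Fin d)) (v : Fin d → F × F) :
    (∏ i, slot i (v i)).coeff (expo T) = ∏ i, (if i ∈ T then (v i).1 else (v i).2) := by
  classical
  have h : ∀ i, slot i (v i) = ∑ b : Bool, monomial (Finsupp.single (i, b) 1) (if b then (v i).1 else (v i).2) :=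
    fun i => by simp [slot, C_mul_X_eq_monomial, add_comm]
  simp only [h]
  rw [Finset.prod_univ_sum, Fintype.piFinset_univ, coeff_sum, Finset.sum_eq_single (fun i => decide (i ∈ T))]
  · rw [← monomial_sum_prod, coeff_monomial, expo, if_pos rfl]
    refine Finset.prod_congr rfl fun i _ => ?_
    by_cases hi : i ∈ T <;> simp [hi]
  · intro c _ hc
    rw [← monomial_sum_prod, coeff_monomial, if_neg]
    intro heq
    refine hc (funext fun i => ?_)
    have h1 := DFunLike.congr_fun heq (i, c i)
    rw [expo_apply, Finsupp.finsetSum_apply, Finset.sum_eq_single i] at h1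
    · simp only [Finsupp.single_eq_same] at h1
      by_contra hne
      rw [if_neg hne] at h1
      exact one_ne_zero h1
    · intro j _ hj; simp [Finsupp.single_apply, hj]
    · simp
  · simp

/-- Products of two elementary symmetric polynomials, one in each kind of variable. -/
noncomputable def pairSum (a b : ℕ) : MvPolynomial (Fin d × Bool) F :=
  (∑ S ∈ (Finset.univ : Finset (Fin d)).powersetCard a, ∏ i ∈ S, slot i (1, 0)) *
    ∑ S ∈ (Finset.univ : Finset (Fin d)).powersetCard b, ∏ i ∈ S, slot i (0, 1)

theorem coeff_pairSum (a b : ℕ) (T : Finset (Fin d)) :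
    (pairSum a b : MvPolynomial (Fin d × Bool) F).coeff (expo T) = if T.card = a ∧ d - T.card = b then 1 else 0 := by
  classical
  have h1 : ∀ i : Fin d, (slot i (1, 0) : MvPolynomial (Fin d × Bool) F) = monomial (Finsupp.single (i, true) 1) 1 :=
    fun i => by simp [slot, X]
  have h2 : ∀ i : Fin d, (slot i (0, 1) : MvPolynomial (Fin d × Bool) F) = monomial (Finsupp.single (i, false) 1) 1 :=
    fun i => by simp [slot, X]
  have hind : ∀ (S : Finset (Fin d)) (c : Bool) (i : Fin d) (e : Bool),
      (∑ j ∈ S, Finsupp.single (j, c) 1) (i, e) = if i ∈ S ∧ c = e then 1 else 0 := fun S c i e => by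
    rw [Finsupp.finsetSum_apply, Finset.sum_congr rfl fun j _ => Finsupp.single_apply]
    simp only [Prod.ext_iff, ite_and]
    by_cases he : c = e <;> simp [he]
  have key : ∀ S₁ S₂ : Finset (Fin d), ((∑ j ∈ S₁, Finsupp.single (j, true) 1) +
      ∑ j ∈ S₂, Finsupp.single (j, false) 1 = expo T) ↔ S₁ = T ∧ S₂ = Tᶜ := fun S₁ S₂ => by
    rw [DFunLike.ext_iff]
    refine ⟨fun h => ⟨Finset.ext fun i => ?_, Finset.ext fun i => ?_⟩, fun h => ?_⟩
    · have := h (i, true); rw [Finsupp.add_apply, hind, hind, expo_apply] at this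
      by_cases hT : i ∈ T <;> simp [hT] at this ⊢ <;> exact this
    · have := h (i, false); rw [Finsupp.add_apply, hind, hind, expo_apply] at this
      simp only [Finset.mem_compl]; by_cases hT : i ∈ T <;> simp [hT] at this ⊢ <;> exact this
    · rintro ⟨i, e⟩
      rw [Finsupp.add_apply, hind, hind, expo_apply, h.1, h.2]
      cases e <;> by_cases hT : i ∈ T <;> simp [hT]
  rw [pairSum]
  simp only [h1, h2, ← monomial_sum_one]
  rw [Finset.sum_mul_sum, ← Finset.sum_product', coeff_sum]
  simp only [monomial_mul, one_mul, coeff_monomial, key]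
  rw [Finset.sum_congr rfl (g := fun x => if x = (T, Tᶜ) then (1 : F) else 0) fun x _ => by simp [Prod.ext_iff],
    Finset.sum_ite_eq']
  simp [Finset.mem_powersetCard, Finset.card_compl, Fintype.card_fin]

variable {A : Type u} [CommRing A] [Algebra A F] {M : Type u} [AddCommGroup M] [Module A M]
  (π : M →ₗ[A] F × F)

/-- The test homomorphism of a pair of functionals. -/
noncomputable def test (d : ℕ) : DividedPowerAlgebra A M →ₐ[A] Ring' F d :=
  DividedPowerAlgebra.lift' (f := fun x : ℕ × M => dpv x.1 (π x.2)) (fun m => dpv_zero _)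
    (fun n r m => by
      rw [map_smul, ← algebraMap_smul F r (π m), dpv_smul, ← IsScalarTower.algebraMap_apply, Algebra.smul_def, map_pow])
    (fun n p m => dpv_mul n p _) (fun n u v => by rw [map_add, dpv_add])

theorem test_dp (n : ℕ) (m : M) : test π d (DividedPowerAlgebra.dp A n m) = dpv n (π m) :=
  DividedPowerAlgebra.lift'_apply_dp ..

/-- Over a field with fewer than `d` elements the divided powers of a plane do not span. -/
theorem not_span [IsDomain F] [Finite F] (hcard : Nat.card F < d) (hπ : Function.Surjective π) :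
    Submodule.span A (Set.range (DividedPowerAlgebra.dp A d : M → DividedPowerAlgebra A M)) ≠
      PolLaw.gammaPiece A M d := by
  classical
  haveI := Fintype.ofFinite F
  letI : Field F := Fintype.fieldOfDomain F
  set q := Fintype.card F with hq
  rw [Nat.card_eq_fintype_card] at hcard
  have hq2 : 2 ≤ q := Fintype.one_lt_card
  have hq1 : 1 ≤ d := by omega
  let T₁ : Finset (Fin d) := Finset.univ.filter fun i => (i : ℕ) < q
  let T₂ : Finset (Fin d) := Finset.univ.filter fun i => (i : ℕ) = 0
  have hcardT₁ : T₁.card = q := by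
    rw [show T₁ = (Finset.univ : Finset (Fin q)).map (Fin.castLEEmb hcard.le) by
      ext i; simp only [T₁, Finset.mem_filter, Finset.mem_univ, true_and, Finset.mem_map]
      exact ⟨fun h => ⟨⟨i, h⟩, rfl⟩, fun ⟨a, ha⟩ => ha ▸ a.isLt⟩, Finset.card_map, Finset.card_univ, Fintype.card_fin]
  have hcardT₂ : T₂.card = 1 := by
    rw [show T₂ = {⟨0, by omega⟩} by ext i; simp [T₂, Fin.ext_iff], Finset.card_singleton]
  have hT : ∀ (T : Finset (Fin d)) i, expo T (i, true) + expo T (i, false) ≤ 1 := fun T i => by
    rw [expo_apply, expo_apply]; by_cases hi : i ∈ T <;> simp [hi]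
  obtain ⟨m₁, hm₁⟩ := hπ (1, 0)
  obtain ⟨m₂, hm₂⟩ := hπ (0, 1)
  intro heq
  set z := DividedPowerAlgebra.dp A q m₁ * DividedPowerAlgebra.dp A (d - q) m₂ with hz
  have hzmem : z ∈ PolLaw.gammaPiece A M d :=
    Submodule.subset_span ⟨2, ![q, d - q], ![m₁, m₂], by simp; omega, by simp [hz]⟩
  rw [← heq] at hzmem
  -- the two coefficients agree on the span
  have hspan : ∀ y ∈ Submodule.span A (Set.range (DividedPowerAlgebra.dp A d : M → DividedPowerAlgebra A M)),
      ∀ P, Ideal.Quotient.mk (slotIdeal F d) P = test π d y → P.coeff (expo T₁) = P.coeff (expo T₂) := by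
    intro y hy
    induction hy using Submodule.span_induction with
    | mem y hy =>
      obtain ⟨m, rfl⟩ := hy
      intro P hP
      rw [test_dp, dpv_eq,
        show (Finset.univ : Finset (Fin d)).powersetCard d = {Finset.univ} by
          simpa using Finset.powersetCard_self (Finset.univ : Finset (Fin d)),
        Finset.sum_singleton, ← map_prod] at hP
      have h := Ideal.Quotient.eq.mp hP
      rw [coeff_eq_of_sub_mem (hT T₁) h, coeff_eq_of_sub_mem (hT T₂) h, coeff_prod_slot, coeff_prod_slot,
        Finset.prod_ite, Finset.prod_ite, Finset.prod_const, Finset.prod_const, Finset.prod_const, Finset.prod_const,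
        Finset.filter_not, Finset.filter_not]
      simp only [Finset.filter_univ_mem]
      rw [Finset.card_sdiff_of_subset (Finset.subset_univ _), Finset.card_sdiff_of_subset (Finset.subset_univ _),
        Finset.card_univ, Fintype.card_fin, hcardT₁, hcardT₂, pow_one, hq, FiniteField.pow_card]
      congr 1
      rcases eq_or_ne (π m).2 0 with h0 | h0
      · rw [h0, zero_pow (by omega), zero_pow (by omega)]
      · rw [show d - 1 = (d - Fintype.card F) + (Fintype.card F - 1) by omega, pow_add,
          FiniteField.pow_card_sub_one_eq_one _ h0, mul_one]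
    | zero =>
      intro P hP
      rw [map_zero, Ideal.Quotient.eq_zero_iff_mem, ← sub_zero P] at hP
      rw [coeff_eq_of_sub_mem (hT T₁) hP, coeff_eq_of_sub_mem (hT T₂) hP, coeff_zero, coeff_zero]
    | add x y _ _ hx hy =>
      intro P hP
      obtain ⟨Px, hPx⟩ := Ideal.Quotient.mk_surjective (test π d x)
      obtain ⟨Py, hPy⟩ := Ideal.Quotient.mk_surjective (test π d y)
      rw [map_add, ← hPx, ← hPy, ← map_add] at hP
      have h := Ideal.Quotient.eq.mp hP
      rw [coeff_eq_of_sub_mem (hT T₁) h, coeff_eq_of_sub_mem (hT T₂) h, coeff_add, coeff_add, hx Px hPx, hy Py hPy]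
    | smul r x _ hx =>
      intro P hP
      obtain ⟨Px, hPx⟩ := Ideal.Quotient.mk_surjective (test π d x)
      rw [map_smul, ← hPx, show r • Ideal.Quotient.mk (slotIdeal F d) Px = Ideal.Quotient.mk (slotIdeal F d) (r • Px) from rfl] at hP
      have h := Ideal.Quotient.eq.mp hP
      rw [coeff_eq_of_sub_mem (hT T₁) h, coeff_eq_of_sub_mem (hT T₂) h, coeff_smul, coeff_smul, hx Px hPx]
  have hP : Ideal.Quotient.mk (slotIdeal F d) (pairSum q (d - q)) = test π d z := by
    rw [hz, map_mul, test_dp, test_dp, hm₁, hm₂, dpv_eq, dpv_eq, pairSum]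
    simp [map_sum, map_prod]
  have h := hspan z hzmem _ hP
  rw [coeff_pairSum, coeff_pairSum, hcardT₁, hcardT₂] at h
  rw [if_pos ⟨rfl, rfl⟩, if_neg (fun hc => by omega)] at h
  exact one_ne_zero h

end Groth.Agent.H22Alg.GammaSpanConverse
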