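import Mathlib
import Groth.Prelude.Def_Curv2
import Groth.Prelude.Def_Pi1
import Groth.Prelude.Def_EGA4b
import Groth.Agent.H05EGA4.NormalTensorGeom
import Groth.Agent.H28Neron.NormalSmooth
import Groth.Agent.H28Neron.EtaleNeron

/-!
# Normality of fibre products over a field (helper22)
-/

set_option autoImplicit false
set_option linter.style.haveILetI false
universe u
open CategoryTheory AlgebraicGeometry Limits
open scoped TensorProduct

namespace Groth.Agent.H22Alg.NormalProd

theorem isNormalScheme_of_isOpenImmersion {X Y : Scheme.{u}} (j : X ⟶ Y) [IsOpenImmersion j]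
    (h : Pi1.IsNormalScheme Y) : Pi1.IsNormalScheme X := by
  intro x
  let e := (asIso (j.stalkMap x)).commRingCatIsoToRingEquiv
  obtain ⟨h1, h2⟩ := h (j x)
  exact ⟨haveI := h1; e.symm.toMulEquiv.isDomain _, haveI := h2; IsIntegrallyClosed.of_equiv e⟩

theorem isNormalRing_of_isNormalScheme_spec {R : Type u} [CommRing R]
    (h : Pi1.IsNormalScheme (Spec (CommRingCat.of R))) : EGA4.IsNormalRing R :=
  H05EGA4.isNormalRing_of_ringEquiv (Scheme.ΓSpecIso (CommRingCat.of R)).commRingCatIsoToRingEquiv
    (H28Neron.isNormalRing_sections h (isAffineOpen_top _))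

theorem isNormalScheme_spec {R : Type u} [CommRing R] (h : EGA4.IsNormalRing R) :
    Pi1.IsNormalScheme (Spec (CommRingCat.of R)) :=
  H28Neron.EtaleNeron.isNormalScheme_Spec R h

/-- A fibre product over a field is normal if the tensor products of the rings of affine opens are. -/
theorem isNormalScheme_pullback {k : Type u} [Field k] {X Y : Scheme.{u}}
    (f : X ⟶ Spec (CommRingCat.of k)) (g : Y ⟶ Spec (CommRingCat.of k))
    (h : ∀ (U : X.Opens) (hU : IsAffineOpen U) (V : Y.Opens) (hV : IsAffineOpen V)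
      [Algebra k Γ(X, U)] [Algebra k Γ(Y, V)]
      (_ : hU.fromSpec ≫ f = Spec.map (CommRingCat.ofHom (algebraMap k Γ(X, U))))
      (_ : hV.fromSpec ≫ g = Spec.map (CommRingCat.ofHom (algebraMap k Γ(Y, V)))),
      EGA4.IsNormalRing (Γ(X, U) ⊗[k] Γ(Y, V))) :
    Pi1.IsNormalScheme (pullback f g) := by
  intro z
  obtain ⟨U, hU, hxU, -⟩ := exists_isAffineOpen_mem_and_subset (x := pullback.fst f g z) (U := ⊤) trivial
  obtain ⟨V, hV, hyV, -⟩ := exists_isAffineOpen_mem_and_subset (x := pullback.snd f g z) (U := ⊤) trivial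
  letI : Algebra k Γ(X, U) := (Spec.preimage (hU.fromSpec ≫ f)).hom.toAlgebra
  letI : Algebra k Γ(Y, V) := (Spec.preimage (hV.fromSpec ≫ g)).hom.toAlgebra
  have hf : hU.fromSpec ≫ f = Spec.map (CommRingCat.ofHom (algebraMap k Γ(X, U))) :=
    (Spec.map_preimage (hU.fromSpec ≫ f)).symm
  have hg : hV.fromSpec ≫ g = Spec.map (CommRingCat.ofHom (algebraMap k Γ(Y, V))) :=
    (Spec.map_preimage (hV.fromSpec ≫ g)).symm
  let j : pullback (Spec.map (CommRingCat.ofHom (algebraMap k Γ(X, U))))
      (Spec.map (CommRingCat.ofHom (algebraMap k Γ(Y, V)))) ⟶ pullback f g :=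
    pullback.map _ _ f g hU.fromSpec hV.fromSpec (𝟙 _) (by rw [Category.comp_id, hf]) (by rw [Category.comp_id, hg])
  haveI : IsOpenImmersion j := by dsimp only [j]; infer_instance
  have hz : z ∈ Set.range j := by
    dsimp only [j]
    rw [Scheme.Pullback.range_map]
    exact ⟨by simpa [hU.range_fromSpec] using hxU, by simpa [hV.range_fromSpec] using hyV⟩
  obtain ⟨w, rfl⟩ := hz
  have hn : Pi1.IsNormalScheme (pullback (Spec.map (CommRingCat.ofHom (algebraMap k Γ(X, U))))
      (Spec.map (CommRingCat.ofHom (algebraMap k Γ(Y, V))))) :=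
    isNormalScheme_of_isOpenImmersion (pullbackSpecIso k Γ(X, U) Γ(Y, V)).hom
      (isNormalScheme_spec (h U hU V hV hf hg))
  let e := (asIso (j.stalkMap w)).commRingCatIsoToRingEquiv
  obtain ⟨h1, h2⟩ := hn w
  exact ⟨haveI := h1; e.toMulEquiv.isDomain _, haveI := h2; IsIntegrallyClosed.of_equiv e.symm⟩

/-- Variant of `isNormalScheme_pullback` with an affine second factor. -/
theorem isNormalScheme_pullback_spec {k : Type u} [Field k] {X : Scheme.{u}}
    (f : X ⟶ Spec (CommRingCat.of k)) (B : Type u) [CommRing B] [Algebra k B]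
    (h : ∀ (U : X.Opens) (hU : IsAffineOpen U) [Algebra k Γ(X, U)]
      (_ : hU.fromSpec ≫ f = Spec.map (CommRingCat.ofHom (algebraMap k Γ(X, U)))),
      EGA4.IsNormalRing (Γ(X, U) ⊗[k] B)) :
    Pi1.IsNormalScheme (pullback f (Spec.map (CommRingCat.ofHom (algebraMap k B)))) := by
  intro z
  obtain ⟨U, hU, hxU, -⟩ := exists_isAffineOpen_mem_and_subset
    (x := pullback.fst f (Spec.map (CommRingCat.ofHom (algebraMap k B))) z) (U := ⊤) trivial
  letI : Algebra k Γ(X, U) := (Spec.preimage (hU.fromSpec ≫ f)).hom.toAlgebra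
  have hf : hU.fromSpec ≫ f = Spec.map (CommRingCat.ofHom (algebraMap k Γ(X, U))) :=
    (Spec.map_preimage (hU.fromSpec ≫ f)).symm
  let j : pullback (Spec.map (CommRingCat.ofHom (algebraMap k Γ(X, U))))
      (Spec.map (CommRingCat.ofHom (algebraMap k B))) ⟶ pullback f (Spec.map (CommRingCat.ofHom (algebraMap k B))) :=
    pullback.map _ _ _ _ hU.fromSpec (𝟙 _) (𝟙 _) (by rw [Category.comp_id, hf]) (by simp)
  haveI : IsOpenImmersion j := by dsimp only [j]; infer_instance
  have hz : z ∈ Set.range j := by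
    dsimp only [j]
    rw [Scheme.Pullback.range_map]
    exact ⟨by simpa [hU.range_fromSpec] using hxU, by simp⟩
  obtain ⟨w, rfl⟩ := hz
  have hn : Pi1.IsNormalScheme (pullback (Spec.map (CommRingCat.ofHom (algebraMap k Γ(X, U))))
      (Spec.map (CommRingCat.ofHom (algebraMap k B)))) :=
    isNormalScheme_of_isOpenImmersion (pullbackSpecIso k Γ(X, U) B).hom
      (isNormalScheme_spec (h U hU hf))
  let e := (asIso (j.stalkMap w)).commRingCatIsoToRingEquiv
  obtain ⟨h1, h2⟩ := hn w
  exact ⟨haveI := h1; e.toMulEquiv.isDomain _, haveI := h2; IsIntegrallyClosed.of_equiv e.symm⟩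

theorem isGeomNormal_of_forall_bc {k : Type u} [Field k] (X : Scheme.{u}) [X.Over (Spec (CommRingCat.of k))]
    (hX : ∀ (K : Type u) [Field K] [Algebra k K], Pi1.IsNormalScheme (Curv2.bc k X K))
    {U : X.Opens} (hU : IsAffineOpen U) [Algebra k Γ(X, U)]
    (hf : hU.fromSpec ≫ (X ↘ Spec (CommRingCat.of k)) = Spec.map (CommRingCat.ofHom (algebraMap k Γ(X, U)))) :
    EGA4.IsGeomNormal k Γ(X, U) := by
  intro k' _ _ _
  let j : pullback (Spec.map (CommRingCat.ofHom (algebraMap k Γ(X, U))))
      (Spec.map (CommRingCat.ofHom (algebraMap k k'))) ⟶ Curv2.bc k X k' :=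
    pullback.map _ _ _ _ hU.fromSpec (𝟙 _) (𝟙 _) (by rw [Category.comp_id, hf]) (by simp)
  haveI : IsOpenImmersion j := by dsimp only [j]; infer_instance
  exact H05EGA4.isNormalRing_of_ringEquiv (Algebra.TensorProduct.comm k Γ(X, U) k').toRingEquiv
    (isNormalRing_of_isNormalScheme_spec
      (isNormalScheme_of_isOpenImmersion (pullbackSpecIso k Γ(X, U) k').inv
        (isNormalScheme_of_isOpenImmersion j (hX k'))))

theorem isNormalRing_of_isArtinian {R : Type u} [CommRing R] [IsArtinianRing R] [IsReduced R] :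
    EGA4.IsNormalRing R := by
  intro p _
  haveI : IsArtinianRing (Localization.AtPrime p) := IsArtinianRing.localization_artinian p.primeCompl _
  haveI : IsReduced (Localization.AtPrime p) := inferInstance
  letI := (IsArtinianRing.isField_of_isReduced_of_isLocalRing (Localization.AtPrime p)).toField
  exact ⟨inferInstance, inferInstance⟩

theorem isGeomNormal_field (k K : Type u) [Field k] [Field K] [Algebra k K]
    [GeometricallyReduced (Spec.map (CommRingCat.ofHom (algebraMap k K)))] : EGA4.IsGeomNormal k K := by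
  intro k' _ _ _
  haveI : IsReduced (K ⊗[k] k') := by
    haveI : AlgebraicGeometry.IsReduced (pullback (Spec.map (CommRingCat.ofHom (algebraMap k K)))
        (Spec.map (CommRingCat.ofHom (algebraMap k k')))) :=
      GeometricallyReduced.geometrically_isReduced _ _ _ (.of_hasPullback _ _)
    haveI : AlgebraicGeometry.IsReduced (Spec (CommRingCat.of (K ⊗[k] k'))) :=
      isReduced_of_isOpenImmersion (pullbackSpecIso k K k').inv
    exact (affine_isReduced_iff (CommRingCat.of (K ⊗[k] k'))).mp inferInstance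
  haveI : Module.Finite K (K ⊗[k] k') := inferInstance
  haveI : IsArtinianRing (K ⊗[k] k') := IsArtinianRing.of_finite K _
  exact H05EGA4.isNormalRing_of_ringEquiv (Algebra.TensorProduct.comm k K k').toRingEquiv
    isNormalRing_of_isArtinian

end Groth.Agent.H22Alg.NormalProd
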