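import Mathlib
import Groth.Prelude.Def_Curv2
import Groth.Prelude.Def_CurvBase
import Groth.Prelude.Def_Pi1
import Groth.Prelude.Def_EGA4b
import Groth.Agent.H22Alg.NormalProd
import Groth.Agent.H05EGA4.NormalTensorGeom

/-!
# Geometric normality is detected by finite purely inseparable extensions (helper22)
-/

set_option autoImplicit false
set_option linter.style.haveILetI false
set_option maxHeartbeats 800000
set_option synthInstance.maxHeartbeats 200000
universe u
open CategoryTheory AlgebraicGeometry Limits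
open scoped TensorProduct

namespace Groth.Agent.H22Alg.GeomNormalPI

open Groth.Agent.H05EGA4

theorem isGeomNormal_field (k K : Type u) [Field k] [Field K] [Algebra k K]
    [Algebra.IsGeometricallyReduced k K] : EGA4.IsGeomNormal k K := by
  intro L _ _ hfin
  haveI : IsNoetherianRing (L ⊗[k] K) := H02CA.isNoetherianRing_tensor_of_essFiniteType _ _ _
  haveI : IsReduced (L ⊗[k] K) :=
    isReduced_iff_rs.mpr ((isGeometricallyReduced_iff_grs.mp inferInstance) L hfin)
  haveI : IsArtinianRing (K ⊗[k] L) := IsArtinianRing.of_finite K _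
  haveI : IsArtinianRing (L ⊗[k] K) := (Algebra.TensorProduct.comm k K L).toRingEquiv.surjective.isArtinianRing
    (f := (Algebra.TensorProduct.comm k K L).toRingHom)
  exact H22Alg.NormalProd.isNormalRing_of_isArtinian

theorem isNormalRing_field (K : Type u) [Field K] : EGA4.IsNormalRing K :=
  H22Alg.NormalProd.isNormalRing_of_isArtinian

theorem isNormalRing_of_isIntegrallyClosed (R : Type u) [CommRing R] [IsDomain R] [IsIntegrallyClosed R] :
    EGA4.IsNormalRing R := by
  intro p _
  haveI := IsLocalization.isDomain_localization (R := R) p.primeCompl_le_nonZeroDivisors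
  exact ⟨inferInstance, isIntegrallyClosed_of_isLocalization (Localization.AtPrime p) p.primeCompl
    p.primeCompl_le_nonZeroDivisors⟩

/-- Geometric normality is detected by finite purely inseparable extensions. -/
theorem isGeomNormal_of_purelyInseparable {k C : Type u} [Field k] [CommRing C] [Algebra k C]
    (h : ∀ (k' : Type u) [Field k'] [Algebra k k'] [FiniteDimensional k k'] [IsPurelyInseparable k k'],
      EGA4.IsNormalRing (k' ⊗[k] C)) : EGA4.IsGeomNormal k C := by
  intro L _ _ _
  let Ω := AlgebraicClosure L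
  let P := perfectClosure k Ω
  haveI : Algebra.IsAlgebraic k P := IsPurelyInseparable.isAlgebraic k P
  have hP : EGA4.IsNormalRing (C ⊗[k] P) := by
    refine isNormalRing_of_cover fun Fs => ?_
    obtain ⟨B0, hB0, hsub⟩ := exists_fg_subalgebra_finset Fs
    haveI : Algebra.FiniteType k B0 := (Subalgebra.fg_iff_finiteType _).mp hB0
    haveI : Algebra.IsIntegral k B0 :=
      ⟨fun x => (isIntegral_algHom_iff B0.val Subtype.val_injective).1 (Algebra.IsIntegral.isIntegral (x : P))⟩
    letI : Field B0 := (isField_of_isIntegral_of_isField' (Field.toIsField k) : IsField B0).toField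
    haveI : Module.Finite k B0 := Algebra.IsIntegral.finite
    haveI : IsPurelyInseparable k B0 := IsPurelyInseparable.tower_bot k B0 P
    exact ⟨_, inferInstance, (Algebra.TensorProduct.map (AlgHom.id k C) B0.val).toRingHom,
      tensorProductMap_injective _ Subtype.val_injective,
      isNormalRing_of_ringEquiv (Algebra.TensorProduct.comm k B0 C).toRingEquiv (h B0),
      hsub⟩
  haveI : PerfectField Ω := inferInstance
  haveI : PerfectField P := perfectClosure.perfectField k Ω
  haveI : Algebra.IsGeometricallyReduced P Ω := H06Red.isGeometricallyReduced_of_perfectField P Ω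
  letI : Algebra P (P ⊗[k] C) := Algebra.TensorProduct.leftAlgebra
  letI : Algebra k Ω := inferInstance
  letI : Algebra P Ω := inferInstance
  letI : CommRing (P ⊗[k] C) := inferInstance
  have hΩ : EGA4.IsNormalRing (Ω ⊗[P] (P ⊗[k] C)) :=
    isNormalRing_tensor_of_isGeomNormal_general (isGeomNormal_field P Ω) (P ⊗[k] C)
      (isNormalRing_of_ringEquiv (Algebra.TensorProduct.comm k C P).toRingEquiv hP)
  have hΩ' : EGA4.IsNormalRing (C ⊗[k] Ω) :=
    isNormalRing_of_ringEquiv (Algebra.TensorProduct.comm k Ω C).toRingEquiv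
      (isNormalRing_of_ringEquiv (Algebra.TensorProduct.cancelBaseChange k P P Ω C).toRingEquiv hΩ)
  letI := (Algebra.TensorProduct.map (AlgHom.id k C) (IsScalarTower.toAlgHom k L Ω)).toRingHom.toAlgebra
  haveI := faithfullyFlat_tensorProductMap (k := k) C L Ω
  exact isNormalRing_of_ringEquiv (Algebra.TensorProduct.comm k C L).toRingEquiv
    (isNormalRing_of_faithfullyFlat (S := C ⊗[k] Ω) hΩ')

theorem isNormalRing_tensor_field {k C : Type u} [Field k] [CommRing C] [Algebra k C]
    (h : EGA4.IsGeomNormal k C) (K : Type u) [Field K] [Algebra k K] : EGA4.IsNormalRing (K ⊗[k] C) :=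
  isNormalRing_of_ringEquiv (Algebra.TensorProduct.comm k C K).toRingEquiv
    (isNormalRing_tensor_of_isGeomNormal_general h K (isNormalRing_field K))

attribute [local instance] Curv2.stalkAlgebra

section point

variable (k : Type u) [Field k] (X : Scheme.{u}) [X.Over (Spec (CommRingCat.of k))]

theorem fromSpecStalk_over (x : X) :
    X.fromSpecStalk x ≫ (X ↘ Spec (CommRingCat.of k)) =
      Spec.map (CommRingCat.ofHom (Curv2.stalkMap k X x)) := by
  have h1 : (X ↘ Spec (CommRingCat.of k)) =
      X.toSpecΓ ≫ Spec.map ((Scheme.ΓSpecIso (CommRingCat.of k)).inv ≫ (X ↘ Spec (CommRingCat.of k)).appTop) := by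
    rw [Spec.map_comp, ← Scheme.toSpecΓ_naturality_assoc, toSpecΓ_SpecMap_ΓSpecIso_inv, Category.comp_id]
  rw [h1]
  simp only [Scheme.fromSpecStalk_toSpecΓ_assoc, ← Spec.map_comp]
  rfl

/-- The local rings of `X_{k'}` above `x` are localisations of `k' ⊗ O_x`. -/
theorem exists_chart (x : X) (k' : Type u) [Field k'] [Algebra k k'] :
    ∃ (A : Type u) (_ : CommRing A) (_ : Algebra k A) (_ : Algebra A (X.presheaf.stalk x))
      (_ : IsScalarTower k A (X.presheaf.stalk x)) (p : Ideal A) (_ : p.IsPrime),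
      IsLocalization p.primeCompl (X.presheaf.stalk x) ∧
      (∀ x' : Curv2.bc k X k', Curv2.bcFst k X k' x' = x → ∃ (Q : Ideal (k' ⊗[k] A)) (_ : Q.IsPrime),
        Q.comap (Algebra.TensorProduct.includeRight : A →ₐ[k] k' ⊗[k] A).toRingHom = p ∧
          Nonempty (Localization.AtPrime Q ≃+* (Curv2.bc k X k').presheaf.stalk x')) ∧
      (∀ (Q : Ideal (k' ⊗[k] A)) [Q.IsPrime],
        Q.comap (Algebra.TensorProduct.includeRight : A →ₐ[k] k' ⊗[k] A).toRingHom = p →
          ∃ x' : Curv2.bc k X k', Curv2.bcFst k X k' x' = x ∧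
            Nonempty (Localization.AtPrime Q ≃+* (Curv2.bc k X k').presheaf.stalk x')) := by
  obtain ⟨U, hU, hxU, -⟩ := exists_isAffineOpen_mem_and_subset (x := x) (U := ⊤) trivial
  letI : Algebra k Γ(X, U) := (Spec.preimage (hU.fromSpec ≫ (X ↘ Spec (CommRingCat.of k)))).hom.toAlgebra
  have hf : hU.fromSpec ≫ (X ↘ Spec (CommRingCat.of k)) = Spec.map (CommRingCat.ofHom (algebraMap k Γ(X, U))) :=
    (Spec.map_preimage _).symm
  letI : Algebra Γ(X, U) (X.presheaf.stalk x) := X.presheaf.algebra_section_stalk ⟨x, hxU⟩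
  haveI : IsScalarTower k Γ(X, U) (X.presheaf.stalk x) := by
    refine IsScalarTower.of_algebraMap_eq' ?_
    have h : Spec.map (CommRingCat.ofHom (Curv2.stalkMap k X x)) =
        Spec.map (CommRingCat.ofHom (algebraMap k Γ(X, U)) ≫ X.presheaf.germ U x hxU) := by
      rw [← fromSpecStalk_over, Spec.map_comp, ← hf, ← hU.fromSpecStalk_eq_fromSpecStalk hxU,
        IsAffineOpen.fromSpecStalk, Category.assoc]
    exact congrArg CommRingCat.Hom.hom (Spec.map_injective h)
  let p := hU.primeIdealOf ⟨x, hxU⟩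
  let A : Type u := Γ(X, U)
  let ι : A →ₐ[k] k' ⊗[k] A := Algebra.TensorProduct.includeRight
  let c : Spec (CommRingCat.of (k' ⊗[k] A)) ⟶ Spec (CommRingCat.of (A ⊗[k] k')) :=
    Spec.map (CommRingCat.ofHom (Algebra.TensorProduct.comm k A k').toRingEquiv.toRingHom)
  haveI : IsIso c := by
    have : IsIso (CommRingCat.ofHom (Algebra.TensorProduct.comm k A k').toRingEquiv.toRingHom) :=
      inferInstanceAs (IsIso (Algebra.TensorProduct.comm k A k').toRingEquiv.toCommRingCatIso.hom)
    infer_instance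
  let m : pullback (Spec.map (CommRingCat.ofHom (algebraMap k A)))
      (Spec.map (CommRingCat.ofHom (algebraMap k k'))) ⟶ Curv2.bc k X k' :=
    pullback.map _ _ _ _ hU.fromSpec (𝟙 _) (𝟙 _) (by rw [Category.comp_id, hf]) (by simp)
  haveI : IsOpenImmersion m := by dsimp only [m]; infer_instance
  let j : Spec (CommRingCat.of (k' ⊗[k] A)) ⟶ Curv2.bc k X k' := c ≫ (pullbackSpecIso k A k').inv ≫ m
  have hj : j ≫ Curv2.bcFst k X k' = Spec.map (CommRingCat.ofHom ι.toRingHom) ≫ hU.fromSpec := by
    simp only [j, m, Category.assoc, pullback.map, pullback.lift_fst]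
    rw [pullbackSpecIso_inv_fst_assoc, ← Category.assoc, ← Spec.map_comp]
    rfl
  have hrange : Set.range j = Curv2.bcFst k X k' ⁻¹' U := by
    have e : Set.range j = Set.range m := by
      have hs : Function.Surjective (c ≫ (pullbackSpecIso k A k').inv) :=
        (asIso (c ≫ (pullbackSpecIso k A k').inv)).schemeIsoToHomeo.surjective
      show Set.range ((c ≫ (pullbackSpecIso k A k').inv) ≫ m) = _
      rw [Scheme.Hom.comp_base, TopCat.coe_comp, Set.range_comp, hs.range_eq, Set.image_univ]
    rw [e]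
    dsimp only [m]
    rw [Scheme.Pullback.range_map, hU.range_fromSpec]
    simp
  have hstalk : ∀ Q : PrimeSpectrum (k' ⊗[k] A),
      Nonempty (Localization.AtPrime Q.asIdeal ≃+* (Curv2.bc k X k').presheaf.stalk (j Q)) := fun Q => by
    letI : Algebra (k' ⊗[k] A) ((Spec (CommRingCat.of (k' ⊗[k] A))).presheaf.stalk Q) :=
      StructureSheaf.stalkAlgebra (k' ⊗[k] A) Q
    haveI : IsLocalization Q.asIdeal.primeCompl ((Spec (CommRingCat.of (k' ⊗[k] A))).presheaf.stalk Q) :=
      StructureSheaf.IsLocalization.to_stalk (k' ⊗[k] A) Q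
    exact ⟨(IsLocalization.algEquiv Q.asIdeal.primeCompl (Localization.AtPrime Q.asIdeal)
      ((Spec (CommRingCat.of (k' ⊗[k] A))).presheaf.stalk Q)).toRingEquiv.trans
        (asIso (j.stalkMap Q)).commRingCatIsoToRingEquiv.symm⟩
  have hpt : ∀ Q : PrimeSpectrum (k' ⊗[k] A),
      Curv2.bcFst k X k' (j Q) = x ↔ Q.asIdeal.comap ι.toRingHom = p.asIdeal := fun Q => by
    have e : Curv2.bcFst k X k' (j Q) = hU.fromSpec (PrimeSpectrum.comap ι.toRingHom Q) := by
      rw [← Scheme.Hom.comp_apply, hj]; rfl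
    rw [e]
    constructor
    · intro he
      have := hU.fromSpec.isOpenEmbedding.injective (he.trans (hU.fromSpec_primeIdealOf ⟨x, hxU⟩).symm)
      exact congrArg PrimeSpectrum.asIdeal this
    · intro he
      rw [show PrimeSpectrum.comap ι.toRingHom Q = p from PrimeSpectrum.ext he]
      exact hU.fromSpec_primeIdealOf ⟨x, hxU⟩
  refine ⟨A, inferInstance, inferInstance, inferInstance, inferInstance, p.asIdeal, inferInstance,
    hU.isLocalization_stalk ⟨x, hxU⟩, fun x' hx' => ?_, fun Q _ hQ => ?_⟩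
  · obtain ⟨Q, rfl⟩ : x' ∈ Set.range j := by rw [hrange]; show Curv2.bcFst k X k' x' ∈ U; rw [hx']; exact hxU
    exact ⟨Q.asIdeal, inferInstance, (hpt Q).mp hx', hstalk Q⟩
  · exact ⟨j ⟨Q, inferInstance⟩, (hpt _).mpr hQ, hstalk ⟨Q, inferInstance⟩⟩

theorem normal_stalk_of_isNormalRing (x : X) (k' : Type u) [Field k'] [Algebra k k']
    (h : EGA4.IsNormalRing (k' ⊗[k] X.presheaf.stalk x)) (x' : Curv2.bc k X k') (hx' : Curv2.bcFst k X k' x' = x) :
    IsDomain ((Curv2.bc k X k').presheaf.stalk x') ∧ IsIntegrallyClosed ((Curv2.bc k X k').presheaf.stalk x') := by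
  obtain ⟨A, _, _, _, _, p, _, hloc, hfwd, -⟩ := exists_chart k X x k'
  obtain ⟨Q, _, hQ, ⟨e⟩⟩ := hfwd x' hx'
  letI := (Algebra.TensorProduct.map (AlgHom.id k k') (IsScalarTower.toAlgHom k A (X.presheaf.stalk x))).toRingHom.toAlgebra
  haveI := isLocalization_tensor_right k A (X.presheaf.stalk x) k' p.primeCompl
  obtain ⟨h1, h2⟩ := normal_atPrime_of_isLocalization
    (p.primeCompl.map (Algebra.TensorProduct.includeRight : A →ₐ[k] k' ⊗[k] A).toRingHom) h Q (by
      rintro _ ⟨b, hb, rfl⟩ hmem
      exact hb (hQ ▸ hmem))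
  exact ⟨haveI := h1; e.symm.toMulEquiv.isDomain _, haveI := h2; IsIntegrallyClosed.of_equiv e⟩

theorem isNormalRing_of_normal_stalks (x : X) (k' : Type u) [Field k'] [Algebra k k'] [FiniteDimensional k k']
    (h : ∀ x' : Curv2.bc k X k', Curv2.bcFst k X k' x' = x →
      IsDomain ((Curv2.bc k X k').presheaf.stalk x') ∧ IsIntegrallyClosed ((Curv2.bc k X k').presheaf.stalk x')) :
    EGA4.IsNormalRing (k' ⊗[k] X.presheaf.stalk x) := by
  obtain ⟨A, _, _, _, _, p, _, hloc, -, hbwd⟩ := exists_chart k X x k'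
  let O := X.presheaf.stalk x
  letI := (Algebra.TensorProduct.map (AlgHom.id k k') (IsScalarTower.toAlgHom k A O)).toRingHom.toAlgebra
  haveI := isLocalization_tensor_right k A O k' p.primeCompl
  let ι : O →ₐ[k] k' ⊗[k] O := Algebra.TensorProduct.includeRight
  have hint : ι.toRingHom.IsIntegral := by
    intro z
    induction z using TensorProduct.induction_on with
    | zero => exact ι.toRingHom.isIntegralElem_zero
    | add a b ha hb => exact RingHom.IsIntegralElem.add _ ha hb
    | tmul l o =>
      rw [show l ⊗ₜ[k] o = l ⊗ₜ[k] (1 : O) * ι o by simp [ι]]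
      refine RingHom.IsIntegralElem.mul _ ?_ (ι.toRingHom.isIntegralElem_map)
      obtain ⟨g, hg, hgl⟩ := Algebra.IsIntegral.isIntegral (R := k) l
      refine ⟨g.map (algebraMap k O), hg.map _, ?_⟩
      rw [Polynomial.eval₂_map]
      have : ι.toRingHom.comp (algebraMap k O) = algebraMap k (k' ⊗[k] O) := ι.comp_algebraMap
      rw [this, ← Polynomial.aeval_def,
        show (l ⊗ₜ[k] (1 : O)) = (Algebra.TensorProduct.includeLeft : k' →ₐ[k] k' ⊗[k] O) l from rfl,
        Polynomial.aeval_algHom_apply, Polynomial.aeval_def, hgl, map_zero]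
  intro q _
  obtain ⟨M, hM, hqM⟩ := Ideal.exists_le_maximal q (Ideal.IsPrime.ne_top ‹_›)
  haveI := hM
  have hMmax : M.comap ι.toRingHom = IsLocalRing.maximalIdeal O :=
    IsLocalRing.eq_maximalIdeal (Ideal.isMaximal_comap_of_isIntegral_of_isMaximal' _ hint M)
  let Q := M.comap (algebraMap (k' ⊗[k] A) (k' ⊗[k] O))
  have hQ : Q.comap (Algebra.TensorProduct.includeRight : A →ₐ[k] k' ⊗[k] A).toRingHom = p := by
    haveI : IsLocalization p.primeCompl O := hloc
    have e : (algebraMap (k' ⊗[k] A) (k' ⊗[k] O)).comp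
        (Algebra.TensorProduct.includeRight : A →ₐ[k] k' ⊗[k] A).toRingHom =
        ι.toRingHom.comp (algebraMap A O) := by
      ext a; simp [RingHom.algebraMap_toAlgebra, ι]
    show (M.comap _).comap _ = p
    rw [Ideal.comap_comap, e, ← Ideal.comap_comap, hMmax]
    exact IsLocalization.AtPrime.comap_maximalIdeal O p
  obtain ⟨x', hx', ⟨e⟩⟩ := hbwd Q hQ
  obtain ⟨h1, h2⟩ := h x' hx'
  haveI := IsLocalization.isLocalization_isLocalization_atPrime_isLocalization
    (p.primeCompl.map (Algebra.TensorProduct.includeRight : A →ₐ[k] k' ⊗[k] A).toRingHom) (Localization.AtPrime M) M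
  let e' := IsLocalization.algEquiv Q.primeCompl (Localization.AtPrime Q) (Localization.AtPrime M)
  haveI : IsDomain (Localization.AtPrime M) :=
    haveI := h1; haveI : IsDomain (Localization.AtPrime Q) := e.toMulEquiv.isDomain _
    e'.symm.toMulEquiv.isDomain _
  haveI : IsIntegrallyClosed (Localization.AtPrime M) :=
    haveI := h2; haveI : IsIntegrallyClosed (Localization.AtPrime Q) := IsIntegrallyClosed.of_equiv e.symm
    IsIntegrallyClosed.of_equiv e'.toRingEquiv
  exact normal_atPrime_of_isLocalization M.primeCompl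
    (isNormalRing_of_isIntegrallyClosed (Localization.AtPrime M)) q fun m hm hmq => hm (hqM hmq)

end point

end Groth.Agent.H22Alg.GeomNormalPI
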