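import Mathlib
import Groth.Agent.H22Alg.GeomNormalPI
import Groth.Agent.H22Alg.GeomRegularAt
import Groth.Agent.S2672

/-!
# Geometric regularity at a point is detected by finite purely inseparable extensions (helper22)
-/

set_option autoImplicit false
set_option linter.style.haveILetI false
set_option maxHeartbeats 800000
set_option synthInstance.maxHeartbeats 200000
universe u
open CategoryTheory AlgebraicGeometry Limits
open scoped TensorProduct

namespace Groth.Agent.H22Alg.GeomRegularPI

open Groth.Agent.H05EGA4

attribute [local instance] Curv2.stalkAlgebra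

theorem regular_atPrime_of_isLocalization {R S : Type u} [CommRing R] [CommRing S] [Algebra R S] (M : Submonoid R)
    [IsLocalization M S] (h : IsRegularRing S) (Q : Ideal R) [hQ : Q.IsPrime]
    (hd : Disjoint (M : Set R) (Q : Set R)) : IsRegularLocalRing (Localization.AtPrime Q) := by
  haveI := IsLocalization.isPrime_of_isPrime_disjoint M S Q hQ hd
  haveI := IsLocalization.isLocalization_isLocalization_atPrime_isLocalization M (Localization.AtPrime (Q.map (algebraMap R S))) (Q.map (algebraMap R S))
  haveI : IsLocalization Q.primeCompl (Localization.AtPrime (Q.map (algebraMap R S))) := by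
    convert (inferInstance : IsLocalization.AtPrime (Localization.AtPrime (Q.map (algebraMap R S)))
      ((Q.map (algebraMap R S)).comap (algebraMap R S))) using 3
    exact (IsLocalization.comap_map_of_isPrime_disjoint M S hQ hd).symm
  haveI : IsRegularLocalRing (Localization.AtPrime (Q.map (algebraMap R S))) :=
    (isRegularRing_iff.mp h) _
  exact IsRegularLocalRing.of_ringEquiv (IsLocalization.algEquiv Q.primeCompl
    (Localization.AtPrime (Q.map (algebraMap R S))) (Localization.AtPrime Q)).toRingEquiv

variable (k : Type u) [Field k] (X : Scheme.{u}) [X.Over (Spec (CommRingCat.of k))] [IsLocallyNoetherian X]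

theorem isNoetherianRing_tensor_stalk (x : X) (k' : Type u) [Field k'] [Algebra k k'] [FiniteDimensional k k'] :
    IsNoetherianRing (k' ⊗[k] X.presheaf.stalk x) := by
  haveI : IsNoetherianRing (X.presheaf.stalk x ⊗[k] k') :=
    IsNoetherianRing.of_finite (X.presheaf.stalk x) _
  exact isNoetherianRing_of_ringEquiv _ (Algebra.TensorProduct.comm k (X.presheaf.stalk x) k').toRingEquiv

theorem isRegularRing_of_regular_stalks (x : X) (k' : Type u) [Field k'] [Algebra k k'] [FiniteDimensional k k']
    (h : ∀ x' : Curv2.bc k X k', Curv2.bcFst k X k' x' = x →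
      IsRegularLocalRing ((Curv2.bc k X k').presheaf.stalk x')) :
    IsRegularRing (k' ⊗[k] X.presheaf.stalk x) := by
  obtain ⟨A, _, _, _, _, p, _, hloc, -, hbwd⟩ := GeomNormalPI.exists_chart k X x k'
  let O := X.presheaf.stalk x
  letI := (Algebra.TensorProduct.map (AlgHom.id k k') (IsScalarTower.toAlgHom k A O)).toRingHom.toAlgebra
  haveI := isLocalization_tensor_right k A O k' p.primeCompl
  let ι : O →ₐ[k] k' ⊗[k] O := Algebra.TensorProduct.includeRight
  haveI := isNoetherianRing_tensor_stalk k X x k'
  haveI : Module.Finite O (O ⊗[k] k') := inferInstance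
  have hfin : ι.toRingHom.Finite := by
    have h1 : (algebraMap O (O ⊗[k] k')).Finite := RingHom.finite_algebraMap.mpr inferInstance
    have h2 := RingHom.Finite.comp (g := (Algebra.TensorProduct.comm k O k').toRingEquiv.toRingHom)
      (RingHom.Finite.of_surjective _ (Algebra.TensorProduct.comm k O k').toRingEquiv.surjective) h1
    have e : ι.toRingHom = (Algebra.TensorProduct.comm k O k').toRingEquiv.toRingHom.comp (algebraMap O (O ⊗[k] k')) := by
      ext o; simp [ι, Algebra.TensorProduct.algebraMap_apply]
    rw [e]; exact h2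
  refine GeomRegularAt.isRegularRing_of_maximal fun M hM => ?_
  have hMmax : M.comap ι.toRingHom = IsLocalRing.maximalIdeal O :=
    IsLocalRing.eq_maximalIdeal (Ideal.isMaximal_comap_of_isIntegral_of_isMaximal' _ hfin.to_isIntegral M)
  let Q := M.comap (algebraMap (k' ⊗[k] A) (k' ⊗[k] O))
  have hQ : Q.comap (Algebra.TensorProduct.includeRight : A →ₐ[k] k' ⊗[k] A).toRingHom = p := by
    haveI : IsLocalization p.primeCompl O := hloc
    have e : (algebraMap (k' ⊗[k] A) (k' ⊗[k] O)).comp
        (Algebra.TensorProduct.includeRight : A →ₐ[k] k' ⊗[k] A).toRingHom =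
        ι.toRingHom.comp (algebraMap A O) := by
      ext a; simp [RingHom.algebraMap_toAlgebra, ι]
    show (M.comap _).comap _ = p
    rw [Ideal.comap_comap, e, ← Ideal.comap_comap, hMmax]
    exact IsLocalization.AtPrime.comap_maximalIdeal O p
  obtain ⟨x', hx', ⟨e⟩⟩ := hbwd Q hQ
  haveI := h x' hx'
  haveI := IsLocalization.isLocalization_isLocalization_atPrime_isLocalization
    (p.primeCompl.map (Algebra.TensorProduct.includeRight : A →ₐ[k] k' ⊗[k] A).toRingHom) (Localization.AtPrime M) M
  haveI : IsRegularLocalRing (Localization.AtPrime Q) := IsRegularLocalRing.of_ringEquiv e.symm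
  exact IsRegularLocalRing.of_ringEquiv
    (IsLocalization.algEquiv Q.primeCompl (Localization.AtPrime Q) (Localization.AtPrime M)).toRingEquiv

theorem regular_stalk_of_isRegularRing (x : X) (k' : Type u) [Field k'] [Algebra k k']
    (h : IsRegularRing (k' ⊗[k] X.presheaf.stalk x)) (x' : Curv2.bc k X k') (hx' : Curv2.bcFst k X k' x' = x) :
    IsRegularLocalRing ((Curv2.bc k X k').presheaf.stalk x') := by
  obtain ⟨A, _, _, _, _, p, _, hloc, hfwd, -⟩ := GeomNormalPI.exists_chart k X x k'
  obtain ⟨Q, _, hQ, ⟨e⟩⟩ := hfwd x' hx'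
  letI := (Algebra.TensorProduct.map (AlgHom.id k k') (IsScalarTower.toAlgHom k A (X.presheaf.stalk x))).toRingHom.toAlgebra
  let S := k' ⊗[k] X.presheaf.stalk x
  let M := p.primeCompl.map (Algebra.TensorProduct.includeRight : A →ₐ[k] k' ⊗[k] A).toRingHom
  haveI : IsLocalization M S := isLocalization_tensor_right k A (X.presheaf.stalk x) k' p.primeCompl
  have hd : Disjoint (M : Set (k' ⊗[k] A)) (Q : Set (k' ⊗[k] A)) := Set.disjoint_left.mpr (by
    rintro _ ⟨b, hb, rfl⟩ hmem
    exact hb (hQ ▸ hmem))
  haveI := regular_atPrime_of_isLocalization M h Q hd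
  exact IsRegularLocalRing.of_ringEquiv e

theorem isGeomRegularAt_of_isGeometricallyRegular (x : X)
    (h : CAlg.IsGeometricallyRegular k (X.presheaf.stalk x)) : Curv2.IsGeomRegularAt k X x := by
  intro K _ _ hfg x' hx'
  haveI : Algebra.EssFiniteType k K := IntermediateField.fg_top_iff.mp hfg
  exact regular_stalk_of_isRegularRing k X x K ((Groth.Agent.S2672.result k _).2.mp h K inferInstance) x' hx'

theorem isGeometricallyRegular_of_purelyInseparable (x : X)
    (h : ∀ (k' : Type u) [Field k'] [Algebra k k'] [FiniteDimensional k k'] [IsPurelyInseparable k k'] (x' : Curv2.bc k X k'),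
        Curv2.bcFst k X k' x' = x → IsRegularLocalRing ((Curv2.bc k X k').presheaf.stalk x')) :
    CAlg.IsGeometricallyRegular k (X.presheaf.stalk x) :=
  (Groth.Agent.S2672.result k _).1.mpr fun k' _ _ hfin hpi => by
    haveI := hfin; haveI := hpi
    exact isRegularRing_of_regular_stalks k X x k' (h k')

end Groth.Agent.H22Alg.GeomRegularPI
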