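import Mathlib

/-!
# Stable submodules of a graded family generated by finitely many commuting operators
-/

set_option autoImplicit false
set_option linter.style.haveILetI false

universe u v

open DirectSum

namespace Groth.Agent.H22Alg.GradedFam

variable {A : Type u} [CommRing A] [IsNoetherianRing A] {N : ℕ} {M : ℕ → Type v}
  [∀ p, AddCommGroup (M p)] [∀ p, Module A (M p)] [∀ p, Module.Finite A (M p)]

/-- A stable family of submodules of a finitely generated family is finitely generated. -/
theorem exists_gen_sub (T : Fin N → ∀ p, M p →ₗ[A] M (p + 1))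
    (comm : ∀ i j p (x : M p), T j (p + 1) (T i p x) = T i (p + 1) (T j p x))
    {p₁ : ℕ} (gen : ∀ p, p₁ ≤ p → ∀ y : M (p + 1), ∃ x : Fin N → M p, y = ∑ j, T j p (x j))
    (K : ∀ p, Submodule A (M p)) (hK : ∀ j p x, x ∈ K p → T j p x ∈ K (p + 1)) :
    ∃ p₂, ∀ p, p₂ ≤ p → K (p + 1) ≤ ⨆ j, (K p).map (T j p) := by
  classical
  let D := ⨁ p, M p
  let φ : Fin N → Module.End A D := fun j =>
    DirectSum.toModule A ℕ D fun p => (DirectSum.lof A ℕ M (p + 1)).comp (T j p)
  have hφ : ∀ j p (x : M p), φ j (DirectSum.lof A ℕ M p x) = DirectSum.lof A ℕ M (p + 1) (T j p x) :=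
    fun j p x => DirectSum.toModule_lof A p x
  let s : Set (Module.End A D) := Set.range φ
  have hs : ∀ a ∈ s, ∀ b ∈ s, a * b = b * a := by
    rintro _ ⟨i, rfl⟩ _ ⟨j, rfl⟩
    refine DirectSum.linearMap_ext A fun p => LinearMap.ext fun x => ?_
    simp only [LinearMap.comp_apply, Module.End.mul_apply, hφ]
    exact congrArg _ (comm j i p x)
  let B := Algebra.adjoin A s
  letI : CommRing B := { (inferInstance : Ring B) with
    mul_comm := Algebra.isMulCommutative_adjoin A hs |>.is_comm.comm }
  haveI : Algebra.FiniteType A B :=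
    (Subalgebra.fg_iff_finiteType _).1 ⟨(Set.finite_range φ).toFinset, by rw [Set.Finite.coe_toFinset]⟩
  haveI : IsNoetherianRing B := Algebra.FiniteType.isNoetherianRing A B
  -- a submodule stable under the operators is a submodule over `B`
  have stab : ∀ W : Submodule A D, (∀ j, ∀ d ∈ W, φ j d ∈ W) →
      ∀ b : B, ∀ d ∈ W, (b : Module.End A D) d ∈ W := fun W hW b => by
    obtain ⟨b, hb⟩ := b
    induction hb using Algebra.adjoin_induction with
    | mem a ha =>
      obtain ⟨j, rfl⟩ := ha
      exact hW j
    | algebraMap r => exact fun d hd => W.smul_mem r hd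
    | add a b _ _ ha hb => exact fun d hd => W.add_mem (ha d hd) (hb d hd)
    | mul a b _ _ ha hb => exact fun d hd => ha _ (hb d hd)
  let φB : Fin N → B := fun j => ⟨φ j, Algebra.subset_adjoin ⟨j, rfl⟩⟩
  -- `D` is finite over `B`
  choose g hg using fun p => Module.Finite.fg_top (R := A) (M := M p)
  let G : Set D := ⋃ p ∈ Set.Iic p₁, (DirectSum.lof A ℕ M p) '' (g p : Set (M p))
  have hG : G.Finite := (Set.finite_Iic p₁).biUnion fun p _ => (g p).finite_toSet.image _
  have hDlof : ∀ p (x : M p), DirectSum.lof A ℕ M p x ∈ Submodule.span B G := by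
    intro p
    induction p using Nat.strong_induction_on with
    | _ p ih =>
      intro x
      by_cases hp : p ≤ p₁
      · have hx : x ∈ Submodule.span A (g p : Set (M p)) := (hg p).ge Submodule.mem_top
        have h1 := Submodule.mem_map_of_mem (f := DirectSum.lof A ℕ M p) hx
        rw [Submodule.map_span] at h1
        exact (Submodule.span_le (p := (Submodule.span B G).restrictScalars A)).2
          (fun z hz => Submodule.subset_span (Set.mem_biUnion (show p ∈ Set.Iic p₁ from hp) hz)) h1
      · obtain ⟨q, rfl⟩ : ∃ q, p = q + 1 := ⟨p - 1, by omega⟩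
        obtain ⟨y, rfl⟩ := gen q (by omega) x
        rw [map_sum]
        refine Submodule.sum_mem _ fun j _ => ?_
        rw [← hφ]
        exact Submodule.smul_mem _ (φB j) (ih q (Nat.lt_succ_self q) (y j))
  haveI : Module.Finite B D := ⟨⟨hG.toFinset, eq_top_iff.2 fun d hd => by
    clear hd
    rw [Set.Finite.coe_toFinset]
    induction d using DirectSum.induction_on with
    | zero => exact Submodule.zero_mem _
    | of p x => exact hDlof p x
    | add a b ha hb => exact Submodule.add_mem _ ha hb⟩⟩
  -- the submodules in degrees at most `n`, as a chain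
  let Kn : ℕ → Submodule B D := fun n =>
    Submodule.span B (⋃ q ∈ Set.Iic n, (DirectSum.lof A ℕ M q) '' (K q : Set (M q)))
  have hmono : Monotone Kn := fun a b hab =>
    Submodule.span_mono (Set.biUnion_mono (Set.Iic_subset_Iic.2 hab) fun _ _ => subset_rfl)
  obtain ⟨n, hn⟩ := monotone_stabilizes_iff_noetherian.2 (inferInstance : IsNoetherian B D) ⟨Kn, hmono⟩
  refine ⟨n, fun p hp => fun x hx => ?_⟩
  have hx' : DirectSum.lof A ℕ M (p + 1) x ∈ Kn n := by
    rw [show Kn n = Kn (p + 1) from hn (p + 1) (by omega)]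
    exact Submodule.subset_span (Set.mem_biUnion (show p + 1 ∈ Set.Iic (p + 1) from Set.mem_Iic.2 le_rfl) ⟨x, hx, rfl⟩)
  -- the submodule generated below degree `n`
  let H : ∀ q, Submodule A (M q) := fun q => match q with
    | 0 => K 0
    | r + 1 => if r < n then K (r + 1) else ⨆ j, (K r).map (T j r)
  have hHK : ∀ q, H q ≤ K q := fun q => by
    cases q with
    | zero => exact le_rfl
    | succ r =>
      show (if r < n then K (r + 1) else ⨆ j, (K r).map (T j r)) ≤ _
      split_ifs
      · exact le_rfl
      · refine iSup_le fun j => ?_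
        rintro _ ⟨y, hy, rfl⟩
        exact hK j r y hy
  have hHT : ∀ j q y, y ∈ H q → T j q y ∈ H (q + 1) := fun j q y hy => by
    show _ ∈ (if q < n then K (q + 1) else ⨆ j, (K q).map (T j q))
    split_ifs
    · exact hK j q y (hHK q hy)
    · exact Submodule.mem_iSup_of_mem j ⟨y, hHK q hy, rfl⟩
  let W : Submodule A D := ⨆ q, (H q).map (DirectSum.lof A ℕ M q)
  have hW : ∀ j, ∀ d ∈ W, φ j d ∈ W := fun j d hd => by
    refine Submodule.iSup_induction (motive := fun d => φ j d ∈ W) _ hd ?_ (by rw [map_zero]; exact W.zero_mem)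
      fun a b ha hb => by rw [map_add]; exact W.add_mem ha hb
    rintro q _ ⟨y, hy, rfl⟩
    rw [hφ]
    exact Submodule.mem_iSup_of_mem (q + 1) ⟨_, hHT j q y hy, rfl⟩
  let W' : Submodule B D :=
    { W.toAddSubmonoid with smul_mem' := fun b d hd => stab W hW b d hd }
  have hKW : Kn n ≤ W' := Submodule.span_le.2 fun d hd => by
    obtain ⟨q, hq, y, hy, rfl⟩ := Set.mem_iUnion₂.1 hd
    refine Submodule.mem_iSup_of_mem q ⟨y, ?_, rfl⟩
    cases q with
    | zero => exact hy
    | succ r =>
      show y ∈ (if r < n then K (r + 1) else ⨆ j, (K r).map (T j r))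
      rw [if_pos (show r < n from Set.mem_Iic.1 hq)]
      exact hy
  have h2 : DirectSum.component A ℕ M (p + 1) (DirectSum.lof A ℕ M (p + 1) x) ∈ H (p + 1) := by
    refine Submodule.iSup_induction (motive := fun d => DirectSum.component A ℕ M (p + 1) d ∈ H (p + 1)) _
      (show DirectSum.lof A ℕ M (p + 1) x ∈ W from hKW hx') ?_ (by rw [map_zero]; exact Submodule.zero_mem _)
      fun a b ha hb => by rw [map_add]; exact Submodule.add_mem _ ha hb
    rintro q _ ⟨y, hy, rfl⟩
    rw [DirectSum.component.of]
    split_ifs with h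
    · subst h
      exact hy
    · exact Submodule.zero_mem _
  rw [DirectSum.component.lof_self] at h2
  rwa [show H (p + 1) = ⨆ j, (K p).map (T j p) from if_neg (by omega)] at h2

end Groth.Agent.H22Alg.GradedFam
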