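import Groth.Agent.H22Alg.GradedFamAlg
import Groth.Agent.H10Coh.SerreVanishing2
import Groth.Agent.H7Flat.CohDim.AffineStrat
import Groth.Agent.H10Coh.LimStab.ML
import Groth.Agent.H29Ref.HomSections
import Groth.Agent.H10Coh.Pn.Results
import Groth.Agent.H28Int.Core

/-!
# Uniform vanishing for graded families generated in bounded degree
-/

set_option autoImplicit false
set_option linter.style.haveILetI false
set_option linter.unusedSectionVars false
set_option backward.isDefEq.respectTransparency.types false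

universe u

open CategoryTheory CategoryTheory.Limits AlgebraicGeometry TopologicalSpace Opposite

noncomputable section

namespace Groth.Agent.H22Alg.GradedFam

attribute [local instance 10000] H10Coh.hasSheafifyAb H10Coh.hasWeakSheafifyAb H10Coh.hasExtAb H10Coh.enoughInjAb

variable {X : Scheme.{u}}

/-- A sequence of coherent modules with commuting shifts. -/
structure Fam (X : Scheme.{u}) (N : ℕ) where
  M : ℕ → X.Modules
  T : Fin N → ∀ p, M p ⟶ M (p + 1)
  comm : ∀ i j p, T i p ≫ T j (p + 1) = T j p ≫ T i (p + 1)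
  coh : ∀ p, Coh.IsCoh (M p)

/-- Generation in bounded degree, on the members of an affine cover. -/
def Fam.Gen {N : ℕ} (F : Fam X N) {κ : Type*} (W : κ → X.affineOpens) : Prop :=
  ∃ p₁, ∀ p, p₁ ≤ p → ∀ k, ∀ y : Γ(F.M (p + 1), (W k).1),
    ∃ x : Fin N → Γ(F.M p, (W k).1), y = ∑ j, (F.T j p).app (W k).1 (x j)

variable {κ : Type*} (W : κ → X.affineOpens)

theorem isZero_of_cover (hW : ∀ x, ∃ k, x ∈ (W k).1) (G : X.Modules) (hG : Coh.IsQCoh G)
    (h : ∀ k, ∀ y : Γ(G, (W k).1), y = 0) : IsZero G := by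
  refine H16Derived.KFlat.Stalk.isZero_of_stalk fun x => ?_
  obtain ⟨k, hk⟩ := hW x
  suffices h0 : ∀ v : G.presheaf.stalk x, v = 0 by
    haveI : Subsingleton ↑((DerSch.stalkFunctor X x).obj G) :=
      show Subsingleton (G.presheaf.stalk x) from subsingleton_of_forall_eq 0 h0
    exact ModuleCat.isZero_of_subsingleton _
  intro v
  have hv : v ∈ Submodule.span (X.presheaf.stalk x)
      (Set.range fun m : Γ(G, (W k).1) => G.presheaf.germ (W k).1 x hk m) := by
    rw [H29Ref.span_germ_all G hG (W k).2 le_rfl x hk]; trivial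
  induction hv using Submodule.span_induction with
  | mem a ha => obtain ⟨m, rfl⟩ := ha; dsimp only; rw [h k m, map_zero]
  | zero => rfl
  | add a b _ _ ha hb => rw [ha, hb, add_zero]
  | smul r a _ ha => rw [ha, smul_zero]

/-- The cokernels of one shift. -/
def coker {N : ℕ} (F : Fam X (N + 1)) : Fam X N where
  M p := cokernel (F.T (Fin.last N) p)
  T j p := cokernel.map _ _ (F.T j.castSucc p) (F.T j.castSucc (p + 1)) (F.comm _ _ p)
  comm i j p := by
    rw [← cancel_epi (cokernel.π (F.T (Fin.last N) p))]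
    simp only [cokernel.π_desc_assoc, Category.assoc, cokernel.π_desc]
    rw [← Category.assoc, ← Category.assoc, F.comm]
  coh p := H10Coh.isCoh_cokernel _ (F.coh p).1 (F.coh (p + 1))

/-- The kernels of one shift. -/
def ker [IsLocallyNoetherian X] {N : ℕ} (F : Fam X (N + 1)) : Fam X N where
  M p := kernel (F.T (Fin.last N) p)
  T j p := kernel.map _ _ (F.T j.castSucc p) (F.T j.castSucc (p + 1)) (F.comm _ _ p)
  comm i j p := by
    rw [← cancel_mono (kernel.ι (F.T (Fin.last N) (p + 1 + 1)))]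
    simp only [Category.assoc, kernel.lift_ι, kernel.lift_ι_assoc]
    rw [F.comm]
  coh p := H10Coh.isCoh_kernel _ (F.coh p) (F.coh (p + 1)).1

theorem app_comm {N : ℕ} (F : Fam X N) (i j : Fin N) (p : ℕ) (U : X.Opens) (x : Γ(F.M p, U)) :
    (F.T j (p + 1)).app U ((F.T i p).app U x) = (F.T i (p + 1)).app U ((F.T j p).app U x) :=
  congr(($(F.comm i j p)).app U x)

theorem gen_coker {N : ℕ} (F : Fam X (N + 1)) (hF : F.Gen W) : (coker F).Gen W := by
  obtain ⟨p₁, h⟩ := hF
  refine ⟨p₁, fun p hp k y => ?_⟩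
  let T' := F.T (Fin.last N)
  haveI := (F.coh (p + 1 + 1)).1
  haveI := (F.coh (p + 1)).1
  haveI : (cokernel (T' (p + 1))).IsQuasicoherent := ((coker F).coh (p + 1)).1
  obtain ⟨y', rfl⟩ := H10Coh.surjective_app_of_epi (cokernel.π (T' (p + 1))) (W k).2 y
  obtain ⟨x, rfl⟩ := h (p + 1) (by omega) k y'
  refine ⟨fun j => (cokernel.π (T' p)).app (W k).1 (x j.castSucc), ?_⟩
  rw [map_sum, Fin.sum_univ_castSucc]
  have h0 : (cokernel.π (T' (p + 1))).app (W k).1 ((T' (p + 1)).app (W k).1 (x (Fin.last N))) = 0 :=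
    congr(($(cokernel.condition (T' (p + 1)))).app (W k).1 (x (Fin.last N)))
  rw [h0, add_zero]
  refine Finset.sum_congr rfl fun j _ => ?_
  exact (congr(($(cokernel.π_desc (T' p) (F.T j.castSucc (p + 1) ≫ cokernel.π (T' (p + 1)))
    (by rw [← Category.assoc, F.comm, Category.assoc, cokernel.condition, comp_zero]))).app (W k).1 (x j.castSucc))).symm

theorem gen_ker [IsLocallyNoetherian X] [Finite κ] {N : ℕ} (F : Fam X (N + 1)) (hF : F.Gen W) :
    (ker F).Gen W := by
  classical
  obtain ⟨p₁, h⟩ := hF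
  have key : ∀ k, ∃ p₂, ∀ p, p₂ ≤ p → ∀ y : Γ(kernel (F.T (Fin.last N) (p + 1)), (W k).1),
      ∃ x : Fin N → Γ(kernel (F.T (Fin.last N) p), (W k).1),
        y = ∑ j, ((ker F).T j p).app (W k).1 (x j) := by
    intro k
    let U := (W k).1
    haveI : IsNoetherianRing Γ(X, U) := IsLocallyNoetherian.component_noetherian (W k)
    haveI : ∀ p, Module.Finite Γ(X, U) Γ(F.M p, U) := fun p =>
      ((H10Coh.isCoh_iff_finite_sections _).1 (F.coh p)).2 U (W k).2
    let TL : Fin (N + 1) → ∀ p, Γ(F.M p, U) →ₗ[Γ(X, U)] Γ(F.M (p + 1), U) := fun j p =>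
      { toFun := (F.T j p).app U
        map_add' := map_add _
        map_smul' := fun r x => (F.T j p).app_smul r x }
    obtain ⟨p₂, h₂⟩ := exists_gen_sub TL (fun i j p x => app_comm F i j p U x) (fun p hp y => h p hp k y)
      (fun p => LinearMap.ker (TL (Fin.last N) p)) (fun j p x hx => by
        rw [LinearMap.mem_ker] at hx ⊢
        exact (app_comm F j (Fin.last N) p U x).trans ((congrArg (TL j (p + 1)) hx).trans (map_zero _)))
    refine ⟨p₂, fun p hp y => ?_⟩
    have hy : (kernel.ι (F.T (Fin.last N) (p + 1))).app U y ∈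
        ⨆ j, (LinearMap.ker (TL (Fin.last N) p)).map (TL j p) :=
      h₂ p hp (show (F.T (Fin.last N) (p + 1)).app U _ = 0 from
        congr(($(kernel.condition (F.T (Fin.last N) (p + 1)))).app U y))
    obtain ⟨f, hf, hsum⟩ := (Submodule.mem_iSup_iff_exists_finsupp _ _).1 hy
    choose x hx hfx using hf
    choose z hz using fun j => H29Blow.exists_kernelι_app_eq (F.T (Fin.last N) p) U (x j)
      (show (TL (Fin.last N) p) (x j) = 0 from hx j)
    refine ⟨fun j => z j.castSucc, ?_⟩
    refine H10Coh.injective_app_of_mono' (kernel.ι (F.T (Fin.last N) (p + 1))) U ?_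
    refine Eq.trans ?_ (map_sum _ _ _).symm
    rw [← hsum, Finsupp.sum_fintype _ _ (fun _ => rfl), Fin.sum_univ_castSucc,
      ← hfx (Fin.last N), show (TL (Fin.last N) p) (x (Fin.last N)) = 0 from hx _, add_zero]
    refine Finset.sum_congr rfl fun j _ => ?_
    rw [← hfx j.castSucc, ← hz j.castSucc]
    exact (congr(($(kernel.lift_ι (F.T (Fin.last N) (p + 1))
      (kernel.ι (F.T (Fin.last N) p) ≫ F.T j.castSucc p)
      (by rw [Category.assoc, F.comm, kernel.condition_assoc, zero_comp]))).app U (z j.castSucc))).symm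
  haveI := Fintype.ofFinite κ
  choose p₂ hp₂ using key
  exact ⟨Finset.univ.sup p₂, fun p hp k y => hp₂ k p ((Finset.le_sup (Finset.mem_univ k)).trans hp) y⟩

variable {A : Type u} [CommRing A] [IsNoetherianRing A] (q : X ⟶ Spec (CommRingCat.of A)) [IsProper q]

include q in
/-- Uniform Serre vanishing along a family generated in bounded degree. -/
theorem exists_vanishing [IsLocallyNoetherian X] [Finite κ] (hW : ∀ x, ∃ k, x ∈ (W k).1)
    {L : X.Modules} (hL : CohB1.IsAmple L) :
    ∀ (N : ℕ) (F : Fam X N), F.Gen W → ∃ e₀ : ℕ, ∀ p : ℕ, ∀ e : ℕ, e₀ ≤ e → ∀ i, 0 < i →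
      Subsingleton (Coh.HH X (CohB1.tensorMod (F.M p) (CohB1.tensorPow L e)) i) := by
  classical
  have top : ∀ {G : X.Modules} {i : ℕ}, Subsingleton (H10Coh.HnM G i ⊤) → Subsingleton (Coh.HH X G i) :=
    fun {G} {i} h => (H10Coh.topEquiv _ i).toEquiv.subsingleton_congr.2 h
  have top' : ∀ {G : X.Modules} {i : ℕ}, Subsingleton (Coh.HH X G i) → Subsingleton (H10Coh.HnM G i ⊤) :=
    fun {G} {i} h => (H10Coh.topEquiv _ i).toEquiv.subsingleton_congr.1 h
  intro N
  induction N with
  | zero =>
    intro F hF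
    obtain ⟨p₁, h⟩ := hF
    choose k₀ hk₀ using fun p => H10Coh.Tw.exists_vanishing_ample q hL (F.M p) (F.coh p)
    refine ⟨(Finset.range (p₁ + 1)).sup k₀, fun p e he i hi => ?_⟩
    by_cases hp : p ≤ p₁
    · exact top (hk₀ p e ((Finset.le_sup (f := k₀) (Finset.mem_range.2 (Nat.lt_succ_of_le hp))).trans he) i hi)
    · obtain ⟨r, rfl⟩ : ∃ r, p = r + 1 := ⟨p - 1, by omega⟩
      have hz : IsZero (F.M (r + 1)) := isZero_of_cover W hW _ (F.coh _).1 fun k y => by
        obtain ⟨x, hx⟩ := h r (by omega) k y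
        rw [hx, Finset.univ_eq_empty, Finset.sum_empty]
      exact H7Flat.CohDim.subsingleton_HH_of_isZero
        ((DCoh.tensorRightMod (CohB1.tensorPow L e)).map_isZero hz) i
  | succ N ih =>
    intro F hF
    obtain ⟨a, ha⟩ := ih (coker F) (gen_coker W F hF)
    obtain ⟨b, hb⟩ := ih (ker F) (gen_ker W F hF)
    obtain ⟨c, hc⟩ := H10Coh.Tw.exists_vanishing_ample q hL (F.M 0) (F.coh 0)
    refine ⟨max c (max a b), fun p e he => ?_⟩
    have hLe := H11Ample.isInvertible_tensorPow hL.1 e
    induction p with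
    | zero => exact fun i hi => top (hc e ((le_max_left _ _).trans he) i hi)
    | succ p ihp =>
      intro i hi
      let f := F.T (Fin.last N) p
      let g := Abelian.factorThruImage f
      have hS₁ := H10Coh.shortExact_sh (H10Coh.Tw.shortExact_seq (H10Coh.shortExact_kernel g) hLe)
      let eK : kernel g ≅ kernel f :=
        (kernelCompMono g (Abelian.image.ι f)).symm ≪≫ kernelIsoOfEq (Abelian.image.fac f)
      have h1 : Subsingleton (Coh.HH X (CohB1.tensorMod (Abelian.image f) (CohB1.tensorPow L e)) i) :=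
        top (H10Coh.Tw.subsingleton_X₃ hS₁ (top' (ihp i hi))
          (top' (H10Coh.subsingleton_HH_of_iso (PicGrp.tensorModIso eK.symm (Iso.refl _)) (i + 1)
            (hb p e (((le_max_right _ _).trans (le_max_right _ _)).trans he) (i + 1) (Nat.succ_pos i)))))
      let S := ShortComplex.mk (Abelian.image.ι f) (cokernel.π f) (kernel.condition _)
      have hS : S.ShortExact :=
        { exact := ShortComplex.exact_of_f_is_kernel _ (kernelIsKernel (cokernel.π f)) }
      exact H7Flat.CohDim.subsingleton_HH_mid (H10Coh.Tw.shortExact_seq hS hLe) i h1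
        (ha p e (((le_max_left _ _).trans (le_max_right _ _)).trans he) i hi)

end Groth.Agent.H22Alg.GradedFam
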