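import Mathlib.RingTheory.GradedAlgebra.Basic
import Mathlib.RingTheory.Adjoin.Basic
import Mathlib.Algebra.Algebra.Operations
import Mathlib.Algebra.GCDMonoid.Finset
import Mathlib.Algebra.GCDMonoid.Nat

/-!
Degree pieces of a graded algebra generated by finitely many homogeneous elements.
-/

namespace Groth.Agent.H22Alg

open DirectSum

variable {R A : Type*} [CommRing R] [CommRing A] [Algebra R A] (𝒜 : ℕ → Submodule R A)
  [GradedAlgebra 𝒜] {s : ℕ} (f : Fin s → A) (deg : Fin s → ℕ)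

theorem monomial_mem (hf : ∀ i, f i ∈ 𝒜 (deg i)) (e : Fin s → ℕ) :
    ∏ i, f i ^ e i ∈ 𝒜 (∑ i, e i • deg i) :=
  SetLike.prod_mem_graded 𝒜 _ _ fun i _ => SetLike.pow_mem_graded (e i) (hf i)

theorem le_span_monomial (hf : ∀ i, f i ∈ 𝒜 (deg i)) (hgen : Algebra.adjoin R (Set.range f) = ⊤)
    (m : ℕ) :
    𝒜 m ≤ Submodule.span R {x | ∃ e : Fin s → ℕ, (∑ i, e i * deg i = m) ∧ x = ∏ i, f i ^ e i} := by
  classical
  intro x hx
  set Sm := Submodule.span R {x | ∃ e : Fin s → ℕ, (∑ i, e i * deg i = m) ∧ x = ∏ i, f i ^ e i}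
  have hmon : ∀ a ∈ Submonoid.closure (Set.range f), ∃ e : Fin s → ℕ, a = ∏ i, f i ^ e i := by
    intro a ha
    induction ha using Submonoid.closure_induction with
    | mem y hy =>
      obtain ⟨i, rfl⟩ := hy
      refine ⟨Pi.single i 1, ?_⟩
      rw [Finset.prod_eq_single i (fun j _ hj => by simp [hj]) (by simp)]
      simp
    | one => exact ⟨0, by simp⟩
    | mul y z _ _ hy hz =>
      obtain ⟨e, rfl⟩ := hy
      obtain ⟨e', rfl⟩ := hz
      exact ⟨e + e', by simp [pow_add, Finset.prod_mul_distrib]⟩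
  have htop : x ∈ Submodule.span R (Submonoid.closure (Set.range f) : Set A) := by
    rw [← Algebra.adjoin_eq_span, hgen]; trivial
  have key : ∀ y ∈ Submodule.span R (Submonoid.closure (Set.range f) : Set A),
      (decompose 𝒜 y m : A) ∈ Sm := by
    intro y hy
    induction hy using Submodule.span_induction with
    | mem y hy =>
      obtain ⟨e, rfl⟩ := hmon y hy
      by_cases he : ∑ i, e i * deg i = m
      · refine (decompose_of_mem_same 𝒜 ?_).symm ▸ Submodule.subset_span ⟨e, he, rfl⟩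
        have := monomial_mem 𝒜 f deg hf e
        rwa [← he]
      · rw [decompose_of_mem_ne 𝒜 (monomial_mem 𝒜 f deg hf e) he]
        exact zero_mem _
    | zero => simp
    | add y z _ _ hy hz =>
      rw [decompose_add, DirectSum.add_apply, Submodule.coe_add]
      exact add_mem hy hz
    | smul r y _ hy =>
      rw [decompose_smul, DirectSum.smul_apply, Submodule.coe_smul]
      exact Submodule.smul_mem _ r hy
  have := key x htop
  rwa [decompose_of_mem_same 𝒜 hx] at this

theorem mul_degree_le (i j : ℕ) : 𝒜 i * 𝒜 j ≤ 𝒜 (i + j) :=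
  Submodule.mul_le.mpr fun _ ha _ hb => SetLike.mul_mem_graded ha hb

theorem degree_zero_eq_one (hdeg : ∀ i, 0 < deg i) (hf : ∀ i, f i ∈ 𝒜 (deg i))
    (hgen : Algebra.adjoin R (Set.range f) = ⊤) : 𝒜 0 = 1 := by
  apply le_antisymm
  · refine (le_span_monomial 𝒜 f deg hf hgen 0).trans (Submodule.span_le.mpr ?_)
    rintro x ⟨e, he, rfl⟩
    have : ∀ i, e i = 0 := fun i => by
      have := Finset.sum_eq_zero_iff.mp he i (Finset.mem_univ i)
      rcases Nat.mul_eq_zero.mp this with h | h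
      · exact h
      · exact absurd h (hdeg i).ne'
    simp only [this, pow_zero, Finset.prod_const_one]
    exact Submodule.one_le.mp le_rfl
  · rw [Submodule.one_le]
    exact SetLike.GradedOne.one_mem

theorem degree_add_lcm (hdeg : ∀ i, 0 < deg i) (hf : ∀ i, f i ∈ 𝒜 (deg i))
    (hgen : Algebra.adjoin R (Set.range f) = ⊤) (n : ℕ) (hn : (s - 1) * (Finset.univ.lcm deg - 1) ≤ n) :
    𝒜 (n + Finset.univ.lcm deg) = 𝒜 n * 𝒜 (Finset.univ.lcm deg) := by
  classical
  set l := Finset.univ.lcm deg with hl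
  refine le_antisymm ((le_span_monomial 𝒜 f deg hf hgen _).trans (Submodule.span_le.mpr ?_)) (mul_degree_le 𝒜 _ _)
  rintro x ⟨e, he, rfl⟩
  have hdvd : ∀ i, deg i ∣ l := fun i => Finset.dvd_lcm (Finset.mem_univ i)
  have hl0 : l ≠ 0 := by
    rw [hl, Ne, Finset.lcm_eq_zero_iff]
    rintro ⟨i, -, hi⟩
    exact (hdeg i).ne' hi
  obtain ⟨i, hi⟩ : ∃ i, l / deg i ≤ e i := by
    by_contra hcon
    push Not at hcon
    have h1 : ∀ i ∈ (Finset.univ : Finset (Fin s)), e i * deg i ≤ l - 1 := fun i _ => by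
      have h2 : (e i + 1) * deg i ≤ l := (Nat.le_div_iff_mul_le (hdeg i)).mp (hcon i)
      have := hdeg i
      rw [add_mul, one_mul] at h2
      omega
    have h3 := Finset.sum_le_card_nsmul _ _ _ h1
    rw [he, Finset.card_univ, Fintype.card_fin, smul_eq_mul] at h3
    rcases Nat.eq_zero_or_pos s with rfl | hs
    · simp at h3; omega
    · obtain ⟨s', rfl⟩ : ∃ s', s = s' + 1 := ⟨s - 1, by omega⟩
      simp only [Nat.add_sub_cancel] at hn
      rw [add_mul, one_mul] at h3
      omega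
  set e' := Function.update e i (e i - l / deg i)
  have hsplit : ∏ j, f j ^ e j = (∏ j, f j ^ e' j) * f i ^ (l / deg i) := by
    rw [← Finset.mul_prod_erase _ _ (Finset.mem_univ i), ← Finset.mul_prod_erase _ _ (Finset.mem_univ i),
      Finset.prod_congr rfl (fun j hj => by simp [e', (Finset.mem_erase.mp hj).1] :
        ∀ j ∈ Finset.univ.erase i, f j ^ e' j = f j ^ e j), mul_right_comm, ← pow_add]
    simp [e', Nat.sub_add_cancel hi]
  have hdeg' : ∑ j, e' j * deg j = n := by
    have : ∑ j, e' j * deg j + l = ∑ j, e j * deg j := by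
      rw [← Finset.add_sum_erase _ _ (Finset.mem_univ i), ← Finset.add_sum_erase _ _ (Finset.mem_univ i),
        Finset.sum_congr rfl (fun j hj => by simp [e', (Finset.mem_erase.mp hj).1] :
          ∀ j ∈ Finset.univ.erase i, e' j * deg j = e j * deg j)]
      simp only [e', Function.update_self]
      have h1 : (l / deg i) * deg i = l := Nat.div_mul_cancel (hdvd i)
      have h2 : (e i - l / deg i) * deg i + (l / deg i) * deg i = e i * deg i := by
        rw [← add_mul, Nat.sub_add_cancel hi]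
      omega
    omega
  rw [hsplit]
  refine Submodule.mul_mem_mul ?_ ?_
  · have := monomial_mem 𝒜 f deg hf e'
    simpa [hdeg'] using this
  · have := SetLike.pow_mem_graded (l / deg i) (hf i)
    simpa [Nat.div_mul_cancel (hdvd i)] using this

theorem degree_mul_pow (hdeg : ∀ i, 0 < deg i) (hf : ∀ i, f i ∈ 𝒜 (deg i))
    (hgen : Algebra.adjoin R (Set.range f) = ⊤) (a : ℕ) (ha : s - 1 ≤ a) (k : ℕ) :
    𝒜 (k * (a * Finset.univ.lcm deg)) = 𝒜 (a * Finset.univ.lcm deg) ^ k := by
  set l := Finset.univ.lcm deg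
  induction k with
  | zero => rw [zero_mul, Submodule.pow_zero, degree_zero_eq_one 𝒜 f deg hdeg hf hgen]
  | succ k ih =>
    rcases Nat.eq_zero_or_pos k with rfl | hk
    · simp
    rw [Submodule.pow_succ, ← ih]
    refine le_antisymm ?_ (by rw [add_mul, one_mul]; exact mul_degree_le 𝒜 _ _)
    have hb : (s - 1) * (l - 1) ≤ k * (a * l) :=
      calc (s - 1) * (l - 1) ≤ a * l := Nat.mul_le_mul ha (Nat.sub_le _ _)
        _ ≤ k * (a * l) := Nat.le_mul_of_pos_left _ hk
    have : ∀ j : ℕ, 𝒜 (k * (a * l) + j * l) ≤ 𝒜 (k * (a * l)) * 𝒜 (j * l) := by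
      intro j
      induction j with
      | zero => rw [zero_mul, add_zero, degree_zero_eq_one 𝒜 f deg hdeg hf hgen, mul_one]
      | succ j ihj =>
        rw [add_mul j, one_mul, ← add_assoc, degree_add_lcm 𝒜 f deg hdeg hf hgen _ (hb.trans (Nat.le_add_right _ _))]
        calc 𝒜 (k * (a * l) + j * l) * 𝒜 l ≤ (𝒜 (k * (a * l)) * 𝒜 (j * l)) * 𝒜 l := mul_le_mul' ihj le_rfl
          _ = 𝒜 (k * (a * l)) * (𝒜 (j * l) * 𝒜 l) := mul_assoc _ _ _
          _ ≤ _ := mul_le_mul' le_rfl (mul_degree_le 𝒜 _ _)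
    rw [add_mul, one_mul]
    exact this a

end Groth.Agent.H22Alg
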