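import Mathlib
import Groth.Agent.H22Alg.FlatSurj
import Groth.Agent.H18Descent.Basic
import Groth.Agent.H9Hens.LocalHens
import Groth.Agent.H9Hens.PtField
import Groth.Agent.H9Hens.Pair
import Groth.Agent.H9Hens.PtColim

/-! Separated images of integral schemes with finite fibres are integral over the base. -/

set_option autoImplicit false
set_option linter.style.haveILetI false
universe u

open CategoryTheory CategoryTheory.Limits AlgebraicGeometry

namespace Groth.Agent.H22Alg.IntegralImage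

/-- Idempotents isolating the maximal ideals of an integral algebra over a henselian local ring. -/
theorem exists_idem_isolating {A B : Type u} [CommRing A] [HenselianLocalRing A] [CommRing B] [Algebra A B]
    [Algebra.IsIntegral A B] [Finite (MaximalSpectrum B)] (n : MaximalSpectrum B) :
    ∃ e : B, IsIdempotentElem e ∧ e ∉ n.asIdeal ∧ ∀ n' : MaximalSpectrum B, n' ≠ n → e ∈ n'.asIdeal := by
  let L := (IsLocalRing.maximalIdeal A).map (algebraMap A B)
  have hmax : ∀ p : PrimeSpectrum B, L ≤ p.asIdeal → p.asIdeal.IsMaximal := fun p hp => by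
    refine Ideal.isMaximal_of_isIntegral_of_isMaximal_comap (R := A) p.asIdeal ?_
    rw [← (IsLocalRing.maximalIdeal.isMaximal A).eq_of_le (Ideal.comap_ne_top _ p.2.ne_top) (Ideal.map_le_iff_le_comap.mp hp)]
    infer_instance
  have hle : ∀ m : MaximalSpectrum B, L ≤ m.asIdeal := fun m => by
    haveI := m.isMaximal
    have h1 := Ideal.isMaximal_comap_of_isIntegral_of_isMaximal (R := A) m.asIdeal
    exact Ideal.map_le_iff_le_comap.mpr (IsLocalRing.eq_maximalIdeal h1).ge
  let q := Ideal.Quotient.mk L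
  have hq : Function.Surjective q := Ideal.Quotient.mk_surjective
  let toMax : PrimeSpectrum (B ⧸ L) → MaximalSpectrum B := fun p =>
    ⟨(PrimeSpectrum.comap q p).asIdeal, hmax (PrimeSpectrum.comap q p) fun x hx => by
      show q x ∈ p.asIdeal
      rw [show q x = 0 from Ideal.Quotient.eq_zero_iff_mem.mpr hx]
      exact zero_mem _⟩
  have hinj : Function.Injective toMax := fun p p' h =>
    PrimeSpectrum.comap_injective_of_surjective q hq (PrimeSpectrum.ext (congrArg MaximalSpectrum.asIdeal h))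
  haveI : Finite (PrimeSpectrum (B ⧸ L)) := Finite.of_injective toMax hinj
  haveI : T1Space (PrimeSpectrum (B ⧸ L)) := by
    refine ⟨fun p => (PrimeSpectrum.isClosed_singleton_iff_isMaximal p).mpr ?_⟩
    haveI := (toMax p).isMaximal
    rw [← Ideal.map_comap_of_surjective q hq p.asIdeal]
    refine (Ideal.map_eq_top_or_isMaximal_of_surjective q hq (toMax p).isMaximal).resolve_left fun h => p.2.ne_top ?_
    change Ideal.map q (Ideal.comap q p.asIdeal) = ⊤ at h
    rwa [Ideal.map_comap_of_surjective q hq] at h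
  obtain ⟨b, hb, hbs⟩ := PrimeSpectrum.exists_idempotent_basicOpen_eq_of_isClopen
    (s := {p : PrimeSpectrum (B ⧸ L) | toMax p = n}) (isClopen_discrete _)
  obtain ⟨c, rfl⟩ := hq b
  haveI : HenselianRing A (IsLocalRing.maximalIdeal A) := inferInstance
  obtain ⟨e, he, hec⟩ := H9Hens.exists_idem_lift_integral (I := IsLocalRing.maximalIdeal A) c
    (Ideal.Quotient.eq_zero_iff_mem.mp (by
      rw [map_sub, map_mul]
      exact sub_eq_zero.mpr hb.eq))
  have key : ∀ m : MaximalSpectrum B, e ∉ m.asIdeal ↔ m = n := fun m => by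
    let p : PrimeSpectrum (B ⧸ L) := ⟨m.asIdeal.map q, by
      refine Ideal.map_isPrime_of_surjective hq ?_
      rw [Ideal.mk_ker]
      exact hle m⟩
    have hp : toMax p = m := MaximalSpectrum.ext (by
      show (m.asIdeal.map q).comap q = m.asIdeal
      rw [Ideal.comap_map_of_surjective' q hq, Ideal.mk_ker, sup_eq_left.mpr (hle m)])
    have h1 : p ∈ (PrimeSpectrum.basicOpen (q c) : Set (PrimeSpectrum (B ⧸ L))) ↔ toMax p = n := by
      rw [← hbs]; rfl
    rw [← hp, ← h1]
    show e ∉ (p.asIdeal.comap q) ↔ q c ∉ p.asIdeal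
    rw [Ideal.mem_comap, show q e = q c from Ideal.Quotient.eq.mpr hec]
  exact ⟨e, he, (key n).mpr rfl, fun m hm => by_contra fun h => hm ((key m).mp h)⟩

/-- The local case: a separated image of a semilocal integral scheme over a henselian ring is affine. -/
theorem isAffine_of_henselian {A : CommRingCat.{u}} [HenselianLocalRing A] {W X : Scheme.{u}}
    (f : X ⟶ W) (g : W ⟶ Spec A) [IsSeparated g] [IsIntegralHom (f ≫ g)] [Surjective f]
    (hfin : Set.Finite ((f ≫ g) ⁻¹' {IsLocalRing.closedPoint A})) : IsAffine W := by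
  haveI : IsAffine X := isAffine_of_isAffineHom (f ≫ g)
  haveI : UniversallyClosed f := UniversallyClosed.of_comp_of_isSeparated f g
  let B := Γ(X, ⊤)
  obtain ⟨φ, hφ⟩ := Spec.map_surjective (X.isoSpec.inv ≫ f ≫ g)
  letI : Algebra A B := φ.hom.toAlgebra
  haveI : IsIntegralHom (Spec.map φ) := hφ ▸ inferInstance
  haveI : Algebra.IsIntegral A B := algebraMap_isIntegral_iff.mp (IsIntegralHom.SpecMap_iff.mp ‹_›)
  let ψ : ↥(Spec B) → ↥W := fun p => f (X.isoSpec.inv p)
  have hψ : Continuous ψ := f.continuous.comp X.isoSpec.inv.continuous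
  have hψs : Function.Surjective ψ := f.surjective.comp X.isoSpec.inv.homeomorph.surjective
  have hψc : IsClosedMap ψ := f.isClosedMap.comp X.isoSpec.inv.homeomorph.isClosedMap
  haveI : Finite (MaximalSpectrum B) := by
    haveI := hfin.to_subtype
    refine Finite.of_injective (β := ↥((f ≫ g) ⁻¹' {IsLocalRing.closedPoint A}))
      (fun m => ⟨X.isoSpec.inv ⟨m.asIdeal, m.isMaximal.isPrime⟩, ?_⟩) fun m m' h => ?_
    · show (f ≫ g) (X.isoSpec.inv _) = _
      rw [← Scheme.Hom.comp_apply, ← hφ]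
      haveI := m.isMaximal
      exact PrimeSpectrum.ext (IsLocalRing.eq_maximalIdeal
        (Ideal.isMaximal_comap_of_isIntegral_of_isMaximal (R := A) m.asIdeal))
    · exact MaximalSpectrum.ext (congrArg PrimeSpectrum.asIdeal
        (X.isoSpec.inv.homeomorph.injective (congrArg Subtype.val h)))
  choose e he hen hen' using fun n : MaximalSpectrum B => exists_idem_isolating (A := A) n
  let D : MaximalSpectrum B → Set ↥(Spec B) := fun n => (PrimeSpectrum.basicOpen (e n) : Set (PrimeSpectrum B))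
  have hD : ∀ n, IsClosed (D n) := fun n => (PrimeSpectrum.isClopen_iff.mpr ⟨e n, he n, rfl⟩).1
  let pt : MaximalSpectrum B → ↥(Spec B) := fun n => ⟨n.asIdeal, n.isMaximal.isPrime⟩
  -- every point of a piece specialises to its closed point
  have hspec : ∀ n, ∀ p ∈ D n, p ⤳ pt n := fun n p hp => by
    obtain ⟨M, hM, hle⟩ := Ideal.exists_le_maximal p.asIdeal p.2.ne_top
    have hpM : p ⤳ pt ⟨M, hM⟩ := (PrimeSpectrum.le_iff_specializes _ _).mp hle
    have hmem := hpM.mem_closed (hD n) hp
    obtain rfl : (⟨M, hM⟩ : MaximalSpectrum B) = n := by_contra fun h => hmem (hen' n _ h)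
    exact hpM
  have hcov : ∀ p, ∃ n, p ∈ D n := fun p => by
    obtain ⟨M, hM, hle⟩ := Ideal.exists_le_maximal p.asIdeal p.2.ne_top
    have hpM : p ⤳ pt ⟨M, hM⟩ := (PrimeSpectrum.le_iff_specializes _ _).mp hle
    exact ⟨⟨M, hM⟩, hpM.mem_open
      (PrimeSpectrum.basicOpen (e _)).isOpen (hen ⟨M, hM⟩)⟩
  let Y : Set ↥W := Set.range fun n => ψ (pt n)
  have hclosed : ∀ n, IsClosed ({ψ (pt n)} : Set ↥W) := fun n => by
    have h1 : IsClosed ({pt n} : Set ↥(Spec B)) :=
      (PrimeSpectrum.isClosed_singleton_iff_isMaximal (pt n)).mpr n.isMaximal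
    have := hψc _ h1
    rwa [Set.image_singleton] at this
  -- the piece of `W` over a closed point
  let U : ↥W → Set ↥W := fun y => {w | w ⤳ y}
  have hUeq : ∀ n₀, U (ψ (pt n₀)) = ⋃ n ∈ {n | ψ (pt n) = ψ (pt n₀)}, ψ '' D n := fun n₀ => by
    ext w
    simp only [U, Set.mem_setOf_eq, Set.mem_iUnion, Set.mem_image]
    constructor
    · intro hw
      obtain ⟨p, rfl⟩ := hψs w
      obtain ⟨n, hn⟩ := hcov p
      refine ⟨n, ?_, p, hn, rfl⟩
      have h1 : ψ (pt n₀) ∈ ψ '' D n := hw.mem_closed (hψc _ (hD n)) ⟨p, hn, rfl⟩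
      obtain ⟨p', hp', hp'y⟩ := h1
      have h2 := (hspec n p' hp').map hψ
      rw [hp'y] at h2
      exact Set.mem_singleton_iff.mp (h2.mem_closed (hclosed n₀) rfl)
    · rintro ⟨n, hn, p, hp, rfl⟩
      rw [← hn]
      exact (hspec n p hp).map hψ
  have hUclosed : ∀ n, IsClosed (U (ψ (pt n))) := fun n₀ => by
    rw [hUeq]
    exact Set.Finite.isClosed_biUnion (Set.toFinite _) fun n _ => hψc _ (hD n)
  have hUcov : ∀ w, ∃ n, w ∈ U (ψ (pt n)) := fun w => by
    obtain ⟨p, rfl⟩ := hψs w
    obtain ⟨n, hn⟩ := hcov p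
    exact ⟨n, (hspec n p hn).map hψ⟩
  have hdisj : ∀ n n', ∀ w, w ∈ U (ψ (pt n)) → w ∈ U (ψ (pt n')) → ψ (pt n) = ψ (pt n') := by
    intro n n' w hw hw'
    have h1 := hw'.mem_closed (hUclosed n) hw
    exact (Set.mem_singleton_iff.mp (h1.mem_closed (hclosed n') rfl)).symm ▸ rfl
  have hUopen : ∀ n, IsOpen (U (ψ (pt n))) := fun n₀ => by
    have : (U (ψ (pt n₀)))ᶜ = ⋃ n ∈ {n | ψ (pt n) ≠ ψ (pt n₀)}, U (ψ (pt n)) := by
      ext w
      simp only [Set.mem_compl_iff, Set.mem_iUnion, Set.mem_setOf_eq, exists_prop]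
      constructor
      · intro hw
        obtain ⟨n, hn⟩ := hUcov w
        exact ⟨n, fun h => hw (h ▸ hn), hn⟩
      · rintro ⟨n, hne, hn⟩ hw
        exact hne (hdisj n n₀ w hn hw)
    rw [← isClosed_compl_iff, this]
    exact Set.Finite.isClosed_biUnion (Set.toFinite _) fun n _ => hUclosed n
  let O : ↥Y → W.Opens := fun y => ⟨U y.1, by obtain ⟨_, n, rfl⟩ := y; exact hUopen n⟩
  have hO : ∀ y, IsAffineOpen (O y) := fun ⟨y, hy⟩ => by
    obtain ⟨n, rfl⟩ := hy
    obtain ⟨_, ⟨V, hV, rfl⟩, hyV, -⟩ :=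
      W.isBasis_affineOpens.exists_subset_of_mem_open (Set.mem_univ (ψ (pt n))) isOpen_univ
    have hle : O ⟨ψ (pt n), n, rfl⟩ ≤ V := fun w hw => (show w ⤳ ψ (pt n) from hw).mem_open V.isOpen hyV
    change W.Opens at V
    haveI : IsAffine (V : Scheme.{u}) := hV
    have hcl : IsClosed (V.ι ⁻¹' U (ψ (pt n))) := (hUclosed n).preimage V.ι.continuous
    have haff : IsAffineOpen (V.ι ⁻¹ᵁ O ⟨ψ (pt n), n, rfl⟩) := by
      haveI : IsClosedImmersion (V.ι ⁻¹ᵁ O ⟨ψ (pt n), n, rfl⟩).ι :=
        IsClosedImmersion.of_isPreimmersion _ (by rw [Scheme.Opens.range_ι]; exact hcl)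
      exact isAffine_of_isAffineHom (V.ι ⁻¹ᵁ O ⟨ψ (pt n), n, rfl⟩).ι
    have h2 := (Scheme.Hom.isAffineOpen_iff_of_isOpenImmersion V.ι).mpr haff
    rwa [Scheme.Hom.image_preimage_eq_opensRange_inf, Scheme.Opens.opensRange_ι, inf_eq_right.mpr hle] at h2
  have hYfin : Finite ↥Y := (Set.finite_range _).to_subtype
  have htop : (⨆ y, O y) = ⊤ := by
    refine eq_top_iff.mpr fun w _ => ?_
    obtain ⟨n, hn⟩ := hUcov w
    exact TopologicalSpace.Opens.mem_iSup.mpr ⟨⟨ψ (pt n), n, rfl⟩, hn⟩
  have := IsAffineOpen.iSup_of_disjoint (U := O) hO (fun ⟨y, n, hy⟩ ⟨y', n', hy'⟩ hne => by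
    subst hy hy'
    rw [Function.onFun, ← TopologicalSpace.Opens.coe_disjoint, Set.disjoint_left]
    exact fun w hw hw' => hne (Subtype.ext (hdisj n n' w hw hw')))
  rw [htop] at this
  haveI : IsAffine ((⊤ : W.Opens) : Scheme.{u}) := this
  exact IsAffine.of_isIso W.topIso.inv

/-- A separated scheme receiving a surjection from an integral scheme with finite fibres is integral. -/
theorem isIntegralHom_of_surjective {X W S : Scheme.{u}} (f : X ⟶ W) (g : W ⟶ S) [IsSeparated g]
    [IsIntegralHom (f ≫ g)] [Surjective f] (hfin : ∀ s : S, Set.Finite ((f ≫ g) ⁻¹' {s})) :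
    IsIntegralHom g := by
  haveI : UniversallyClosed g := UniversallyClosed.of_comp_surjective f g
  suffices h : ∀ s : S, ∃ (T : Scheme.{u}) (t : T ⟶ S), Flat t ∧ s ∈ Set.range t ∧ IsAffineHom (pullback.snd g t) by
    choose T t ht hs ha using h
    let σ : (∐ T) ⟶ S := Sigma.desc t
    haveI : Flat σ := IsZariskiLocalAtSource.sigmaDesc (P := @Flat) ht
    haveI : Surjective σ := ⟨fun s => by
      obtain ⟨q, hq⟩ := hs s
      exact ⟨Sigma.ι T s q, by rw [← Scheme.Hom.comp_apply, Sigma.ι_desc]; exact hq⟩⟩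
    haveI : IsAffineHom (pullback.snd g σ) := by
      refine IsZariskiLocalAtTarget.of_openCover (P := @IsAffineHom) (sigmaOpenCover T) fun s => ?_
      show IsAffineHom (pullback.snd (pullback.snd g σ) (Sigma.ι T s))
      rw [← pullbackLeftPullbackSndIso_hom_snd, MorphismProperty.cancel_left_of_respectsIso @IsAffineHom]
      have : ∀ t', t' = t s → IsAffineHom (pullback.snd g t') := by rintro _ rfl; exact ha s
      exact this _ (Sigma.ι_desc t s)
    haveI : IsAffineHom g := H22Alg.isAffineHom_of_baseChange g σ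
    exact IsIntegralHom.iff_universallyClosed_and_isAffineHom.mpr ⟨inferInstance, inferInstance⟩
  intro s
  obtain ⟨H, _, _, _, _, π, hπ, hH⟩ := H9Hens.exists_isHenselization_colim (S.presheaf.stalk s)
  haveI : HenselianLocalRing (CommRingCat.of H) := hH.henselian
  haveI : IsLocalHom (CommRingCat.ofHom (algebraMap (S.presheaf.stalk s) H)).hom := ‹IsLocalHom (algebraMap _ H)›
  let t : Spec (CommRingCat.of H) ⟶ S := Spec.map (CommRingCat.ofHom (algebraMap (S.presheaf.stalk s) H)) ≫ S.fromSpecStalk s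
  haveI : Flat (Spec.map (CommRingCat.ofHom (algebraMap (S.presheaf.stalk s) H))) := by
    have := hπ.faithfullyFlat H9Hens.ker_algebraMap_residueField
    rw [HasRingHomProperty.Spec_iff (P := @Flat)]
    exact RingHom.flat_algebraMap_iff.2 inferInstance
  haveI : Flat (S.fromSpecStalk s) := H22Alg.flat_fromSpecStalk S s
  have hts : t (IsLocalRing.closedPoint (CommRingCat.of H)) = s := by
    rw [Scheme.Hom.comp_apply, Spec_closedPoint, Scheme.fromSpecStalk_closedPoint]
  refine ⟨_, t, inferInstance, ⟨_, hts⟩, ?_⟩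
  let i : Spec (S.residueField s) ⟶ Spec (CommRingCat.of H) := Spec.map (CommRingCat.ofHom π.toRingHom)
  have hit : i ≫ t = S.fromSpecResidueField s := by
    rw [← Spec.map_comp_assoc]
    congr 2
    exact CommRingCat.hom_ext (RingHom.ext fun a => π.commutes a)
  let f' : pullback (f ≫ g) t ⟶ pullback g t :=
    pullback.map (f ≫ g) t g t f (𝟙 _) (𝟙 _) (by simp) (by simp)
  have hf' : f' ≫ pullback.snd g t = pullback.snd (f ≫ g) t := (pullback.lift_snd _ _ _).trans (Category.comp_id _)
  haveI : Surjective f' := by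
    have hsq : IsPullback f' (pullback.fst (f ≫ g) t) (pullback.fst g t) f := by
      refine IsPullback.of_right ?_ (pullback.lift_fst _ _ _) (IsPullback.of_hasPullback _ t).flip
      rw [hf']
      exact (IsPullback.of_hasPullback _ t).flip
    exact MorphismProperty.of_isPullback (P := @Surjective) hsq.flip ‹Surjective f›
  haveI : IsIntegralHom (f' ≫ pullback.snd g t) := hf'.symm ▸ inferInstance
  suffices IsAffine (pullback g t) by infer_instance
  refine isAffine_of_henselian f' (pullback.snd g t) ?_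
  haveI : Finite ↥(pullback (f ≫ g) (i ≫ t)) := by
    rw [hit]
    haveI := (hfin s).to_subtype
    exact Finite.of_equiv _ ((f ≫ g).fiberHomeo s).symm.toEquiv
  let j := pullbackLeftPullbackSndIso (f ≫ g) t i
  refine (Set.finite_range fun w => pullback.fst (pullback.snd (f ≫ g) t) i (j.inv w)).subset fun z hz => ?_
  change (f' ≫ pullback.snd g t) z = IsLocalRing.closedPoint (CommRingCat.of H) at hz
  rw [hf'] at hz
  have hmem : i (IsLocalRing.closedPoint _) = IsLocalRing.closedPoint (CommRingCat.of H) := by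
    refine PrimeSpectrum.ext (IsLocalRing.eq_maximalIdeal ?_)
    exact @Ideal.comap_isMaximal_of_surjective _ _ _ _ _ _ _ π.toRingHom (fun x => by
      obtain ⟨r, rfl⟩ := Ideal.Quotient.mk_surjective x
      exact ⟨algebraMap _ H r, π.commutes r⟩) _ (IsLocalRing.maximalIdeal.isMaximal _)
  obtain ⟨w, hw, -⟩ := Scheme.Pullback.exists_preimage_pullback
    (f := pullback.snd (f ≫ g) t) (g := i) z _ (hz.trans hmem.symm)
  refine ⟨j.hom w, ?_⟩
  show pullback.fst _ i (j.inv (j.hom w)) = z
  rw [← Scheme.Hom.comp_apply j.hom j.inv, Iso.hom_inv_id]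
  exact hw

end Groth.Agent.H22Alg.IntegralImage
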