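import Mathlib

/-! # Modules becoming free of rank one after a faithfully flat extension. -/

set_option autoImplicit false

universe u

open scoped TensorProduct
open TensorProduct

noncomputable section

namespace Groth.Agent.H22Alg.InvDescentAlg

variable {R S M : Type u} [CommRing R] [CommRing S] [Algebra R S] [Module.FaithfullyFlat R S]
  [AddCommGroup M] [Module R M] (e : S ⊗[R] M ≃ₗ[S] S)

include e in
theorem finite : Module.Finite R M := by
  haveI : Module.Finite S (S ⊗[R] M) := Module.Finite.equiv e.symm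
  exact Module.Finite.of_finite_tensorProduct_of_faithfullyFlat S

include e in
theorem flat : Module.Flat R M := by
  haveI : Module.Flat R (S ⊗[R] M) := Module.Flat.of_linearEquiv (e.restrictScalars R)
  rw [Module.Flat.iff_lTensor_preserves_injective_linearMap]
  intro N N' _ _ _ _ f hf
  rw [← Module.FaithfullyFlat.lTensor_injective_iff_injective R S]
  have h := Module.Flat.lTensor_preserves_injective_linearMap (M := S ⊗[R] M) f hf
  have hcomp : (f.lTensor M).lTensor S = (TensorProduct.assoc R S M N').toLinearMap ∘ₗ f.lTensor (S ⊗[R] M) ∘ₗ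
      (TensorProduct.assoc R S M N).symm.toLinearMap := by
    refine TensorProduct.ext' fun s z => ?_
    induction z using TensorProduct.induction_on with
    | zero => simp
    | tmul m n => simp
    | add a b ha hb => rw [tmul_add, map_add, map_add, ha, hb]
  rw [hcomp]
  simp only [LinearMap.coe_comp, LinearEquiv.coe_coe]
  exact (TensorProduct.assoc R S M N').injective.comp (h.comp (TensorProduct.assoc R S M N).symm.injective)

include e in
theorem finrank_residue (P : MaximalSpectrum R) :
    Module.finrank (R ⧸ P.1) ((R ⧸ P.1) ⊗[R] M) = 1 := by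
  haveI : P.1.IsMaximal := P.2
  letI : Field (R ⧸ P.1) := Ideal.Quotient.field P.1
  have hne : P.1.map (algebraMap R S) ≠ ⊤ := fun h => by
    have h' := Ideal.comap_map_eq_self_of_faithfullyFlat (A := R) (B := S) P.1
    rw [h, Ideal.comap_top] at h'
    exact P.2.ne_top h'.symm
  obtain ⟨Q, hQ, hle⟩ := Ideal.exists_le_maximal _ hne
  haveI := hQ
  letI : Field (S ⧸ Q) := Ideal.Quotient.field Q
  let φ : R ⧸ P.1 →+* S ⧸ Q := Ideal.quotientMap Q (algebraMap R S) (Ideal.map_le_iff_le_comap.1 hle)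
  letI : Algebra (R ⧸ P.1) (S ⧸ Q) := φ.toAlgebra
  haveI : IsScalarTower R (R ⧸ P.1) (S ⧸ Q) := IsScalarTower.of_algebraMap_eq fun r => rfl
  have h1 : (S ⧸ Q) ⊗[R ⧸ P.1] ((R ⧸ P.1) ⊗[R] M) ≃ₗ[S ⧸ Q] S ⧸ Q :=
    AlgebraTensorModule.cancelBaseChange R (R ⧸ P.1) (S ⧸ Q) (S ⧸ Q) M ≪≫ₗ
      (AlgebraTensorModule.cancelBaseChange R S (S ⧸ Q) (S ⧸ Q) M).symm ≪≫ₗ
      AlgebraTensorModule.congr (LinearEquiv.refl (S ⧸ Q) (S ⧸ Q)) e ≪≫ₗ
      AlgebraTensorModule.rid S (S ⧸ Q) (S ⧸ Q)
  rw [← Module.finrank_baseChange (R := S ⧸ Q), h1.finrank_eq, Module.finrank_self]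

include e in
/-- Over a semilocal ring such a module is cyclic. -/
theorem exists_generator [Finite (MaximalSpectrum R)] : ∃ s : M, ∀ m : M, ∃ r : R, r • s = m := by
  haveI := finite e
  haveI := flat e
  obtain ⟨b⟩ := Module.nonempty_basis_of_flat_of_finrank_eq R M 1 (finrank_residue e)
  refine ⟨b 0, fun m => ⟨b.repr m 0, ?_⟩⟩
  conv_rhs => rw [← b.sum_repr m]
  simp

end Groth.Agent.H22Alg.InvDescentAlg
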