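import Mathlib.LinearAlgebra.Lagrange
import Mathlib.RingTheory.Localization.Away.Basic
import Mathlib.RingTheory.Localization.FractionRing
import Mathlib.RingTheory.MvPolynomial.Basic
import Mathlib.Algebra.Ring.GeomSum
import Mathlib.Tactic.LinearCombination

/-! A residue identity for the substitution T ↦ T^j. -/

universe u v

open Finset Polynomial

noncomputable section

namespace Groth.Agent.H22Alg.LamRes

variable {R : Type u} [CommRing R] {S : Type v} [CommRing S]

/-- Σ_{k<j} T^k b^(j-1-k), so that hPoly j b * (T - b) = T^j - b^j. -/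
def hPoly (j : ℕ) (b : R) : R[X] := ∑ k ∈ range j, X ^ k * C (b ^ (j - 1 - k))

variable {n : ℕ}

/-- Π_i hPoly j (u i). -/
def bigH (j : ℕ) (u : Fin n → R) : R[X] := ∏ i, hPoly j (u i)

lemma map_bigH (φ : R →+* S) (j : ℕ) (u : Fin n → R) :
    (bigH j u).map φ = bigH j (fun i => φ (u i)) := by
  simp [bigH, hPoly, Polynomial.map_prod, Polynomial.map_sum]

lemma eval_hPoly (j : ℕ) (a b : R) :
    (hPoly j b).eval a * (a - b) = a ^ j - b ^ j := by
  simp only [hPoly, eval_finsetSum, eval_mul, eval_pow, eval_X, eval_C]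
  exact geom_sum₂_mul a b j

lemma eval_hPoly_self (j : ℕ) (a : R) : (hPoly j a).eval a = (j : R) * a ^ (j - 1) := by
  simp only [hPoly, eval_finsetSum, eval_mul, eval_pow, eval_X, eval_C]
  rw [sum_congr rfl (fun k hk => by
    rw [← pow_add, show k + (j - 1 - k) = j - 1 by have := mem_range.1 hk; omega])]
  simp

theorem residue_field {F : Type u} [Field F] {r j : ℕ} (u : Fin (r + 1) → F)
    (hv : Function.Injective fun i => u i ^ j) (W : F[X])
    (hW : ∀ i, (bigH j u).eval (u i) * W.eval (u i) = 1) (k : ℕ) (hk : k ≤ r) :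
    (j : F) * ((X ^ (j * k + (j - 1)) * W) %ₘ Lagrange.nodal univ u).coeff r =
      if k = r then 1 else 0 := by
  classical
  have hu : Function.Injective u := fun a b h => hv (by simp [h])
  have hcard : #(univ : Finset (Fin (r + 1))) = r + 1 := by simp
  have hmon := Lagrange.nodal_monic (s := (univ : Finset (Fin (r + 1)))) (v := u)
  have hdeg : ((X ^ (j * k + (j - 1)) * W) %ₘ Lagrange.nodal univ u).degree <
      (#(univ : Finset (Fin (r + 1))) : WithBot ℕ) :=
    lt_of_lt_of_eq (degree_modByMonic_lt _ hmon) Lagrange.degree_nodal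
  have h1 := Lagrange.coeff_eq_sum hu.injOn hdeg
  rw [hcard, Nat.add_sub_cancel] at h1
  rw [h1, mul_sum]
  have h2 := Lagrange.coeff_eq_sum (s := univ) (v := fun i => u i ^ j) hv.injOn
    (P := (X : F[X]) ^ k) (by rw [degree_X_pow, hcard]; exact_mod_cast Nat.lt_succ_of_le hk)
  rw [hcard, Nat.add_sub_cancel, coeff_X_pow] at h2
  rw [show (if k = r then (1 : F) else 0) = if r = k then 1 else 0 by simp [eq_comm], h2]
  refine sum_congr rfl fun i _ => ?_
  simp only [modByMonic_eq_sub_mul_div, eval_sub, eval_mul, eval_pow, eval_X,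
    Lagrange.eval_nodal_at_node (mem_univ i), zero_mul, sub_zero]
  have hH : (bigH j u).eval (u i) =
      (j : F) * u i ^ (j - 1) * ∏ l ∈ univ.erase i, (hPoly j (u l)).eval (u i) := by
    rw [bigH, eval_prod, ← mul_prod_erase univ _ (mem_univ i), eval_hPoly_self]
  have hden : ∏ l ∈ univ.erase i, (u i ^ j - u l ^ j) =
      (∏ l ∈ univ.erase i, (hPoly j (u l)).eval (u i)) * ∏ l ∈ univ.erase i, (u i - u l) := by
    rw [← prod_mul_distrib]
    exact prod_congr rfl fun l _ => (eval_hPoly j _ _).symm
  have hd1 : ∏ l ∈ univ.erase i, (u i - u l) ≠ 0 :=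
    prod_ne_zero_iff.2 fun l hl => sub_ne_zero.2 fun h => (mem_erase.1 hl).1 (hu h).symm
  have hd2 : ∏ l ∈ univ.erase i, (u i ^ j - u l ^ j) ≠ 0 :=
    prod_ne_zero_iff.2 fun l hl => sub_ne_zero.2 fun h => (mem_erase.1 hl).1 (hv h).symm
  have hW' := hW i
  rw [hH] at hW'
  rw [← mul_div_assoc, div_eq_div_iff hd1 hd2, hden, pow_add, ← pow_mul]
  linear_combination (u i ^ (j * k) * ∏ l ∈ univ.erase i, (u i - u l)) * hW'

lemma exists_inverse {H : R[X]} (u : Fin n → R) (hu : ∀ i, IsUnit (H.eval (u i)))
    (s : Finset (Fin n)) : ∃ W : R[X], (∏ i ∈ s, (X - C (u i))) ∣ H * W - 1 := by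
  classical
  induction s using Finset.induction with
  | empty => exact ⟨0, by simp⟩
  | insert i s hi ih =>
    obtain ⟨W1, h1⟩ := ih
    have h2 : (X - C (u i)) ∣ H * C ((hu i).unit⁻¹ : Rˣ).1 - 1 := by
      rw [dvd_iff_isRoot, IsRoot.def, eval_sub, eval_mul, eval_C, eval_one,
        (hu i).mul_val_inv, sub_self]
    refine ⟨W1 + C ((hu i).unit⁻¹ : Rˣ).1 - H * W1 * C ((hu i).unit⁻¹ : Rˣ).1, ?_⟩
    rw [prod_insert hi, show H * (W1 + C ((hu i).unit⁻¹ : Rˣ).1 - H * W1 * C ((hu i).unit⁻¹ : Rˣ).1) - 1 =
      -((H * C ((hu i).unit⁻¹ : Rˣ).1 - 1) * (H * W1 - 1)) by ring]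
    exact (mul_dvd_mul h2 h1).neg_right

variable (r j : ℕ)

/-- The element inverted in the universal ring. -/
def univD : MvPolynomial (Fin (r + 1)) ℤ :=
  ∏ i, (bigH j (fun l : Fin (r + 1) => (MvPolynomial.X l : MvPolynomial (Fin (r + 1)) ℤ))).eval
    (MvPolynomial.X i)

/-- The universal ring. -/
abbrev Univ : Type := Localization.Away (univD r j)

variable {r j}

lemma univD_ne_zero (hj : 1 ≤ j) : univD r j ≠ 0 := by
  intro h
  have := congrArg (MvPolynomial.eval (fun _ => (1 : ℤ))) h
  simp only [univD, bigH, hPoly, eval_prod, eval_finsetSum, eval_mul, eval_pow, eval_X, eval_C,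
    map_prod, map_sum, map_mul, map_pow, MvPolynomial.eval_X, one_pow, mul_one, map_zero] at this
  simp at this
  omega

theorem residue (hj : 1 ≤ j) (u : Fin (r + 1) → S) (W : S[X])
    (hW : Lagrange.nodal univ u ∣ bigH j u * W - 1) (k : ℕ) (hk : k ≤ r) :
    (j : S) * ((X ^ (j * k + (j - 1)) * W) %ₘ Lagrange.nodal univ u).coeff r =
      if k = r then 1 else 0 := by
  classical
  haveI : IsDomain (Univ r j) := IsLocalization.isDomain_of_le_nonZeroDivisors
    (M := Submonoid.powers (univD r j)) _
    (powers_le_nonZeroDivisors_of_noZeroDivisors (univD_ne_zero hj))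
  let a : MvPolynomial (Fin (r + 1)) ℤ →+* Univ r j := algebraMap _ _
  have ha : Function.Injective a :=
    IsLocalization.injective (M := Submonoid.powers (univD r j)) _
      (powers_le_nonZeroDivisors_of_noZeroDivisors (univD_ne_zero hj))
  let uU : Fin (r + 1) → Univ r j := fun i => a (MvPolynomial.X i)
  have hUunit : ∀ i, IsUnit ((bigH j uU).eval (uU i)) := by
    have hD : IsUnit (a (univD r j)) := IsLocalization.Away.algebraMap_isUnit _
    have hD' : IsUnit (∏ i, a ((bigH j (fun l : Fin (r + 1) =>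
        (MvPolynomial.X l : MvPolynomial (Fin (r + 1)) ℤ))).eval (MvPolynomial.X i))) := by
      rw [← map_prod]; exact hD
    intro i
    have := IsUnit.prod_univ_iff.1 hD' i
    rwa [← eval_map_apply, map_bigH] at this
  obtain ⟨WU, hWU⟩ := exists_inverse uU hUunit univ
  -- the identity in the universal ring
  have hU : (j : Univ r j) * ((X ^ (j * k + (j - 1)) * WU) %ₘ Lagrange.nodal univ uU).coeff r =
      if k = r then 1 else 0 := by
    apply IsFractionRing.injective (Univ r j) (FractionRing (Univ r j))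
    set b : Univ r j →+* FractionRing (Univ r j) := algebraMap _ _
    have hnod : (Lagrange.nodal univ uU).map b = Lagrange.nodal univ (fun i => b (uU i)) := by
      simp [Lagrange.nodal, Polynomial.map_prod]
    rw [map_mul, map_natCast, apply_ite b, map_one, map_zero, ← coeff_map,
      map_modByMonic b Lagrange.nodal_monic, hnod, Polynomial.map_mul, Polynomial.map_pow, map_X]
    refine residue_field _ ?_ _ (fun i => ?_) k hk
    · intro i l h
      simp only [← map_pow, uU] at h
      have h2 := ha (IsFractionRing.injective (Univ r j) (FractionRing (Univ r j)) h)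
      by_contra hne
      have h3 := congrArg (MvPolynomial.eval (fun t : Fin (r + 1) => if t = i then (2 : ℤ) else 1)) h2
      have : (1 : ℤ) < 2 ^ j := one_lt_pow₀ (by norm_num) (by omega)
      simp [Ne.symm hne] at h3
      omega
    · rw [← map_bigH, eval_map_apply, eval_map_apply, ← map_mul, ← eval_mul]
      obtain ⟨q, hq⟩ := hWU
      rw [sub_eq_iff_eq_add] at hq
      rw [hq, eval_add, eval_mul, ← Lagrange.nodal, Lagrange.eval_nodal_at_node (mem_univ i),
        zero_mul, zero_add, eval_one, map_one]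
  -- transport
  have hSunit : ∀ i, IsUnit ((bigH j u).eval (u i)) := by
    intro i
    obtain ⟨q, hq⟩ := hW
    refine IsUnit.of_mul_eq_one (W.eval (u i)) ?_
    have h := congrArg (eval (u i)) hq
    rw [eval_sub, eval_mul, eval_mul, Lagrange.eval_nodal_at_node (mem_univ i), zero_mul, eval_one,
      sub_eq_zero] at h
    exact h
  let g0 : MvPolynomial (Fin (r + 1)) ℤ →+* S := MvPolynomial.eval₂Hom (Int.castRingHom S) u
  have hg0 : IsUnit (g0 (univD r j)) := by
    unfold univD
    rw [map_prod, IsUnit.prod_univ_iff]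
    intro i
    rw [← eval_map_apply, map_bigH]
    simpa [g0] using hSunit i
  let g : Univ r j →+* S := IsLocalization.Away.lift (univD r j) hg0
  have hgu : (fun i => g (uU i)) = u := by
    funext i
    simp [g, uU, a, g0]
  have hnodS : (Lagrange.nodal univ uU).map g = Lagrange.nodal univ u := by
    rw [← hgu]; simp [Lagrange.nodal, Polynomial.map_prod]
  have hWmap : Lagrange.nodal univ u ∣ bigH j u * WU.map g - 1 := by
    have h := Polynomial.map_dvd g hWU
    rw [← Lagrange.nodal, hnodS, Polynomial.map_sub, Polynomial.map_mul, map_bigH, hgu,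
      Polynomial.map_one] at h
    exact h
  have hdiff : Lagrange.nodal univ u ∣ W - WU.map g := by
    have h := dvd_sub (hW.mul_left (WU.map g)) (hWmap.mul_left W)
    convert h using 1
    ring
  have hmod : (X ^ (j * k + (j - 1)) * W) %ₘ Lagrange.nodal univ u =
      ((X ^ (j * k + (j - 1)) * WU) %ₘ Lagrange.nodal univ uU).map g := by
    rw [map_modByMonic g Lagrange.nodal_monic, hnodS, Polynomial.map_mul, Polynomial.map_pow, map_X]
    refine modByMonic_eq_of_dvd_sub Lagrange.nodal_monic ?_
    rw [← mul_sub]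
    exact hdiff.mul_left _
  rw [hmod, coeff_map, ← map_natCast g, ← map_mul, hU, apply_ite g, map_one, map_zero]

end Groth.Agent.H22Alg.LamRes
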