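import Groth.Agent.H22Alg.LamCore
import Groth.Agent.H22Alg.LamDet
import Groth.Agent.H22Alg.LamRes
import Groth.Agent.H22Alg.LamExtFil
import Groth.Agent.S3291
import Mathlib.RingTheory.Localization.BaseChange
import Mathlib.RingTheory.TensorProduct.Maps
import Mathlib.RingTheory.Flat.Localization

/-! Adams–Riemann–Roch for an elementary projection of λ-rings. -/

universe u

open Finset LambdaRing TensorProduct

noncomputable section

namespace Groth.Agent.H22Alg.LamRR

open Groth.Agent.H27Lambda (binSer)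

open Groth.Agent.H27Lambda in
/-- λ^i(y) = v^i λ^i(y / v) for a line element v. -/
lemma lam_mul_inv_line {A : Type u} [CommRing A] [LambdaOps A] (P : PosStructure A)
    (hA : HasSplitting A P) {v w : A} (hv : P.IsLine v) (hw : w * v = 1) (y : A) (i : ℕ) :
    LambdaOps.lam i (y * w) = w ^ i * LambdaOps.lam i y := by
  have hlam : ∀ z : A, lamSeries (z * v) = PowerSeries.rescale v (lamSeries z) := by
    intro z
    obtain ⟨L, _, _, Q, f, hf, hr⟩ := exists_line_model hA [z]
    obtain ⟨q, hq⟩ := hr z (by simp)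
    apply PowerSeries.map_injective _ hf.injective
    rw [map_lamSeries hf.isLambdaHom, ← PowerSeries.rescale_map, map_lamSeries hf.isLambdaHom, map_mul]
    have hv' := IsExtension.isLine hf hv
    rw [← hq]
    have hcl := LamDet.lineEval_mem_closure Q q
    generalize lineEval Q q = a at hcl ⊢
    induction hcl using AddSubgroup.closure_induction with
    | mem a ha =>
      rw [lamSeries_of_linear (lam_eq_zero_of_line (isLine_mul ha hv')),
        lamSeries_of_linear (lam_eq_zero_of_line ha), map_add, map_mul, map_one,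
        map_mul, PowerSeries.rescale_X, show PowerSeries.rescale (f v) (PowerSeries.C a) = PowerSeries.C a by
          ext n; rw [PowerSeries.coeff_rescale]; cases n <;> simp [PowerSeries.coeff_C],
        ← mul_assoc]
    | zero => rw [zero_mul, lamSeries_zero, map_one]
    | add a b _ _ iha ihb => rw [add_mul, lamSeries_add, lamSeries_add, map_mul, iha, ihb]
    | neg a _ iha =>
      apply (isUnit_lamSeries (a * f v)).mul_left_cancel
      conv_rhs => rw [iha, ← map_mul, ← lamSeries_add, add_neg_cancel, lamSeries_zero, map_one]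
      rw [← lamSeries_add, ← add_mul, add_neg_cancel, zero_mul, lamSeries_zero]
  have h := congrArg (PowerSeries.coeff i) (hlam (y * w))
  rw [mul_assoc, hw, mul_one, PowerSeries.coeff_rescale, coeff_lamSeries, coeff_lamSeries] at h
  rw [h, ← mul_assoc, ← mul_pow, hw, one_pow, one_mul]

/-- Bott's polynomial evaluated on elementary symmetric functions. -/
lemma aeval_bottPoly {B : Type*} [CommRing B] (j m : ℕ) (v : Fin m → B) :
    MvPolynomial.aeval (fun i : Fin m => ((univ : Finset (Fin m)).val.map v).esymm (i.1 + 1))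
      (KRR.bottPoly j m) = ∏ i, ∑ k ∈ range j, v i ^ k := by
  have h : MvPolynomial.aeval (fun i : Fin m => MvPolynomial.esymm (Fin m) ℤ (i + 1))
      (KRR.bottPoly j m) = KRR.bottSym j m := by
    rw [← MvPolynomial.esymmAlgHom_apply, KRR.bottPoly]
    exact congrArg Subtype.val ((MvPolynomial.esymmAlgEquiv (Fin m) ℤ (Fintype.card_fin _)).apply_symm_apply _)
  rw [show (∏ i, ∑ k ∈ range j, v i ^ k) = MvPolynomial.aeval v (KRR.bottSym j m) by simp [KRR.bottSym],
    ← h, ← AlgHom.comp_apply, MvPolynomial.comp_aeval]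
  congr 2
  funext i
  rw [MvPolynomial.aeval_esymm_eq_multiset_esymm]

lemma esymm_mul {B : Type*} [CommRing B] {m : ℕ} (v : Fin m → B) (c : B) (k : ℕ) :
    ((univ : Finset (Fin m)).val.map fun i => v i * c).esymm k =
      c ^ k * ((univ : Finset (Fin m)).val.map v).esymm k := by
  rw [← MvPolynomial.aeval_esymm_eq_multiset_esymm (Fin m) ℤ, ← MvPolynomial.aeval_esymm_eq_multiset_esymm (Fin m) ℤ]
  simp only [MvPolynomial.esymm, map_sum, map_prod, MvPolynomial.aeval_X, mul_sum]
  refine sum_congr rfl fun s hs => ?_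
  rw [prod_mul_distrib, prod_const, (mem_powersetCard.1 hs).2]
  ring

variable {K : Type u} [CommRing K] [LambdaOps K] {P : PosStructure K} {e : K} {r : ℕ}

/-- Every element is a combination of ℓ^(-n), n ≤ r. -/
lemma exists_linv_rep (hm : (P.aug e).toNat = r + 1) {linv : AdjoinRoot (KRR.extPoly P e)}
    (hlinv : linv * AdjoinRoot.root (KRR.extPoly P e) = 1) (x : AdjoinRoot (KRR.extPoly P e)) :
    ∃ a : ℕ → K, x = ∑ n ∈ range (r + 1), AdjoinRoot.of (KRR.extPoly P e) (a n) * linv ^ n := by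
  obtain ⟨g, hg, hgz⟩ := LamCore.exists_rep hm (x * AdjoinRoot.root (KRR.extPoly P e) ^ r)
  have hn : g.natDegree < r + 1 := by
    rcases eq_or_ne g 0 with rfl | h0
    · simp
    · exact (Polynomial.natDegree_lt_iff_degree_lt h0).2 hg
  refine ⟨fun n => g.coeff (r - n), ?_⟩
  have hx : x = linv ^ r * (x * AdjoinRoot.root (KRR.extPoly P e) ^ r) := by
    rw [mul_left_comm, ← mul_pow, hlinv, one_pow, mul_one]
  conv_lhs => rw [hx, ← hgz, g.as_sum_range_C_mul_X_pow' hn, map_sum, mul_sum]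
  conv_rhs => rw [← sum_range_reflect]
  refine sum_congr rfl fun i hi => ?_
  have hi' : i ≤ r := Nat.lt_succ_iff.1 (mem_range.1 hi)
  simp only [Nat.add_sub_cancel, map_mul, AdjoinRoot.mk_C, map_pow, AdjoinRoot.mk_X]
  rw [Nat.sub_sub_self hi']
  have hp : linv ^ r * AdjoinRoot.root (KRR.extPoly P e) ^ i = linv ^ (r - i) := by
    conv_lhs => rw [← Nat.sub_add_cancel hi', pow_add, mul_assoc, ← mul_pow, hlinv, one_pow, mul_one]
  linear_combination (AdjoinRoot.of (KRR.extPoly P e) (g.coeff i)) * hp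

open Polynomial in
lemma extPoly_map_eq {B : Type*} [CommRing B] (φ : K →+* B) (u : Fin (r + 1) → B)
    (hm : (P.aug e).toNat = r + 1)
    (hu : ∀ i, φ (LambdaOps.lam i e) = ((univ : Finset (Fin (r + 1))).val.map u).esymm i) :
    (KRR.extPoly P e).map φ = Lagrange.nodal univ u := by
  have h : Lagrange.nodal univ u = (((univ : Finset (Fin (r + 1))).val.map u).map fun t => X - C t).prod := by
    rw [Lagrange.nodal, Finset.prod_eq_multiset_prod, Multiset.map_map]; rfl
  rw [h, Multiset.prod_X_sub_X_eq_sum_esymm, LamCore.extPoly_eq hm, Polynomial.map_sum]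
  simp only [Multiset.card_map, Finset.card_val, Finset.card_univ, Fintype.card_fin]
  refine sum_congr rfl fun i _ => ?_
  simp [hu]
  ring

lemma aug_lam (hK : HasSplitting K P) (x : K) (i : ℕ) :
    P.aug (LambdaOps.lam i x) = Ring.choose (P.aug x) i := by
  have h := congrArg (PowerSeries.coeff i) (H27Lambda.lamSeries_aug P hK x)
  rw [PowerSeries.coeff_map, H27Lambda.coeff_lamSeries] at h
  simpa [binSer] using h

lemma aug_bott (hK : HasSplitting K P) (j : ℕ) {y : K} (hy : 0 ≤ P.aug y) :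
    P.aug (KRR.bott P j y) = (j : ℤ) ^ (P.aug y).toNat := by
  obtain ⟨m, hm⟩ : ∃ m : ℕ, P.aug y = m := ⟨(P.aug y).toNat, (Int.toNat_of_nonneg hy).symm⟩
  rw [KRR.bott, H27Lambda.aeval_int_map P.aug]
  have key : ∀ m' : ℕ, m' = m →
      MvPolynomial.aeval (fun i : Fin m' => P.aug (LambdaOps.lam (i.1 + 1) y)) (KRR.bottPoly j m') =
        (j : ℤ) ^ m' := by
    intro m' hm'
    subst hm'
    have h := aeval_bottPoly j m' (fun _ : Fin m' => (1 : ℤ))
    simp only [one_pow, sum_const, card_range, nsmul_eq_mul, mul_one, prod_const, Finset.card_univ,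
      Fintype.card_fin] at h
    rw [← h]
    congr 2
    funext i
    rw [aug_lam hK, hm, Ring.choose_natCast, ← MvPolynomial.aeval_esymm_eq_multiset_esymm (Fin m') ℤ]
    simp [MvPolynomial.esymm, Finset.card_powersetCard]
  exact key _ (by rw [hm, Int.toNat_natCast])

lemma pow_mem_fil {A : Type u} [CommRing A] [LambdaOps A] (Q : PosStructure A) {y : A}
    (hy : Q.aug y = 0) (n : ℕ) : y ^ n ∈ gammaFiltration Q n := by
  rw [H27Lambda.gammaFiltration_eq]
  have h := H27Lambda.gammaFil_pow_mem Q.aug (H27Lambda.gamma_mem_gammaFil Q.aug 1 hy) n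
  rwa [H27Lambda.gamma_one, mul_one] at h

lemma isUnit_one_tmul_bott {A : Type u} [CommRing A] [LambdaOps A] (Q : PosStructure A)
    (hA : HasSplitting A Q) {N : ℕ} (hN : gammaFiltration Q N = ⊥) (R : Type) [CommRing R] (j : ℕ)
    (hju : IsUnit (j : R)) {y : A} (hy : 0 ≤ Q.aug y) :
    IsUnit ((1 : R) ⊗ₜ[ℤ] KRR.bott Q j y) := by
  have hnil : IsNilpotent (KRR.bott Q j y - (((j : ℕ) : A) ^ (Q.aug y).toNat)) := by
    refine ⟨N, ?_⟩
    have := pow_mem_fil Q (y := KRR.bott Q j y - (((j : ℕ) : A) ^ (Q.aug y).toNat))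
      (by rw [map_sub, map_pow, map_natCast, aug_bott hA j hy, sub_self]) N
    rwa [hN, AddSubgroup.mem_bot] at this
  let ι : A →+* TensorProduct ℤ R A :=
    (Algebra.TensorProduct.includeRight : A →ₐ[ℤ] TensorProduct ℤ R A).toRingHom
  show IsUnit (ι (KRR.bott Q j y))
  have hj : IsUnit (ι ((((j : ℕ) : A)) ^ (Q.aug y).toNat)) := by
    rw [map_pow, map_natCast]
    refine IsUnit.pow _ ?_
    rw [← map_natCast (algebraMap R (TensorProduct ℤ R A))]
    exact IsUnit.map _ hju
  have h := (hnil.map ι).isUnit_add_left_of_commute hj (Commute.all _ _)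
  rwa [← map_add, add_sub_cancel] at h

section Main

variable (R : Type) [CommRing R] [Module.Flat ℤ R]

variable [LambdaOps (AdjoinRoot (KRR.extPoly P e))]
  (Pe : PosStructure (AdjoinRoot (KRR.extPoly P e)))

local notation "A" => AdjoinRoot (KRR.extPoly P e)
local notation "ι" => AdjoinRoot.of (KRR.extPoly P e)
local notation "ℓ" => AdjoinRoot.root (KRR.extPoly P e)

/-- The key identity: f of the twisted ψ^j of ℓ^(-n). -/
lemma functional_value (hK : HasSplitting K P) (he : e ∈ P.pos) (hr : P.aug e = r + 1)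
    (hext : IsExtension P Pe (ι)) (hline : Pe.IsLine ℓ)
    (hA : HasSplitting (AdjoinRoot (KRR.extPoly P e)) Pe)
    (f : AdjoinRoot (KRR.extPoly P e) →ₗ[K] K)
    (hf : ∀ i : ℕ, i ≤ r → f (AdjoinRoot.root (KRR.extPoly P e) ^ i) = KRR.sigma i e)
    (linv : AdjoinRoot (KRR.extPoly P e)) (hlinv : linv * ℓ = 1) (j : ℕ) (hj : 1 ≤ j)
    (w : TensorProduct ℤ R (AdjoinRoot (KRR.extPoly P e)))
    (hw : w * ((1 : R) ⊗ₜ[ℤ] KRR.bott Pe j (ι e * linv)) = 1)
    (n : ℕ) (hn : n ≤ r) :
    LinearMap.lTensor R f.toAddMonoidHom.toIntLinearMap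
      ((j : TensorProduct ℤ R (AdjoinRoot (KRR.extPoly P e))) * w *
        ((1 : R) ⊗ₜ[ℤ] (linv ^ (j * n)))) =
      (1 : R) ⊗ₜ[ℤ] (if n = 0 then (1 : K) else 0) := by
  classical
  have hm : (P.aug e).toNat = r + 1 := by rw [hr]; omega
  -- the splitting
  obtain ⟨L, _, _, Q, φ, hφ, hs⟩ := H27Lambda.exists_split hK [e] (by simp [he])
  obtain ⟨s, hs1, hs2⟩ := hs e (by simp)
  obtain ⟨lst, rfl⟩ := Quot.exists_rep s
  have hlen : lst.length = r + 1 := by
    have h : Q.aug (φ e) = (lst.length : ℤ) := by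
      rw [← hs2, H27Lambda.aug_sum_lines hs1]; rfl
    rw [hφ.aug_comp, hr] at h
    omega
  let u0 : Fin (r + 1) → L := fun i => lst.get (i.cast hlen.symm)
  have hu0 : ((univ : Finset (Fin (r + 1))).val.map u0 : Multiset L) = (lst : Multiset L) := by
    show ((List.finRange (r + 1)).map u0 : Multiset L) = _
    congr 1
    apply List.ext_getElem
    · simp [hlen]
    · intro i h1 h2
      simp [u0]
  have hlam : ∀ i, φ (LambdaOps.lam i e) = ((univ : Finset (Fin (r + 1))).val.map u0).esymm i := by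
    intro i
    rw [hφ.isLambdaHom, ← hs2, hu0]
    exact H27Lambda.lam_sum_lines hs1 i
  -- the base change to R ⊗ L
  let S := TensorProduct ℤ R L
  let toS : K →+* S :=
    ((Algebra.TensorProduct.includeRight : L →ₐ[ℤ] S).toRingHom).comp φ
  let u : Fin (r + 1) → S := fun i => (1 : R) ⊗ₜ[ℤ] u0 i
  have hlamS : ∀ i, toS (LambdaOps.lam i e) = ((univ : Finset (Fin (r + 1))).val.map u).esymm i := by
    intro i
    show (Algebra.TensorProduct.includeRight : L →ₐ[ℤ] S) (φ (LambdaOps.lam i e)) = _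
    rw [hlam, ← MvPolynomial.aeval_esymm_eq_multiset_esymm (Fin (r + 1)) ℤ,
      ← MvPolynomial.aeval_esymm_eq_multiset_esymm (Fin (r + 1)) ℤ, ← AlgHom.comp_apply,
      MvPolynomial.comp_aeval]
    rfl
  set PS : Polynomial S := Lagrange.nodal univ u with hPS
  have hmap : (KRR.extPoly P e).map toS = PS := extPoly_map_eq toS u hm hlamS
  have hPSm : PS.Monic := Lagrange.nodal_monic
  -- A → S[T]/PS
  let toB : A →+* AdjoinRoot PS := AdjoinRoot.lift ((AdjoinRoot.of PS).comp toS) (AdjoinRoot.root PS)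
    (by rw [← Polynomial.eval₂_map, hmap]; exact AdjoinRoot.eval₂_root PS)
  letI : Algebra ℤ (AdjoinRoot PS) := Ring.toIntAlgebra (AdjoinRoot PS)
  haveI : IsScalarTower ℤ ℤ (AdjoinRoot PS) := IsScalarTower.left ℤ
  let Φ : TensorProduct ℤ R A →ₐ[ℤ] AdjoinRoot PS :=
    Algebra.TensorProduct.lift
      ((AdjoinRoot.of PS).comp ((Algebra.TensorProduct.includeLeft : R →ₐ[ℤ] S).toRingHom)).toIntAlgHom
      toB.toIntAlgHom (fun _ _ => Commute.all _ _)
  have hΦ : ∀ (q : R) (z : A), Φ (q ⊗ₜ z) = AdjoinRoot.of PS (q ⊗ₜ 1) * toB z := fun q z => by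
    simp [Φ]; rfl
  have hΦ1 : ∀ z : A, Φ ((1 : R) ⊗ₜ z) = toB z := fun z => by
    rw [hΦ]; simp [← Algebra.TensorProduct.one_def]
  -- the functional
  let c : AdjoinRoot PS →ₗ[S] S :=
    ((Polynomial.lcoeff S r).comp (AdjoinRoot.modByMonicHom hPSm)).comp
      (LinearMap.mulLeft S (AdjoinRoot.root PS ^ r))
  have hc : ∀ g : Polynomial S, c (AdjoinRoot.mk PS g) = ((Polynomial.X ^ r * g) %ₘ PS).coeff r := by
    intro g
    show (AdjoinRoot.modByMonicHom hPSm (AdjoinRoot.root PS ^ r * AdjoinRoot.mk PS g)).coeff r = _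
    rw [← AdjoinRoot.mk_X, ← map_pow, ← map_mul, AdjoinRoot.modByMonicHom_mk]
  have hcmul : ∀ (a : S) (z : AdjoinRoot PS), c (AdjoinRoot.of PS a * z) = a * c z := by
    intro a z
    rw [← AdjoinRoot.algebraMap_eq, ← Algebra.smul_def, map_smul, smul_eq_mul]
  have hℓ : toB ℓ = AdjoinRoot.root PS := AdjoinRoot.lift_root _
  have hof : ∀ a, toB (ι a) = AdjoinRoot.of PS (toS a) := fun a => AdjoinRoot.lift_of _
  have hinvB : toB linv * AdjoinRoot.root PS = 1 := by rw [← hℓ, ← map_mul, hlinv, map_one]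
  have hneg : ∀ a b : ℕ, b ≤ a → AdjoinRoot.root PS ^ a * toB linv ^ b = AdjoinRoot.root PS ^ (a - b) := by
    intro a b hab
    conv_lhs => rw [← Nat.sub_add_cancel hab, pow_add, mul_assoc, ← mul_pow, mul_comm (AdjoinRoot.root PS), hinvB, one_pow, mul_one]
  have hnatdeg : ∀ [Nontrivial S], PS.natDegree = r + 1 := by
    intro _
    rw [hPS, Lagrange.natDegree_nodal]; simp
  have hcpow : ∀ t ≤ r, c (toB linv ^ t) = if t = 0 then 1 else 0 := by
    intro t ht
    rcases subsingleton_or_nontrivial S with hS | hS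
    · exact Subsingleton.elim _ _
    show (AdjoinRoot.modByMonicHom hPSm (AdjoinRoot.root PS ^ r * toB linv ^ t)).coeff r = _
    rw [hneg r t ht, ← AdjoinRoot.mk_X, ← map_pow, AdjoinRoot.modByMonicHom_mk,
      (Polynomial.modByMonic_eq_self_iff hPSm).2 (by
        rw [Polynomial.degree_eq_natDegree hPSm.ne_zero, hnatdeg, Polynomial.degree_X_pow]
        exact_mod_cast show r - t < r + 1 by omega),
      Polynomial.coeff_X_pow]
    split_ifs with h h' h' <;> first | rfl | omega
  have hfl : ∀ t ≤ r, f (linv ^ t) = if t = 0 then 1 else 0 := by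
    intro t ht
    rcases Nat.eq_zero_or_pos t with rfl | h
    · simpa [LamCore.sigma_zero] using hf 0 (Nat.zero_le _)
    · rw [if_neg (by omega)]
      exact LamCore.map_linv_pow he hm hf hlinv t h ht
  -- compare the functional with f
  have hcomp : ∀ z : A, c (toB z) = toS (f z) := by
    intro z
    obtain ⟨a, rfl⟩ := exists_linv_rep hm hlinv z
    simp only [map_sum, map_mul, map_pow, hof, hcmul, LamCore.map_of_mul]
    refine sum_congr rfl fun t ht => ?_
    have ht' : t ≤ r := Nat.lt_succ_iff.1 (mem_range.1 ht)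
    rw [hcpow t ht', hfl t ht']
    split_ifs <;> simp
  -- R ⊗ K → R ⊗ L is injective
  let g : TensorProduct ℤ R K →ₗ[ℤ] S := LinearMap.lTensor R φ.toAddMonoidHom.toIntLinearMap
  have hg : Function.Injective g := by
    exact Module.Flat.lTensor_preserves_injective_linearMap _ hφ.injective
  have hgc : ∀ y : TensorProduct ℤ R A,
      g (LinearMap.lTensor R f.toAddMonoidHom.toIntLinearMap y) = c (Φ y) := by
    intro y
    induction y using TensorProduct.induction_on with
    | zero => simp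
    | add a b ha hb => simp [map_add, ha, hb]
    | tmul q z =>
      rw [hΦ, hcmul, hcomp]
      show q ⊗ₜ[ℤ] φ (f z) = q ⊗ₜ[ℤ] (1 : L) * ((1 : R) ⊗ₜ[ℤ] φ (f z))
      rw [Algebra.TensorProduct.tmul_mul_tmul, mul_one, one_mul]
  apply hg
  rw [hgc, map_mul Φ, map_mul Φ, map_natCast Φ, hΦ1, map_pow]
  show c (_ * _ * toB linv ^ (j * n)) = (1 : R) ⊗ₜ[ℤ] φ (if n = 0 then (1 : K) else 0)
  -- the image of θ
  have haug : Pe.aug (ι e * linv) = r + 1 := by
    have h1 : Pe.aug linv = 1 := by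
      have h := congrArg Pe.aug hlinv
      rwa [map_mul, hline.2, mul_one, map_one] at h
    rw [map_mul, hext.aug_comp, h1, mul_one, hr]
  have hθ : toB (KRR.bott Pe j (ι e * linv)) = ∏ i, ∑ k ∈ range j, (AdjoinRoot.of PS (u i) * toB linv) ^ k := by
    rw [KRR.bott, H27Lambda.aeval_int_map toB]
    have key : ∀ m' : ℕ, m' = r + 1 →
        MvPolynomial.aeval (fun i : Fin m' => toB (LambdaOps.lam (i.1 + 1) (ι e * linv))) (KRR.bottPoly j m') =
          ∏ i, ∑ k ∈ range j, (AdjoinRoot.of PS (u i) * toB linv) ^ k := by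
      rintro _ rfl
      rw [← aeval_bottPoly j (r + 1) (fun i => AdjoinRoot.of PS (u i) * toB linv)]
      congr 2
      funext i
      rw [lam_mul_inv_line Pe hA hline hlinv, map_mul, map_pow, ← hext.isLambdaHom, hof, hlamS,
        esymm_mul]
      congr 1
      rw [← MvPolynomial.aeval_esymm_eq_multiset_esymm (Fin (r + 1)) ℤ,
        ← MvPolynomial.aeval_esymm_eq_multiset_esymm (Fin (r + 1)) ℤ]
      exact H27Lambda.aeval_int_map (AdjoinRoot.of PS) _ _
    exact key _ (by rw [haug]; omega)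
  -- H(ℓ) = ℓ^((r+1)(j-1)) θ
  have hH : AdjoinRoot.mk PS (LamRes.bigH j u) =
      AdjoinRoot.root PS ^ ((r + 1) * (j - 1)) * toB (KRR.bott Pe j (ι e * linv)) := by
    rw [hθ, mul_comm (r + 1), pow_mul, show (AdjoinRoot.root PS ^ (j - 1)) ^ (r + 1) =
        ∏ _i : Fin (r + 1), AdjoinRoot.root PS ^ (j - 1) by simp,
      ← prod_mul_distrib, LamRes.bigH, map_prod]
    refine prod_congr rfl fun i _ => ?_
    rw [LamRes.hPoly, map_sum, mul_sum, ← sum_range_reflect]
    refine sum_congr rfl fun k hk => ?_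
    have hk' : k ≤ j - 1 := by have := mem_range.1 hk; omega
    rw [map_mul, map_pow, AdjoinRoot.mk_X, AdjoinRoot.mk_C, Nat.sub_sub_self hk', map_pow, mul_pow,
      mul_left_comm, hneg (j - 1) k hk', mul_comm]
  have hθw : Φ w * toB (KRR.bott Pe j (ι e * linv)) = 1 := by
    rw [← hΦ1, ← map_mul, hw, map_one]
  obtain ⟨W, hW⟩ := AdjoinRoot.mk_surjective (toB linv ^ ((r + 1) * (j - 1)) * Φ w)
  have hWdvd : PS ∣ LamRes.bigH j u * W - 1 := by
    rw [← AdjoinRoot.mk_eq_zero, map_sub, map_mul, hH, hW, map_one,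
      show AdjoinRoot.root PS ^ ((r + 1) * (j - 1)) * toB (KRR.bott Pe j (ι e * linv)) *
          (toB linv ^ ((r + 1) * (j - 1)) * Φ w) =
        (toB linv * AdjoinRoot.root PS) ^ ((r + 1) * (j - 1)) *
          (Φ w * toB (KRR.bott Pe j (ι e * linv))) by ring,
      hinvB, one_pow, hθw, one_mul, sub_self]
  have hΦw : Φ w = AdjoinRoot.root PS ^ ((r + 1) * (j - 1)) * AdjoinRoot.mk PS W := by
    rw [hW, ← mul_assoc, ← mul_pow, mul_comm (AdjoinRoot.root PS), hinvB, one_pow, one_mul]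
  have hres := LamRes.residue hj u W hWdvd (r - n) (Nat.sub_le _ _)
  rw [← hPS] at hres
  have hexp : AdjoinRoot.root PS ^ r * (AdjoinRoot.root PS ^ ((r + 1) * (j - 1)) * toB linv ^ (j * n)) =
      AdjoinRoot.root PS ^ (j * (r - n) + (j - 1)) := by
    have hle : j * n ≤ r + (r + 1) * (j - 1) := by
      obtain ⟨j, rfl⟩ : ∃ i, j = i + 1 := ⟨j - 1, by omega⟩
      simp only [Nat.add_sub_cancel]
      nlinarith
    rw [← mul_assoc, ← pow_add, hneg _ _ hle]
    congr 1
    obtain ⟨d, rfl⟩ : ∃ d, r = n + d := ⟨r - n, by omega⟩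
    obtain ⟨j, rfl⟩ : ∃ i, j = i + 1 := ⟨j - 1, by omega⟩
    simp only [Nat.add_sub_cancel, Nat.add_sub_cancel_left] at hle ⊢
    rw [Nat.sub_eq_iff_eq_add hle]
    ring
  rw [mul_assoc, ← map_natCast (AdjoinRoot.of PS), hcmul]
  show (j : S) * (AdjoinRoot.modByMonicHom hPSm
    (AdjoinRoot.root PS ^ r * (Φ w * toB linv ^ (j * n)))).coeff r = _
  rw [hΦw, show AdjoinRoot.root PS ^ r * (AdjoinRoot.root PS ^ ((r + 1) * (j - 1)) * AdjoinRoot.mk PS W *
      toB linv ^ (j * n)) = (AdjoinRoot.root PS ^ r * (AdjoinRoot.root PS ^ ((r + 1) * (j - 1)) *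
        toB linv ^ (j * n))) * AdjoinRoot.mk PS W by ring,
    hexp, ← AdjoinRoot.mk_X, ← map_pow, ← map_mul, AdjoinRoot.modByMonicHom_mk, hres]
  rcases Nat.eq_zero_or_pos n with rfl | hn0
  · simp [Algebra.TensorProduct.one_def]; rfl
  · rw [if_neg (by omega), if_neg (by omega), map_zero, tmul_zero]

theorem main (hK : HasSplitting K P) (he : e ∈ P.pos) (hr : P.aug e = r + 1)
    (hext : IsExtension P Pe (ι)) (hline : Pe.IsLine ℓ)
    (hA : HasSplitting (AdjoinRoot (KRR.extPoly P e)) Pe) (N : ℕ) (hN : gammaFiltration Pe N = ⊥)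
    (f : AdjoinRoot (KRR.extPoly P e) →ₗ[K] K)
    (hf : ∀ i : ℕ, i ≤ r → f (AdjoinRoot.root (KRR.extPoly P e) ^ i) = KRR.sigma i e)
    (linv : AdjoinRoot (KRR.extPoly P e)) (hlinv : linv * ℓ = 1) (j : ℕ) (hj : 1 ≤ j)
    (hju : IsUnit (j : R)) :
    (∃ w : TensorProduct ℤ R A,
      w * ((1 : R) ⊗ₜ[ℤ] KRR.bott Pe j (ι e * linv)) = 1) ∧
    ∀ w : TensorProduct ℤ R A,
      w * ((1 : R) ⊗ₜ[ℤ] KRR.bott Pe j (ι e * linv)) = 1 →
      ∀ x : A, (1 : R) ⊗ₜ[ℤ] adams P j (f x) =
        LinearMap.lTensor R f.toAddMonoidHom.toIntLinearMap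
          ((j : TensorProduct ℤ R A) * w *
            ((1 : R) ⊗ₜ[ℤ] adams Pe j x)) := by
  have hm : (P.aug e).toNat = r + 1 := by rw [hr]; omega
  have haug : 0 ≤ Pe.aug (ι e * linv) := by
    have h1 : Pe.aug linv = 1 := by
      have h := congrArg Pe.aug hlinv
      rwa [map_mul, hline.2, mul_one, map_one] at h
    rw [map_mul, hext.aug_comp, h1, mul_one, hr]; omega
  refine ⟨?_, fun w hw x => ?_⟩
  · obtain ⟨v, hv⟩ := (isUnit_one_tmul_bott Pe hA hN R j hju haug).exists_left_inv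
    exact ⟨v, hv⟩
  let ψ := H27Lambda.adamsRingHom hA j
  let ψ0 := H27Lambda.adamsRingHom hK j
  have hψl : ψ linv = linv ^ j := by
    have h := congrArg ψ hlinv
    rw [map_mul, map_one, show ψ ℓ = ℓ ^ j from H27Lambda.adams_line Pe hline j] at h
    calc ψ linv = ψ linv * (linv * ℓ) ^ j := by rw [hlinv, one_pow, mul_one]
      _ = (ψ linv * ℓ ^ j) * linv ^ j := by ring
      _ = _ := by rw [h, one_mul]
  obtain ⟨a, rfl⟩ := exists_linv_rep hm hlinv x
  have hfl : ∀ t ≤ r, f (linv ^ t) = if t = 0 then 1 else 0 := by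
    intro t ht
    rcases Nat.eq_zero_or_pos t with rfl | h
    · simpa [LamCore.sigma_zero] using hf 0 (Nat.zero_le _)
    · rw [if_neg (by omega)]
      exact LamCore.map_linv_pow he hm hf hlinv t h ht
  show (1 : R) ⊗ₜ[ℤ] ψ0 (f _) = LinearMap.lTensor R _ (_ * w * ((1 : R) ⊗ₜ[ℤ] ψ _))
  simp only [map_sum, map_mul, map_pow, LamCore.map_of_mul, tmul_sum, mul_sum]
  refine sum_congr rfl fun n hn => ?_
  have hn' : n ≤ r := Nat.lt_succ_iff.1 (mem_range.1 hn)
  have hof : ψ (ι (a n)) = ι (ψ0 (a n)) :=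
    (H27Lambda.map_adams hext.isLambdaHom hext.aug_comp j (a n)).symm
  rw [hψl, hof, ← pow_mul, hfl n hn']
  have hlin : ∀ (b : K) (y : TensorProduct ℤ R A),
      LinearMap.lTensor R f.toAddMonoidHom.toIntLinearMap (((1 : R) ⊗ₜ[ℤ] ι b) * y) =
        ((1 : R) ⊗ₜ[ℤ] b) * LinearMap.lTensor R f.toAddMonoidHom.toIntLinearMap y := by
    intro b y
    induction y using TensorProduct.induction_on with
    | zero => simp
    | add p q hp hq => simp [mul_add, map_add, hp, hq]
    | tmul q z =>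
      rw [Algebra.TensorProduct.tmul_mul_tmul, LinearMap.lTensor_tmul, LinearMap.lTensor_tmul,
        Algebra.TensorProduct.tmul_mul_tmul]
      congr 1
      exact LamCore.map_of_mul f b z
  rw [show (j : TensorProduct ℤ R A) * w * ((1 : R) ⊗ₜ[ℤ] (ι (ψ0 (a n)) * linv ^ (j * n))) =
      ((1 : R) ⊗ₜ[ℤ] ι (ψ0 (a n))) * ((j : TensorProduct ℤ R A) * w * ((1 : R) ⊗ₜ[ℤ] (linv ^ (j * n)))) by
    rw [mul_left_comm, Algebra.TensorProduct.tmul_mul_tmul, one_mul],
    hlin, functional_value R Pe hK he hr hext hline hA f hf linv hlinv j hj w hw n hn',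
    Algebra.TensorProduct.tmul_mul_tmul, one_mul, apply_ite ψ0, map_one, map_zero]

end Main

end Groth.Agent.H22Alg.LamRR
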