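import Groth.Agent.H22Alg.KPushFil
import Mathlib.RingTheory.TensorProduct.Maps
import Mathlib.LinearAlgebra.TensorProduct.Tower
import Groth.Agent.H22Alg.LamRR
import Groth.Agent.H22Alg.KExists
import Groth.Agent.H22Alg.PB.Split
import Groth.Agent.S3762
import Groth.Agent.H11Proj.ProjSpace

/-! # Adams Riemann–Roch for the projection `P^n_Y ⟶ Y`. -/

set_option autoImplicit false
set_option linter.style.haveILetI false
set_option linter.unusedSectionVars false

universe w v u

open CategoryTheory CategoryTheory.Limits AlgebraicGeometry LambdaRing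
open scoped TensorProduct
attribute [local instance] HasDerivedCategory.standard

noncomputable section

namespace Groth.Agent.H22Alg.KAdamsPr

section Transfer

variable {K : Type v} [CommRing K] [LambdaOps K] {K' : Type w} [CommRing K'] [LambdaOps K']

/-- Adams operations are natural, also across universes. -/
theorem map_adams {P : PosStructure K} {P' : PosStructure K'} (f : K →+* K')
    (hf : ∀ (i : ℕ) (x : K), f (LambdaOps.lam i x) = LambdaOps.lam i (f x))
    (ha : ∀ x, P'.aug (f x) = P.aug x) (j : ℕ) (x : K) : f (adams P j x) = adams P' j (f x) := by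
  have hser : ∀ g : PowerSeries K, PowerSeries.constantCoeff g = 1 →
      PowerSeries.map f (g.invOfUnit 1) = (PowerSeries.map f g).invOfUnit 1 := fun g hg => by
    rw [H27Lambda.invOfUnit_one_eq (f := PowerSeries.map f g) (g := PowerSeries.map f (g.invOfUnit 1))
      (by rw [← PowerSeries.coeff_zero_eq_constantCoeff_apply, PowerSeries.coeff_map,
        PowerSeries.coeff_zero_eq_constantCoeff_apply, hg, map_one])
      (by rw [← map_mul, PowerSeries.mul_invOfUnit _ _ (by simpa using hg), map_one])]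
  have hd : ∀ g : PowerSeries K, PowerSeries.map f (PowerSeries.derivative K g) =
      PowerSeries.derivative K' (PowerSeries.map f g) := fun g => by
    ext n; simp [PowerSeries.coeff_derivative]
  have hl : PowerSeries.map f (lamSeries x) = lamSeries (f x) := by
    ext n; simp [H27Lambda.coeff_lamSeries, hf n x]
  rw [adams, adams, ← PowerSeries.coeff_map, adamsSeries, adamsSeries]
  congr 1
  rw [map_sub, map_mul, map_mul, PowerSeries.map_C, PowerSeries.map_X, map_intCast, ha,
    hser _ (by rw [H27Lambda.constantCoeff_rescale, H27Lambda.constantCoeff_lamSeries]), hd,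
    ← PowerSeries.rescale_map, map_neg, map_one, hl]

variable {X : Scheme.{u}} [IsNoetherian X] [ConnectedSpace ↥X] {P : PosStructure K} {φ : SGA6.Kvb X →+ K}
  (hK : KRR.IsModel X K P φ)

include hK

/-- The Adams operations of a model are multiplicative. -/
theorem adams_mul_model (j : ℕ) (x y : K) : adams P j (x * y) = adams P j x * adams P j y := by
  obtain ⟨K', _, _, P', φ', hK'⟩ := KExists.exists_model (X := X)
  let e : K ≃+ K' := (AddEquiv.ofBijective φ hK.bijective).symm.trans (AddEquiv.ofBijective φ' hK'.bijective)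
  have he : ∀ a, e (φ a) = φ' a := fun a => by
    show φ' ((AddEquiv.ofBijective φ hK.bijective).symm (AddEquiv.ofBijective φ hK.bijective a)) = φ' a
    rw [AddEquiv.symm_apply_apply]
  have hecl : ∀ E, FlatMod.IsFinLocFree E → e (φ (KRR.cl X E)) = φ' (KRR.cl X E) := fun E _ => he _
  have hmul : ∀ a b, e (a * b) = e a * e b := by
    intro a b
    obtain ⟨a₀, rfl⟩ := hK.bijective.2 a
    obtain ⟨b₀, rfl⟩ := hK.bijective.2 b
    have key : ∀ F : X.Modules, FlatMod.IsFinLocFree F →
        e.toAddMonoidHom.comp ((AddMonoidHom.mulRight (φ (KRR.cl X F))).comp φ) =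
          (AddMonoidHom.mulRight (φ' (KRR.cl X F))).comp φ' := fun F hF => KModel.kvb_ext fun E hE => by
      show e (φ (KRR.cl X E) * φ (KRR.cl X F)) = φ' (KRR.cl X E) * φ' (KRR.cl X F)
      rw [hK.map_mul E F hE hF, he, hK'.map_mul E F hE hF]
    have key2 : e.toAddMonoidHom.comp ((AddMonoidHom.mulLeft (φ a₀)).comp φ) =
        (AddMonoidHom.mulLeft (φ' a₀)).comp φ' := KModel.kvb_ext fun F hF => DFunLike.congr_fun (key F hF) a₀
    show e (φ a₀ * φ b₀) = e (φ a₀) * e (φ b₀)
    rw [he, he]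
    exact DFunLike.congr_fun key2 b₀
  let f : K →+* K' := RingEquiv.toRingHom { e with map_mul' := hmul }
  have haug : ∀ a, P'.aug (f a) = P.aug a := fun a => by
    obtain ⟨b, c, hb, hc, rfl⟩ := P.exists_sub a
    have key : ∀ b ∈ P.pos, P'.aug (f b) = P.aug b := fun b hb => by
      obtain ⟨n, E, -, hE, rfl⟩ := (hK.mem_pos_iff b).1 hb
      show P'.aug (e (φ (KRR.cl X E))) = _
      rw [he, hK.aug_cl n E hE, hK'.aug_cl n E hE]
    rw [map_sub, map_sub, map_sub, key b hb, key c hc]
  have hlam : ∀ (i : ℕ) (a : K), f (LambdaOps.lam i a) = LambdaOps.lam i (f a) := by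
    intro i a
    have hpos : ∀ b ∈ P.pos, PowerSeries.map f (lamSeries b) = lamSeries (f b) := fun b hb => by
      obtain ⟨n, E, -, hE', rfl⟩ := (hK.mem_pos_iff b).1 hb
      have hE := KModel.finLocFree_of_rank hE'
      refine PowerSeries.ext fun k => ?_
      obtain ⟨L, hL⟩ := ExtPowSheaf.exists_isExtPow k (H8Props.FinLocFree.isQCoh_of_isFinLocFree _ hE)
      have hLf := ExtPowHom.finLocFree_of_isExtPow hE hL
      rw [PowerSeries.coeff_map, H27Lambda.coeff_lamSeries, H27Lambda.coeff_lamSeries, hK.map_lam k E L hE hLf hL]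
      show e (φ (KRR.cl X L)) = LambdaOps.lam k (e (φ (KRR.cl X E)))
      rw [he, he, hK'.map_lam k E L hE hLf hL]
    obtain ⟨b, c, hb, hc, rfl⟩ := P.exists_sub a
    have h : PowerSeries.map f (lamSeries (b - c)) = lamSeries (f (b - c)) := by
      apply (H27Lambda.isUnit_lamSeries (f c)).mul_right_cancel
      conv_lhs => rw [← hpos c hc, ← map_mul, ← H27Lambda.lamSeries_add, sub_add_cancel, hpos b hb]
      rw [← H27Lambda.lamSeries_add, ← map_add, sub_add_cancel]
    simpa [H27Lambda.coeff_lamSeries] using congrArg (PowerSeries.coeff i) h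
  have hnat := map_adams (P := P) (P' := P') f hlam haug j
  apply e.injective
  show f _ = f _
  rw [map_mul, hnat, hnat, hnat, map_mul]
  exact H27Lambda.adams_mul (PB.Split.hasSplitting hK') j _ _

end Transfer

section Line

variable {K : Type v} [CommRing K] [LambdaOps K] (P : PosStructure K)

/-- Bott's class of a multiple of a line element. -/
theorem bott_natCast_mul_line {u : K} (hu : P.IsLine u) (j m : ℕ) :
    KRR.bott P j ((m : K) * u) = (∑ k ∈ Finset.range j, u ^ k) ^ m := by
  have hlam : ∀ i, LambdaOps.lam i ((m : K) * u) =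
      ((Finset.univ : Finset (Fin m)).val.map fun _ => u).esymm i := fun i => by
    rw [show (m : K) * u = ((Finset.univ : Finset (Fin m)).val.map fun _ => u).sum by simp]
    exact H27Lambda.lam_sum_lines (P := P) (fun v hv => by
      obtain ⟨_, -, rfl⟩ := Multiset.mem_map.1 hv; exact hu) i
  have haug : (P.aug ((m : K) * u)).toNat = m := by rw [map_mul, map_natCast, hu.2, mul_one, Int.toNat_natCast]
  unfold KRR.bott
  rw [show (∑ k ∈ Finset.range j, u ^ k) ^ m = ∏ _i : Fin m, ∑ k ∈ Finset.range j, u ^ k by simp]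
  generalize hM : (P.aug ((m : K) * u)).toNat = M
  obtain rfl : M = m := hM.symm.trans haug
  rw [← LamRR.aeval_bottPoly j M (fun _ => u)]
  simp only [hlam]

end Line

section Residue

open Polynomial

variable {R : Type*} [CommRing R] (n j : ℕ)

/-- The relation polynomial. -/
theorem nodal_one : Lagrange.nodal Finset.univ (fun _ : Fin (n + 1) => (1 : R)) = (X - C 1) ^ (n + 1) := by
  simp [Lagrange.nodal]

theorem coeff_pow_mod (a : ℕ) :
    ((X : R[X]) ^ a %ₘ (X - C 1) ^ (n + 1)).coeff n = (Nat.choose a n : R) := by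
  rcases subsingleton_or_nontrivial R with h | h
  · exact Subsingleton.elim _ _
  have hm : ((X : R[X]) - C 1) ^ (n + 1) |>.Monic := (monic_X_sub_C 1).pow _
  let Q : R[X] := ∑ t ∈ Finset.range (n + 1), C (a.choose t : R) * (X - C 1) ^ t
  have hQ : Q.degree < ((X - C 1 : R[X]) ^ (n + 1)).degree := by
    refine lt_of_le_of_lt (degree_sum_le _ _) ?_
    rw [degree_eq_natDegree hm.ne_zero, (monic_X_sub_C 1).natDegree_pow, natDegree_X_sub_C, mul_one]
    refine (Finset.sup_lt_iff (WithBot.bot_lt_coe _)).2 fun t ht => lt_of_le_of_lt degree_le_natDegree ?_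
    refine Nat.cast_lt.2 (lt_of_le_of_lt ((natDegree_C_mul_le _ _).trans natDegree_pow_le) ?_)
    rw [natDegree_X_sub_C, mul_one]; exact Finset.mem_range.1 ht
  have hmod : (X : R[X]) ^ a %ₘ (X - C 1) ^ (n + 1) = Q := by
    refine (div_modByMonic_unique
      (∑ t ∈ Finset.Ico (n + 1) (a + 1), C (a.choose t : R) * (X - C 1) ^ (t - (n + 1))) Q hm ⟨?_, hQ⟩).2
    rw [Finset.mul_sum, show ((X : R[X]) ^ a) = ((X - C 1) + 1) ^ a by rw [map_one, sub_add_cancel], add_pow]
    simp only [one_pow, mul_one, map_natCast, Q]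
    rcases le_or_gt (a + 1) (n + 1) with hle | hlt
    · rw [Finset.Ico_eq_empty_of_le hle, Finset.sum_empty, add_zero]
      refine (Finset.sum_subset (Finset.range_mono hle) fun t _ ht => ?_).symm.trans
        (Finset.sum_congr rfl fun t _ => mul_comm _ _)
      rw [Nat.choose_eq_zero_of_lt (by simpa using ht), Nat.cast_zero, zero_mul]
    · rw [← Finset.sum_range_add_sum_Ico _ hlt.le]
      refine congrArg₂ (· + ·) (Finset.sum_congr rfl fun t _ => mul_comm _ _) (Finset.sum_congr rfl fun t ht => ?_)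
      rw [mul_left_comm, ← pow_add, Nat.add_sub_cancel' (Finset.mem_Ico.1 ht).1, mul_comm]
  rw [hmod]
  simp only [Q, finsetSum_coeff, coeff_C_mul]
  rw [Finset.sum_eq_single n]
  · have h := ((monic_X_sub_C (1 : R)).pow n).coeff_natDegree
    rw [(monic_X_sub_C (1 : R)).natDegree_pow, natDegree_X_sub_C, mul_one] at h
    rw [h, mul_one]
  · intro t ht htn
    rw [coeff_eq_zero_of_natDegree_lt ?_, mul_zero]
    refine lt_of_le_of_lt natDegree_pow_le ?_
    rw [natDegree_X_sub_C, mul_one]
    exact lt_of_le_of_ne (Nat.lt_succ_iff.1 (Finset.mem_range.1 ht)) htn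
  · simp

/-- The residue of the substitution `T ↦ T^j` at the multiple root `1`. -/
theorem residue_one (hj : 1 ≤ j) (W : R[X])
    (hW : (X - C 1) ^ (n + 1) ∣ LamRes.bigH j (fun _ : Fin (n + 1) => (1 : R)) * W - 1) (a : ℕ) :
    (j : R) * ((X ^ (j * a + (j - 1)) * W) %ₘ (X - C 1) ^ (n + 1)).coeff n = (Nat.choose a n : R) := by
  let N : R[X] := (X - C 1) ^ (n + 1)
  have hm : N.Monic := (monic_X_sub_C 1).pow _
  let Λ : R[X] →ₗ[R] R := (j : R) • ((Polynomial.lcoeff R n).comp ((Polynomial.modByMonicHom N).comp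
    ((LinearMap.mulRight R (X ^ (j - 1) * W)).comp (Polynomial.aeval (X ^ j : R[X])).toLinearMap)))
  have hΛ : ∀ p : R[X], Λ p = (j : R) * ((Polynomial.aeval (X ^ j : R[X]) p * (X ^ (j - 1) * W)) %ₘ N).coeff n :=
    fun p => rfl
  have hpow : ∀ b, Λ (X ^ b) = (j : R) * ((X ^ (j * b + (j - 1)) * W) %ₘ N).coeff n := fun b => by
    rw [hΛ, map_pow, Polynomial.aeval_X, ← pow_mul, ← mul_assoc, ← pow_add]
  have hker : ∀ q : R[X], Λ (N * q) = 0 := fun q => by
    have hd : N ∣ Polynomial.aeval (X ^ j : R[X]) (N * q) := by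
      rw [map_mul, map_pow, map_sub, Polynomial.aeval_X, map_one, map_one]
      refine Dvd.dvd.mul_right (pow_dvd_pow_of_dvd ?_ _) _
      simpa using sub_dvd_pow_sub_pow (X : R[X]) 1 j
    rw [hΛ, (modByMonic_eq_zero_iff_dvd hm).2 (Dvd.dvd.mul_right hd _), coeff_zero, mul_zero]
  have hlow : ∀ b ≤ n, Λ (X ^ b) = if b = n then 1 else 0 := fun b hb => by
    rw [hpow]
    have h := LamRes.residue (r := n) hj (fun _ : Fin (n + 1) => (1 : R)) W (by rwa [nodal_one]) b hb
    rwa [nodal_one] at h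
  rw [← hpow a, ← coeff_pow_mod n a, ← modByMonic_add_div (X ^ a) N, map_add, hker, add_zero,
    modByMonic_add_div (X ^ a) N]
  have hdeg : ((X : R[X]) ^ a %ₘ N).natDegree ≤ n := by
    rcases subsingleton_or_nontrivial R with h | h
    · rw [Subsingleton.elim ((X : R[X]) ^ a %ₘ N) 0, natDegree_zero]; exact Nat.zero_le _
    refine Nat.lt_succ_iff.1 (lt_of_lt_of_le (natDegree_modByMonic_lt _ hm (fun h1 => ?_)) ?_)
    · have := congrArg natDegree h1
      rw [(monic_X_sub_C 1).natDegree_pow, natDegree_X_sub_C, natDegree_one] at this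
      omega
    · rw [(monic_X_sub_C 1).natDegree_pow, natDegree_X_sub_C, mul_one]
  conv_lhs => rw [((X : R[X]) ^ a %ₘ N).as_sum_range_C_mul_X_pow' (Nat.lt_succ_of_le hdeg)]
  rw [map_sum, Finset.sum_eq_single n]
  · rw [← smul_eq_C_mul, map_smul, hlow n le_rfl, if_pos rfl, smul_eq_mul, mul_one]
  · intro b hb hbn
    rw [← smul_eq_C_mul, map_smul, hlow b (Nat.lt_succ_iff.1 (Finset.mem_range.1 hb)), if_neg hbn, smul_zero]
  · simp

end Residue

section Main

variable (n : ℕ) (Y : Scheme.{u}) [IsNoetherian Y] [ConnectedSpace ↥Y]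
  {KP : Type v} [CommRing KP] [LambdaOps KP] {PP : PosStructure KP} {φP : SGA6.Kvb (KRR.PY n Y) →+ KP}
  {KY : Type v} [CommRing KY] [LambdaOps KY] {PY : PosStructure KY} {φY : SGA6.Kvb Y →+ KY}

theorem isPn_PY : PB.IsPn n (KRR.pr n Y) (fun d => Twist.twistOver n Y d) where
  tw := PB.isTwistFamily_twistOver n Y
  chart y := by
    let U : Y.Opens := ⊤
    let j : KRR.PY n (↑U : Scheme.{u}) ⟶ KRR.PY n Y :=
      pullback.map _ _ _ _ (𝟙 _) U.ι (𝟙 _) (by simp) (specULiftZIsTerminal.hom_ext _ _)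
    haveI : IsIso U.ι := Y.topIso.isIso_hom
    haveI : IsIso j := pullback.map_isIso _ _ _ _ _ _ _ _ _
    have h1 : j ≫ KRR.pr n Y = KRR.pr n (↑U : Scheme.{u}) ≫ U.ι := pullback.lift_snd _ _ _
    have h2 : j ≫ CMReg.fstP n Y = CMReg.fstP n (↑U : Scheme.{u}) :=
      (pullback.lift_fst _ _ _).trans (Category.comp_id _)
    exact ⟨⟨U, j, inferInstance, h1, by rw [Scheme.Hom.opensRange_of_isIso, Scheme.Hom.preimage_top],
      ⟨(Scheme.Modules.pullbackComp j (CMReg.fstP n Y)).app _ ≪≫ (Scheme.Modules.pullbackCongr h2).app _⟩⟩, trivial⟩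

theorem connectedSpace_PY : ConnectedSpace ↥(KRR.PY n Y) := (isPn_PY n Y).connectedSpace

theorem main (hKP : KRR.IsModel (KRR.PY n Y) KP PP φP) (hKY : KRR.IsModel Y KY PY φY)
    (g : KP →+ KY) (hg : KRR.IsPushPr n Y φP φY g) (R : Type w) [CommRing R] (j : ℕ) (hju : IsUnit (j : R)) (hj : 1 ≤ j) :
    (∃ w : TensorProduct ℤ R KP, w * ((1 : R) ⊗ₜ[ℤ] KRR.bott PP j (φP (KRR.cl (KRR.PY n Y)
      (KRR.twF n Y (-1) ((Scheme.Modules.pullback (KRR.pr n Y)).obj (FlatMod.freeMod Y (n + 1))))))) = 1) ∧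
    ∀ (w : TensorProduct ℤ R KP), w * ((1 : R) ⊗ₜ[ℤ] KRR.bott PP j (φP (KRR.cl (KRR.PY n Y)
      (KRR.twF n Y (-1) ((Scheme.Modules.pullback (KRR.pr n Y)).obj (FlatMod.freeMod Y (n + 1))))))) = 1 → ∀ z : KP,
    (1 : R) ⊗ₜ[ℤ] adams PY j (g z) =
      LinearMap.lTensor R g.toIntLinearMap
        ((j : TensorProduct ℤ R KP) * ((1 : R) ⊗ₜ[ℤ] adams PP j z) * w) := by
  haveI := connectedSpace_PY n Y
  haveI := CMKer.isProper_pr n Y
  haveI : IsLocallyNoetherian (KRR.PY n Y) := LocallyOfFiniteType.isLocallyNoetherian (KRR.pr n Y)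
  haveI : CompactSpace ↥(KRR.PY n Y) := QuasiCompact.compactSpace_of_compactSpace (KRR.pr n Y)
  haveI : IsNoetherian (KRR.PY n Y) := ⟨⟩
  haveI : Nonempty ↥Y := ConnectedSpace.toNonempty
  haveI : Nonempty ↥(KRR.PY n Y) := ConnectedSpace.toNonempty
  obtain ⟨q, hq⟩ := KPushFil.exists_pull hKP hKY
  let qR := KPullLam.ringHom hKP hKY hq
  let O : ℤ → (KRR.PY n Y).Modules := fun d => Twist.twistOver n Y d
  have hO : ∀ d, FlatMod.IsFinLocFree (O d) := fun d => KModel.finLocFree_invertible (RegSheaf.isInvertible_twistOver d)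
  let l := φP (KRR.cl _ (O 1))
  let v := φP (KRR.cl _ (O (-1)))
  have hl : PP.IsLine l := KPushFil.isLine_cl hKP (RegSheaf.isInvertible_twistOver 1)
  have hv : PP.IsLine v := KPushFil.isLine_cl hKP (RegSheaf.isInvertible_twistOver (-1))
  have hvl : v * l = 1 := by
    obtain ⟨e⟩ := RegSheaf.nonempty_twistOver_add (n := n) (T := Y) (-1) 1 0 (by norm_num)
    obtain ⟨e₀⟩ := H11Tilde.nonempty_twist_zero_iso (CohB1.polyGrading n (ULift.{u} ℤ))
    show φP _ * φP _ = 1
    rw [hKP.map_mul _ _ (hO _) (hO _), KModel.cl_iso (e ≪≫ (Scheme.Modules.pullback _).mapIso e₀ ≪≫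
      H16Derived.KFlat.Stalk.structurePullbackIso _) (H16Derived.KFlat.Stalk.isFinLocFree_tensor (hO _) (hO _))]
    exact hKP.map_one
  -- the element q
  have hq0 : φP (KRR.cl (KRR.PY n Y) (KRR.twF n Y (-1) ((Scheme.Modules.pullback (KRR.pr n Y)).obj
      (FlatMod.freeMod Y (n + 1))))) = ((n + 1 : ℕ) : KP) * v := by
    have hF := KModel.finLocFree_free (X := Y) (n + 1)
    rw [mul_comm, ← map_natCast qR, ← KModel.map_cl_free hKY (n + 1)]
    show _ = v * q _
    rw [hq _ hF, hKP.map_mul _ _ (hO _) (H16Derived.KFlat.Stalk.isFinLocFree_pullback _ hF)]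
    rfl
  rw [hq0, bott_natCast_mul_line PP hv]
  -- the inverse
  let ι : KP →+* R ⊗[ℤ] KP := (Algebra.TensorProduct.includeRight : KP →ₐ[ℤ] R ⊗[ℤ] KP).toRingHom
  let ev : Polynomial R →ₐ[R] R ⊗[ℤ] KP := Polynomial.aeval (ι l)
  have hι : ∀ x, ι x = (1 : R) ⊗ₜ[ℤ] x := fun _ => rfl
  let H := LamRes.bigH j (fun _ : Fin (n + 1) => (1 : R))
  obtain ⟨W, hW⟩ := LamRes.exists_inverse (H := H) (fun _ : Fin (n + 1) => (1 : R)) (fun _ => by
    simp only [H, LamRes.bigH, Polynomial.eval_prod, LamRes.eval_hPoly_self]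
    exact IsUnit.prod_univ_iff.2 fun _ => hju.mul (by simp)) Finset.univ
  have hW' : (Polynomial.X - Polynomial.C (1 : R)) ^ (n + 1) ∣ H * W - 1 := by simpa using hW
  have hrel : ev ((Polynomial.X - Polynomial.C (1 : R)) ^ (n + 1)) = 0 := by
    simp only [ev, map_pow, map_sub, Polynomial.aeval_X, Polynomial.aeval_C, map_one]
    rw [← map_one ι, ← map_sub, ← map_pow, KPushFil.relation hKP, map_zero]
  have hevH : ev H = (ι l) ^ ((n + 1) * (j - 1)) * ι ((∑ k ∈ Finset.range j, v ^ k) ^ (n + 1)) := by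
    simp only [H, LamRes.bigH, LamRes.hPoly, map_prod, ev, map_sum, map_mul, map_pow, Polynomial.aeval_X,
      one_pow, map_one, mul_one, Finset.prod_const, Finset.card_univ, Fintype.card_fin]
    rw [mul_comm (n + 1), pow_mul, ← mul_pow]
    congr 1
    rw [Finset.mul_sum, ← Finset.sum_range_reflect]
    refine Finset.sum_congr rfl fun k hk => ?_
    have hk' : k ≤ j - 1 := by have := Finset.mem_range.1 hk; omega
    conv_rhs => rw [← Nat.sub_add_cancel hk', pow_add, mul_assoc, ← mul_pow, ← map_mul,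
      mul_comm l, hvl, map_one, one_pow, mul_one]
  let w₀ : R ⊗[ℤ] KP := (ι l) ^ ((n + 1) * (j - 1)) * ev W
  have hw₀ : w₀ * ι ((∑ k ∈ Finset.range j, v ^ k) ^ (n + 1)) = 1 := by
    obtain ⟨c, hc⟩ := hW'
    have h := congrArg ev hc
    rw [map_sub, map_mul, map_mul, map_one, hrel, zero_mul, sub_eq_zero, hevH] at h
    rw [← h]; ring
  refine ⟨⟨w₀, hw₀⟩, fun w hw z => ?_⟩
  obtain rfl : w = w₀ := by
    calc w = w * (w₀ * ι ((∑ k ∈ Finset.range j, v ^ k) ^ (n + 1))) := by rw [hw₀, mul_one]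
      _ = w₀ * (w * ι ((∑ k ∈ Finset.range j, v ^ k) ^ (n + 1))) := by ring
      _ = w₀ := by rw [show w * ι _ = 1 from hw, mul_one]
  -- push-forward of powers
  have hgl : ∀ (a : KY) (b : ℕ), g (q a * l ^ b) = a * (Nat.choose (n + b) b : KY) := fun a b => by
    rw [mul_comm, S3762.result n Y KP PP φP hKP KY PY φY hKY g hg q hq, mul_comm]
    congr 1
    have h1 := KPush.push_Od_nat (g.comp φP) φY hg hKY.map_one b
    rw [AddMonoidHom.comp_apply, KPushFil.cl_twF hKP b (KPush.finLocFree_structure _), hKP.map_one, one_mul] at h1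
    exact h1
  let G : R ⊗[ℤ] KP →ₗ[R] R ⊗[ℤ] KY := g.toIntLinearMap.baseChange R
  have hG : ∀ y, LinearMap.lTensor R g.toIntLinearMap y = G y := fun y => by
    rw [← LinearMap.baseChange_eq_ltensor]
  have hGev : ∀ (a : KY) (p : Polynomial R), G (ι (q a) * ev p) =
      ((Polynomial.X ^ n * p %ₘ (Polynomial.X - Polynomial.C (1 : R)) ^ (n + 1)).coeff n) • ((1 : R) ⊗ₜ[ℤ] a) := by
    intro a p
    induction p using Polynomial.induction_on' with
    | add p p' hp hp' => rw [map_add, mul_add, map_add, hp, hp', mul_add, Polynomial.add_modByMonic,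
        Polynomial.coeff_add, add_smul]
    | monomial b c =>
      rw [← Polynomial.C_mul_X_pow_eq_monomial, map_mul ev, Polynomial.aeval_C, map_pow ev, Polynomial.aeval_X,
        ← Algebra.smul_def, mul_smul_comm, map_smul, ← map_pow ι, ← map_mul ι, hι,
        LinearMap.baseChange_tmul]
      rw [AddMonoidHom.coe_toIntLinearMap, hgl, mul_left_comm, ← pow_add, ← Polynomial.smul_eq_C_mul,
        Polynomial.smul_modByMonic, Polynomial.coeff_smul, coeff_pow_mod, smul_eq_mul, mul_smul]
      congr 1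
      rw [Nat.choose_symm_add, mul_comm, ← nsmul_eq_mul, TensorProduct.tmul_smul, Nat.cast_smul_eq_nsmul]
  rw [hG]
  induction (show z ∈ AddSubgroup.closure {z | ∃ (a : KY) (b : ℕ), z = qR a * l ^ b} by
    rw [KPushFil.span_eq_top hKP hKY hq]; trivial) using AddSubgroup.closure_induction with
  | zero =>
    rw [show g 0 = 0 from map_zero g, show adams PY j (0 : KY) = 0 from map_zero (H27Lambda.adamsHom PY j),
      show adams PP j (0 : KP) = 0 from map_zero (H27Lambda.adamsHom PP j)]
    simp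
  | add x y _ _ hx hy =>
    rw [map_add g, show adams PY j (g x + g y) = _ from map_add (H27Lambda.adamsHom PY j) _ _,
      show adams PP j (x + y) = _ from map_add (H27Lambda.adamsHom PP j) _ _]
    simp only [TensorProduct.tmul_add, mul_add, add_mul, map_add, H27Lambda.adamsHom_apply, hx, hy]
  | neg x _ hx =>
    rw [map_neg g, show adams PY j (-g x) = _ from map_neg (H27Lambda.adamsHom PY j) _,
      show adams PP j (-x) = _ from map_neg (H27Lambda.adamsHom PP j) _]
    simp only [H27Lambda.adamsHom_apply]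
    rw [TensorProduct.tmul_neg, hx, ← hι, ← hι, map_neg ι]
    exact (map_neg G _).symm.trans (congrArg G ((neg_mul _ _).symm.trans (congrArg (· * w₀) (mul_neg _ _).symm)))
  | mem x hx =>
    obtain ⟨a, b, rfl⟩ := hx
    have hψl : adams PP j (qR a * l ^ b) = qR (adams PY j a) * l ^ (j * b) := by
      rw [adams_mul_model hKP, map_adams (P := PY) (P' := PP) qR
        (fun i x => KPullLam.map_lam hKP hKY hq i x) (fun x => KPullLam.map_aug hKP hKY hq x) j a,
        H27Lambda.adams_line PP (H27Lambda.isLine_pow hl b) j, ← pow_mul, mul_comm b j]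
    have hψg : adams PY j (g (qR a * l ^ b)) = adams PY j a * (Nat.choose (n + b) b : KY) := by
      show adams PY j (g (q a * l ^ b)) = _
      rw [hgl, adams_mul_model hKY]
      congr 1
      rw [← nsmul_one, ← H27Lambda.adamsHom_apply, map_nsmul, H27Lambda.adamsHom_apply, H27Lambda.adams_one]
    rw [hψg, hψl]
    have harg : (j : R ⊗[ℤ] KP) * ((1 : R) ⊗ₜ[ℤ] (qR (adams PY j a) * l ^ (j * b))) * w₀ =
        ι (q (adams PY j a)) * ev ((j : Polynomial R) * Polynomial.X ^ (j * b + (n + 1) * (j - 1)) * W) := by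
      rw [← hι, map_mul, map_pow]
      simp only [w₀, ev, map_mul, map_natCast, map_pow, Polynomial.aeval_X, pow_add]
      show _ = ι (qR _) * _
      ring
    rw [harg, hGev, show (Polynomial.X : Polynomial R) ^ n *
        ((j : Polynomial R) * Polynomial.X ^ (j * b + (n + 1) * (j - 1)) * W) =
          (j : R) • (Polynomial.X ^ (j * (n + b) + (j - 1)) * W) by
      rw [Polynomial.smul_eq_C_mul, map_natCast,
        show j * (n + b) + (j - 1) = n + (j * b + (n + 1) * (j - 1)) by
          obtain ⟨j', rfl⟩ : ∃ j', j = j' + 1 := ⟨j - 1, by omega⟩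
          simp only [Nat.add_sub_cancel]
          ring]
      ring, Polynomial.smul_modByMonic, Polynomial.coeff_smul, smul_eq_mul,
      residue_one n j hj W hW' (n + b)]
    rw [Nat.choose_symm_add, mul_comm, ← nsmul_eq_mul, TensorProduct.tmul_smul, Nat.cast_smul_eq_nsmul]

end Main

end Groth.Agent.H22Alg.KAdamsPr
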