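import Groth.Agent.H22Alg.KIndep
import Groth.Agent.H22Alg.CMGen
import Groth.Agent.H22Alg.KPushVal
import Groth.Agent.H11Div.RegComp

/-! # Enough locally free modules on `P^n_Y`, and `(fg)_K = g_K f_K` for regular morphisms. -/

set_option autoImplicit false
set_option linter.style.haveILetI false

universe v u w

open CategoryTheory CategoryTheory.Limits AlgebraicGeometry ZeroObject
attribute [local instance] HasDerivedCategory.standard
attribute [local instance 10000] Groth.Agent.H10Coh.hasSheafifyAb Groth.Agent.H10Coh.hasWeakSheafifyAb Groth.Agent.H10Coh.hasExtAb Groth.Agent.H10Coh.enoughInjAb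

noncomputable section

namespace Groth.Agent.H22Alg.KComp

open ResEuler KLFRes

/-- `P^n_Y` has enough locally free modules if `Y` has. -/
theorem hasEnoughLocFree_PY {Y : Scheme.{u}} [IsNoetherian Y] (hY : KRR.HasEnoughLocFree Y) (n : ℕ) :
    KRR.HasEnoughLocFree (KRR.PY n Y) := by
  haveI := KSection.isNoetherian_PY n Y
  intro F hF
  obtain ⟨m, hm⟩ := RegBundle.exists_reg_twist hF
  have hG : Coh.IsCoh (KRR.twF n Y (m : ℤ) F) :=
    H10Coh.TT.isCoh_tensorMod (H16Derived.KFlat.Stalk.isCoh_of_isFinLocFree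
      (PnVan.finLocFree_of_inv (RegSheaf.isInvertible_twistOver (n := n) (T := Y) (m : ℤ)))) hF
  haveI := CMGen.epi_counit hG.1 (hm m le_rfl)
  obtain ⟨E, p, hE, hp⟩ := hY _ (KPushVal.isCoh_push_pr hG)
  obtain ⟨e₁⟩ := RegSheaf.nonempty_twF_twF (n := n) (T := Y) (-(m : ℤ)) (m : ℤ) 0 (by ring) F
  obtain ⟨e₀⟩ := RegSheaf.nonempty_twF_zero (n := n) (T := Y) F
  let q : (Scheme.Modules.pullback (KRR.pr n Y)).obj E ⟶ KRR.twF n Y (m : ℤ) F :=
    (Scheme.Modules.pullback (KRR.pr n Y)).map p ≫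
      (Scheme.Modules.pullbackPushforwardAdjunction (KRR.pr n Y)).counit.app _
  haveI : (Scheme.Modules.pullback (KRR.pr n Y)).IsLeftAdjoint :=
    (Scheme.Modules.pullbackPushforwardAdjunction (KRR.pr n Y)).isLeftAdjoint
  haveI := hp
  haveI : Epi ((Scheme.Modules.pullback (KRR.pr n Y)).map p) := inferInstance
  haveI : Epi q := epi_comp _ _
  haveI : Epi (((DCoh.tensorBi (X := KRR.PY n Y)).obj (Twist.twistOver n Y (-(m : ℤ)))).map q) :=
    (RegSheaf.shortExact_twist (n := n) (T := Y) (-(m : ℤ)) (shortExact_kernel q)).epi_g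
  exact ⟨_, ((DCoh.tensorBi (X := KRR.PY n Y)).obj (Twist.twistOver n Y (-(m : ℤ)))).map q ≫ (e₁ ≪≫ e₀).hom,
    RegBundle.finLocFree_twF (n := n) (Y := Y) (-(m : ℤ)) (H16Derived.KFlat.Stalk.isFinLocFree_pullback _ hE),
    epi_comp _ _⟩

/-- `g_K f_K = (fg)_K` on `K₀` of bundles. -/
theorem push_comp {n m l : ℕ} {X Y Z : Scheme.{u}} [IsNoetherian X] [IsNoetherian Y] [IsNoetherian Z]
    (hY : KRR.HasEnoughLocFree Y) (hZ : KRR.HasEnoughLocFree Z)
    (i : X ⟶ KRR.PY n Y) (hi : Mor2.IsRegularClosedImmersion i)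
    (j : Y ⟶ KRR.PY m Z) (hj : Mor2.IsRegularClosedImmersion j)
    (k : X ⟶ KRR.PY l Z) (hk : Mor2.IsRegularClosedImmersion k)
    (hf : k ≫ KRR.pr l Z = (i ≫ KRR.pr n Y) ≫ (j ≫ KRR.pr m Z))
    (ai : SGA6.Kvb X →+ SGA6.Kvb (KRR.PY n Y))
    (hai : ∀ F : X.Modules, FlatMod.IsFinLocFree F → ∀ d a,
      Val (vb _) (coh _) (KRR.cl _) d ((Scheme.Modules.pushforward i).obj F) a → ai (KRR.cl X F) = a)
    (aj : SGA6.Kvb Y →+ SGA6.Kvb (KRR.PY m Z))
    (haj : ∀ F : Y.Modules, FlatMod.IsFinLocFree F → ∀ d a,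
      Val (vb _) (coh _) (KRR.cl _) d ((Scheme.Modules.pushforward j).obj F) a → aj (KRR.cl Y F) = a)
    (ak : SGA6.Kvb X →+ SGA6.Kvb (KRR.PY l Z))
    (hak : ∀ F : X.Modules, FlatMod.IsFinLocFree F → ∀ d a,
      Val (vb _) (coh _) (KRR.cl _) d ((Scheme.Modules.pushforward k).obj F) a → ak (KRR.cl X F) = a)
    (pn : SGA6.Kvb (KRR.PY n Y) →+ SGA6.Kvb Y)
    (hpn : ∀ F : (KRR.PY n Y).Modules, FlatMod.IsFinLocFree F → KRR.IsRegSheaf n Y F →
      pn (KRR.cl _ F) = KRR.cl Y ((Scheme.Modules.pushforward (KRR.pr n Y)).obj F))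
    (pm : SGA6.Kvb (KRR.PY m Z) →+ SGA6.Kvb Z)
    (hpm : ∀ F : (KRR.PY m Z).Modules, FlatMod.IsFinLocFree F → KRR.IsRegSheaf m Z F →
      pm (KRR.cl _ F) = KRR.cl Z ((Scheme.Modules.pushforward (KRR.pr m Z)).obj F))
    (pl : SGA6.Kvb (KRR.PY l Z) →+ SGA6.Kvb Z)
    (hpl : ∀ F : (KRR.PY l Z).Modules, FlatMod.IsFinLocFree F → KRR.IsRegSheaf l Z F →
      pl (KRR.cl _ F) = KRR.cl Z ((Scheme.Modules.pushforward (KRR.pr l Z)).obj F)) :
    pl.comp ak = (pm.comp aj).comp (pn.comp ai) := by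
  haveI := KSection.isNoetherian_PY n Y
  haveI := KSection.isNoetherian_PY m Z
  haveI := KSection.isNoetherian_PY l Z
  haveI := KSection.isNoetherian_PY n (KRR.PY m Z)
  haveI := KSection.isNoetherian_PY l (KRR.PY m Z)
  haveI := KSection.isNoetherian_PY m (KRR.PY l Z)
  have hW := hasEnoughLocFree_PY hZ m
  have hnW := hasEnoughLocFree_PY hW n
  have hlW := hasEnoughLocFree_PY hW l
  have hl := hasEnoughLocFree_PY hZ l
  have hml := hasEnoughLocFree_PY hl m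
  obtain ⟨q, hq⟩ := KReg.exists_push n (KRR.PY m Z)
  obtain ⟨q₁, hq₁⟩ := KReg.exists_push l (KRR.PY m Z)
  obtain ⟨q₂, hq₂⟩ := KReg.exists_push m (KRR.PY l Z)
  -- base change of `j`
  have hJ := KBaseChangeCl.isRegular_map (n := n) j hj
  obtain ⟨aJ, haJ⟩ := KPushCl.exists_pushCl _ hnW hJ
  have hJcomm : q.comp aJ = aj.comp pn := by
    obtain ⟨hb1, hb2⟩ := KReg.bijective_incl (n := n) (Y := Y) (fun _ h => h.1)
    refine AddMonoidHom.ext fun z => ?_
    obtain ⟨w, rfl⟩ := hb2 z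
    refine DFunLike.congr_fun (KReg.clSub_ext
      (a := (q.comp aJ).comp (KReg.incl n Y fun _ h => h.1))
      (b := (aj.comp pn).comp (KReg.incl n Y fun _ h => h.1)) fun M hM => ?_) w
    simp only [AddMonoidHom.comp_apply, KReg.incl_cls (fun _ h => h.1) hM]
    obtain ⟨e, c, hc⟩ := KPushCl.exists_val_push _ hnW hJ hM.1
    rw [haJ M hM.1 e c hc]
    exact KBaseChangeCl.push_map j hW hj pn hpn q hq aj haj hM.1 hM.2 hc
  -- `e : X ⟶ P^n_{P^m_Z}`
  have he : Mor2.IsRegularClosedImmersion (i ≫ KRR.projSpaceMap n j) :=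
    H11Div.isRegularClosedImmersion_comp _ _ hi hJ
  let h := i ≫ KRR.pr n Y ≫ j
  have hhe : (i ≫ KRR.projSpaceMap n j) ≫ KRR.pr n (KRR.PY m Z) = h := by
    rw [Category.assoc, KBaseChangeCl.sq]
  obtain ⟨ae, hae⟩ := KPushCl.exists_pushCl _ hnW he
  -- the factorisation through `P^l_{P^m_Z}`
  obtain ⟨σ, hσ₁, hσ₂⟩ := KIndep.exists_swap l m Z
  let s := (KBaseChangeCl.isPullback_map (n := m) (k ≫ KRR.pr l Z)).lift h (𝟙 X)
    (by rw [Category.id_comp, hf]; simp only [h, Category.assoc])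
  have hs : s ≫ KRR.pr m X = 𝟙 X := IsPullback.lift_snd _ _ _ _
  have hs' : s ≫ KRR.projSpaceMap m (k ≫ KRR.pr l Z) = h := IsPullback.lift_fst _ _ _ _
  have hsreg : Mor2.IsRegularClosedImmersion s :=
    @Groth.Agent.S1676.result _ _ (KRR.pr m X) (H26Smooth.smooth_toBase m X) s hs
      (by haveI := KSection.isClosedImmersion_section s hs; infer_instance)
  have hσreg := KIndep.isRegular_of_isIso σ.hom
  have hk' : Mor2.IsRegularClosedImmersion ((s ≫ KRR.projSpaceMap m k) ≫ σ.hom) :=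
    H11Div.isRegularClosedImmersion_comp _ _
      (H11Div.isRegularClosedImmersion_comp _ _ hsreg (KBaseChangeCl.isRegular_map (n := m) k hk)) hσreg
  have hhk : ((s ≫ KRR.projSpaceMap m k) ≫ σ.hom) ≫ KRR.pr l (KRR.PY m Z) = h := by
    rw [Category.assoc, hσ₂, Category.assoc, KIndep.projSpaceMap_comp, hs']
  obtain ⟨ak', hak'⟩ := KPushCl.exists_pushCl _ hlW hk'
  have key := KIndep.push_indep hnW hlW (hasEnoughLocFree_PY hlW n) (hasEnoughLocFree_PY hnW l)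
    _ he _ hk' (hhe.trans hhk.symm) ae hae ak' hak' q hq q₁ hq₁
  -- the commutation of the two projections
  have hσ := KIndep.isRegular_of_isIso σ.inv
  obtain ⟨τ, hτ⟩ := KPushCl.exists_pushCl σ.inv hml hσ
  have hτ' : ∀ H, FlatMod.IsFinLocFree H → τ (KRR.cl _ H) = KRR.cl _ ((Scheme.Modules.pushforward σ.inv).obj H) :=
    fun H hH => by
      obtain ⟨e⟩ := KIndep.nonempty_push_inv σ H
      have hp := KModel.finLocFree_iso e.symm (H16Derived.KFlat.Stalk.isFinLocFree_pullback σ.hom hH)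
      exact hτ H hH 0 _ ⟨H16Derived.KFlat.Stalk.isCoh_of_isFinLocFree hp, hp, rfl⟩
  have hcomm := KIndep.push_comm pl hpl pm hpm q₁ hq₁ q₂ hq₂ σ hσ₁ hσ₂ τ hτ'
  refine KModel.kvb_ext fun F hF => ?_
  -- left: `pl (k_* F)`
  obtain ⟨d, b, hb, hqb⟩ := KIndep.val_graph hl hml k hk s hs ak hak q₂ hq₂ hF
  obtain ⟨d', a', ha'⟩ := KPushCl.exists_val_push _ hlW hk' hF
  obtain ⟨d'', hd''⟩ := KClOps.val_push σ.inv hml hσ τ hτ d' _ a' ha'
  have hh : ((s ≫ KRR.projSpaceMap m k) ≫ σ.hom) ≫ σ.inv = s ≫ KRR.projSpaceMap m k := by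
    rw [Category.assoc, Iso.hom_inv_id, Category.comp_id]
  have hb_eq : τ a' = b := val_unique' (ctxK hml)
    (val_iso (ctxK hml) ((Scheme.Modules.pushforwardComp _ σ.inv).app F ≪≫
      (Scheme.Modules.pushforwardCongr hh).app F) hd'') hb
  -- right: composite of the two closed immersions
  obtain ⟨d₁, a₁, ha₁⟩ := KPushCl.exists_val_push i (hasEnoughLocFree_PY hY n) hi hF
  obtain ⟨d₂, hd₂⟩ := KClOps.val_push _ hnW hJ aJ haJ d₁ _ a₁ ha₁
  have he_eq : ae (KRR.cl X F) = aJ a₁ :=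
    hae F hF _ _ (val_iso (ctxK hnW) ((Scheme.Modules.pushforwardComp i (KRR.projSpaceMap n j)).app F) hd₂)
  simp only [AddMonoidHom.comp_apply]
  rw [hai F hF _ _ ha₁]
  have e1 : pl (q₂ (τ a')) = pm (q₁ a') := DFunLike.congr_fun hcomm a'
  have e2 : q (ae (KRR.cl X F)) = q₁ (ak' (KRR.cl X F)) := DFunLike.congr_fun key (KRR.cl X F)
  have e3 : q (aJ a₁) = aj (pn a₁) := DFunLike.congr_fun hJcomm a₁
  rw [← hqb, ← hb_eq, e1, ← hak' F hF _ _ ha', ← e2, he_eq, e3]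

end Groth.Agent.H22Alg.KComp
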