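import Groth.Agent.H22Alg.PullVb
import Groth.Agent.H22Alg.KClOps
import Groth.Agent.H22Alg.KPullLam
import Groth.Agent.H17.ConsModModels
import Groth.Agent.H17.FPExt.Colimit

/-! # Pull-back of Euler sums along maps avoiding the support. -/

set_option autoImplicit false
set_option linter.style.haveILetI false

universe w v u

open CategoryTheory CategoryTheory.Limits AlgebraicGeometry TensorProduct
attribute [local instance] HasDerivedCategory.standard

noncomputable section

namespace Groth.Agent.H22Alg.KPullFree

open ResEuler KLFRes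

variable {X Y : Scheme.{u}} (f : X ⟶ Y)

theorem shortExact_pullback_of {S : ShortComplex Y.Modules} (hS : S.ShortExact)
    (h₃ : ∀ x : X, Module.Free (Y.presheaf.stalk (f.base x)) (S.X₃.presheaf.stalk (f.base x))) :
    (S.map (Scheme.Modules.pullback f)).ShortExact := by
  haveI : PreservesFiniteColimits (Scheme.Modules.pullback f) :=
    (Scheme.Modules.pullbackPushforwardAdjunction f).leftAdjoint_preservesColimits.preservesFiniteColimits
  haveI := hS.epi_g
  haveI hmono : Mono ((Scheme.Modules.pullback f).map S.f) := by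
    refine H29Omega.mono_of_injective_stalkLin _ fun x => ?_
    let y := f.base x
    letI := H06Mod.stalkAlgebra f x
    haveI : Module.Free (Y.presheaf.stalk y) (S.X₃.presheaf.stalk y) := h₃ x
    haveI : Module.Projective (Y.presheaf.stalk y) (S.X₃.presheaf.stalk y) := inferInstance
    obtain ⟨s, hs⟩ := Module.projective_lifting_property (H06Mod.stalkLin S.g y) LinearMap.id
      (H06Mod.stalk_surjective S hS y)
    obtain ⟨r, hr⟩ := (((H06Mod.stalk_exact S hS y).split_tfae (H06Mod.stalk_injective S hS y)
      (H06Mod.stalk_surjective S hS y)).out 0 1).1 (⟨s, hs⟩ : ∃ l, (H06Mod.stalkLin S.g y) ∘ₗ l = LinearMap.id)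
    have hinj : Function.Injective ((H06Mod.stalkLin S.f y).baseChange (X.presheaf.stalk x)) := by
      refine Function.LeftInverse.injective (g := r.baseChange (X.presheaf.stalk x)) fun z => ?_
      rw [← LinearMap.comp_apply, ← LinearMap.baseChange_comp, hr, LinearMap.baseChange_id]
      rfl
    have hcomm : ∀ z, H06Mod.stalkLin ((Scheme.Modules.pullback f).map S.f) x (H06Mod.pullStalkEquiv f S.X₁ x z) =
        H06Mod.pullStalkEquiv f S.X₂ x ((H06Mod.stalkLin S.f y).baseChange (X.presheaf.stalk x) z) := by
      intro z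
      induction z using TensorProduct.induction_on with
      | zero => simp
      | tmul a m =>
        show H06Mod.stalkLin _ x (H06Mod.pullStalkLin f S.X₁ x (a ⊗ₜ m)) =
          H06Mod.pullStalkLin f S.X₂ x (a ⊗ₜ H06Mod.stalkLin S.f y m)
        rw [H06Mod.pullStalkLin_tmul, H06Mod.pullStalkLin_tmul, map_smul]
        exact congrArg (a • ·) (H06Mod.pullStalk_naturality f S.X₁ x S.f m)
      | add z w hz hw => simp only [map_add, hz, hw]
    intro a b hab
    obtain ⟨a, rfl⟩ := (H06Mod.pullStalkEquiv f S.X₁ x).surjective a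
    obtain ⟨b, rfl⟩ := (H06Mod.pullStalkEquiv f S.X₁ x).surjective b
    rw [hcomm, hcomm] at hab
    exact congrArg _ (hinj ((H06Mod.pullStalkEquiv f S.X₂ x).injective hab))
  exact { exact := ShortComplex.exact_of_g_is_cokernel _ (CokernelCofork.mapIsColimit _ hS.gIsCokernel (Scheme.Modules.pullback f))
          mono_f := hmono
          epi_g := inferInstanceAs (Epi ((Scheme.Modules.pullback f).map S.g)) }


theorem finLocFree_pullback_of [IsLocallyNoetherian X] {M : Y.Modules} (hM : Coh.IsCoh M)
    (h : ∀ x : X, Module.Free (Y.presheaf.stalk (f.base x)) (M.presheaf.stalk (f.base x))) :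
    FlatMod.IsFinLocFree ((Scheme.Modules.pullback f).obj M) := by
  refine finLocFree_of_coh_flat (H17.ConsProp.isCoh_pullback f hM) fun x => ?_
  letI := H06Mod.stalkAlgebra f x
  haveI := h x
  exact Module.Flat.of_linearEquiv (H06Mod.pullStalkEquiv f M x).symm

variable [IsLocallyNoetherian Y]

theorem free_stalk_kernel {S : ShortComplex Y.Modules} (hS : S.ShortExact) (hA : Coh.IsCoh S.X₁) (y : Y)
    [Module.Free (Y.presheaf.stalk y) (S.X₂.presheaf.stalk y)]
    [Module.Free (Y.presheaf.stalk y) (S.X₃.presheaf.stalk y)] :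
    Module.Free (Y.presheaf.stalk y) (S.X₁.presheaf.stalk y) := by
  obtain ⟨s, hs⟩ := Module.projective_lifting_property (H06Mod.stalkLin S.g y) LinearMap.id
    (H06Mod.stalk_surjective S hS y)
  obtain ⟨r, hr⟩ := (((H06Mod.stalk_exact S hS y).split_tfae (H06Mod.stalk_injective S hS y)
    (H06Mod.stalk_surjective S hS y)).out 0 1).1 (⟨s, hs⟩ : ∃ l, (H06Mod.stalkLin S.g y) ∘ₗ l = LinearMap.id)
  haveI := H06Mod.finite_stalk S.X₁ hA.2 y
  haveI : Module.Projective (Y.presheaf.stalk y) (S.X₁.presheaf.stalk y) := Module.Projective.of_split _ r hr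
  exact Module.free_of_flat_of_isLocalRing

variable [IsLocallyNoetherian X] {KX : Type v} {KY : Type w} [CommRing KX] [CommRing KY]
  {φX : SGA6.Kvb X →+ KX} {φY : SGA6.Kvb Y →+ KY} {g : KY →+ KX}

/-- Pull-back of an Euler sum when the stalks at the image points are free. -/
theorem pull_val (hg : KRR.IsPull f φY φX g) : ∀ (n : ℕ) (M : Y.Modules) (a : KY),
    Val (vb Y) (coh Y) (fun M => φY (KRR.cl Y M)) n M a →
    (∀ x : X, Module.Free (Y.presheaf.stalk (f.base x)) (M.presheaf.stalk (f.base x))) →
    g a = φX (KRR.cl X ((Scheme.Modules.pullback f).obj M))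
  | 0, M, a, hv, _ => by rw [hv.2.2, hg M hv.2.1]
  | n + 1, M, a, hv, hfree => by
    obtain ⟨hA, E, p, b, hE, hp, hK, rfl⟩ := hv
    have hS := shortExact_kernel p
    have hk : ∀ x : X, Module.Free (Y.presheaf.stalk (f.base x)) ((kernel p).presheaf.stalk (f.base x)) := fun x =>
      haveI : Module.Free (Y.presheaf.stalk (f.base x))
          ((ShortComplex.mk (kernel.ι p) p (kernel.condition p)).X₂.presheaf.stalk (f.base x)) :=
        H8Props.FinLocFree.free_stalk E hE _
      haveI : Module.Free (Y.presheaf.stalk (f.base x))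
          ((ShortComplex.mk (kernel.ι p) p (kernel.condition p)).X₃.presheaf.stalk (f.base x)) := hfree x
      free_stalk_kernel hS hK.mem (f.base x)
    rw [map_sub, hg E hE, pull_val hg n _ b hK hk]
    rw [sub_eq_iff_eq_add, ← map_add, add_comm]
    exact congrArg φX (KModel.cl_add (shortExact_pullback_of f hS hfree) (finLocFree_pullback_of f hK.mem hk)
      (H16Derived.KFlat.Stalk.isFinLocFree_pullback f hE) (finLocFree_pullback_of f hA hfree))

/-- Pull-back of an Euler sum vanishes away from the support. -/
theorem pull_val_zero (hg : KRR.IsPull f φY φX g) {n : ℕ} {M : Y.Modules} {a : KY}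
    (hv : Val (vb Y) (coh Y) (fun M => φY (KRR.cl Y M)) n M a)
    (h0 : ∀ x : X, Subsingleton (M.presheaf.stalk (f.base x))) : g a = 0 := by
  have hz : IsZero ((Scheme.Modules.pullback f).obj M) := H17.FPExt.isZero_of_stalk _ fun x => by
    letI := H06Mod.stalkAlgebra f x
    haveI := h0 x
    exact (H06Mod.pullStalkEquiv f M x).symm.toEquiv.subsingleton
  rw [pull_val f hg n M a hv fun x => by haveI := h0 x; exact Module.Free.of_subsingleton _ _, KModel.cl_isZero hz,
    map_zero]

end Groth.Agent.H22Alg.KPullFree
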