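import Groth.Agent.H22Alg.TorIndepLocal
import Groth.Agent.H22Alg.KPullFree
import Groth.Agent.H17.Conormal.Left
import Groth.Agent.H25Par.Rank
import Groth.Agent.S9372

/-! # Tor-independent pull-back of Euler sums; base change of regular closed immersions. -/

set_option autoImplicit false
set_option linter.style.haveILetI false

universe w v u

open CategoryTheory CategoryTheory.Limits AlgebraicGeometry TensorProduct MonoidalCategory RingTheory.Sequence
open Groth.Agent.H8Props.TorIndepCx Groth.Agent.H22Alg.TorIndepLocal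
attribute [local instance] HasDerivedCategory.standard
attribute [local instance] Groth.Agent.H06Mod.stalkAlgebra

noncomputable section

namespace Groth.Agent.H22Alg.KTorPull

open ResEuler KLFRes

section Pull

variable {Y M' : Scheme.{u}} (φ : Y ⟶ M')

/-- `M` is Tor independent of `Y` at the point `y`. -/
def GoodAt (M : M'.Modules) (y : Y) : Prop :=
  Good (projectiveResolution (ModuleCat.of (M'.presheaf.stalk (φ.base y)) (Y.presheaf.stalk y)))
    (ModuleCat.of _ (M.presheaf.stalk (φ.base y)))

theorem good_vb {E : M'.Modules} (hE : FlatMod.IsFinLocFree E) (y : Y) : GoodAt φ E y := by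
  haveI := H8Props.FinLocFree.free_stalk E hE (φ.base y)
  haveI : Module.Projective (M'.presheaf.stalk (φ.base y)) (E.presheaf.stalk (φ.base y)) := inferInstance
  haveI : Projective (ModuleCat.of (M'.presheaf.stalk (φ.base y)) (E.presheaf.stalk (φ.base y))) :=
    (IsProjective.iff_projective _).1 ‹_›
  exact good_of_projective _

theorem shortExact_pullback_good {S : ShortComplex M'.Modules} (hS : S.ShortExact)
    (h₂ : ∀ y, GoodAt φ S.X₂ y) (h₃ : ∀ y, GoodAt φ S.X₃ y) :
    (S.map (Scheme.Modules.pullback φ)).ShortExact ∧ ∀ y, GoodAt φ S.X₁ y := by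
  haveI : PreservesColimitsOfSize.{0, 0} (Scheme.Modules.pullback φ) :=
    (Scheme.Modules.pullbackPushforwardAdjunction φ).leftAdjoint_preservesColimits
  haveI : PreservesFiniteColimits (Scheme.Modules.pullback φ) :=
    PreservesColimitsOfSize.preservesFiniteColimits.{0, 0} (Scheme.Modules.pullback φ)
  haveI := hS.epi_g
  have key : ∀ y : Y, GoodAt φ S.X₁ y ∧
      Function.Injective ((H06Mod.stalkLin S.f (φ.base y)).lTensor (Y.presheaf.stalk y)) := fun y => by
    let T : ShortComplex (ModuleCat (M'.presheaf.stalk (φ.base y))) :=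
      ShortComplex.moduleCatMk (H06Mod.stalkLin S.f (φ.base y)) (H06Mod.stalkLin S.g (φ.base y))
        (H06Mod.stalk_exact S hS (φ.base y)).linearMap_comp_eq_zero
    have hT : T.ShortExact :=
      { exact := (ShortComplex.ShortExact.moduleCat_exact_iff_function_exact _).2 (H06Mod.stalk_exact S hS _)
        mono_f := (ModuleCat.mono_iff_injective _).2 (H06Mod.stalk_injective S hS _)
        epi_g := (ModuleCat.epi_iff_surjective _).2 (H06Mod.stalk_surjective S hS _) }
    obtain ⟨h₁, hm⟩ := good_kernel (L := projectiveResolution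
      (ModuleCat.of (M'.presheaf.stalk (φ.base y)) (Y.presheaf.stalk y))) hT (h₂ y) (h₃ y)
    exact ⟨h₁, (ModuleCat.mono_iff_injective _).1 hm⟩
  refine ⟨?_, fun y => (key y).1⟩
  haveI hmono : Mono ((Scheme.Modules.pullback φ).map S.f) := by
    refine H29Omega.mono_of_injective_stalkLin _ fun y => ?_
    have hcomm : ∀ z, H06Mod.stalkLin ((Scheme.Modules.pullback φ).map S.f) y (H06Mod.pullStalkEquiv φ S.X₁ y z) =
        H06Mod.pullStalkEquiv φ S.X₂ y ((H06Mod.stalkLin S.f (φ.base y)).baseChange (Y.presheaf.stalk y) z) := by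
      intro z
      induction z using TensorProduct.induction_on with
      | zero => simp
      | tmul a m =>
        show H06Mod.stalkLin _ y (H06Mod.pullStalkLin φ S.X₁ y (a ⊗ₜ m)) =
          H06Mod.pullStalkLin φ S.X₂ y (a ⊗ₜ H06Mod.stalkLin S.f (φ.base y) m)
        rw [H06Mod.pullStalkLin_tmul, H06Mod.pullStalkLin_tmul, map_smul]
        exact congrArg (a • ·) (H06Mod.pullStalk_naturality φ S.X₁ y S.f m)
      | add z w hz hw => simp only [map_add, hz, hw]
    intro a b hab
    obtain ⟨a, rfl⟩ := (H06Mod.pullStalkEquiv φ S.X₁ y).surjective a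
    obtain ⟨b, rfl⟩ := (H06Mod.pullStalkEquiv φ S.X₁ y).surjective b
    rw [hcomm, hcomm] at hab
    exact congrArg _ ((key y).2 ((H06Mod.pullStalkEquiv φ S.X₂ y).injective hab))
  exact { exact := ShortComplex.exact_of_g_is_cokernel _ (CokernelCofork.mapIsColimit _ hS.gIsCokernel (Scheme.Modules.pullback φ))
          mono_f := hmono
          epi_g := inferInstanceAs (Epi ((Scheme.Modules.pullback φ).map S.g)) }

variable [IsLocallyNoetherian Y] [IsLocallyNoetherian M'] {G : Type v} {G' : Type w} [AddCommGroup G] [AddCommGroup G']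
  {c : M'.Modules → G} {c' : Y.Modules → G'}

/-- Euler sums pull back when all terms are Tor independent. -/
theorem val_pull (h' : Ctx (vb Y) (coh Y) c') (g : G →+ G')
    (hg : ∀ E, FlatMod.IsFinLocFree E → g (c E) = c' ((Scheme.Modules.pullback φ).obj E)) :
    ∀ (n : ℕ) (M : M'.Modules) (a : G), Val (vb M') (coh M') c n M a → (∀ y, GoodAt φ M y) →
      Val (vb Y) (coh Y) c' n ((Scheme.Modules.pullback φ).obj M) (g a)
  | 0, M, a, hv, _ => ⟨H17.ConsProp.isCoh_pullback φ hv.1, H16Derived.KFlat.Stalk.isFinLocFree_pullback φ hv.2.1,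
      by rw [hv.2.2, hg M hv.2.1]⟩
  | n + 1, M, a, hv, hgood => by
    obtain ⟨hA, E, p, b, hE, hp, hK, rfl⟩ := hv
    obtain ⟨hS, hk⟩ := shortExact_pullback_good φ (shortExact_kernel p) (fun y => good_vb φ hE y) hgood
    rw [map_sub, hg E hE]
    exact val_of_shortExact h' hS (H16Derived.KFlat.Stalk.isFinLocFree_pullback φ hE)
      (val_pull h' g hg n (kernel p) b hK hk) (H17.ConsProp.isCoh_pullback φ hA)

end Pull

section Hom

variable {X : Scheme.{u}} {G : Type v} {G' : Type w} [AddCommGroup G] [AddCommGroup G'] {c : X.Modules → G}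

/-- Euler sums under a homomorphism. -/
theorem val_hom (μ : G →+ G') : ∀ (n : ℕ) (M : X.Modules) (a : G),
    Val (vb X) (coh X) c n M a → Val (vb X) (coh X) (fun M => μ (c M)) n M (μ a)
  | 0, _, _, hv => ⟨hv.1, hv.2.1, congrArg μ hv.2.2⟩
  | n + 1, _, _, hv => by
    obtain ⟨hA, E, g, b, hE, hg, hK, rfl⟩ := hv
    exact ⟨hA, E, g, μ b, hE, hg, val_hom μ n _ b hK, map_sub μ _ _⟩

end Hom

section Data

variable {Z X : Scheme.{u}}

/-- The length of a regular sequence cutting out a closed immersion is the rank of its conormal module. -/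
theorem length_eq_rank [IsLocallyNoetherian Z] [IsLocallyNoetherian X] (i : Z ⟶ X) [IsClosedImmersion i] {d : ℕ}
    (hd : FlatMod.IsFinLocFreeOfRank d (Omega.conormal i)) (z : Z) {rs : List (X.presheaf.stalk (i.base z))}
    (hrs : IsRegular (X.presheaf.stalk (i.base z)) rs)
    (hI : Ideal.ofList rs = RingHom.ker (i.stalkMap z).hom) : rs.length = d := by
  have hq := H13CInt.isQuasiRegular_of_isWeaklyRegular rs.get (by rw [List.ofFn_get]; exact hrs.toIsWeaklyRegular)
  have hsp : Ideal.span (Set.range rs.get) = RingHom.ker (i.stalkMap z).hom := by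
    rw [← H13CInt.ofList_ofFn, List.ofFn_get, hI]
  have hmem : ∀ k, rs.get k ∈ RingHom.ker (i.stalkMap z).hom := fun k => hsp ▸ Ideal.subset_span ⟨k, rfl⟩
  let g : Fin rs.length → RingHom.ker (i.stalkMap z).hom := fun k => ⟨rs.get k, hmem k⟩
  let v : Fin rs.length → (Omega.conormal i).presheaf.stalk z := fun k => H29Omega.cgen i z (g k)
  have hcomb : ∀ c : Fin rs.length → X.presheaf.stalk (i.base z),
      H29Omega.cgen i z (∑ k, c k • g k) = ∑ k, (i.stalkMap z).hom (c k) • v k := fun c => by
    rw [map_sum]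
    exact Finset.sum_congr rfl fun k _ => H29Omega.cgen_smul i z _ _
  have hli : LinearIndependent (Z.presheaf.stalk z) v := by
    rw [Fintype.linearIndependent_iff]
    intro c hc k
    choose c' hc' using fun k => i.stalkMap_surjective z (c k)
    have h0 : H29Omega.cgen i z (∑ k, c' k • g k) = 0 := by
      rw [hcomb]
      refine Eq.trans (Finset.sum_congr rfl fun k _ => congrArg (· • v k) (hc' k)) hc
    have h1 := H17.Conormal.mem_sq_of_cgen_eq_zero i z _ h0
    rw [Submodule.coe_sum] at h1
    have h1' : (∑ k, c' k * rs.get k) ∈ Ideal.span (Set.range rs.get) ^ 2 := by rw [hsp]; exact h1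
    have h2 := H06QR.coeff_mem_of_linear hq c' h1' k
    rw [hsp] at h2
    rw [← hc' k]
    exact h2
  have hspan : ⊤ ≤ Submodule.span (Z.presheaf.stalk z) (Set.range v) := by
    rw [← H29Omega.span_cgen i z, Submodule.span_le]
    rintro _ ⟨⟨a, ha⟩, rfl⟩
    obtain ⟨c, hc⟩ := Ideal.mem_span_range_iff_exists_fun.1 (hsp.ge ha)
    have e : (⟨a, ha⟩ : RingHom.ker (i.stalkMap z).hom) = ∑ k, c k • g k := Subtype.ext (by
      rw [Submodule.coe_sum]; exact hc.symm)
    rw [SetLike.mem_coe, e, hcomb]
    exact Submodule.sum_mem _ fun k _ => Submodule.smul_mem _ _ (Submodule.subset_span ⟨k, rfl⟩)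
  have h := Module.finrank_eq_card_basis (Module.Basis.mk hli hspan)
  rw [(H25Par.finrank_stalk hd z).2.2, Fintype.card_fin] at h
  exact h.symm

theorem regular_data [IsLocallyNoetherian Z] [IsLocallyNoetherian X] (i : Z ⟶ X) (hi : Mor2.IsRegularClosedImmersion i) {d : ℕ}
    (hd : FlatMod.IsFinLocFreeOfRank d (Omega.conormal i)) (z : Z) :
    ∃ rs : List (X.presheaf.stalk (i.base z)), IsRegular (X.presheaf.stalk (i.base z)) rs ∧ rs.length = d ∧
      Ideal.ofList rs = RingHom.ker (i.stalkMap z).hom := by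
  haveI := hi.1
  obtain ⟨rs, hrs, hI⟩ := H13CInt.isRegularIdeal_ker_stalkMap i hi z
  exact ⟨rs, hrs, length_eq_rank i hd z hrs hI, hI⟩

variable [IsLocallyNoetherian Z] [IsLocallyNoetherian X]

/-- The stalk of the direct image of a bundle along a regular closed immersion. -/
theorem push_data (i : Z ⟶ X) (hi : Mor2.IsRegularClosedImmersion i) {d : ℕ}
    (hd : FlatMod.IsFinLocFreeOfRank d (Omega.conormal i)) {E : Z.Modules} (hE : FlatMod.IsFinLocFree E)
    (z : Z) (m : X) (hm : i.base z = m) :
    ∃ rs : List (X.presheaf.stalk m), IsRegular (X.presheaf.stalk m) rs ∧ rs.length = d ∧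
      (RingHom.ker (i.stalkMap z).hom).map (X.presheaf.stalkSpecializes (specializes_of_eq hm.symm)).hom =
        Ideal.ofList rs ∧
      ∃ r : ℕ, Nonempty (((Scheme.Modules.pushforward i).obj E).presheaf.stalk m ≃ₗ[X.presheaf.stalk m]
        (Fin r → X.presheaf.stalk m ⧸ Ideal.ofList rs)) := by
  subst hm
  obtain ⟨rs, hrs, hlen, hI⟩ := regular_data i hi hd z
  haveI := hi.1
  refine ⟨rs, hrs, hlen, ?_, ?_⟩
  · rw [TopCat.Presheaf.stalkSpecializes_refl, hI]
    exact Ideal.map_id _
  haveI := H8Props.FinLocFree.free_stalk E hE z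
  haveI := H06Mod.finite_stalk E (H29Fitt.isFT_of_isFP _ (H8Props.FinLocFree.isFP_of_isFinLocFree _ hE)) z
  let b := Module.Free.chooseBasis (Z.presheaf.stalk z) (E.presheaf.stalk z)
  letI := Fintype.ofFinite (Module.Free.ChooseBasisIndex (Z.presheaf.stalk z) (E.presheaf.stalk z))
  refine ⟨Fintype.card (Module.Free.ChooseBasisIndex (Z.presheaf.stalk z) (E.presheaf.stalk z)), ⟨?_⟩⟩
  let eS := (b.reindex (Fintype.equivFin _)).equivFun
  let φ := (i.stalkMap z).hom
  letI := φ.toAlgebra
  letI := Module.compHom (E.presheaf.stalk z) φ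
  let q : (X.presheaf.stalk (i.base z) ⧸ Ideal.ofList rs) ≃ₗ[X.presheaf.stalk (i.base z)] Z.presheaf.stalk z :=
    ((Submodule.quotEquivOfEq _ _ hI).trans
      (Ideal.quotientKerAlgEquivOfSurjective (f := Algebra.ofId (X.presheaf.stalk (i.base z)) (Z.presheaf.stalk z))
        (i.stalkMap_surjective z)).toLinearEquiv)
  let p : ((Scheme.Modules.pushforward i).obj E).presheaf.stalk (i.base z) ≃+ E.presheaf.stalk z :=
    AddEquiv.ofBijective (H16Derived.ProjFormula.pushStalk i E z) (H16Derived.ProjFormula.pushStalk_bijective i E z)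
  let p' : ((Scheme.Modules.pushforward i).obj E).presheaf.stalk (i.base z) ≃ₗ[X.presheaf.stalk (i.base z)]
      (Fin (Fintype.card (Module.Free.ChooseBasisIndex (Z.presheaf.stalk z) (E.presheaf.stalk z))) → Z.presheaf.stalk z) :=
    { (p.trans eS.toAddEquiv) with
      map_smul' := fun r w => by
        show eS (H16Derived.ProjFormula.pushStalk i E z (r • w)) = r • eS (H16Derived.ProjFormula.pushStalk i E z w)
        rw [H16Derived.ProjFormula.pushStalk_smul, map_smul]
        rfl }
  exact p'.trans (LinearEquiv.piCongrRight fun _ => q.symm)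

end Data

section BaseChange

variable {X Y P M : Scheme.{u}} [IsLocallyNoetherian X] [IsLocallyNoetherian Y] [IsLocallyNoetherian P]
  [IsLocallyNoetherian M] {F : P ⟶ M} {φ : Y ⟶ M} {f : X ⟶ Y} {ψ : X ⟶ P} (hsq : IsPullback f ψ φ F)
  (hF : Mor2.IsRegularClosedImmersion F) (hf : Mor2.IsRegularClosedImmersion f) {d : ℕ}
  (hcF : FlatMod.IsFinLocFreeOfRank d (Omega.conormal F)) (hcf : FlatMod.IsFinLocFreeOfRank d (Omega.conormal f))
  {E : P.Modules} (hE : FlatMod.IsFinLocFree E)

include hsq hF hf hcF hcf hE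

/-- The local data over a point of the fibre product. -/
theorem bc_data (x : X) :
    ∃ rs : List (M.presheaf.stalk (φ.base (f.base x))),
      IsWeaklyRegular (M.presheaf.stalk (φ.base (f.base x))) rs ∧ IsWeaklyRegular (Y.presheaf.stalk (f.base x)) rs ∧
      RingHom.ker (f.stalkMap x).hom = (Ideal.ofList rs).map (φ.stalkMap (f.base x)).hom ∧
      ∃ r : ℕ, Nonempty (((Scheme.Modules.pushforward F).obj E).presheaf.stalk (φ.base (f.base x))
        ≃ₗ[M.presheaf.stalk (φ.base (f.base x))] (Fin r → M.presheaf.stalk (φ.base (f.base x)) ⧸ Ideal.ofList rs)) := by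
  haveI := hF.1
  haveI := hf.1
  have hp : F.base (ψ.base x) = φ.base (f.base x) := by
    rw [← Scheme.Hom.comp_apply, ← Scheme.Hom.comp_apply, hsq.w]
  obtain ⟨rs, hrs, hlen, hI, r, he⟩ := push_data F hF hcF hE (ψ.base x) _ hp
  have hker : RingHom.ker (f.stalkMap x).hom = (Ideal.ofList rs).map (φ.stalkMap (f.base x)).hom := by
    rw [S9372.ker_stalk_eq hsq x, ← hI, Ideal.map_map]
    rfl
  obtain ⟨rs', hrs', hlen', hI'⟩ := regular_data f hf hcf x
  have hA : IsRegular (Y.presheaf.stalk (f.base x)) (rs.map (φ.stalkMap (f.base x)).hom) := by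
    have hl : (rs.map (φ.stalkMap (f.base x)).hom).length = rs'.length := by rw [List.length_map, hlen, hlen']
    have h := isRegular_of_span_eq hrs' (fun k => (rs.map (φ.stalkMap (f.base x)).hom).get (k.cast hl.symm)) (by
      rw [← H13CInt.ofList_ofFn, ← List.ofFn_congr hl, List.ofFn_get, ← Ideal.map_ofList, hI', hker])
    rwa [← List.ofFn_congr hl, List.ofFn_get] at h
  exact ⟨rs, hrs.toIsWeaklyRegular,
    (isWeaklyRegular_map_algebraMap_iff (Y.presheaf.stalk (f.base x)) (Y.presheaf.stalk (f.base x)) rs).1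
      hA.toIsWeaklyRegular, hker, r, he⟩

/-- The direct image of a bundle is Tor independent of the base change. -/
theorem good_push (y : Y) : GoodAt φ ((Scheme.Modules.pushforward F).obj E) y := by
  haveI := hF.1
  by_cases hy : φ.base y ∈ Set.range F.base
  · obtain ⟨p, hp⟩ := hy
    obtain ⟨x, rfl, -⟩ := Scheme.exists_preimage_of_isPullback hsq y p hp.symm
    obtain ⟨rs, h1, h2, -, r, ⟨e⟩⟩ := bc_data hsq hF hf hcF hcf hE x
    exact good_iso e.toModuleIso.symm (good_pi _ (good_quotient rs h1 h2) r)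
  · haveI := H16Derived.ProjFormula.subsingleton_stalk_push F E (φ.base y) hy
    exact good_of_subsingleton

theorem killed_pullback : H16Derived.ProjFormula.Killed f
    ((Scheme.Modules.pullback φ).obj ((Scheme.Modules.pushforward F).obj E)) := by
  haveI := hF.1
  refine ⟨fun x a ha v => ?_, fun y hy => ?_⟩
  · obtain ⟨rs, -, -, hker, r, ⟨e⟩⟩ := bc_data hsq hF hf hcF hcf hE x
    have hzero : ∀ s ∈ Ideal.ofList rs,
        ∀ m : ((Scheme.Modules.pushforward F).obj E).presheaf.stalk (φ.base (f.base x)), s • m = 0 := fun s hs m => by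
      refine e.injective ?_
      rw [map_smul, map_zero]
      funext k
      obtain ⟨t, ht⟩ := Submodule.Quotient.mk_surjective _ (e m k)
      rw [Pi.smul_apply, ← ht, ← Submodule.Quotient.mk_smul, Pi.zero_apply, Submodule.Quotient.mk_eq_zero]
      exact Ideal.mul_mem_right t _ hs
    let N : Ideal (Y.presheaf.stalk (f.base x)) := Module.annihilator (Y.presheaf.stalk (f.base x))
      (Y.presheaf.stalk (f.base x) ⊗[M.presheaf.stalk (φ.base (f.base x))]
        ((Scheme.Modules.pushforward F).obj E).presheaf.stalk (φ.base (f.base x)))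
    have hle : (Ideal.ofList rs).map (φ.stalkMap (f.base x)).hom ≤ N := by
      refine Ideal.map_le_iff_le_comap.2 fun s hs => Module.mem_annihilator.2 fun t => ?_
      induction t using TensorProduct.induction_on with
      | zero => exact smul_zero _
      | add a b ha hb => rw [smul_add, ha, hb, add_zero]
      | tmul a m =>
        rw [TensorProduct.smul_tmul']
        show (s • a) ⊗ₜ[M.presheaf.stalk (φ.base (f.base x))] m = 0
        rw [TensorProduct.smul_tmul, hzero s hs m, TensorProduct.tmul_zero]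
    obtain ⟨t, rfl⟩ := (H06Mod.pullStalkEquiv φ _ (f.base x)).surjective v
    rw [← map_smul, Module.mem_annihilator.1 (hle (hker ▸ ha)) t, map_zero]
  · have hy' : φ.base y ∉ Set.range F.base := by
      rintro ⟨p, hp⟩
      obtain ⟨x, hx, -⟩ := Scheme.exists_preimage_of_isPullback hsq y p hp.symm
      exact hy ⟨x, hx⟩
    haveI := H16Derived.ProjFormula.subsingleton_stalk_push F E (φ.base y) hy'
    exact (H06Mod.pullStalkEquiv φ _ y).symm.toEquiv.subsingleton

/-- `φ^* F_* E = f_* ψ^* E`. -/
theorem nonempty_bcIso : Nonempty ((Scheme.Modules.pullback φ).obj ((Scheme.Modules.pushforward F).obj E) ≅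
    (Scheme.Modules.pushforward f).obj ((Scheme.Modules.pullback ψ).obj E)) := by
  haveI := hF.1
  haveI := hf.1
  haveI := H16Derived.ProjFormula.isIso_unit_of_killed f (killed_pullback hsq hF hf hcF hcf hE)
  haveI := H16Derived.ProjFormula.isIso_counit_of_isClosedImmersion F E
  exact ⟨asIso ((H16Derived.ProjFormula.adj f).unit.app _) ≪≫ (Scheme.Modules.pushforward f).mapIso
    ((Scheme.Modules.pullbackComp f φ ≪≫ Scheme.Modules.pullbackCongr hsq.w ≪≫
        (Scheme.Modules.pullbackComp ψ F).symm).app _ ≪≫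
      (Scheme.Modules.pullback ψ).mapIso (asIso ((H16Derived.ProjFormula.adj F).counit.app E)))⟩

/-- Pull-back of the Euler sum of a direct image. -/
theorem val_bc {G : Type v} {G' : Type w} [AddCommGroup G] [AddCommGroup G'] {c : M.Modules → G}
    {c' : Y.Modules → G'} (h' : Ctx (vb Y) (coh Y) c') (g : G →+ G')
    (hg : ∀ E, FlatMod.IsFinLocFree E → g (c E) = c' ((Scheme.Modules.pullback φ).obj E)) {n : ℕ} {a : G}
    (hv : Val (vb M) (coh M) c n ((Scheme.Modules.pushforward F).obj E) a) :
    Val (vb Y) (coh Y) c' n ((Scheme.Modules.pushforward f).obj ((Scheme.Modules.pullback ψ).obj E)) (g a) := by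
  obtain ⟨e⟩ := nonempty_bcIso hsq hF hf hcF hcf hE
  exact val_iso h' e (val_pull φ h' g hg n _ a hv fun y => good_push hsq hF hf hcF hcf hE y)

end BaseChange

end Groth.Agent.H22Alg.KTorPull
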