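import Groth.Agent.H22Alg.Koszul
import Groth.Agent.H22Alg.PB.Kos
import Groth.Agent.H22Alg.KTorPull
import Groth.Agent.H17.KoszSh.Resolution
import Groth.Agent.H13CInt.Spread

/-! # The Koszul resolution of the zero scheme of a regular cosection. -/

set_option autoImplicit false
set_option linter.style.haveILetI false

universe u

open CategoryTheory CategoryTheory.Limits AlgebraicGeometry Opposite TopologicalSpace RingTheory.Sequence exteriorPower
open Groth.Agent.H11Tilde
attribute [local instance] HasDerivedCategory.standard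

noncomputable section

namespace Groth.Agent.H22Alg.KKoszul

open ResEuler KLFRes

/-- A family regular at a prime is regular on a basic open around it. -/
theorem exists_away {B A : Type u} [CommRing B] [CommRing A] [Algebra B A] [IsNoetherianRing B]
    (P : Ideal B) [P.IsPrime] [IsLocalization.AtPrime A P] {n : ℕ} (b : Fin n → B)
    (hf : IsWeaklyRegular A (List.ofFn (algebraMap B A ∘ b))) :
    ∃ t ∉ P, ∀ (T : Type u) [CommRing T] [Algebra B T] [IsLocalization.Away t T],
      IsWeaklyRegular T (List.ofFn (algebraMap B T ∘ b)) := by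
  classical
  have himg : ∀ S : Set (Fin n), (Ideal.span (b '' S)).map (algebraMap B A) =
      Ideal.span ((algebraMap B A ∘ b) '' S) := fun S => by rw [Ideal.map_span, Set.image_comp]
  let J : Fin n → Ideal B := fun i => Ideal.span (b '' Set.Iio i)
  let K : Fin n → Ideal B := fun i => (J i).colon {b i}
  have hK : ∀ i c, c ∈ K i ↔ c * b i ∈ J i := fun i c => by
    simp [K, Submodule.mem_colon_singleton]
  have hfreg := (H13CInt.isWeaklyRegular_ofFn_iff _).1 hf
  have hKJ : ∀ i, ∃ t ∉ P, ∀ c ∈ K i, t * c ∈ J i := by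
    intro i
    obtain ⟨s, hs⟩ := IsNoetherian.noetherian (K i)
    have hle : (K i).map (algebraMap B A) ≤ (J i).map (algebraMap B A) := by
      refine Ideal.map_le_iff_le_comap.2 fun c hc => ?_
      rw [Ideal.mem_comap, himg]
      refine hfreg i _ ?_
      have h := Ideal.mem_map_of_mem (algebraMap B A) ((hK i c).1 hc)
      rw [himg, map_mul] at h
      exact h
    choose! t ht htc using fun c (hc : c ∈ s) =>
      (IsLocalization.algebraMap_mem_map_algebraMap_iff P.primeCompl A (J i) c).mp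
        (hle (Ideal.mem_map_of_mem _ (hs ▸ Ideal.subset_span hc)))
    refine ⟨∏ c ∈ s, t c, fun h => ?_, fun c hc => ?_⟩
    · obtain ⟨c, hc, hcP⟩ := (Ideal.IsPrime.prod_mem_iff).mp h
      exact ht c hc hcP
    · rw [← hs] at hc
      induction hc using Submodule.span_induction with
      | mem c hc =>
        obtain ⟨d, hd⟩ := Finset.dvd_prod_of_mem t hc
        rw [hd, mul_comm (t c), mul_assoc]
        exact Ideal.mul_mem_left _ _ (htc c hc)
      | zero => simp
      | add x y _ _ hx hy => rw [mul_add]; exact add_mem hx hy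
      | smul r x _ hx => rw [smul_eq_mul, mul_left_comm]; exact Ideal.mul_mem_left _ _ hx
  choose t ht ht' using hKJ
  refine ⟨∏ i, t i, fun h => ?_, fun T _ _ _ => ?_⟩
  · obtain ⟨i, -, hi⟩ := (Ideal.IsPrime.prod_mem_iff).mp h
    exact ht i hi
  set tt := ∏ i, t i with htt
  have htu : IsUnit (algebraMap B T tt) := IsLocalization.Away.algebraMap_isUnit tt
  rw [H13CInt.isWeaklyRegular_ofFn_iff]
  intro i c hc
  rw [Set.image_comp, ← Ideal.map_span] at hc ⊢
  obtain ⟨⟨d, s⟩, hds⟩ := IsLocalization.surj (Submonoid.powers tt) c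
  have hds' : c * algebraMap B T s = algebraMap B T d := hds
  have h1 : algebraMap B T (d * b i) ∈ (J i).map (algebraMap B T) := by
    rw [map_mul, ← hds', mul_right_comm]
    exact Ideal.mul_mem_right _ _ hc
  obtain ⟨r, hr, hr'⟩ :=
    (IsLocalization.algebraMap_mem_map_algebraMap_iff (Submonoid.powers tt) T (J i) _).mp h1
  have h2 : algebraMap B T (r * d) ∈ (J i).map (algebraMap B T) := by
    have h3 := Ideal.mem_map_of_mem (algebraMap B T) (ht' i _ ((hK i (r * d)).2 (by rwa [mul_assoc])))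
    rw [map_mul] at h3
    exact (Ideal.unit_mul_mem_iff_mem _ (isUnit_of_dvd_unit
      (map_dvd _ (Finset.dvd_prod_of_mem t (Finset.mem_univ i))) htu)).1 h3
  rw [map_mul, Ideal.unit_mul_mem_iff_mem _ (IsLocalization.map_units T ⟨r, hr⟩), ← hds',
    Ideal.mul_unit_mem_iff_mem _ (IsLocalization.map_units T s)] at h2
  exact h2

/-- A sequence starting with a unit is weakly regular. -/
theorem isWeaklyRegular_of_isUnit_zero {A : Type u} [CommRing A] {n : ℕ} (f : Fin (n + 1) → A) (h : IsUnit (f 0)) :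
    IsWeaklyRegular A (List.ofFn f) := by
  rw [H13CInt.isWeaklyRegular_ofFn_iff]
  intro i c hc
  induction i using Fin.cases with
  | zero =>
    have : Set.Iio (0 : Fin (n + 1)) = ∅ := Set.eq_empty_iff_forall_notMem.2 fun j hj => absurd hj (Fin.not_lt_zero j)
    rw [this, Set.image_empty, Ideal.span_empty, Ideal.mem_bot] at hc ⊢
    exact h.mul_left_eq_zero.1 hc
  | succ i =>
    rw [Ideal.eq_top_of_isUnit_mem _ (Ideal.subset_span (Set.mem_image_of_mem f
      (show (0 : Fin (n + 1)) ∈ Set.Iio i.succ from Fin.succ_pos i))) h]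
    trivial

variable {X Y : Scheme.{u}} [IsLocallyNoetherian X] [IsLocallyNoetherian Y] {d : ℕ} {E' : Y.Modules}
  (hE' : FlatMod.IsFinLocFreeOfRank d E') (t : E' ⟶ Coh.structureModule Y) (i : X ⟶ Y) [IsClosedImmersion i]
  (ht : ∀ U : Y.affineOpens, i.ker.ideal U = Ideal.span {a : Γ(Y, U.1) | ∃ s : Γ(E', U.1), (t.app U.1) s = a})

include ht in
theorem ideal_eq_range (U : Y.affineOpens) (a : Γ(Y, U.1)) :
    a ∈ i.ker.ideal U ↔ ∃ e : Γ(E', U.1), KoszSh.secForm t U.1 e = a := by
  rw [ht U, show {a : Γ(Y, U.1) | ∃ s : Γ(E', U.1), (t.app U.1) s = a} =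
    (LinearMap.range (KoszSh.secForm t U.1) : Set Γ(Y, U.1)) from rfl, ← Ideal.submodule_span_eq, Submodule.span_eq]
  rfl

include hE' ht in
/-- Near every point a basis of `E'` gives a weakly regular sequence. -/
theorem exists_regular_basis (hi : Mor2.IsRegularClosedImmersion i)
    (hci : FlatMod.IsFinLocFreeOfRank d (Omega.conormal i)) (y : Y) :
    ∃ U : Y.affineOpens, y ∈ U.1 ∧ ∃ b : Module.Basis (Fin d) Γ(Y, U.1) Γ(E', U.1),
      IsWeaklyRegular Γ(Y, U.1) (List.ofFn fun k => KoszSh.secForm t U.1 (b k)) := by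
  obtain ⟨V, hyV, ⟨e⟩⟩ := hE' y
  obtain ⟨U, hU, hyU, hle⟩ := exists_isAffineOpen_mem_and_subset (X := Y) (x := y) (U := V) hyV
  obtain ⟨b₀⟩ := H8Props.FinLocFree.exists_basis_of_chart E' e hle
  let γ := (Y.presheaf.germ U y hyU).hom
  have hspan : i.ker.ideal ⟨U, hU⟩ = Ideal.span (Set.range fun k => KoszSh.secForm t U (b₀ k)) := by
    refine le_antisymm (fun a ha => ?_) (Ideal.span_le.2 (Set.range_subset_iff.2 fun k =>
      (ideal_eq_range t i ht ⟨U, hU⟩ _).2 ⟨b₀ k, rfl⟩))
    obtain ⟨e', he'⟩ := (ideal_eq_range t i ht ⟨U, hU⟩ a).1 ha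
    rw [← he', ← b₀.sum_repr e', map_sum]
    refine sum_mem fun k _ => ?_
    rw [map_smul]
    exact Ideal.mul_mem_left _ _ (Ideal.subset_span ⟨k, rfl⟩)
  obtain ⟨σ, hσ⟩ : ∃ σ : Equiv.Perm (Fin d),
      IsWeaklyRegular (Y.presheaf.stalk y) (List.ofFn fun k => γ (KoszSh.secForm t U (b₀ (σ k)))) := by
    by_cases hy : y ∈ Set.range i.base
    · obtain ⟨x, rfl⟩ := hy
      refine ⟨Equiv.refl _, ?_⟩
      obtain ⟨rs, hrs, hlen, hI⟩ := KTorPull.regular_data i hi hci x
      subst hlen
      refine (TorIndepLocal.isRegular_of_span_eq hrs _ ?_).toIsWeaklyRegular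
      rw [hI, H13CInt.ker_stalkMap i x ⟨U, hU⟩ hyU, hspan, Ideal.map_span, ← Set.range_comp]
      rfl
    · have htop : Ideal.span (Set.range fun k => γ (KoszSh.secForm t U (b₀ k))) = ⊤ := by
        by_contra hne
        have hsupp : y ∈ i.ker.support := by
          rw [Scheme.IdealSheafData.mem_support_iff_of_mem (I := i.ker) (U := ⟨U, hU⟩) hyU, Scheme.mem_zeroLocus_iff]
          intro a ha hya
          refine hne (Ideal.eq_top_of_isUnit_mem _ ?_ ((Y.mem_basicOpen a y hyU).1 hya))
          rw [SetLike.mem_coe, hspan] at ha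
          have := Ideal.mem_map_of_mem γ ha
          rw [Ideal.map_span, ← Set.range_comp] at this
          exact this
        rw [← SetLike.mem_coe, Scheme.Hom.support_ker, i.isClosedEmbedding.isClosed_range.closure_eq] at hsupp
        exact hy hsupp
      obtain ⟨k, hk⟩ : ∃ k, IsUnit (γ (KoszSh.secForm t U (b₀ k))) := by
        by_contra hn
        push Not at hn
        exact (IsLocalRing.maximalIdeal.isMaximal (Y.presheaf.stalk y)).ne_top (top_le_iff.1 (htop.ge.trans
          (Ideal.span_le.2 (Set.range_subset_iff.2 fun k => (IsLocalRing.mem_maximalIdeal _).2 (hn k)))))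
      obtain ⟨m, rfl⟩ : ∃ m, d = m + 1 := ⟨d - 1, by have := k.pos; omega⟩
      refine ⟨Equiv.swap 0 k, isWeaklyRegular_of_isUnit_zero _ ?_⟩
      rwa [Equiv.swap_apply_left]
  haveI : IsNoetherianRing Γ(Y, U) := IsLocallyNoetherian.component_noetherian ⟨U, hU⟩
  letI := TopCat.Presheaf.algebra_section_stalk Y.presheaf (⟨y, hyU⟩ : U)
  haveI := hU.isLocalization_stalk ⟨y, hyU⟩
  let b₁ := b₀.reindex σ.symm
  have hb₁ : ∀ k, b₁ k = b₀ (σ k) := fun k => by simp [b₁]
  obtain ⟨g, hg, hT⟩ := exists_away (A := Y.presheaf.stalk y) (hU.primeIdealOf ⟨y, hyU⟩).asIdeal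
    (fun k => KoszSh.secForm t U (b₁ k)) (by
      convert hσ using 2
      funext k
      rw [Function.comp_apply, hb₁]
      rfl)
  letI : Algebra Γ(Y, U) Γ(Y, Y.basicOpen g) := (Y.presheaf.map (homOfLE (Y.basicOpen_le g)).op).hom.toAlgebra
  haveI : IsLocalization.Away g Γ(Y, Y.basicOpen g) := hU.isLocalization_basicOpen g
  have hq := H29Fitt.isQCoh_of_isFinLocFreeOfRank E' hE'
  letI := Module.compHom Γ(E', Y.basicOpen g) (algebraMap Γ(Y, U) Γ(Y, Y.basicOpen g))
  haveI : IsScalarTower Γ(Y, U) Γ(Y, Y.basicOpen g) Γ(E', Y.basicOpen g) :=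
    ⟨fun a c m => by
      change (algebraMap Γ(Y, U) Γ(Y, Y.basicOpen g) a * c) • m = _
      rw [mul_smul]; rfl⟩
  haveI := H29Fitt.isLocalizedModule_resLin E' hq hU g
  refine ⟨⟨Y.basicOpen g, hU.basicOpen g⟩, ?_,
    b₁.ofIsLocalizedModule Γ(Y, Y.basicOpen g) (Submonoid.powers g) (H29Fitt.resLin E' g), ?_⟩
  · change y ∈ Y.basicOpen g
    rw [Y.mem_basicOpen _ y hyU]
    exact IsLocalization.map_units (Y.presheaf.stalk y)
      (⟨g, hg⟩ : (hU.primeIdealOf ⟨y, hyU⟩).asIdeal.primeCompl)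
  have he : (fun k => KoszSh.secForm t (Y.basicOpen g)
      ((b₁.ofIsLocalizedModule Γ(Y, Y.basicOpen g) (Submonoid.powers g) (H29Fitt.resLin E' g)) k)) =
      (algebraMap Γ(Y, U) Γ(Y, Y.basicOpen g)) ∘ fun k => KoszSh.secForm t U (b₁ k) := by
    funext k
    rw [Module.Basis.ofIsLocalizedModule_apply]
    exact ConcreteCategory.congr_hom (t.mapPresheaf.naturality (homOfLE (Y.basicOpen_le g)).op) (b₁ k)
  exact he.symm ▸ hT Γ(Y, Y.basicOpen g)

variable {t}

/-- The augmentation of the Koszul complex. -/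
theorem exists_aug (C : KoszSh.Cx E' t) :
    ∃ e : C.K.X 0 ⟶ Coh.structureModule Y, IsIso e ∧ ∀ (U : Y.affineOpens) (x : Γ(C.K.X 0, U.1)),
      e.app U.1 x = (show Γ(Coh.structureModule Y, U.1) from zeroEquiv Γ(Y, U.1) Γ(E', U.1) (C.loc 0 U x)) := by
  obtain ⟨e, he⟩ := H17.AffHom.exists_hom (M := C.K.X 0) (N := Coh.structureModule Y)
    (fun U : Y.affineOpens =>
      { toFun := fun x => (show Γ(Coh.structureModule Y, U.1) from zeroEquiv Γ(Y, U.1) Γ(E', U.1) (C.loc 0 U x))
        map_add' := fun a b => by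
          show (zeroEquiv Γ(Y, U.1) Γ(E', U.1) (C.loc 0 U (a + b)) : Γ(Y, U.1)) = _
          rw [map_add, map_add]
          rfl
        map_smul' := fun r a => by
          show (zeroEquiv Γ(Y, U.1) Γ(E', U.1) (C.loc 0 U (r • a)) : Γ(Y, U.1)) = _
          rw [map_smul, map_smul]
          rfl })
    (fun U V h x => by
      obtain ⟨y, rfl⟩ := (C.loc 0 U).symm.surjective x
      induction y using ExtPowAlg.induction with
      | hgen e =>
        have h1 : (C.K.X 0).presheaf.map (homOfLE h).op ((C.loc 0 U).symm (ιMulti _ 0 e)) =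
            (C.loc 0 V).symm (ιMulti _ 0 fun j => E'.presheaf.map (homOfLE h).op (e j)) := C.loc_res 0 U V h e
        simp only [LinearMap.coe_mk, AddHom.coe_mk]
        rw [h1, LinearEquiv.apply_symm_apply, LinearEquiv.apply_symm_apply, zeroEquiv_ιMulti, zeroEquiv_ιMulti]
        exact (map_one (Y.presheaf.map (homOfLE h).op).hom).symm
      | h0 => simp only [map_zero]
      | hadd a b ha hb => simp only [map_add, ha, hb]
      | hsmul r a ha => simp only [map_smul, Scheme.Modules.map_smul, ha])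
  refine ⟨e, ExtPowHom.isIso_of_bijective_affine e fun U => ?_, fun U x => he U x⟩
  rw [show (e.app U.1 : Γ(C.K.X 0, U.1) → _) = fun x =>
    (show Γ(Coh.structureModule Y, U.1) from zeroEquiv Γ(Y, U.1) Γ(E', U.1) (C.loc 0 U x)) from funext (he U)]
  exact ((C.loc 0 U).trans (zeroEquiv Γ(Y, U.1) Γ(E', U.1))).bijective

variable (t)

include hE' ht in
/-- The Euler sum of the direct image of the structure sheaf. -/
theorem val_koszul {G : Type*} [AddCommGroup G] {c : Y.Modules → G} (h : Ctx (vb Y) (coh Y) c)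
    (hi : Mor2.IsRegularClosedImmersion i) (hci : FlatMod.IsFinLocFreeOfRank d (Omega.conormal i)) :
    ∃ K : ℕ → Y.Modules, (∀ j, ExtPow.IsExtPow j E' (K j)) ∧
      Val (vb Y) (coh Y) c d ((Scheme.Modules.pushforward i).obj (Coh.structureModule X))
        (∑ j ∈ Finset.range (d + 1), (-1 : ℤ) ^ j • c (K j)) := by
  have hEf := KPullLam.finLocFree_of_rank hE'
  obtain ⟨C⟩ := Koszul.nonempty_cx (s := t) (H29Fitt.isQCoh_of_isFinLocFreeOfRank E' hE')
  obtain ⟨e, hiso, he⟩ := exists_aug C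
  have hd : ∀ (V : Y.affineOpens) (v : Fin 1 → Γ(E', V.1)),
      e.app V.1 ((C.K.d 1 0).app V.1 ((C.loc 1 V).symm (ιMulti _ 1 v))) =
        (show Γ(Coh.structureModule Y, V.1) from KoszSh.secForm t V.1 (v 0)) := fun V v => by
    rw [C.rule 0 V v, he, LinearEquiv.apply_symm_apply]
    show (zeroEquiv Γ(Y, V.1) Γ(E', V.1) (KoszSh.dGen (KoszSh.secForm t V.1) 0 v) : Γ(Y, V.1)) = _
    rw [KoszSh.dGen, Fin.sum_univ_one, map_smul, zeroEquiv_ιMulti]
    simp
  have hker : ∀ (V : Y.affineOpens) (a : Γ(Y, V.1)), a ∈ i.ker.ideal V ↔ i.app V.1 a = 0 := fun V a => by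
    rw [Scheme.Hom.ker_apply]
    rfl
  have w : C.K.d (0 + 1) 0 ≫ e ≫ ClSub.unitToPush i = 0 := H17.AffHom.hom_ext fun V x => by
    obtain ⟨y, rfl⟩ := (C.loc 1 V).symm.surjective x
    induction y using ExtPowAlg.induction with
    | hgen v =>
      show (ClSub.unitToPush i).app V.1 (e.app V.1 ((C.K.d 1 0).app V.1 ((C.loc 1 V).symm (ιMulti _ 1 v)))) = 0
      rw [hd]
      exact (hker V _).1 ((ideal_eq_range t i ht V _).2 ⟨v 0, rfl⟩)
    | h0 => simp only [map_zero]
    | hadd a b ha hb => simp only [map_add, ha, hb]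
    | hsmul r a ha => simp only [map_smul, Scheme.Modules.Hom.app_smul, ha]
  have hepi : Epi (e ≫ ClSub.unitToPush i) := by
    haveI : Epi (ClSub.unitToPush i) := by
      refine epi_of_locally_surjective _ fun W s x hx => ?_
      obtain ⟨V, hV, hxV, hle⟩ := exists_isAffineOpen_mem_and_subset (X := Y) (x := x) (U := W) hx
      obtain ⟨a, ha⟩ := i.app_surjective V hV
        (((Scheme.Modules.pushforward i).obj (Coh.structureModule X)).presheaf.map (homOfLE hle).op s : Γ(X, i ⁻¹ᵁ V))
      exact ⟨V, hle, hxV, a, ha⟩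
    exact epi_comp _ _
  have hex : (ShortComplex.mk (C.K.d (0 + 1) 0) (e ≫ ClSub.unitToPush i) w).Exact := by
    refine exact_of_locally _ fun W a ha x hx => ?_
    obtain ⟨V, hV, hxV, hle⟩ := exists_isAffineOpen_mem_and_subset (X := Y) (x := x) (U := W) hx
    let a' : Γ(C.K.X 0, V) := (C.K.X 0).presheaf.map (homOfLE hle).op a
    have ha' : i.app V (e.app V a') = 0 := by
      have := (app_map_apply (e ≫ ClSub.unitToPush i) hle a).trans
        ((congrArg _ ha).trans (map_zero _))
      exact this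
    obtain ⟨v, hv⟩ := (ideal_eq_range t i ht ⟨V, hV⟩ (e.app V a')).1 ((hker ⟨V, hV⟩ _).2 ha')
    refine ⟨V, hle, hxV, (C.loc 1 ⟨V, hV⟩).symm (ιMulti _ 1 fun _ => v), ?_⟩
    haveI := hiso
    refine ((injective_iff_map_eq_zero (ExtPowHom.appL e V)).2 ?_) ?_
    · intro b hb
      have : (inv e).app V (e.app V b) = b := ConcreteCategory.congr_hom
        (congrArg (fun k => Scheme.Modules.Hom.app k V) (IsIso.hom_inv_id e)) b
      rw [← this, show e.app V b = 0 from hb, map_zero]
    · exact (hd ⟨V, hV⟩ fun _ => v).trans hv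
  refine ⟨C.K.X, C.isExtPow, val_of_seq h d _ C.K.X (fun j => C.K.d (j + 1) j) (e ≫ ClSub.unitToPush i) w
    (fun j => C.K.d_comp_d _ _ _) hepi hex (fun j => ?_)
    (fun j => ExtPowHom.finLocFree_of_isExtPow hEf (C.isExtPow j))
    (fun j hj => PB.isZero_extPow_of_gt hE' (C.isExtPow j) hj)
    (KPushCl.isCoh_push i KModel.finLocFree_structure)⟩
  have hj := H17.KoszSh.isZero_homology hE' (exists_regular_basis hE' t i ht hi hci) C (j + 1) (by omega)
  rw [← HomologicalComplex.exactAt_iff_isZero_homology,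
    C.K.exactAt_iff' (j + 1 + 1) (j + 1) j (by simp) (by simp)] at hj
  exact hj

end Groth.Agent.H22Alg.KKoszul
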