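import Mathlib

/-! # Backward extension of sequences killed by a power of the forward difference. -/

set_option autoImplicit false

open Polynomial

noncomputable section

namespace Groth.Agent.H22Alg.SeqExt

variable {G H : Type*} [AddCommGroup G] [AddCommGroup H]

/-- The shift of sequences. -/
def shift : Module.End ℤ (ℕ → G) := LinearMap.funLeft ℤ G Nat.succ

theorem shift_pow (k : ℕ) : ∀ (f : ℕ → G) (m : ℕ), (shift (G := G) ^ k) f m = f (m + k) := by
  induction k with
  | zero => intro f m; rfl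
  | succ k ih =>
    intro f m
    rw [pow_succ, Module.End.mul_apply, ih]
    rfl

/-- Evaluation of a polynomial in the shift at zero. -/
def val (P : ℤ[X]) (f : ℕ → G) : G := aeval (shift (G := G)) P f 0

theorem val_monomial (m : ℕ) (a : ℤ) (f : ℕ → G) : val (monomial m a) f = a • f m := by
  rw [val, aeval_monomial, Module.End.mul_apply, Module.algebraMap_end_apply, Pi.smul_apply, shift_pow, zero_add]

theorem val_add_poly (P Q : ℤ[X]) (f : ℕ → G) : val (P + Q) f = val P f + val Q f := by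
  rw [val, map_add]; rfl

theorem val_sum {ι : Type*} (s : Finset ι) (P : ι → ℤ[X]) (f : ℕ → G) :
    val (∑ i ∈ s, P i) f = ∑ i ∈ s, val (P i) f := by
  classical
  induction s using Finset.induction_on with
  | empty => rw [Finset.sum_empty, Finset.sum_empty, val, map_zero]; rfl
  | insert a s ha ih => rw [Finset.sum_insert ha, Finset.sum_insert ha, val_add_poly, ih]

theorem val_add (P : ℤ[X]) (f g : ℕ → G) : val P (f + g) = val P f + val P g := by
  rw [val, map_add]; rfl

theorem val_mul (P Q : ℤ[X]) (f : ℕ → G) : val (P * Q) f = val P (aeval (shift (G := G)) Q f) := by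
  rw [val, map_mul]; rfl

theorem val_map (ψ : G →+ H) (P : ℤ[X]) (f : ℕ → G) : ψ (val P f) = val P (fun m => ψ (f m)) := by
  induction P using Polynomial.induction_on' with
  | add p q hp hq => rw [val_add_poly, val_add_poly, map_add, hp, hq]
  | monomial m a => rw [val_monomial, val_monomial, map_zsmul]

theorem val_one (f : ℕ → G) : val 1 f = f 0 := by
  rw [← monomial_zero_one, val_monomial, one_zsmul]

theorem aeval_apply (P : ℤ[X]) (f : ℕ → G) (k : ℕ) : aeval (shift (G := G)) P f k = val (X ^ k * P) f := by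
  rw [val, map_mul, map_pow, aeval_X, Module.End.mul_apply, shift_pow, zero_add]

theorem val_one_sub_X_pow (r m : ℕ) (f : ℕ → G) :
    val (X ^ m * (1 - X) ^ r) f = ∑ j ∈ Finset.range (r + 1), ((-1 : ℤ) ^ j * (r.choose j : ℤ)) • f (m + j) := by
  have h : X ^ m * (1 - X) ^ r = ∑ j ∈ Finset.range (r + 1), monomial (m + j) ((-1 : ℤ) ^ j * (r.choose j : ℤ)) := by
    rw [show (1 - X : ℤ[X]) = -X + 1 by ring, add_pow, Finset.mul_sum]
    refine Finset.sum_congr rfl fun j _ => ?_
    rw [← C_mul_X_pow_eq_monomial]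
    simp only [one_pow, mul_one, map_mul, map_pow, map_neg, map_one, map_natCast, neg_pow (X : ℤ[X]) j, pow_add]
    ring
  rw [h, val_sum]
  exact Finset.sum_congr rfl fun j _ => val_monomial _ _ _

/-- The sequence is killed by the `r`-th difference from `m₀` on. -/
def Rec (r m₀ : ℕ) (f : ℕ → G) : Prop := ∀ m, m₀ ≤ m → val (X ^ m * (1 - X) ^ r) f = 0

/-- The extended value at zero computed from the values from `N` on. -/
def ext (r N : ℕ) (f : ℕ → G) : G := val ((1 - (1 - X) ^ r) ^ N) f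

theorem exists_psi {r : ℕ} (hr : r ≠ 0) : ∃ Q : ℤ[X], (1 - (1 - X) ^ r : ℤ[X]) = X * Q :=
  X_dvd_iff.2 (by simp [coeff_zero_eq_eval_zero])

theorem ext_succ {r m₀ : ℕ} (hr : r ≠ 0) {f : ℕ → G} (h : Rec r m₀ f) {N : ℕ} (hN : m₀ ≤ N) :
    ext r (N + 1) f = ext r N f := by
  obtain ⟨Q, hQ⟩ := exists_psi hr
  have e : ((1 - (1 - X) ^ r) ^ N : ℤ[X]) = (1 - (1 - X) ^ r) ^ (N + 1) + Q ^ N * (X ^ N * (1 - X) ^ r) := by
    rw [← mul_assoc, ← mul_pow, mul_comm Q X, ← hQ]
    ring
  have hz : aeval (shift (G := G)) (X ^ N * (1 - X) ^ r : ℤ[X]) f = 0 := funext fun k => by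
    rw [aeval_apply, ← mul_assoc, ← pow_add]
    exact h _ (by omega)
  have h0 : val (Q ^ N) (0 : ℕ → G) = 0 := by rw [val, map_zero]; rfl
  rw [ext, ext, e, val_add_poly, val_mul (Q ^ N), hz, h0, add_zero]

theorem ext_eq {r m₀ : ℕ} (hr : r ≠ 0) {f : ℕ → G} (h : Rec r m₀ f) {N N' : ℕ} (hN : m₀ ≤ N) (hN' : m₀ ≤ N') :
    ext r N f = ext r N' f := by
  have key : ∀ k, ext r (m₀ + k) f = ext r m₀ f := fun k => by
    induction k with
    | zero => rfl
    | succ k ih => rw [← add_assoc, ext_succ hr h (by omega), ih]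
  obtain ⟨k, rfl⟩ := Nat.exists_eq_add_of_le hN
  obtain ⟨k', rfl⟩ := Nat.exists_eq_add_of_le hN'
  rw [key, key]

theorem ext_zero (r : ℕ) (f : ℕ → G) : ext r 0 f = f 0 := by rw [ext, pow_zero, val_one]

theorem ext_congr {r N : ℕ} (hr : r ≠ 0) {f g : ℕ → G} (h : ∀ m, N ≤ m → f m = g m) : ext r N f = ext r N g := by
  obtain ⟨Q, hQ⟩ := exists_psi hr
  rw [ext, ext, hQ, mul_pow, mul_comm (X ^ N) (Q ^ N), val_mul, val_mul]
  congr 1
  funext k
  rw [map_pow, aeval_X, shift_pow, shift_pow]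
  exact h _ (by omega)

theorem ext_add (r N : ℕ) (f g : ℕ → G) : ext r N (f + g) = ext r N f + ext r N g := val_add _ _ _

theorem ext_map (ψ : G →+ H) (r N : ℕ) (f : ℕ → G) : ψ (ext r N f) = ext r N (fun m => ψ (f m)) :=
  val_map ψ _ _

end Groth.Agent.H22Alg.SeqExt
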