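import Groth.Agent.H22Alg.KosLine
import Groth.Agent.H22Alg.ExactVanish
import Groth.Agent.H22Alg.SeqExt

/-! # Alternating sums of additive invariants along exact complexes and Koszul complexes. -/

set_option autoImplicit false
set_option linter.unusedSectionVars false

universe v u w

open CategoryTheory CategoryTheory.Limits ZeroObject

noncomputable section

namespace Groth.Agent.H22Alg.KTelescope

variable {C : Type u} [Category.{v} C] [Abelian C] {G : Type w} [AddCommGroup G] (Pr : C → Prop) (c : C → G)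

/-- `c` is additive on short exact sequences inside `Pr`. -/
def Additive : Prop :=
  ∀ S : ShortComplex C, S.ShortExact → Pr S.X₁ → Pr S.X₂ → Pr S.X₃ → c S.X₂ = c S.X₁ + c S.X₃

variable {Pr c}

theorem map_isZero (hc : Additive Pr c) {M : C} (hM : IsZero M) (h : Pr M) : c M = 0 := by
  have hS : (ShortComplex.mk (0 : M ⟶ M) (0 : M ⟶ M) (by simp)).ShortExact :=
    { exact := ShortComplex.exact_of_isZero_X₂ _ hM
      mono_f := ⟨fun _ _ _ => hM.eq_of_tgt _ _⟩
      epi_g := ⟨fun _ _ _ => hM.eq_of_src _ _⟩ }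
  exact left_eq_add.1 (hc _ hS h h h)

theorem map_iso (hc : Additive Pr c) (h0 : Pr 0) {M N : C} (e : M ≅ N) (hM : Pr M) (hN : Pr N) : c M = c N := by
  have hZ : IsZero (0 : C) := isZero_zero _
  have hS : (ShortComplex.mk (0 : (0 : C) ⟶ M) e.hom (by simp)).ShortExact :=
    { exact := (ShortComplex.exact_iff_mono _ rfl).2 inferInstance
      mono_f := ⟨fun _ _ _ => hZ.eq_of_tgt _ _⟩
      epi_g := inferInstance }
  have h2 : c M = c 0 + c N := hc _ hS h0 hM hN
  rw [map_isZero hc hZ h0, zero_add] at h2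
  exact h2

theorem map_biprod (hc : Additive Pr c) {M N : C} (hM : Pr M) (hN : Pr N) (h : Pr (M ⊞ N)) :
    c (M ⊞ N) = c M + c N :=
  hc _ (ShortComplex.Splitting.ofHasBinaryBiproduct M N).shortExact hM h hN

section Complex

variable {K : ℕ → C} {d : ∀ j, K j ⟶ K (j + 1)} (w : ∀ j, d j ≫ d (j + 1) = 0)
  (hex : ∀ j, (ShortComplex.mk (d j) (d (j + 1)) (w j)).Exact)

include hex in
theorem shortExact_cycles (j : ℕ) :
    (ShortComplex.mk (kernel.ι (d j)) (ExactVanish.toCycles w j)
      (by rw [← cancel_mono (kernel.ι (d (j + 1)))]; simp [ExactVanish.toCycles])).ShortExact where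
  exact := by
    refine ShortComplex.exact_of_f_is_kernel _ (KernelFork.IsLimit.ofι' _ _ fun {T} k hk => ?_)
    exact ⟨kernel.lift _ k (by
      have := hk =≫ kernel.ι (d (j + 1))
      simpa [ExactVanish.toCycles] using this), kernel.lift_ι _ _ _⟩
  mono_f := inferInstanceAs (Mono (kernel.ι (d j)))
  epi_g := (ShortComplex.exact_iff_epi_kernel_lift _).1 (hex j)

include hex in
/-- The alternating sum along an exact complex with cycles in `Pr` vanishes. -/
theorem sum_eq_zero (hc : Additive Pr c) (hd0 : Mono (d 0)) (r : ℕ) (hr : IsZero (K (r + 1)))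
    (hK : ∀ j, Pr (K j)) (hZ : ∀ j, Pr (kernel (d j))) :
    ∑ j ∈ Finset.range (r + 1), ((-1 : ℤ) ^ j) • c (K j) = 0 := by
  have h1 : ∀ j, c (K j) = c (kernel (d j)) + c (kernel (d (j + 1))) := fun j =>
    hc _ (shortExact_cycles w hex j) (hZ j) (hK j) (hZ (j + 1))
  have h2 : ∀ k, ∑ j ∈ Finset.range k, ((-1 : ℤ) ^ j) • c (K j) =
      c (kernel (d 0)) - ((-1 : ℤ) ^ k) • c (kernel (d k)) := fun k => by
    induction k with
    | zero => simp
    | succ k ih =>
      rw [Finset.sum_range_succ, ih, h1, pow_succ, smul_add, mul_neg, mul_one, neg_smul]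
      abel
  have hz0 : IsZero (kernel (d 0)) := (isZero_zero C).of_iso (kernel.ofMono (d 0))
  have hzr : IsZero (kernel (d (r + 1))) := hr.of_iso
    (kernelIsoOfEq (hr.eq_of_src (d (r + 1)) 0) ≪≫ kernelZeroIsoSource)
  rw [h2, map_isZero hc hz0 (hZ 0), map_isZero hc hzr (hZ (r + 1)), smul_zero, sub_zero]

include hex in
/-- Cycles belong to a class closed under kernels of epimorphisms. -/
theorem cycles_of_ker (h0 : ∀ M, IsZero M → Pr M)
    (hker : ∀ S : ShortComplex C, S.ShortExact → Pr S.X₂ → Pr S.X₃ → Pr S.X₁) (r : ℕ)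
    (hr : ∀ j, r < j → IsZero (K j)) (hK : ∀ j, Pr (K j)) (j : ℕ) : Pr (kernel (d j)) := by
  suffices h : ∀ e j, r < j + e → Pr (kernel (d j)) from h (r + 1) j (by omega)
  intro e
  induction e with
  | zero =>
    exact fun j hj => h0 _ ((hr j hj).of_iso (kernelIsoOfEq ((hr j hj).eq_of_src (d j) 0) ≪≫ kernelZeroIsoSource))
  | succ e ih =>
    exact fun j hj => hker _ (shortExact_cycles w hex j) (hK j) (ih (j + 1) (by omega))

end Complex

section Koszul

variable {A : ℕ → C} {x : ℕ → ∀ t, A t ⟶ A (t + 1)}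

/-- The invariant of a term of the Koszul complex. -/
theorem map_L (hc : Additive Pr c) (h0 : Pr 0) (hadd : ∀ M N, Pr M → Pr N → Pr (M ⊞ N)) :
    ∀ r t j, (∀ i, i ≤ r → Pr (A (t + i))) → c (KosLine.L A r t j) = (r.choose j : ℤ) • c (A (t + j))
  | 0, t, 0, _ => by simp [KosLine.L]
  | 0, t, j + 1, _ => by
    rw [show c (KosLine.L A 0 t (j + 1)) = 0 from map_isZero hc (isZero_zero C) h0]
    simp
  | r + 1, t, 0, h => by
    show c (KosLine.L A r t 0) = _
    rw [map_L hc h0 hadd r t 0 fun i hi => h i (by omega)]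
    simp
  | r + 1, t, j + 1, h => by
    have h₁ : ∀ i, i ≤ r → Pr (A (t + i)) := fun i hi => h i (by omega)
    have h₂ : ∀ i, i ≤ r → Pr (A (t + 1 + i)) := fun i hi => by
      rw [show t + 1 + i = t + (i + 1) by omega]; exact h _ (by omega)
    have p₁ := KosLine.mem_L Pr h0 hadd r t (j + 1) fun hj => h₁ _ hj
    have p₂ := KosLine.mem_L Pr h0 hadd r (t + 1) j fun hj => h₂ _ hj
    show c (KosLine.L A r t (j + 1) ⊞ KosLine.L A r (t + 1) j) = _
    rw [map_biprod hc p₁ p₂ (hadd _ _ p₁ p₂), map_L hc h0 hadd r t (j + 1) h₁, map_L hc h0 hadd r (t + 1) j h₂,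
      Nat.choose_succ_succ, Nat.cast_add, add_smul, show t + 1 + j = t + (j + 1) by omega, add_comm]

end Koszul

end Groth.Agent.H22Alg.KTelescope
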