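import Groth.Agent.H22Alg.KLFRes
import Groth.Agent.H22Alg.KTelescope

/-! # `K₀` of bundles is `K₀` of coherent modules with finite locally free resolutions. -/

set_option autoImplicit false
set_option linter.style.haveILetI false

universe v u w

open CategoryTheory CategoryTheory.Limits AlgebraicGeometry ZeroObject

noncomputable section

namespace Groth.Agent.H22Alg.KLFK0

open ResEuler KLFRes

variable {X : Scheme.{u}}

theorem clSub_add' {C : Type*} [Category C] [Abelian C] (P : ObjectProperty C) :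
    KTelescope.Additive P (KZero.clSub P) := fun S hS h₁ h₂ h₃ => by
  simp only [KZero.clSub, dif_pos h₁, dif_pos h₂, dif_pos h₃]
  rw [← sub_eq_zero, sub_add_eq_sub_sub, ← QuotientAddGroup.mk_sub, ← QuotientAddGroup.mk_sub]
  exact (QuotientAddGroup.eq_zero_iff _).mpr (AddSubgroup.subset_closure ⟨S, h₁, h₂, h₃, hS, rfl⟩)

theorem clSub_ext' {C : Type*} [Category C] [Abelian C] {P : ObjectProperty C} {G : Type*} [AddCommGroup G]
    {a b : KZero.K0sub P →+ G} (h : ∀ M, P M → a (KZero.clSub P M) = b (KZero.clSub P M)) : a = b := by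
  refine QuotientAddGroup.addMonoidHom_ext _ (FreeAbelianGroup.lift_ext _ _ fun E => ?_)
  have := h E.1 E.2
  rw [KZero.clSub, dif_pos E.2] at this
  exact this

theorem exists_lift' {C : Type*} [Category C] [Abelian C] {P : ObjectProperty C} {G : Type*} [AddCommGroup G]
    (c : C → G) (hc : KTelescope.Additive P c) :
    ∃ g : KZero.K0sub P →+ G, ∀ E, P E → g (KZero.clSub P E) = c E := by
  let f : FreeAbelianGroup (Subtype P) →+ G := FreeAbelianGroup.lift fun E => c E.1
  have hf : KZero.relSub P ≤ f.ker := by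
    refine (AddSubgroup.closure_le _).mpr ?_
    rintro _ ⟨S, h₁, h₂, h₃, hS, rfl⟩
    show f _ = 0
    simp only [f, map_sub, FreeAbelianGroup.lift_apply_of, hc S hS h₁ h₂ h₃]
    abel
  refine ⟨QuotientAddGroup.lift _ f hf, fun E hE => ?_⟩
  rw [KZero.clSub, dif_pos hE]
  exact FreeAbelianGroup.lift_apply_of _ _

variable [IsNoetherian X] (hX : KRR.HasEnoughLocFree X)
  (Q : ObjectProperty X.Modules) (hQ : ∀ M, Q M → Coh.IsCoh M) (hQr : ∀ M, Q M → KRR.HasLFRes M)
  (hval : ∀ (n : ℕ) (M : X.Modules) (a : SGA6.Kvb X), Val (vb X) (coh X) (KRR.cl X) n M a → Q M)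

include hX hQ hQr hval in
/-- The inclusion of bundles is bijective on `K₀` against any class of coherent modules consisting of all those
with finite resolutions. -/
theorem bijective_mapSub (h : ∀ M : X.Modules, FlatMod.IsFinLocFree M → Q M) :
    Function.Bijective (SGA6.mapSub (𝟭 X.Modules) (KRR.vbP X) Q h) := by
  classical
  have hc := ctxK hX
  have hex : ∀ M, Q M → ∃ n a, Val (vb X) (coh X) (KRR.cl X) n M a := fun M hM =>
    exists_val_of_hasLFRes hc (hQ M hM) (hQr M hM)
  choose nn aa haa using hex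
  let c : X.Modules → SGA6.Kvb X := fun M => if hM : Q M then aa M hM else 0
  have hcv : ∀ n M a, Val (vb X) (coh X) (KRR.cl X) n M a → c M = a := fun n M a hv => by
    simp only [c, dif_pos (hval n M a hv)]
    exact val_unique' hc (haa M _) hv
  obtain ⟨r, hr⟩ := exists_lift' (P := Q) c fun S hS h₁ h₂ h₃ => by
    let N := max (nn _ h₁) (max (nn _ h₂) (nn _ h₃))
    simp only [c, dif_pos h₁, dif_pos h₂, dif_pos h₃]
    exact val_add hc N S hS _ _ _ (val_mono hc (le_max_left _ _) (haa _ h₁))
      (val_mono hc ((le_max_left _ _).trans (le_max_right _ _)) (haa _ h₂))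
      (val_mono hc ((le_max_right _ _).trans (le_max_right _ _)) (haa _ h₃))
  let i := SGA6.mapSub (𝟭 X.Modules) (KRR.vbP X) Q h
  have hi : ∀ E, FlatMod.IsFinLocFree E → i (KRR.cl X E) = KZero.clSub Q E := fun E hE => by
    rw [KRR.cl, KZero.clSub, KZero.clSub, dif_pos (h E hE), dif_pos (show KRR.vbP X E from hE)]
    exact congrArg QuotientAddGroup.mk (FreeAbelianGroup.map_of_apply _)
  have key : ∀ n M a, Val (vb X) (coh X) (KRR.cl X) n M a → i a = KZero.clSub Q M := by
    intro n
    induction n with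
    | zero => intro M a ⟨_, hP, ha⟩; rw [ha, hi M hP]
    | succ n ih =>
      intro M a hv
      obtain ⟨hA, E, g, b, hE, hg, hK, rfl⟩ := hv
      have hM : Q M := hval (n + 1) M _ ⟨hA, E, g, b, hE, hg, hK, rfl⟩
      rw [map_sub, hi E hE, ih _ b hK, sub_eq_iff_eq_add, add_comm]
      exact clSub_add' Q _ (shortExact_kernel g) (hval n _ b hK) (h E hE) hM
  have h1 : r.comp i = AddMonoidHom.id _ := KModel.kvb_ext fun E hE => by
    rw [AddMonoidHom.comp_apply, hi E hE, hr E (h E hE), AddMonoidHom.id_apply]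
    exact hcv 0 E _ ⟨hc.le _ hE, hE, rfl⟩
  have h2 : i.comp r = AddMonoidHom.id _ := clSub_ext' fun M hM => by
    rw [AddMonoidHom.comp_apply, hr M hM, AddMonoidHom.id_apply]
    simp only [c, dif_pos hM]
    exact key _ M _ (haa M hM)
  exact ⟨fun a b hab => (DFunLike.congr_fun h1 a).symm.trans ((congrArg r hab).trans (DFunLike.congr_fun h1 b)),
    fun b => ⟨r b, DFunLike.congr_fun h2 b⟩⟩

end Groth.Agent.H22Alg.KLFK0
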