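import Groth.Agent.H22Alg.LamSpan
import Groth.Agent.H22Alg.ExtPowTwist
import Groth.Agent.H22Alg.KPullLam
import Groth.Agent.H22Alg.KAmple
import Groth.Agent.H22Alg.KIndep

/-! # `p_K` lowers the γ-filtration by at most `n`. -/

set_option autoImplicit false
set_option linter.style.haveILetI false

universe v u

open CategoryTheory CategoryTheory.Limits AlgebraicGeometry LambdaRing
attribute [local instance] HasDerivedCategory.standard

noncomputable section

namespace Groth.Agent.H22Alg.KPushFil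

section Line

variable {X : Scheme.{u}} {K : Type v} [CommRing K] [LambdaOps K] {P : PosStructure K} {φ : SGA6.Kvb X →+ K}

theorem isLine_cl (hK : KRR.IsModel X K P φ) {L : X.Modules} (hL : PicF.IsInvertible L) :
    P.IsLine (φ (KRR.cl X L)) :=
  ⟨(hK.mem_pos_iff _).2 ⟨1, L, le_rfl, KModel.finLocFreeOfRank_invertible hL, rfl⟩,
    by rw [hK.aug_cl 1 L (KModel.finLocFreeOfRank_invertible hL)]; rfl⟩

/-- `λ_t(x [L]) = λ_{[L] t}(x)` for an invertible `L`. -/
theorem lamSeries_mul_cl (hK : KRR.IsModel X K P φ) {L : X.Modules} (hL : PicF.IsInvertible L) (y : K) :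
    lamSeries (y * φ (KRR.cl X L)) = PowerSeries.rescale (φ (KRR.cl X L)) (lamSeries y) := by
  have hLf := KModel.finLocFree_invertible hL
  have key : ∀ e ∈ P.pos,
      lamSeries (e * φ (KRR.cl X L)) = PowerSeries.rescale (φ (KRR.cl X L)) (lamSeries e) := fun e he => by
    obtain ⟨n, E, -, hE', rfl⟩ := (hK.mem_pos_iff e).1 he
    have hE := KModel.finLocFree_of_rank hE'
    have hq := H8Props.FinLocFree.isQCoh_of_isFinLocFree _ hE
    have hEL := KModel.finLocFree_tensorMod hE hLf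
    refine PowerSeries.ext fun i => ?_
    rw [PowerSeries.coeff_rescale, H27Lambda.coeff_lamSeries, H27Lambda.coeff_lamSeries,
      ← KModel.map_tensorMod hK hE hLf]
    obtain ⟨M, hM⟩ := ExtPowSheaf.exists_isExtPow i hq
    obtain ⟨M', hM'⟩ := ExtPowSheaf.exists_isExtPow i (H8Props.FinLocFree.isQCoh_of_isFinLocFree _ hEL)
    obtain ⟨e⟩ := ExtPowTwist.nonempty_iso hq hL hM hM'
    have hMf := ExtPowHom.finLocFree_of_isExtPow hE hM
    have hM'f := ExtPowHom.finLocFree_of_isExtPow hEL hM'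
    rw [hK.map_lam i _ M' hEL hM'f hM', hK.map_lam i E M hE hMf hM, KModel.cl_iso e hM'f,
      KModel.map_tensorMod hK hMf (KModel.tensorPow_data hK hLf i).1, (KModel.tensorPow_data hK hLf i).2, mul_comm]
  obtain ⟨e, e', he, he', rfl⟩ := P.exists_sub y
  apply (H27Lambda.isUnit_lamSeries (e' * φ (KRR.cl X L))).mul_right_cancel
  rw [← H27Lambda.lamSeries_add, ← add_mul, sub_add_cancel, key e he, key e' he', ← map_mul,
    ← H27Lambda.lamSeries_add, sub_add_cancel]

end Line

variable {n : ℕ} {Y : Scheme.{u}} [IsNoetherian Y]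
  {KP : Type v} [CommRing KP] [LambdaOps KP] {PP : PosStructure KP} {φP : SGA6.Kvb (KRR.PY n Y) →+ KP}
  {KY : Type v} [CommRing KY] [LambdaOps KY] {PY : PosStructure KY} {φY : SGA6.Kvb Y →+ KY}
  (hKP : KRR.IsModel (KRR.PY n Y) KP PP φP) (hKY : KRR.IsModel Y KY PY φY)

include hKP hKY

theorem exists_pull : ∃ q : KY →+ KP, KRR.IsPull (KRR.pr n Y) φY φP q := by
  obtain ⟨a, ha⟩ := KModel.exists_lift (X := Y)
    (fun E => φP (KRR.cl _ ((Scheme.Modules.pullback (KRR.pr n Y)).obj E))) fun S hS h₁ h₂ h₃ => by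
      rw [← map_add]
      exact congrArg φP (KModel.cl_add (KModel.shortExact_pullback _ hS h₃)
        (H16Derived.KFlat.Stalk.isFinLocFree_pullback _ h₁) (H16Derived.KFlat.Stalk.isFinLocFree_pullback _ h₂)
        (H16Derived.KFlat.Stalk.isFinLocFree_pullback _ h₃))
  let eY := AddEquiv.ofBijective φY hKY.bijective
  refine ⟨a.comp eY.symm.toAddMonoidHom, fun E hE => ?_⟩
  show a (eY.symm (eY (KRR.cl Y E))) = _
  rw [AddEquiv.symm_apply_apply]
  exact ha E hE

omit hKY in
/-- The class of `O(1)`. -/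
theorem twist_cl (j : ℕ) :
    φP (KRR.cl _ (Twist.twistOver n Y (j : ℤ))) = φP (KRR.cl _ (Twist.twistOver n Y 1)) ^ j := by
  have h1 := KModel.finLocFree_invertible (RegSheaf.isInvertible_twistOver (n := n) (T := Y) 1)
  obtain ⟨h, he⟩ := KModel.tensorPow_data hKP h1 j
  obtain ⟨e⟩ := RegBundle.nonempty_tensorPow_twist (n := n) (Y := Y) j
  rw [← he, KModel.cl_iso e h]

omit hKY in
theorem cl_twF (j : ℕ) {M : (KRR.PY n Y).Modules} (hM : FlatMod.IsFinLocFree M) :
    φP (KRR.cl _ (KRR.twF n Y (j : ℤ) M)) = φP (KRR.cl _ M) * φP (KRR.cl _ (Twist.twistOver n Y 1)) ^ j := by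
  rw [← twist_cl hKP, mul_comm, hKP.map_mul _ _ (PnVan.finLocFree_of_inv (RegSheaf.isInvertible_twistOver _)) hM]
  rfl

omit hKY in
theorem relation : (φP (KRR.cl _ (Twist.twistOver n Y 1)) - 1) ^ (n + 1) = 0 := by
  let l := φP (KRR.cl _ (Twist.twistOver n Y 1))
  have hO := KPush.finLocFree_structure (KRR.PY n Y)
  have h := congrArg φP (KReg.rec_fK hO 0 (Nat.zero_le 0))
  rw [map_zero, SeqExt.val_map φP] at h
  have hval : ∀ p : Polynomial ℤ, SeqExt.val p (fun k => l ^ k) = Polynomial.aeval l p := fun p => by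
    induction p using Polynomial.induction_on' with
    | add a b ha hb => rw [SeqExt.val_add_poly, map_add, ha, hb]
    | monomial k a => rw [SeqExt.val_monomial, Polynomial.aeval_monomial, algebraMap_int_eq, eq_intCast, zsmul_eq_mul]
  have hf : (fun k => φP (KReg.fK n Y (Coh.structureModule (KRR.PY n Y)) k)) = fun k => l ^ k := funext fun k => by
    show φP (KRR.cl _ (KRR.twF n Y (k : ℤ) _)) = _
    rw [cl_twF hKP k hO, hKP.map_one, one_mul]
  rw [hf, hval] at h
  simp only [map_pow, Polynomial.aeval_X, map_sub, map_one, pow_zero, one_mul] at h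
  rw [show l - 1 = -(1 - l) by ring, neg_pow, h, mul_zero]

theorem span_eq_top {q : KY →+ KP} (hq : KRR.IsPull (KRR.pr n Y) φY φP q) :
    AddSubgroup.closure {z | ∃ (a : KY) (j : ℕ),
      z = KPullLam.ringHom hKP hKY hq a * φP (KRR.cl _ (Twist.twistOver n Y 1)) ^ j} = ⊤ := by
  set S := AddSubgroup.closure {z | ∃ (a : KY) (j : ℕ),
      z = KPullLam.ringHom hKP hKY hq a * φP (KRR.cl _ (Twist.twistOver n Y 1)) ^ j}
  have h : (QuotientAddGroup.mk' S).comp φP = 0 := KIndep.ext_twist fun k E hE => by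
    rw [AddMonoidHom.zero_apply, AddMonoidHom.comp_apply, QuotientAddGroup.mk'_apply, QuotientAddGroup.eq_zero_iff,
      cl_twF hKP k (H16Derived.KFlat.Stalk.isFinLocFree_pullback _ hE), ← hq E hE]
    exact AddSubgroup.subset_closure ⟨_, k, rfl⟩
  rw [eq_top_iff]
  intro z _
  obtain ⟨z₀, rfl⟩ := hKP.bijective.2 z
  exact (QuotientAddGroup.eq_zero_iff _).1 (DFunLike.congr_fun h z₀)

theorem push_gammaFiltration [Nonempty ↥(KRR.PY n Y)] [Nonempty ↥Y] (g : KP →+ KY)
    (hproj : ∀ (q : KY →+ KP), KRR.IsPull (KRR.pr n Y) φY φP q → ∀ x y, g (x * q y) = g x * y)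
    {k : ℕ} {x : KP} (hx : x ∈ gammaFiltration PP k) : g x ∈ gammaFiltration PY (k - n) := by
  obtain ⟨q, hq⟩ := exists_pull hKP hKY
  have hO1 := RegSheaf.isInvertible_twistOver (n := n) (T := Y) 1
  refine LamSpan.map_gammaFiltration (P := PY) (PA := PP) (KPullLam.ringHom hKP hKY hq)
    (φP (KRR.cl _ (Twist.twistOver n Y 1))) (KPullLam.isLambdaHom hKP hKY hq)
    (fun a => KPullLam.map_aug hKP hKY hq a) (isLine_cl hKP hO1) (fun j y => ?_) (span_eq_top hKP hKY hq)
    n (relation hKP) g (fun a b => hproj q hq a b) hx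
  rw [← twist_cl hKP j]
  exact lamSeries_mul_cl hKP (RegSheaf.isInvertible_twistOver _) y

end Groth.Agent.H22Alg.KPushFil
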