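import Groth.Agent.H22Alg.RegBundle
import Groth.Agent.H22Alg.KTelescope
import Groth.Agent.H22Alg.KModel

/-! # K₀ of regular bundles on P^n_Y is K₀ of all bundles; push-forward. -/

set_option autoImplicit false
set_option linter.style.haveILetI false

universe v u

open CategoryTheory CategoryTheory.Limits AlgebraicGeometry ZeroObject
open Groth.Agent.H11Tilde Groth.Agent.H11Ample
attribute [local instance] HasDerivedCategory.standard
attribute [local instance 10000] Groth.Agent.H10Coh.hasSheafifyAb Groth.Agent.H10Coh.hasWeakSheafifyAb Groth.Agent.H10Coh.hasExtAb Groth.Agent.H10Coh.enoughInjAb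

noncomputable section

namespace Groth.Agent.H22Alg.KReg

variable {n : ℕ} {Y : Scheme.{u}}

variable (n Y) in
/-- Regular bundles. -/
abbrev regP : ObjectProperty (KRR.PY n Y).Modules :=
  fun M => FlatMod.IsFinLocFree M ∧ KRR.IsRegSheaf n Y M

theorem clSub_add {C : Type*} [Category C] [Abelian C] (P : ObjectProperty C) :
    KTelescope.Additive P (KZero.clSub P) := fun S hS h₁ h₂ h₃ => by
  simp only [KZero.clSub, dif_pos h₁, dif_pos h₂, dif_pos h₃]
  rw [← sub_eq_zero, sub_add_eq_sub_sub, ← QuotientAddGroup.mk_sub, ← QuotientAddGroup.mk_sub]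
  exact (QuotientAddGroup.eq_zero_iff _).mpr (AddSubgroup.subset_closure ⟨S, h₁, h₂, h₃, hS, rfl⟩)

theorem clSub_ext {C : Type*} [Category C] [Abelian C] {P : ObjectProperty C} {G : Type*} [AddCommGroup G]
    {a b : KZero.K0sub P →+ G} (h : ∀ M, P M → a (KZero.clSub P M) = b (KZero.clSub P M)) : a = b := by
  refine QuotientAddGroup.addMonoidHom_ext _ (FreeAbelianGroup.lift_ext _ _ fun E => ?_)
  have := h E.1 E.2
  rw [KZero.clSub, dif_pos E.2] at this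
  exact this

theorem exists_lift_sub {C : Type*} [Category C] [Abelian C] {P : ObjectProperty C} {G : Type*} [AddCommGroup G]
    (c : C → G) (hc : KTelescope.Additive P c) :
    ∃ g : KZero.K0sub P →+ G, ∀ E, P E → g (KZero.clSub P E) = c E := by
  let f : FreeAbelianGroup (Subtype P) →+ G := FreeAbelianGroup.lift fun E => c E.1
  have hf : KZero.relSub P ≤ f.ker := by
    refine (AddSubgroup.closure_le _).mpr ?_
    rintro _ ⟨S, h₁, h₂, h₃, hS, rfl⟩
    show f _ = 0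
    simp only [f, map_sub, FreeAbelianGroup.lift_apply_of, hc S hS h₁ h₂ h₃]
    abel
  refine ⟨QuotientAddGroup.lift _ f hf, fun E hE => ?_⟩
  rw [KZero.clSub, dif_pos hE]
  exact FreeAbelianGroup.lift_apply_of _ _

theorem zero_twF (d : ℤ) {M : (KRR.PY n Y).Modules} (h : IsZero M) : IsZero (KRR.twF n Y d M) :=
  Functor.map_isZero ((DCoh.tensorBi (X := KRR.PY n Y)).obj (Twist.twistOver n Y d)) h

theorem reg_of_isZero {M : (KRR.PY n Y).Modules} (h : IsZero M) : KRR.IsRegSheaf n Y M := fun i _ =>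
  CMReg.van_iso ((isZero_zero _).iso (zero_twF (-(i : ℤ)) h)) CMReg.van_zero

theorem biprod_split (M N : (KRR.PY n Y).Modules) :
    (ShortComplex.mk (biprod.inl : M ⟶ M ⊞ N) biprod.snd biprod.inl_snd).ShortExact :=
  (ShortComplex.Splitting.ofHasBinaryBiproduct M N).shortExact

theorem reg_biprod {M N : (KRR.PY n Y).Modules} (hM : KRR.IsRegSheaf n Y M) (hN : KRR.IsRegSheaf n Y N) :
    KRR.IsRegSheaf n Y (M ⊞ N) :=
  RegSheaf.reg_mid (S := ShortComplex.mk (biprod.inl : M ⟶ M ⊞ N) biprod.snd biprod.inl_snd) (biprod_split M N) hM hN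

theorem regP_of_isZero {M : (KRR.PY n Y).Modules} (h : IsZero M) : regP n Y M :=
  ⟨H16Derived.KFlat.Stalk.isFinLocFree_of_isZero h, reg_of_isZero h⟩

theorem regP_biprod {M N : (KRR.PY n Y).Modules} (hM : regP n Y M) (hN : regP n Y N) : regP n Y (M ⊞ N) :=
  ⟨H16Derived.KFlat.Stalk.isFinLocFree_biprod hM.1 hN.1,
    reg_biprod hM.2 hN.2⟩

theorem finLocFree_B {G : (KRR.PY n Y).Modules} (hG : FlatMod.IsFinLocFree G) :
    ∀ t, FlatMod.IsFinLocFree (CMReg.B n Y G t)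
  | 0 => hG
  | t + 1 => H16Derived.KFlat.Stalk.isFinLocFree_tensor (finLocFree_B hG t)
      (PnVan.finLocFree_of_inv (RegSheaf.isInvertible_twistOver (n := n) (T := Y) 1))

theorem finLocFree_L {G : (KRR.PY n Y).Modules} (hG : FlatMod.IsFinLocFree G) (t j : ℕ) :
    FlatMod.IsFinLocFree (KosLine.L (CMReg.B n Y G) (n + 1) t j) :=
  KosLine.mem_L _ (H16Derived.KFlat.Stalk.isFinLocFree_of_isZero (isZero_zero _))
    (fun _ _ => H16Derived.KFlat.Stalk.isFinLocFree_biprod) _ t j fun _ => finLocFree_B hG _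

theorem finLocFree_cycles {G : (KRR.PY n Y).Modules} (hG : FlatMod.IsFinLocFree G) (t j : ℕ) :
    FlatMod.IsFinLocFree (kernel (CMReg.dd n Y G t j)) :=
  KTelescope.cycles_of_ker (Pr := fun M => FlatMod.IsFinLocFree M) (CMReg.dd_comp G t) (CMReg.dd_exact G t).2
    (fun _ => H16Derived.KFlat.Stalk.isFinLocFree_of_isZero)
    (fun _ hS => H16Derived.KFlat.Stalk.isFinLocFree_left hS) (n + 1)
    (fun j hj => KosLine.isZero_L _ _ _ hj) (finLocFree_L hG t) j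

theorem reg_step {K : ℕ → (KRR.PY n Y).Modules} {d : ∀ j, K j ⟶ K (j + 1)} (w : ∀ j, d j ≫ d (j + 1) = 0)
    (hex : ∀ j, (ShortComplex.mk (d j) (d (j + 1)) (w j)).Exact) (j : ℕ) (h₂ : KRR.IsRegSheaf n Y (K j))
    (h₁ : KRR.IsRegSheaf n Y (kernel (d j))) : KRR.IsRegSheaf n Y (kernel (d (j + 1))) := by
  have h₁' : KRR.IsRegSheaf n Y (KRR.twF n Y 1 (kernel (d j))) := CMReg.reg_twist_one h₁
  exact RegSheaf.reg_right (S := ShortComplex.mk (kernel.ι (d j)) (ExactVanish.toCycles w j)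
    (by rw [← cancel_mono (kernel.ι (d (j + 1)))]; simp [ExactVanish.toCycles]))
    (KTelescope.shortExact_cycles w hex j) h₂ h₁'

theorem regP_cycles {G : (KRR.PY n Y).Modules} (hG : FlatMod.IsFinLocFree G) (t : ℕ)
    (hreg : ∀ i, i ≤ n + 1 → KRR.IsRegSheaf n Y (CMReg.B n Y G (t + i))) :
    ∀ j, regP n Y (kernel (CMReg.dd n Y G t j))
  | 0 => haveI := (CMReg.dd_exact G t).1
      regP_of_isZero ((isZero_zero _).of_iso (kernel.ofMono _))
  | j + 1 => ⟨finLocFree_cycles hG t (j + 1), reg_step (CMReg.dd_comp G t) (CMReg.dd_exact G t).2 j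
      (KosLine.mem_L (regP n Y) (regP_of_isZero (isZero_zero _)) (fun _ _ => regP_biprod) (n + 1) t j
        fun hj => ⟨finLocFree_B hG _, hreg _ hj⟩).2
      (regP_cycles hG t hreg j).2⟩

theorem koszul_sum {A : Type*} [AddCommGroup A] (Pr : (KRR.PY n Y).Modules → Prop) (c : (KRR.PY n Y).Modules → A)
    (hc : KTelescope.Additive Pr c) (h0 : ∀ M, IsZero M → Pr M) (hadd : ∀ M N, Pr M → Pr N → Pr (M ⊞ N))
    (E : (KRR.PY n Y).Modules) (m : ℕ) (hB : ∀ i, i ≤ n + 1 → Pr (CMReg.B n Y (KRR.twF n Y (m : ℤ) E) i))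
    (hT : ∀ i, i ≤ n + 1 → Pr (KRR.twF n Y ((m + i : ℕ) : ℤ) E))
    (hZ : ∀ j, Pr (kernel (CMReg.dd n Y (KRR.twF n Y (m : ℤ) E) 0 j))) :
    SeqExt.val (Polynomial.X ^ m * (1 - Polynomial.X) ^ (n + 1)) (fun k => c (KRR.twF n Y (k : ℤ) E)) = 0 := by
  have hz := isZero_zero (KRR.PY n Y).Modules
  have h := KTelescope.sum_eq_zero (Pr := Pr) (c := c) (CMReg.dd_comp _ 0) (CMReg.dd_exact (KRR.twF n Y (m : ℤ) E) 0).2 hc
    (CMReg.dd_exact _ 0).1 (n + 1) (KosLine.isZero_L _ _ _ (Nat.lt_succ_self _))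
    (fun j => KosLine.mem_L Pr (h0 _ hz) hadd (n + 1) 0 j fun hj => by rw [Nat.zero_add]; exact hB j hj) hZ
  rw [SeqExt.val_one_sub_X_pow]
  refine (Finset.sum_congr rfl fun j hj => ?_).trans h
  have hj' : j ≤ n + 1 := Nat.le_of_lt_succ (Finset.mem_range.1 hj)
  rw [KTelescope.map_L hc (h0 _ hz) hadd (n + 1) 0 j (fun i hi => by rw [Nat.zero_add]; exact hB i hi), Nat.zero_add,
    mul_smul]
  obtain ⟨e⟩ := CMReg.nonempty_B_iso E (m : ℤ) j ((m + j : ℕ) : ℤ) (by push_cast; ring)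
  rw [KTelescope.map_iso hc (h0 _ hz) e (hB j hj') (hT j hj')]

theorem reg_B {E : (KRR.PY n Y).Modules} {m : ℕ} (h : ∀ k, m ≤ k → KRR.IsRegSheaf n Y (KRR.twF n Y (k : ℤ) E))
    (i : ℕ) : KRR.IsRegSheaf n Y (CMReg.B n Y (KRR.twF n Y (m : ℤ) E) i) := by
  obtain ⟨e⟩ := CMReg.nonempty_B_iso E (m : ℤ) i ((m + i : ℕ) : ℤ) (by push_cast; ring)
  intro a ha
  exact CMReg.van_iso (((DCoh.tensorBi (X := KRR.PY n Y)).obj (Twist.twistOver n Y (-(a : ℤ)))).mapIso e.symm)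
    (h (m + i) (by omega) a ha)

variable (n Y) in
/-- Classes of twists. -/
def fK (E : (KRR.PY n Y).Modules) (k : ℕ) : SGA6.Kvb (KRR.PY n Y) :=
  KRR.cl (KRR.PY n Y) (KRR.twF n Y (k : ℤ) E)

variable (n Y) in
/-- Classes of twists among regular bundles. -/
def fR (E : (KRR.PY n Y).Modules) (k : ℕ) : KZero.K0sub (regP n Y) :=
  KZero.clSub (regP n Y) (KRR.twF n Y (k : ℤ) E)

theorem rec_fK {E : (KRR.PY n Y).Modules} (hE : FlatMod.IsFinLocFree E) :
    SeqExt.Rec (n + 1) 0 (fK n Y E) := fun m _ =>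
  koszul_sum _ _ (clSub_add (KRR.vbP (KRR.PY n Y))) (fun _ => H16Derived.KFlat.Stalk.isFinLocFree_of_isZero)
    (fun _ _ => H16Derived.KFlat.Stalk.isFinLocFree_biprod) E m
    (fun i _ => finLocFree_B (RegBundle.finLocFree_twF _ hE) i) (fun i _ => RegBundle.finLocFree_twF _ hE)
    (fun j => finLocFree_cycles (RegBundle.finLocFree_twF _ hE) 0 j)

theorem rec_fR {E : (KRR.PY n Y).Modules} (hE : FlatMod.IsFinLocFree E) {m₀ : ℕ}
    (h : ∀ k, m₀ ≤ k → KRR.IsRegSheaf n Y (KRR.twF n Y (k : ℤ) E)) :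
    SeqExt.Rec (n + 1) m₀ (fR n Y E) := fun m hm =>
  koszul_sum _ _ (clSub_add (regP n Y)) (fun _ => regP_of_isZero) (fun _ _ => regP_biprod) E m
    (fun i _ => ⟨finLocFree_B (RegBundle.finLocFree_twF _ hE) i, reg_B (fun k hk => h k (hm.trans hk)) i⟩)
    (fun i _ => ⟨RegBundle.finLocFree_twF _ hE, h _ (by omega)⟩)
    (fun j => regP_cycles (RegBundle.finLocFree_twF _ hE) 0
      (fun i _ => by rw [Nat.zero_add]; exact reg_B (fun k hk => h k (hm.trans hk)) i) j)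

variable (n Y) in
/-- The inclusion. -/
abbrev incl (h : ∀ M : (KRR.PY n Y).Modules, regP n Y M → FlatMod.IsFinLocFree M) :
    KZero.K0sub (regP n Y) →+ SGA6.Kvb (KRR.PY n Y) :=
  SGA6.mapSub (𝟭 (KRR.PY n Y).Modules) (regP n Y) (KRR.vbP (KRR.PY n Y)) h

theorem incl_cls (h : ∀ M : (KRR.PY n Y).Modules, regP n Y M → FlatMod.IsFinLocFree M) {M : (KRR.PY n Y).Modules}
    (hM : regP n Y M) : incl n Y h (KZero.clSub (regP n Y) M) = KRR.cl (KRR.PY n Y) M := by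
  rw [KRR.cl, KZero.clSub, KZero.clSub, dif_pos hM, dif_pos (show KRR.vbP _ M from hM.1)]
  exact congrArg QuotientAddGroup.mk (FreeAbelianGroup.map_of_apply _)

/-- Twisting preserves short exactness. -/
theorem fR_add {S : ShortComplex (KRR.PY n Y).Modules} (hS : S.ShortExact) (k : ℕ)
    (h : ∀ M ∈ [S.X₁, S.X₂, S.X₃], regP n Y (KRR.twF n Y (k : ℤ) M)) :
    fR n Y S.X₂ k = fR n Y S.X₁ k + fR n Y S.X₃ k :=
  clSub_add (regP n Y) _ (RegSheaf.shortExact_twist (k : ℤ) hS) (h _ (by simp)) (h _ (by simp)) (h _ (by simp))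

theorem shortExact_push {S : ShortComplex (KRR.PY n Y).Modules} (hS : S.ShortExact)
    (h₁ : CMReg.Van 1 S.X₁) : (S.map (Scheme.Modules.pushforward (KRR.pr n Y))).ShortExact := by
  haveI : (Scheme.Modules.pushforward (KRR.pr n Y)).IsRightAdjoint :=
    (Scheme.Modules.pullbackPushforwardAdjunction (KRR.pr n Y)).isRightAdjoint
  haveI : Epi ((Scheme.Modules.pushforward (KRR.pr n Y)).map S.g) := by
    haveI : Epi ((H10Coh.shF Y).map ((Scheme.Modules.pushforward (KRR.pr n Y)).map S.g)) :=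
      ExactVanish.epi_map_g (Coh.pushAb (KRR.pr n Y)) (RegSheaf.shortExact_toAb hS) h₁
    exact (H10Coh.shF Y).epi_of_epi_map ‹_›
  exact
    { exact := hS.exact.map_of_mono_of_preservesKernel _ hS.mono_f inferInstance
      mono_f := by
        haveI := hS.mono_f
        exact inferInstanceAs (Mono ((Scheme.Modules.pushforward (KRR.pr n Y)).map S.f))
      epi_g := ‹_› }

variable [IsNoetherian Y]

variable (n Y) in
theorem exists_retract : ∃ r : SGA6.Kvb (KRR.PY n Y) →+ KZero.K0sub (regP n Y),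
    ∀ E, FlatMod.IsFinLocFree E → ∃ N₀ : ℕ,
      (∀ k, N₀ ≤ k → KRR.IsRegSheaf n Y (KRR.twF n Y (k : ℤ) E)) ∧
      ∀ N, N₀ ≤ N → r (KRR.cl _ E) = SeqExt.ext (n + 1) N (fR n Y E) := by
  classical
  have hex : ∀ E : (KRR.PY n Y).Modules, FlatMod.IsFinLocFree E →
      ∃ m₀ : ℕ, ∀ k, m₀ ≤ k → KRR.IsRegSheaf n Y (KRR.twF n Y (k : ℤ) E) :=
    fun E hE => RegBundle.exists_reg_twist (RegBundle.isCoh_vb hE)
  choose m₀ hm₀ using hex
  let c : (KRR.PY n Y).Modules → KZero.K0sub (regP n Y) := fun E =>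
    if h : FlatMod.IsFinLocFree E then SeqExt.ext (n + 1) (m₀ E h) (fR n Y E) else 0
  obtain ⟨r, hr⟩ := KModel.exists_lift c fun S hS h₁ h₂ h₃ => by
    let N := max (m₀ _ h₁) (max (m₀ _ h₂) (m₀ _ h₃))
    have l₁ : m₀ _ h₁ ≤ N := le_max_left _ _
    have l₂ : m₀ _ h₂ ≤ N := (le_max_left _ _).trans (le_max_right _ _)
    have l₃ : m₀ _ h₃ ≤ N := (le_max_right _ _).trans (le_max_right _ _)
    simp only [c, dif_pos h₁, dif_pos h₂, dif_pos h₃]
    rw [SeqExt.ext_eq n.succ_ne_zero (rec_fR h₁ (hm₀ _ h₁)) le_rfl l₁,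
      SeqExt.ext_eq n.succ_ne_zero (rec_fR h₂ (hm₀ _ h₂)) le_rfl l₂,
      SeqExt.ext_eq n.succ_ne_zero (rec_fR h₃ (hm₀ _ h₃)) le_rfl l₃, ← SeqExt.ext_add]
    refine SeqExt.ext_congr n.succ_ne_zero fun k hk => fR_add hS k fun M hM => ?_
    simp only [List.mem_cons, List.not_mem_nil, or_false] at hM
    rcases hM with rfl | rfl | rfl
    · exact ⟨RegBundle.finLocFree_twF _ h₁, hm₀ _ h₁ k (l₁.trans hk)⟩
    · exact ⟨RegBundle.finLocFree_twF _ h₂, hm₀ _ h₂ k (l₂.trans hk)⟩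
    · exact ⟨RegBundle.finLocFree_twF _ h₃, hm₀ _ h₃ k (l₃.trans hk)⟩
  refine ⟨r, fun E hE => ⟨m₀ E hE, hm₀ E hE, fun N hN => ?_⟩⟩
  rw [hr E hE]
  simp only [c, dif_pos hE]
  exact SeqExt.ext_eq n.succ_ne_zero (rec_fR hE (hm₀ E hE)) le_rfl hN

theorem retract_cls {r : SGA6.Kvb (KRR.PY n Y) →+ KZero.K0sub (regP n Y)}
    (hr : ∀ E, FlatMod.IsFinLocFree E → ∃ N₀ : ℕ,
      (∀ k, N₀ ≤ k → KRR.IsRegSheaf n Y (KRR.twF n Y (k : ℤ) E)) ∧
      ∀ N, N₀ ≤ N → r (KRR.cl _ E) = SeqExt.ext (n + 1) N (fR n Y E)) {E : (KRR.PY n Y).Modules}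
    (hE : regP n Y E) : r (KRR.cl _ E) = KZero.clSub (regP n Y) E := by
  obtain ⟨N₀, -, h⟩ := hr E hE.1
  have h0 : ∀ k : ℕ, (0 : ℕ) ≤ k → KRR.IsRegSheaf n Y (KRR.twF n Y (k : ℤ) E) := fun k _ => CMReg.reg_twist hE.2 k
  rw [h N₀ le_rfl, SeqExt.ext_eq n.succ_ne_zero (rec_fR hE.1 h0) (Nat.zero_le _) le_rfl, SeqExt.ext_zero]
  obtain ⟨e⟩ := RegSheaf.nonempty_twF_zero (n := n) (T := Y) E
  exact KTelescope.map_iso (clSub_add (regP n Y)) (regP_of_isZero (isZero_zero _)) e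
    ⟨RegBundle.finLocFree_twF _ hE.1, h0 0 le_rfl⟩ hE

/-- The inclusion of regular bundles is bijective on K₀. -/
theorem bijective_incl (h : ∀ M : (KRR.PY n Y).Modules, regP n Y M → FlatMod.IsFinLocFree M) :
    Function.Bijective (incl n Y h) := by
  obtain ⟨r, hr⟩ := exists_retract n Y
  have h1 : r.comp (incl n Y h) = AddMonoidHom.id _ := clSub_ext fun M hM => by
    rw [AddMonoidHom.comp_apply, incl_cls h hM, retract_cls hr hM, AddMonoidHom.id_apply]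
  have h2 : (incl n Y h).comp r = AddMonoidHom.id _ := KModel.kvb_ext fun E hE => by
    obtain ⟨N₀, hreg, hN⟩ := hr E hE
    rw [AddMonoidHom.comp_apply, hN N₀ le_rfl, SeqExt.ext_map, AddMonoidHom.id_apply]
    have hf : SeqExt.ext (n + 1) N₀ (fun k => incl n Y h (fR n Y E k)) = SeqExt.ext (n + 1) N₀ (fK n Y E) :=
      SeqExt.ext_congr n.succ_ne_zero fun k hk => incl_cls h ⟨RegBundle.finLocFree_twF _ hE, hreg k hk⟩
    rw [hf, SeqExt.ext_eq n.succ_ne_zero (rec_fK hE) (Nat.zero_le _) le_rfl, SeqExt.ext_zero]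
    obtain ⟨e⟩ := RegSheaf.nonempty_twF_zero (n := n) (T := Y) E
    exact KModel.cl_iso e (RegBundle.finLocFree_twF _ hE)
  exact ⟨fun a b hab => (DFunLike.congr_fun h1 a).symm.trans ((congrArg r hab).trans (DFunLike.congr_fun h1 b)),
    fun b => ⟨r b, DFunLike.congr_fun h2 b⟩⟩

variable (n Y) in
/-- The push-forward on K₀ exists. -/
theorem exists_push : ∃ g : SGA6.Kvb (KRR.PY n Y) →+ SGA6.Kvb Y,
    ∀ E, FlatMod.IsFinLocFree E → KRR.IsRegSheaf n Y E →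
      g (KRR.cl _ E) = KRR.cl Y ((Scheme.Modules.pushforward (KRR.pr n Y)).obj E) := by
  obtain ⟨g₀, hg₀⟩ := exists_lift_sub (P := regP n Y)
    (fun M => KRR.cl Y ((Scheme.Modules.pushforward (KRR.pr n Y)).obj M)) fun S hS h₁ h₂ h₃ =>
      KModel.cl_add (shortExact_push hS (CMReg.van_self h₁.2 le_rfl)) (RegBundle.finLocFree_push h₁.1 h₁.2)
        (RegBundle.finLocFree_push h₂.1 h₂.2) (RegBundle.finLocFree_push h₃.1 h₃.2)
  obtain ⟨r, hr⟩ := exists_retract n Y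
  exact ⟨g₀.comp r, fun E hE hreg => by
    rw [AddMonoidHom.comp_apply, retract_cls hr ⟨hE, hreg⟩, hg₀ E ⟨hE, hreg⟩]⟩

end Groth.Agent.H22Alg.KReg
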