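import Groth.Agent.H22Alg.KPushVal
import Groth.Agent.H26Smooth.ProjSmooth
import Groth.Agent.H22Alg.PullVb

/-! # p_K ∘ s_K = id for a section s of P^n_Y. -/

set_option autoImplicit false
set_option linter.style.haveILetI false

universe v u w

open CategoryTheory CategoryTheory.Limits AlgebraicGeometry ZeroObject
attribute [local instance] HasDerivedCategory.standard
attribute [local instance 10000] Groth.Agent.H10Coh.hasSheafifyAb Groth.Agent.H10Coh.hasWeakSheafifyAb Groth.Agent.H10Coh.hasExtAb Groth.Agent.H10Coh.enoughInjAb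

noncomputable section

namespace Groth.Agent.H22Alg.KSection

open ResEuler KLFRes

variable {n : ℕ} {Y : Scheme.{u}} (s : Y ⟶ KRR.PY n Y)

theorem isClosedImmersion_section (hs : s ≫ KRR.pr n Y = 𝟙 Y) : IsClosedImmersion s := by
  haveI := CMKer.isProper_pr n Y
  haveI : IsClosedImmersion (s ≫ KRR.pr n Y) := by rw [hs]; infer_instance
  exact IsClosedImmersion.of_comp s (KRR.pr n Y)

theorem isNoetherian_PY (n : ℕ) (Y : Scheme.{u}) [IsNoetherian Y] : IsNoetherian (KRR.PY n Y) := by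
  haveI := CMKer.isProper_pr n Y
  haveI : IsLocallyNoetherian (KRR.PY n Y) := LocallyOfFiniteType.isLocallyNoetherian (KRR.pr n Y)
  haveI : CompactSpace ↥(KRR.PY n Y) := QuasiCompact.compactSpace_of_compactSpace (KRR.pr n Y)
  constructor

/-- Enough bundles descend along a section. -/
theorem hasEnoughLocFree_of_section [IsNoetherian Y] (hs : s ≫ KRR.pr n Y = 𝟙 Y)
    (hPe : KRR.HasEnoughLocFree (KRR.PY n Y)) : KRR.HasEnoughLocFree Y := fun G hG => by
  haveI := isClosedImmersion_section s hs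
  obtain ⟨E, q, hE, hq⟩ := hPe _ (H24FSch.isCoh_pushforward_of_isClosedImmersion s hG)
  haveI : (Scheme.Modules.pullback s).IsLeftAdjoint :=
    (Scheme.Modules.pullbackPushforwardAdjunction s).isLeftAdjoint
  haveI := hq
  haveI := H16Derived.ProjFormula.isIso_counit_of_isClosedImmersion s G
  exact ⟨(Scheme.Modules.pullback s).obj E,
    (Scheme.Modules.pullback s).map q ≫ (Scheme.Modules.pullbackPushforwardAdjunction s).counit.app G,
    H16Derived.KFlat.Stalk.isFinLocFree_pullback s hE, epi_comp _ _⟩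

theorem push_section [IsNoetherian Y] (hs : s ≫ KRR.pr n Y = 𝟙 Y) (hY : KRR.HasEnoughLocFree Y)
    (g : SGA6.Kvb (KRR.PY n Y) →+ SGA6.Kvb Y)
    (hg : ∀ F : (KRR.PY n Y).Modules, FlatMod.IsFinLocFree F → KRR.IsRegSheaf n Y F →
      g (KRR.cl _ F) = KRR.cl Y ((Scheme.Modules.pushforward (KRR.pr n Y)).obj F))
    {F : Y.Modules} (hF : FlatMod.IsFinLocFree F) {m : ℕ} {a : SGA6.Kvb (KRR.PY n Y)}
    (hv : Val (vb (KRR.PY n Y)) (coh (KRR.PY n Y)) (KRR.cl _) m ((Scheme.Modules.pushforward s).obj F) a) :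
    g a = KRR.cl Y F := by
  obtain ⟨σ, hσ⟩ := KModel.exists_lift (X := KRR.PY n Y)
    (fun E => KRR.cl Y ((Scheme.Modules.pullback s).obj E)) fun S hS h₁ h₂ h₃ =>
      KModel.cl_add (KModel.shortExact_pullback s hS h₃) (H16Derived.KFlat.Stalk.isFinLocFree_pullback s h₁)
        (H16Derived.KFlat.Stalk.isFinLocFree_pullback s h₂) (H16Derived.KFlat.Stalk.isFinLocFree_pullback s h₃)
  let E₀ := (Scheme.Modules.pullback (KRR.pr n Y)).obj F
  have hE₀ : FlatMod.IsFinLocFree E₀ := H16Derived.KFlat.Stalk.isFinLocFree_pullback _ hF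
  have hrec : SeqExt.Rec (n + 1) 0 (fun k => σ (KReg.fK n Y E₀ k)) := fun i hi => by
    rw [← SeqExt.val_map σ, KReg.rec_fK hE₀ i hi, map_zero]
  let e₀ : (Scheme.Modules.pullback s).obj E₀ ≅ F := (Scheme.Modules.pullbackComp s (KRR.pr n Y)).app F ≪≫
    (Scheme.Modules.pullbackCongr hs).app F ≪≫ (Scheme.Modules.pullbackId Y).app F
  have hs0 : σ (KReg.fK n Y E₀ 0) = KRR.cl Y F := by
    rw [show KReg.fK n Y E₀ 0 = KRR.cl _ E₀ from KPush.cl_twF_zero hE₀, hσ E₀ hE₀]
    exact KModel.cl_iso e₀ (H16Derived.KFlat.Stalk.isFinLocFree_pullback s hE₀)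
  rw [← hs0]
  refine KPushVal.push_val hY g hg hv _ hrec ⟨0, fun k _ => ⟨0, ?_⟩⟩
  let L := Twist.twistOver n Y (k : ℤ)
  have hL : FlatMod.IsFinLocFree L := PnVan.finLocFree_of_inv (RegSheaf.isInvertible_twistOver _)
  haveI : IsIso (H16Derived.ProjFormula.ψ s F L) := H10Coh.PF.isIso_ψ_of_isFinLocFree s hL F
  let G := (H10Coh.PF.TR ((Scheme.Modules.pullback s).obj L)).obj F
  have hG : FlatMod.IsFinLocFree G :=
    H16Derived.KFlat.Stalk.isFinLocFree_tensor hF (H16Derived.KFlat.Stalk.isFinLocFree_pullback s hL)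
  let e₁ : (Scheme.Modules.pushforward (KRR.pr n Y)).obj (KRR.twF n Y (k : ℤ) ((Scheme.Modules.pushforward s).obj F)) ≅ G :=
    (Scheme.Modules.pushforward (KRR.pr n Y)).mapIso (H10Coh.Tw.commIso L ((Scheme.Modules.pushforward s).obj F) ≪≫
      @asIso _ _ _ _ (H16Derived.ProjFormula.ψ s F L) (H10Coh.PF.isIso_ψ_of_isFinLocFree s hL F)) ≪≫
      (Scheme.Modules.pushforwardComp s (KRR.pr n Y)).app G ≪≫
      (Scheme.Modules.pushforwardCongr hs).app G ≪≫ (Scheme.Modules.pushforwardId Y).app G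
  let e₂ : G ≅ (Scheme.Modules.pullback s).obj (KRR.twF n Y (k : ℤ) E₀) :=
    H10Coh.Tw.commIso F ((Scheme.Modules.pullback s).obj L) ≪≫
      ((DCoh.tensorBi (X := Y)).obj ((Scheme.Modules.pullback s).obj L)).mapIso e₀.symm ≪≫
      ((H16Derived.KFlat.Stalk.pullTensorLIso s E₀).app L).symm
  refine val_iso (ctxK hY) e₁.symm ⟨H16Derived.KFlat.Stalk.isCoh_of_isFinLocFree hG, hG, ?_⟩
  show σ (KRR.cl _ (KRR.twF n Y (k : ℤ) E₀)) = KRR.cl Y G
  rw [hσ _ (RegBundle.finLocFree_twF _ hE₀)]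
  exact (KModel.cl_iso e₂ hG).symm

end Groth.Agent.H22Alg.KSection
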