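import Groth.Agent.H22Alg.CMField
import Groth.Agent.H22Alg.PB.Twist
import Groth.Agent.H10Coh.Pn.Results
import Groth.Agent.H11Aff.GGNonvanish
import Groth.Agent.H10Coh.Proper2

/-!
# Surjectivity of multiplication of sections from the Koszul complex of a basis
-/

set_option autoImplicit false
set_option linter.style.haveILetI false
set_option backward.isDefEq.respectTransparency.types false
universe u

open CategoryTheory CategoryTheory.Limits AlgebraicGeometry Opposite TopologicalSpace ZeroObject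
open Groth.Agent Groth.Agent.H11Tilde Groth.Agent.H11Ample
attribute [local instance 10000] Groth.Agent.H10Coh.hasSheafifyAb Groth.Agent.H10Coh.hasWeakSheafifyAb Groth.Agent.H10Coh.hasExtAb Groth.Agent.H10Coh.enoughInjAb

noncomputable section

namespace Groth.Agent.H22Alg.KoszulMul

open CMField

variable {X : Scheme.{u}} {O : ℤ → X.Modules} {n : ℕ} {v : ℕ → Γ(O 1, ⊤)}

/-- Spanning needs vanishing only up to the number of coordinates. -/
theorem spanned_of_van (hs : Setup O n v) {F : X.Modules} {m : ℤ}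
    (h : ∀ q : ℕ, 1 ≤ q → q ≤ n → Van q (CohB1.tensorMod F (O (m - q)))) :
    Spanned (CohB1.tensorMod F (O m)) (O 1) := by
  let c : ℤ := m - n
  obtain ⟨a⟩ := nonempty_A_iso hs F c n m (by omega)
  refine Spanned.of_iso_left (M := KosTwist.A (O 1) (CohB1.tensorMod F (O c)) n) ?_ a
  intro S
  let A := KosTwist.A (O 1) (CohB1.tensorMod F (O c))
  have hE := KosTwist.exact (G := CohB1.tensorMod F (O c)) (v := v) (hs.fam.inv 1) hs.cover 0
  have hsur := surjective_last _ hE.2 hE.1 n (KosLine.isZero_L _ _ _ (by omega)) fun j e hje => by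
    refine van_L hs c 0 j (1 + e) ?_
    have := h (1 + e) (by omega) (by omega)
    rwa [show c + ((0 + j : ℕ) : ℤ) = m - ((1 + e : ℕ) : ℤ) by push_cast; omega]
  have hlen : 0 + (n + 1) = n + 1 := Nat.zero_add _
  obtain ⟨q, hq⟩ := KosLine.exists_d_top A (KosTwist.mul (O 1) (CohB1.tensorMod F (O c)) v) n 0 n hlen
  haveI := KosLine.isIso_top (A := A) (n + 1) 0 (n + 1) hlen
  obtain ⟨σ, hσ⟩ := hsur ((inv (KosLine.top A (n + 1) 0 (n + 1) hlen)).app ⊤ S)
  have h1 := congrArg ((KosLine.top A (n + 1) 0 (n + 1) hlen).app ⊤) hσ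
  have h2 : (KosLine.top A (n + 1) 0 (n + 1) hlen).app ⊤ ((inv (KosLine.top A (n + 1) 0 (n + 1) hlen)).app ⊤ S) = S :=
    congr($(congrArg (fun k => Scheme.Modules.Hom.app k ⊤) (IsIso.inv_hom_id (KosLine.top A (n + 1) 0 (n + 1) hlen))) S)
  have h3 : (∑ j ∈ Finset.range (n + 1),
      q j ≫ KosTwist.mul (O 1) (CohB1.tensorMod F (O c)) v j n).app ⊤ σ = S := by
    rw [← hq]; exact h1.trans h2
  rw [← h3]
  clear h1 h2 h3 hσ hq
  induction Finset.range (n + 1) using Finset.induction_on with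
  | empty => exact zero_mem _
  | insert j s hj ih =>
    rw [Finset.sum_insert hj]
    refine add_mem (AddSubgroup.subset_closure ?_) ih
    exact ⟨(q j).app ⊤ σ, _, (KosTwist.mul_app _ _ v j n ⊤ _).symm⟩

theorem germ_mem_of_notMem_gen {L : X.Modules} {x : X} {V : X.Opens} (hxV : x ∈ V) {e : Γ(L, V)}
    (he : IsGen L e) {g : Γ(L, ⊤)} (hg : x ∉ gen L g) :
    L.presheaf.germ ⊤ x trivial g ∈ IsLocalRing.maximalIdeal (X.presheaf.stalk x) •
      (⊤ : Submodule (X.presheaf.stalk x) (L.presheaf.stalk x)) := by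
  obtain ⟨c, hc⟩ := exists_coeff he (L.presheaf.map (homOfLE (le_top : V ≤ ⊤)).op g)
  have hcu : ¬ x ∈ X.basicOpen c := fun h' => hg ((gen_inf_eq_basicOpen he g c hc).ge h').1
  rw [← TopCat.Presheaf.germ_res_apply L.presheaf (homOfLE (le_top : V ≤ ⊤)) x hxV g, hc, H06Mod.germ_smul]
  exact Submodule.smul_mem_smul ((IsLocalRing.mem_maximalIdeal _).2 fun hu => hcu ((X.mem_basicOpen c x hxV).2 hu))
    Submodule.mem_top

variable (k : Type u) [Field k] [X.Over (Spec (CommRingCat.of k))]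

/-- A basis of the sections of a generated line bundle covers. -/
theorem exists_mem_gen_basis {L : X.Modules} (hL : PicF.IsInvertible L) (hgg : Curv2.IsGloballyGenerated L)
    {ι : Type*} [Fintype ι] (b : Module.Basis ι k (Coh.HH X L 0)) (x : X) :
    ∃ j, x ∈ gen L (H10Coh.HH0Equiv L (b j)) := by
  obtain ⟨V, e, hxV, he⟩ := exists_gen hL x
  obtain ⟨g, hg⟩ := H11Aff.exists_mem_gen_app hgg (𝟙 L) hxV e he
  by_contra hne
  push Not at hne
  let P : Submodule (X.presheaf.stalk x) (L.presheaf.stalk x) :=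
    IsLocalRing.maximalIdeal (X.presheaf.stalk x) • ⊤
  have hall : ∀ z : Coh.HH X L 0, L.presheaf.germ ⊤ x trivial (H10Coh.HH0Equiv L z) ∈ P := by
    intro z
    rw [← b.sum_repr z, map_sum, map_sum]
    refine P.sum_mem fun j _ => ?_
    have hsm : H10Coh.HH0Equiv L (b.repr z j • b j) =
        (show Γ(X, ⊤) from Coh.toGlobal (X ↘ Spec (CommRingCat.of k)) (b.repr z j)) • H10Coh.HH0Equiv L (b j) :=
      H10Coh.HH0Equiv_smul L _ (b j)
    rw [hsm, H06Mod.germ_smul]
    exact P.smul_mem _ (germ_mem_of_notMem_gen hxV he (hne j))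
  have hgP : L.presheaf.germ ⊤ x trivial g ∈ P := by
    rw [← (H10Coh.HH0Equiv L).apply_symm_apply g]; exact hall _
  have hbij := (mem_gen_iff hL g x).1 hg
  obtain ⟨c, hc, hce⟩ : L.presheaf.germ ⊤ x trivial g ∈ Submodule.map
      (LinearMap.toSpanSingleton (X.presheaf.stalk x) _ (L.presheaf.germ ⊤ x trivial g))
      (IsLocalRing.maximalIdeal (X.presheaf.stalk x)) := by
    refine (Submodule.smul_le.2 fun r hr w _ => ?_) hgP
    obtain ⟨c, rfl⟩ := hbij.2 w
    exact ⟨r * c, Ideal.mul_mem_right _ _ hr, mul_smul _ _ _⟩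
  have : c = 1 := hbij.1 (hce.trans (one_smul _ _).symm)
  exact (IsLocalRing.maximalIdeal.isMaximal _).ne_top ((Ideal.eq_top_iff_one _).2 (this ▸ hc))

variable [IsProper (X ↘ Spec (CommRingCat.of k))]

/-- Multiplication by the sections of a generated line bundle is surjective. -/
theorem spanned_tensorPow {L M : X.Modules} (hL : PicF.IsInvertible L) (hgg : Curv2.IsGloballyGenerated L)
    (hM : ClSub.IsInverseOf M L) (b : ℕ)
    (hvan₁ : ∀ q : ℕ, 1 ≤ q → q ≤ b → q < Module.finrank k (Coh.HH X L 0) →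
      Subsingleton (Coh.HH X (CohB1.tensorPow L (b - q)) q))
    (hvan₂ : ∀ q : ℕ, b < q → q < Module.finrank k (Coh.HH X L 0) →
      Subsingleton (Coh.HH X (CohB1.tensorPow M (q - b)) q)) :
    Spanned (CohB1.tensorPow L b) L := by
  haveI : Module.Finite k (Coh.HH X L 0) := H10Coh.finite_HH_proper k X L (H11Ample.isCoh_of_isInvertible hL) 0
  let β := Module.finBasis k (Coh.HH X L 0)
  obtain ⟨p1⟩ := PB.nonempty_pw_one hL
  let O' := PB.pw hL
  have hfam := PB.isTwistFamily_pw hL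
  obtain ⟨z0⟩ := hfam.zero
  obtain ⟨eM⟩ := hM
  have hnat : ∀ t : ℕ, Nonempty (CohB1.tensorPow L t ≅ O' t) := fun t => by
    induction t with
    | zero => exact ⟨z0.symm⟩
    | succ t ih =>
      obtain ⟨e⟩ := ih
      obtain ⟨e'⟩ := hfam.add t 1
      exact ⟨PicGrp.tensorModIso e p1.symm ≪≫ e' ≪≫ eqToIso (congrArg O' (by push_cast; rfl))⟩
  have hneg1 : Nonempty (M ≅ O' (-1)) := by
    obtain ⟨e'⟩ := hfam.add 1 (-1)
    exact ⟨(H10Coh.Tw.rightUnitIso M).symm ≪≫
      PicGrp.tensorModIso (Iso.refl M) (z0.symm ≪≫ eqToIso (congrArg O' (by norm_num)) ≪≫ e'.symm ≪≫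
        PicGrp.tensorModIso p1 (Iso.refl _)) ≪≫ (H10Coh.Tw.assoc _ _ _).symm ≪≫
      PicGrp.tensorModIso eM (Iso.refl _) ≪≫ H10Coh.Tw.leftUnitIso _⟩
  have hneg : ∀ t : ℕ, Nonempty (CohB1.tensorPow M t ≅ O' (-(t : ℤ))) := fun t => by
    induction t with
    | zero => exact ⟨z0.symm⟩
    | succ t ih =>
      obtain ⟨e⟩ := ih
      obtain ⟨e₁⟩ := hneg1
      obtain ⟨e'⟩ := hfam.add (-(t : ℤ)) (-1)
      exact ⟨PicGrp.tensorModIso e e₁ ≪≫ e' ≪≫ eqToIso (congrArg O' (by push_cast; ring))⟩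
  obtain ⟨eb⟩ := hnat b
  rcases Nat.eq_zero_or_pos (Module.finrank k (Coh.HH X L 0)) with h0 | h0
  · intro S
    haveI : IsEmpty X := ⟨fun x => by
      obtain ⟨j, -⟩ := exists_mem_gen_basis k hL hgg β x
      exact absurd j.2 (by omega)⟩
    have h1 : (⊤ : X.Opens) = ⊥ := by
      ext y; exact (IsEmpty.false y).elim
    haveI : Subsingleton Γ(CohB1.tensorMod (CohB1.tensorPow L b) L, ⊤) :=
      ⟨fun s t => TopCat.Presheaf.section_ext ⟨_, (CohB1.tensorMod (CohB1.tensorPow L b) L).isSheaf⟩ ⊤ s t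
        fun y => isEmptyElim y⟩
    rw [Subsingleton.elim S 0]; exact zero_mem _
  obtain ⟨n, hn⟩ : ∃ n, Module.finrank k (Coh.HH X L 0) = n + 1 := ⟨_, (Nat.succ_pred_eq_of_pos h0).symm⟩
  let v : ℕ → Γ(O' 1, ⊤) := fun j =>
    if hj : j < n + 1 then p1.inv.app ⊤ (H10Coh.HH0Equiv L (β ⟨j, by omega⟩)) else 0
  have hs : Setup O' n v := ⟨hfam, fun x => by
    obtain ⟨j, hj⟩ := exists_mem_gen_basis k hL hgg β x
    refine ⟨j, by omega, ?_⟩
    simp only [v]
    rw [dif_pos (show j.1 < n + 1 by omega)]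
    exact (gen_iso p1.inv _).ge hj⟩
  refine (Spanned.of_iso_left (M := CohB1.tensorMod (Coh.structureModule X) (O' b)) ?_
    (H10Coh.Tw.leftUnitIso _ ≪≫ eb.symm)).of_iso_right p1
  refine spanned_of_van hs fun q hq1 hqn => ?_
  refine H10Coh.Tw.subsingleton_of_iso (H10Coh.Tw.leftUnitIso _).symm ?_
  rcases le_or_gt q b with hqb | hqb
  · obtain ⟨e⟩ := hnat (b - q)
    exact H10Coh.Tw.subsingleton_of_iso (e ≪≫ eqToIso (congrArg O' (by omega)))
      (van_iff.2 (hvan₁ q hq1 hqb (by omega)))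
  · obtain ⟨e⟩ := hneg (q - b)
    exact H10Coh.Tw.subsingleton_of_iso (e ≪≫ eqToIso (congrArg O' (by omega)))
      (van_iff.2 (hvan₂ q hqb (by omega)))

end Groth.Agent.H22Alg.KoszulMul
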