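import Groth.Agent.H22Alg.LamGr
import Groth.Agent.H27Lambda.Transfer
import Mathlib.RingTheory.TensorProduct.Basic

/-! The Chern character is a bijection ℚ ⊗ K → ℚGr K. -/

universe u

open Finset LambdaRing TensorProduct

noncomputable section

namespace Groth.Agent.H22Alg.LamChern

open Groth.Agent.H27Lambda (ghost genSer eSer)

/-- The Hirzebruch polynomial of exp through power sums. -/
lemma chPoly_eq (d : ℕ) :
    KGr.chPoly d = (d : MvPolynomial (Fin d) ℚ) + ∑ k ∈ range d,
      MvPolynomial.C (1 / ((k + 1).factorial : ℚ)) *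
        ghost k (PowerSeries.map (MvPolynomial.map (Int.castRingHom ℚ)) (genSer d id)) := by
  classical
  set Fs : PowerSeries (MvPolynomial (Fin d) ℚ) :=
    PowerSeries.map (MvPolynomial.map (Int.castRingHom ℚ)) (genSer d id) with hFs
  have hFs0 : PowerSeries.constantCoeff Fs = 1 :=
    H27Lambda.constantCoeff_map_one _ (H27Lambda.constantCoeff_genSer d id)
  set φ : MvPolynomial (Fin d) ℚ →ₐ[ℚ] MvPolynomial (Fin d) ℚ :=
    MvPolynomial.aeval fun i : Fin d => MvPolynomial.esymm (Fin d) ℚ (i + 1)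
  have hser : PowerSeries.map (φ : MvPolynomial (Fin d) ℚ →+* MvPolynomial (Fin d) ℚ) Fs =
      eSer ((univ : Finset (Fin d)).val.map fun a => MvPolynomial.X a) := by
    ext n : 1
    cases n with
    | zero =>
      rw [PowerSeries.coeff_zero_eq_constantCoeff_apply, PowerSeries.coeff_zero_eq_constantCoeff_apply,
        H27Lambda.constantCoeff_eSer, H27Lambda.constantCoeff_map_one _ hFs0]
    | succ n =>
      rw [PowerSeries.coeff_map, PowerSeries.coeff_map, H27Lambda.coeff_genSer_succ,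
        H27Lambda.coeff_eSer, ← MvPolynomial.aeval_esymm_eq_multiset_esymm (Fin d) ℚ]
      split_ifs with h
      · simp [φ, MvPolynomial.aeval_X_left]
      · have h0 : MvPolynomial.esymm (Fin d) ℚ (n + 1) = 0 := by
          simp [MvPolynomial.esymm, Finset.powersetCard_eq_empty.2
            (show (univ : Finset (Fin d)).card < n + 1 by simp; omega)]
        simp [h0]
  apply (MvPolynomial.esymmAlgEquiv (Fin d) ℚ (Fintype.card_fin d)).injective
  rw [KGr.chPoly, AlgEquiv.apply_symm_apply]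
  apply Subtype.ext
  show _ = ((MvPolynomial.esymmAlgHom (Fin d) ℚ d) _).val
  rw [MvPolynomial.esymmAlgHom_apply]
  show _ = φ _
  have hg : ∀ k, φ (ghost k Fs) = ∑ i : Fin d, MvPolynomial.X i ^ (k + 1) := by
    intro k
    rw [show φ (ghost k Fs) = (φ : MvPolynomial (Fin d) ℚ →+* MvPolynomial (Fin d) ℚ) (ghost k Fs) from rfl,
      H27Lambda.map_ghost _ hFs0, hser, H27Lambda.ghost_eSer, Multiset.map_map]
    rfl
  rw [map_add, map_natCast, map_sum]
  simp only [map_mul, MvPolynomial.aeval_C, φ] at hg ⊢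
  simp only [hg, Finset.mul_sum]
  rw [Finset.sum_comm]
  have hterm : ∀ i : Fin d, Polynomial.aeval (MvPolynomial.X i : MvPolynomial (Fin d) ℚ) (KGr.expTrunc d) =
      1 + ∑ k ∈ range d, algebraMap ℚ (MvPolynomial (Fin d) ℚ) (1 / ((k + 1).factorial : ℚ)) *
        MvPolynomial.X i ^ (k + 1) := by
    intro i
    rw [KGr.expTrunc, map_sum, Finset.sum_range_succ', add_comm]
    simp
  rw [Finset.sum_congr rfl (fun i _ => hterm i), Finset.sum_add_distrib]
  simp

section Generic

variable {A : Type u} [CommRing A]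

/-- Ghost components of a graded series are homogeneous. -/
lemma ghost_graded (M : ℕ → A → Prop) (hsub : ∀ {n x y}, M n x → M n y → M n (x - y))
    (hadd : ∀ {n x y}, M n x → M n y → M n (x + y))
    (h0 : ∀ n, M n 0) (hmul : ∀ {a b : ℕ} {x y : A}, M a x → M b y → M (a + b) (x * y))
    {f : PowerSeries A} (hf : PowerSeries.constantCoeff f = 1)
    (hc : ∀ i, M i (PowerSeries.coeff i f)) (k : ℕ) : M (k + 1) (ghost k f) := by
  have hn : ∀ (t : ℕ) {n x}, M n x → M n ((t : A) * x) := by
    intro t n x hx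
    induction t with
    | zero => simpa using h0 n
    | succ t ih => rw [Nat.cast_succ, add_mul, one_mul]; exact hadd ih hx
  have h : ∀ k, M (k + 1) (PowerSeries.coeff k (H27Lambda.dlog f)) := by
    intro k
    induction k using Nat.strong_induction_on with
    | _ k ih =>
      rw [show PowerSeries.coeff k (H27Lambda.dlog f) =
        ((k + 1 : ℕ) : A) * PowerSeries.coeff (k + 1) f -
        ∑ i ∈ range k, PowerSeries.coeff (i + 1) f * PowerSeries.coeff (k - (i + 1)) (H27Lambda.dlog f) by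
        rw [mul_comm, Nat.cast_succ, H27Lambda.coeff_dlog_eq hf]; ring]
      refine hsub (hn _ (hc _)) ?_
      refine Finset.sum_induction _ (M (k + 1)) (fun a b => hadd) (h0 _) fun i hi => ?_
      simp only [mem_range] at hi
      have h := hmul (hc (i + 1)) (ih (k - (i + 1)) (by omega))
      rwa [show i + 1 + (k - (i + 1) + 1) = k + 1 by omega] at h
  rw [ghost]
  rcases neg_one_pow_eq_or A k with e | e <;> rw [e]
  · rw [one_mul]; exact h k
  · rw [neg_one_mul, ← zero_sub]; exact hsub (h0 _) (h k)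

lemma sum_split [Algebra ℚ A] (q : ℕ → ℚ) (g : ℕ → A) {m d : ℕ} (hm : m < d)
    (h : ∀ k, k < m → g k = 0) :
    ∑ k ∈ range d, q k • g k = q m • g m + ∑ k ∈ Finset.Ico (m + 1) d, q k • g k := by
  rw [← sum_range_add_sum_Ico _ hm.le, sum_eq_zero (fun k hk => by rw [h k (mem_range.1 hk), smul_zero]),
    zero_add, sum_eq_sum_Ico_succ_bot hm]

/-- The ghost components of a series starting in degree m+1. -/
lemma ghost_lead {f : PowerSeries A} (hf : PowerSeries.constantCoeff f = 1) {m : ℕ}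
    (hlow : ∀ i, 1 ≤ i → i ≤ m → PowerSeries.coeff i f = 0) :
    (∀ k, k < m → ghost k f = 0) ∧
      ghost m f = (-1) ^ m * (PowerSeries.coeff (m + 1) f * (m + 1 : A)) := by
  have hzero : ∀ k, k < m → PowerSeries.coeff k (H27Lambda.dlog f) = 0 := by
    intro k hk
    have e := H27Lambda.coeff_dlog_eq hf k
    rw [hlow (k + 1) (by omega) (by omega), zero_mul,
      sum_eq_zero (fun i hi => by
        rw [hlow (i + 1) (by omega) (by simp only [mem_range] at hi; omega), zero_mul]), add_zero] at e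
    exact e.symm
  refine ⟨fun k hk => by rw [ghost, hzero k hk, mul_zero], ?_⟩
  have e := H27Lambda.coeff_dlog_eq hf m
  rw [sum_eq_zero (fun i hi => by
    rw [hlow (i + 1) (by omega) (by simp only [mem_range] at hi; omega), zero_mul]), add_zero] at e
  rw [ghost, e]

lemma lead_scalar [Algebra ℚ A] (m : ℕ) (z : A) :
    (1 / ((m + 1).factorial : ℚ)) •
      ((-1 : A) ^ m * ((((-1 : ℤ) ^ m * (m.factorial : ℤ)) • z) * ((m : A) + 1))) = z := by
  have h1 : ((-1 : A) ^ m) * (-1) ^ m = 1 := by rw [← mul_pow]; simp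
  have h2 : ((-1 : A) ^ m * ((((-1 : ℤ) ^ m * (m.factorial : ℤ)) • z) * ((m : A) + 1))) =
      ((m + 1).factorial : A) * z := by
    rw [zsmul_eq_mul, Nat.factorial_succ]
    push_cast
    linear_combination ((m.factorial : A) * z * ((m : A) + 1)) * h1
  rw [h2, ← nsmul_eq_mul, ← Nat.cast_smul_eq_nsmul ℚ, smul_smul, one_div,
    inv_mul_cancel₀ (Nat.cast_ne_zero.2 (Nat.factorial_ne_zero _)), one_smul]

lemma aeval_chPoly [Algebra ℚ A] (d : ℕ) (c : ℕ → A) (hc0 : c 0 = 1) (hd : ∀ i, d < i → c i = 0) :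
    MvPolynomial.aeval (fun i : Fin d => c (i.1 + 1)) (KGr.chPoly d) =
      (d : A) + ∑ k ∈ range d, (1 / ((k + 1).factorial : ℚ)) • ghost k (PowerSeries.mk c) := by
  rw [chPoly_eq, map_add, map_natCast, map_sum]
  have hmap : PowerSeries.map
      (MvPolynomial.aeval (fun i : Fin d => c (i.1 + 1)) :
        MvPolynomial (Fin d) ℚ →ₐ[ℚ] A).toRingHom
      (PowerSeries.map (MvPolynomial.map (Int.castRingHom ℚ)) (genSer d id)) = PowerSeries.mk c := by
    ext n : 1
    cases n with
    | zero =>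
      rw [PowerSeries.coeff_mk, hc0, PowerSeries.coeff_zero_eq_constantCoeff_apply]
      exact H27Lambda.constantCoeff_map_one _
          (H27Lambda.constantCoeff_map_one _ (H27Lambda.constantCoeff_genSer d id))
    | succ n =>
      rw [PowerSeries.coeff_map, PowerSeries.coeff_map, H27Lambda.coeff_genSer_succ, PowerSeries.coeff_mk]
      split_ifs with h
      · simp
      · rw [map_zero, map_zero, hd (n + 1) (by omega)]
  have hk : ∀ k, MvPolynomial.aeval (fun i : Fin d => c (i.1 + 1))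
      (ghost k (PowerSeries.map (MvPolynomial.map (Int.castRingHom ℚ)) (genSer d id))) =
      ghost k (PowerSeries.mk c) := by
    intro k
    rw [← hmap]
    exact H27Lambda.map_ghost (MvPolynomial.aeval (fun i : Fin d => c (i.1 + 1)) :
      MvPolynomial (Fin d) ℚ →ₐ[ℚ] A).toRingHom
      (H27Lambda.constantCoeff_map_one _ (H27Lambda.constantCoeff_genSer d id)) k
  simp only [map_mul, MvPolynomial.aeval_C, hk, ← Algebra.smul_def]

lemma chK_form [Algebra ℚ A] (e : ℤ) (d : ℕ) (s : A) :
    algebraMap ℚ A ((e : ℚ) - d) + ((d : A) + s) = algebraMap ℚ A e + s := by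
  rw [map_sub, map_natCast]; ring

lemma sum_ghost_add [Algebra ℚ A] (a b : ℤ) (d : ℕ) (q : ℕ → ℚ) {f g : PowerSeries A}
    (hf : PowerSeries.constantCoeff f = 1) (hg : PowerSeries.constantCoeff g = 1) :
    algebraMap ℚ A ((a + b : ℤ) : ℚ) + ∑ k ∈ range d, q k • ghost k (f * g) =
      (algebraMap ℚ A (a : ℚ) + ∑ k ∈ range d, q k • ghost k f) +
        (algebraMap ℚ A (b : ℚ) + ∑ k ∈ range d, q k • ghost k g) := by
  simp only [H27Lambda.ghost_mul hf hg, smul_add, sum_add_distrib, map_add, Int.cast_add]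
  abel

end Generic

variable {K : Type u} [CommRing K] [LambdaOps K] {P : PosStructure K}

lemma gamma_mem (x : K) (i : ℕ) :
    LambdaRing.gamma i (x - (P.aug x : K)) ∈ gammaFiltration P i := by
  rw [H27Lambda.gammaFiltration_eq]
  exact H27Lambda.gamma_mem_gammaFil _ i (by simp)

lemma fil_bot {d : ℕ} (hd : gammaFiltration P (d + 1) = ⊥) {n : ℕ} (h : d < n) {x : K}
    (hx : x ∈ gammaFiltration P n) : x = 0 := by
  rw [H27Lambda.gammaFiltration_eq] at hx
  have := H27Lambda.gammaFil_antitone _ (show d + 1 ≤ n by omega) hx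
  rwa [← H27Lambda.gammaFiltration_eq, hd, AddSubgroup.mem_bot] at this

lemma aug_eq_zero (hK : HasSplitting K P) {y : K} (hy : y ∈ gammaFil P.aug 1) : P.aug y = 0 := by
  induction hy using Submodule.span_induction with
  | mem y hy =>
    obtain ⟨l, hl1, hl2, rfl⟩ := hy
    obtain ⟨p, hp, hp1⟩ : ∃ p ∈ l, 1 ≤ p.1 := by
      by_contra hcon
      push Not at hcon
      have : (l.map Prod.fst).sum = 0 := List.sum_eq_zero fun m hm => by
        obtain ⟨p, hp, rfl⟩ := List.mem_map.1 hm
        have := hcon p hp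
        omega
      omega
    rw [map_list_prod, List.prod_eq_zero]
    refine List.mem_map.2 ⟨_, List.mem_map.2 ⟨p, hp, rfl⟩, ?_⟩
    rw [LambdaRing.gamma, if_neg (by omega), map_sum]
    refine Finset.sum_eq_zero fun j _ => ?_
    rw [map_mul]
    split_ifs with hj
    · simp
    · have h := congrArg (PowerSeries.coeff j) (H27Lambda.lamSeries_aug P hK p.2)
      rw [PowerSeries.coeff_map, H27Lambda.coeff_lamSeries, hl1 p hp] at h
      rw [h]
      obtain ⟨i, rfl⟩ : ∃ i, j = i + 1 := ⟨j - 1, by omega⟩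
      simp [H27Lambda.binSer, Ring.choose_zero_succ]
  | zero => simp
  | add a b _ _ iha ihb => simp [iha, ihb]
  | smul a b _ ihb => simp [ihb]

section Abstract

variable {A : Type u} [CommRing A] [Algebra ℚ A]

variable (P A) in
/-- What we use about a graded ring of the γ-filtration. -/
structure GrData where
  /-- classes -/
  qc : ∀ n, gammaFiltration P n →+ A
  mul : ∀ {m n : ℕ} (x : gammaFiltration P m) (y : gammaFiltration P n),
    qc m x * qc n y = qc (m + n) ⟨x.1 * y.1, LamGr.mul_mem_fil x.2 y.2 le_rfl⟩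
  succ : ∀ {n : ℕ} (x : gammaFiltration P n), (x : K) ∈ gammaFiltration P (n + 1) → qc n x = 0
  one : qc 0 ⟨1, by simp [gammaFiltration]⟩ = 1
  span : ∀ z : A, z ∈ Submodule.span ℚ {w | ∃ (k : ℕ) (x : gammaFiltration P k), w = qc k x}
  proj : ∀ (n : ℕ), A →+ ℚ ⊗[ℤ] (K ⧸ gammaFiltration P (n + 1))
  proj_qc : ∀ (n k : ℕ) (q : ℚ) (x : gammaFiltration P k), proj n (q • qc k x) =
      if k = n then q ⊗ₜ[ℤ] (QuotientAddGroup.mk (x : K)) else 0

variable (G : GrData P A)

/-- The series of Chern classes. -/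
def cser (x : K) : PowerSeries A := PowerSeries.mk fun i => G.qc i ⟨_, gamma_mem x i⟩

/-- The Chern character. -/
def ch (d : ℕ) (x : K) : A :=
  algebraMap ℚ A ((P.aug x : ℚ) - d) +
    MvPolynomial.aeval (fun i : Fin d => G.qc (i.1 + 1) ⟨_, gamma_mem x (i.1 + 1)⟩) (KGr.chPoly d)

/-- Degree n part. -/
def hom (n : ℕ) : Submodule ℚ A := Submodule.span ℚ (Set.range (G.qc n))

/-- Degree ≥ n part. -/
def ge (n : ℕ) : Submodule ℚ A :=
  Submodule.span ℚ {z | ∃ (k : ℕ) (x : gammaFiltration P k), n ≤ k ∧ z = G.qc k x}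

lemma hom_le_ge {m n : ℕ} (h : m ≤ n) : hom G n ≤ ge G m :=
  Submodule.span_mono (by rintro _ ⟨x, rfl⟩; exact ⟨n, x, h, rfl⟩)

lemma hom_mul {a b : ℕ} {x y : A} (hx : x ∈ hom G a) (hy : y ∈ hom G b) : x * y ∈ hom G (a + b) := by
  induction hx using Submodule.span_induction with
  | mem u hu =>
    obtain ⟨u, rfl⟩ := hu
    induction hy using Submodule.span_induction with
    | mem v hv =>
      obtain ⟨v, rfl⟩ := hv
      rw [G.mul]
      exact Submodule.subset_span ⟨_, rfl⟩
    | zero => rw [mul_zero]; exact zero_mem _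
    | add v w _ _ hv hw => rw [mul_add]; exact add_mem hv hw
    | smul q v _ hv => rw [mul_smul_comm]; exact Submodule.smul_mem _ q hv
  | zero => rw [zero_mul]; exact zero_mem _
  | add v w _ _ hv hw => rw [add_mul]; exact add_mem hv hw
  | smul q v _ hv => rw [smul_mul_assoc]; exact Submodule.smul_mem _ q hv

lemma constantCoeff_cser (x : K) : PowerSeries.constantCoeff (cser G x) = 1 := by
  rw [← PowerSeries.coeff_zero_eq_constantCoeff_apply, cser, PowerSeries.coeff_mk, ← G.one]
  exact congrArg _ (Subtype.ext (H27Lambda.gamma_zero (x - (P.aug x : K))))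

lemma cser_add (x y : K) : cser G (x + y) = cser G x * cser G y := by
  ext n
  rw [PowerSeries.coeff_mul]
  simp only [cser, PowerSeries.coeff_mk]
  have h := H27Lambda.gammaSeries_add (x - (P.aug x : K)) (y - (P.aug y : K))
  rw [show x - (P.aug x : K) + (y - (P.aug y : K)) = x + y - ((P.aug (x + y) : ℤ) : K) by
    rw [map_add, Int.cast_add]; ring] at h
  have hn := congrArg (PowerSeries.coeff n) h
  rw [PowerSeries.coeff_mul] at hn
  simp only [H27Lambda.coeff_gammaSeries] at hn
  have hterm : ∀ p ∈ antidiagonal n,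
      G.qc p.1 ⟨_, gamma_mem x p.1⟩ * G.qc p.2 ⟨_, gamma_mem y p.2⟩ =
      G.qc n (if hp : p.1 + p.2 = n then
        ⟨_, LamGr.mul_mem_fil (gamma_mem x p.1) (gamma_mem y p.2) hp.ge⟩ else 0) := by
    intro p hp
    rw [Finset.mem_antidiagonal] at hp
    subst hp
    rw [dif_pos rfl, G.mul]
  rw [sum_congr rfl hterm, ← map_sum]
  refine congrArg _ (Subtype.ext ?_)
  rw [AddSubgroup.val_finsetSum]
  refine hn.trans (sum_congr rfl fun p hp => ?_)
  rw [Finset.mem_antidiagonal] at hp
  rw [dif_pos hp]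

lemma qc_bot {d : ℕ} (hd : gammaFiltration P (d + 1) = ⊥) {n : ℕ} (h : d < n)
    (x : gammaFiltration P n) : G.qc n x = 0 := by
  rw [show x = 0 from Subtype.ext (fil_bot hd h x.2), map_zero]

lemma ch_eq {d : ℕ} (hd : gammaFiltration P (d + 1) = ⊥) (x : K) :
    ch G d x = algebraMap ℚ A (P.aug x : ℚ) +
      ∑ k ∈ range d, (1 / ((k + 1).factorial : ℚ)) • ghost k (cser G x) := by
  have h0 : G.qc 0 ⟨_, gamma_mem x 0⟩ = 1 := by
    rw [← G.one]
    exact congrArg _ (Subtype.ext (H27Lambda.gamma_zero (x - (P.aug x : K))))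
  rw [ch, aeval_chPoly d (fun i => G.qc i ⟨_, gamma_mem x i⟩) h0 (fun i hi => qc_bot G hd hi _),
    map_sub, map_natCast]
  show _ + ((d : A) + ∑ k ∈ range d, _ • ghost k (cser G x)) = _
  ring

lemma ch_add {d : ℕ} (hd : gammaFiltration P (d + 1) = ⊥) (x y : K) :
    ch G d (x + y) = ch G d x + ch G d y := by
  simp only [ch_eq G hd, cser_add, H27Lambda.ghost_mul (constantCoeff_cser G x) (constantCoeff_cser G y),
    smul_add, sum_add_distrib, map_add, Int.cast_add]
  abel

lemma ghost_mem (x : K) (k : ℕ) : ghost k (cser G x) ∈ hom G (k + 1) :=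
  ghost_graded (fun n z => z ∈ hom G n) (fun h h' => sub_mem h h') (fun h h' => add_mem h h')
    (fun _ => zero_mem _) (fun h h' => hom_mul G h h') (constantCoeff_cser G x)
    (fun i => by rw [cser, PowerSeries.coeff_mk]; exact Submodule.subset_span ⟨_, rfl⟩) k

/-- For x in F^n the Chern character is its class plus higher degree terms. -/
lemma ch_sub_mem (hK : HasSplitting K P) {d : ℕ} (hd : gammaFiltration P (d + 1) = ⊥) {n : ℕ}
    (hn : n ≤ d) (x : gammaFiltration P n) : ch G d x - G.qc n x ∈ ge G (n + 1) := by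
  rw [ch_eq G hd]
  rcases Nat.eq_zero_or_pos n with rfl | hn0
  · have h0 : algebraMap ℚ A (P.aug x.1 : ℚ) = G.qc 0 x := by
      have h1 : G.qc 0 x = (P.aug x.1) • G.qc 0 ⟨1, by simp [gammaFiltration]⟩ := by
        rw [← map_zsmul, ← sub_eq_zero, ← map_sub]
        refine G.succ _ ?_
        show x.1 - P.aug x.1 • (1 : K) ∈ _
        rw [zsmul_one, H27Lambda.gammaFiltration_eq,
          ← H27Lambda.gamma_one (x.1 - (P.aug x.1 : K))]
        exact H27Lambda.gamma_mem_gammaFil _ _ (by simp)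
      rw [h1, G.one, zsmul_one, map_intCast]
    rw [h0, add_sub_cancel_left]
    refine sum_mem fun k _ => Submodule.smul_mem _ _ ?_
    exact hom_le_ge G (by omega) (ghost_mem G _ k)
  · have hx := (H27Lambda.gammaFiltration_eq P n x.1).1 x.2
    have hgood := H27Lambda.goodEl_of_mem (H27Lambda.isSpecial_of_hasSplitting hK)
      (Int.castRingHom K) P.aug (fun c => by simp) (fun c => H27Lambda.lamSeries_intCast P c) hn0 hx
    have haug : P.aug x.1 = 0 := aug_eq_zero hK (H27Lambda.gammaFil_antitone _ hn0 hx)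
    rw [haug, Int.cast_zero, map_zero, zero_add]
    obtain ⟨m, rfl⟩ : ∃ m, n = m + 1 := ⟨n - 1, by omega⟩
    have hlow : ∀ i, 1 ≤ i → i ≤ m → PowerSeries.coeff i (cser G x.1) = 0 := by
      intro i h1 h2
      rw [cser, PowerSeries.coeff_mk]
      refine G.succ _ ?_
      show LambdaRing.gamma i (x.1 - (P.aug x.1 : K)) ∈ _
      rw [haug, Int.cast_zero, sub_zero, H27Lambda.gammaFiltration_eq]
      exact H27Lambda.gammaFil_antitone _ (by omega) (hgood.mem i h1)
    have hlead2 := ghost_lead (constantCoeff_cser G x.1) hlow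
    rw [sum_split (fun k => 1 / ((k + 1).factorial : ℚ)) (fun k => ghost k (cser G x.1))
      (show m < d by omega) hlead2.1, add_sub_right_comm]
    refine add_mem ?_ (sum_mem fun k hk => Submodule.smul_mem _ _ ?_)
    · have hlead : PowerSeries.coeff (m + 1) (cser G x.1) =
          (((-1 : ℤ) ^ m * (m.factorial : ℤ)) • G.qc (m + 1) x) := by
        rw [cser, PowerSeries.coeff_mk, ← map_zsmul, ← sub_eq_zero, ← map_sub]
        refine G.succ _ ?_
        show LambdaRing.gamma (m + 1) (x.1 - (P.aug x.1 : K)) - ((-1 : ℤ) ^ m * (m.factorial : ℤ)) • x.1 ∈ _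
        rw [haug, Int.cast_zero, sub_zero, H27Lambda.gammaFiltration_eq]
        have h := hgood.lead
        simpa [H27Lambda.leadC] using h
      rw [hlead2.2, hlead, lead_scalar, sub_self]
      exact zero_mem _
    · simp only [Finset.mem_Ico] at hk
      exact hom_le_ge G (by omega) (ghost_mem G _ k)

lemma proj_ge (n : ℕ) {z : A} (hz : z ∈ ge G (n + 1)) : G.proj n z = 0 := by
  suffices h : ∀ q : ℚ, G.proj n (q • z) = 0 by simpa using h 1
  induction hz using Submodule.span_induction with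
  | mem u hu =>
    obtain ⟨k, y, hk, rfl⟩ := hu
    intro q
    rw [G.proj_qc, if_neg (by omega)]
  | zero => intro q; simp
  | add a b _ _ iha ihb => intro q; rw [smul_add, map_add, iha, ihb, add_zero]
  | smul c a _ iha => intro q; rw [smul_smul]; exact iha _

theorem bijective (hK : HasSplitting K P) (d : ℕ) (hd : gammaFiltration P (d + 1) = ⊥) :
    ∃ Φ : TensorProduct ℤ ℚ K →ₗ[ℚ] A,
      (∀ x : K, Φ ((1 : ℚ) ⊗ₜ[ℤ] x) = ch G d x) ∧ Function.Bijective Φ := by
  let c : K →+ A := AddMonoidHom.mk' (ch G d) (ch_add G hd)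
  let Φ : TensorProduct ℤ ℚ K →ₗ[ℚ] A := LinearMap.liftBaseChange ℚ c.toIntLinearMap
  have hΦ : ∀ x : K, Φ ((1 : ℚ) ⊗ₜ[ℤ] x) = ch G d x := fun x => by
    simp [Φ, c]
  refine ⟨Φ, hΦ, ?_, ?_⟩
  · rw [← LinearMap.ker_eq_bot, eq_bot_iff]
    intro v hv
    rw [LinearMap.mem_ker] at hv
    obtain ⟨⟨x, s⟩, hs⟩ := IsLocalizedModule.surj (nonZeroDivisors ℤ)
      (TensorProduct.mk ℤ ℚ K 1) v
    change (s : ℤ) • v = (1 : ℚ) ⊗ₜ[ℤ] x at hs
    have hx : ch G d x = 0 := by rw [← hΦ, ← hs, map_zsmul, hv, smul_zero]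
    have key : ∀ n, n ≤ d + 1 → ∃ N : ℕ, N ≠ 0 ∧ (N : K) * x ∈ gammaFiltration P n := by
      intro n
      induction n with
      | zero => intro _; exact ⟨1, one_ne_zero, by simp [gammaFiltration]⟩
      | succ n ih =>
        intro hn
        obtain ⟨N, hN, hmem⟩ := ih (by omega)
        have h1 : ch G d ((N : K) * x) = 0 := by
          rw [← nsmul_eq_mul]
          show c (N • x) = 0
          rw [map_nsmul]
          show N • ch G d x = 0
          rw [hx, smul_zero]
        have h2 := proj_ge G n (ch_sub_mem G hK hd (show n ≤ d by omega) ⟨_, hmem⟩)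
        have h3 := G.proj_qc n n 1 ⟨_, hmem⟩
        rw [if_pos rfl, one_smul] at h3
        rw [map_sub, h3] at h2
        simp only [h1, map_zero, zero_sub, neg_eq_zero] at h2
        obtain ⟨⟨m, hm⟩, hm2⟩ := (IsLocalizedModule.eq_zero_iff (nonZeroDivisors ℤ)
          (TensorProduct.mk ℤ ℚ (K ⧸ gammaFiltration P (n + 1)) 1)).1 h2
        refine ⟨m.natAbs * N, mul_ne_zero (Int.natAbs_ne_zero.2 (nonZeroDivisors.ne_zero hm)) hN, ?_⟩
        have hm3 : (QuotientAddGroup.mk (m • ((N : K) * x)) : K ⧸ gammaFiltration P (n + 1)) = 0 := hm2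
        rw [QuotientAddGroup.eq_zero_iff, zsmul_eq_mul] at hm3
        rw [Nat.cast_mul, mul_assoc]
        rcases Int.natAbs_eq m with e | e
        · rw [e, Int.cast_natCast] at hm3; exact hm3
        · rw [e, Int.cast_neg, Int.cast_natCast, neg_mul] at hm3
          exact neg_mem_iff.1 hm3
    obtain ⟨N, hN, hmem⟩ := key (d + 1) le_rfl
    rw [hd, AddSubgroup.mem_bot, ← nsmul_eq_mul] at hmem
    have h : ((N : ℤ) * (s : ℤ)) • v = 0 := by
      rw [mul_smul, hs, natCast_zsmul, ← tmul_smul, hmem, tmul_zero]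
    rw [Submodule.mem_bot, ← Int.cast_smul_eq_zsmul ℚ] at *
    refine (smul_eq_zero.1 h).resolve_left ?_
    exact Int.cast_ne_zero.2 (mul_ne_zero (Int.natCast_ne_zero.2 hN) (nonZeroDivisors.ne_zero s.2))
  · rw [← LinearMap.range_eq_top, eq_top_iff]
    have h : ∀ k n, d + 1 - n = k → ge G n ≤ LinearMap.range Φ := by
      intro k
      induction k with
      | zero =>
        intro n hn
        refine Submodule.span_le.2 ?_
        rintro _ ⟨j, y, hj, rfl⟩
        rw [qc_bot G hd (by omega) y]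
        exact zero_mem _
      | succ k ih =>
        intro n hn
        refine Submodule.span_le.2 ?_
        rintro _ ⟨j, y, hj, rfl⟩
        rcases eq_or_lt_of_le hj with rfl | hlt
        · have h := ih (n + 1) (by omega) (ch_sub_mem G hK hd (by omega) y)
          have h2 := sub_mem (LinearMap.mem_range_self Φ ((1 : ℚ) ⊗ₜ[ℤ] y.1)) h
          rw [hΦ, sub_sub_cancel] at h2
          exact h2
        · exact ih (n + 1) (by omega) (Submodule.subset_span ⟨j, y, hlt, rfl⟩)
    refine fun z _ => h _ 0 rfl (Submodule.span_mono ?_ (G.span z))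
    rintro _ ⟨k, y, rfl⟩
    exact ⟨k, y, Nat.zero_le _, rfl⟩

end Abstract

lemma qcls_one : LamGr.qcls P 0 ⟨1, by simp [gammaFiltration]⟩ = 1 := by
  have h : LamGr.cls P 0 ⟨1, by simp [gammaFiltration]⟩ = 1 := by
    show Ideal.Quotient.mk _ _ = 1
    refine (congrArg (Ideal.Quotient.mk _) (Subtype.ext ?_)).trans (map_one _)
    simp
  exact (congrArg (fun z => (1 : ℚ) ⊗ₜ[ℤ] z) h).trans Algebra.TensorProduct.one_def.symm

lemma qcls_span (z : KGr.Gr P) :
    z ∈ Submodule.span ℚ {w : KGr.Gr P | ∃ (k : ℕ) (x : gammaFiltration P k), w = LamGr.qcls P k x} := by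
  have h : z ∈ (⊤ : Submodule ℚ (KGr.Gr P)) := Submodule.mem_top
  rw [LamGr.top_eq] at h
  refine Submodule.span_mono ?_ h
  rintro _ ⟨k, y, -, rfl⟩
  exact ⟨k, y, rfl⟩

variable (P) in
/-- The instance for the frozen graded ring. -/
def grData : GrData P (KGr.Gr P) where
  qc := LamGr.qcls P
  mul := LamGr.qcls_mul
  succ := LamGr.qcls_eq_zero_of_mem_succ
  one := qcls_one
  span := qcls_span
  proj n := (LamGr.proj P n).toAddMonoidHom
  proj_qc := LamGr.proj_smul_qcls

lemma chK_eq_ch (d : ℕ) (x : K) : KGr.chK P d x = ch (grData P) d x := by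
  have h : (fun i : Fin d => KGr.chern P (i.1 + 1) x) =
      fun i : Fin d => (grData P).qc (i.1 + 1) ⟨_, gamma_mem x (i.1 + 1)⟩ := by
    funext i
    exact LamGr.grK_eq _
  rw [KGr.chK, ch, h]

theorem bijective_gr (hK : HasSplitting K P) (d : ℕ) (hd : gammaFiltration P (d + 1) = ⊥) :
    ∃ Φ : TensorProduct ℤ ℚ K →ₗ[ℚ] KGr.Gr P,
      (∀ x : K, Φ ((1 : ℚ) ⊗ₜ[ℤ] x) = KGr.chK P d x) ∧ Function.Bijective Φ := by
  obtain ⟨Φ, h1, h2⟩ := bijective (grData P) hK d hd
  exact ⟨Φ, fun x => (h1 x).trans (chK_eq_ch d x).symm, h2⟩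

end Groth.Agent.H22Alg.LamChern
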