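import Groth.Prelude.Def_KRR
import Groth.Agent.H27Lambda.Inv
import Mathlib.Algebra.Polynomial.RingDivision
import Mathlib.RingTheory.AdjoinRoot

/-! The elementary extension K[T]/(p_e) and the series σ_t = λ_{-t}⁻¹. -/

universe u

open Finset LambdaRing Polynomial

noncomputable section

namespace Groth.Agent.H22Alg.LamCore

variable {K : Type u} [CommRing K] [LambdaOps K]

lemma sum_sigma (e : K) (n : ℕ) :
    ∑ i ∈ range (n + 1), (-1 : K) ^ i * LambdaOps.lam i e * KRR.sigma (n - i) e =
      if n = 0 then 1 else 0 := by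
  have h := PowerSeries.mul_invOfUnit (PowerSeries.rescale (-1 : K) (lamSeries e)) 1
    (by simp [H27Lambda.constantCoeff_rescale, H27Lambda.constantCoeff_lamSeries])
  have h2 := congrArg (PowerSeries.coeff n) h
  rw [PowerSeries.coeff_mul, Finset.Nat.sum_antidiagonal_eq_sum_range_succ_mk,
    PowerSeries.coeff_one] at h2
  rw [← h2]
  refine sum_congr rfl fun i _ => ?_
  rw [PowerSeries.coeff_rescale, H27Lambda.coeff_lamSeries]
  rfl

lemma sigma_zero (e : K) : KRR.sigma 0 e = 1 := by
  simpa [LambdaOps.lam_zero] using sum_sigma e 0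

variable {P : PosStructure K} {e : K} {m : ℕ}

lemma extPoly_eq (hm : (P.aug e).toNat = m) :
    KRR.extPoly P e =
      ∑ i ∈ range (m + 1), C ((-1 : K) ^ i * LambdaOps.lam i e) * X ^ (m - i) := by
  subst hm; rfl

lemma coeff_extPoly (hm : (P.aug e).toNat = m) (k : ℕ) :
    (KRR.extPoly P e).coeff k =
      if k ≤ m then (-1 : K) ^ (m - k) * LambdaOps.lam (m - k) e else 0 := by
  rw [extPoly_eq hm, finsetSum_coeff]
  simp only [coeff_C_mul_X_pow]
  split_ifs with h
  · rw [sum_eq_single_of_mem (m - k) (by simp only [mem_range]; omega)]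
    · rw [if_pos (by omega)]
    · intro i hi hne
      rw [if_neg]
      simp only [mem_range] at hi
      omega
  · refine sum_eq_zero fun i _ => ?_
    rw [if_neg]
    omega

lemma monic_extPoly (hm : (P.aug e).toNat = m) : (KRR.extPoly P e).Monic :=
  monic_of_natDegree_le_of_coeff_eq_one m
    (natDegree_le_iff_coeff_eq_zero.2 fun k hk => by rw [coeff_extPoly hm, if_neg (by omega)])
    (by rw [coeff_extPoly hm, if_pos le_rfl]; simp [LambdaOps.lam_zero])

lemma natDegree_extPoly [Nontrivial K] (hm : (P.aug e).toNat = m) :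
    (KRR.extPoly P e).natDegree = m := by
  refine le_antisymm
    (natDegree_le_iff_coeff_eq_zero.2 fun k hk => by rw [coeff_extPoly hm, if_neg (by omega)])
    (le_natDegree_of_ne_zero ?_)
  rw [coeff_extPoly hm, if_pos le_rfl]
  simp [LambdaOps.lam_zero]

lemma nontrivial_of_pos (P : PosStructure K) : Nontrivial K :=
  P.aug.domain_nontrivial

lemma root_relation (hm : (P.aug e).toNat = m) :
    ∑ i ∈ range (m + 1), AdjoinRoot.of (KRR.extPoly P e) ((-1 : K) ^ i * LambdaOps.lam i e) *
      AdjoinRoot.root (KRR.extPoly P e) ^ (m - i) = 0 := by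
  have h := AdjoinRoot.mk_self (f := KRR.extPoly P e)
  conv_rhs at h => rw [← map_zero (AdjoinRoot.mk (KRR.extPoly P e))]
  have h2 : AdjoinRoot.mk (KRR.extPoly P e)
      (∑ i ∈ range (m + 1), C ((-1 : K) ^ i * LambdaOps.lam i e) * X ^ (m - i)) = 0 := by
    rw [← extPoly_eq hm]; exact AdjoinRoot.mk_self
  simpa [map_sum] using h2

/-- Every element is a polynomial in the root of degree below m. -/
lemma exists_rep (hm : (P.aug e).toNat = m) (z : AdjoinRoot (KRR.extPoly P e)) :
    ∃ g : K[X], g.degree < m ∧ AdjoinRoot.mk (KRR.extPoly P e) g = z := by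
  haveI := nontrivial_of_pos P
  obtain ⟨g, rfl⟩ := AdjoinRoot.mk_surjective z
  have hp := monic_extPoly (K := K) hm
  refine ⟨g %ₘ KRR.extPoly P e, ?_, ?_⟩
  · refine lt_of_lt_of_le (degree_modByMonic_lt g hp) ?_
    rw [degree_eq_natDegree hp.ne_zero, natDegree_extPoly hm]
  · conv_rhs => rw [← modByMonic_add_div g (KRR.extPoly P e), map_add, map_mul,
      AdjoinRoot.mk_self, zero_mul, add_zero]

lemma lam_top_isUnit (he : e ∈ P.pos) (hm : (P.aug e).toNat = m) :
    IsUnit (LambdaOps.lam m e) := hm ▸ P.isUnit_lam e he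

lemma lam_above (he : e ∈ P.pos) (hm : (P.aug e).toNat = m) {i : ℕ} (hi : m < i) :
    LambdaOps.lam i e = 0 := by
  refine P.lam_eq_zero e he i ?_
  have := P.aug_pos e he
  omega

section Functional

variable {r : ℕ} (he : e ∈ P.pos) (hm : (P.aug e).toNat = r + 1)
  {f : AdjoinRoot (KRR.extPoly P e) →ₗ[K] K}
  (hf : ∀ i : ℕ, i ≤ r → f (AdjoinRoot.root (KRR.extPoly P e) ^ i) = KRR.sigma i e)

lemma map_of_mul (f : AdjoinRoot (KRR.extPoly P e) →ₗ[K] K) (a : K)
    (x : AdjoinRoot (KRR.extPoly P e)) :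
    f (AdjoinRoot.of (KRR.extPoly P e) a * x) = a * f x := by
  rw [← AdjoinRoot.algebraMap_eq, ← Algebra.smul_def, map_smul, smul_eq_mul]

include he hm hf in
lemma map_root_pow (i : ℕ) : f (AdjoinRoot.root (KRR.extPoly P e) ^ i) = KRR.sigma i e := by
  induction i using Nat.strong_induction_on with
  | _ i ih =>
    rcases le_or_gt i r with hir | hir
    · exact hf i hir
    obtain ⟨d, rfl⟩ : ∃ d, i = d + (r + 1) := ⟨i - (r + 1), by omega⟩
    have h0 := congrArg (fun x => f (AdjoinRoot.root (KRR.extPoly P e) ^ d * x)) (root_relation hm)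
    simp only [mul_zero, map_zero, Finset.mul_sum, map_sum] at h0
    have h1 : ∑ j ∈ range (r + 1 + 1), (-1 : K) ^ j * LambdaOps.lam j e *
        f (AdjoinRoot.root (KRR.extPoly P e) ^ (d + (r + 1) - j)) = 0 := by
      rw [← h0]
      refine sum_congr rfl fun j hj => ?_
      rw [mul_left_comm, ← pow_add, map_of_mul, Nat.add_sub_assoc (Nat.lt_succ_iff.1 (mem_range.1 hj))]
    have h2 := sum_sigma e (d + (r + 1))
    rw [if_neg (by omega), ← sum_range_add_sum_Ico _ (show r + 1 + 1 ≤ d + (r + 1) + 1 by omega),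
      sum_eq_zero (s := Finset.Ico _ _) (fun j hj => by
        rw [lam_above he hm (by simp only [Finset.mem_Ico] at hj; omega)]; simp), add_zero] at h2
    rw [sum_range_succ'] at h1 h2
    simp only [pow_zero, LambdaOps.lam_zero, one_mul, Nat.sub_zero] at h1 h2
    have h3 : ∑ j ∈ range (r + 1), (-1 : K) ^ (j + 1) * LambdaOps.lam (j + 1) e *
        f (AdjoinRoot.root (KRR.extPoly P e) ^ (d + (r + 1) - (j + 1))) =
        ∑ j ∈ range (r + 1), (-1 : K) ^ (j + 1) * LambdaOps.lam (j + 1) e *
        KRR.sigma (d + (r + 1) - (j + 1)) e :=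
      sum_congr rfl fun j hj => by rw [ih _ (by omega)]
    rw [h3] at h1
    linear_combination h1 - h2

include he hm hf in
lemma map_linv_pow {linv : AdjoinRoot (KRR.extPoly P e)}
    (hlinv : linv * AdjoinRoot.root (KRR.extPoly P e) = 1) (n : ℕ) (hn1 : 1 ≤ n) (hnr : n ≤ r) :
    f (linv ^ n) = 0 := by
  induction n using Nat.strong_induction_on with
  | _ n ih =>
    have h0 := congrArg (fun x => f (linv ^ n * x)) (root_relation hm)
    simp only [mul_zero, map_zero, Finset.mul_sum, map_sum] at h0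
    have hpow : ∀ a b : ℕ, a ≤ b → linv ^ a * AdjoinRoot.root (KRR.extPoly P e) ^ b =
        AdjoinRoot.root (KRR.extPoly P e) ^ (b - a) := by
      intro a b hab
      conv_lhs => rw [← Nat.add_sub_cancel' hab, pow_add, ← mul_assoc, ← mul_pow, hlinv, one_pow,
        one_mul]
    have hpow' : ∀ a b : ℕ, b ≤ a → linv ^ a * AdjoinRoot.root (KRR.extPoly P e) ^ b =
        linv ^ (a - b) := by
      intro a b hab
      conv_lhs => rw [← Nat.sub_add_cancel hab, pow_add, mul_assoc, ← mul_pow, hlinv, one_pow,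
        mul_one]
    have hterm : ∀ j ∈ range (r + 1 + 1),
        f (linv ^ n * (AdjoinRoot.of (KRR.extPoly P e) ((-1 : K) ^ j * LambdaOps.lam j e) *
          AdjoinRoot.root (KRR.extPoly P e) ^ (r + 1 - j))) =
        (-1 : K) ^ j * LambdaOps.lam j e *
          (if j ≤ r + 1 - n then KRR.sigma (r + 1 - n - j) e
            else if j = r + 1 then f (linv ^ n) else 0) := by
      intro j hj
      simp only [mem_range] at hj
      rw [mul_left_comm, map_of_mul]
      congr 1
      split_ifs with h h'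
      · rw [hpow _ _ (by omega), map_root_pow he hm hf]
        congr 1; omega
      · subst h'; simp
      · rw [hpow' _ _ (by omega)]
        exact ih _ (by omega) (by omega) (by omega)
    rw [sum_congr rfl hterm, sum_range_succ,
      ← sum_range_add_sum_Ico _ (show r + 1 - n + 1 ≤ r + 1 by omega)] at h0
    have h2 := sum_sigma e (r + 1 - n)
    rw [if_neg (by omega)] at h2
    rw [sum_eq_zero (s := Finset.Ico _ _) (fun j hj => by
        simp only [Finset.mem_Ico] at hj
        rw [if_neg (by omega), if_neg (by omega), mul_zero]), add_zero,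
      sum_congr rfl (fun j hj => by
        simp only [mem_range] at hj
        rw [if_pos (by omega)]), h2, zero_add, if_neg (by omega), if_pos rfl] at h0
    exact (((isUnit_one (M := K)).neg.pow _).mul (lam_top_isUnit he hm)).mul_right_eq_zero.1 h0

end Functional

section Ext

variable (inst : LambdaOps (AdjoinRoot (KRR.extPoly P e)))

/-- λ^i(a - ℓ) for a from K and ℓ with λ^{≥2}(ℓ) = 0. -/
lemma lam_sub_root
    (hext : ∀ (i : ℕ) (x : K), @LambdaOps.lam _ _ inst i (AdjoinRoot.of (KRR.extPoly P e) x) =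
      AdjoinRoot.of (KRR.extPoly P e) (LambdaOps.lam i x))
    (hroot : ∀ i : ℕ, 2 ≤ i → @LambdaOps.lam _ _ inst i (AdjoinRoot.root (KRR.extPoly P e)) = 0)
    (a : K) (i : ℕ) :
    @LambdaOps.lam _ _ inst i (AdjoinRoot.of (KRR.extPoly P e) a - AdjoinRoot.root (KRR.extPoly P e)) =
      (-1) ^ i * ∑ j ∈ range (i + 1), AdjoinRoot.of (KRR.extPoly P e) ((-1 : K) ^ j * LambdaOps.lam j a) *
        AdjoinRoot.root (KRR.extPoly P e) ^ (i - j) := by
  letI := inst
  induction i with
  | zero =>
    rw [LambdaOps.lam_zero]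
    simp [LambdaOps.lam_zero]
  | succ i ih =>
    have h2 := LambdaOps.lam_add (i + 1) (AdjoinRoot.root (KRR.extPoly P e))
      (AdjoinRoot.of (KRR.extPoly P e) a - AdjoinRoot.root (KRR.extPoly P e))
    rw [add_sub_cancel, hext, sum_range_succ', sum_range_succ',
      sum_eq_zero (fun k _ => by rw [hroot (k + 1 + 1) (by omega), zero_mul])] at h2
    simp only [zero_add, LambdaOps.lam_zero, LambdaOps.lam_one, Nat.sub_zero, one_mul,
      Nat.add_sub_cancel] at h2
    rw [sum_range_succ, Nat.sub_self, pow_zero, mul_one]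
    have hs : ∑ j ∈ range (i + 1), AdjoinRoot.of (KRR.extPoly P e) ((-1 : K) ^ j * LambdaOps.lam j a) *
        AdjoinRoot.root (KRR.extPoly P e) ^ (i + 1 - j) = AdjoinRoot.root (KRR.extPoly P e) *
          ∑ j ∈ range (i + 1), AdjoinRoot.of (KRR.extPoly P e) ((-1 : K) ^ j * LambdaOps.lam j a) *
            AdjoinRoot.root (KRR.extPoly P e) ^ (i - j) := by
      rw [mul_sum]
      refine sum_congr rfl fun j hj => ?_
      rw [Nat.sub_add_comm (Nat.lt_succ_iff.1 (mem_range.1 hj)), pow_succ]
      ring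
    rw [hs]
    rw [ih] at h2
    have hmm : ((-1 : AdjoinRoot (KRR.extPoly P e)) ^ i) * (-1) ^ i = 1 := by
      rw [← mul_pow]; simp
    simp only [map_mul, map_pow, map_neg, map_one] at h2 ⊢
    linear_combination (-1 : AdjoinRoot (KRR.extPoly P e)) * h2 -
      AdjoinRoot.of (KRR.extPoly P e) (LambdaOps.lam (i + 1) a) * hmm

/-- The quotient (p(T) - p(1))/(T - 1). -/
def quot (P : PosStructure K) (e : K) (r : ℕ) : K[X] :=
  ∑ i ∈ range (r + 1), ∑ j ∈ range (i + 1),
    C ((-1 : K) ^ j * LambdaOps.lam j e) * X ^ (i - j)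

lemma quot_spec {r : ℕ} (hm : (P.aug e).toNat = r + 1) :
    quot P e r * (X - 1) =
      KRR.extPoly P e - C (∑ j ∈ range (r + 1 + 1), (-1 : K) ^ j * LambdaOps.lam j e) := by
  have hG : ∀ i, (∑ j ∈ range (i + 1), C ((-1 : K) ^ j * LambdaOps.lam j e) * X ^ (i + 1 - j)) =
      X * ∑ j ∈ range (i + 1), C ((-1 : K) ^ j * LambdaOps.lam j e) * X ^ (i - j) := by
    intro i
    rw [mul_sum]
    refine sum_congr rfl fun j hj => ?_
    rw [Nat.sub_add_comm (Nat.lt_succ_iff.1 (mem_range.1 hj)), pow_succ]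
    ring
  have key : ∀ n, (∑ i ∈ range (n + 1), ∑ j ∈ range (i + 1),
      C ((-1 : K) ^ j * LambdaOps.lam j e) * X ^ (i - j)) * (X - 1) =
      (∑ j ∈ range (n + 1 + 1), C ((-1 : K) ^ j * LambdaOps.lam j e) * X ^ (n + 1 - j)) -
        C (∑ j ∈ range (n + 1 + 1), (-1 : K) ^ j * LambdaOps.lam j e) := by
    intro n
    induction n with
    | zero => simp [sum_range_succ, LambdaOps.lam_zero]
    | succ n ih =>
      rw [sum_range_succ _ (n + 1), add_mul, ih,
        sum_range_succ _ (n + 1 + 1), sum_range_succ (fun j => (-1 : K) ^ j * _) (n + 1 + 1),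
        hG (n + 1), map_add, Nat.sub_self, pow_zero, mul_one]
      ring
  rw [quot, key, extPoly_eq hm]

end Ext

end Groth.Agent.H22Alg.LamCore
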