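import Groth.Agent.H22Alg.LamMulSer
import Groth.Agent.H22Alg.LamCore
import Groth.Agent.H22Alg.LamDet
import Groth.Agent.H27Lambda.Splitting
import Mathlib.LinearAlgebra.Lagrange
import Mathlib.Data.Nat.Choose.Sum

/-! The λ-structure and positive structure on an elementary extension K[T]/(p_e). -/

universe u

open Finset LambdaRing

noncomputable section

namespace Groth.Agent.H22Alg.LamExtension

open Groth.Agent.H27Lambda (mulSer eSer)

section PolyLam

variable {R : Type u} [CommRing R]

lemma map_C_rescale {S : Type u} [CommRing S] (a : S) (v : S) :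
    PowerSeries.rescale a (PowerSeries.C v) = PowerSeries.C v := by
  ext n; rw [PowerSeries.coeff_rescale]; cases n <;> simp [PowerSeries.coeff_C]

end PolyLam

section PolyLam2

variable {R : Type u} [CommRing R] [LambdaOps R] {S : Type u} [CommRing S] (φ : R →+* S) (x : S)

/-- λ_t of a polynomial expression in a line element. -/
def polyLam (g : Polynomial R) : PowerSeries S :=
  ∏ i ∈ g.support, PowerSeries.rescale (x ^ i) (PowerSeries.map φ (lamSeries (g.coeff i)))

lemma factor_zero (i : ℕ) :
    PowerSeries.rescale (x ^ i) (PowerSeries.map φ (lamSeries (0 : R))) = 1 := by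
  rw [H27Lambda.lamSeries_zero, map_one, map_one]

lemma polyLam_eq_prod (g : Polynomial R) {N : ℕ} (hN : g.natDegree < N) :
    polyLam φ x g = ∏ i ∈ range N, PowerSeries.rescale (x ^ i) (PowerSeries.map φ (lamSeries (g.coeff i))) := by
  refine prod_subset (fun i hi => mem_range.2 (lt_of_le_of_lt (Polynomial.le_natDegree_of_mem_supp i hi) hN))
    fun i _ hi => ?_
  rw [Polynomial.notMem_support_iff.1 hi, factor_zero]

lemma polyLam_add (g h : Polynomial R) : polyLam φ x (g + h) = polyLam φ x g * polyLam φ x h := by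
  set N := max (max g.natDegree h.natDegree) (g + h).natDegree + 1 with hN
  rw [polyLam_eq_prod φ x g (N := N) (by omega), polyLam_eq_prod φ x h (N := N) (by omega),
    polyLam_eq_prod φ x (g + h) (N := N) (by omega), ← prod_mul_distrib]
  refine prod_congr rfl fun i _ => ?_
  rw [Polynomial.coeff_add, H27Lambda.lamSeries_add, map_mul, map_mul]

lemma polyLam_zero : polyLam φ x (0 : Polynomial R) = 1 := by simp [polyLam]

lemma polyLam_monomial (i : ℕ) (a : R) :
    polyLam φ x (Polynomial.monomial i a) =
      PowerSeries.rescale (x ^ i) (PowerSeries.map φ (lamSeries a)) := by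
  classical
  rcases eq_or_ne a 0 with rfl | ha
  · rw [Polynomial.monomial_zero_right, polyLam_zero, factor_zero]
  · rw [polyLam, Polynomial.support_monomial i ha, prod_singleton, Polynomial.coeff_monomial, if_pos rfl]

lemma polyLam_C (a : R) : polyLam φ x (Polynomial.C a) = PowerSeries.map φ (lamSeries a) := by
  rw [← Polynomial.monomial_zero_left, polyLam_monomial, pow_zero, PowerSeries.rescale_one,
    RingHom.id_apply]

lemma constantCoeff_factor (i : ℕ) (a : R) :
    PowerSeries.constantCoeff (PowerSeries.rescale (x ^ i) (PowerSeries.map φ (lamSeries a))) = 1 := by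
  rw [H27Lambda.constantCoeff_rescale,
    H27Lambda.constantCoeff_map_one _ (H27Lambda.constantCoeff_lamSeries a)]

lemma constantCoeff_polyLam (g : Polynomial R) : PowerSeries.constantCoeff (polyLam φ x g) = 1 := by
  rw [polyLam, map_prod]
  exact prod_eq_one fun i _ => constantCoeff_factor φ x i _

lemma polyLam_mul (hR : IsSpecial R) (g h : Polynomial R) :
    polyLam φ x (g * h) = mulSer (polyLam φ x g) (polyLam φ x h) := by
  induction g using Polynomial.induction_on' with
  | add p q hp hq =>
    rw [add_mul, polyLam_add, hp, hq, polyLam_add, LamMulSer.mulSer_mul (constantCoeff_polyLam φ x p)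
      (constantCoeff_polyLam φ x q) (constantCoeff_polyLam φ x h)]
  | monomial i a =>
    induction h using Polynomial.induction_on' with
    | add p q hp hq =>
      have hM := constantCoeff_polyLam φ x (Polynomial.monomial i a)
      have hP := constantCoeff_polyLam φ x p
      have hQ := constantCoeff_polyLam φ x q
      have hPQ : PowerSeries.constantCoeff (polyLam φ x p * polyLam φ x q) = 1 := by
        rw [map_mul, hP, hQ, one_mul]
      rw [mul_add, polyLam_add, hp, hq, polyLam_add, LamMulSer.mulSer_comm hM hP,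
        LamMulSer.mulSer_comm hM hQ, LamMulSer.mulSer_comm hM hPQ, LamMulSer.mulSer_mul hP hQ hM]
    | monomial k b =>
      rw [Polynomial.monomial_mul_monomial, polyLam_monomial, polyLam_monomial, polyLam_monomial,
        LamMulSer.mulSer_rescale (H27Lambda.constantCoeff_map_one _ (H27Lambda.constantCoeff_lamSeries a))
          (H27Lambda.constantCoeff_map_one _ (H27Lambda.constantCoeff_lamSeries b)),
        H27Lambda.lamSeries_mul_of_special hR, H27Lambda.map_mulSer, ← pow_add]

lemma map_polyLam {T : Type u} [CommRing T] (ψ : S →+* T) (g : Polynomial R) :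
    PowerSeries.map ψ (polyLam φ x g) = polyLam (ψ.comp φ) (ψ x) g := by
  rw [polyLam, map_prod]
  refine prod_congr rfl fun i _ => ?_
  rw [← PowerSeries.rescale_map, map_pow, PowerSeries.map_comp, RingHom.comp_apply]

end PolyLam2

section Universal

/-- The parity identity Π_{|I| even}(1 + u^I T^(m-|I|) t) ≡ Π_{|I| odd} (same) mod Π(T - u_j). -/
lemma universal_identity {B : Type u} [CommRing B] (m : ℕ) (hm : 0 < m) (u : Fin m → B) (n : ℕ) :
    (Lagrange.nodal univ u) ∣
      PowerSeries.coeff n (∏ I ∈ (univ : Finset (Finset (Fin m))).filter (fun I => Even #I),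
          (1 + PowerSeries.C (Polynomial.C (∏ a ∈ I, u a) * Polynomial.X ^ (m - #I)) * PowerSeries.X)) -
      PowerSeries.coeff n (∏ I ∈ (univ : Finset (Finset (Fin m))).filter (fun I => ¬ Even #I),
          (1 + PowerSeries.C (Polynomial.C (∏ a ∈ I, u a) * Polynomial.X ^ (m - #I)) * PowerSeries.X)) := by
  classical
  let U := MvPolynomial (Fin m) ℤ
  let v : Fin m → U := MvPolynomial.X
  let F : Finset (Fin m) → Polynomial U := fun I => Polynomial.C (∏ a ∈ I, v a) * Polynomial.X ^ (m - #I)
  set E : PowerSeries (Polynomial U) :=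
    ∏ I ∈ (univ : Finset (Finset (Fin m))).filter (fun I => Even #I), (1 + PowerSeries.C (F I) * PowerSeries.X)
    with hE
  set O : PowerSeries (Polynomial U) :=
    ∏ I ∈ (univ : Finset (Finset (Fin m))).filter (fun I => ¬ Even #I), (1 + PowerSeries.C (F I) * PowerSeries.X)
    with hO
  have hdvd : Lagrange.nodal univ v ∣ PowerSeries.coeff n E - PowerSeries.coeff n O := by
    set g := PowerSeries.coeff n E - PowerSeries.coeff n O with hg
    have hmon : (Lagrange.nodal univ v).Monic := Lagrange.nodal_monic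
    rw [← Polynomial.modByMonic_eq_zero_iff_dvd hmon]
    have hroot : ∀ j, Polynomial.eval (v j) g = 0 := by
      intro j
      rw [hg, Polynomial.eval_sub, ← Polynomial.coe_evalRingHom, ← PowerSeries.coeff_map,
        ← PowerSeries.coeff_map, sub_eq_zero]
      congr 1
      rw [hE, hO, map_prod, map_prod]
      let τ : Finset (Fin m) → Finset (Fin m) := fun I => if j ∈ I then I.erase j else insert j I
      have hτ : ∀ I, τ (τ I) = I := by
        intro I
        by_cases h : j ∈ I
        · simp [τ, h, insert_erase]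
        · simp [τ, h]
      have hpar : ∀ I, Even #(τ I) ↔ ¬ Even #I := by
        intro I
        by_cases h : j ∈ I
        · simp only [τ, if_pos h, card_erase_of_mem h]
          have h1 : 1 ≤ #I := card_pos.2 ⟨j, h⟩
          obtain ⟨c, hc⟩ : ∃ c, #I = c + 1 := ⟨#I - 1, by omega⟩
          rw [hc, Nat.add_sub_cancel, Nat.even_add_one, not_not]
        · simp only [τ, if_neg h, card_insert_of_notMem h, Nat.even_add_one]
      refine prod_nbij' τ τ ?_ ?_ (fun I _ => hτ I) (fun I _ => hτ I) fun I hI => ?_
      · intro I hI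
        simp only [mem_coe, mem_filter, mem_univ, true_and] at *
        exact fun h => (hpar I).1 h hI
      · intro I hI
        simp only [mem_coe, mem_filter, mem_univ, true_and] at *
        exact (hpar I).2 hI
      · simp only [map_add, map_one, map_mul, PowerSeries.map_C, PowerSeries.map_X,
          Polynomial.coe_evalRingHom]
        congr 3
        simp only [F, Polynomial.eval_mul, Polynomial.eval_C, Polynomial.eval_pow, Polynomial.eval_X]
        have hle : ∀ I : Finset (Fin m), #I ≤ m := fun I => by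
          simpa using card_le_univ I
        by_cases h : j ∈ I
        · have h1 : 1 ≤ #I := card_pos.2 ⟨j, h⟩
          simp only [τ, if_pos h, card_erase_of_mem h]
          rw [← mul_prod_erase I _ h, show m - (#I - 1) = (m - #I) + 1 by have := hle I; omega, pow_succ]
          ring
        · have h1 := hle (insert j I)
          rw [card_insert_of_notMem h] at h1
          simp only [τ, if_neg h, card_insert_of_notMem h, prod_insert h]
          rw [show m - #I = (m - (#I + 1)) + 1 by omega, pow_succ]
          ring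
    refine Polynomial.eq_zero_of_natDegree_lt_card_of_eval_eq_zero _ (f := v) MvPolynomial.X_injective
      (fun j => ?_) ?_
    · rw [Polynomial.modByMonic_eq_sub_mul_div g, Polynomial.eval_sub, Polynomial.eval_mul,
        Lagrange.eval_nodal_at_node (mem_univ j), zero_mul, sub_zero, hroot]
    · have h := Polynomial.natDegree_modByMonic_lt g hmon (fun h1 => by
        have := congrArg Polynomial.natDegree h1
        rw [Lagrange.natDegree_nodal] at this
        simp at this
        omega)
      rwa [Lagrange.natDegree_nodal, card_univ] at h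
  let ψ : U →+* B := MvPolynomial.eval₂Hom (Int.castRingHom B) u
  have hψ : ∀ i, ψ (v i) = u i := fun i => MvPolynomial.eval₂Hom_X' _ _ i
  have hfac : ∀ I, PowerSeries.map (Polynomial.mapRingHom ψ) (1 + PowerSeries.C (F I) * PowerSeries.X) =
      1 + PowerSeries.C (Polynomial.C (∏ a ∈ I, u a) * Polynomial.X ^ (m - #I)) * PowerSeries.X := fun I => by
    simp [F, Polynomial.map_prod, hψ]
  have hmE : PowerSeries.map (Polynomial.mapRingHom ψ) E = ∏ I ∈ (univ : Finset (Finset (Fin m))).filter (fun I => Even #I),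
      (1 + PowerSeries.C (Polynomial.C (∏ a ∈ I, u a) * Polynomial.X ^ (m - #I)) * PowerSeries.X) := by
    rw [hE, map_prod]; exact prod_congr rfl fun I _ => hfac I
  have hmO : PowerSeries.map (Polynomial.mapRingHom ψ) O = ∏ I ∈ (univ : Finset (Finset (Fin m))).filter (fun I => ¬ Even #I),
      (1 + PowerSeries.C (Polynomial.C (∏ a ∈ I, u a) * Polynomial.X ^ (m - #I)) * PowerSeries.X) := by
    rw [hO, map_prod]; exact prod_congr rfl fun I _ => hfac I
  have h := Polynomial.map_dvd ψ hdvd
  rw [Polynomial.map_sub, ← Polynomial.coe_mapRingHom, ← PowerSeries.coeff_map, ← PowerSeries.coeff_map,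
    hmE, hmO] at h
  convert h using 2
  simp [Lagrange.nodal, Polynomial.map_prod, hψ]

end Universal

variable {K : Type u} [CommRing K] [LambdaOps K] {P : PosStructure K} {e : K} {m : ℕ}

local notation "A" => AdjoinRoot (KRR.extPoly P e)

open Polynomial in
lemma polyLam_extPoly (hK : HasSplitting K P) (he : e ∈ P.pos) (hm : (P.aug e).toNat = m) (hm0 : 0 < m) :
    polyLam (AdjoinRoot.of (KRR.extPoly P e)) (AdjoinRoot.root (KRR.extPoly P e)) (KRR.extPoly P e) = 1 := by
  classical
  obtain ⟨L, _, _, Q, φ, hφ, hs⟩ := H27Lambda.exists_split hK [e] (by simp [he])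
  obtain ⟨s, hs1, hs2⟩ := hs e (by simp)
  obtain ⟨lst, rfl⟩ := Quot.exists_rep s
  have hlen : lst.length = m := by
    have h : Q.aug (φ e) = (lst.length : ℤ) := by
      rw [← hs2, H27Lambda.aug_sum_lines hs1]; rfl
    rw [hφ.aug_comp] at h
    omega
  subst hlen
  let u : Fin lst.length → L := fun i => lst.get i
  have hu0 : ((univ : Finset (Fin lst.length)).val.map u : Multiset L) = (lst : Multiset L) := by
    show ((List.finRange lst.length).map lst.get : Multiset L) = _
    simp
  have hline : ∀ I : Finset (Fin lst.length), Q.IsLine (∏ a ∈ I, u a) := fun I =>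
    prod_induction _ _ (fun a b => H27Lambda.isLine_mul) (H27Lambda.isLine_one Q)
      fun a _ => hs1 _ (List.get_mem lst a)
  have hlam : ∀ i, φ (LambdaOps.lam i e) =
      ∑ I ∈ (univ : Finset (Fin lst.length)).powersetCard i, ∏ a ∈ I, u a := by
    intro i
    rw [hφ.isLambdaHom, ← hs2, show (Quot.mk _ lst : Multiset L) = _ from hu0.symm,
      H27Lambda.lam_sum_lines (P := Q) (fun v hv => hs1 v (by rw [hu0] at hv; exact hv)), Finset.esymm_map_val]
  set p := KRR.extPoly P e
  have hp : p.Monic := LamCore.monic_extPoly hm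
  have hmap : p.map φ = Lagrange.nodal univ u := by
    have h : Lagrange.nodal univ u = (((univ : Finset (Fin lst.length)).val.map u).map fun t => X - C t).prod := by
      rw [Lagrange.nodal, Finset.prod_eq_multiset_prod, Multiset.map_map]; rfl
    rw [h, Multiset.prod_X_sub_X_eq_sum_esymm, show p = _ from LamCore.extPoly_eq hm, Polynomial.map_sum]
    simp only [Multiset.card_map, Finset.card_val, Finset.card_univ, Fintype.card_fin]
    refine sum_congr rfl fun i _ => ?_
    rw [Finset.esymm_map_val, ← hlam]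
    simp
    ring
  -- work in L[T] / (p)
  let B := AdjoinRoot (p.map φ)
  let toB : A →+* B := AdjoinRoot.lift ((AdjoinRoot.of (p.map φ)).comp φ) (AdjoinRoot.root (p.map φ))
    (by rw [← Polynomial.eval₂_map]; exact AdjoinRoot.eval₂_root _)
  have hinj : Function.Injective toB := by
    rw [injective_iff_map_eq_zero]
    intro z hz
    obtain ⟨g, rfl⟩ := AdjoinRoot.mk_surjective z
    rw [AdjoinRoot.mk_eq_zero]
    have h2 : toB (AdjoinRoot.mk p g) = AdjoinRoot.mk (p.map φ) (g.map φ) := by
      rw [AdjoinRoot.lift_mk, ← Polynomial.eval₂_map]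
      exact (AdjoinRoot.aeval_eq (g.map φ))
    rw [h2, AdjoinRoot.mk_eq_zero] at hz
    exact (Polynomial.map_dvd_map φ hφ.injective hp).1 hz
  apply PowerSeries.map_injective _ hinj
  rw [map_one, map_polyLam, AdjoinRoot.lift_root,
    show toB.comp (AdjoinRoot.of p) = (AdjoinRoot.of (p.map φ)).comp φ by
      ext a; simp only [toB, RingHom.comp_apply]; exact AdjoinRoot.lift_of _]
  set γ := (AdjoinRoot.of (p.map φ)).comp φ
  set ξ := AdjoinRoot.root (p.map φ)
  rw [show polyLam γ ξ p = polyLam γ ξ (∑ i ∈ range (lst.length + 1),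
      C ((-1 : K) ^ i * LambdaOps.lam i e) * X ^ (lst.length - i)) from
    congrArg (polyLam γ ξ) (LamCore.extPoly_eq hm)]
  let G : Finset (Fin lst.length) → B := fun I =>
    AdjoinRoot.of (p.map φ) (∏ a ∈ I, u a) * ξ ^ (lst.length - #I)
  let lin : Finset (Fin lst.length) → PowerSeries B := fun I => 1 + PowerSeries.C (G I) * PowerSeries.X
  have hsum : ∀ g : ℕ → Polynomial K, ∀ N, polyLam γ ξ (∑ i ∈ range N, g i) = ∏ i ∈ range N, polyLam γ ξ (g i) := by
    intro g N
    induction N with
    | zero => simp [polyLam_zero]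
    | succ N ih => rw [sum_range_succ, prod_range_succ, polyLam_add, ih]
  rw [hsum]
  have hfac : ∀ i,
      PowerSeries.rescale (ξ ^ (lst.length - i)) (PowerSeries.map γ (lamSeries (LambdaOps.lam i e))) =
        ∏ I ∈ (univ : Finset (Fin lst.length)).powersetCard i, lin I := by
    intro i
    rw [PowerSeries.map_comp, RingHom.comp_apply, H27Lambda.map_lamSeries hφ.isLambdaHom, hlam,
      H27Lambda.lamSeries_sum, map_prod, map_prod]
    refine prod_congr rfl fun I hI => ?_
    rw [H27Lambda.lamSeries_of_linear (H27Lambda.lam_eq_zero_of_line (hline I))]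
    simp only [map_add, map_one, map_mul, PowerSeries.map_C, PowerSeries.map_X, PowerSeries.rescale_X,
      map_C_rescale, lin, G, (mem_powersetCard.1 hI).2]
    ring
  have hterm : ∀ i, polyLam γ ξ (C ((-1 : K) ^ i * LambdaOps.lam i e) * X ^ (lst.length - i)) *
      (if Even i then 1 else ∏ I ∈ (univ : Finset (Fin lst.length)).powersetCard i, lin I) =
      (if Even i then ∏ I ∈ (univ : Finset (Fin lst.length)).powersetCard i, lin I else 1) := by
    intro i
    rw [Polynomial.C_mul_X_pow_eq_monomial, polyLam_monomial]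
    split_ifs with h
    · rw [h.neg_one_pow, one_mul, hfac, mul_one]
    · rw [(Nat.not_even_iff_odd.1 h).neg_one_pow, neg_one_mul, ← hfac, ← map_mul, ← map_mul,
        ← H27Lambda.lamSeries_add, neg_add_cancel, H27Lambda.lamSeries_zero, map_one, map_one]
  have hkey := Finset.prod_congr (rfl : range (lst.length + 1) = range (lst.length + 1)) fun i _ => hterm i
  rw [prod_mul_distrib] at hkey
  have hsplit : ∀ (q : ℕ → Prop) [DecidablePred q],
      (∏ i ∈ range (lst.length + 1), if q i then ∏ I ∈ (univ : Finset (Fin lst.length)).powersetCard i, lin I else 1) =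
        ∏ I ∈ (univ : Finset (Finset (Fin lst.length))).filter (fun I => q #I), lin I := by
    intro q _
    rw [← prod_filter, ← Finset.prod_fiberwise_of_maps_to (g := fun I : Finset (Fin lst.length) => #I)
      (t := (range (lst.length + 1)).filter q) (fun I hI => by
        simp only [mem_coe, mem_filter, mem_univ, true_and, mem_range] at *
        exact ⟨Nat.lt_succ_of_le (by simpa using card_le_univ I), hI⟩)]
    refine prod_congr rfl fun i hi => prod_congr ?_ fun I _ => rfl
    rw [mem_filter] at hi
    ext I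
    simp only [mem_powersetCard, mem_filter, mem_univ, true_and, subset_univ]
    exact ⟨fun h => ⟨h ▸ hi.2, h⟩, fun h => h.2⟩
  have hodd : (∏ i ∈ range (lst.length + 1),
      if Even i then 1 else ∏ I ∈ (univ : Finset (Fin lst.length)).powersetCard i, lin I) =
      ∏ I ∈ (univ : Finset (Finset (Fin lst.length))).filter (fun I => ¬ Even #I), lin I := by
    rw [← hsplit fun i => ¬ Even i]
    exact prod_congr rfl fun i _ => by rw [ite_not]
  rw [hodd, hsplit Even] at hkey
  have hEO : (∏ I ∈ (univ : Finset (Finset (Fin lst.length))).filter (fun I => Even #I), lin I) =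
      ∏ I ∈ (univ : Finset (Finset (Fin lst.length))).filter (fun I => ¬ Even #I), lin I := by
    ext n
    have h := universal_identity lst.length hm0 u n
    have hlin : ∀ S : Finset (Finset (Fin lst.length)), PowerSeries.map (AdjoinRoot.mk (p.map φ))
        (∏ I ∈ S, (1 + PowerSeries.C (Polynomial.C (∏ a ∈ I, u a) * Polynomial.X ^ (lst.length - #I)) * PowerSeries.X)) =
        ∏ I ∈ S, lin I := fun S => by
      rw [map_prod]
      refine prod_congr rfl fun I _ => ?_
      simp [lin, G, ξ, B]
    rw [← hmap, ← AdjoinRoot.mk_eq_zero, map_sub, sub_eq_zero, ← PowerSeries.coeff_map,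
      ← PowerSeries.coeff_map, hlin, hlin] at h
    exact h
  rw [hEO] at hkey
  have hu : IsUnit (∏ I ∈ (univ : Finset (Finset (Fin lst.length))).filter (fun I => ¬ Even #I), lin I) := by
    rw [PowerSeries.isUnit_iff_constantCoeff, map_prod, prod_eq_one]
    · exact isUnit_one
    · intro I _; simp [lin]
  exact hu.mul_left_injective (hkey.trans (one_mul _).symm)

section Structure

variable (hK : HasSplitting K P) (he : e ∈ P.pos) (hm : (P.aug e).toNat = m)

local notation "p" => KRR.extPoly P e
local notation "ι" => AdjoinRoot.of (KRR.extPoly P e)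
local notation "ℓ" => AdjoinRoot.root (KRR.extPoly P e)

variable (P e) in
/-- λ_t on K[T]. -/
def L0 (g : Polynomial K) : PowerSeries (AdjoinRoot (KRR.extPoly P e)) :=
  polyLam (AdjoinRoot.of (KRR.extPoly P e)) (AdjoinRoot.root (KRR.extPoly P e)) g

include hK he hm in
lemma L0_congr {g h : Polynomial K} (hgh : AdjoinRoot.mk p g = AdjoinRoot.mk p h) :
    L0 P e g = L0 P e h := by
  obtain ⟨q, hq⟩ := AdjoinRoot.mk_eq_mk.1 hgh
  have hm0 : 0 < m := by have := P.aug_pos e he; omega
  rw [show g = h + p * q from eq_add_of_sub_eq' hq, L0, polyLam_add,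
    polyLam_mul _ _ (H27Lambda.isSpecial_of_hasSplitting hK), polyLam_extPoly hK he hm hm0,
    LamMulSer.mulSer_comm (by simp) (constantCoeff_polyLam _ _ q),
    LamMulSer.mulSer_one (constantCoeff_polyLam _ _ q), mul_one, L0]

variable (P e) in
/-- λ_t on K_e. -/
def Lam (z : AdjoinRoot (KRR.extPoly P e)) : PowerSeries (AdjoinRoot (KRR.extPoly P e)) :=
  L0 P e (AdjoinRoot.mk_surjective z).choose

include hK he hm in
lemma Lam_mk (g : Polynomial K) : Lam P e (AdjoinRoot.mk p g) = L0 P e g :=
  L0_congr hK he hm (AdjoinRoot.mk_surjective _).choose_spec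

include hK he hm in
lemma Lam_add (a b : A) : Lam P e (a + b) = Lam P e a * Lam P e b := by
  obtain ⟨g, rfl⟩ := AdjoinRoot.mk_surjective a
  obtain ⟨h, rfl⟩ := AdjoinRoot.mk_surjective b
  rw [← map_add, Lam_mk hK he hm, Lam_mk hK he hm, Lam_mk hK he hm, L0, polyLam_add]; rfl

include hK he hm in
lemma Lam_mul (a b : A) : Lam P e (a * b) = mulSer (Lam P e a) (Lam P e b) := by
  obtain ⟨g, rfl⟩ := AdjoinRoot.mk_surjective a
  obtain ⟨h, rfl⟩ := AdjoinRoot.mk_surjective b
  rw [← map_mul, Lam_mk hK he hm, Lam_mk hK he hm, Lam_mk hK he hm, L0,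
    polyLam_mul _ _ (H27Lambda.isSpecial_of_hasSplitting hK)]
  rfl

include hK he hm in
lemma constantCoeff_Lam (a : A) : PowerSeries.constantCoeff (Lam P e a) = 1 := by
  obtain ⟨g, rfl⟩ := AdjoinRoot.mk_surjective a
  rw [Lam_mk hK he hm]
  exact constantCoeff_polyLam _ _ g

include hK he hm in
lemma Lam_of (a : K) : Lam P e (ι a) = PowerSeries.map ι (lamSeries a) := by
  rw [← AdjoinRoot.mk_C, Lam_mk hK he hm, L0, polyLam_C]

include hK he hm in
lemma Lam_root : Lam P e ℓ = 1 + PowerSeries.C ℓ * PowerSeries.X := by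
  rw [show Lam P e ℓ = L0 P e Polynomial.X from by rw [← AdjoinRoot.mk_X, Lam_mk hK he hm], L0,
    ← Polynomial.monomial_one_one_eq_X, polyLam_monomial,
    H27Lambda.lamSeries_one (H27Lambda.lam_one_eq_zero P)]
  simp [pow_one, mul_comm]

include hK he hm in
lemma Lam_coeff_one (z : A) : PowerSeries.coeff 1 (Lam P e z) = z := by
  obtain ⟨g, rfl⟩ := AdjoinRoot.mk_surjective z
  induction g using Polynomial.induction_on' with
  | add q r hq hr =>
    rw [map_add, Lam_add hK he hm, PowerSeries.coeff_one_mul, hq, hr, constantCoeff_Lam hK he hm,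
      constantCoeff_Lam hK he hm]
    ring
  | monomial i a =>
    rw [Lam_mk hK he hm, L0, polyLam_monomial, PowerSeries.coeff_rescale, PowerSeries.coeff_map,
      H27Lambda.coeff_lamSeries, LambdaOps.lam_one, pow_one, ← Polynomial.C_mul_X_pow_eq_monomial,
      map_mul, AdjoinRoot.mk_C, map_pow, AdjoinRoot.mk_X, mul_comm]

/-- The λ-structure on K_e. -/
@[reducible] def ops : LambdaOps (AdjoinRoot (KRR.extPoly P e)) where
  lam i z := PowerSeries.coeff i (Lam P e z)
  lam_zero z := by rw [PowerSeries.coeff_zero_eq_constantCoeff_apply, constantCoeff_Lam hK he hm]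
  lam_one z := Lam_coeff_one hK he hm z
  lam_add k a b := by
    rw [Lam_add hK he hm, PowerSeries.coeff_mul, Finset.Nat.sum_antidiagonal_eq_sum_range_succ_mk]

variable (P e) in
/-- The augmentation of K_e. -/
def aug' (h : Polynomial.eval₂ P.aug 1 (KRR.extPoly P e) = 0) : AdjoinRoot (KRR.extPoly P e) →+* ℤ :=
  AdjoinRoot.lift P.aug 1 h

include hK he hm in
lemma aug_extPoly : Polynomial.eval₂ P.aug 1 p = 0 := by
  have hm0 : 0 < m := by have := P.aug_pos e he; omega
  have heq : P.aug e = (m : ℤ) := by
    have := P.aug_pos e he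
    omega
  have h1 : ∀ i, P.aug (LambdaOps.lam i e) = (m.choose i : ℤ) := fun i => by
    have h := congrArg (PowerSeries.coeff i) (H27Lambda.lamSeries_aug P hK e)
    rw [PowerSeries.coeff_map, H27Lambda.coeff_lamSeries] at h
    rw [h, heq]
    simp [H27Lambda.binSer, Ring.choose_natCast]
  rw [LamCore.extPoly_eq hm, Polynomial.eval₂_finsetSum]
  simp only [Polynomial.eval₂_mul, Polynomial.eval₂_C, Polynomial.eval₂_pow, Polynomial.eval₂_X,
    Polynomial.eval₂_neg, Polynomial.eval₂_one, one_pow, mul_one, map_mul, map_pow, map_neg, map_one, h1]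
  exact Int.alternating_sum_range_choose_of_ne hm0.ne'

variable (P e) in
/-- Effective elements: λ_t is a polynomial of degree ≤ aug with unit top coefficient. -/
def Eff (ε : AdjoinRoot (KRR.extPoly P e) →+* ℤ) : Set (AdjoinRoot (KRR.extPoly P e)) :=
  {z | 0 < ε z ∧ (∀ i, (ε z).toNat < i → PowerSeries.coeff i (Lam P e z) = 0) ∧
    IsUnit (PowerSeries.coeff (ε z).toNat (Lam P e z))}

variable {ε : AdjoinRoot (KRR.extPoly P e) →+* ℤ}

include hK he hm in
lemma eff_mul {a b : A} (ha : a ∈ Eff P e ε) (hb : b ∈ Eff P e ε) : a * b ∈ Eff P e ε := by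
  obtain ⟨ha0, ha1, ha2⟩ := ha
  obtain ⟨hb0, hb1, hb2⟩ := hb
  obtain ⟨h1, h2⟩ := LamMulSer.mulSer_degree (constantCoeff_Lam hK he hm a)
    (constantCoeff_Lam hK he hm b) _ _ ha1 hb1
  have hab : (ε (a * b)).toNat = (ε a).toNat * (ε b).toNat := by
    rw [map_mul, Int.toNat_mul ha0.le hb0.le]
  refine ⟨by rw [map_mul]; exact Int.mul_pos ha0 hb0, ?_, ?_⟩
  · intro i hi
    rw [hab] at hi
    rw [Lam_mul hK he hm]
    exact h1 i hi
  · rw [hab, Lam_mul hK he hm, h2]
    exact (ha2.pow _).mul (hb2.pow _)

include hK he hm in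
lemma eff_add {a b : A} (ha : a ∈ Eff P e ε) (hb : b ∈ Eff P e ε) : a + b ∈ Eff P e ε := by
  obtain ⟨ha0, ha1, ha2⟩ := ha
  obtain ⟨hb0, hb1, hb2⟩ := hb
  have hab : (ε (a + b)).toNat = (ε a).toNat + (ε b).toNat := by
    rw [map_add, Int.toNat_add ha0.le hb0.le]
  refine ⟨by rw [map_add]; omega, ?_, ?_⟩
  · intro i hi
    rw [hab] at hi
    rw [Lam_add hK he hm, PowerSeries.coeff_mul]
    refine sum_eq_zero fun q hq => ?_
    rw [Finset.mem_antidiagonal] at hq
    rcases lt_or_ge (ε a).toNat q.1 with h | h
    · rw [ha1 _ h, zero_mul]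
    · rw [hb1 _ (by omega), mul_zero]
  · rw [hab, Lam_add hK he hm, PowerSeries.coeff_mul,
      sum_eq_single_of_mem ((ε a).toNat, (ε b).toNat) (Finset.mem_antidiagonal.2 rfl)]
    · exact ha2.mul hb2
    · intro q hq hne
      rw [Finset.mem_antidiagonal] at hq
      rcases lt_or_ge (ε a).toNat q.1 with h | h
      · rw [ha1 _ h, zero_mul]
      · rw [hb1 _ (lt_of_le_of_ne (by omega) (fun h' => hne (Prod.ext (by simp at hq ⊢; omega) h'.symm))), mul_zero]

include hK he hm in
lemma of_eff (hε : ∀ a, ε (ι a) = P.aug a) {a : K} (ha : a ∈ P.pos) : ι a ∈ Eff P e ε := by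
  refine ⟨by rw [hε]; exact P.aug_pos a ha, fun i hi => ?_, ?_⟩
  · rw [hε] at hi
    rw [Lam_of hK he hm, PowerSeries.coeff_map, H27Lambda.coeff_lamSeries,
      P.lam_eq_zero a ha i (by have := P.aug_pos a ha; omega), map_zero]
  · rw [hε, Lam_of hK he hm, PowerSeries.coeff_map, H27Lambda.coeff_lamSeries]
    exact (P.isUnit_lam a ha).map _

include hK he hm in
lemma root_isUnit : IsUnit ℓ := by
  have hm0 : 0 < m := by have := P.aug_pos e he; omega
  have h := LamCore.root_relation (P := P) (e := e) hm
  rw [sum_range_succ, Nat.sub_self, pow_zero, mul_one] at h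
  have hu : IsUnit (ι ((-1 : K) ^ m * LambdaOps.lam m e)) :=
    (((isUnit_one.neg).pow m).mul (LamCore.lam_top_isUnit he hm)).map _
  rw [add_eq_zero_iff_neg_eq] at h
  rw [← h, IsUnit.neg_iff] at hu
  have hfac : ∑ x ∈ range m, ι ((-1 : K) ^ x * LambdaOps.lam x e) * ℓ ^ (m - x) =
      ℓ * ∑ x ∈ range m, ι ((-1 : K) ^ x * LambdaOps.lam x e) * ℓ ^ (m - x - 1) := by
    rw [mul_sum]
    refine sum_congr rfl fun i hi => ?_
    conv_lhs => rw [show m - i = m - i - 1 + 1 by have := mem_range.1 hi; omega, pow_succ]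
    ring
  rw [hfac] at hu
  exact (IsUnit.mul_iff.1 hu).1

include hK he hm in
lemma root_eff (hε : ε ℓ = 1) : ℓ ∈ Eff P e ε := by
  refine ⟨by rw [hε]; norm_num, fun i hi => ?_, ?_⟩
  · rw [hε, Int.toNat_one] at hi
    rw [Lam_root hK he hm, map_add, PowerSeries.coeff_C_mul, PowerSeries.coeff_one, PowerSeries.coeff_X,
      if_neg (by omega), if_neg (by omega)]
    simp
  · rw [hε, Int.toNat_one, Lam_coeff_one hK he hm]
    exact root_isUnit hK he hm

include hK he hm in
/-- The structure on K_e. -/
theorem exists_structure :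
    ∃ (inst : LambdaOps (AdjoinRoot (KRR.extPoly P e))) (Pe : @PosStructure _ _ inst),
      (∀ (i : ℕ) (x : K), @LambdaOps.lam _ _ inst i (ι x) = ι (LambdaOps.lam i x)) ∧
      (∀ i : ℕ, 2 ≤ i → @LambdaOps.lam _ _ inst i ℓ = 0) ∧
      @IsExtension K _ _ _ _ inst P Pe (ι) ∧
      @PosStructure.IsLine _ _ inst Pe ℓ ∧
      (2 ≤ P.aug e → ι e - ℓ ∈ (@PosStructure.pos _ _ inst Pe)) := by
  letI inst := ops hK he hm
  haveI := LamCore.nontrivial_of_pos P
  have hm0 : 0 < m := by have := P.aug_pos e he; omega
  set ε := aug' P e (aug_extPoly hK he hm) with hεdef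
  have hεof : ∀ a, ε (ι a) = P.aug a := fun a => AdjoinRoot.lift_of _
  have hεℓ : ε ℓ = 1 := AdjoinRoot.lift_root _
  have hofE := fun {a : K} (ha : a ∈ P.pos) => of_eff hK he hm hεof ha
  have hℓE := root_eff hK he hm hεℓ
  have hmulE := fun {a b : A} ha hb => eff_mul hK he hm (ε := ε) (a := a) (b := b) ha hb
  have haddE := fun {a b : A} ha hb => eff_add hK he hm (ε := ε) (a := a) (b := b) ha hb
  have h1E : (1 : A) ∈ Eff P e ε := by
    have := hofE (H27Lambda.isLine_one P).1
    rwa [map_one] at this
  let Pe : PosStructure A :=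
    { aug := ε
      aug_surjective := fun z => by
        obtain ⟨a, ha⟩ := P.aug_surjective z
        exact ⟨ι a, by rw [hεof, ha]⟩
      pos := Eff P e ε
      add_mem := fun _ _ => haddE
      mul_mem := fun _ _ => hmulE
      natCast_mem := fun n hn => by
        have := hofE (P.natCast_mem n hn)
        rwa [map_natCast] at this
      exists_sub := fun x => by
        obtain ⟨g, rfl⟩ := AdjoinRoot.mk_surjective x
        induction g using Polynomial.induction_on' with
        | add q r hq hr =>
          obtain ⟨a, b, ha, hb, h1⟩ := hq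
          obtain ⟨c, d, hc, hd, h2⟩ := hr
          exact ⟨a + c, b + d, haddE ha hc, haddE hb hd, by rw [map_add, h1, h2]; ring⟩
        | monomial i a =>
          obtain ⟨c, d, hc, hd, rfl⟩ := P.exists_sub a
          have hpow : ∀ {z : K}, z ∈ P.pos → ι z * ℓ ^ i ∈ Eff P e ε := by
            intro z hz
            clear hc hd
            induction i with
            | zero => simpa using hofE hz
            | succ i ih => rw [pow_succ, ← mul_assoc]; exact hmulE ih hℓE
          exact ⟨_, _, hpow hc, hpow hd, by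
            rw [← Polynomial.C_mul_X_pow_eq_monomial, map_mul, AdjoinRoot.mk_C, map_pow, AdjoinRoot.mk_X,
              map_sub, sub_mul]⟩
      aug_pos := fun _ h => h.1
      lam_eq_zero := fun x h i hi => h.2.1 i (by have := h.1; omega)
      isUnit_lam := fun _ h => h.2.2 }
  have hext : ∀ (i : ℕ) (x : K), LambdaOps.lam i (ι x) = ι (LambdaOps.lam i x) := fun i x => by
    show PowerSeries.coeff i (Lam P e (ι x)) = _
    rw [Lam_of hK he hm, PowerSeries.coeff_map, H27Lambda.coeff_lamSeries]
  have hroot : ∀ i : ℕ, 2 ≤ i → LambdaOps.lam i ℓ = 0 := fun i hi => by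
    show PowerSeries.coeff i (Lam P e ℓ) = 0
    exact hℓE.2.1 i (by rw [hεℓ]; omega)
  refine ⟨inst, Pe, hext, hroot, ?_, ⟨hℓE, hεℓ⟩, ?_⟩
  · refine ⟨fun i x => (hext i x).symm, ?_, hεof, fun x hx => hofE hx⟩
    intro a b hab
    have h : AdjoinRoot.mk p (Polynomial.C (a - b)) = 0 := by simp [hab]
    rw [AdjoinRoot.mk_eq_zero] at h
    by_contra hne
    refine (LamCore.monic_extPoly (K := K) hm).not_dvd_of_degree_lt ?_ ?_ h
    · rwa [Ne, Polynomial.C_eq_zero, sub_eq_zero]
    · rw [Polynomial.degree_C (sub_ne_zero.2 hne),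
        Polynomial.degree_eq_natDegree (LamCore.monic_extPoly (K := K) hm).ne_zero,
        LamCore.natDegree_extPoly hm]
      exact_mod_cast hm0
  · intro h2
    have haug : ε (ι e - ℓ) = (m : ℤ) - 1 := by
      rw [map_sub, hεof, hεℓ]
      have := P.aug_pos e he
      omega
    have hlam : ∀ i, PowerSeries.coeff i (Lam P e (ι e - ℓ)) = (-1) ^ i *
        ∑ j ∈ range (i + 1), ι ((-1 : K) ^ j * LambdaOps.lam j e) * ℓ ^ (i - j) := fun i =>
      LamCore.lam_sub_root inst hext hroot e i
    show 0 < ε _ ∧ _ ∧ _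
    refine ⟨by rw [haug]; omega, fun i hi => ?_, ?_⟩
    · rw [haug] at hi
      obtain ⟨d, rfl⟩ : ∃ d, i = m + d := ⟨i - m, by omega⟩
      rw [hlam, ← sum_range_add_sum_Ico _ (show m + 1 ≤ m + d + 1 by omega),
        sum_eq_zero (s := Finset.Ico _ _) (fun j hj => by
          rw [LamCore.lam_above he hm (by simp only [Finset.mem_Ico] at hj; omega), mul_zero, map_zero, zero_mul]),
        add_zero, sum_congr rfl (fun j hj => by
          rw [show m + d - j = d + (m - j) by have := mem_range.1 hj; omega, pow_add, mul_left_comm]),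
        ← mul_sum, LamCore.root_relation hm, mul_zero, mul_zero]
    · rw [haug, show ((m : ℤ) - 1).toNat = m - 1 by omega, hlam]
      refine ((isUnit_one.neg).pow _).mul ?_
      have h := LamCore.root_relation (P := P) (e := e) hm
      rw [sum_range_succ, Nat.sub_self, pow_zero, mul_one, add_eq_zero_iff_neg_eq] at h
      have hu : IsUnit (ι ((-1 : K) ^ m * LambdaOps.lam m e)) :=
        (((isUnit_one.neg).pow m).mul (LamCore.lam_top_isUnit he hm)).map _
      rw [← h, IsUnit.neg_iff] at hu
      have hfac : ∑ x ∈ range m, ι ((-1 : K) ^ x * LambdaOps.lam x e) * ℓ ^ (m - x) =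
          ℓ * ∑ x ∈ range m, ι ((-1 : K) ^ x * LambdaOps.lam x e) * ℓ ^ (m - 1 - x) := by
        rw [mul_sum]
        refine sum_congr rfl fun i hi => ?_
        conv_lhs => rw [show m - i = m - 1 - i + 1 by have := mem_range.1 hi; omega, pow_succ]
        ring
      rw [hfac] at hu
      have := (IsUnit.mul_iff.1 hu).2
      rwa [show m - 1 + 1 = m by omega]

end Structure

end Groth.Agent.H22Alg.LamExtension
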