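import Groth.Prelude.Def_KGr
import Groth.Agent.H27Lambda.Splitting
import Mathlib.RingTheory.Localization.BaseChange
import Mathlib.Data.Rat.Cast.Order

/-! The graded ring of the γ-filtration and the Chern character. -/

universe u

open Finset LambdaRing TensorProduct
open scoped LaurentPolynomial

noncomputable section

namespace Groth.Agent.H22Alg.LamGr

open LaurentPolynomial (C T)

variable {K : Type u} [CommRing K] [LambdaOps K] {P : PosStructure K}

local notation "Fl" => fun n => gammaFil P.aug n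

variable (P) in
/-- Laurent polynomials whose coefficient at t^(-n) lies in F^n. -/
def reesBound : Subring (LaurentPolynomial K) where
  carrier := {p | ∀ n : ℕ, p.coeff (-(n : ℤ)) ∈ gammaFil P.aug n}
  mul_mem' {p q} hp hq n := by
    classical
    rw [AddMonoidAlgebra.coeff_mul]
    refine Submodule.sum_mem _ fun a _ => ?_
    refine Submodule.sum_mem _ fun b _ => ?_
    dsimp only
    split_ifs with hab
    · rcases le_or_gt (-(n : ℤ)) a with ha | ha
      · rcases le_or_gt a 0 with ha' | ha'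
        · obtain ⟨i, rfl⟩ : ∃ i : ℕ, a = -(i : ℤ) := ⟨(-a).toNat, by omega⟩
          obtain ⟨j, rfl⟩ : ∃ j : ℕ, b = -(j : ℤ) := ⟨(-b).toNat, by omega⟩
          exact H27Lambda.gammaFil_mul_mem _ (hp i) (hq j) (by omega)
        · obtain ⟨j, rfl⟩ : ∃ j : ℕ, b = -(j : ℤ) := ⟨(-b).toNat, by omega⟩
          exact Ideal.mul_mem_left _ _ (H27Lambda.gammaFil_antitone _ (by omega) (hq j))
      · obtain ⟨i, rfl⟩ : ∃ i : ℕ, a = -(i : ℤ) := ⟨(-a).toNat, by omega⟩
        exact Ideal.mul_mem_right _ _ (H27Lambda.gammaFil_antitone _ (by omega) (hp i))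
    · exact zero_mem _
  one_mem' n := by
    rcases Nat.eq_zero_or_pos n with rfl | h
    · simp [H27Lambda.gammaFil_zero]
    · rw [← LaurentPolynomial.T_zero, LaurentPolynomial.T_apply, if_neg (by omega)]
      exact zero_mem _
  add_mem' {p q} hp hq n := by
    rw [AddMonoidAlgebra.coeff_add, Finsupp.add_apply]; exact add_mem (hp n) (hq n)
  zero_mem' n := by simp
  neg_mem' {p} hp n := by
    rw [AddMonoidAlgebra.coeff_neg, Finsupp.neg_apply]; exact neg_mem (hp n)

lemma coeff_C_mul_T (x : K) (n a : ℤ) : (C x * T n).coeff a = if n = a then x else 0 := by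
  rw [← LaurentPolynomial.single_eq_C_mul_T, AddMonoidAlgebra.coeff_single, Finsupp.single_apply]

lemma rees_le : KGr.rees P ≤ reesBound P := by
  refine Subring.closure_le.2 ?_
  rintro p (rfl | ⟨n, x, hx, rfl⟩) m
  · rw [LaurentPolynomial.T_apply, if_neg (by omega)]
    exact zero_mem _
  · rw [coeff_C_mul_T]
    split_ifs with h
    · rw [← H27Lambda.gammaFiltration_eq, show m = n by omega]; exact hx
    · exact zero_mem _

lemma mem_of_C_mul_T_mem {x : K} {n : ℕ} (h : C x * T (-(n : ℤ)) ∈ KGr.rees P) :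
    x ∈ gammaFiltration P n := by
  rw [H27Lambda.gammaFiltration_eq]
  have := rees_le h n
  rwa [coeff_C_mul_T, if_pos rfl] at this

lemma C_mul_T_mem {x : K} {n : ℕ} (hx : x ∈ gammaFiltration P n) :
    C x * T (-(n : ℤ)) ∈ KGr.rees P :=
  Subring.subset_closure (Set.mem_insert_of_mem _ ⟨n, x, hx, rfl⟩)

variable (P) in
/-- The class in degree n of an element of F^n. -/
def cls (n : ℕ) : gammaFiltration P n →+ KGr.GrZ P where
  toFun x := Ideal.Quotient.mk _ ⟨C (x : K) * T (-(n : ℤ)), C_mul_T_mem x.2⟩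
  map_zero' := by
    refine (congrArg _ (Subtype.ext ?_)).trans (map_zero _)
    simp
  map_add' x y := by
    rw [← map_add]
    refine congrArg _ (Subtype.ext ?_)
    simp [add_mul]

variable (P) in
/-- The class in ℚ-graded degree n. -/
def qcls (n : ℕ) : gammaFiltration P n →+ KGr.Gr P :=
  (TensorProduct.mk ℤ ℚ (KGr.GrZ P) 1).toAddMonoidHom.comp (cls P n)

lemma mul_mem_fil {m n k : ℕ} {x y : K} (hx : x ∈ gammaFiltration P m) (hy : y ∈ gammaFiltration P n)
    (h : k ≤ m + n) : x * y ∈ gammaFiltration P k := by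
  rw [H27Lambda.gammaFiltration_eq] at hx hy ⊢
  exact H27Lambda.gammaFil_mul_mem _ hx hy h

lemma qcls_mul {m n : ℕ} (x : gammaFiltration P m) (y : gammaFiltration P n) :
    qcls P m x * qcls P n y = qcls P (m + n) ⟨x.1 * y.1, mul_mem_fil x.2 y.2 le_rfl⟩ := by
  show ((1 : ℚ) ⊗ₜ[ℤ] cls P m x) * ((1 : ℚ) ⊗ₜ[ℤ] cls P n y) = (1 : ℚ) ⊗ₜ[ℤ] cls P (m + n) _
  rw [Algebra.TensorProduct.tmul_mul_tmul, one_mul]
  congr 1
  show Ideal.Quotient.mk _ _ * Ideal.Quotient.mk _ _ = Ideal.Quotient.mk _ _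
  rw [← map_mul]
  refine congrArg _ (Subtype.ext ?_)
  show C x.1 * T (-(m : ℤ)) * (C y.1 * T (-(n : ℤ))) = C (x.1 * y.1) * T (-((m + n : ℕ) : ℤ))
  rw [map_mul, show (-((m + n : ℕ) : ℤ)) = -(m : ℤ) + -(n : ℤ) by push_cast; ring,
    LaurentPolynomial.T_add]
  ring

lemma qcls_congr {n : ℕ} {x y : gammaFiltration P n} (h : (x : K) = y) : qcls P n x = qcls P n y :=
  congrArg _ (Subtype.ext h)

lemma qcls_eq_zero_of_mem_succ {n : ℕ} (x : gammaFiltration P n)
    (hx : (x : K) ∈ gammaFiltration P (n + 1)) : qcls P n x = 0 := by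
  show (1 : ℚ) ⊗ₜ[ℤ] cls P n x = 0
  rw [show cls P n x = 0 from Ideal.Quotient.eq_zero_iff_mem.2 (Ideal.mem_span_singleton.2
    ⟨⟨C (x : K) * T (-((n + 1 : ℕ) : ℤ)), C_mul_T_mem hx⟩, Subtype.ext ?_⟩), tmul_zero]
  show C (x : K) * T (-(n : ℤ)) = T 1 * (C (x : K) * T (-((n + 1 : ℕ) : ℤ)))
  rw [show (-(n : ℤ)) = 1 + -((n + 1 : ℕ) : ℤ) by push_cast; ring, LaurentPolynomial.T_add]
  ring

lemma grK_eq {n : ℕ} {x : K} (hx : x ∈ gammaFiltration P n) :
    KGr.grK P n x = qcls P n ⟨x, hx⟩ := by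
  have hex : ∃ N : ℕ, 1 ≤ N ∧ C ((N : K) * x) * T (-(n : ℤ)) ∈ KGr.rees P :=
    ⟨1, le_rfl, by simpa using C_mul_T_mem hx⟩
  rw [KGr.grK, dif_pos hex]
  show _ = (1 : ℚ) ⊗ₜ[ℤ] cls P n ⟨x, hx⟩
  obtain ⟨h1, h2⟩ := hex.choose_spec
  show (1 / ((hex.choose : ℕ) : ℚ)) ⊗ₜ[ℤ] Ideal.Quotient.mk _
    (⟨C ((hex.choose : K) * x) * T (-(n : ℤ)), h2⟩ : KGr.rees P) = _
  revert h1 h2
  generalize hex.choose = N
  intro h1 h2
  have h3 : Ideal.Quotient.mk (Ideal.span {KGr.tGen P})
      (⟨C ((N : K) * x) * T (-(n : ℤ)), h2⟩ : KGr.rees P) = (N : ℤ) • cls P n ⟨x, hx⟩ := by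
    show _ = (N : ℤ) • Ideal.Quotient.mk _ _
    rw [← map_zsmul]
    refine congrArg _ (Subtype.ext ?_)
    rw [natCast_zsmul]
    show C ((N : K) * x) * T (-(n : ℤ)) = N • (C x * T (-(n : ℤ)))
    rw [nsmul_eq_mul, map_mul, map_natCast]
    ring
  rw [h3, tmul_smul, smul_tmul']
  congr 1
  rw [zsmul_eq_mul, Int.cast_natCast, mul_one_div, div_self (by exact_mod_cast show N ≠ 0 by omega)]

/-- Coefficient extraction: degree n part modulo F^(n+1). -/
def projZ (P : PosStructure K) (n : ℕ) : KGr.GrZ P →+ K ⧸ gammaFiltration P (n + 1) :=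
  QuotientAddGroup.lift (Ideal.span {KGr.tGen P}).toAddSubgroup
    (AddMonoidHom.mk' (fun p : KGr.rees P =>
      (QuotientAddGroup.mk (p.1.coeff (-(n : ℤ))) : K ⧸ gammaFiltration P (n + 1)))
      (fun p q => by
        rw [← QuotientAddGroup.mk_add]
        congr 1))
    (fun p hp => by
      obtain ⟨q, rfl⟩ := Ideal.mem_span_singleton.1 hp
      rw [AddMonoidHom.mem_ker]
      show (QuotientAddGroup.mk ((T 1 * q.1 : LaurentPolynomial K).coeff (-(n : ℤ))) :
        K ⧸ gammaFiltration P (n + 1)) = 0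
      rw [QuotientAddGroup.eq_zero_iff, H27Lambda.gammaFiltration_eq,
        show T (1 : ℤ) = (AddMonoidAlgebra.single 1 (1 : K) : LaurentPolynomial K) from rfl,
        AddMonoidAlgebra.coeff_single_mul_apply, one_mul]
      convert rees_le q.2 (n + 1) using 2
      push_cast; ring)

/-- The degree n projection on ℚGr. -/
def proj (P : PosStructure K) (n : ℕ) : KGr.Gr P →ₗ[ℤ] ℚ ⊗[ℤ] (K ⧸ gammaFiltration P (n + 1)) :=
  LinearMap.lTensor ℚ (projZ P n).toIntLinearMap

lemma proj_smul_qcls (n k : ℕ) (q : ℚ) (x : gammaFiltration P k) :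
    proj P n (q • qcls P k x) =
      if k = n then q ⊗ₜ[ℤ] (QuotientAddGroup.mk (x : K)) else 0 := by
  show proj P n (q • ((1 : ℚ) ⊗ₜ[ℤ] cls P k x)) = _
  rw [smul_tmul', smul_eq_mul, mul_one]
  show q ⊗ₜ[ℤ] (QuotientAddGroup.mk ((C (x : K) * T (-(k : ℤ))).coeff (-(n : ℤ))) :
    K ⧸ gammaFiltration P (n + 1)) = _
  rw [coeff_C_mul_T]
  split_ifs with h h' h' <;> first | rfl | omega | (rw [QuotientAddGroup.mk_zero, tmul_zero])

variable (P) in
/-- The span of the classes of degree ≥ n. -/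
def G (n : ℕ) : Submodule ℚ (KGr.Gr P) :=
  Submodule.span ℚ {z | ∃ (k : ℕ) (x : gammaFiltration P k), n ≤ k ∧ z = qcls P k x}

variable (P) in
/-- The span of the classes of degree n. -/
def D (n : ℕ) : Submodule ℚ (KGr.Gr P) := Submodule.span ℚ (Set.range (qcls P n))

lemma D_le_G {m n : ℕ} (h : m ≤ n) : D P n ≤ G P m :=
  Submodule.span_mono (by rintro _ ⟨x, rfl⟩; exact ⟨n, x, h, rfl⟩)

lemma D_mul {a b : ℕ} {x y : KGr.Gr P} (hx : x ∈ D P a) (hy : y ∈ D P b) :
    x * y ∈ D P (a + b) := by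
  induction hx using Submodule.span_induction with
  | mem u hu =>
    obtain ⟨u, rfl⟩ := hu
    induction hy using Submodule.span_induction with
    | mem v hv =>
      obtain ⟨v, rfl⟩ := hv
      rw [qcls_mul]
      exact Submodule.subset_span ⟨_, rfl⟩
    | zero => rw [mul_zero]; exact zero_mem _
    | add v w _ _ hv hw => rw [mul_add]; exact add_mem hv hw
    | smul q v _ hv => rw [mul_smul_comm]; exact Submodule.smul_mem _ q hv
  | zero => rw [zero_mul]; exact zero_mem _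
  | add v w _ _ hv hw => rw [add_mul]; exact add_mem hv hw
  | smul q v _ hv => rw [smul_mul_assoc]; exact Submodule.smul_mem _ q hv

lemma G_eq_bot {d : ℕ} (hd : gammaFiltration P (d + 1) = ⊥) {n : ℕ} (h : d < n) : G P n = ⊥ := by
  rw [G, Submodule.span_eq_bot]
  rintro _ ⟨k, x, hk, rfl⟩
  have hmem : (x : K) ∈ gammaFiltration P (d + 1) := by
    have := x.2
    rw [H27Lambda.gammaFiltration_eq] at this ⊢
    exact H27Lambda.gammaFil_antitone _ (by omega) this
  rw [hd, AddSubgroup.mem_bot] at hmem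
  rw [show x = 0 from Subtype.ext hmem, map_zero]

lemma top_eq : (⊤ : Submodule ℚ (KGr.Gr P)) = G P 0 := by
  refine (eq_top_iff.2 fun v hv => ?_).symm
  clear hv
  suffices h : ∀ z : KGr.GrZ P, (1 : ℚ) ⊗ₜ[ℤ] z ∈ G P 0 by
    induction v using TensorProduct.induction_on with
    | zero => exact zero_mem _
    | tmul a z =>
      rw [show a ⊗ₜ[ℤ] z = a • ((1 : ℚ) ⊗ₜ[ℤ] z) by rw [smul_tmul', smul_eq_mul, mul_one]]
      exact Submodule.smul_mem _ _ (h z)
    | add a b ha hb => exact add_mem (ha) (hb)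
  intro z
  obtain ⟨⟨p, hp⟩, rfl⟩ := Ideal.Quotient.mk_surjective z
  have hmul : ∀ {a b : KGr.Gr P}, a ∈ G P 0 → b ∈ G P 0 → a * b ∈ G P 0 := by
    intro a b ha hb
    induction ha using Submodule.span_induction with
    | mem u hu =>
      obtain ⟨k, u, -, rfl⟩ := hu
      induction hb using Submodule.span_induction with
      | mem v hv =>
        obtain ⟨l, v, -, rfl⟩ := hv
        rw [qcls_mul]
        exact Submodule.subset_span ⟨_, _, Nat.zero_le _, rfl⟩
      | zero => rw [mul_zero]; exact zero_mem _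
      | add v w _ _ hv hw => rw [mul_add]; exact add_mem hv hw
      | smul q v _ hv => rw [mul_smul_comm]; exact Submodule.smul_mem _ q hv
    | zero => rw [zero_mul]; exact zero_mem _
    | add v w _ _ hv hw => rw [add_mul]; exact add_mem hv hw
    | smul q v _ hv => rw [smul_mul_assoc]; exact Submodule.smul_mem _ q hv
  induction hp using Subring.closure_induction with
  | mem y hy =>
    rcases hy with rfl | ⟨n, x, hx, rfl⟩
    · have h0 : Ideal.Quotient.mk (Ideal.span {KGr.tGen P}) (KGr.tGen P) = 0 :=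
        Ideal.Quotient.eq_zero_iff_mem.2 (Ideal.mem_span_singleton_self _)
      show (1 : ℚ) ⊗ₜ[ℤ] Ideal.Quotient.mk _ (KGr.tGen P) ∈ _
      rw [h0, tmul_zero]; exact zero_mem _
    · exact Submodule.subset_span ⟨n, ⟨x, hx⟩, Nat.zero_le _, rfl⟩
  | zero =>
    show (1 : ℚ) ⊗ₜ[ℤ] Ideal.Quotient.mk _ (0 : KGr.rees P) ∈ _
    rw [map_zero, tmul_zero]; exact zero_mem _
  | one =>
    refine Submodule.subset_span ⟨0, ⟨1, by simp [gammaFiltration]⟩, le_rfl, ?_⟩
    refine congrArg (fun z => (1 : ℚ) ⊗ₜ[ℤ] z) (congrArg _ (Subtype.ext ?_))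
    simp
  | add a b ha hb iha ihb =>
    show (1 : ℚ) ⊗ₜ[ℤ] Ideal.Quotient.mk _ ((⟨a, ha⟩ : KGr.rees P) + ⟨b, hb⟩) ∈ _
    rw [map_add, tmul_add]; exact add_mem iha ihb
  | neg a ha iha =>
    show (1 : ℚ) ⊗ₜ[ℤ] Ideal.Quotient.mk _ (-(⟨a, ha⟩ : KGr.rees P)) ∈ _
    rw [map_neg, tmul_neg]; exact neg_mem iha
  | mul a b ha hb iha ihb =>
    have h := hmul iha ihb
    rw [Algebra.TensorProduct.tmul_mul_tmul, one_mul, ← map_mul] at h
    exact h

end Groth.Agent.H22Alg.LamGr
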