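import Groth.Agent.H27Lambda.Line
import Mathlib.RingTheory.AdjoinRoot
import Mathlib.RingTheory.Polynomial.Vieta

/-! Identities for the λ-product of series, in any commutative ring. -/

universe u

open Finset LambdaRing

noncomputable section

namespace Groth.Agent.H22Alg.LamMulSer

open Groth.Agent.H27Lambda

variable {R : Type u} [CommRing R]

/-- The generic series in a family of variables. -/
def genF {σ : Type} (ι : ℕ → σ) : PowerSeries (MvPolynomial σ ℤ) :=
  PowerSeries.mk fun n => if n = 0 then 1 else MvPolynomial.X (ι (n - 1))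

lemma constantCoeff_genF {σ : Type} (ι : ℕ → σ) : PowerSeries.constantCoeff (genF ι) = 1 := by
  simp [genF, ← PowerSeries.coeff_zero_eq_constantCoeff_apply]

lemma map_genF {σ : Type} (ι : ℕ → σ) {f : PowerSeries R} (hf : PowerSeries.constantCoeff f = 1)
    (g : σ → R) (hg : ∀ n, g (ι n) = PowerSeries.coeff (n + 1) f) :
    PowerSeries.map (MvPolynomial.eval₂Hom (Int.castRingHom R) g) (genF ι) = f := by
  ext n
  rcases n with _ | n
  · rw [PowerSeries.coeff_map, PowerSeries.coeff_zero_eq_constantCoeff_apply, constantCoeff_genF,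
      map_one, PowerSeries.coeff_zero_eq_constantCoeff_apply, hf]
  · rw [PowerSeries.coeff_map, genF, PowerSeries.coeff_mk, if_neg (Nat.succ_ne_zero n),
      Nat.add_sub_cancel, MvPolynomial.eval₂Hom_X', hg]

instance torsionFree_mv (σ : Type) : IsAddTorsionFree (MvPolynomial σ ℤ) :=
  isAddTorsionFree_mvPolynomial ℤ σ

lemma mulSer_comm {f g : PowerSeries R} (hf : PowerSeries.constantCoeff f = 1)
    (hg : PowerSeries.constantCoeff g = 1) : mulSer f g = mulSer g f := by
  have h : mulSer (genF (Sum.inl : ℕ → ℕ ⊕ ℕ)) (genF Sum.inr) =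
      mulSer (genF Sum.inr) (genF (Sum.inl : ℕ → ℕ ⊕ ℕ)) :=
    series_eq_of_ghost (constantCoeff_mulSer _ _) (constantCoeff_mulSer _ _) fun k => by
      rw [ghost_mulSer (constantCoeff_genF _) (constantCoeff_genF _),
        ghost_mulSer (constantCoeff_genF _) (constantCoeff_genF _), mul_comm]
  have h2 := congrArg (PowerSeries.map (MvPolynomial.eval₂Hom (Int.castRingHom R)
    (Sum.elim (fun n => PowerSeries.coeff (n + 1) f) (fun n => PowerSeries.coeff (n + 1) g)))) h
  rwa [map_mulSer, map_mulSer, map_genF Sum.inl hf _ (fun _ => rfl),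
    map_genF Sum.inr hg _ (fun _ => rfl)] at h2

lemma mulSer_mul {f g h : PowerSeries R} (hf : PowerSeries.constantCoeff f = 1)
    (hg : PowerSeries.constantCoeff g = 1) (hh : PowerSeries.constantCoeff h = 1) :
    mulSer (f * g) h = mulSer f h * mulSer g h := by
  let a : ℕ → ℕ × Fin 3 := fun n => (n, 0)
  let b : ℕ → ℕ × Fin 3 := fun n => (n, 1)
  let c : ℕ → ℕ × Fin 3 := fun n => (n, 2)
  have ha := constantCoeff_genF a
  have hb := constantCoeff_genF b
  have hab : PowerSeries.constantCoeff (genF a * genF b) = 1 := by rw [map_mul, ha, hb, one_mul]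
  have hU : mulSer (genF a * genF b) (genF c) = mulSer (genF a) (genF c) * mulSer (genF b) (genF c) :=
    series_eq_of_ghost (constantCoeff_mulSer _ _)
      (by rw [map_mul, constantCoeff_mulSer, constantCoeff_mulSer, one_mul]) fun k => by
      rw [ghost_mulSer hab (constantCoeff_genF c), ghost_mul ha hb,
        ghost_mul (constantCoeff_mulSer _ _) (constantCoeff_mulSer _ _),
        ghost_mulSer ha (constantCoeff_genF c), ghost_mulSer hb (constantCoeff_genF c), add_mul]
  set φ := MvPolynomial.eval₂Hom (Int.castRingHom R) (fun q : ℕ × Fin 3 =>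
    PowerSeries.coeff (q.1 + 1) (if q.2 = 0 then f else if q.2 = 1 then g else h))
  have h2 := congrArg (PowerSeries.map φ) hU
  rwa [map_mulSer, map_mul, map_mul, map_mulSer, map_mulSer,
    map_genF a hf _ (fun n => by simp [a]), map_genF b hg _ (fun n => by simp [b]),
    map_genF c hh _ (fun n => by simp [c])] at h2

lemma mulSer_rescale {f g : PowerSeries R} (hf : PowerSeries.constantCoeff f = 1)
    (hg : PowerSeries.constantCoeff g = 1) (x y : R) :
    mulSer (PowerSeries.rescale x f) (PowerSeries.rescale y g) =
      PowerSeries.rescale (x * y) (mulSer f g) := by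
  let a : ℕ → (ℕ ⊕ ℕ) ⊕ Bool := fun n => Sum.inl (Sum.inl n)
  let b : ℕ → (ℕ ⊕ ℕ) ⊕ Bool := fun n => Sum.inl (Sum.inr n)
  let X' : MvPolynomial ((ℕ ⊕ ℕ) ⊕ Bool) ℤ := MvPolynomial.X (Sum.inr true)
  let Y' : MvPolynomial ((ℕ ⊕ ℕ) ⊕ Bool) ℤ := MvPolynomial.X (Sum.inr false)
  have ha := constantCoeff_genF a
  have hb := constantCoeff_genF b
  have hU : mulSer (PowerSeries.rescale X' (genF a)) (PowerSeries.rescale Y' (genF b)) =
      PowerSeries.rescale (X' * Y') (mulSer (genF a) (genF b)) :=
    series_eq_of_ghost (constantCoeff_mulSer _ _)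
      (by rw [H27Lambda.constantCoeff_rescale, constantCoeff_mulSer]) fun k => by
      rw [ghost_mulSer (by rw [H27Lambda.constantCoeff_rescale, ha])
          (by rw [H27Lambda.constantCoeff_rescale, hb]),
        ghost_rescale ha, ghost_rescale hb, ghost_rescale (constantCoeff_mulSer _ _),
        ghost_mulSer ha hb, mul_pow]
      ring
  set φ := MvPolynomial.eval₂Hom (Int.castRingHom R)
    (Sum.elim (Sum.elim (fun n => PowerSeries.coeff (n + 1) f) (fun n => PowerSeries.coeff (n + 1) g))
      (fun t : Bool => if t then x else y))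
  have h2 := congrArg (PowerSeries.map φ) hU
  rwa [map_mulSer, ← PowerSeries.rescale_map, ← PowerSeries.rescale_map, ← PowerSeries.rescale_map,
    map_mulSer, map_genF a hf _ (fun n => rfl), map_genF b hg _ (fun n => rfl),
    show φ (X' * Y') = x * y by simp [φ, X', Y'], show φ X' = x by simp [φ, X'],
    show φ Y' = y by simp [φ, Y']] at h2

lemma mulSer_one {f : PowerSeries R} (hf : PowerSeries.constantCoeff f = 1) :
    mulSer f 1 = 1 := by
  have h := mulSer_mul (R := R) (f := 1) (g := 1) (by simp) (by simp) hf
  rw [one_mul] at h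
  have hu : IsUnit (mulSer 1 f) := by
    rw [PowerSeries.isUnit_iff_constantCoeff, constantCoeff_mulSer]; exact isUnit_one
  rw [mulSer_comm hf (by simp)]
  exact hu.mul_left_cancel (a := mulSer 1 f) (by rw [← h, mul_one])

lemma mulSer_eSer (s t : Multiset R) :
    mulSer (eSer s) (eSer t) = eSer ((s ×ˢ t).map fun p => p.1 * p.2) := by
  obtain ⟨s, rfl⟩ := Quot.exists_rep s
  obtain ⟨t, rfl⟩ := Quot.exists_rep t
  let S' : Multiset (MvPolynomial (Fin s.length ⊕ Fin t.length) ℤ) :=
    (((List.finRange s.length).map fun i =>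
      (MvPolynomial.X (Sum.inl i) : MvPolynomial (Fin s.length ⊕ Fin t.length) ℤ)) : List _)
  let T' : Multiset (MvPolynomial (Fin s.length ⊕ Fin t.length) ℤ) :=
    (((List.finRange t.length).map fun i =>
      (MvPolynomial.X (Sum.inr i) : MvPolynomial (Fin s.length ⊕ Fin t.length) ℤ)) : List _)
  have hU : mulSer (eSer S') (eSer T') = eSer ((S' ×ˢ T').map fun p => p.1 * p.2) :=
    series_eq_of_ghost (constantCoeff_mulSer _ _) (constantCoeff_eSer _) fun k => by
      rw [ghost_mulSer (constantCoeff_eSer _) (constantCoeff_eSer _), ghost_eSer, ghost_eSer,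
        ghost_eSer, Multiset.map_map]
      simp only [Function.comp_def, mul_pow]
      induction S' using Multiset.induction with
      | empty => simp
      | cons a S ih =>
        rw [Multiset.cons_product, Multiset.map_add, Multiset.sum_add, Multiset.map_cons,
          Multiset.sum_cons, add_mul, ih, Multiset.map_map]
        congr 1
        rw [← Multiset.sum_map_mul_left]
        rfl
  set φ := MvPolynomial.eval₂Hom (Int.castRingHom R)
    (Sum.elim (fun i : Fin s.length => s.get i) (fun i : Fin t.length => t.get i))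
  have h2 := congrArg (PowerSeries.map φ) hU
  rw [map_mulSer, map_eSer, map_eSer, map_eSer, Multiset.map_map] at h2
  have hS : S'.map φ = (s : Multiset R) := by
    simp only [S', Multiset.map_coe, List.map_map]
    congr 1
    apply List.ext_getElem
    · simp
    · intro i h1 h2
      simp [φ]
  have hT : T'.map φ = (t : Multiset R) := by
    simp only [T', Multiset.map_coe, List.map_map]
    congr 1
    apply List.ext_getElem
    · simp
    · intro i h1 h2
      simp [φ]
  rw [hS, hT] at h2
  refine h2.trans (congrArg eSer ?_)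
  show ((S' ×ˢ T').map (fun p => φ (p.1 * p.2))) = _
  have : ((S'.map φ) ×ˢ (T'.map φ)) = (S' ×ˢ T').map (Prod.map φ φ) := by
    induction S' using Multiset.induction with
    | empty => simp
    | cons a S ih =>
      rw [Multiset.map_cons, Multiset.cons_product, Multiset.cons_product, Multiset.map_add,
        Multiset.map_map, Multiset.map_map]
      congr 1
  rw [show (Quot.mk _ s : Multiset R) = S'.map φ from hS.symm,
    show (Quot.mk _ t : Multiset R) = T'.map φ from hT.symm, this, Multiset.map_map]
  simp

open Polynomial in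
/-- A monic polynomial splits over some extension ring. -/
lemma exists_split_monic (n : ℕ) :
    ∀ {A : Type u} [CommRing A] (q : A[X]), q.Monic → q.natDegree = n →
      ∃ (S : Type u) (_ : CommRing S) (g : A →+* S), Function.Injective g ∧
        ∃ s : Multiset S, q.map g = (s.map fun r => X - C r).prod ∧ Multiset.card s = n := by
  induction n with
  | zero =>
    intro A _ q hq hn
    exact ⟨A, inferInstance, RingHom.id A, Function.injective_id, 0,
      by simp [hq.natDegree_eq_zero.1 hn], rfl⟩
  | succ n ih =>
    intro A _ q hq hn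
    rcases subsingleton_or_nontrivial A with hA | hA
    · simp [Subsingleton.elim q 0] at hn
    have hinj : Function.Injective (AdjoinRoot.of q) := by
      intro a b hab
      have h : AdjoinRoot.mk q (C a) = AdjoinRoot.mk q (C b) := by simpa using hab
      rw [AdjoinRoot.mk_eq_mk, ← map_sub] at h
      have h2 := hq.not_dvd_of_degree_lt (p := q) (q := C (a - b))
      by_contra hne
      refine h2 (fun h0 => sub_ne_zero.2 hne (by rwa [Polynomial.C_eq_zero] at h0)) ?_ h
      rw [Polynomial.degree_C (sub_ne_zero.2 hne), Polynomial.degree_eq_natDegree hq.ne_zero, hn]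
      exact_mod_cast Nat.succ_pos n
    haveI : Nontrivial (AdjoinRoot q) := hinj.nontrivial
    obtain ⟨q', hq'⟩ := (dvd_iff_isRoot (p := q.map (AdjoinRoot.of q))).2
      (AdjoinRoot.isRoot_root q)
    have hm' : q'.Monic := (monic_X_sub_C _).of_mul_monic_left (hq' ▸ hq.map _)
    have hn' : q'.natDegree = n := by
      have h := congrArg natDegree hq'
      rw [(monic_X_sub_C _).natDegree_mul hm', natDegree_X_sub_C, hq.natDegree_map, hn] at h
      omega
    obtain ⟨S, _, g, hg, s, hs, hcard⟩ := ih q' hm' hn'
    refine ⟨S, inferInstance, g.comp (AdjoinRoot.of q), hg.comp hinj, g (AdjoinRoot.root q) ::ₘ s, ?_,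
      by simp [hcard]⟩
    rw [← Polynomial.map_map, hq', Polynomial.map_mul, hs]
    simp

/-- A series which is a polynomial with unit top coefficient is eSer of units in an extension. -/
lemma exists_eSer {f : PowerSeries R} (hf : PowerSeries.constantCoeff f = 1) (a : ℕ)
    (hdeg : ∀ i, a < i → PowerSeries.coeff i f = 0) :
    ∃ (S : Type u) (_ : CommRing S) (g : R →+* S), Function.Injective g ∧
      ∃ s : Multiset S, PowerSeries.map g f = eSer s ∧ Multiset.card s = a := by
  classical
  rcases subsingleton_or_nontrivial R with hR | hR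
  · exact ⟨R, inferInstance, RingHom.id R, Function.injective_id, Multiset.replicate a 0,
      Subsingleton.elim _ _, Multiset.card_replicate a 0⟩
  let q : Polynomial R := ∑ i ∈ range (a + 1),
    Polynomial.C ((-1 : R) ^ i * PowerSeries.coeff i f) * Polynomial.X ^ (a - i)
  have hqc : ∀ k, q.coeff k =
      if k ≤ a then (-1 : R) ^ (a - k) * PowerSeries.coeff (a - k) f else 0 := by
    intro k
    simp only [q, Polynomial.finsetSum_coeff, Polynomial.coeff_C_mul_X_pow]
    split_ifs with h
    · rw [sum_eq_single_of_mem (a - k) (by simp only [mem_range]; omega)]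
      · rw [if_pos (by omega)]
      · intro i hi hne
        rw [if_neg]
        simp only [mem_range] at hi
        omega
    · exact sum_eq_zero fun i _ => if_neg (by omega)
  have htop : q.coeff a = 1 := by
    rw [hqc, if_pos le_rfl, Nat.sub_self, pow_zero, one_mul,
      PowerSeries.coeff_zero_eq_constantCoeff_apply, hf]
  have hle : q.natDegree ≤ a :=
    Polynomial.natDegree_le_iff_coeff_eq_zero.2 fun k hk => by rw [hqc, if_neg (by omega)]
  have hq : q.Monic := Polynomial.monic_of_natDegree_le_of_coeff_eq_one a hle htop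
  have hn : q.natDegree = a :=
    le_antisymm hle (Polynomial.le_natDegree_of_ne_zero (by rw [htop]; exact one_ne_zero))
  obtain ⟨S, _, g, hg, s, hs, hcard⟩ := exists_split_monic a q hq hn
  refine ⟨S, inferInstance, g, hg, s, ?_, hcard⟩
  ext i
  rw [PowerSeries.coeff_map, coeff_eSer]
  rcases le_or_gt i a with hi | hi
  · have h := congrArg (fun p => Polynomial.coeff p (a - i)) hs
    rw [Polynomial.coeff_map, hqc, if_pos (Nat.sub_le _ _),
      Multiset.prod_X_sub_C_coeff s (by omega), hcard, Nat.sub_sub_self hi, map_mul, map_pow,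
      map_neg, map_one] at h
    exact ((isUnit_one (M := S)).neg.pow i).mul_left_cancel h
  · rw [hdeg i hi, map_zero, Multiset.esymm, Multiset.powersetCard_eq_empty i (by omega)]
    simp

/-- Degree bound and top coefficient of a λ-product. -/
lemma mulSer_degree {f g : PowerSeries R} (hf : PowerSeries.constantCoeff f = 1)
    (hg : PowerSeries.constantCoeff g = 1) (a b : ℕ)
    (hdf : ∀ i, a < i → PowerSeries.coeff i f = 0) (hdg : ∀ i, b < i → PowerSeries.coeff i g = 0) :
    (∀ i, a * b < i → PowerSeries.coeff i (mulSer f g) = 0) ∧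
      PowerSeries.coeff (a * b) (mulSer f g) =
        PowerSeries.coeff a f ^ b * PowerSeries.coeff b g ^ a := by
  obtain ⟨S, _, φ, hφ, s, hs, hsc⟩ := exists_eSer hf a hdf
  obtain ⟨S', _, ψ, hψ, t, ht, htc⟩ := exists_eSer
    (f := PowerSeries.map φ g) (constantCoeff_map_one _ hg) b
    (fun i hi => by rw [PowerSeries.coeff_map, hdg i hi, map_zero])
  have hinj : Function.Injective (ψ.comp φ) := hψ.comp hφ
  have hmap : PowerSeries.map (ψ.comp φ) (mulSer f g) =
      eSer ((s.map ψ ×ˢ t).map fun p => p.1 * p.2) := by
    rw [← mulSer_eSer, map_mulSer, PowerSeries.map_comp, RingHom.comp_apply, RingHom.comp_apply,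
      hs, ht, map_eSer]
  have hcard : Multiset.card ((s.map ψ ×ˢ t).map fun p => p.1 * p.2) = a * b := by
    simp [hsc, htc]
  have htop : ∀ {A : Type u} [CommRing A] (v : Multiset A) (n : ℕ), Multiset.card v = n →
      v.esymm n = v.prod := by
    intro A _ v n hn
    subst hn
    rw [Multiset.esymm, Multiset.powersetCard_self]
    simp
  refine ⟨fun i hi => hinj ?_, hinj ?_⟩
  · rw [← PowerSeries.coeff_map, hmap, coeff_eSer, map_zero, Multiset.esymm,
      Multiset.powersetCard_eq_empty i (by omega)]
    simp
  · have h1 : (ψ.comp φ) (PowerSeries.coeff a f) = (s.map ψ).prod := by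
      rw [RingHom.comp_apply, ← PowerSeries.coeff_map φ, hs, coeff_eSer, htop s a hsc,
        map_multiset_prod]
    have h2 : (ψ.comp φ) (PowerSeries.coeff b g) = t.prod := by
      rw [RingHom.comp_apply, ← PowerSeries.coeff_map φ, ← PowerSeries.coeff_map ψ, ht, coeff_eSer,
        htop t b htc]
    rw [← PowerSeries.coeff_map, hmap, coeff_eSer, htop _ _ hcard, map_mul, map_pow, map_pow, h1, h2]
    have hprod : ∀ (u v : Multiset S'), ((u ×ˢ v).map fun p => p.1 * p.2).prod =
        u.prod ^ Multiset.card v * v.prod ^ Multiset.card u := by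
      intro u v
      induction u using Multiset.induction with
      | empty => simp
      | cons x u ih =>
        rw [Multiset.cons_product, Multiset.map_add, Multiset.prod_add, ih, Multiset.map_map,
          Multiset.prod_cons, Multiset.card_cons, mul_pow, pow_succ (v.prod)]
        simp only [Function.comp_def]
        rw [Multiset.prod_map_mul, Multiset.map_const', Multiset.prod_replicate, Multiset.map_id']
        ring
    rw [hprod, Multiset.card_map, hsc, htc]

end Groth.Agent.H22Alg.LamMulSer
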