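import Groth.Agent.H22Alg.LamExtFil

/-! # The γ-filtration of a λ-ring spanned over a sub-λ-ring by powers of a line element. -/

universe u

open Finset LambdaRing

noncomputable section

namespace Groth.Agent.H22Alg.LamSpan

open Groth.Agent.H27Lambda in
/-- γ of a line multiple, in closed form. -/
lemma gammaSeries_mul_of_rescale {A : Type u} [CommRing A] [LambdaOps A] {v y : A}
    (hlam : lamSeries (y * v) = PowerSeries.rescale v (lamSeries y)) :
    gammaSeries (y * v) = (gammaSeries y).subst
      (PowerSeries.C v * PowerSeries.X * PowerSeries.rescale (-(v - 1)) (PowerSeries.mk 1)) := by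
  have hvX : PowerSeries.HasSubst (PowerSeries.C v * PowerSeries.X : PowerSeries A) :=
    PowerSeries.HasSubst.of_constantCoeff_zero' (by simp)
  have e0 : PowerSeries.constantCoeff ((rX (R := A)).subst (PowerSeries.C v * PowerSeries.X)) = 0 :=
    (H27Lambda.constantCoeff_subst' (show PowerSeries.constantCoeff (PowerSeries.C v * PowerSeries.X : PowerSeries A) = 0 by simp) _).trans constantCoeff_rX
  have e1 : PowerSeries.HasSubst (((rX (R := A)).subst (PowerSeries.C v * PowerSeries.X))) :=
    PowerSeries.HasSubst.of_constantCoeff_zero' e0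
  rw [gammaSeries_eq_subst, hlam, PowerSeries.rescale_eq_subst, lamSeries_eq_subst,
    PowerSeries.smul_eq_C_mul,
    PowerSeries.subst_comp_subst_apply hasSubst_rX hvX,
    PowerSeries.subst_comp_subst_apply e1 hasSubst_sX]
  congr 1
  set q : PowerSeries A := PowerSeries.subst (sX (K := A))
    (PowerSeries.subst (PowerSeries.C v * PowerSeries.X : PowerSeries A) (rX (R := A))) with hq
  have h1 : q * (1 + PowerSeries.C v * sX) = PowerSeries.C v * sX := by
    have h := congrArg (fun g : PowerSeries A =>
      (PowerSeries.subst (sX (K := A))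
        (PowerSeries.subst (PowerSeries.C v * PowerSeries.X : PowerSeries A) g) : PowerSeries A))
      (rX_mul (R := A))
    have hone : ∀ {g : PowerSeries A}, PowerSeries.HasSubst g → (1 : PowerSeries A).subst g = 1 :=
      fun {g} hg => by rw [← PowerSeries.coe_substAlgHom hg, map_one]
    simp only [PowerSeries.subst_mul hvX, PowerSeries.subst_add hvX, hone hvX, PowerSeries.subst_X hvX,
      PowerSeries.subst_mul hasSubst_sX, PowerSeries.subst_add hasSubst_sX, hone hasSubst_sX,
      PowerSeries.subst_X hasSubst_sX] at h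
    rw [show (PowerSeries.C v : PowerSeries A).subst (sX (K := A)) = PowerSeries.C v from
      PowerSeries.subst_C v, ← hq] at h
    exact h
  have h2 : q * (1 + PowerSeries.C (v - 1) * PowerSeries.X) = PowerSeries.C v * PowerSeries.X := by
    have hs := sX_mul (R := A)
    rw [map_sub, map_one]
    linear_combination (1 - PowerSeries.X) * h1 + (PowerSeries.C v * (1 - q)) * hs
  have h3 : (1 + PowerSeries.C (v - 1) * PowerSeries.X) *
      PowerSeries.rescale (-(v - 1)) (PowerSeries.mk (1 : ℕ → A)) = 1 := by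
    have h := congrArg (PowerSeries.rescale (-(v - 1))) (PowerSeries.mk_one_mul_one_sub_eq_one A)
    rw [map_mul, map_one, map_sub, map_one, PowerSeries.rescale_X, map_neg] at h
    linear_combination h
  linear_combination PowerSeries.rescale (-(v - 1)) (PowerSeries.mk (1 : ℕ → A)) * h2 - q * h3

section Span

variable {K A : Type u} [CommRing K] [CommRing A] [LambdaOps K] [LambdaOps A]
  {P : PosStructure K} {PA : PosStructure A} (ι : K →+* A) (l : A)

variable (P) in
/-- The ideal generated by `F^{k-i} (l - 1)^i`. -/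
def J (k : ℕ) : Ideal A :=
  Ideal.span {z | ∃ (i : ℕ) (c : K), c ∈ gammaFiltration P (k - i) ∧ z = ι c * (l - 1) ^ i}

lemma J_antitone {a b : ℕ} (h : a ≤ b) : J P ι l b ≤ J P ι l a := by
  refine Ideal.span_mono ?_
  rintro z ⟨i, c, hc, rfl⟩
  refine ⟨i, c, ?_, rfl⟩
  rw [H27Lambda.gammaFiltration_eq] at hc ⊢
  exact H27Lambda.gammaFil_antitone _ (by omega) hc

lemma J_mul_mem {a b : ℕ} {x y : A} (hx : x ∈ J P ι l a) (hy : y ∈ J P ι l b) :
    x * y ∈ J P ι l (a + b) := by
  suffices J P ι l a * J P ι l b ≤ J P ι l (a + b) from this (Ideal.mul_mem_mul hx hy)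
  rw [J, J, Ideal.span_mul_span', Ideal.span_le]
  rintro _ ⟨_, ⟨i, c, hc, rfl⟩, _, ⟨j, d, hd, rfl⟩, rfl⟩
  refine Ideal.subset_span ⟨i + j, c * d, ?_, by simp only [map_mul, pow_add]; ring⟩
  rw [H27Lambda.gammaFiltration_eq] at hc hd ⊢
  exact H27Lambda.gammaFil_mul_mem _ hc hd (by omega)

lemma J_zero : J P ι l 0 = ⊤ :=
  (Ideal.eq_top_iff_one _).2 (Ideal.subset_span ⟨0, 1, by simp [gammaFiltration], by simp⟩)

lemma gamma_neg_mem {a : A} (ha : ∀ n, gamma n a ∈ J P ι l n) : ∀ n, gamma n (-a) ∈ J P ι l n := by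
  intro n
  induction n using Nat.strong_induction_on with
  | _ n ih =>
    rcases Nat.eq_zero_or_pos n with rfl | hn
    · simp [J_zero]
    have h := congrArg (PowerSeries.coeff n) (H27Lambda.gammaSeries_add (-a) a)
    rw [neg_add_cancel, H27Lambda.gammaSeries_zero, PowerSeries.coeff_one, if_neg (by omega),
      PowerSeries.coeff_mul, Finset.Nat.sum_antidiagonal_eq_sum_range_succ_mk, sum_range_succ] at h
    simp only [H27Lambda.coeff_gammaSeries, Nat.sub_self, H27Lambda.gamma_zero, mul_one] at h
    rw [eq_neg_of_add_eq_zero_right h.symm]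
    refine neg_mem (sum_mem fun j hj => ?_)
    simp only [mem_range] at hj
    have := J_mul_mem ι l (ih j hj) (ha (n - j))
    rwa [Nat.add_sub_cancel' (by omega)] at this

/-- The elements all of whose `γ^n` lie in `J_n`. -/
def T : AddSubgroup A where
  carrier := {x | ∀ n, gamma n x ∈ J P ι l n}
  zero_mem' n := by
    rw [← H27Lambda.coeff_gammaSeries, H27Lambda.gammaSeries_zero, PowerSeries.coeff_one]
    split_ifs with h
    · subst h; simp [J_zero]
    · exact zero_mem _
  add_mem' {a b} ha hb n := by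
    rw [← H27Lambda.coeff_gammaSeries, H27Lambda.gammaSeries_add, PowerSeries.coeff_mul]
    refine sum_mem fun p hp => ?_
    rw [H27Lambda.coeff_gammaSeries, H27Lambda.coeff_gammaSeries, ← Finset.mem_antidiagonal.1 hp]
    exact J_mul_mem ι l (ha _) (hb _)
  neg_mem' ha := gamma_neg_mem ι l ha

variable (hι : IsLambdaHom ι) (haug : ∀ a, PA.aug (ι a) = P.aug a) (hl : PA.IsLine l)
  (hlam : ∀ (j : ℕ) (y : A), lamSeries (y * l ^ j) = PowerSeries.rescale (l ^ j) (lamSeries y))

include hι haug hl hlam in
lemma sub_aug_mem_T (a : K) (j : ℕ) :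
    ι a * l ^ j - ((PA.aug (ι a * l ^ j) : ℤ) : A) ∈ T (P := P) ι l := by
  have hj := H27Lambda.isLine_pow hl j
  rw [map_mul, hj.2, mul_one, haug,
    show ι a * l ^ j - ((P.aug a : ℤ) : A) =
      ι (a - ((P.aug a : ℤ) : K)) * l ^ j + P.aug a • (l ^ j - 1) by
        rw [zsmul_eq_mul, map_sub, map_intCast]; ring]
  have hw : l ^ j - 1 ∈ J P ι l 1 := by
    rw [← geom_sum_mul]
    exact Ideal.mul_mem_left _ _ (Ideal.subset_span ⟨1, 1, by simp [gammaFiltration], by simp⟩)
  refine add_mem ?_ (zsmul_mem ?_ _) <;> intro n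
  · rw [← H27Lambda.coeff_gammaSeries, gammaSeries_mul_of_rescale (hlam j _),
      PowerSeries.coeff_subst' (PowerSeries.HasSubst.of_constantCoeff_zero' (by simp))]
    refine finsum_induction (· ∈ J P ι l n) (zero_mem _) (fun _ _ => add_mem) fun i => ?_
    rw [smul_eq_mul, H27Lambda.coeff_gammaSeries, mul_pow, mul_pow, ← map_pow, ← map_pow,
      mul_assoc, PowerSeries.coeff_C_mul, PowerSeries.coeff_X_pow_mul']
    split_ifs with hin
    · rw [PowerSeries.coeff_rescale, ← mul_assoc, ← mul_assoc]
      refine Ideal.mul_mem_right _ _ ?_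
      have hwp : (-(l ^ j - 1)) ^ (n - i) ∈ J P ι l (n - i) := by
        rw [neg_pow]
        refine Ideal.mul_mem_left _ _ ?_
        generalize n - i = s
        induction s with
        | zero => simp [J_zero]
        | succ s ih => rw [pow_succ]; exact J_mul_mem ι l ih hw
      have hof : gamma i (ι (a - ((P.aug a : ℤ) : K))) ∈ J P ι l i := by
        rw [← H27Lambda.map_gamma hι]
        refine Ideal.subset_span ⟨0, gamma i (a - ((P.aug a : ℤ) : K)), ?_, by simp⟩
        rw [H27Lambda.gammaFiltration_eq, Nat.sub_zero]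
        exact H27Lambda.gamma_mem_gammaFil _ i (by simp)
      have := J_mul_mem ι l (Ideal.mul_mem_right ((l ^ j) ^ i) _ hof) hwp
      rwa [Nat.add_sub_cancel' hin] at this
    · simp
  case refine_2 =>
    rw [← H27Lambda.coeff_gammaSeries, H27Lambda.gammaSeries_sub_one (H27Lambda.lam_one_eq_zero PA)
      (H27Lambda.lam_eq_zero_of_line hj), map_add, PowerSeries.coeff_C_mul]
    match n with
    | 0 => simp [J_zero]
    | 1 => simpa using hw
    | n + 2 => simp [PowerSeries.coeff_one, PowerSeries.coeff_X]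

variable (hspan : AddSubgroup.closure {z | ∃ (a : K) (j : ℕ), z = ι a * l ^ j} = ⊤)

include hι haug hl hlam hspan in
lemma gammaFiltration_le_J {k : ℕ} {x : A} (hx : x ∈ gammaFiltration PA k) : x ∈ J P ι l k := by
  have hT : ∀ x : A, x - ((PA.aug x : ℤ) : A) ∈ T (P := P) ι l := fun x => by
    have hx : x ∈ AddSubgroup.closure {z | ∃ (a : K) (j : ℕ), z = ι a * l ^ j} := hspan ▸ trivial
    induction hx using AddSubgroup.closure_induction with
    | mem z hz => obtain ⟨a, j, rfl⟩ := hz; exact sub_aug_mem_T ι l hι haug hl hlam a j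
    | zero => simp
    | add a b _ _ ha hb => rw [map_add, Int.cast_add, add_sub_add_comm]; exact add_mem ha hb
    | neg a _ ha => rw [map_neg, Int.cast_neg, ← neg_sub']; exact neg_mem ha
  rw [H27Lambda.gammaFiltration_eq] at hx
  refine (Ideal.span_le.2 ?_) hx
  rintro _ ⟨L, hl1, hl2, rfl⟩
  refine J_antitone ι l hl2 ?_
  clear hl2
  induction L with
  | nil => simp [J_zero]
  | cons p L ih =>
    rw [List.map_cons, List.sum_cons, List.map_cons, List.prod_cons]
    refine J_mul_mem ι l ?_ (ih fun q hq => hl1 q (List.mem_cons_of_mem _ hq))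
    have h := hT p.2
    rw [hl1 p List.mem_cons_self, Int.cast_zero, sub_zero] at h
    exact h p.1

include hι haug hl hlam hspan in
/-- A linear map to `K` lowers the filtration by at most `n` when `(l - 1)^(n+1) = 0`. -/
theorem map_gammaFiltration (n : ℕ) (hn : (l - 1) ^ (n + 1) = 0) (g : A →+ K)
    (hg : ∀ x y, g (x * ι y) = g x * y) {k : ℕ} {x : A} (hx : x ∈ gammaFiltration PA k) :
    g x ∈ gammaFiltration P (k - n) := by
  have hJ := gammaFiltration_le_J ι l hι haug hl hlam hspan hx
  suffices h : ∀ z, g (z * x) ∈ gammaFiltration P (k - n) by simpa using h 1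
  clear hx
  induction hJ using Submodule.span_induction with
  | mem y hy =>
    obtain ⟨i, c, hc, rfl⟩ := hy
    intro z
    rcases lt_or_ge n i with hi | hi
    · have h0 : (l - 1) ^ i = 0 := by
        rw [← Nat.sub_add_cancel hi, pow_add, hn, mul_zero]
      rw [h0, mul_zero, mul_zero, map_zero]
      exact zero_mem _
    · rw [show z * (ι c * (l - 1) ^ i) = z * (l - 1) ^ i * ι c by ring, hg]
      rw [H27Lambda.gammaFiltration_eq] at hc ⊢
      exact Ideal.mul_mem_left _ _ (H27Lambda.gammaFil_antitone _ (by omega) hc)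
  | zero => intro z; rw [mul_zero, map_zero]; exact zero_mem _
  | add a b _ _ iha ihb => intro z; rw [mul_add, map_add]; exact add_mem (iha z) (ihb z)
  | smul s a _ iha => intro z; rw [smul_eq_mul, ← mul_assoc]; exact iha _

end Span

end Groth.Agent.H22Alg.LamSpan
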