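import Groth.Agent.H22Alg.FiniteLength
import Mathlib.Algebra.Module.Lattice
import Mathlib.RingTheory.Localization.FractionRing

/-!
Colengths of sublattices.
-/

universe u v

namespace Groth.Agent.H22Alg

variable {A : Type u} [CommRing A] {V : Type v} [AddCommGroup V] [Module A V]

theorem length_submoduleOf_trans {X Y Z : Submodule A V} (hXY : X ≤ Y) (hYZ : Y ≤ Z) :
    Module.length A (Z ⧸ X.submoduleOf Z) =
      Module.length A (Y ⧸ X.submoduleOf Y) + Module.length A (Z ⧸ Y.submoduleOf Z) := by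
  have hsub : X.submoduleOf Z ≤ Y.submoduleOf Z := fun z hz => hXY hz
  refine Module.length_eq_add_of_exact
    (Submodule.mapQ (X.submoduleOf Y) (X.submoduleOf Z) (Submodule.inclusion hYZ) (fun y hy => hy))
    (Submodule.factor hsub) ?_ (Submodule.factor_surjective hsub) ?_
  · rw [injective_iff_map_eq_zero]
    intro z hz
    obtain ⟨y, rfl⟩ := Submodule.Quotient.mk_surjective _ z
    rw [Submodule.mapQ_apply, Submodule.Quotient.mk_eq_zero] at hz
    rw [Submodule.Quotient.mk_eq_zero]
    exact hz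
  · intro z
    obtain ⟨⟨z, hz⟩, rfl⟩ := Submodule.Quotient.mk_surjective _ z
    show Submodule.Quotient.mk _ = 0 ↔ _
    rw [Submodule.Quotient.mk_eq_zero]
    constructor
    · intro h
      exact ⟨Submodule.Quotient.mk ⟨z, h⟩, rfl⟩
    · rintro ⟨w, hw⟩
      obtain ⟨⟨y, hy⟩, rfl⟩ := Submodule.Quotient.mk_surjective _ w
      rw [Submodule.mapQ_apply, Submodule.Quotient.eq] at hw
      have h' : y - z ∈ Y := hXY hw
      show z ∈ Y
      have := Y.sub_mem hy h'
      rwa [sub_sub_cancel] at this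

variable [IsDomain A] (K : Type v) [Field K] [Algebra A K] [IsFractionRing A K] [Module K V]
  [IsScalarTower A K V]

theorem exists_smul_mem_of_span_eq_top (N : Submodule A V) [Submodule.IsLattice K N] (m : V) :
    ∃ a : A, a ≠ 0 ∧ a • m ∈ N := by
  have hm : m ∈ Submodule.span K (N : Set V) := by
    rw [Submodule.IsLattice.span_eq_top (M := N)]; trivial
  induction hm using Submodule.span_induction with
  | mem x hx => exact ⟨1, one_ne_zero, by rwa [one_smul]⟩
  | zero => exact ⟨1, one_ne_zero, by rw [smul_zero]; exact N.zero_mem⟩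
  | add x y _ _ hx hy =>
    obtain ⟨a, ha, hax⟩ := hx
    obtain ⟨b, hb, hby⟩ := hy
    refine ⟨a * b, mul_ne_zero ha hb, ?_⟩
    rw [smul_add, mul_comm a b, mul_smul b a x, mul_comm b a, mul_smul a b y]
    exact N.add_mem (N.smul_mem _ hax) (N.smul_mem _ hby)
  | smul c x _ hx =>
    obtain ⟨a, ha, hax⟩ := hx
    obtain ⟨r, s, hs, rfl⟩ := IsFractionRing.div_surjective A c
    refine ⟨s * a, mul_ne_zero (nonZeroDivisors.ne_zero hs) ha, ?_⟩
    have h : (s * a) • ((algebraMap A K r / algebraMap A K s) • x) = r • a • x := by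
      rw [← algebraMap_smul K (s * a), ← algebraMap_smul K r, ← algebraMap_smul K a x, smul_smul, smul_smul]
      congr 1
      have hs0 : algebraMap A K s ≠ 0 :=
        IsFractionRing.to_map_ne_zero_of_mem_nonZeroDivisors hs
      rw [map_mul]
      field_simp
    rw [h]
    exact N.smul_mem _ hax

theorem length_ne_top_of_forall_exists_smul [IsNoetherianRing A] [IsLocalRing A]
    (hA : ringKrullDim A ≤ 1) {X Z : Submodule A V} (hZ : Z.FG)
    (h : ∀ z ∈ Z, ∃ a : A, a ≠ 0 ∧ a • z ∈ X) :
    Module.length A (Z ⧸ X.submoduleOf Z) ≠ ⊤ := by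
  have := Module.Finite.iff_fg.mpr hZ
  refine length_ne_top_of_support_maximal fun p hp => ?_
  obtain ⟨m, hm⟩ := Module.mem_support_iff'.mp hp
  obtain ⟨⟨z, hz⟩, rfl⟩ := Submodule.Quotient.mk_surjective _ m
  obtain ⟨a, ha, haz⟩ := h z hz
  have hap : a ∈ p.asIdeal := by
    by_contra hap
    exact hm a hap ((Submodule.Quotient.mk_eq_zero _).mpr haz)
  have hne : p.asIdeal ≠ ⊥ := fun e => ha (by rw [e, Ideal.mem_bot] at hap; exact hap)
  have : Ring.KrullDimLE 1 A := (Ring.krullDimLE_iff (n := 1)).mpr hA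
  exact Ideal.isMaximal_of_isPrime_of_ne_bot p.asIdeal hne

end Groth.Agent.H22Alg
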