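import Mathlib
import Groth.Agent.H22Alg.Lattice
import Groth.Agent.H22Alg.DetLengthGeneral
import Groth.Agent.H22Alg.OrdFrac

/-! The distance of a lattice to its image is the order of the determinant. -/

set_option autoImplicit false
universe u

namespace Groth.Agent.S14502

open Groth.Agent.H22Alg

variable {A : Type u} [CommRing A]

theorem length_map {V W : Type u} [AddCommGroup V] [Module A V] [AddCommGroup W] [Module A W]
    (g : W →ₗ[A] V) (hg : Function.Injective g) (X Z : Submodule A W) :
    Module.length A (Z.map g ⧸ (X.map g).submoduleOf (Z.map g)) = Module.length A (Z ⧸ X.submoduleOf Z) := by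
  refine (Submodule.Quotient.equiv _ _ (Submodule.equivMapOfInjective g hg Z) ?_).length_eq.symm
  ext ⟨v, hv⟩
  obtain ⟨z, hz, rfl⟩ := hv
  simp only [Submodule.mem_map, Submodule.mem_comap, Submodule.submoduleOf, Submodule.coe_subtype]
  constructor
  · rintro ⟨⟨w, hw⟩, hwX, he⟩
    exact ⟨w, hwX, congrArg Subtype.val he⟩
  · rintro ⟨w, hw, he⟩
    obtain rfl := hg he
    exact ⟨⟨w, hz⟩, hw, Subtype.ext rfl⟩

theorem ord_pow_toNat [IsNoetherianRing A] [Ring.KrullDimLE 1 A] {c : A} (hc : c ∈ nonZeroDivisors A) (n : ℕ) :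
    (Ring.ord A (c ^ n)).toNat = n * (Ring.ord A c).toNat := by
  induction n with
  | zero => simp
  | succ n ih => rw [pow_succ, ord_toNat_mul (pow_mem hc n) hc, ih]; ring

variable [IsDomain A] [IsNoetherianRing A] [IsLocalRing A] (hA : ringKrullDim A = 1)
  (K : Type u) [Field K] [Algebra A K] [IsFractionRing A K] {V : Type u} [AddCommGroup V] [Module K V]
  [Module A V] [IsScalarTower A K V] [FiniteDimensional K V]

include hA in
theorem latticeDist (M : Submodule A V) [Submodule.IsLattice K M] (φ : V ≃ₗ[K] V) :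
    Submodule.IsLattice K (M.map (φ.toLinearMap.restrictScalars A)) ∧
      Module.length A (↥M ⧸ (M ⊓ M.map (φ.toLinearMap.restrictScalars A)).submoduleOf M) < ⊤ ∧
      Module.length A (↥(M.map (φ.toLinearMap.restrictScalars A)) ⧸
          (M ⊓ M.map (φ.toLinearMap.restrictScalars A)).submoduleOf
            (M.map (φ.toLinearMap.restrictScalars A))) < ⊤ ∧
      ((Module.length A (↥M ⧸ (M ⊓ M.map (φ.toLinearMap.restrictScalars A)).submoduleOf M)).toNat : ℤ) -
          ((Module.length A (↥(M.map (φ.toLinearMap.restrictScalars A)) ⧸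
            (M ⊓ M.map (φ.toLinearMap.restrictScalars A)).submoduleOf
              (M.map (φ.toLinearMap.restrictScalars A)))).toNat : ℤ) =
        CycAlg.ordFrac A K (LinearMap.det φ.toLinearMap) := by
  classical
  haveI : Ring.KrullDimLE 1 A := (Ring.krullDimLE_iff (n := 1)).mpr hA.le
  set g := φ.toLinearMap.restrictScalars A with hg
  have hginj : Function.Injective g := φ.injective
  have hlat : Submodule.IsLattice K (M.map g) := by
    refine ⟨Submodule.IsLattice.fg.map _, ?_⟩
    rw [Submodule.map_coe]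
    show Submodule.span K (φ.toLinearMap '' M) = ⊤
    rw [Submodule.span_image, Submodule.IsLattice.span_eq_top (M := M), Submodule.map_top,
      LinearMap.range_eq_top.mpr φ.surjective]
  -- a basis inside the lattice
  obtain ⟨s, hsM, hspan, hli⟩ := exists_linearIndependent K (M : Set V)
  rw [Submodule.IsLattice.span_eq_top (M := M)] at hspan
  haveI : Finite s := hli.setFinite.to_subtype
  obtain ⟨n, ⟨es⟩⟩ := Finite.exists_equiv_fin s
  let b : Module.Basis (Fin n) K V :=
    (Module.Basis.mk hli (by rw [Subtype.range_coe, hspan])).reindex es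
  have hbM : ∀ i, b i ∈ M := fun i => by
    rw [Module.Basis.reindex_apply, Module.Basis.mk_apply]; exact hsM (es.symm i).2
  let ι : (Fin n → A) →ₗ[A] V := Fintype.linearCombination A b
  have hι : Function.Injective ι :=
    (injective_iff_map_eq_zero ι).mpr fun x hx => funext fun i =>
      Fintype.linearIndependent_iff.mp (b.linearIndependent.restrict_scalars' A) x
        (by rwa [← Fintype.linearCombination_apply]) i
  let F : Submodule A V := (⊤ : Submodule A (Fin n → A)).map ι
  have hFM : F ≤ M := by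
    rintro _ ⟨x, -, rfl⟩
    rw [Fintype.linearCombination_apply]
    exact M.sum_mem fun i _ => M.smul_mem _ (hbM i)
  -- clear denominators
  let P := LinearMap.toMatrix b b φ.toLinearMap
  obtain ⟨⟨c, hc⟩, hcP⟩ := IsLocalization.exist_integer_multiples_of_finite (nonZeroDivisors A) fun ij : Fin n × Fin n => P ij.1 ij.2
  choose q hq using fun i j => hcP (i, j)
  let Q : Matrix (Fin n) (Fin n) A := Matrix.of q
  have hQ : Q.map (algebraMap A K) = c • P := by
    ext i j; exact hq i j
  have hcomm : ∀ x, ι (Q.mulVecLin x) = g (ι (c • x)) := fun x => by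
    have h1 : ∀ j, φ (b j) = ∑ i, P i j • b i := fun j => by
      conv_lhs => rw [← b.sum_repr (φ (b j))]
      exact Finset.sum_congr rfl fun i _ => by simp [P, LinearMap.toMatrix_apply]
    simp only [ι, Fintype.linearCombination_apply, Matrix.mulVecLin_apply, Matrix.mulVec, dotProduct,
      Finset.sum_smul, map_sum, hg, LinearMap.coe_restrictScalars, LinearEquiv.coe_coe, Pi.smul_apply]
    rw [Finset.sum_comm]
    refine Finset.sum_congr rfl fun j _ => ?_
    rw [← algebraMap_smul K (c • x j) (b j), map_smul, h1, Finset.smul_sum]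
    refine Finset.sum_congr rfl fun i _ => ?_
    rw [← algebraMap_smul K (Q i j * x j), smul_smul, map_mul]
    congr 1
    rw [show algebraMap A K (Q i j) = c • P i j from hq i j, Algebra.smul_def, smul_eq_mul, map_mul]
    ring
  have hdet : algebraMap A K Q.det = algebraMap A K c ^ n * LinearMap.det φ.toLinearMap := by
    rw [RingHom.map_det, RingHom.mapMatrix_apply, hQ, show c • P = algebraMap A K c • P from (algebraMap_smul K c P).symm,
      Matrix.det_smul, Fintype.card_fin, LinearMap.det_toMatrix]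
  have hQ0 : Q.det ∈ nonZeroDivisors A := by
    refine mem_nonZeroDivisors_of_ne_zero fun h => ?_
    rw [h, map_zero] at hdet
    exact mul_ne_zero (pow_ne_zero _ (IsFractionRing.to_map_ne_zero_of_mem_nonZeroDivisors hc))
      (LinearEquiv.isUnit_det' φ).ne_zero hdet.symm
  let L : Submodule A V := (LinearMap.range Q.mulVecLin).map ι
  let D : Matrix (Fin n) (Fin n) A := Matrix.diagonal fun _ => c
  have hD : ∀ x, D.mulVecLin x = c • x := fun x => by
    ext i; simp [D, Matrix.mulVecLin_apply, Matrix.mulVec_diagonal]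
  have hL : L = ((LinearMap.range D.mulVecLin).map ι).map g := by
    ext v
    constructor
    · rintro ⟨_, ⟨x, rfl⟩, rfl⟩
      exact ⟨ι (c • x), ⟨c • x, ⟨x, hD x⟩, rfl⟩, (hcomm x).symm⟩
    · rintro ⟨_, ⟨_, ⟨x, rfl⟩, rfl⟩, rfl⟩
      exact ⟨Q.mulVecLin x, ⟨x, rfl⟩, by rw [hD, hcomm]⟩
  have hLF : L ≤ F := Submodule.map_mono le_top
  have hLgF : L ≤ F.map g := hL ▸ Submodule.map_mono (Submodule.map_mono le_top)
  have hLM : L ≤ M := hLF.trans hFM
  have hLgM : L ≤ M.map g := hLgF.trans (Submodule.map_mono hFM)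
  have e1 : Module.length A (F ⧸ L.submoduleOf F) = Ring.ord A Q.det := by
    rw [← cokerLength_eq_ord_det Q hQ0]
    refine (length_map ι hι _ _).trans ?_
    exact (Submodule.Quotient.equiv _ _ Submodule.topEquiv (by
      ext x; exact ⟨fun ⟨y, hy, e⟩ => e ▸ hy, fun hx => ⟨⟨x, trivial⟩, hx, rfl⟩⟩)).length_eq
  have hDdet : D.det = c ^ n := by simp [D, Matrix.det_diagonal]
  have e2 : Module.length A (F.map g ⧸ L.submoduleOf (F.map g)) = Ring.ord A (c ^ n) := by
    rw [← hDdet, ← cokerLength_eq_ord_det D (hDdet ▸ pow_mem hc n), hL]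
    refine (length_map g hginj _ _).trans ((length_map ι hι _ _).trans ?_)
    exact (Submodule.Quotient.equiv _ _ Submodule.topEquiv (by
      ext x; exact ⟨fun ⟨y, hy, e⟩ => e ▸ hy, fun hx => ⟨⟨x, trivial⟩, hx, rfl⟩⟩)).length_eq
  have fF : Module.length A (M ⧸ F.submoduleOf M) ≠ ⊤ := by
    haveI : Submodule.IsLattice K F := ⟨(Module.Finite.fg_top).map _, by
      refine eq_top_iff.mpr ?_
      rw [← b.span_eq]
      refine Submodule.span_mono ?_
      rintro _ ⟨i, rfl⟩
      exact ⟨Pi.single i 1, trivial, by simp [ι, Fintype.linearCombination_apply, Pi.single_apply]⟩⟩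
    exact length_ne_top_of_forall_exists_smul hA.le Submodule.IsLattice.fg fun z _ => exists_smul_mem_of_span_eq_top K F z
  have emap : Module.length A (M.map g ⧸ (F.map g).submoduleOf (M.map g)) = Module.length A (M ⧸ F.submoduleOf M) :=
    length_map g hginj _ _
  have c1 := length_submoduleOf_trans hLF hFM
  have c2 := length_submoduleOf_trans hLgF (Submodule.map_mono (f := g) hFM)
  rw [emap, e2] at c2
  rw [e1] at c1
  have c3 := length_submoduleOf_trans (le_inf hLM hLgM) (inf_le_left : M ⊓ M.map g ≤ M)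
  have c4 := length_submoduleOf_trans (le_inf hLM hLgM) (inf_le_right : M ⊓ M.map g ≤ M.map g)
  have o1 : Ring.ord A Q.det ≠ ⊤ := Ring.ord_ne_top hQ0
  have o2 : Ring.ord A (c ^ n) ≠ ⊤ := Ring.ord_ne_top (pow_mem hc n)
  have t1 : Module.length A (M ⧸ L.submoduleOf M) ≠ ⊤ := by
    rw [c1]; exact WithTop.add_ne_top.mpr ⟨o1, fF⟩
  have t2 : Module.length A (M.map g ⧸ L.submoduleOf (M.map g)) ≠ ⊤ := by
    rw [c2]; exact WithTop.add_ne_top.mpr ⟨o2, fF⟩
  obtain ⟨i1, f1⟩ := WithTop.add_ne_top.mp (c3 ▸ t1)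
  obtain ⟨-, f2⟩ := WithTop.add_ne_top.mp (c4 ▸ t2)
  refine ⟨hlat, lt_top_iff_ne_top.mpr f1, lt_top_iff_ne_top.mpr f2, ?_⟩
  have n1 := congrArg ENat.toNat (c1.symm.trans c3)
  rw [ENat.toNat_add o1 fF, ENat.toNat_add i1 f1] at n1
  have n2 := congrArg ENat.toNat (c2.symm.trans c4)
  rw [ENat.toNat_add o2 fF, ENat.toNat_add i1 f2] at n2
  have hval : LinearMap.det φ.toLinearMap = algebraMap A K Q.det / algebraMap A K (c ^ n) := by
    rw [hdet, map_pow, mul_div_cancel_left₀ _ (pow_ne_zero _ (IsFractionRing.to_map_ne_zero_of_mem_nonZeroDivisors hc))]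
  rw [hval, cycOrdFrac_div K hQ0 (pow_mem hc n)]
  omega

end Groth.Agent.S14502
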