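import Mathlib
import Groth.Prelude.Def_SchLoc
import Groth.Agent.H17.LocalImm

/-!
Local isomorphisms from isomorphisms of local rings, over reduced schemes with finitely many components.
-/

set_option autoImplicit false

universe u

open CategoryTheory AlgebraicGeometry TopologicalSpace
open Groth.Agent.H17

namespace Groth.Agent.H22Alg

variable {X Y : Scheme.{u}}

theorem exists_annihilator_of_finite {R : Type u} [CommRing R] [_root_.IsReduced R]
    (hfin : (minimalPrimes R).Finite) (p : Ideal R) [p.IsPrime] :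
    ∃ S ∉ p, ∀ a, (∃ s ∉ p, s * a = 0) → S * a = 0 := by
  classical
  have hsub : ∀ P ∈ hfin.toFinset, ∃ g ∉ p, P ≤ p ∨ g ∈ P := by
    intro P _
    by_cases hP : P ≤ p
    · exact ⟨1, fun h => Ideal.IsPrime.ne_top ‹_› ((Ideal.eq_top_iff_one p).mpr h), Or.inl hP⟩
    · obtain ⟨g, hgP, hgp⟩ := SetLike.not_le_iff_exists.mp hP
      exact ⟨g, hgp, Or.inr hgP⟩
  choose g hg hgP using hsub
  refine ⟨∏ P ∈ hfin.toFinset.attach, g P.1 P.2, fun h => ?_, fun a ⟨s, hs, hsa⟩ => ?_⟩
  · obtain ⟨P, -, hP⟩ := (Ideal.IsPrime.prod_mem_iff (p := p)).mp h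
    exact hg _ _ hP
  · have hmem : ∀ P ∈ minimalPrimes R, (∏ P ∈ hfin.toFinset.attach, g P.1 P.2) * a ∈ P := by
      intro P hP
      have hPm : P ∈ hfin.toFinset := hfin.mem_toFinset.mpr hP
      rcases hgP P hPm with hle | hmem
      · exact P.mul_mem_left _ ((hP.isPrime.mem_or_mem (show s * a ∈ P from hsa ▸ P.zero_mem)).resolve_left fun h => hs (hle h))
      · exact P.mul_mem_right _ (Ideal.mem_of_dvd _ (Finset.dvd_prod_of_mem (fun P => g P.1 P.2) (Finset.mem_attach _ ⟨P, hPm⟩)) hmem)
    have : (∏ P ∈ hfin.toFinset.attach, g P.1 P.2) * a ∈ nilradical R := by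
      rw [nilradical_eq_sInf, Submodule.mem_sInf]
      intro Q hQ
      have : Ideal.IsPrime Q := hQ
      obtain ⟨P, hP, hPQ⟩ := Ideal.exists_minimalPrimes_le (I := ⊥) (J := Q) bot_le
      exact hPQ (hmem P hP)
    simpa [nilradical_eq_zero] using this

theorem finite_minimalPrimes {V : Y.Opens} (hV : IsAffineOpen V)
    (hY : (irreducibleComponents (Y : Type u)).Finite) : (minimalPrimes Γ(Y, V)).Finite := by
  let s : Set (PrimeSpectrum Γ(Y, V)) := {p | p.asIdeal ∈ minimalPrimes Γ(Y, V)}
  suffices hs : s.Finite by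
    refine (hs.image PrimeSpectrum.asIdeal).subset fun P hP => ⟨⟨P, hP.isPrime⟩, hP, rfl⟩
  refine Set.Finite.of_finite_image ((genericPoints.finite hY).subset ?_) hV.fromSpec.isOpenEmbedding.injective.injOn
  rintro _ ⟨p, hp, rfl⟩
  suffices key : ∀ y, y ⤳ hV.fromSpec p → y = hV.fromSpec p by
    refine ⟨isIrreducible_singleton.closure, fun T hT hsub => ?_⟩
    have hgen := (hT.closure).isGenericPoint_genericPoint isClosed_closure
    rw [← key _ (hgen.specializes (subset_closure (hsub (subset_closure rfl)))), hgen.def]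
    exact subset_closure
  intro y hy
  obtain ⟨q, rfl⟩ : y ∈ Set.range hV.fromSpec :=
    hy.mem_open hV.fromSpec.isOpenEmbedding.isOpen_range ⟨p, rfl⟩
  have hle : q.asIdeal ≤ p.asIdeal := (PrimeSpectrum.le_iff_specializes q p).mpr
    (hV.fromSpec.isOpenEmbedding.isInducing.specializes_iff.mp hy)
  exact congrArg _ (PrimeSpectrum.ext (le_antisymm hle (hp.2 ⟨q.isPrime, bot_le⟩ hle)))

theorem exists_bijective_away {R A : Type u} [CommRing R] [CommRing A] [Algebra R A]
    [Algebra.FiniteType R A] (q : Ideal A) [q.IsPrime]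
    (hker : ∃ S ∉ q.comap (algebraMap R A), ∀ a, (∃ s ∉ q.comap (algebraMap R A), s * a = 0) → S * a = 0)
    (h : Function.Bijective (Localization.localRingHom (q.comap (algebraMap R A)) q (algebraMap R A) rfl)) :
    ∃ (r : R) (t : A), t ∉ q ∧
      ∃ φ : Localization.Away r →+* Localization.Away t, Function.Bijective φ ∧
        φ.comp (algebraMap R _) = (algebraMap A _).comp (algebraMap R A) := by
  classical
  obtain ⟨r, t, hr, ht, φ, hφ, hcomp⟩ := LocalImm.exists_surjective_away q h.2
  set p := q.comap (algebraMap R A) with hp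
  let J := RingHom.ker ((algebraMap A (Localization.Away t)).comp (algebraMap R A))
  have hJ : ∀ a ∈ J, ∃ s ∉ p, s * a = 0 := fun a ha => by
    obtain ⟨⟨_, j, rfl⟩, hj⟩ := (IsLocalization.map_eq_zero_iff (Submonoid.powers t) (Localization.Away t) _).mp ha
    have h0 : algebraMap A (Localization.AtPrime q) (algebraMap R A a) = 0 :=
      (IsLocalization.map_eq_zero_iff q.primeCompl _ _).mpr ⟨⟨t ^ j, fun h => ht (Ideal.IsPrime.mem_of_pow_mem ‹_› j h)⟩, hj⟩
    have h1 : algebraMap R (Localization.AtPrime p) a = 0 :=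
      h.1 (by rw [Localization.localRingHom_to_map, h0, map_zero])
    obtain ⟨s, hs⟩ := (IsLocalization.map_eq_zero_iff p.primeCompl _ a).mp h1
    exact ⟨s, s.2, hs⟩
  obtain ⟨S, hS, hker⟩ := hker
  have hSJ : ∀ a ∈ J, S * a = 0 := fun a ha => hker a (hJ a ha)
  let A' := Localization.Away (t * algebraMap R A S)
  have hut := IsLocalization.Away.algebraMap_isUnit (S := A') (t * algebraMap R A S)
  rw [map_mul] at hut
  let χ : Localization.Away t →+* A' :=
    IsLocalization.Away.lift t (g := algebraMap A A') (isUnit_of_mul_isUnit_left hut)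
  have hur : IsUnit (((algebraMap A A').comp (algebraMap R A)) (r * S)) := by
    rw [map_mul]
    refine IsUnit.mul ?_ (isUnit_of_mul_isUnit_right hut)
    have h2 := congr($hcomp r)
    simp only [RingHom.comp_apply] at h2
    show IsUnit (algebraMap A A' (algebraMap R A r))
    rw [← IsLocalization.Away.lift_eq (S := Localization.Away t) t (g := algebraMap A A') (isUnit_of_mul_isUnit_left hut) (algebraMap R A r), ← h2]
    exact ((IsLocalization.Away.algebraMap_isUnit r).map φ).map χ
  let ψ := IsLocalization.Away.lift (r * S) (S := Localization.Away (r * S)) hur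
  have hψ : ∀ x, ψ (algebraMap R _ x) = algebraMap A A' (algebraMap R A x) := fun x =>
    IsLocalization.Away.lift_eq _ _ _
  refine ⟨r * S, t * algebraMap R A S, fun h => (Ideal.IsPrime.mem_or_mem ‹_› h).elim ht hS, ψ, ⟨?_, ?_⟩,
    IsLocalization.Away.lift_comp _ _⟩
  · refine (injective_iff_map_eq_zero ψ).mpr fun z hz => ?_
    obtain ⟨a, m, rfl⟩ := IsLocalization.exists_mk'_eq (Submonoid.powers (r * S)) z
    have h1 : ψ (algebraMap R _ a) = 0 := by
      rw [← IsLocalization.mk'_spec (Localization.Away (r * S)) a m, map_mul, hz, zero_mul]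
    rw [hψ] at h1
    obtain ⟨⟨_, j, rfl⟩, hj⟩ := (IsLocalization.map_eq_zero_iff (Submonoid.powers (t * algebraMap R A S)) A' _).mp h1
    have h2 : S ^ j * a ∈ J := by
      refine (IsLocalization.map_eq_zero_iff (Submonoid.powers t) (Localization.Away t) _).mpr ⟨⟨t ^ j, j, rfl⟩, ?_⟩
      show t ^ j * algebraMap R A (S ^ j * a) = 0
      have hj' : (t * algebraMap R A S) ^ j * algebraMap R A a = 0 := hj
      rw [map_mul, map_pow, ← hj']
      ring
    rw [IsLocalization.mk'_eq_zero_iff]
    refine ⟨⟨(r * S) ^ (j + 1), j + 1, rfl⟩, ?_⟩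
    show (r * S) ^ (j + 1) * a = 0
    have := hSJ _ h2
    rw [show (r * S) ^ (j + 1) * a = r ^ (j + 1) * (S * (S ^ j * a)) by ring, this, mul_zero]
  · intro z
    obtain ⟨a, m, rfl⟩ := IsLocalization.exists_mk'_eq (Submonoid.powers (t * algebraMap R A S)) z
    obtain ⟨k, hk⟩ := m.2
    obtain ⟨w, hw⟩ := hφ (IsLocalization.mk' _ a (⟨t ^ k, k, rfl⟩ : Submonoid.powers t))
    obtain ⟨n, x, hx⟩ := IsLocalization.Away.surj r w
    refine ⟨algebraMap R _ (x * r ^ k * S ^ n) * IsLocalization.Away.invSelf (r * S) ^ n *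
      IsLocalization.Away.invSelf (r * S) ^ k, ?_⟩
    have hi : ψ (algebraMap R _ (r * S)) * ψ (IsLocalization.Away.invSelf (r * S)) = 1 := by
      rw [← map_mul, IsLocalization.Away.mul_invSelf, map_one]
    rw [IsLocalization.eq_mk'_iff_mul_eq]
    show ψ _ * algebraMap A A' (m : A) = _
    have e1 : algebraMap A A' (algebraMap R A x) * algebraMap A A' (t ^ k) =
        algebraMap A A' a * algebraMap A A' (algebraMap R A (r ^ n)) := by
      have h3 := congrArg (fun u => χ (φ u)) hx
      simp only [map_mul, map_pow] at h3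
      have h4 : ∀ y, χ (φ (algebraMap R _ y)) = algebraMap A A' (algebraMap R A y) := fun y => by
        rw [show φ (algebraMap R _ y) = algebraMap A _ (algebraMap R A y) from congr($hcomp y)]
        exact IsLocalization.Away.lift_eq _ _ _
      rw [h4, h4] at h3
      have h5 : χ (φ w) * algebraMap A A' (t ^ k) = algebraMap A A' a := by
        rw [hw, ← IsLocalization.Away.lift_eq (S := Localization.Away t) t (g := algebraMap A A') (isUnit_of_mul_isUnit_left hut) (t ^ k)]
        show χ _ * χ _ = _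
        rw [← map_mul, IsLocalization.mk'_spec' (Localization.Away t) a (⟨t ^ k, k, rfl⟩ : Submonoid.powers t) |> fun e => (mul_comm _ _).trans e]
        exact IsLocalization.Away.lift_eq _ _ _
      rw [← h3, ← h5, map_pow (algebraMap R A) r n, map_pow (algebraMap A A') _ n]; ring
    rw [map_mul, map_mul, map_pow, map_pow, hψ, show (m : A) = (t * algebraMap R A S) ^ k from hk.symm]
    rw [hψ] at hi
    simp only [map_mul, map_pow] at hi e1 ⊢
    set P := algebraMap A A' (algebraMap R A x)
    set Rr := algebraMap A A' (algebraMap R A r)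
    set SS := algebraMap A A' (algebraMap R A S)
    set ii := ψ (IsLocalization.Away.invSelf (r * S))
    set TT := algebraMap A A' t
    calc P * Rr ^ k * SS ^ n * ii ^ n * ii ^ k * (TT * SS) ^ k
        = (P * TT ^ k) * SS ^ n * ii ^ n * (Rr * SS * ii) ^ k := by ring
      _ = algebraMap A A' a * (Rr * SS * ii) ^ n * (Rr * SS * ii) ^ k := by rw [e1]; ring
      _ = algebraMap A A' a := by rw [hi, one_pow, one_pow, mul_one, mul_one]

theorem isLocalIsoAt_of_isIso_stalkMap (f : X ⟶ Y) [IsReduced Y] [LocallyOfFiniteType f] (hY : (irreducibleComponents (Y : Type u)).Finite) (x : X)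
    [IsIso (f.stalkMap x)] : SchLoc.IsLocalIsoAt f x := by
  obtain ⟨V, U, hV, hU, e, hx⟩ := LocalImm.exists_affine_nhd f x
  have hft := LocallyOfFiniteType.finiteType_appLE f hV hU e
  let : Algebra Γ(Y, V) Γ(X, U) := (f.appLE V U e).hom.toAlgebra
  have : Algebra.FiniteType Γ(Y, V) Γ(X, U) := hft
  let q := hU.primeIdealOf ⟨x, hx⟩
  have hq : hU.fromSpec q = x := hU.fromSpec_primeIdealOf _
  let φA := CommRingCat.ofHom (algebraMap Γ(Y, V) Γ(X, U))
  have ea : Spec.map φA ≫ hV.fromSpec = hU.fromSpec ≫ f := IsAffineOpen.SpecMap_appLE_fromSpec f hV hU e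
  have hs : IsIso ((Spec.map φA).stalkMap q) := by
    have key : ∀ y, y = x → IsIso (f.stalkMap y) := by rintro y rfl; infer_instance
    have hk := key _ hq
    have hb : ∀ (g₁ g₂ : Spec Γ(X, U) ⟶ Y), g₁ = g₂ → IsIso (g₁.stalkMap q) → IsIso (g₂.stalkMap q) := by
      rintro g _ rfl h; exact h
    have h2 := hb _ _ ea.symm (by
      rw [Scheme.Hom.stalkMap_comp]
      exact @IsIso.comp_isIso _ _ _ _ _ _ _ hk inferInstance)
    rw [Scheme.Hom.stalkMap_comp] at h2
    exact @IsIso.of_isIso_comp_left _ _ _ _ _ (hV.fromSpec.stalkMap _) _ inferInstance h2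
  have hloc : Function.Bijective (Localization.localRingHom (q.asIdeal.comap (algebraMap Γ(Y, V) Γ(X, U)))
      q.asIdeal (algebraMap Γ(Y, V) Γ(X, U)) rfl) := by
    have h3 : IsIso (CommRingCat.ofHom (Localization.localRingHom (q.comap φA.hom).asIdeal q.asIdeal φA.hom rfl)) :=
      ((MorphismProperty.isomorphisms CommRingCat).arrow_mk_iso_iff (Scheme.arrowStalkMapSpecIso φA q)).mp hs
    exact ConcreteCategory.bijective_of_isIso (CommRingCat.ofHom (Localization.localRingHom (q.comap φA.hom).asIdeal q.asIdeal φA.hom rfl))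
  obtain ⟨r, t, ht, φ, hφ, hcomp⟩ := exists_bijective_away q.asIdeal (exists_annihilator_of_finite (finite_minimalPrimes hV hY) _) hloc
  let k := Spec.map (CommRingCat.ofHom (algebraMap Γ(X, U) (Localization.Away t)))
  let l := Spec.map (CommRingCat.ofHom (algebraMap Γ(Y, V) (Localization.Away r)))
  have : IsOpenImmersion k := IsOpenImmersion.of_isLocalization t
  have : IsOpenImmersion l := IsOpenImmersion.of_isLocalization r
  have : IsIso (CommRingCat.ofHom φ) := (RingEquiv.ofBijective φ hφ).toCommRingCatIso.isIso_hom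
  have heq : (k ≫ hU.fromSpec) ≫ f = Spec.map (CommRingCat.ofHom φ) ≫ l ≫ hV.fromSpec := by
    rw [Category.assoc, ← ea]
    simp only [k, l, ← Spec.map_comp_assoc, φA, ← CommRingCat.ofHom_comp, hcomp]
  refine ⟨(k ≫ hU.fromSpec).opensRange, ?_, ?_⟩
  · have : q ∈ Set.range (PrimeSpectrum.comap (algebraMap Γ(X, U) (Localization.Away t))) := by
      rw [PrimeSpectrum.localization_away_comap_range (Localization.Away t) t]; exact ht
    obtain ⟨q₀, hq₀⟩ := this
    refine ⟨q₀, ?_⟩
    rw [Scheme.Hom.comp_apply, show k q₀ = q from hq₀, hq]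
  · rw [← (k ≫ hU.fromSpec).isoOpensRange_inv_comp, Category.assoc]
    have : IsOpenImmersion ((k ≫ hU.fromSpec) ≫ f) := by rw [heq]; infer_instance
    infer_instance

end Groth.Agent.H22Alg
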