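import Mathlib

/-! Geometric reducedness from the base change along the Frobenius of the field. -/

set_option autoImplicit false
set_option linter.style.haveILetI false
universe u

open scoped TensorProduct

namespace Groth.Agent.H22Alg.MacLane

variable (k : Type u) [Field k] (p : ℕ) [Fact p.Prime] [CharP k p]

/-- The field as an algebra over itself through the Frobenius. -/
@[nolint unusedArguments]
def FT (_k : Type u) (_p : ℕ) : Type u := _k

noncomputable instance : Field (FT k p) := inferInstanceAs (Field k)

noncomputable instance : Algebra k (FT k p) := RingHom.toAlgebra (S := FT k p) (frobenius k p)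

/-- The identity map into the twisted field. -/
def toFT : k ≃+* FT k p := RingEquiv.refl k

theorem algebraMap_FT (c : k) : algebraMap k (FT k p) c = toFT k p (c ^ p) := rfl

/-- Geometric reducedness needs only the extension by `p`-th roots. -/
theorem isGeometricallyReduced_of_frobenius {A : Type u} [CommRing A] [Algebra k A]
    [IsReduced (A ⊗[k] FT k p)] : Algebra.IsGeometricallyReduced k A := by
  classical
  rw [Algebra.isGeometricallyReduced_field_iff]
  let K := AlgebraicClosure k
  haveI : CharP K p := charP_of_injective_algebraMap (algebraMap k K).injective p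
  haveI : ExpChar K p := .prime Fact.out
  suffices h : IsReduced (A ⊗[k] K) from
    isReduced_of_injective (Algebra.TensorProduct.comm k K A).toRingEquiv.toRingHom
      (Algebra.TensorProduct.comm k K A).injective
  rcases subsingleton_or_nontrivial A with hA | hA
  · haveI : Subsingleton (A ⊗[k] K) :=
      subsingleton_of_zero_eq_one (by rw [Algebra.TensorProduct.one_def, Subsingleton.elim (1 : A) 0, TensorProduct.zero_tmul])
    infer_instance
  haveI : CharP A p := charP_of_injective_algebraMap (algebraMap k A).injective p
  haveI : ExpChar A p := .prime Fact.out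
  haveI : Nonempty (Module.Basis.ofVectorSpaceIndex k K) := (Module.Basis.ofVectorSpace k K).index_nonempty
  haveI : Nontrivial (A ⊗[k] K) :=
    (TensorProduct.equivFinsuppOfBasisRight (Module.Basis.ofVectorSpace k K)).toEquiv.nontrivial
  haveI : CharP (A ⊗[k] K) p := charP_of_injective_algebraMap (algebraMap k (A ⊗[k] K)).injective p
  haveI : ExpChar (A ⊗[k] K) p := .prime Fact.out
  let e := Module.Basis.ofVectorSpace k K
  let u := Module.Basis.ofVectorSpace k (FT k p)
  let v : Module.Basis.ofVectorSpaceIndex k (FT k p) → k := fun m => (toFT k p).symm (u m)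
  let σ := frobeniusEquiv K p
  let c : Module.Basis.ofVectorSpaceIndex k K × Module.Basis.ofVectorSpaceIndex k (FT k p) → K :=
    fun q => σ.symm (e q.1 * algebraMap k K (v q.2))
  have hσ : ∀ y, σ y = y ^ p := fun y => rfl
  have hc : ∀ q, c q ^ p = v q.2 • e q.1 := fun q => by
    rw [← hσ, RingEquiv.apply_symm_apply, Algebra.smul_def, mul_comm]
  have hspan : ⊤ ≤ Submodule.span k (Set.range c) := fun y _ => by
    have hy : y = σ.symm (σ y) := (σ.symm_apply_apply y).symm
    rw [hy, ← e.linearCombination_repr (σ y), Finsupp.linearCombination_apply, Finsupp.sum, map_sum]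
    refine Submodule.sum_mem _ fun l _ => ?_
    generalize e.repr (σ y) l = r
    have hr : r = (toFT k p).symm (∑ m ∈ (u.repr (toFT k p r)).support, (u.repr (toFT k p r)) m • u m) := by
      conv_lhs => rw [← (toFT k p).symm_apply_apply r, ← u.linearCombination_repr (toFT k p r),
        Finsupp.linearCombination_apply, Finsupp.sum]
    rw [hr, map_sum, Finset.sum_smul, map_sum]
    refine Submodule.sum_mem _ fun m _ => ?_
    generalize (u.repr (toFT k p r)) m = μ
    have h1 : (toFT k p).symm (μ • u m) = μ ^ p * v m := by
      rw [Algebra.smul_def, algebraMap_FT, map_mul, RingEquiv.symm_apply_apply]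
    have h2 : σ.symm (algebraMap k K μ ^ p) = algebraMap k K μ := by rw [← hσ, RingEquiv.symm_apply_apply]
    have h3 : σ.symm ((μ ^ p * v m) • e l) = μ • c (l, m) := by
      show _ = μ • σ.symm (e l * algebraMap k K (v m))
      rw [Algebra.smul_def, Algebra.smul_def, map_mul (algebraMap k K), map_pow, map_mul, map_mul, h2, map_mul]
      ring
    rw [h1, h3]
    exact Submodule.smul_mem _ _ (Submodule.subset_span ⟨(l, m), rfl⟩)
  have hrep : ∀ z : A ⊗[k] K, ∃ a : _ →₀ A, z = ∑ q ∈ a.support, a q ⊗ₜ[k] c q := by
    intro z
    let T : (_ →₀ A) →ₗ[k] A ⊗[k] K := Finsupp.lsum k fun q => (TensorProduct.mk k A K).flip (c q)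
    suffices z ∈ LinearMap.range T by
      obtain ⟨a, rfl⟩ := this
      exact ⟨a, rfl⟩
    induction z using TensorProduct.induction_on with
    | zero => exact zero_mem _
    | add x y hx hy => exact add_mem hx hy
    | tmul a y =>
      have : y ∈ Submodule.comap (TensorProduct.mk k A K a) (LinearMap.range T) :=
        Submodule.span_le.mpr (by
          rintro _ ⟨q, rfl⟩
          exact ⟨Finsupp.single q a, by simp [T]⟩) (hspan trivial)
      exact this
  have key : ∀ z : A ⊗[k] K, z ^ p = 0 → z = 0 := fun z hz => by
    obtain ⟨a, rfl⟩ := hrep z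
    set S := a.support
    have h1 : ∑ q ∈ S, (v q.2 • (a q) ^ p) ⊗ₜ[k] e q.1 = (0 : A ⊗[k] K) := by
      rw [← hz, sum_pow_char p]
      exact Finset.sum_congr rfl fun q _ => by
        rw [Algebra.TensorProduct.tmul_pow, hc, TensorProduct.smul_tmul]
    refine Finset.sum_eq_zero fun q hq => ?_
    suffices a q = 0 by rw [this, TensorProduct.zero_tmul]
    let Sl := S.filter fun q' => q'.1 = q.1
    have hl : ∑ q' ∈ Sl, v q'.2 • (a q') ^ p = 0 := by
      have := congrArg (fun w => TensorProduct.equivFinsuppOfBasisRight e w q.1) h1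
      simp only [map_sum, map_zero, Finsupp.finset_sum_apply, Finsupp.zero_apply,
        TensorProduct.equivFinsuppOfBasisRight_apply_tmul_apply, Module.Basis.repr_self, Finsupp.single_apply,
        ite_smul, one_smul, zero_smul] at this
      rw [Finset.sum_filter]
      exact this
    have hw : (∑ q' ∈ Sl, a q' ⊗ₜ[k] u q'.2 : A ⊗[k] FT k p) = 0 := by
      refine IsReduced.eq_zero _ ⟨p, ?_⟩
      rcases subsingleton_or_nontrivial (A ⊗[k] FT k p) with h | h
      · exact Subsingleton.elim _ _
      haveI : CharP (A ⊗[k] FT k p) p := charP_of_injective_algebraMap (algebraMap k (A ⊗[k] FT k p)).injective p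
      haveI : ExpChar (A ⊗[k] FT k p) p := .prime Fact.out
      rw [sum_pow_char p]
      have h2 : ∀ q', (a q' ⊗ₜ[k] u q'.2 : A ⊗[k] FT k p) ^ p = (v q'.2 • (a q') ^ p) ⊗ₜ[k] 1 := fun q' => by
        rw [Algebra.TensorProduct.tmul_pow, TensorProduct.smul_tmul, Algebra.smul_def, mul_one, algebraMap_FT]
        rfl
      rw [Finset.sum_congr rfl fun q' _ => h2 q', ← TensorProduct.sum_tmul, hl, TensorProduct.zero_tmul]
    have := congrArg (fun w => TensorProduct.equivFinsuppOfBasisRight u w q.2) hw
    simp only [map_sum, map_zero, Finsupp.finset_sum_apply, Finsupp.zero_apply,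
      TensorProduct.equivFinsuppOfBasisRight_apply_tmul_apply, Module.Basis.repr_self, Finsupp.single_apply,
      ite_smul, one_smul, zero_smul] at this
    have hqS : q ∈ Sl := Finset.mem_filter.mpr ⟨hq, rfl⟩
    rw [Finset.sum_eq_single q (fun q' hq' hne => if_neg fun h => hne (Prod.ext (Finset.mem_filter.mp hq').2 h))
      (fun h => absurd hqS h), if_pos rfl] at this
    exact this
  refine ⟨fun z ⟨n, hn⟩ => ?_⟩
  have key' : ∀ (j : ℕ) (w : A ⊗[k] K), w ^ p ^ j = 0 → w = 0 := by
    intro j
    induction j with
    | zero => exact fun w hw => by simpa using hw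
    | succ j ih =>
      intro w hw
      exact key w (ih _ (by rw [← pow_mul, ← pow_succ']; exact hw))
  exact key' n z (pow_eq_zero_of_le (Nat.lt_pow_self (Fact.out : p.Prime).one_lt).le hn)

end Groth.Agent.H22Alg.MacLane
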