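import Mathlib
import Groth.Agent.H22Alg.MulLawKer

/-!
A single generic equation cutting out the kernel of a multiplicative law on a finite spanning
family.
-/

universe u

open scoped TensorProduct

namespace Groth.Agent.H22Alg.PL

open MvPolynomial

variable {A : Type u} [CommRing A] {B : Type u} [CommRing B] [Algebra A B] {d : ℕ}
  (F : PolLaw.MulLaw A B A d) {κ : Type u} [Fintype κ] (e : κ → B)

/-- The first generic element on a spanning family. -/
noncomputable def genL (A' : Type u) [CommRing A'] [Algebra A A'] : MvPolynomial (κ ⊕ κ) A' ⊗[A] B :=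
  ∑ k, X (Sum.inl k) ⊗ₜ[A] e k

/-- The second generic element on a spanning family. -/
noncomputable def genR (A' : Type u) [CommRing A'] [Algebra A A'] : MvPolynomial (κ ⊕ κ) A' ⊗[A] B :=
  ∑ k, X (Sum.inr k) ⊗ₜ[A] e k

/-- The constants of a polynomial ring. -/
noncomputable def mcst (A : Type u) [CommRing A] (σ : Type u) (A' : Type u) [CommRing A'] [Algebra A A'] :
    A' →ₐ[A] MvPolynomial σ A' :=
  (Algebra.ofId A' (MvPolynomial σ A')).restrictScalars A

@[simp] theorem mcst_apply {σ A' : Type u} [CommRing A'] [Algebra A A'] (a : A') :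
    mcst A σ A' a = C a := rfl

/-- The generic obstruction for an element to lie in the kernel. -/
noncomputable def obs {A' : Type u} [CommRing A'] [Algebra A A'] (b' : A' ⊗[A] B) : MvPolynomial (κ ⊕ κ) A' :=
  nm F _ (genL e A' + genR e A' * bc (mcst A _ A') b') - nm F _ (genL e A')

theorem obs_map {A' A'' : Type u} [CommRing A'] [Algebra A A'] [CommRing A''] [Algebra A A'']
    (ψ : A' →ₐ[A] A'') (b' : A' ⊗[A] B) :
    obs F e (bc ψ b') = MvPolynomial.map ψ.toRingHom (obs F e b') := by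
  let Ψ : MvPolynomial (κ ⊕ κ) A' →ₐ[A] MvPolynomial (κ ⊕ κ) A'' := MvPolynomial.mapAlgHom ψ
  show _ = Ψ _
  have h1 : bc Ψ (genL e A') = genL e A'' := by simp [genL, Ψ]
  have h2 : bc Ψ (genR e A') = genR e A'' := by simp [genR, Ψ]
  have h3 : Ψ.comp (mcst A _ A') = (mcst A _ A'').comp ψ := by
    ext a; simp [Ψ]
  have key : bc Ψ (genL e A' + genR e A' * bc (mcst A _ A') b') =
      genL e A'' + genR e A'' * bc (mcst A _ A'') (bc ψ b') := by
    rw [map_add, map_mul, bc_bc, h1, h2, h3, bc_bc]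
  rw [obs, obs, map_sub, ← nm_bc, ← nm_bc, key, h1]

theorem mem_kerBC_iff_obs (he : Submodule.span A (Set.range e) = ⊤) {A' : Type u} [CommRing A'] [Algebra A A']
    (b' : A' ⊗[A] B) : b' ∈ PolLaw.kerBC F.law A' ↔ obs F e b' = 0 := by
  constructor
  · intro h
    exact sub_eq_zero.mpr ((mem_kerBC_iff F).mp h _ (mcst A _ A') _ _)
  · intro h
    rw [mem_kerBC_iff]
    intro R _ _ φ x w
    classical
    obtain ⟨s, v, hx⟩ := exists_sum_eq he x
    obtain ⟨t, v', hw⟩ := exists_sum_eq he w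
    let val : κ ⊕ κ → R := Sum.elim (fun k => if k ∈ s then v k else 0) (fun k => if k ∈ t then v' k else 0)
    letI := φ.toRingHom.toAlgebra
    haveI : IsScalarTower A A' R := IsScalarTower.of_algebraMap_eq fun a => (φ.commutes a).symm
    let Φ : MvPolynomial (κ ⊕ κ) A' →ₐ[A] R := (MvPolynomial.aeval val).restrictScalars A
    have h1 : bc Φ (genL e A') = x := by
      simp [genL, Φ, val, hx, TensorProduct.ite_tmul, Finset.sum_ite_mem]
    have h2 : bc Φ (genR e A') = w := by
      simp [genR, Φ, val, hw, TensorProduct.ite_tmul, Finset.sum_ite_mem]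
    have h3 : Φ.comp (mcst A _ A') = φ := by
      refine AlgHom.ext fun a => ?_
      show MvPolynomial.aeval val (C a) = φ a
      rw [MvPolynomial.aeval_C]
      rfl
    have := congrArg Φ h
    have key : bc Φ (genL e A' + genR e A' * bc (mcst A _ A') b') = x + w * bc φ b' := by
      rw [map_add, map_mul, bc_bc, h1, h2, h3]
    rw [obs, map_zero, map_sub, ← nm_bc, ← nm_bc, key, h1, sub_eq_zero] at this
    exact this

theorem mem_ker_iff_obs (he : Submodule.span A (Set.range e) = ⊤) (b : B) :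
    b ∈ PolLaw.ker F.law ↔ obs F e ((1 : A) ⊗ₜ[A] b) = 0 := by
  rw [← mem_kerBC_iff_obs F e he, mem_ker_iff, mem_kerBC_iff]
  constructor
  · intro h R _ _ φ x w
    rw [bc_tmul, map_one]
    exact h R x w
  · intro h S _ _ x w
    have := h S (Algebra.ofId A S) x w
    rwa [bc_tmul, map_one] at this

/-- Scaling an element scales the obstruction termwise by positive powers. -/
theorem obs_smul_eq_zero (b : B) (m : A) (hm : m • obs F e ((1 : A) ⊗ₜ[A] b) = 0) :
    obs F e ((1 : A) ⊗ₜ[A] (m • b)) = 0 := by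
  classical
  let sub : MvPolynomial (κ ⊕ κ) A →ₐ[A] MvPolynomial (κ ⊕ κ) A :=
    MvPolynomial.aeval (Sum.elim (fun k => X (Sum.inl k)) fun k => C m * X (Sum.inr k))
  let zero : MvPolynomial (κ ⊕ κ) A →ₐ[A] MvPolynomial (κ ⊕ κ) A :=
    MvPolynomial.aeval (Sum.elim (fun k => X (Sum.inl k)) fun _ => 0)
  set P := obs F e ((1 : A) ⊗ₜ[A] b) with hP
  have hsub : sub P = obs F e ((1 : A) ⊗ₜ[A] (m • b)) := by
    have h1 : bc sub (genL e A) = genL e A := by simp [genL, sub]
    have h2 : bc sub (genR e A) * ((1 : MvPolynomial (κ ⊕ κ) A) ⊗ₜ[A] b) =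
        genR e A * ((1 : MvPolynomial (κ ⊕ κ) A) ⊗ₜ[A] (m • b)) := by
      simp only [genR, map_sum, bc_tmul, Finset.sum_mul, Algebra.TensorProduct.tmul_mul_tmul, sub,
        MvPolynomial.aeval_X, Sum.elim_inr, mul_one]
      refine Finset.sum_congr rfl fun k _ => ?_
      rw [← MvPolynomial.smul_eq_C_mul, mul_smul_comm, TensorProduct.smul_tmul]
    have key : bc sub (genL e A + genR e A * bc (mcst A _ A) ((1 : A) ⊗ₜ[A] b)) =
        genL e A + genR e A * bc (mcst A _ A) ((1 : A) ⊗ₜ[A] (m • b)) := by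
      rw [bc_tmul, bc_tmul, map_one, map_add, map_mul, bc_tmul, map_one, h1, h2]
    rw [hP, obs, obs, map_sub, ← nm_bc, ← nm_bc, key, h1]
  have hzero : zero P = 0 := by
    have h1 : bc zero (genL e A) = genL e A := by simp [genL, zero]
    have h2 : bc zero (genR e A) = 0 := by simp [genR, zero]
    have key : bc zero (genL e A + genR e A * bc (mcst A _ A) ((1 : A) ⊗ₜ[A] b)) = genL e A := by
      rw [map_add, map_mul, h1, h2, zero_mul, add_zero]
    rw [hP, obs, map_sub, ← nm_bc, ← nm_bc, key, h1, sub_self]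
  rw [← hsub, ← hzero]
  conv_lhs => rw [P.as_sum]
  conv_rhs => rw [P.as_sum]
  rw [map_sum, map_sum]
  refine Finset.sum_congr rfl fun ν _ => ?_
  have hmc : m * P.coeff ν = 0 := by
    simpa using congrArg (fun p => MvPolynomial.coeff ν p) hm
  simp only [sub, zero, MvPolynomial.aeval_monomial]
  rw [Finsupp.prod_fintype _ _ fun i => pow_zero _, Finsupp.prod_fintype _ _ fun i => pow_zero _,
    Fintype.prod_sum_type, Fintype.prod_sum_type]
  by_cases hν : ∀ k, ν (Sum.inr k) = 0
  · simp [hν]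
  · push_neg at hν
    obtain ⟨k, hk⟩ := hν
    obtain ⟨n, hn⟩ := Nat.exists_eq_succ_of_ne_zero hk
    have hR : ∏ a, (0 : MvPolynomial (κ ⊕ κ) A) ^ ν (Sum.inr a) = 0 :=
      Finset.prod_eq_zero (Finset.mem_univ k) (zero_pow hk)
    simp only [Sum.elim_inl, Sum.elim_inr, hR, mul_zero]
    rw [← Finset.mul_prod_erase _ (fun a => (C m * X (Sum.inr a) : MvPolynomial (κ ⊕ κ) A) ^ ν (Sum.inr a))
      (Finset.mem_univ k), hn, pow_succ, MvPolynomial.algebraMap_eq]
    have hC : (C (P.coeff ν) : MvPolynomial (κ ⊕ κ) A) * C m = 0 := by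
      rw [← C_mul, mul_comm (P.coeff ν), hmc, C_0]
    have hre : ∀ a b c : MvPolynomial (κ ⊕ κ) A, C (P.coeff ν) * (a * (b * (C m * X (Sum.inr k)) * c)) =
        (C (P.coeff ν) * C m) * (a * (b * X (Sum.inr k) * c)) := fun a b c => by ring
    rw [hre, hC, zero_mul]

end Groth.Agent.H22Alg.PL
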