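import Mathlib
import Groth.Agent.H22Alg.MulLawGeneric

/-!
In characteristic zero the kernel of a multiplicative law on a finite algebra is cut out by linear
equations, hence commutes with flat base change.
-/

universe u

open scoped TensorProduct

namespace Groth.Agent.H22Alg.PL

open Polynomial

variable {A : Type u} [CommRing A] {B : Type u} [CommRing B] [Algebra A B] {d : ℕ}
  (F : PolLaw.MulLaw A B A d)

section Dir

variable {R : Type u} [CommRing R] [Algebra A R]

/-- The norm along a line. -/
noncomputable def lineNm (x y : R ⊗[A] B) : R[X] :=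
  nm F R[X] (bc (cst A R) x + (X : R[X]) • bc (cst A R) y)

/-- The directional derivative of the norm. -/
noncomputable def dir (x y : R ⊗[A] B) : R := (lineNm F x y).coeff 1

theorem lineNm_bc {R' : Type u} [CommRing R'] [Algebra A R'] (φ : R →ₐ[A] R') (x y : R ⊗[A] B) :
    lineNm F (bc φ x) (bc φ y) = (lineNm F x y).map φ.toRingHom := by
  show _ = Polynomial.mapAlgHom φ (lineNm F x y)
  have hc : (Polynomial.mapAlgHom φ).comp (cst A R) = (cst A R').comp φ := AlgHom.ext fun r => by simp
  rw [lineNm, lineNm, ← nm_bc]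
  simp only [map_add, bc_smul, bc_bc, hc]
  simp

theorem dir_bc {R' : Type u} [CommRing R'] [Algebra A R'] (φ : R →ₐ[A] R') (x y : R ⊗[A] B) :
    dir F (bc φ x) (bc φ y) = φ (dir F x y) := by
  rw [dir, dir, lineNm_bc, Polynomial.coeff_map]
  rfl

theorem aeval_lineNm {R' : Type u} [CommRing R'] [Algebra A R'] (ψ : R[X] →ₐ[A] R') (x y : R ⊗[A] B) :
    ψ (lineNm F x y) = nm F R' (bc (ψ.comp (cst A R)) x + ψ X • bc (ψ.comp (cst A R)) y) := by
  rw [lineNm, ← nm_bc, map_add, bc_smul, bc_bc, bc_bc]

theorem coeff_zero_lineNm (x y : R ⊗[A] B) : (lineNm F x y).coeff 0 = nm F R x := by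
  have h := aeval_lineNm F ((Polynomial.aeval (0 : R)).restrictScalars A) x y
  have hc : ((Polynomial.aeval (0 : R)).restrictScalars A).comp (cst A R) = AlgHom.id A R :=
    AlgHom.ext fun r => by simp
  rw [hc] at h
  simpa [bc_id, Polynomial.coeff_zero_eq_eval_zero, Polynomial.coe_aeval_eq_eval] using h

theorem eval_one_lineNm (x y : R ⊗[A] B) : (lineNm F x y).eval 1 = nm F R (x + y) := by
  have h := aeval_lineNm F ((Polynomial.aeval (1 : R)).restrictScalars A) x y
  have hc : ((Polynomial.aeval (1 : R)).restrictScalars A).comp (cst A R) = AlgHom.id A R :=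
    AlgHom.ext fun r => by simp
  rw [hc] at h
  simpa [bc_id, Polynomial.coe_aeval_eq_eval] using h

theorem dir_smul (x y : R ⊗[A] B) (r : R) : dir F x (r • y) = r * dir F x y := by
  have h := aeval_lineNm F ((Polynomial.aeval (C r * X : R[X])).restrictScalars A) x y
  have hc : ((Polynomial.aeval (C r * X : R[X])).restrictScalars A).comp (cst A R) = cst A R :=
    AlgHom.ext fun s => by simp
  rw [hc] at h
  have h2 : lineNm F x (r • y) = (lineNm F x y).comp (C r * X) := by
    rw [comp_eq_aeval]
    refine Eq.trans ?_ h.symm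
    rw [lineNm, bc_smul, smul_smul, AlgHom.restrictScalars_apply, Polynomial.aeval_X, cst_apply, mul_comm]
  rw [dir, dir, h2, comp_C_mul_X_coeff, pow_one, mul_comm]

theorem coeff_one_eval_X (P : R[X][X]) :
    (P.eval X).coeff 1 = (P.coeff 0).coeff 1 + (P.coeff 1).coeff 0 := by
  induction P using Polynomial.induction_on' with
  | add p q hp hq => simp only [eval_add, coeff_add, hp, hq]; ring
  | monomial n a =>
    rw [eval_monomial, coeff_monomial, coeff_monomial, coeff_mul_X_pow']
    rcases n with _ | _ | n <;> simp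

theorem dir_add (x y z : R ⊗[A] B) : dir F x (y + z) = dir F x y + dir F x z := by
  let ι : R →ₐ[A] R[X] := cst A R
  let P : R[X][X] := lineNm F (bc ι x + (X : R[X]) • bc ι y) (bc ι z)
  have hd : P.eval X = lineNm F x (y + z) := by
    rw [← Polynomial.coe_aeval_eq_eval]
    refine (aeval_lineNm F ((Polynomial.aeval (X : R[X])).restrictScalars A) _ _).trans ?_
    have hc : ((Polynomial.aeval (X : R[X])).restrictScalars A).comp (cst A R[X]) = AlgHom.id A R[X] :=
      AlgHom.ext fun r => by simp
    rw [hc, lineNm]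
    simp only [bc_id, map_add, smul_add, AlgHom.restrictScalars_apply, Polynomial.aeval_X, ι, add_assoc]
  have h0 : P.coeff 0 = lineNm F x y := coeff_zero_lineNm F _ _
  have h1 : (P.coeff 1).coeff 0 = dir F x z := by
    have h := lineNm_bc F ((Polynomial.aeval (0 : R)).restrictScalars A) (bc ι x + (X : R[X]) • bc ι y) (bc ι z)
    have hc : ((Polynomial.aeval (0 : R)).restrictScalars A).comp ι = AlgHom.id A R :=
      AlgHom.ext fun r => by simp [ι]
    rw [map_add, bc_smul, bc_bc, bc_bc, bc_bc, hc, bc_id, bc_id, bc_id] at h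
    have h' := congrArg (fun Q => Q.coeff 1) h
    simp only [Polynomial.coeff_map] at h'
    rw [dir]
    simpa [P, Polynomial.coeff_zero_eq_eval_zero, Polynomial.coe_aeval_eq_eval] using h'.symm
  rw [dir, ← hd, coeff_one_eval_X, h0, h1]
  rfl

/-- In characteristic zero, vanishing derivative along a line forces invariance. -/
theorem nm_eq_of_dir_eq_zero [Algebra ℚ R] (x y : R ⊗[A] B)
    (h : ∀ (R' : Type u) [CommRing R'] [Algebra A R'] (φ : R →ₐ[A] R') (x' : R' ⊗[A] B),
      dir F x' (bc φ y) = 0) : nm F R (x + y) = nm F R x := by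
  let ι : R →ₐ[A] R[X] := cst A R
  set P := lineNm F x y
  have hkey : P.derivative = 0 := by
    have h2 := aeval_lineNm F (R' := R[X][X])
      (((Polynomial.aeval (X + C X : R[X][X])).restrictScalars A)) x y
    have hc : ((Polynomial.aeval (X + C X : R[X][X])).restrictScalars A).comp (cst A R) =
        (cst A R[X]).comp ι := AlgHom.ext fun r => by
      simp [ι, IsScalarTower.algebraMap_apply R R[X] R[X][X]]
    rw [hc] at h2
    have h3 : taylor (X : R[X]) (P.map C) = lineNm F (bc ι x + (X : R[X]) • bc ι y) (bc ι y) := by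
      rw [taylor_apply, lineNm]
      simp only [map_add, bc_smul, bc_bc, cst_apply]
      refine Eq.trans ?_ (h2.trans (congrArg (nm F R[X][X]) ?_))
      · rw [Polynomial.comp, eval₂_map]
        show _ = aeval (X + C X : R[X][X]) P
        rw [aeval_def]
        congr 1
      · simp only [AlgHom.restrictScalars_apply, aeval_X, add_smul]
        abel
    have h4 := congrArg (fun Q => Q.coeff 1) h3
    simp only [taylor_coeff_one, derivative_map] at h4
    rw [eval_map, Polynomial.eval₂_C_X] at h4
    rw [h4]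
    exact h _ ι _
  have : IsAddTorsionFree R := IsAddTorsionFree.of_module_rat R
  rw [← eval_one_lineNm, ← coeff_zero_lineNm F x y]
  obtain ⟨c, hc⟩ := Polynomial.natDegree_eq_zero.mp (Polynomial.natDegree_eq_zero_of_derivative_eq_zero hkey)
  simp only [P] at hc
  rw [← hc, eval_C, coeff_C_zero]

end Dir

variable {κ : Type u} [Fintype κ] (e : κ → B)

/-- The linear equations of the kernel over a test algebra. -/
noncomputable def lin {A' : Type u} [CommRing A'] [Algebra A A'] (b' : A' ⊗[A] B) : MvPolynomial (κ ⊕ κ) A' :=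
  dir F (genL e A') (genR e A' * bc (mcst A _ A') b')

theorem lin_eq_zero_of_mem {A' : Type u} [CommRing A'] [Algebra A A'] {b' : A' ⊗[A] B}
    (h : b' ∈ PolLaw.kerBC F.law A') : lin F e b' = 0 := by
  have h2 := (mem_kerBC_iff F).mp h _ ((cst A (MvPolynomial (κ ⊕ κ) A')).comp (mcst A _ A'))
    (bc (cst A _) (genL e A')) ((X : (MvPolynomial (κ ⊕ κ) A')[X]) • bc (cst A _) (genR e A'))
  rw [← bc_bc, smul_mul_assoc, ← map_mul] at h2
  rw [lin, dir, lineNm, h2, nm_bc, cst_apply]
  exact coeff_C_succ

theorem mem_kerBC_of_lin [Algebra ℚ A] (he : Submodule.span A (Set.range e) = ⊤) {A' : Type u} [CommRing A']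
    [Algebra A A'] {b' : A' ⊗[A] B} (h : lin F e b' = 0) : b' ∈ PolLaw.kerBC F.law A' := by
  rw [mem_kerBC_iff]
  intro R _ _ φ x w
  letI : Algebra ℚ R := ((algebraMap A R).comp (algebraMap ℚ A)).toAlgebra
  refine nm_eq_of_dir_eq_zero F x _ fun R' _ _ ψ x' => ?_
  classical
  obtain ⟨s, v, hx⟩ := exists_sum_eq he x'
  obtain ⟨t, v', hw⟩ := exists_sum_eq he (bc ψ w)
  let val : κ ⊕ κ → R' := Sum.elim (fun k => if k ∈ s then v k else 0) (fun k => if k ∈ t then v' k else 0)
  letI := (ψ.comp φ).toRingHom.toAlgebra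
  haveI : IsScalarTower A A' R' := IsScalarTower.of_algebraMap_eq fun a => ((ψ.comp φ).commutes a).symm
  let Φ : MvPolynomial (κ ⊕ κ) A' →ₐ[A] R' := (MvPolynomial.aeval val).restrictScalars A
  have h1 : bc Φ (genL e A') = x' := by
    simp [genL, Φ, val, hx, TensorProduct.ite_tmul, Finset.sum_ite_mem]
  have h2 : bc Φ (genR e A') = bc ψ w := by
    simp [genR, Φ, val, hw, TensorProduct.ite_tmul, Finset.sum_ite_mem]
  have h3 : Φ.comp (mcst A _ A') = ψ.comp φ := by
    refine AlgHom.ext fun a => ?_
    show MvPolynomial.aeval val (MvPolynomial.C a) = ψ (φ a)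
    rw [MvPolynomial.aeval_C]
    rfl
  have := congrArg Φ h
  rw [lin, map_zero, ← dir_bc, map_mul, bc_bc, h1, h2, h3] at this
  rw [map_mul, bc_bc]
  exact this

theorem lin_add {A' : Type u} [CommRing A'] [Algebra A A'] (a b : A' ⊗[A] B) :
    lin F e (a + b) = lin F e a + lin F e b := by
  simp only [lin, map_add, mul_add, dir_add]

theorem lin_smul {A' : Type u} [CommRing A'] [Algebra A A'] (r : A') (b : A' ⊗[A] B) :
    lin F e (r • b) = r • lin F e b := by
  rw [lin, bc_smul, mul_smul_comm, dir_smul, mcst_apply, ← MvPolynomial.smul_eq_C_mul, lin]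

theorem lin_one_tmul {A' : Type u} [CommRing A'] [Algebra A A'] (b : B) :
    lin F e ((1 : A') ⊗ₜ[A] b) = MvPolynomial.map (algebraMap A A') (lin F e ((1 : A) ⊗ₜ[A] b)) := by
  let Ψ : MvPolynomial (κ ⊕ κ) A →ₐ[A] MvPolynomial (κ ⊕ κ) A' := MvPolynomial.mapAlgHom (Algebra.ofId A A')
  have h1 : bc Ψ (genL e A) = genL e A' := by simp [genL, Ψ]
  have h2 : bc Ψ (genR e A) = genR e A' := by simp [genR, Ψ]
  show _ = Ψ _
  rw [lin, lin, ← dir_bc, map_mul, bc_bc, bc_tmul, bc_tmul, h1, h2, map_one, map_one]

/-- The equations over the base, as a linear map. -/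
noncomputable def linMap : B →ₗ[A] MvPolynomial (κ ⊕ κ) A where
  toFun b := lin F e ((1 : A) ⊗ₜ[A] b)
  map_add' a b := by rw [TensorProduct.tmul_add, lin_add]
  map_smul' r b := by rw [TensorProduct.tmul_smul, lin_smul, RingHom.id_apply]

/-- In characteristic zero the kernel commutes with flat base change. -/
theorem map_ker_eq_kerBC_of_flat [Algebra ℚ A] [Module.Finite A B] (A' : Type u) [CommRing A'] [Algebra A A']
    [Module.Flat A A'] :
    (PolLaw.ker F.law).map (Algebra.TensorProduct.includeRight : B →ₐ[A] A' ⊗[A] B) =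
      PolLaw.kerBC F.law A' := by
  classical
  obtain ⟨n, g, hg⟩ := Module.Finite.exists_fin (R := A) (M := B)
  let e : ULift.{u} (Fin n) → B := fun i => g i.down
  have he : Submodule.span A (Set.range e) = ⊤ := by
    rw [← hg]
    congr 1
    exact Equiv.ulift.surjective.range_comp g
  refine le_antisymm (map_ker_le_kerBC F A') fun b' hb' => ?_
  let L := linMap F e
  have hL : ∀ z : A' ⊗[A] B, lin F e z = MvPolynomial.algebraTensorAlgEquiv A A' (L.lTensor A' z) := by
    intro z
    induction z using TensorProduct.induction_on with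
    | zero =>
      rw [map_zero, map_zero, ← zero_smul A' (0 : A' ⊗[A] B), lin_smul, zero_smul]
    | tmul a b =>
      rw [LinearMap.lTensor_tmul, MvPolynomial.algebraTensorAlgEquiv_tmul]
      rw [show a ⊗ₜ[A] b = a • ((1 : A') ⊗ₜ[A] b) by rw [TensorProduct.smul_tmul', smul_eq_mul, mul_one],
        lin_smul, lin_one_tmul]
      rfl
    | add a b ha hb => rw [lin_add, ha, hb, map_add, map_add]
  have hz : L.lTensor A' b' = 0 := by
    apply (MvPolynomial.algebraTensorAlgEquiv A A').injective
    rw [← hL, lin_eq_zero_of_mem F e hb', map_zero]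
  obtain ⟨y, rfl⟩ := (Module.Flat.lTensor_exact A' (L.exact_subtype_ker_map) b').mp hz
  clear hb' hz
  induction y using TensorProduct.induction_on with
  | zero => rw [map_zero]; exact zero_mem _
  | tmul a b =>
    have hb : (b : B) ∈ PolLaw.ker F.law := by
      rw [mem_ker_iff]
      intro S _ _ x w
      have hk := (mem_kerBC_iff F).mp (mem_kerBC_of_lin F e he (b' := (1 : A) ⊗ₜ[A] (b : B)) (LinearMap.mem_ker.mp b.2))
        S (Algebra.ofId A S) x w
      rwa [bc_tmul, map_one] at hk
    rw [LinearMap.lTensor_tmul, Submodule.subtype_apply, ← mul_one a, ← smul_eq_mul, ← TensorProduct.smul_tmul']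
    exact Submodule.smul_of_tower_mem _ a (Ideal.mem_map_of_mem _ hb)
  | add a b ha hb =>
    rw [map_add]
    exact add_mem ha hb

end Groth.Agent.H22Alg.PL
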