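import Mathlib
import Groth.Agent.H22Alg.MulLawKer

/-!
The kernel of the base change to polynomial rings is the extended kernel; consequences for the
radical of base-changed kernels.
-/

universe u

open scoped TensorProduct

namespace Groth.Agent.H22Alg.PL

open Polynomial

variable {A : Type u} [CommRing A] {B : Type u} [CommRing B] [Algebra A B] {d : ℕ}
  (F : PolLaw.MulLaw A B A d)

/-- The elements whose multiples do not change the norm over `R` form an ideal. -/
noncomputable def invIdeal (R : Type u) [CommRing R] [Algebra A R] : Ideal (R ⊗[A] B) where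
  carrier := {e | ∀ x w, nm F R (x + w * e) = nm F R x}
  zero_mem' x w := by simp
  add_mem' {a b} ha hb x w := by rw [mul_add, ← add_assoc, hb, ha]
  smul_mem' c {a} ha x w := by rw [smul_eq_mul, ← mul_assoc]; exact ha x _

theorem bc_mem_invIdeal {A' R : Type u} [CommRing A'] [Algebra A A'] [CommRing R] [Algebra A R]
    {b' : A' ⊗[A] B} (h : b' ∈ PolLaw.kerBC F.law A') (φ : A' →ₐ[A] R) : bc φ b' ∈ invIdeal F R :=
  fun x w => (mem_kerBC_iff F).mp h R φ x w

theorem monic_det_vandermonde (S : Type u) [CommRing S] (n : ℕ) :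
    (Matrix.vandermonde fun j : Fin n => (X : S[X]) ^ (j : ℕ)).det.Monic := by
  rw [Matrix.det_vandermonde]
  refine monic_prod_of_monic _ _ fun i _ => monic_prod_of_monic _ _ fun j hj => ?_
  have hij : (i : ℕ) < j := (Finset.mem_Ioi (α := Fin n)).mp hj
  nontriviality S
  refine (monic_X_pow _).sub_of_left ?_
  rw [degree_X_pow, degree_X_pow]
  exact_mod_cast hij

/-- The coefficients of an element of the kernel over `A[X]` lie in the kernel. -/
theorem coeff_mem_ker {n : ℕ} (b : Fin n → B)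
    (h : ∑ k : Fin n, ((X : A[X]) ^ (k : ℕ)) ⊗ₜ[A] b k ∈ PolLaw.kerBC F.law A[X]) (i : Fin n) :
    b i ∈ PolLaw.ker F.law := by
  rw [mem_ker_iff]
  intro S _ _ x w
  classical
  let V := Matrix.vandermonde fun j : Fin n => (X : S[X]) ^ (j : ℕ)
  set Δ := V.det with hΔ
  have hmonic : Δ.Monic := monic_det_vandermonde S n
  let ι : S →ₐ[A] S[X][X] := (cst A S[X]).comp (cst A S)
  -- the evaluations at the powers of the auxiliary variable
  let φ : Fin n → (A[X] →ₐ[A] S[X][X]) := fun j => Polynomial.aeval (C ((X : S[X]) ^ (j : ℕ)))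
  have hmem : C Δ • ((1 : S[X][X]) ⊗ₜ[A] b i) ∈ invIdeal F S[X][X] := by
    have key : C Δ • ((1 : S[X][X]) ⊗ₜ[A] b i) =
        ∑ j, C (V.adjugate i j) • bc (φ j) (∑ k : Fin n, ((X : A[X]) ^ (k : ℕ)) ⊗ₜ[A] b k) := by
      have h1 : ∀ k, ∑ j, V.adjugate i j * V j k = if i = k then Δ else 0 := fun k => by
        rw [← Matrix.mul_apply, Matrix.adjugate_mul, Matrix.smul_apply, Matrix.one_apply]
        simp [hΔ]
      simp only [map_sum, bc_tmul, Finset.smul_sum, TensorProduct.smul_tmul', smul_eq_mul, mul_one]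
      rw [Finset.sum_comm]
      rw [Finset.sum_eq_single i]
      · rw [← TensorProduct.sum_tmul]
        congr 1
        have := congrArg C (h1 i)
        rw [map_sum, if_pos rfl] at this
        rw [← this]
        refine Finset.sum_congr rfl fun j _ => ?_
        simp [φ, V, Matrix.vandermonde_apply]
      · intro k _ hk
        rw [← TensorProduct.sum_tmul]
        convert TensorProduct.zero_tmul S[X][X] (b k)
        have := congrArg C (h1 k)
        rw [map_sum, if_neg (Ne.symm hk), map_zero] at this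
        rw [← this]
        refine Finset.sum_congr rfl fun j _ => ?_
        simp [φ, V, Matrix.vandermonde_apply]
      · simp
    rw [key]
    refine sum_mem fun j _ => ?_
    exact Submodule.smul_of_tower_mem _ _ (bc_mem_invIdeal F h _)
  -- the substitution `T ↦ Δ T`
  let ψ : S[X] →ₐ[A] S[X][X] := Polynomial.eval₂AlgHom ι (C Δ * X) fun _ => Commute.all _ _
  have hψ : ∀ p : S[X], ψ p = (p.map (C : S →+* S[X])).comp (C Δ * X) := fun p => by
    rw [Polynomial.comp, Polynomial.eval₂_map]
    rfl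
  have hinj : Function.Injective ψ := by
    intro p q hpq
    rw [hψ, hψ] at hpq
    ext k
    have := congrArg (fun r => r.coeff k) hpq
    simp only [comp_C_mul_X_coeff, coeff_map] at this
    exact C_injective ((hmonic.pow k).isRegular.right this)
  have hT : nm F S[X] (bc (cst A S) x + (X : S[X]) • (bc (cst A S) w * (1 ⊗ₜ[A] b i))) =
      nm F S[X] (bc (cst A S) x) := by
    apply hinj
    have hc : ψ.comp (cst A S) = ι := by
      refine AlgHom.ext fun s => ?_
      show ψ (C s) = _
      rw [hψ]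
      simp [ι]
    have hX : ψ X = C Δ * X := by rw [hψ]; simp
    rw [← nm_bc, ← nm_bc, map_add, bc_smul, map_mul, bc_bc, bc_bc, bc_tmul, map_one, hc, hX]
    have h2 := hmem (bc ι x) ((X : S[X][X]) • bc ι w)
    rw [mul_smul_comm, smul_mul_assoc, smul_smul] at h2
    exact h2
  have he := congrArg ((Polynomial.aeval (1 : S)).restrictScalars A) hT
  rw [← nm_bc, ← nm_bc, map_add, bc_smul, map_mul, bc_bc, bc_bc, bc_tmul, map_one] at he
  have hcst : ((Polynomial.aeval (1 : S)).restrictScalars A).comp (cst A S) = AlgHom.id A S := by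
    ext s; simp
  simpa [hcst, bc_id] using he

/-- A variant with arbitrary distinct exponents. -/
theorem coeff_mem_ker' {κ : Type*} (s : Finset κ) (w : κ → ℕ) (hw : Set.InjOn w s) (b : κ → B)
    (h : ∑ j ∈ s, ((X : A[X]) ^ w j) ⊗ₜ[A] b j ∈ PolLaw.kerBC F.law A[X]) {j : κ} (hj : j ∈ s) :
    b j ∈ PolLaw.ker F.law := by
  classical
  set n := s.sup w + 1
  have hlt : ∀ k ∈ s, w k < n := fun k hk => Nat.lt_succ_of_le (Finset.le_sup hk)
  let b' : Fin n → B := fun i => ∑ k ∈ s with w k = i, b k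
  have h' : ∑ i : Fin n, ((X : A[X]) ^ (i : ℕ)) ⊗ₜ[A] b' i ∈ PolLaw.kerBC F.law A[X] := by
    convert h using 1
    simp only [b', TensorProduct.tmul_sum]
    rw [← Finset.sum_fiberwise_of_maps_to (t := Finset.range n) (fun k hk => Finset.mem_range.mpr (hlt k hk))
      (fun k => ((X : A[X]) ^ w k) ⊗ₜ[A] b k), ← Fin.sum_univ_eq_sum_range]
    refine Finset.sum_congr rfl fun i _ => Finset.sum_congr rfl fun k hk => ?_
    rw [(Finset.mem_filter.mp hk).2]
  have := coeff_mem_ker F b' h' ⟨w j, hlt j hj⟩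
  have hb : b' ⟨w j, hlt j hj⟩ = b j := by
    refine Finset.sum_eq_single_of_mem j (by simp [hj]) fun k hk hne => ?_
    obtain ⟨hk, hk'⟩ := Finset.mem_filter.mp hk
    exact absurd (hw hk hj hk') hne
  rwa [hb] at this

/-- The kernel over a polynomial ring in finitely many variables is extended from the kernel. -/
theorem kerBC_mvPolynomial (σ : Type u) [Fintype σ] :
    PolLaw.kerBC F.law (MvPolynomial σ A) =
      (PolLaw.ker F.law).map (Algebra.TensorProduct.includeRight : B →ₐ[A] MvPolynomial σ A ⊗[A] B) := by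
  classical
  refine le_antisymm (fun y hy => ?_) (map_ker_le_kerBC F _)
  set N := (cd y).support.sup (fun ν => ν.support.sup ν) + 1
  let e := Fintype.equivFin σ
  let φ : MvPolynomial σ A →ₐ[A] A[X] := MvPolynomial.aeval fun i => X ^ (N ^ (e i : ℕ))
  let wt : (σ →₀ ℕ) → ℕ := fun ν => ∑ i, ν i * N ^ (e i : ℕ)
  have hφ : ∀ ν : σ →₀ ℕ, φ (MvPolynomial.monomial ν 1) = X ^ wt ν := fun ν => by
    simp only [φ, wt, MvPolynomial.aeval_monomial, map_one, one_mul, ← Finset.prod_pow_eq_pow_sum]
    rw [Finsupp.prod_fintype _ _ fun i => pow_zero _]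
    exact Finset.prod_congr rfl fun i _ => by rw [← pow_mul, mul_comm]
  have hbd : ∀ ν ∈ (cd y).support, ∀ i, ν i < N := by
    intro ν hν i
    by_cases hi : i ∈ ν.support
    · exact Nat.lt_succ_of_le ((Finset.le_sup (f := ν) hi).trans
        (Finset.le_sup (f := fun μ : σ →₀ ℕ => μ.support.sup μ) hν))
    · rw [Finsupp.notMem_support_iff.mp hi]; exact Nat.succ_pos _
  have hwt : Set.InjOn wt (cd y).support := by
    intro ν hν μ hμ hνμ
    let f : Fin (Fintype.card σ) → Fin N := fun k => ⟨ν (e.symm k), hbd ν hν _⟩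
    let g : Fin (Fintype.card σ) → Fin N := fun k => ⟨μ (e.symm k), hbd μ hμ _⟩
    have hfg : f = g := finFunctionFinEquiv.injective <| Fin.ext <| by
      rw [finFunctionFinEquiv_apply, finFunctionFinEquiv_apply, ← e.sum_comp, ← e.sum_comp]
      simpa [f, g] using hνμ
    ext i
    simpa [f, g] using congrArg (fun q : Fin (Fintype.card σ) → Fin N => (q (e i) : ℕ)) hfg
  have hy' : ∑ ν ∈ (cd y).support, ((X : A[X]) ^ wt ν) ⊗ₜ[A] cd y ν ∈ PolLaw.kerBC F.law A[X] := by
    convert bc_mem_kerBC F φ hy using 1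
    conv_rhs => rw [← sum_monomial_cd y]
    simp [hφ]
  rw [← sum_monomial_cd y]
  refine sum_mem fun ν hν => ?_
  have := Ideal.mem_map_of_mem (Algebra.TensorProduct.includeRight : B →ₐ[A] MvPolynomial σ A ⊗[A] B)
    (coeff_mem_ker' F _ wt hwt _ hy' hν)
  rw [← mul_one (MvPolynomial.monomial ν (1 : A)), ← one_mul (cd y ν), ← Algebra.TensorProduct.tmul_mul_tmul]
  exact Ideal.mul_mem_left _ _ this

/-- Coefficients of an element of the kernel over a polynomial ring lie in the kernel. -/
theorem cd_mem_ker {σ : Type u} [Fintype σ] {y : MvPolynomial σ A ⊗[A] B}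
    (hy : y ∈ PolLaw.kerBC F.law (MvPolynomial σ A)) (ν : σ →₀ ℕ) : cd y ν ∈ PolLaw.ker F.law := by
  classical
  rw [kerBC_mvPolynomial] at hy
  have : ∀ (u : MvPolynomial σ A ⊗[A] B) (b : B) (μ : σ →₀ ℕ), b ∈ PolLaw.ker F.law →
      cd (u * ((1 : MvPolynomial σ A) ⊗ₜ[A] b)) μ ∈ PolLaw.ker F.law := by
    intro u b μ hb
    induction u using TensorProduct.induction_on with
    | zero => simp
    | tmul p c =>
      rw [Algebra.TensorProduct.tmul_mul_tmul, mul_one, cd_tmul]
      exact Submodule.smul_of_tower_mem _ _ (Ideal.mul_mem_left _ _ hb)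
    | add u v hu hv => rw [add_mul, map_add, Finsupp.add_apply]; exact add_mem hu hv
  rw [Ideal.map] at hy
  obtain ⟨c, hc⟩ := (Finsupp.mem_span_iff_linearCombination _ _ _).mp hy
  rw [← hc, Finsupp.linearCombination_apply, Finsupp.sum, map_sum, Finsupp.finsetSum_apply]
  refine sum_mem fun x _ => ?_
  obtain ⟨b, hb, hbx⟩ := x.2
  rw [smul_eq_mul, ← hbx]
  exact this _ b ν hb

/-- The kernel over `A[X]` is extended from the kernel. -/
theorem kerBC_polynomial :
    PolLaw.kerBC F.law A[X] =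
      (PolLaw.ker F.law).map (Algebra.TensorProduct.includeRight : B →ₐ[A] A[X] ⊗[A] B) := by
  refine le_antisymm (fun y hy => ?_) (map_ker_le_kerBC F _)
  let ψ : A[X] →ₐ[A] MvPolynomial PUnit.{u + 1} A := Polynomial.aeval (MvPolynomial.X PUnit.unit)
  let χ : MvPolynomial PUnit.{u + 1} A →ₐ[A] A[X] := MvPolynomial.aeval fun _ => X
  have h : χ.comp ψ = AlgHom.id A A[X] := by
    apply Polynomial.algHom_ext
    simp [ψ, χ]
  have h2 := Ideal.mem_map_of_mem (bc (B := B) χ) ((kerBC_mvPolynomial F PUnit.{u + 1}).le (bc_mem_kerBC F ψ hy))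
  rw [bc_bc, h, bc_id, Ideal.map_mapₐ] at h2
  have h3 : (bc χ).comp (Algebra.TensorProduct.includeRight : B →ₐ[A] MvPolynomial PUnit.{u + 1} A ⊗[A] B) =
      Algebra.TensorProduct.includeRight := by
    ext b; simp
  rwa [h3] at h2

/-- Elements of the kernel of a base change have `d`-th powers in the extended kernel. -/
theorem pow_mem_map_ker {A' : Type u} [CommRing A'] [Algebra A A'] {b' : A' ⊗[A] B}
    (h : b' ∈ PolLaw.kerBC F.law A') :
    b' ^ d ∈ (PolLaw.ker F.law).map (Algebra.TensorProduct.includeRight : B →ₐ[A] A' ⊗[A] B) := by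
  classical
  obtain ⟨s, v, hv⟩ := exists_sum_eq (b := (id : B → B)) (by simp) b'
  let z : MvPolynomial s A ⊗[A] B := ∑ j : s, MvPolynomial.X j ⊗ₜ[A] (j : B)
  let φ : MvPolynomial s A →ₐ[A] A' := MvPolynomial.aeval fun j => v j
  have hz : bc φ z = b' := by
    rw [hv, ← Finset.sum_coe_sort]
    simp [z, φ]
  have hc := (kerBC_mvPolynomial F _).le (ch_mem_kerBC F z)
  have h2 := Ideal.mem_map_of_mem (bc (B := B) φ) hc
  rw [bc_aeval, chi_bc, hz, chi_of_mem_kerBC F h, Ideal.map_mapₐ,
    show (bc φ).comp (Algebra.TensorProduct.includeRight : B →ₐ[A] MvPolynomial s A ⊗[A] B) =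
      Algebra.TensorProduct.includeRight by ext b; simp] at h2
  rw [map_pow, map_neg, aeval_X, neg_pow] at h2
  exact (Ideal.unit_mul_mem_iff_mem _ (isUnit_one.neg.pow d)).mp h2

theorem radical_kerBC (A' : Type u) [CommRing A'] [Algebra A A'] :
    (PolLaw.kerBC F.law A').radical =
      ((PolLaw.ker F.law).map (Algebra.TensorProduct.includeRight : B →ₐ[A] A' ⊗[A] B)).radical := by
  refine le_antisymm ?_ (Ideal.radical_mono (map_ker_le_kerBC F A'))
  rw [Ideal.radical_le_radical_iff]
  exact fun b' hb => ⟨d, pow_mem_map_ker F hb⟩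

theorem pow_mem_ch {b : B} (hb : b ∈ PolLaw.ker F.law) {I : Ideal B}
    (hI : aeval b (chi F ((1 : A) ⊗ₜ[A] b)) ∈ I) : b ∈ I.radical := by
  rw [chi_of_mem_ker F hb, map_pow, map_neg, aeval_X, neg_pow] at hI
  exact ⟨d, (Ideal.unit_mul_mem_iff_mem _ (isUnit_one.neg.pow d)).mp hI⟩

end Groth.Agent.H22Alg.PL
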