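import Mathlib
import Groth.Agent.H22Alg.MulLawPoly
import Groth.Agent.H22Alg.MulLawFlatKer
import Groth.Agent.H06Unram.TraceForm

/-!
Multiplicative laws of maximal support on finite free etale algebras.
-/

universe u

open scoped TensorProduct

namespace Groth.Agent.H22Alg.PL

open Polynomial

variable {A : Type u} [CommRing A] {B : Type u} [CommRing B] [Algebra A B] {d : ℕ}
  (F : PolLaw.MulLaw A B A d)

theorem coeff_zero_chi {S : Type u} [CommRing S] [Algebra A S] (z : S ⊗[A] B) :
    (chi F z).coeff 0 = nm F S z := by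
  rw [Polynomial.coeff_zero_eq_eval_zero, ← Polynomial.coe_aeval_eq_eval]
  show ((Polynomial.aeval (0 : S)).restrictScalars A) (chi F z) = _
  rw [chi, ← nm_bc]
  simp only [map_sub, bc_smul, map_one, bc_bc, AlgHom.restrictScalars_apply, aeval_X, zero_smul, sub_zero]
  rw [show ((Polynomial.aeval (0 : S)).restrictScalars A).comp (cst A S) = AlgHom.id A S from
    AlgHom.ext fun s => by simp, bc_id]

theorem dir_one_eq_zero_of_mem {b : B} (hb : b ∈ PolLaw.ker F.law) :
    dir F 1 ((1 : A) ⊗ₜ[A] b) = 0 := by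
  have h := (mem_ker_iff F).mp hb A[X] 1 ((X : A[X]) • 1)
  rw [dir, lineNm, map_one, bc_tmul, map_one]
  rw [smul_one_mul] at h
  rw [h, map_one]
  simp [Polynomial.coeff_one]

variable {κ : Type u} [Fintype κ] [DecidableEq κ] (e : Module.Basis κ A B)

theorem repr_bc {S S' : Type u} [CommRing S] [Algebra A S] [CommRing S'] [Algebra A S'] (φ : S →ₐ[A] S')
    (y : S ⊗[A] B) (k : κ) :
    (Algebra.TensorProduct.basis S' e).repr (bc φ y) k = φ ((Algebra.TensorProduct.basis S e).repr y k) := by
  induction y using TensorProduct.induction_on with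
  | zero => simp
  | tmul s b => simp [Algebra.TensorProduct.basis_repr_tmul]
  | add a b ha hb => simp only [map_add, Finsupp.add_apply, ha, hb]

omit [Fintype κ] [DecidableEq κ] in
/-- The ideal of coordinates of an ideal. -/
theorem repr_mem_of_mem_map {S : Type u} [CommRing S] [Algebra A S] (I : Ideal B) {J : Ideal A}
    (hJ : ∀ b ∈ I, ∀ k, e.repr b k ∈ J) {y : S ⊗[A] B}
    (hy : y ∈ I.map (Algebra.TensorProduct.includeRight : B →ₐ[A] S ⊗[A] B)) (k : κ) :
    (Algebra.TensorProduct.basis S e).repr y k ∈ J.map (algebraMap A S) := by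
  rw [Ideal.map] at hy
  obtain ⟨c, hc⟩ := (Finsupp.mem_span_iff_linearCombination _ _ _).mp hy
  rw [← hc, Finsupp.linearCombination_apply, Finsupp.sum, map_sum, Finsupp.finsetSum_apply]
  refine sum_mem fun x _ => ?_
  obtain ⟨b, hb, hbx⟩ := x.2
  rw [smul_eq_mul, ← hbx]
  generalize c x = u
  induction u using TensorProduct.induction_on with
  | zero => simp
  | tmul s a =>
    rw [Algebra.TensorProduct.includeRight_apply, Algebra.TensorProduct.tmul_mul_tmul, mul_one,
      Algebra.TensorProduct.basis_repr_tmul]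
    simp only [Finsupp.smul_apply, Finsupp.mapRange_apply, smul_eq_mul]
    exact Ideal.mul_mem_left _ _ (Ideal.mem_map_of_mem _ (hJ _ (I.mul_mem_left a hb) k))
  | add u v hu hv => rw [add_mul, map_add, Finsupp.add_apply]; exact add_mem hu hv

/-- Multiplication by a polynomial with unit content is injective. -/
theorem eq_zero_of_mul_eq_zero {σ : Type u} {p q : MvPolynomial σ A} (hpq : p * q = 0)
    (hp : ∀ (m : Ideal A) [m.IsMaximal], MvPolynomial.map (Ideal.Quotient.mk m) p ≠ 0) : q = 0 := by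
  classical
  by_contra hq
  let Q : Ideal A := Ideal.span (q.coeffs : Set A)
  have hQfg : Submodule.FG Q := ⟨q.coeffs, rfl⟩
  have hmemQ : ∀ ν, q.coeff ν ∈ Q := fun ν => by
    by_cases h : ν ∈ q.support
    · exact Ideal.subset_span (MvPolynomial.coeff_mem_coeffs ν (MvPolynomial.mem_support_iff.mp h))
    · rw [MvPolynomial.notMem_support_iff.mp h]; exact zero_mem _
  let Ann : Ideal A := Submodule.annihilator Q
  have hAnn : Ann ≠ ⊤ := fun h => hq <| MvPolynomial.ext _ _ fun ν => by
    have h1 : (1 : A) ∈ Ann := h ▸ Submodule.mem_top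
    simpa using Submodule.mem_annihilator.mp h1 _ (hmemQ ν)
  obtain ⟨m, hm, hAm⟩ := Ideal.exists_le_maximal Ann hAnn
  have hne : ¬ Q ≤ m • Q := fun h => by
    obtain ⟨r, hr, hr'⟩ := Submodule.exists_sub_one_mem_and_smul_eq_zero_of_fg_of_le_smul m Q hQfg h
    have : r ∈ m := hAm (Submodule.mem_annihilator.mpr hr')
    exact hm.ne_top ((Ideal.eq_top_iff_one _).mpr (by simpa using sub_mem this hr))
  letI : Field (A ⧸ m) := Ideal.Quotient.field m
  let W := Q ⧸ (m • ⊤ : Submodule A Q)
  letI : Module (A ⧸ m) W :=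
    (Module.IsTorsionBySet.module (I := m) fun w r => by
      obtain ⟨w, rfl⟩ := Submodule.mkQ_surjective _ w
      rw [← map_smul, Submodule.mkQ_apply, Submodule.Quotient.mk_eq_zero]
      exact Submodule.smul_mem_smul r.2 Submodule.mem_top)
  haveI : IsScalarTower A (A ⧸ m) W := ⟨fun a r w => by
    obtain ⟨r, rfl⟩ := Ideal.Quotient.mk_surjective r
    show Ideal.Quotient.mk m (a * r) • w = a • Ideal.Quotient.mk m r • w
    exact mul_smul a r w⟩
  obtain ⟨ν, hν⟩ : ∃ ν, Submodule.Quotient.mk (p := (m • ⊤ : Submodule A Q)) ⟨q.coeff ν, hmemQ ν⟩ ≠ 0 := by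
    by_contra hc
    push Not at hc
    refine hne (Ideal.span_le.mpr fun c hcq => ?_)
    obtain ⟨ν, -, rfl⟩ := MvPolynomial.mem_coeffs_iff.mp hcq
    have h := (Submodule.Quotient.mk_eq_zero _).mp (hc ν)
    exact (Submodule.mem_smul_top_iff _ _ _).mp h
  set w₀ : W := Submodule.Quotient.mk ⟨q.coeff ν, hmemQ ν⟩
  obtain ⟨l, hl⟩ : ∃ l : Module.Dual (A ⧸ m) W, l w₀ ≠ 0 := by
    by_contra hc
    push Not at hc
    exact hν ((Module.forall_dual_apply_eq_zero_iff _ _).mp hc)
  let Λ : Q →ₗ[A] A ⧸ m := (l.restrictScalars A).comp (Submodule.mkQ _)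
  let r : MvPolynomial σ (A ⧸ m) := ∑ μ ∈ q.support, MvPolynomial.monomial μ (Λ ⟨q.coeff μ, hmemQ μ⟩)
  have hr : ∀ μ, r.coeff μ = Λ ⟨q.coeff μ, hmemQ μ⟩ := fun μ => by
    simp only [r, MvPolynomial.coeff_sum, MvPolynomial.coeff_monomial]
    rw [Finset.sum_ite_eq']
    split_ifs with h
    · rfl
    · have : (⟨q.coeff μ, hmemQ μ⟩ : Q) = 0 := Subtype.ext (MvPolynomial.notMem_support_iff.mp h)
      rw [this, map_zero]
  have hmul : MvPolynomial.map (Ideal.Quotient.mk m) p * r = 0 := by
    refine MvPolynomial.ext _ _ fun τ => ?_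
    rw [MvPolynomial.coeff_mul, MvPolynomial.coeff_zero]
    have h0 : (∑ x ∈ Finset.HasAntidiagonal.antidiagonal τ, p.coeff x.1 • (⟨q.coeff x.2, hmemQ x.2⟩ : Q)) = 0 := by
      apply Subtype.ext
      push_cast
      simpa [MvPolynomial.coeff_mul] using congrArg (MvPolynomial.coeff τ) hpq
    have h1 := congrArg Λ h0
    rw [map_sum, map_zero] at h1
    rw [← h1]
    refine Finset.sum_congr rfl fun x _ => ?_
    rw [MvPolynomial.coeff_map, hr, map_smul, Algebra.smul_def]
    rfl
  rcases mul_eq_zero.mp hmul with h | h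
  · exact hp m h
  · have := hr ν
    rw [h, MvPolynomial.coeff_zero] at this
    exact hl this.symm

variable (N : PolLaw.MulLaw A B A d)

include e in
theorem dir_one_eq_trace
    (hN : ∀ (S : Type u) [CommRing S] [Algebra A S] (x : S ⊗[A] B), nm N S x = Algebra.norm S x) (b : B) :
    dir N 1 ((1 : A) ⊗ₜ[A] b) = Algebra.trace A B b := by
  rw [Algebra.trace_eq_matrix_trace e, ← Matrix.coeff_det_one_add_X_smul_one, dir, lineNm, hN,
    Algebra.norm_eq_matrix_det (Algebra.TensorProduct.basis A[X] e), map_one, bc_tmul, map_one, map_add,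
    map_smul, map_one]
  congr 3
  rw [show Algebra.leftMulMatrix (Algebra.TensorProduct.basis A[X] e) ((1 : A[X]) ⊗ₜ[A] b) =
    (Algebra.leftMulMatrix e b).map C by
      ext i j : 1
      simp [Algebra.leftMulMatrix_eq_repr_mul, Algebra.TensorProduct.basis_repr_tmul]]

theorem exists_eval_basis [Algebra.Etale A B] (f : κ ≃ Fin d) (m : Ideal A) [m.IsMaximal] :
    let R := MvPolynomial κ A
    let z : R ⊗[A] B := ∑ j, MvPolynomial.X j ⊗ₜ[A] e j
    let M : Matrix κ κ R := fun k j => (Algebra.TensorProduct.basis R e).repr (z ^ (f j : ℕ)) k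
    MvPolynomial.map (Ideal.Quotient.mk m) M.det ≠ 0 := by
  intro R z M h0
  letI := Ideal.Quotient.field m
  let K := AlgebraicClosure (A ⧸ m)
  have : Algebra.Etale K (K ⊗[A] B) := inferInstance
  let bK := Algebra.TensorProduct.basis K e
  have : Module.Finite A B := Module.Finite.of_basis e
  let E : K ⊗[A] B ≃ₐ[K] (PrimeSpectrum (K ⊗[A] B) → K) := Algebra.FormallyEtale.equivPiOfIsSepClosed K _
  haveI : IsArtinianRing (K ⊗[A] B) := isArtinian_of_tower K inferInstance
  have := Fintype.ofFinite (PrimeSpectrum (K ⊗[A] B))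
  have hcard : Fintype.card (PrimeSpectrum (K ⊗[A] B)) = Fintype.card κ := by
    rw [← Module.finrank_fintype_fun_eq_card K, ← E.toLinearEquiv.finrank_eq,
      Module.finrank_eq_card_basis bK]
  let g : PrimeSpectrum (K ⊗[A] B) ≃ κ := Fintype.equivOfCardEq hcard
  let α : κ → K := fun k => Infinite.natEmbedding K (f k : ℕ)
  have hα : Function.Injective (α ∘ f.symm) := fun a b h => by
    have h' := (Infinite.natEmbedding K).injective h
    simpa using Fin.ext h'
  let x : K ⊗[A] B := E.symm (fun l => α (g l))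
  let ψ : R →ₐ[A] K := MvPolynomial.aeval fun k => bK.repr x k
  have hψz : bc ψ z = x := by
    conv_rhs => rw [← bK.sum_repr x]
    simp [z, ψ, bK, TensorProduct.smul_tmul']
    exact Finset.sum_congr rfl fun k _ => congrArg (· ⊗ₜ[A] e k) (MvPolynomial.aeval_X _ _)
  have hdet : ψ M.det = 0 := by
    let ψ' : MvPolynomial κ (A ⧸ m) →+* K := MvPolynomial.eval₂Hom (algebraMap (A ⧸ m) K) fun k => bK.repr x k
    have hψ' : ∀ P : R, ψ P = ψ' (MvPolynomial.map (Ideal.Quotient.mk m) P) := fun P => by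
      rw [MvPolynomial.coe_eval₂Hom, MvPolynomial.eval₂_map, MvPolynomial.aeval_def]
      rfl
    rw [hψ', h0, map_zero]
  let Ek : Matrix (Fin d) (Fin d) K := fun l k => E (bK (f.symm k)) (g.symm (f.symm l))
  have key : Ek * ((M.map ψ).submatrix f.symm f.symm) = Matrix.vandermonde (α ∘ f.symm) := by
    ext l j
    have h1 := congrArg (fun y => E y (g.symm (f.symm l))) (bK.sum_repr (x ^ (j : ℕ)))
    simp only [map_sum, map_smul, Finset.sum_apply, Pi.smul_apply, smul_eq_mul, map_pow, Pi.pow_apply, x,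
      AlgEquiv.apply_symm_apply, Equiv.apply_symm_apply] at h1
    rw [Matrix.mul_apply, Matrix.vandermonde_apply, ← f.sum_comp]
    refine Eq.trans ?_ h1
    refine Finset.sum_congr rfl fun k _ => ?_
    simp only [Ek, Matrix.submatrix_apply, Equiv.symm_apply_apply]
    show E (bK k) (g.symm (f.symm l)) * ψ ((Algebra.TensorProduct.basis R e).repr (z ^ (f (f.symm j) : ℕ)) k) = _
    rw [Equiv.apply_symm_apply]
    rw [← repr_bc e ψ, map_pow, hψz, mul_comm]
  have h2 := congrArg Matrix.det key
  rw [Matrix.det_mul, Matrix.det_submatrix_equiv_self, ← AlgHom.mapMatrix_apply, ← AlgHom.map_det, hdet,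
    mul_zero, eq_comm, Matrix.det_vandermonde_eq_zero_iff] at h2
  obtain ⟨i, j, hij, hne⟩ := h2
  exact hne (hα hij)

/-- The two laws agree modulo the coordinates of the kernel of the first. -/
theorem nm_sub_mem [Algebra.Etale A B] (f : κ ≃ Fin d) (hker : PolLaw.ker N.law = ⊥) {J : Ideal A}
    (hJ : ∀ b ∈ PolLaw.ker F.law, ∀ k, e.repr b k ∈ J)
    (S : Type u) [CommRing S] [Algebra A S] (x : S ⊗[A] B) :
    nm F S x - nm N S x ∈ J.map (algebraMap A S) := by
  let R := MvPolynomial κ A
  let bR := Algebra.TensorProduct.basis R e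
  let z : R ⊗[A] B := ∑ j, MvPolynomial.X j ⊗ₜ[A] e j
  let M : Matrix κ κ R := fun k j => bR.repr (z ^ (f j : ℕ)) k
  let q := chi F z - chi N z
  have hq : ∀ k, d ≤ k → q.coeff k = 0 := fun k hk => by
    rcases hk.eq_or_lt with rfl | hk
    · simp [q, coeff_chi_top]
    · simp [q, coeff_chi_gt _ _ hk]
  have hqz : aeval z q ∈ (PolLaw.ker F.law).map (Algebra.TensorProduct.includeRight : B →ₐ[A] R ⊗[A] B) := by
    have h1 := (kerBC_mvPolynomial F κ).le (ch_mem_kerBC F z)
    have h2 := (kerBC_mvPolynomial N κ).le (ch_mem_kerBC N z)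
    rw [hker, Ideal.map_bot, Ideal.mem_bot] at h2
    simpa [q, h2] using h1
  have hexp : aeval z q = ∑ j, q.coeff (f j : ℕ) • z ^ (f j : ℕ) := by
    rw [f.sum_comp (fun i : Fin d => q.coeff (i : ℕ) • z ^ (i : ℕ)),
      Fin.sum_univ_eq_sum_range (fun i => q.coeff i • z ^ i)]
    by_cases hq0 : q = 0
    · simp [hq0]
    refine aeval_eq_sum_range' ?_ z
    by_contra hlt
    exact hq0 (leadingCoeff_eq_zero.mp (hq _ (not_lt.mp hlt)))
  have hMq : ∀ k, M.mulVec (fun j => q.coeff (f j : ℕ)) k ∈ J.map (algebraMap A R) := fun k => by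
    have h := repr_mem_of_mem_map e _ hJ hqz k
    rw [hexp, map_sum, Finsupp.finsetSum_apply] at h
    convert h using 1
    refine Finset.sum_congr rfl fun j _ => ?_
    simp [M, bR, mul_comm]
  have hdet : ∀ j, M.det * q.coeff (f j : ℕ) ∈ J.map (algebraMap A R) := fun j => by
    have h : M.det * q.coeff (f j : ℕ) = M.adjugate.mulVec (M.mulVec fun j => q.coeff (f j : ℕ)) j := by
      rw [Matrix.mulVec_mulVec, Matrix.adjugate_mul, Matrix.smul_mulVec, Matrix.one_mulVec]
      rfl
    rw [h]
    exact sum_mem fun k _ => Ideal.mul_mem_left _ _ (hMq k)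
  have h0 : q.coeff 0 ∈ J.map (algebraMap A R) := by
    rcases Nat.eq_zero_or_pos d with hd | hd
    · rw [hq 0 hd.le]; exact zero_mem _
    obtain ⟨j, hj⟩ := f.surjective ⟨0, hd⟩
    have h := hdet j
    rw [hj] at h
    have hkerm : RingHom.ker (MvPolynomial.map (Ideal.Quotient.mk J) : R →+* _) = J.map (algebraMap A R) := by
      rw [MvPolynomial.ker_map, Ideal.mk_ker]
      rfl
    rw [← hkerm, RingHom.mem_ker] at h ⊢
    rw [map_mul] at h
    refine eq_zero_of_mul_eq_zero h fun m' hm' => ?_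
    have : (m'.comap (Ideal.Quotient.mk J)).IsMaximal :=
      Ideal.comap_isMaximal_of_surjective _ Ideal.Quotient.mk_surjective
    intro hzero
    apply exists_eval_basis e f (m'.comap (Ideal.Quotient.mk J))
    let ι : A ⧸ m'.comap (Ideal.Quotient.mk J) →+* (A ⧸ J) ⧸ m' := Ideal.quotientMap m' (Ideal.Quotient.mk J) le_rfl
    apply MvPolynomial.map_injective ι (Ideal.quotientMap_injective)
    rw [MvPolynomial.map_map, map_zero, Ideal.quotientMap_comp_mk, ← MvPolynomial.map_map]
    exact hzero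
  let ψ : R →ₐ[A] S := MvPolynomial.aeval fun k => (Algebra.TensorProduct.basis S e).repr x k
  have hψz : bc ψ z = x := by
    conv_rhs => rw [← (Algebra.TensorProduct.basis S e).sum_repr x]
    simp [z, ψ, TensorProduct.smul_tmul']
    exact Finset.sum_congr rfl fun k _ => congrArg (· ⊗ₜ[A] e k) (MvPolynomial.aeval_X _ _)
  rw [← hψz, nm_bc, nm_bc, ← map_sub, ← coeff_zero_chi F, ← coeff_zero_chi N, ← Polynomial.coeff_sub]
  have := Ideal.mem_map_of_mem ψ.toRingHom h0
  rw [Ideal.map_map] at this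
  rwa [show ψ.toRingHom.comp (algebraMap A R) = algebraMap A S from ψ.comp_algebraMap] at this

include e in
/-- On a finite free etale algebra the norm is the only law of degree the rank whose kernel is nil. -/
theorem eq_norm_of_ker_le_nilradical [Algebra.Etale A B] (f : κ ≃ Fin d)
    (hN : ∀ (S : Type u) [CommRing S] [Algebra A S] (x : S ⊗[A] B), nm N S x = Algebra.norm S x) :
    PolLaw.ker N.law = ⊥ ∧ (PolLaw.ker F.law ≤ nilradical B → F = N) := by
  have : Module.Finite A B := Module.Finite.of_basis e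
  have : Module.Free A B := Module.Free.of_basis e
  have hperf := H06Unram.bijective_traceForm_of_formallyUnramified (A := A) (B := B)
  have htr : ∀ b, (∀ w, Algebra.trace A B (w * b) = 0) → b = 0 := fun b hb => by
    apply hperf.1
    refine LinearMap.ext fun w => ?_
    rw [Algebra.traceForm_apply, mul_comm, hb, map_zero, LinearMap.zero_apply]
  have hkerN : PolLaw.ker N.law = ⊥ := (eq_bot_iff).mpr fun b hb => (Submodule.mem_bot B).mpr <|
    htr b fun w => by
      rw [← dir_one_eq_trace e N hN]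
      exact dir_one_eq_zero_of_mem N (Ideal.mul_mem_left _ w hb)
  refine ⟨hkerN, fun hnil => ?_⟩
  let J : Ideal A := Ideal.span {a | ∃ b ∈ PolLaw.ker F.law, ∃ k, e.repr b k = a}
  have hJ : ∀ b ∈ PolLaw.ker F.law, ∀ k, e.repr b k ∈ J := fun b hb k => Ideal.subset_span ⟨b, hb, k, rfl⟩
  have hdual : ∀ k, ∃ u, ∀ c, Algebra.trace A B (u * c) = e.repr c k := fun k => by
    obtain ⟨u, hu⟩ := hperf.2 (e.coord k)
    exact ⟨u, fun c => LinearMap.congr_fun hu c⟩
  choose u hu using hdual
  have hJnil : J ≤ nilradical A := Ideal.span_le.mpr fun a ⟨b, hb, k, ha⟩ => by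
    subst ha
    rw [SetLike.mem_coe, mem_nilradical, ← hu k]
    exact Algebra.isNilpotent_trace_of_isNilpotent
      (mem_nilradical.mp ((nilradical B).mul_mem_left _ (hnil hb)))
  let D : B →ₗ[A] A :=
    { toFun := fun c => Algebra.trace A B c - dir F 1 ((1 : A) ⊗ₜ[A] c)
      map_add' := fun a b => by rw [map_add, TensorProduct.tmul_add, dir_add]; ring
      map_smul' := fun r b => by
        rw [map_smul, TensorProduct.tmul_smul, dir_smul, smul_eq_mul, RingHom.id_apply, smul_eq_mul]; ring }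
  have hD : ∀ c, D c ∈ J := fun c => by
    have h := nm_sub_mem F e N f hkerN hJ A[X] (1 + (X : A[X]) • ((1 : A[X]) ⊗ₜ[A] c))
    rw [Polynomial.algebraMap_eq, Ideal.mem_map_C_iff] at h
    have := h 1
    rw [Polynomial.coeff_sub] at this
    rw [show D c = dir N 1 ((1 : A) ⊗ₜ[A] c) - dir F 1 ((1 : A) ⊗ₜ[A] c) by
      rw [dir_one_eq_trace e N hN]; rfl]
    rw [dir, dir, lineNm, lineNm, map_one, bc_tmul, map_one]
    have h2 := neg_mem this
    rwa [neg_sub] at h2
  have hbot : PolLaw.ker F.law = ⊥ := (eq_bot_iff).mpr fun b hb => (Submodule.mem_bot B).mpr <| by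
    let Q : Ideal A := Ideal.span (Set.range fun p : κ × κ => e.repr (e p.1 * b) p.2)
    have hQ : Q = ⊥ := by
      refine Submodule.eq_bot_of_le_smul_of_le_jacobson_bot J Q
        ((Submodule.fg_iff_exists_fin_generating_family).mpr ?_) (Ideal.span_le.mpr ?_)
        (hJnil.trans ((nilradical_le_jacobson A).trans_eq (Ideal.jacobson_bot).symm))
      · exact Submodule.fg_iff_exists_fin_generating_family.mp ⟨(Set.finite_range _).toFinset, by simp; rfl⟩
      · rintro _ ⟨⟨i, k⟩, rfl⟩
        show e.repr (e i * b) k ∈ J • Q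
        rw [← hu k, ← mul_assoc]
        set w := u k * e i
        rw [← e.sum_repr w, Finset.sum_mul, map_sum]
        refine sum_mem fun l _ => ?_
        rw [smul_mul_assoc, map_smul]
        refine Submodule.smul_mem _ _ ?_
        have h0 : Algebra.trace A B (e l * b) = D (e l * b) := by
          show Algebra.trace A B (e l * b) = Algebra.trace A B (e l * b) - dir F 1 ((1 : A) ⊗ₜ[A] (e l * b))
          rw [dir_one_eq_zero_of_mem F (Ideal.mul_mem_left _ _ hb), sub_zero]
        rw [h0, ← e.sum_repr (e l * b), map_sum]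
        refine sum_mem fun m _ => ?_
        rw [map_smul, smul_eq_mul, smul_eq_mul, mul_comm (e.repr (e l * b) m)]
        exact Ideal.mul_mem_mul (hD _) (Ideal.subset_span ⟨(l, m), rfl⟩)
    rw [← one_mul b, ← e.sum_repr 1, Finset.sum_mul]
    refine Finset.sum_eq_zero fun i _ => ?_
    have h0 : e i * b = 0 := e.ext_elem fun k => by
      have : e.repr (e i * b) k ∈ Q := Ideal.subset_span ⟨(i, k), rfl⟩
      rw [hQ, Ideal.mem_bot] at this
      simpa using this
    rw [smul_mul_assoc, h0, smul_zero]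
  have hJ0 : J = ⊥ := Ideal.span_eq_bot.mpr fun a ⟨b, hb, k, ha⟩ => by
    rw [hbot, Ideal.mem_bot] at hb
    simp [← ha, hb]
  refine PolLaw.MulLaw.ext ?_
  apply PolynomialLaw.ext
  funext S i _ x
  letI : CommRing S := { Algebra.semiringToRing A, i with }
  have h := nm_sub_mem F e N f hkerN hJ S x
  rw [hJ0, Ideal.map_bot, Ideal.mem_bot, sub_eq_zero] at h
  exact (Algebra.TensorProduct.rid A S S).injective h

end Groth.Agent.H22Alg.PL
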