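import Mathlib
import Groth.Agent.H22Alg.MulLawPoly

/-!
The image of a multiplicative law over its base: bound on the geometric points in a fibre, and the
image of a basic open subset.
-/

universe u

open scoped TensorProduct

namespace Groth.Agent.H22Alg.PL

open Polynomial

variable {A : Type u} [CommRing A] {B : Type u} [CommRing B] [Algebra A B] {d : ℕ}
  (F : PolLaw.MulLaw A B A d)

theorem finite_and_card_le {T : Type*} (h : ∀ m : ℕ, (Fin m ↪ T) → m ≤ d) :
    Finite T ∧ Nat.card T ≤ d := by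
  have hfin : Finite T := by
    by_contra hc
    have : Infinite T := not_finite_iff_infinite.mp hc
    have := h (d + 1) (Fin.valEmbedding.trans (Infinite.natEmbedding T))
    omega
  have := Fintype.ofFinite T
  refine ⟨hfin, ?_⟩
  rw [Nat.card_eq_fintype_card]
  exact h _ (Fintype.equivFin T).symm.toEmbedding

/-- At most `d` homomorphisms to a domain kill the kernel. -/
theorem card_le_of_algHom {D : Type u} [CommRing D] [IsDomain D] [Algebra A D] {m : ℕ}
    (ψ : Fin m → (B →ₐ[A] D)) (hψ : Function.Injective ψ)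
    (hk : ∀ i, ∀ b ∈ PolLaw.ker F.law, ψ i b = 0) : m ≤ d := by
  classical
  let σ := ULift.{u} (Fin m × Fin m)
  let b : σ → B := fun p => if h : ∃ b, ψ p.down.1 b ≠ ψ p.down.2 b then h.choose else 0
  let z : MvPolynomial σ A ⊗[A] B := ∑ p, MvPolynomial.X p ⊗ₜ[A] b p
  let j : MvPolynomial σ A →ₐ[A] MvPolynomial σ D :=
    MvPolynomial.aeval fun p => (MvPolynomial.X p : MvPolynomial σ D)
  let Θ : Fin m → (MvPolynomial σ A ⊗[A] B →ₐ[A] MvPolynomial σ D) := fun i =>
    pr j (((Algebra.ofId D (MvPolynomial σ D)).restrictScalars A).comp (ψ i))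
  let r : Fin m → MvPolynomial σ D := fun i => Θ i z
  have hr : ∀ i, r i = ∑ p, MvPolynomial.X p * MvPolynomial.C (ψ i (b p)) := fun i => by
    simp [r, Θ, z, j]
  have hcoeff : ∀ i (p : σ), (r i).coeff (Finsupp.single p 1) = ψ i (b p) := fun i p => by
    rw [hr, MvPolynomial.coeff_sum, Finset.sum_eq_single p]
    · rw [mul_comm, MvPolynomial.coeff_C_mul, MvPolynomial.coeff_X', if_pos rfl, mul_one]
    · intro q _ hq
      rw [mul_comm, MvPolynomial.coeff_C_mul, MvPolynomial.coeff_X', if_neg, mul_zero]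
      simpa [Finsupp.single_left_inj one_ne_zero] using hq
    · simp
  have hinj : Function.Injective r := by
    intro i k hik
    by_contra hne
    have hex : ∃ c, ψ i c ≠ ψ k c := by
      by_contra hc
      push_neg at hc
      exact hne (hψ (AlgHom.ext hc))
    have h1 := hcoeff i ⟨(i, k)⟩
    have h2 := hcoeff k ⟨(i, k)⟩
    rw [hik, h2] at h1
    have hb : b ⟨(i, k)⟩ = hex.choose := dif_pos hex
    rw [hb] at h1
    exact hex.choose_spec h1.symm
  let g : (MvPolynomial σ D)[X] := (chi F z).map j.toRingHom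
  have hroot : ∀ i, g.eval (r i) = 0 := by
    intro i
    have h1 : Θ i (aeval z (chi F z)) = g.eval (r i) := by
      rw [Polynomial.aeval_def, ← Polynomial.eval₂_eq_eval_map]
      refine (Polynomial.hom_eval₂ _ (algebraMap (MvPolynomial σ A) _) (Θ i).toRingHom z).trans ?_
      congr 1
      refine RingHom.ext fun p => ?_
      show Θ i (p ⊗ₜ 1) = j p
      simp [Θ]
    rw [← h1]
    have hc := (kerBC_mvPolynomial F σ).le (ch_mem_kerBC F z)
    refine (Ideal.map_le_iff_le_comap.mpr ?_ : Ideal.map _ (PolLaw.ker F.law) ≤ RingHom.ker (Θ i).toRingHom) hc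
    intro c hc
    show Θ i (1 ⊗ₜ c) = 0
    simp [Θ, hk i c hc]
  have hdeg : g.natDegree ≤ d := natDegree_map_le.trans (natDegree_chi_le F z)
  have hg : g ≠ 0 := by
    intro h0
    have := congrArg (fun p => p.coeff d) h0
    simp only [g, coeff_map, coeff_chi_top, coeff_zero, map_pow, map_neg, map_one] at this
    exact (isUnit_one.neg.pow d).ne_zero this
  have := Polynomial.card_le_degree_of_subset_roots (p := g) (Z := Finset.univ.image r) fun x hx => by
    simp only [Finset.image_val, Multiset.mem_dedup, Multiset.mem_map] at hx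
    obtain ⟨i, -, rfl⟩ := hx
    exact (mem_roots hg).mpr (hroot i)
  rw [Finset.card_image_of_injective _ hinj, Finset.card_fin] at this
  exact this.trans hdeg

/-- The points of the image with values in a domain: at most `d`. -/
theorem finite_algHom_image (D : Type u) [CommRing D] [IsDomain D] [Algebra A D] :
    Finite (PolLaw.image F.law →ₐ[A] D) ∧ Nat.card (PolLaw.image F.law →ₐ[A] D) ≤ d := by
  refine finite_and_card_le fun m e => card_le_of_algHom F
    (fun i => (e i).comp (Ideal.Quotient.mkₐ A (PolLaw.ker F.law))) (fun i k h => e.injective ?_)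
    fun i b hb => ?_
  · refine Ideal.Quotient.algHom_ext _ ?_
    exact h
  · show e i (Ideal.Quotient.mk _ b) = 0
    rw [Ideal.Quotient.eq_zero_iff_mem.mpr hb, map_zero]

/-- Primes of an integral algebra over a field are kernels of points in an algebraic closure. -/
theorem exists_algHom_ker {K : Type u} [Field K] {R : Type u} [CommRing R] [Algebra K R]
    [Algebra.IsIntegral K R] (P : PrimeSpectrum R) :
    ∃ f : R →ₐ[K] AlgebraicClosure K, RingHom.ker f = P.asIdeal := by
  have hint : Algebra.IsIntegral K (R ⧸ P.asIdeal) :=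
    Algebra.IsIntegral.of_surjective (Ideal.Quotient.mkₐ K P.asIdeal) Ideal.Quotient.mk_surjective
  have hF : IsField (R ⧸ P.asIdeal) := isField_of_isIntegral_of_isField' (Field.toIsField K)
  letI := hF.toField
  have : Algebra.IsAlgebraic K (R ⧸ P.asIdeal) := Algebra.IsIntegral.isAlgebraic
  let g : (R ⧸ P.asIdeal) →ₐ[K] AlgebraicClosure K := IsAlgClosed.lift
  refine ⟨g.comp (Ideal.Quotient.mkₐ K P.asIdeal), ?_⟩
  ext x
  rw [RingHom.mem_ker, AlgHom.comp_apply, map_eq_zero_iff g g.toRingHom.injective]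
  exact Ideal.Quotient.eq_zero_iff_mem

/-- A fibre of the image has at most `d` points. -/
theorem finite_primeSpectrum_fibre (K : Type u) [Field K] [Algebra A K]
    [Algebra.IsIntegral A (PolLaw.image F.law)] :
    Finite (PrimeSpectrum (K ⊗[A] PolLaw.image F.law)) ∧
      Nat.card (PrimeSpectrum (K ⊗[A] PolLaw.image F.law)) ≤ d := by
  obtain ⟨hfin, hcard⟩ := finite_algHom_image F (AlgebraicClosure K)
  choose f hf using fun P : PrimeSpectrum (K ⊗[A] PolLaw.image F.law) => exists_algHom_ker (K := K) P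
  let r := fun P => ((f P).restrictScalars A).comp
    (Algebra.TensorProduct.includeRight : PolLaw.image F.law →ₐ[A] K ⊗[A] PolLaw.image F.law)
  have hr : Function.Injective r := by
    intro P Q h
    have : f P = f Q := by
      refine Algebra.TensorProduct.ext (AlgHom.ext fun k => ?_) h
      show f P (k ⊗ₜ 1) = f Q (k ⊗ₜ 1)
      exact ((f P).commutes k).trans ((f Q).commutes k).symm
    exact PrimeSpectrum.ext (by rw [← hf P, ← hf Q, this])
  exact ⟨Finite.of_injective r hr, (Nat.card_le_card_of_injective r hr).trans hcard⟩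

theorem isIntegral_image : Algebra.IsIntegral A (PolLaw.image F.law) := by
  refine ⟨fun q => ?_⟩
  obtain ⟨b, rfl⟩ := Ideal.Quotient.mk_surjective q
  refine ⟨_, monic_chi F ((1 : A) ⊗ₜ[A] b), ?_⟩
  show Polynomial.aeval (Ideal.Quotient.mk (PolLaw.ker F.law) b) _ = 0
  rw [map_mul, ← Ideal.Quotient.mkₐ_eq_mk A (PolLaw.ker F.law),
    Polynomial.aeval_algHom_apply (Ideal.Quotient.mkₐ A (PolLaw.ker F.law)) b (chi F _),
    Ideal.Quotient.mkₐ_eq_mk, Ideal.Quotient.eq_zero_iff_mem.mpr (ch_mem_ker F b), mul_zero]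

theorem coeff_neg_X_pow {S : Type u} [CommRing S] {k : ℕ} (hk : k ≠ d) : ((-X : S[X]) ^ d).coeff k = 0 := by
  rw [neg_pow, ← C_1, ← C_neg, ← C_pow, coeff_C_mul, coeff_X_pow, if_neg hk, mul_zero]

theorem coeff_neg_X_pow_self {S : Type u} [CommRing S] : ((-X : S[X]) ^ d).coeff d = (-1) ^ d := by
  rw [neg_pow, ← C_1, ← C_neg, ← C_pow, coeff_C_mul, coeff_X_pow, if_pos rfl, mul_one]

set_option maxHeartbeats 800000 in
/-- Over a domain, an element with a power in the kernel has characteristic polynomial `(-X)^d`. -/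
theorem chi_of_pow_mem {S : Type u} [CommRing S] [IsDomain S] [Algebra A S] {z : S ⊗[A] B} {n : ℕ}
    (hn : n ≠ 0) (hz : z ^ n ∈ PolLaw.kerBC F.law S) : chi F z = (-X) ^ d := by
  have hdvd : chi F z ∣ nm F S[X] ((bc (cst A S) z) ^ n - ((X : S[X]) • 1) ^ n) :=
    by
      obtain ⟨c, hc⟩ := sub_dvd_pow_sub_pow (bc (cst A S) z) ((X : S[X]) • (1 : S[X] ⊗[A] B)) n
      exact ⟨nm F S[X] c, by rw [chi, ← map_mul, ← hc]⟩
  have h := (mem_kerBC_iff F).mp hz S[X] (cst A S) (-((X : S[X]) ^ n) • 1) 1
  rw [one_mul, neg_smul, ← sub_eq_neg_add] at h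
  rw [← map_pow, _root_.smul_pow, one_pow, h, ← neg_smul, nm_smul_one, neg_pow, ← pow_mul] at hdvd
  rw [(isUnit_one.neg.pow d).dvd_mul_left] at hdvd
  obtain ⟨i, -, hi⟩ := (dvd_prime_pow Polynomial.prime_X _).mp hdvd
  obtain ⟨u, hu⟩ := hi.symm
  obtain ⟨c, hc, hcu⟩ := Polynomial.isUnit_iff.mp u.isUnit
  rw [← hcu] at hu
  have hid : i = d := by
    have hdeg := natDegree_chi F z
    rw [← hu, natDegree_mul (pow_ne_zero _ X_ne_zero) (C_ne_zero.mpr hc.ne_zero), natDegree_X_pow,
      natDegree_C, add_zero] at hdeg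
    exact hdeg
  have hcoef := coeff_chi_top F z
  rw [← hu, hid, coeff_X_pow_mul', if_pos le_rfl, Nat.sub_self, coeff_C_zero] at hcoef
  rw [← hu, hid, hcoef, map_pow, map_neg, map_one, mul_comm, ← mul_pow, neg_one_mul]

/-- The algebra map to the base change of the image. -/
noncomputable def toImage (S : Type u) [CommRing S] [Algebra A S] :
    S ⊗[A] B →ₐ[A] S ⊗[A] PolLaw.image F.law :=
  Algebra.TensorProduct.map (AlgHom.id A S) (Ideal.Quotient.mkₐ A (PolLaw.ker F.law))

theorem toImage_surjective (S : Type u) [CommRing S] [Algebra A S] : Function.Surjective (toImage F S) :=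
  TensorProduct.map_surjective (fun s => ⟨s, rfl⟩) Ideal.Quotient.mk_surjective

theorem ker_toImage (S : Type u) [CommRing S] [Algebra A S] :
    RingHom.ker (toImage F S) =
      (PolLaw.ker F.law).map (Algebra.TensorProduct.includeRight : B →ₐ[A] S ⊗[A] B) := by
  have h : RingHom.ker (Ideal.Quotient.mkₐ A (PolLaw.ker F.law)) = PolLaw.ker F.law :=
    Ideal.Quotient.mkₐ_ker A (PolLaw.ker F.law)
  conv_rhs => rw [← h]
  exact Algebra.TensorProduct.lTensor_ker _ Ideal.Quotient.mk_surjective

theorem mem_of_eval₂_mem {S R : Type u} [CommRing S] [CommRing R] (f : S →+* R) (P : Ideal R) [P.IsPrime]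
    (x : R) (p : S[X]) {d : ℕ} (hdeg : p.natDegree ≤ d) (htop : IsUnit (p.coeff d))
    (hlow : ∀ k < d, f (p.coeff k) ∈ P) (h : p.eval₂ f x ∈ P) : x ∈ P := by
  rw [Polynomial.eval₂_eq_sum_range' f (Nat.lt_succ_of_le hdeg), Finset.sum_range_succ] at h
  have hs : ∑ k ∈ Finset.range d, f (p.coeff k) * x ^ k ∈ P :=
    Submodule.sum_mem _ fun k hk => P.mul_mem_right _ (hlow k (Finset.mem_range.mp hk))
  have := (Submodule.add_mem_iff_right _ hs).mp h
  exact ‹P.IsPrime›.mem_of_pow_mem d ((Ideal.unit_mul_mem_iff_mem _ (htop.map f)).mp this)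

theorem toImage_algebraMap {S : Type u} [CommRing S] [Algebra A S] (s : S) :
    toImage F S (algebraMap S (S ⊗[A] B) s) = algebraMap S (S ⊗[A] PolLaw.image F.law) s := by
  show toImage F S (s ⊗ₜ 1) = s ⊗ₜ 1
  simp [toImage]

theorem toImage_aeval {S : Type u} [CommRing S] [Algebra A S] (z : S ⊗[A] B) (p : S[X]) :
    toImage F S (aeval z p) = p.eval₂ (algebraMap S (S ⊗[A] PolLaw.image F.law)) (toImage F S z) := by
  rw [Polynomial.aeval_def]
  refine (Polynomial.hom_eval₂ p _ (toImage F S).toRingHom z).trans ?_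
  exact congrArg (fun f => p.eval₂ f (toImage F S z)) (RingHom.ext (toImage_algebraMap F))

/-- The image of a basic open subset of the base-changed image. -/
theorem exists_prime_notMem_iff {S : Type u} [CommRing S] [Algebra A S] (z : S ⊗[A] B) (q : PrimeSpectrum S) :
    (∃ P : PrimeSpectrum (S ⊗[A] PolLaw.image F.law),
      PrimeSpectrum.comap (algebraMap S _) P = q ∧ toImage F S z ∉ P.asIdeal) ↔
      ∃ k < d, (chi F z).coeff k ∉ q.asIdeal := by
  constructor
  · rintro ⟨P, rfl, hP⟩
    by_contra hcon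
    push_neg at hcon
    refine hP (mem_of_eval₂_mem (algebraMap S (S ⊗[A] PolLaw.image F.law)) P.asIdeal (toImage F S z)
      (chi F z) (natDegree_chi_le F z) ?_ hcon ?_)
    · rw [coeff_chi_top]
      exact isUnit_one.neg.pow d
    · have h1 := pow_mem_map_ker F (ch_mem_kerBC F z)
      rw [← ker_toImage, RingHom.mem_ker, map_pow] at h1
      have h2 : toImage F S (aeval z (chi F z)) ∈ P.asIdeal :=
        P.isPrime.mem_of_pow_mem d (by rw [h1]; exact zero_mem _)
      rwa [toImage_aeval] at h2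
  · rintro ⟨k, hk, hq⟩
    let K := q.asIdeal.ResidueField
    let φ : S →ₐ[A] K := IsScalarTower.toAlgHom A S K
    have hnil : ¬ IsNilpotent (toImage F K (bc φ z)) := by
      rintro ⟨n, hn⟩
      rw [← map_pow, ← RingHom.mem_ker, ker_toImage] at hn
      rcases Nat.eq_zero_or_pos n with rfl | hpos
      · have h1 := chi_of_pow_mem F (z := bc φ z) (one_ne_zero) (by
          simpa using Ideal.mul_mem_left _ (bc φ z) (map_ker_le_kerBC F K hn))
        have := congrArg (fun p => p.coeff k) h1
        simp only [← chi_bc, coeff_map, coeff_neg_X_pow hk.ne] at this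
        exact hq ((Ideal.algebraMap_residueField_eq_zero).mp this)
      · have h1 := chi_of_pow_mem F (z := bc φ z) hpos.ne' (map_ker_le_kerBC F K hn)
        have := congrArg (fun p => p.coeff k) h1
        simp only [← chi_bc, coeff_map, coeff_neg_X_pow hk.ne] at this
        exact hq ((Ideal.algebraMap_residueField_eq_zero).mp this)
    obtain ⟨Q, hQ, hQz⟩ : ∃ Q : Ideal (K ⊗[A] PolLaw.image F.law), Q.IsPrime ∧ toImage F K (bc φ z) ∉ Q := by
      by_contra hcon
      push_neg at hcon
      refine hnil ?_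
      rw [← mem_nilradical, nilradical_eq_sInf, Ideal.mem_sInf]
      exact fun Q hQ => hcon Q hQ
    let β : S ⊗[A] PolLaw.image F.law →ₐ[A] K ⊗[A] PolLaw.image F.law := bc φ
    refine ⟨⟨Q.comap β, Ideal.IsPrime.comap _⟩, ?_, ?_⟩
    · refine PrimeSpectrum.ext ?_
      show (Q.comap β).comap (algebraMap S _) = q.asIdeal
      ext s
      rw [Ideal.mem_comap, Ideal.mem_comap]
      show β (s ⊗ₜ 1) ∈ Q ↔ _
      have h0 : Q.comap (algebraMap K (K ⊗[A] PolLaw.image F.law)) = ⊥ :=
        (Ideal.eq_bot_or_top _).resolve_right (Ideal.IsPrime.ne_top (Ideal.IsPrime.comap _))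
      have : β (s ⊗ₜ 1) = algebraMap K (K ⊗[A] PolLaw.image F.law) (φ s) := rfl
      rw [this, ← Ideal.mem_comap, h0, Ideal.mem_bot]
      exact Ideal.algebraMap_residueField_eq_zero
    · show β (toImage F S z) ∉ Q
      convert hQz using 2
      clear hnil hQz hq
      induction z using TensorProduct.induction_on with
      | zero => simp
      | tmul s b => simp [β, toImage]
      | add a b ha hb => simp [ha, hb]

/-- The base change of the image to any algebra is open over it. -/
theorem isOpenMap_image (S : Type u) [CommRing S] [Algebra A S] :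
    IsOpenMap (PrimeSpectrum.comap (algebraMap S (S ⊗[A] PolLaw.image F.law))) := by
  rw [PrimeSpectrum.isTopologicalBasis_basic_opens.isOpenMap_iff]
  rintro _ ⟨y, rfl⟩
  obtain ⟨z, rfl⟩ := toImage_surjective F S y
  convert isOpen_iUnion fun k : Fin d => (PrimeSpectrum.basicOpen ((chi F z).coeff k)).isOpen
  ext q
  simp only [Set.mem_image, SetLike.mem_coe, Set.mem_iUnion, PrimeSpectrum.mem_basicOpen]
  constructor
  · rintro ⟨P, hP, hPq⟩
    obtain ⟨k, hk, h⟩ := (exists_prime_notMem_iff F z q).mp ⟨P, hPq, hP⟩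
    exact ⟨⟨k, hk⟩, h⟩
  · rintro ⟨k, hk⟩
    obtain ⟨P, hPq, hP⟩ := (exists_prime_notMem_iff F z q).mpr ⟨k, k.2, hk⟩
    exact ⟨P, hP, hPq⟩

end Groth.Agent.H22Alg.PL
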