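import Mathlib
import Groth.Agent.H22Alg.MulLawCH

/-!
Multiplicative laws on a product of two algebras over a connected base.
-/

universe u

open scoped TensorProduct

namespace Groth.Agent.H22Alg.PL

open Polynomial

variable {A : Type u} [CommRing A] {B₁ B₂ : Type u} [CommRing B₁] [Algebra A B₁] [CommRing B₂] [Algebra A B₂]

section

variable (A B₁ B₂) (S : Type u) [CommSemiring S] [Algebra A S]

/-- The splitting of the base change of a product. -/
noncomputable def psplit : S ⊗[A] (B₁ × B₂) ≃ₐ[S] (S ⊗[A] B₁) × (S ⊗[A] B₂) :=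
  Algebra.TensorProduct.prodRight A S S B₁ B₂

variable {A B₁ B₂ S}

theorem psplit_fst (x : S ⊗[A] (B₁ × B₂)) :
    (psplit A B₁ B₂ S x).1 = LinearMap.lTensor S (LinearMap.fst A B₁ B₂) x := by
  induction x using TensorProduct.induction_on with
  | zero => simp
  | tmul s b => rfl
  | add a b ha hb => rw [map_add, map_add, Prod.fst_add, ha, hb]

theorem psplit_snd (x : S ⊗[A] (B₁ × B₂)) :
    (psplit A B₁ B₂ S x).2 = LinearMap.lTensor S (LinearMap.snd A B₁ B₂) x := by
  induction x using TensorProduct.induction_on with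
  | zero => simp
  | tmul s b => rfl
  | add a b ha hb => rw [map_add, map_add, Prod.snd_add, ha, hb]

theorem psplit_bc {S' : Type u} [CommSemiring S'] [Algebra A S'] (φ : S →ₐ[A] S')
    (x : S ⊗[A] (B₁ × B₂)) :
    psplit A B₁ B₂ S' (bc φ x) = (bc φ (psplit A B₁ B₂ S x).1, bc φ (psplit A B₁ B₂ S x).2) := by
  induction x using TensorProduct.induction_on with
  | zero => simp only [map_zero, Prod.fst_zero, Prod.snd_zero, Prod.mk_zero_zero]
  | tmul s b => rfl
  | add a b ha hb => simp only [map_add, ha, hb, Prod.fst_add, Prod.snd_add, Prod.mk_add_mk]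

theorem bc_psplit_symm {S' : Type u} [CommSemiring S'] [Algebra A S'] (φ : S →ₐ[A] S')
    (x : S ⊗[A] B₁) (y : S ⊗[A] B₂) :
    bc φ ((psplit A B₁ B₂ S).symm (x, y)) = (psplit A B₁ B₂ S').symm (bc φ x, bc φ y) := by
  rw [AlgEquiv.eq_symm_apply, psplit_bc, AlgEquiv.apply_symm_apply]

end

variable {d : ℕ} (F : PolLaw.MulLaw A (B₁ × B₂) A d)

/-- The polynomial counting the multiplicity on the first piece. -/
noncomputable def degPoly₁ : A[X] :=
  nm F A[X] ((psplit A B₁ B₂ A[X]).symm ((X : A[X]) • 1, 1))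

/-- The polynomial counting the multiplicity on the second piece. -/
noncomputable def degPoly₂ : A[X] :=
  nm F A[X] ((psplit A B₁ B₂ A[X]).symm (1, (X : A[X]) • 1))

theorem nm_degPoly₁ (S : Type u) [CommRing S] [Algebra A S] (s : S) :
    nm F S ((psplit A B₁ B₂ S).symm (s • 1, 1)) = aeval s (degPoly₁ F) := by
  rw [degPoly₁, ← nm_bc, bc_psplit_symm, bc_smul, map_one, map_one, Polynomial.aeval_X]

theorem nm_degPoly₂ (S : Type u) [CommRing S] [Algebra A S] (s : S) :
    nm F S ((psplit A B₁ B₂ S).symm (1, s • 1)) = aeval s (degPoly₂ F) := by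
  rw [degPoly₂, ← nm_bc, bc_psplit_symm, bc_smul, map_one, map_one, Polynomial.aeval_X]

theorem nm_psplit_mul (S : Type u) [CommRing S] [Algebra A S] (a a' : S ⊗[A] B₁) (b b' : S ⊗[A] B₂) :
    nm F S ((psplit A B₁ B₂ S).symm (a * a', b * b')) =
      nm F S ((psplit A B₁ B₂ S).symm (a, b)) * nm F S ((psplit A B₁ B₂ S).symm (a', b')) := by
  rw [← map_mul, ← map_mul]; rfl

theorem eq_zero_or_one_of_isIdempotentElem [ConnectedSpace (PrimeSpectrum A)] {e : A}
    (he : IsIdempotentElem e) : e = 0 ∨ e = 1 := by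
  have h := (PrimeSpectrum.isClopen_iff.mpr ⟨e, he, rfl⟩ :
    IsClopen (PrimeSpectrum.basicOpen e : Set (PrimeSpectrum A)))
  rcases isClopen_iff.mp h with h | h
  · exact Or.inl (PrimeSpectrum.basicOpen_injOn_isIdempotentElem he IsIdempotentElem.zero
      (SetLike.ext' (by rw [h, PrimeSpectrum.basicOpen_zero]; rfl)))
  · exact Or.inr (PrimeSpectrum.basicOpen_injOn_isIdempotentElem he IsIdempotentElem.one
      (SetLike.ext' (by rw [h, PrimeSpectrum.basicOpen_one]; rfl)))

/-- A multiplicative polynomial is a power of the variable. -/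
theorem eq_X_pow_of_mult [ConnectedSpace (PrimeSpectrum A)] (P : A[X]) (h1 : aeval (1 : A) P = 1)
    (hmul : aeval (C (X : A[X]) * X : A[X][X]) P =
      aeval (C (X : A[X]) : A[X][X]) P * aeval (X : A[X][X]) P) :
    ∃ n, P = X ^ n := by
  have hne : Nontrivial A := PrimeSpectrum.nontrivial (Classical.arbitrary (PrimeSpectrum A))
  have hl : ∀ j, (aeval (C (X : A[X]) * X : A[X][X]) P).coeff j = C (P.coeff j) * X ^ j := by
    intro j
    have hterm : aeval (C (X : A[X]) * X : A[X][X]) P =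
        ∑ k ∈ Finset.range (P.natDegree + 1), C (C (P.coeff k) * X ^ k) * X ^ k := by
      rw [aeval_eq_sum_range]
      refine Finset.sum_congr rfl fun k _ => ?_
      rw [mul_pow, ← C_pow, Algebra.smul_def, IsScalarTower.algebraMap_apply A A[X] A[X][X], ← mul_assoc]
      simp only [Polynomial.algebraMap_eq, ← C_mul]
    rw [hterm, finsetSum_coeff]
    simp only [coeff_C_mul_X_pow]
    rw [Finset.sum_ite_eq]
    split_ifs with hj
    · rfl
    · rw [Polynomial.coeff_eq_zero_of_natDegree_lt (by simpa using hj), C_0, zero_mul]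
  have hr1 : aeval (C (X : A[X]) : A[X][X]) P = C P := by
    rw [show (C (X : A[X]) : A[X][X]) = algebraMap A[X] A[X][X] X from rfl, aeval_algebraMap_apply,
      aeval_X_left_apply]
    rfl
  have hr2 : aeval (X : A[X][X]) P = P.map C := by
    rw [← Polynomial.algebraMap_eq, ← mapAlg_eq_map]; rfl
  have hkey : ∀ i j, (if i = j then P.coeff j else 0) = P.coeff i * P.coeff j := by
    intro i j
    have h := congrArg (fun Q => (Q.coeff j).coeff i) hmul
    simp only [hl, hr1, hr2, coeff_C_mul, coeff_map, coeff_C_mul_X_pow, coeff_mul_C] at h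
    rw [coeff_X_pow, mul_ite, mul_one, mul_zero] at h
    exact h
  have hid : ∀ i, P.coeff i = 0 ∨ P.coeff i = 1 := fun i =>
    eq_zero_or_one_of_isIdempotentElem (by
      have := hkey i i
      rw [if_pos rfl] at this
      exact this.symm)
  obtain ⟨n, hn⟩ : ∃ n, P.coeff n = 1 := by
    by_contra hc
    push Not at hc
    have : P = 0 := Polynomial.ext fun i => by
      rw [coeff_zero]
      exact (hid i).resolve_right (hc i)
    rw [this, map_zero] at h1
    exact zero_ne_one h1
  refine ⟨n, Polynomial.ext fun i => ?_⟩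
  rw [coeff_X_pow]
  split_ifs with hi
  · rw [hi, hn]
  · have := hkey i n
    rw [if_neg hi, hn, mul_one] at this
    exact this.symm

theorem exists_degPoly₁_eq [ConnectedSpace (PrimeSpectrum A)] : ∃ n, degPoly₁ F = X ^ n := by
  refine eq_X_pow_of_mult _ ?_ ?_
  · rw [← nm_degPoly₁, one_smul]
    exact (congrArg _ (map_one _)).trans (map_one _)
  · rw [← nm_degPoly₁, ← nm_degPoly₁, ← nm_degPoly₁, ← nm_psplit_mul, smul_mul_smul_comm, one_mul,
      one_mul]

theorem exists_degPoly₂_eq [ConnectedSpace (PrimeSpectrum A)] : ∃ n, degPoly₂ F = X ^ n := by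
  refine eq_X_pow_of_mult _ ?_ ?_
  · rw [← nm_degPoly₂, one_smul]
    exact (congrArg _ (map_one _)).trans (map_one _)
  · rw [← nm_degPoly₂, ← nm_degPoly₂, ← nm_degPoly₂, ← nm_psplit_mul, smul_mul_smul_comm, one_mul,
      one_mul]

theorem degPoly_mul : degPoly₁ F * degPoly₂ F = X ^ d := by
  rw [degPoly₁, degPoly₂, ← nm_psplit_mul, mul_one, one_mul, ← nm_smul_one F (X : A[X])]
  congr 1
  rw [AlgEquiv.symm_apply_eq, map_smul, map_one]
  rfl

theorem law_eq_of_nm_eq {S : Type u} [CommRing S] [Algebra A S] {n : ℕ} {x : S ⊗[A] (B₁ × B₂)} {s : S}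
    (h : nm F S x = s ^ n) : F.law.toFun' S x = s ^ n • 1 := by
  apply (Algebra.TensorProduct.rid A S S).injective
  rw [map_smul, map_one, smul_eq_mul, mul_one, ← nm_def, h]

/-- The restriction of a law to the first piece. -/
noncomputable def leftLaw {n : ℕ} (hn : degPoly₁ F = X ^ n) : PolLaw.MulLaw A B₁ A n where
  law :=
  { toFun' := fun S _ _ x => F.law.toFun' S ((psplit A B₁ B₂ S).symm (x, 1))
    isCompat' := by
      intro S _ _ S' _ _ φ
      funext x
      simp only [Function.comp_apply]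
      rw [rTensor_eq_map, rTensor_eq_map, ← law_bc, bc_psplit_symm, map_one] }
  homog := fun S i _ s x => by
    letI : CommRing S := { Algebra.semiringToRing A, i with }
    show F.law.toFun' S ((psplit A B₁ B₂ S).symm (s • x, 1)) =
      s ^ n • F.law.toFun' S ((psplit A B₁ B₂ S).symm (x, 1))
    have h : (psplit A B₁ B₂ S).symm (s • x, 1) =
        (psplit A B₁ B₂ S).symm (s • 1, 1) * (psplit A B₁ B₂ S).symm (x, 1) := by
      rw [← map_mul, Prod.mk_mul_mk, smul_one_mul, one_mul]
    rw [h, (F.mult S).2, law_eq_of_nm_eq F (n := n) (s := s) (by rw [nm_degPoly₁, hn, map_pow, aeval_X]),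
      smul_one_mul]
  mult := fun S _ _ => ⟨by
    show F.law.toFun' S ((psplit A B₁ B₂ S).symm 1) = 1
    rw [map_one, (F.mult S).1],
    fun x y => by
      show F.law.toFun' S ((psplit A B₁ B₂ S).symm (x * y, 1)) = _
      rw [show (x * y, (1 : S ⊗[A] B₂)) = (x, 1) * (y, 1) by rw [Prod.mk_mul_mk, one_mul], map_mul,
        (F.mult S).2]⟩

/-- The restriction of a law to the second piece. -/
noncomputable def rightLaw {n : ℕ} (hn : degPoly₂ F = X ^ n) : PolLaw.MulLaw A B₂ A n where
  law :=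
  { toFun' := fun S _ _ x => F.law.toFun' S ((psplit A B₁ B₂ S).symm (1, x))
    isCompat' := by
      intro S _ _ S' _ _ φ
      funext x
      simp only [Function.comp_apply]
      rw [rTensor_eq_map, rTensor_eq_map, ← law_bc, bc_psplit_symm, map_one] }
  homog := fun S i _ s x => by
    letI : CommRing S := { Algebra.semiringToRing A, i with }
    show F.law.toFun' S ((psplit A B₁ B₂ S).symm (1, s • x)) =
      s ^ n • F.law.toFun' S ((psplit A B₁ B₂ S).symm (1, x))
    have h : (psplit A B₁ B₂ S).symm (1, s • x) =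
        (psplit A B₁ B₂ S).symm (1, s • 1) * (psplit A B₁ B₂ S).symm (1, x) := by
      rw [← map_mul, Prod.mk_mul_mk, smul_one_mul, one_mul]
    rw [h, (F.mult S).2, law_eq_of_nm_eq F (n := n) (s := s) (by rw [nm_degPoly₂, hn, map_pow, aeval_X]),
      smul_one_mul]
  mult := fun S _ _ => ⟨by
    show F.law.toFun' S ((psplit A B₁ B₂ S).symm 1) = 1
    rw [map_one, (F.mult S).1],
    fun x y => by
      show F.law.toFun' S ((psplit A B₁ B₂ S).symm (1, x * y)) = _
      rw [show ((1 : S ⊗[A] B₁), x * y) = (1, x) * (1, y) by rw [Prod.mk_mul_mk, one_mul], map_mul,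
        (F.mult S).2]⟩

/-- Factorisation of a law on a product with unique degrees. -/
theorem exists_prod_factor [ConnectedSpace (PrimeSpectrum A)] :
    ∃ d₁ d₂ : ℕ, d₁ + d₂ = d ∧
      (∃ (F₁ : PolLaw.MulLaw A B₁ A d₁) (F₂ : PolLaw.MulLaw A B₂ A d₂),
        ∀ (S : Type u) [CommSemiring S] [Algebra A S] (x : S ⊗[A] (B₁ × B₂)),
          F.law.toFun' S x = F₁.law.toFun' S (LinearMap.lTensor S (LinearMap.fst A B₁ B₂) x) *
            F₂.law.toFun' S (LinearMap.lTensor S (LinearMap.snd A B₁ B₂) x)) ∧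
      ∀ (e₁ e₂ : ℕ) (G₁ : PolLaw.MulLaw A B₁ A e₁) (G₂ : PolLaw.MulLaw A B₂ A e₂),
        (∀ (S : Type u) [CommSemiring S] [Algebra A S] (x : S ⊗[A] (B₁ × B₂)),
          F.law.toFun' S x = G₁.law.toFun' S (LinearMap.lTensor S (LinearMap.fst A B₁ B₂) x) *
            G₂.law.toFun' S (LinearMap.lTensor S (LinearMap.snd A B₁ B₂) x)) → e₁ = d₁ ∧ e₂ = d₂ := by
  have hne : Nontrivial A := PrimeSpectrum.nontrivial (Classical.arbitrary (PrimeSpectrum A))
  obtain ⟨d₁, h₁⟩ := exists_degPoly₁_eq F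
  obtain ⟨d₂, h₂⟩ := exists_degPoly₂_eq F
  have key : ∀ m : ℕ, (X : A[X]) ^ m = X ^ d₁ → m = d₁ := fun m h => by
    simpa using congrArg natDegree h
  refine ⟨d₁, d₂, ?_, ⟨leftLaw F h₁, rightLaw F h₂, fun S _ _ x => ?_⟩, ?_⟩
  · have h := degPoly_mul F
    rw [h₁, h₂, ← pow_add] at h
    simpa using congrArg natDegree h
  · rw [← psplit_fst, ← psplit_snd]
    show _ = F.law.toFun' S ((psplit A B₁ B₂ S).symm (_, 1)) * F.law.toFun' S ((psplit A B₁ B₂ S).symm (1, _))
    rw [← (F.mult S).2, ← map_mul, Prod.mk_mul_mk, mul_one, one_mul]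
    exact congrArg _ ((psplit A B₁ B₂ S).symm_apply_apply x).symm
  · intro e₁ e₂ G₁ G₂ hG
    have ev : ∀ (a : A[X] ⊗[A] B₁) (b : A[X] ⊗[A] B₂),
        nm F A[X] ((psplit A B₁ B₂ A[X]).symm (a, b)) = nm G₁ A[X] a * nm G₂ A[X] b := by
      intro a b
      rw [nm_def, hG, map_mul, ← psplit_fst, ← psplit_snd, AlgEquiv.apply_symm_apply, ← nm_def, ← nm_def]
    constructor
    · apply key
      rw [← h₁, degPoly₁, ev, nm_smul_one, map_one, mul_one]
    · have := ev 1 ((X : A[X]) • 1)
      rw [nm_smul_one, map_one, one_mul, ← degPoly₂, h₂] at this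
      simpa using (congrArg natDegree this).symm

end Groth.Agent.H22Alg.PL
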