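import Mathlib
import Groth.Agent.H22Alg.MulLawCH

/-!
Laws with values in a reduced algebra have radical kernels.
-/

universe u

open scoped TensorProduct

namespace Groth.Agent.H22Alg.PL

open Polynomial

variable {A : Type u} [CommRing A] {B C : Type u} [CommRing B] [Algebra A B] [CommRing C] [Algebra A C]
  {d : ℕ}

set_option maxHeartbeats 1000000 in
/-- For a reduced target the kernel of a multiplicative law is radical. -/
theorem mem_ker_of_pow_mem [IsReduced C] (F : PolLaw.MulLaw A B C d) {b : B} {n : ℕ} (hn : n ≠ 0)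
    (hb : b ^ n ∈ PolLaw.ker F.law) : b ∈ PolLaw.ker F.law := by
  classical
  intro S i₁ i₂ x w
  letI : CommRing S := { Algebra.semiringToRing A, i₁ with }
  let σ := (PUnit.{u + 1} ⊕ PUnit.{u + 1}) ⊕ S
  let S₁ := MvPolynomial σ A
  let φ₀ : MvPolynomial S A →ₐ[A] S := MvPolynomial.aeval (id : S → S)
  have hsurj : Function.Surjective (bc (B := B) φ₀) :=
    TensorProduct.map_surjective (fun s => ⟨MvPolynomial.X s, MvPolynomial.aeval_X _ s⟩) Function.surjective_id
  obtain ⟨x₀, rfl⟩ := hsurj x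
  obtain ⟨w₀, rfl⟩ := hsurj w
  let ren : MvPolynomial S A →ₐ[A] MvPolynomial σ A := MvPolynomial.rename Sum.inr
  let vY : MvPolynomial σ A := MvPolynomial.X (Sum.inl (Sum.inl PUnit.unit))
  let vZ : MvPolynomial σ A := MvPolynomial.X (Sum.inl (Sum.inr PUnit.unit))
  let u : MvPolynomial σ A ⊗[A] B := vY • 1 + vZ • bc ren x₀
  let ε : MvPolynomial σ A ⊗[A] B := bc ren w₀ * ((1 : MvPolynomial σ A) ⊗ₜ[A] b)
  -- the key identity
  have key : F.law.toFun' (MvPolynomial σ A) (u + ε) = F.law.toFun' (MvPolynomial σ A) u := by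
    let ρ : ∀ q : PrimeSpectrum C, MvPolynomial σ A ⊗[A] C →ₐ[A] MvPolynomial σ (C ⧸ q.asIdeal) := fun q =>
      pr (MvPolynomial.aeval fun i => MvPolynomial.X i)
        (((Algebra.ofId (C ⧸ q.asIdeal) _).restrictScalars A).comp (Ideal.Quotient.mkₐ A q.asIdeal))
    have hρ : ∀ y z : MvPolynomial σ A ⊗[A] C, (∀ q, ρ q y = ρ q z) → y = z := by
      intro y z h
      rw [← sub_eq_zero]
      refine cd.injective (Finsupp.ext fun ν => ?_)
      rw [map_zero, Finsupp.zero_apply]
      refine IsReduced.eq_zero _ ?_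
      rw [← mem_nilradical, nilradical_eq_sInf, Ideal.mem_sInf]
      intro Q hQ
      have hc : ∀ t : MvPolynomial σ A ⊗[A] C,
          (ρ ⟨Q, hQ⟩ t).coeff ν = Ideal.Quotient.mk Q (cd t ν) := by
        intro t
        induction t using TensorProduct.induction_on with
        | zero => simp
        | tmul p c =>
          rw [cd_tmul]
          simp only [ρ, pr_tmul, AlgHom.comp_apply]
          show MvPolynomial.coeff ν (MvPolynomial.aeval _ p * MvPolynomial.C (Ideal.Quotient.mk Q c)) = _
          rw [mul_comm, MvPolynomial.coeff_C_mul]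
          have : MvPolynomial.aeval (fun i => (MvPolynomial.X i : MvPolynomial σ (C ⧸ Q))) p =
              MvPolynomial.map (algebraMap A (C ⧸ Q)) p := by
            induction p using MvPolynomial.induction_on with
            | C a => simp [MvPolynomial.algebraMap_eq, MvPolynomial.aeval_C]
            | add f g hf hg => simp [hf, hg]
            | mul_X f i hf => simp [hf]
          rw [this, MvPolynomial.coeff_map, Algebra.smul_def, map_mul, mul_comm]
          rfl
        | add t t' ht ht' => simp [ht, ht']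
      rw [← Ideal.Quotient.eq_zero_iff_mem, ← hc, map_sub, h ⟨Q, hQ⟩, sub_self, MvPolynomial.coeff_zero]
    refine hρ _ _ fun q => ?_
    let D := MvPolynomial σ (C ⧸ q.asIdeal)
    let S₂ := Polynomial (MvPolynomial σ A)
    let c₂ : MvPolynomial σ A →ₐ[A] Polynomial (MvPolynomial σ A) := cst A _
    let ρ₂ : Polynomial (MvPolynomial σ A) ⊗[A] C →ₐ[A] Polynomial (MvPolynomial σ (C ⧸ q.asIdeal)) :=
      pr (Polynomial.mapAlgHom ((ρ q).comp Algebra.TensorProduct.includeLeft))
        ((cst A _).comp ((ρ q).comp Algebra.TensorProduct.includeRight))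
    let T : Polynomial (MvPolynomial σ A) := Polynomial.X
    let u₂ := bc (B := B) c₂ u
    let ε₂ := bc (B := B) c₂ ε
    obtain ⟨g, hg⟩ := sub_dvd_pow_sub_pow u₂ (-((T ⊗ₜ[A] (1 : B)) * ε₂)) n
    have hε : ∃ v, (-((T ⊗ₜ[A] (1 : B)) * ε₂)) ^ n = v * ((1 : Polynomial (MvPolynomial σ A)) ⊗ₜ[A] (b ^ n)) := by
      refine ⟨(-((T ⊗ₜ[A] (1 : B)) * bc c₂ (bc ren w₀))) ^ n, ?_⟩
      have h1 : -((T ⊗ₜ[A] (1 : B)) * ε₂) = -((T ⊗ₜ[A] (1 : B)) * bc c₂ (bc ren w₀)) * ((1 : Polynomial (MvPolynomial σ A)) ⊗ₜ[A] b) := by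
        simp only [ε₂, ε, map_mul, bc_tmul, map_one]
        ring
      rw [h1]
      refine (mul_pow (-((T ⊗ₜ[A] (1 : B)) * bc c₂ (bc ren w₀))) ((1 : Polynomial (MvPolynomial σ A)) ⊗ₜ[A] b) n).trans ?_
      congr 1
      rw [Algebra.TensorProduct.tmul_pow, one_pow]
    obtain ⟨v, hv⟩ := hε
    let mh : Polynomial (MvPolynomial σ A) ⊗[A] B →* Polynomial (MvPolynomial σ A) ⊗[A] C :=
      { toFun := F.law.toFun' _, map_one' := (F.mult _).1, map_mul' := (F.mult _).2 }
    have hval : mh (u₂ + (T ⊗ₜ[A] (1 : B)) * ε₂) * mh g = (mh u₂) ^ n := by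
      rw [← map_mul, ← map_pow, show u₂ + (T ⊗ₜ[A] (1 : B)) * ε₂ = u₂ - -((T ⊗ₜ[A] (1 : B)) * ε₂) by ring, ← hg, hv,
        sub_eq_add_neg]
      have h2 := hb _ (u₂ ^ n) (-v)
      rw [show -v * ((1 : Polynomial (MvPolynomial σ A)) ⊗ₜ[A] (b ^ n)) =
        -(v * ((1 : Polynomial (MvPolynomial σ A)) ⊗ₜ[A] (b ^ n))) by ring] at h2
      exact h2
    have hC : ∀ t : MvPolynomial σ A ⊗[A] C, ρ₂ (bc c₂ t) = Polynomial.C (ρ q t) := by
      intro t
      induction t using TensorProduct.induction_on with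
      | zero => simp
      | tmul p c =>
        simp only [ρ₂, c₂, bc_tmul, cst_apply, pr_tmul, AlgHom.comp_apply]
        show Polynomial.map _ (Polynomial.C p) * Polynomial.C _ = _
        rw [Polynomial.map_C, ← Polynomial.C_mul]
        congr 1
        rw [AlgHom.toRingHom_eq_coe, RingHom.coe_coe, AlgHom.comp_apply, ← map_mul,
          Algebra.TensorProduct.includeLeft_apply, Algebra.TensorProduct.includeRight_apply,
          Algebra.TensorProduct.tmul_mul_tmul, mul_one, one_mul]
      | add t t' ht ht' => simp [ht, ht']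
    set h := ρ q (F.law.toFun' (MvPolynomial σ A) u) with hh
    have hu₂ : ρ₂ (mh u₂) = Polynomial.C h := by
      show ρ₂ (F.law.toFun' _ (bc c₂ u)) = _
      rw [law_bc, hC]
    have hprod : ρ₂ (mh (u₂ + (T ⊗ₜ[A] (1 : B)) * ε₂)) * ρ₂ (mh g) = Polynomial.C (h ^ n) := by
      rw [← map_mul, hval, map_pow, hu₂, Polynomial.C_pow]
    have hne : h ≠ 0 := by
      intro h0
      let ψ : MvPolynomial σ A →ₐ[A] A :=
        MvPolynomial.aeval (Sum.elim (Sum.elim (fun _ => 1) fun _ => 0) fun _ => 0)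
      let ev : MvPolynomial σ (C ⧸ q.asIdeal) →ₐ[C ⧸ q.asIdeal] C ⧸ q.asIdeal :=
        MvPolynomial.aeval (Sum.elim (Sum.elim (fun _ => 1) fun _ => 0) fun _ => 0)
      have hev : ∀ t : MvPolynomial σ A ⊗[A] C,
          ev (ρ q t) = Ideal.Quotient.mk q.asIdeal (Algebra.TensorProduct.lid A C (bc ψ t)) := by
        intro t
        induction t using TensorProduct.induction_on with
        | zero => simp
        | tmul p c =>
          rw [bc_tmul, Algebra.TensorProduct.lid_tmul, Algebra.smul_def, map_mul]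
          simp only [ρ, pr_tmul, map_mul]
          congr 1
          · induction p using MvPolynomial.induction_on with
            | C a =>
              rw [MvPolynomial.aeval_C, MvPolynomial.aeval_C]
              exact (ev.restrictScalars A).commutes a
            | add f g hf hg => simp only [map_add, hf, hg]
            | mul_X f i hf =>
              simp only [map_mul, hf, MvPolynomial.aeval_X, ψ, ev]
              rcases i with ((_ | _) | _) <;> simp
          · show MvPolynomial.aeval _ (MvPolynomial.C (Ideal.Quotient.mk q.asIdeal c)) = _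
            rw [MvPolynomial.aeval_C]
            rfl
        | add t t' ht ht' => simp [ht, ht']
      have hψu : bc ψ u = 1 := by
        simp only [u, map_add, bc_smul, map_one, ψ, vY, vZ, MvPolynomial.aeval_X, Sum.elim_inl, Sum.elim_inr,
          one_smul, zero_smul, add_zero]
      have := hev (F.law.toFun' _ u)
      rw [← hh, h0, map_zero, ← law_bc, hψu, (F.mult A).1, map_one, map_one] at this
      exact zero_ne_one this
    have hdeg : (ρ₂ (mh (u₂ + (T ⊗ₜ[A] (1 : B)) * ε₂))).natDegree = 0 := by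
      have hne' : (Polynomial.C (h ^ n) : Polynomial (MvPolynomial σ (C ⧸ q.asIdeal))) ≠ 0 :=
        Polynomial.C_ne_zero.mpr (pow_ne_zero _ hne)
      have h1 := congrArg Polynomial.natDegree hprod
      rw [← hprod] at hne'
      rw [Polynomial.natDegree_mul (left_ne_zero_of_mul hne') (right_ne_zero_of_mul hne'), Polynomial.natDegree_C] at h1
      omega
    have hevt : ∀ (t : MvPolynomial σ A), (t = 0 ∨ t = 1) → ∀ y : Polynomial (MvPolynomial σ A) ⊗[A] C,
        Polynomial.eval (ρ q (t ⊗ₜ 1)) (ρ₂ y) =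
          ρ q (bc ((Polynomial.aeval t).restrictScalars A) y) := by
      intro t ht y
      induction y using TensorProduct.induction_on with
      | zero => simp
      | tmul p c =>
        simp only [ρ₂, pr_tmul, bc_tmul, AlgHom.comp_apply, cst_apply, Polynomial.eval_mul, Polynomial.eval_C,
          AlgHom.restrictScalars_apply]
        conv_rhs => rw [← mul_one (Polynomial.aeval t p), ← one_mul c, ← Algebra.TensorProduct.tmul_mul_tmul,
          map_mul]
        rw [Algebra.TensorProduct.includeRight_apply]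
        congr 1
        show Polynomial.eval _ (p.map ((ρ q).comp Algebra.TensorProduct.includeLeft).toRingHom) = _
        rw [Polynomial.eval_map, Polynomial.coe_aeval_eq_eval]
        exact (Polynomial.eval₂_at_apply ((ρ q).comp Algebra.TensorProduct.includeLeft).toRingHom t)
      | add a b ha hb => simp [ha, hb]
    have hsub : ∀ t : MvPolynomial σ A, bc ((Polynomial.aeval t).restrictScalars A) (u₂ + (T ⊗ₜ[A] (1 : B)) * ε₂) = u + (t ⊗ₜ[A] (1 : B)) * ε := by
      intro t
      have hc : ((Polynomial.aeval t).restrictScalars A).comp c₂ = AlgHom.id A _ := by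
        ext p; simp [c₂]
      simp only [u₂, ε₂, map_add, map_mul, bc_tmul, bc_bc, hc, bc_id, T]
      simp
    have h1 := hevt 1 (Or.inr rfl) (mh (u₂ + (T ⊗ₜ[A] (1 : B)) * ε₂))
    have h0 := hevt 0 (Or.inl rfl) (mh (u₂ + (T ⊗ₜ[A] (1 : B)) * ε₂))
    have hmh : mh (u₂ + (T ⊗ₜ[A] (1 : B)) * ε₂) = F.law.toFun' _ (u₂ + (T ⊗ₜ[A] (1 : B)) * ε₂) := rfl
    rw [Polynomial.eq_C_of_natDegree_eq_zero hdeg, Polynomial.eval_C, hmh, ← law_bc, hsub] at h1 h0
    rw [← Algebra.TensorProduct.one_def, one_mul] at h1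
    rw [TensorProduct.zero_tmul, zero_mul, add_zero] at h0
    exact h1.symm.trans h0
  -- specialise
  let ψ : MvPolynomial σ A →ₐ[A] S :=
    MvPolynomial.aeval (Sum.elim (Sum.elim (fun _ => 0) fun _ => 1) id)
  have hψ : ψ.comp ren = φ₀ := MvPolynomial.algHom_ext fun s => by simp [ψ, ren, φ₀]
  have hu : bc ψ u = bc φ₀ x₀ := by
    simp only [u, map_add, bc_smul, map_one, bc_bc, hψ, vY, vZ, ψ, MvPolynomial.aeval_X, Sum.elim_inl,
      Sum.elim_inr, zero_smul, one_smul, zero_add]
  have hε : bc ψ ε = bc φ₀ w₀ * ((1 : S) ⊗ₜ[A] b) := by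
    simp only [ε, map_mul, bc_bc, hψ, bc_tmul, map_one]
  have h := congrArg (bc ψ) key
  rw [← law_bc, ← law_bc, map_add, hu, hε] at h
  exact h

end Groth.Agent.H22Alg.PL
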