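import Groth.Agent.H28Int.Core
import Groth.Agent.H28Int.Diff
import Groth.Prelude.Def_Curv2
import Mathlib.Algebra.MvPolynomial.Funext
import Mathlib.Algebra.BigOperators.Ring.Finset

/-! # Snapper polynomials and their top mixed coefficient. -/

set_option autoImplicit false
set_option linter.style.haveILetI false

universe u

open CategoryTheory CategoryTheory.Limits AlgebraicGeometry

noncomputable section

namespace Groth.Agent.H22Alg.Snapper

open H28Int H28Int.Diff

variable {X : Scheme.{u}}

theorem isCoh_tensorPows [IsNoetherian X] {F : X.Modules} (hF : Coh.IsCoh F) :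
    ∀ (r : ℕ) (L : Fin r → X.Modules), (∀ i, PicF.IsInvertible (L i)) → ∀ n : Fin r → ℕ,
      Coh.IsCoh (Curv2.tensorPows F r L n) ∧ CohB1.support (Curv2.tensorPows F r L n) ⊆ CohB1.support F
  | 0, _, _, _ => ⟨hF, subset_rfl⟩
  | r + 1, L, hL, n => by
    obtain ⟨h1, h2⟩ := isCoh_tensorPows hF r (fun i => L i.castSucc) (fun i => hL _) (fun i => n i.castSucc)
    exact ⟨H11Ample.isCoh_tensor h1 (H11Ample.isInvertible_tensorPow (hL _) _),
      (H25Euler.support_tensor_subset _ _).trans h2⟩

theorem nonempty_tensorPows_single {F : X.Modules} : ∀ (r : ℕ) (L : Fin r → X.Modules) (n : Fin r → ℕ) (i : Fin r),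
    Nonempty (Curv2.tensorPows F r L (n + Pi.single i 1) ≅ CohB1.tensorMod (L i) (Curv2.tensorPows F r L n))
  | 0, _, _, i => i.elim0
  | r + 1, L, n, i => by
    simp only [Curv2.tensorPows]
    cases i using Fin.lastCases with
    | last =>
      have e1 : (fun j : Fin r => (n + Pi.single (Fin.last r) 1 : Fin (r + 1) → ℕ) j.castSucc) = fun j => n j.castSucc := by
        funext j; simp [Pi.add_apply, (Fin.castSucc_lt_last j).ne]
      have e2 : (n + Pi.single (Fin.last r) 1 : Fin (r + 1) → ℕ) (Fin.last r) = n (Fin.last r) + 1 := by simp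
      rw [e1, e2]
      exact ⟨(H10Coh.Tw.assoc _ (CohB1.tensorPow (L (Fin.last r)) (n (Fin.last r))) (L (Fin.last r))).symm ≪≫
        H10Coh.Tw.commIso _ _⟩
    | cast j =>
      have e1 : (fun l : Fin r => (n + Pi.single j.castSucc 1 : Fin (r + 1) → ℕ) l.castSucc) =
          (fun l => n l.castSucc) + Pi.single j 1 := by
        funext l; simp [Pi.add_apply, Pi.single_apply, Fin.castSucc_inj]
      have e2 : (n + Pi.single j.castSucc 1 : Fin (r + 1) → ℕ) (Fin.last r) = n (Fin.last r) := by
        simp [(Fin.castSucc_lt_last j).ne']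
      rw [e1, e2]
      obtain ⟨e⟩ := nonempty_tensorPows_single (F := F) r (fun l => L l.castSucc) (fun l => n l.castSucc) j
      exact ⟨PicGrp.tensorModIso e (Iso.refl _) ≪≫ H10Coh.Tw.assoc _ _ _⟩

section Field

variable (k : Type u) [Field k] [X.Over (Spec (CommRingCat.of k))] [IsProper (X ↘ Spec (CommRingCat.of k))]
  {F : X.Modules} (hF : Coh.IsCoh F) {d : ℕ} (hd : topologicalKrullDim (CohB1.support F) ≤ (d : WithBot ℕ∞))
  {r : ℕ} {L : Fin r → X.Modules} (hL : ∀ i, PicF.IsInvertible (L i))

include hF hd hL in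
theorem van : ∀ (j : ℕ) (l : List X.Modules), (∀ A ∈ l, PicF.IsInvertible A) → d < l.length + j → ∀ c : ℚ,
    Van j fun n => c * (D k l (Curv2.tensorPows F r L n) : ℚ)
  | 0, l, hl, hlen, c => fun m => by
    show c * (D k l (Curv2.tensorPows F r L m) : ℚ) = 0
    haveI := isNoetherian k (X := X)
    obtain ⟨h1, h2⟩ := isCoh_tensorPows hF r L hL m
    rw [D_eq_zero k l hl _ h1 (((dim_le_of_subset h2).trans hd).trans_lt (by exact_mod_cast hlen))]
    simp
  | j + 1, l, hl, hlen, c => fun i => by
    haveI := isNoetherian k (X := X)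
    have e : Di i (fun n => c * (D k l (Curv2.tensorPows F r L n) : ℚ)) =
        fun n => -c * (D k (L i :: l) (Curv2.tensorPows F r L n) : ℚ) := by
      funext m
      obtain ⟨φ⟩ := nonempty_tensorPows_single (F := F) r L m i
      show c * _ - c * _ = -c * ((D k l _ - D k l _ : ℤ) : ℚ)
      rw [(isAddFn_D k l hl).congr φ]
      push_cast
      ring
    rw [e]
    exact van j (L i :: l) (List.forall_mem_cons.2 ⟨hL i, hl⟩) (by simp only [List.length_cons]; omega) (-c)

include hF hd hL in
/-- Snapper's theorem. -/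
theorem exists_poly : ∃ P : MvPolynomial (Fin r) ℚ, P.totalDegree ≤ d ∧
    ∀ n : Fin r → ℕ, (Curv2.euler k X (Curv2.tensorPows F r L n) : ℚ) = MvPolynomial.eval (fun i => (n i : ℚ)) P := by
  have h := van k hF hd hL (d + 1) [] (by simp) (by simp) 1
  simp only [one_mul] at h
  obtain ⟨P, hP, hP'⟩ := Diff.exists_poly r d _ h
  exact ⟨P, hP, hP'⟩

include hF hd hL in
theorem totalDegree_le {P : MvPolynomial (Fin r) ℚ}
    (hP : ∀ n : Fin r → ℕ, (Curv2.euler k X (Curv2.tensorPows F r L n) : ℚ) = MvPolynomial.eval (fun i => (n i : ℚ)) P) :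
    P.totalDegree ≤ d := by
  obtain ⟨Q, hQ, hQ'⟩ := exists_poly k hF hd hL
  suffices P = Q from this ▸ hQ
  refine MvPolynomial.funext_set (fun _ => Set.range (Nat.cast : ℕ → ℚ))
    (fun _ => Set.infinite_range_of_injective Nat.cast_injective) fun x hx => ?_
  choose n hn using fun i => hx i trivial
  obtain rfl : (fun i => (n i : ℚ)) = x := funext hn
  rw [← hP, ← hQ']

end Field

/-- The top mixed coefficient as an alternating sum of values. -/
theorem coeff_one_eq {d : ℕ} {P : MvPolynomial (Fin d) ℚ} (hP : P.totalDegree ≤ d) :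
    MvPolynomial.coeff (Finsupp.equivFunOnFinite.symm fun _ : Fin d => 1) P =
      ∑ t ∈ (Finset.univ : Finset (Fin d)).powerset,
        (-1 : ℚ) ^ t.card * MvPolynomial.eval (fun i => ((if i ∈ t then 0 else 1 : ℕ) : ℚ)) P := by
  classical
  set one : Fin d →₀ ℕ := Finsupp.equivFunOnFinite.symm fun _ : Fin d => 1
  simp only [MvPolynomial.eval_eq', Finset.mul_sum]
  rw [Finset.sum_comm]
  have key : ∀ m : Fin d →₀ ℕ, m ∈ P.support →
      ∑ t ∈ (Finset.univ : Finset (Fin d)).powerset,
          (-1 : ℚ) ^ t.card * (P.coeff m * ∏ i, ((if i ∈ t then 0 else 1 : ℕ) : ℚ) ^ m i) =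
        if m = one then P.coeff m else 0 := fun m hm => by
    have h1 : ∑ t ∈ (Finset.univ : Finset (Fin d)).powerset,
        (-1 : ℚ) ^ t.card * ∏ i, ((if i ∈ t then 0 else 1 : ℕ) : ℚ) ^ m i = ∏ i, ((1 : ℚ) - 0 ^ m i) := by
      have h2 : ∀ i, (1 : ℚ) - 0 ^ m i = -((0 : ℚ) ^ m i) + 1 := fun i => by ring
      simp only [h2, Finset.prod_add, Finset.prod_const_one, mul_one]
      refine Finset.sum_congr rfl fun t _ => ?_
      rw [Finset.prod_neg, ← Finset.prod_subset (Finset.subset_univ t) (f := fun i => ((if i ∈ t then 0 else 1 : ℕ) : ℚ) ^ m i)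
        (fun i _ hi => by simp [hi])]
      exact congrArg _ (Finset.prod_congr rfl fun i hi => by simp [hi])
    simp only [mul_left_comm _ (P.coeff m), ← Finset.mul_sum, h1]
    split_ifs with he
    · subst he
      simp [one]
    · obtain ⟨i, hi⟩ : ∃ i, m i = 0 := by
        by_contra hn
        push Not at hn
        apply he
        have hsum : ∑ i, m i ≤ ∑ _i : Fin d, 1 := by
          have := (MvPolynomial.le_totalDegree hm).trans hP
          rw [Finsupp.sum_fintype _ _ (by simp)] at this
          simpa using this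
        have hge : ∀ i ∈ (Finset.univ : Finset (Fin d)), 1 ≤ m i := fun i _ => Nat.one_le_iff_ne_zero.2 (hn i)
        ext i
        simp [one, (Finset.sum_eq_sum_iff_of_le hge).1 (le_antisymm (Finset.sum_le_sum hge) hsum) i (Finset.mem_univ i)]
      rw [Finset.prod_eq_zero (Finset.mem_univ i) (by simp [hi]), mul_zero]
  rw [Finset.sum_congr rfl key, Finset.sum_ite_eq']
  split_ifs with h
  · rfl
  · exact MvPolynomial.notMem_support_iff.1 h

end Groth.Agent.H22Alg.Snapper
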