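import Groth.Agent.H28Vert.Euler
import Groth.Agent.H28Vert.BaseSeq
import Groth.Agent.H28Bc.FieldPoint
import Groth.Agent.H28Int.Push
import Groth.Agent.H22Alg.SnapperPoly
import Groth.Agent.H22Alg.DegAmple
import Groth.Agent.H12Pic.NumTriv.Projective
import Groth.Agent.H06EGA9.StructureStalk
import Groth.Agent.H06EGA12.GeomRkOpen

/-!
# The Euler characteristic of a multiple fibre
-/

set_option autoImplicit false
set_option linter.style.haveILetI false
set_option linter.unusedSectionVars false
set_option backward.isDefEq.respectTransparency.types false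
universe u

open CategoryTheory CategoryTheory.Limits AlgebraicGeometry Opposite TopologicalSpace

namespace Groth.Agent.H22Alg.MultFibre

open Groth.Agent.H28Vert

/-- A periodic polynomial sequence is constant. -/
theorem eq_of_periodic {f : ℕ → ℤ} {P : Polynomial ℚ} (hP : ∀ n : ℕ, (f n : ℚ) = P.eval (n : ℚ))
    {m : ℕ} (hm : 0 < m) (hper : ∀ n, f (n + m) = f n) (a b : ℕ) : f a = f b := by
  have hmul : ∀ q : ℕ, f (q * m) = f 0 := by
    intro q
    induction q with
    | zero => simp
    | succ q ih => rw [Nat.succ_mul, hper, ih]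
  have hC : P - Polynomial.C (f 0 : ℚ) = 0 := by
    refine Polynomial.eq_zero_of_infinite_isRoot _ ((Set.infinite_range_of_injective (f := fun q : ℕ => ((q * m : ℕ) : ℚ))
      fun x y h => ?_).mono ?_)
    · exact Nat.eq_of_mul_eq_mul_right hm (Nat.cast_injective h)
    · rintro _ ⟨q, rfl⟩
      show Polynomial.eval _ _ = 0
      rw [Polynomial.eval_sub, Polynomial.eval_C, ← hP, hmul, sub_self]
  have h0 : ∀ n, f n = f 0 := fun n => by
    have h := hP n
    rw [sub_eq_zero.1 hC, Polynomial.eval_C] at h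
    exact_mod_cast h
  rw [h0 a, h0 b]

theorem isEffCartierIdeal_pow {X : Scheme.{u}} {I : X.IdealSheafData} (hI : BlowUp.IsEffCartierIdeal I) :
    ∀ i : ℕ, BlowUp.IsEffCartierIdeal (I ^ (i + 1))
  | 0 => by rw [pow_one]; exact hI
  | i + 1 => by rw [pow_succ]; exact isEffCartierIdeal_mul (isEffCartierIdeal_pow hI i) hI

theorem nonempty_pullback_pow_add {X Z : Scheme.{u}} (g : Z ⟶ X) {I : X.IdealSheafData}
    (hI : BlowUp.IsEffCartierIdeal I) (a b : ℕ) :
    Nonempty (CohB1.tensorMod ((Scheme.Modules.pullback g).obj (ClSub.idealMod (I ^ (a + 1))))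
      ((Scheme.Modules.pullback g).obj (ClSub.idealMod (I ^ (b + 1)))) ≅
      (Scheme.Modules.pullback g).obj (ClSub.idealMod (I ^ (a + b + 2)))) := by
  obtain ⟨e⟩ := nonempty_idealMod_mul (isEffCartierIdeal_pow hI a) (isEffCartierIdeal_pow hI b)
  refine ⟨((H16Derived.KFlat.Stalk.pullTensorLIso g (ClSub.idealMod (I ^ (b + 1)))).app
    (ClSub.idealMod (I ^ (a + 1)))).symm ≪≫ (Scheme.Modules.pullback g).mapIso (e ≪≫ eqToIso ?_)⟩
  rw [← pow_add, show a + 1 + (b + 1) = a + b + 2 by omega]

section Twists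

variable (k : Type u) [Field k] {X D : Scheme.{u}} [D.Over (Spec (CommRingCat.of k))]
  [IsProper (D ↘ Spec (CommRingCat.of k))]

/-- The Euler characteristics of the powers of a conormal sheaf with trivial power are constant. -/
theorem euler_pow_eq (g : D ⟶ X) {I : X.IdealSheafData} (hI : BlowUp.IsEffCartierIdeal I) {m : ℕ}
    (e : ClSub.idealMod (I ^ (m + 1)) ≅ Coh.structureModule X) (i : ℕ) :
    Curv2.euler k D ((Scheme.Modules.pullback g).obj (ClSub.idealMod (I ^ (i + 1)))) =
      Curv2.euler k D (Coh.structureModule D) := by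
  haveI := H28Int.isNoetherian k (X := D)
  let M : ℕ → D.Modules := fun n => (Scheme.Modules.pullback g).obj (ClSub.idealMod (I ^ (n + 1)))
  have hMi : ∀ n, PicF.IsInvertible (M n) := fun n =>
    H11Ample.isInvertible_pullback g (H29Blow.isInvertible_of_isEffCartierIdeal _ (isEffCartierIdeal_pow hI n))
  let eT : M m ≅ Coh.structureModule D :=
    (Scheme.Modules.pullback g).mapIso e ≪≫ H16Derived.KFlat.Stalk.structurePullbackIso g
  have hpow : ∀ n, Nonempty (CohB1.tensorMod (M 0) (CohB1.tensorPow (M 0) n) ≅ M n) := by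
    intro n
    induction n with
    | zero => exact ⟨H10Coh.Tw.rightUnitIso _⟩
    | succ n ih =>
      obtain ⟨e₁⟩ := ih
      obtain ⟨e₂⟩ := nonempty_pullback_pow_add g hI n 0
      exact ⟨(H10Coh.Tw.assoc (M 0) (CohB1.tensorPow (M 0) n) (M 0)).symm ≪≫
        PicGrp.tensorModIso e₁ (Iso.refl _) ≪≫ e₂⟩
  obtain ⟨d, hd⟩ := H12Pic.NumTriv.exists_dim k (X := D)
  obtain ⟨P, -, hP⟩ := Snapper.exists_poly k (F := M 0) (H11Ample.isCoh_of_isInvertible (hMi 0)) (d := d)
    ((Topology.IsInducing.topologicalKrullDim_le Topology.IsEmbedding.subtypeVal.isInducing).trans hd)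
    (L := fun _ : Fin 1 => M 0) (fun _ => hMi 0)
  have hpoly : ∀ n : ℕ, (Curv2.euler k D (M n) : ℚ) =
      (MvPolynomial.aeval (fun _ => Polynomial.X) P : Polynomial ℚ).eval (n : ℚ) := by
    intro n
    obtain ⟨e'⟩ := hpow n
    calc (Curv2.euler k D (M n) : ℚ) = (Curv2.euler k D (Curv2.tensorPows (M 0) 1 (fun _ => M 0) (fun _ => n)) : ℚ) := by
          exact_mod_cast (H25Euler.euler_congr e').symm
      _ = MvPolynomial.eval (fun _ => (n : ℚ)) P := hP _
      _ = _ := by
        rw [← Polynomial.coe_aeval_eq_eval, ← AlgHom.comp_apply, MvPolynomial.comp_aeval,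
          ← MvPolynomial.aeval_eq_eval]
        simp only [Polynomial.aeval_X]
  have hper : ∀ n, Curv2.euler k D (M (n + (m + 1))) = Curv2.euler k D (M n) := by
    intro n
    obtain ⟨e'⟩ := nonempty_pullback_pow_add g hI n m
    exact H25Euler.euler_congr (eqToIso (show M (n + (m + 1)) = (Scheme.Modules.pullback g).obj
      (ClSub.idealMod (I ^ (n + m + 2))) by rfl) ≪≫ e'.symm ≪≫ PicGrp.tensorModIso (Iso.refl _) eT ≪≫
        H10Coh.Tw.rightUnitIso _)
  show Curv2.euler k D (M i) = _
  rw [eq_of_periodic hpoly (Nat.succ_pos m) hper i m]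
  exact H25Euler.euler_congr eT

end Twists

variable {R : Type u} [CommRing R] [IsDomain R] [IsDiscreteValuationRing R]

/-- The multiplicity of a fibre divides the Euler characteristic. -/
theorem dvd_euler {X : Over (Spec (CommRingCat.of R))} [IsProper X.hom] [Flat X.hom]
    (K : Type u) [Field K] {X' : Scheme.{u}} [X'.Over (Spec (CommRingCat.of K))] (g : X' ⟶ X.left)
    (t : Spec (CommRingCat.of K) ⟶ Spec (CommRingCat.of R))
    (hsq : IsPullback g (X' ↘ Spec (CommRingCat.of K)) X.hom t) (m : ℕ) (I : X.left.IdealSheafData)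
    (hI : BlowUp.IsEffCartierIdeal I) (hIm : I ^ (m + 1) = Models.specialFibreIdeal R X) :
    ((m + 1 : ℕ) : ℤ) ∣ Curv2.euler K X' (Coh.structureModule X') := by
  let κ := IsLocalRing.ResidueField R
  let Y := pullback X.hom (closedPt R)
  let b := pullback.fst X.hom (closedPt R)
  haveI : IsLocallyNoetherian X.left := LocallyOfFiniteType.isLocallyNoetherian X.hom
  haveI := H28Int.isNoetherian κ (X := Y)
  obtain ⟨ϖ, hϖ⟩ := IsDiscreteValuationRing.exists_irreducible R
  obtain ⟨s, hs, -⟩ := exists_iso_idealMod_baseMul (X := X) hϖ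
  let eO : ClSub.idealMod (I ^ (m + 1)) ≅ Coh.structureModule X.left :=
    eqToIso (by rw [hIm]; rfl) ≪≫ (asIso s).symm
  have hle : ∀ j ≤ m, Models.specialFibreIdeal R X ≤ I ^ (j + 1) := fun j hj U => by
    rw [← hIm, show m + 1 = (j + 1) + (m - j) by omega, pow_add (M := X.left.IdealSheafData), Scheme.IdealSheafData.ideal_mul,
      Pi.mul_apply]
    exact Ideal.mul_le_left
  have hfac : ∀ (E : X.left.IdealSheafData), Models.specialFibreIdeal R X ≤ E →
      ∃ t : E.subscheme ⟶ Y, IsClosedImmersion t ∧ t ≫ b = E.subschemeι := by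
    intro E hE
    let t : E.subscheme ⟶ Y := IsClosedImmersion.lift b E.subschemeι
      (by rw [Scheme.IdealSheafData.ker_subschemeι, ker_fst_eq]; exact hE)
    have ht : t ≫ b = E.subschemeι := IsClosedImmersion.lift_fac _ _ _
    haveI : IsClosedImmersion (t ≫ b) := by rw [ht]; infer_instance
    exact ⟨t, IsClosedImmersion.of_comp t b, ht⟩
  -- the divisor
  have hI1 : Models.specialFibreIdeal R X ≤ I := by simpa using hle 0 (Nat.zero_le m)
  obtain ⟨tD, htD, htDb⟩ := hfac I hI1
  letI : I.subscheme.Over (Spec (CommRingCat.of κ)) := ⟨tD ≫ (Y ↘ Spec (CommRingCat.of κ))⟩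
  haveI : IsProper (I.subscheme ↘ Spec (CommRingCat.of κ)) := inferInstanceAs (IsProper (tD ≫ _))
  haveI := H28Int.isNoetherian κ (X := I.subscheme)
  let c := Curv2.euler κ I.subscheme (Coh.structureModule I.subscheme)
  have hchain : ∀ j, j ≤ m → ∀ E : X.left.IdealSheafData, E = I ^ (j + 1) →
      ∀ t : E.subscheme ⟶ Y, t ≫ b = E.subschemeι →
      Curv2.euler κ Y ((Coh.push t).obj (Coh.structureModule E.subscheme)) = ((j + 1 : ℕ) : ℤ) * c := by
    intro j
    induction j with
    | zero =>
      intro _ E hE t ht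
      obtain rfl : E = I := hE.trans (pow_one I)
      obtain rfl : t = tD := by rw [← cancel_mono b, ht, htDb]
      haveI : (Coh.structureModule E.subscheme).IsQuasicoherent := H10Coh.isQuasicoherent_unit
      rw [H28Int.Push.euler_push κ t rfl]
      simp [c]
    | succ j ih =>
      intro hj E hE t ht
      subst hE
      obtain ⟨t₃, ht₃, ht₃b⟩ := hfac (I ^ (j + 1)) (hle j (by omega))
      haveI : IsClosedImmersion (t ≫ b) := by rw [ht]; infer_instance
      haveI : IsClosedImmersion t := IsClosedImmersion.of_comp t b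
      have hker : BlowUp.IsEffCartierIdeal I.subschemeι.ker := by rw [I.ker_subschemeι]; exact hI
      obtain ⟨S, hS, ⟨e₁⟩, h2, h3⟩ := exists_ses I.subschemeι hker (I ^ (j + 1)) (isEffCartierIdeal_pow hI j)
      let Mj := (Scheme.Modules.pullback I.subschemeι).obj (ClSub.idealMod (I ^ (j + 1)))
      have hMi : PicF.IsInvertible Mj := H11Ample.isInvertible_pullback _
        (H29Blow.isInvertible_of_isEffCartierIdeal _ (isEffCartierIdeal_pow hI j))
      have hMc : Coh.IsCoh Mj := H11Ample.isCoh_of_isInvertible hMi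
      haveI : Mj.IsQuasicoherent := hMc.1
      have h := euler_of_push_ses κ b hS (G₁ := (Coh.push tD).obj Mj) (H10Coh.isCoh_push_of_isFinite tD _ hMc)
        (LeadDev.isCoh_push_structure t) (LeadDev.isCoh_push_structure t₃)
        (e₁ ≪≫ eqToIso (congrArg (fun f : I.subscheme ⟶ X.left => (Coh.push f).obj Mj) htDb.symm) ≪≫
          ((Scheme.Modules.pushforwardComp tD b).app Mj).symm)
        (eqToIso (by rw [h2, I.ker_subschemeι, ← pow_succ, ClSub.quotMod, ← ht]) ≪≫
          ((Scheme.Modules.pushforwardComp t b).app _).symm)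
        (eqToIso (by rw [h3, ClSub.quotMod, ← ht₃b]) ≪≫ ((Scheme.Modules.pushforwardComp t₃ b).app _).symm)
      rw [h, ih (by omega) _ rfl t₃ ht₃b, H28Int.Push.euler_push κ tD rfl Mj,
        euler_pow_eq κ I.subschemeι hI eO j]
      push_cast
      ring
  -- the whole fibre
  let E := I ^ (m + 1)
  obtain ⟨t', ht', htb'⟩ := hfac E (hle m le_rfl)
  let s' : Y ⟶ E.subscheme := IsClosedImmersion.lift E.subschemeι b
    (by rw [Scheme.IdealSheafData.ker_subschemeι, ker_fst_eq, ← hIm])
  have hsb : s' ≫ E.subschemeι = b := IsClosedImmersion.lift_fac _ _ _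
  let eY : E.subscheme ≅ Y := ⟨t', s',
    by rw [← cancel_mono E.subschemeι, Category.assoc, hsb, htb', Category.id_comp],
    by rw [← cancel_mono b, Category.assoc, htb', hsb, Category.id_comp]⟩
  letI : E.subscheme.Over (Spec (CommRingCat.of κ)) := ⟨t' ≫ (Y ↘ Spec (CommRingCat.of κ))⟩
  haveI : IsProper (E.subscheme ↘ Spec (CommRingCat.of κ)) := inferInstanceAs (IsProper (t' ≫ _))
  have hsq' : IsPullback E.subschemeι (E.subscheme ↘ Spec (CommRingCat.of κ)) X.hom (closedPt R) :=
    (IsPullback.of_hasPullback X.hom (closedPt R)).of_iso eY.symm (Iso.refl _) (Iso.refl _) (Iso.refl _)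
      (by simp [eY, hsb, b]) (by
        show pullback.snd X.hom (closedPt R) ≫ (Iso.refl _).hom = s' ≫ t' ≫ pullback.snd X.hom (closedPt R)
        rw [Iso.refl_hom, Category.comp_id, ← Category.assoc, show s' ≫ t' = 𝟙 Y from eY.inv_hom_id,
          Category.id_comp]) (by simp) (by simp)
  have hbc := H28Bc.euler_eq_euler X.hom (Coh.structureModule X.left) (H10Coh.isCoh_structureModule' X.left)
    (H06EGA12.isFlatOver_structureModule X.hom) (H06EGA9.isFP_structureModule)
    g t hsq E.subschemeι (closedPt R) hsq'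
  rw [H25Euler.euler_congr (H16Derived.KFlat.Stalk.structurePullbackIso g),
    H25Euler.euler_congr (H16Derived.KFlat.Stalk.structurePullbackIso E.subschemeι)] at hbc
  haveI : (Coh.structureModule E.subscheme).IsQuasicoherent := H10Coh.isQuasicoherent_unit
  exact ⟨c, by rw [hbc, ← H28Int.Push.euler_push κ t' rfl, hchain m le_rfl E rfl t' htb']⟩

end Groth.Agent.H22Alg.MultFibre
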