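import Groth.Agent.H22Alg.MumfordBdd

/-! # Quotients of a coherent module with Hilbert function in a finite set form a bounded family. -/

set_option autoImplicit false
set_option linter.style.haveILetI false

universe u

open CategoryTheory CategoryTheory.Limits AlgebraicGeometry

namespace Groth.Agent.H22Alg.MumfordBddQuot

open CMField

noncomputable section

variable {k : Type u} [Field k] {n : ℕ}

local notation "P" => CohB1.ProjSpace n k
local notation "O" => fun d : ℤ => Twist.twistProjSpace n k d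

theorem exists_reg {E : (P).Modules} (hE : Coh.IsCoh E) : ∃ m : ℤ, Reg O E m := by
  obtain ⟨N, hN⟩ := CMHyper.exists_van hE
  refine ⟨N + n, fun i hi => ?_⟩
  by_cases hin : i ≤ n
  · exact hN _ (by omega) i hi
  · exact van_high k n (by omega) (H11Ample.isCoh_tensor hE ((setup k n).fam.inv _)).1

/-- Quotients of a fixed module with fixed Hilbert function are uniformly regular. -/
theorem exists_reg_quot {E : (P).Modules} (hE : Coh.IsCoh E) (f : ℤ → ℤ) :
    ∃ M : ℤ, ∀ (F : (P).Modules), Coh.IsCoh F → (∃ p : E ⟶ F, Epi p) →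
      (∀ d : ℤ, Curv2.euler k P (CohB1.tensorMod F (Twist.twistProjSpace n k d)) = f d) → Reg O F M := by
  haveI := CMHyper.noetherian k n
  haveI := MumfordBound.proper_toSpec (k := k) (n := n)
  have hs := setup k n
  obtain ⟨m₀, hm₀⟩ := exists_reg hE
  obtain ⟨p₀, φ, hφ, -⟩ := CMStep.exists_step hE hm₀
  obtain ⟨m₁, hm₁⟩ := MumfordQuot.exists_reg_kernel (k := k) (n := n) p₀ fun t => f (m₀ + t)
  refine ⟨max m₁ 0 + m₀, fun F hF hp hf => ?_⟩
  obtain ⟨p, hp⟩ := hp
  haveI := hp; haveI := hφ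
  let L := Twist.twistProjSpace n k m₀
  have hL : PicF.IsInvertible L := hs.fam.inv m₀
  obtain ⟨w⟩ := hs.fam.add (-m₀) m₀
  obtain ⟨z⟩ := hs.fam.zero
  let B := (DCoh.tensorBi (X := P)).flip.obj L
  haveI : PreservesColimitsOfShape (Discrete (Fin p₀)) B := inferInstance
  let c : FlatMod.freeMod P p₀ ≅ CohB1.tensorMod (∐ fun _ : Fin p₀ => Twist.twistProjSpace n k (-m₀)) L :=
    (Sigma.mapIso fun _ : Fin p₀ =>
      (w ≪≫ eqToIso (congrArg (Twist.twistProjSpace n k) (neg_add_cancel m₀)) ≪≫ z).symm) ≪≫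
    (PreservesCoproduct.iso B (fun _ : Fin p₀ => Twist.twistProjSpace n k (-m₀))).symm
  let F₀ := CohB1.tensorMod F L
  let g : FlatMod.freeMod P p₀ ⟶ F₀ := c.hom ≫ LimSh.tensorModMap (φ ≫ p) L
  haveI : Epi (φ ≫ p) := epi_comp _ _
  haveI : Epi (LimSh.tensorModMap (φ ≫ p) L) := H10Coh.Tw.epi_map (φ ≫ p) hL
  haveI hg : Epi g := epi_comp _ _
  have tw : ∀ t : ℤ, Nonempty (CohB1.tensorMod F₀ (Twist.twistProjSpace n k t) ≅
      CohB1.tensorMod F (Twist.twistProjSpace n k (m₀ + t))) := fun t => by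
    obtain ⟨v⟩ := hs.fam.add m₀ t
    exact ⟨H10Coh.Tw.assoc _ _ _ ≪≫ PicGrp.tensorModIso (Iso.refl F) v⟩
  have hF₀ : Coh.IsCoh F₀ := H11Ample.isCoh_tensor hF hL
  have hK := hm₁ F₀ g hF₀ hg fun t => by
    obtain ⟨e⟩ := tw t
    rw [H25Euler.euler_congr e, hf]
  intro i hi
  by_cases hin : i ≤ n
  swap
  · exact van_high k n (by omega) (H11Ample.isCoh_tensor hF (hs.fam.inv _)).1
  obtain ⟨e⟩ := tw (max m₁ 0 - i)
  refine H10Coh.Tw.subsingleton_of_iso
    (e ≪≫ PicGrp.tensorModIso (Iso.refl F) (eqToIso (congrArg (Twist.twistProjSpace n k) (show m₀ + (max m₁ 0 - i) = max m₁ 0 + m₀ - i by omega)))) ?_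
  refine H10Coh.Tw.subsingleton_X₃
    (H10Coh.shortExact_sh (H10Coh.Tw.shortExact_seq (MumfordQuot.shortExact_kernel g) (hs.fam.inv _))) ?_ ?_
  · exact CMStep.van_free k n p₀ hi (by omega) (Iso.refl _)
  · obtain ⟨t, ht⟩ := Int.le.dest (show m₁ ≤ max m₁ 0 - i + ((i + 1 : ℕ) : ℤ) by omega)
    have := reg_add hs hK t (i + 1) (by omega)
    rwa [show m₁ + (t : ℤ) - ((i + 1 : ℕ) : ℤ) = max m₁ 0 - i by omega] at this

end

end Groth.Agent.H22Alg.MumfordBddQuot
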