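import Mathlib
import Groth.Agent.H22Alg.CurveReg
import Groth.Agent.H22Alg.DegBundle
import Groth.Agent.H22Alg.PB.Push
import Groth.Agent.H16Derived.ExtSES

/-! # Degrees of exterior powers on a regular curve -/

set_option autoImplicit false
set_option linter.style.haveILetI false
universe u

open CategoryTheory CategoryTheory.Limits AlgebraicGeometry TopologicalSpace

noncomputable section

namespace Groth.Agent.H22Alg.NefDegExt

open H29RR (locFree_of_rank isCoh_of_rank)

attribute [local instance] HasDerivedCategory.standard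

/-- The coefficient of the degree in the degree of an exterior power. -/
def cf (n : ℕ) : ℕ → ℤ
  | 0 => 0
  | q + 1 => ((n - 1).choose q : ℤ)

theorem sum_choose_cf {a c : ℕ} (ha : 0 < a) (i : ℕ) :
    ∑ j ∈ Finset.range (i + 1), (c.choose (i - j) : ℤ) * cf a j = cf (a + c) i := by
  obtain ⟨b, rfl⟩ : ∃ b, a = b + 1 := ⟨a - 1, by omega⟩
  cases i with
  | zero => simp [cf]
  | succ q =>
    rw [Finset.sum_range_succ']
    simp only [cf, mul_zero, add_zero, Nat.add_sub_cancel, Nat.add_sub_add_right, Nat.add_right_comm b 1 c]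
    rw [Nat.add_choose_eq, Finset.Nat.sum_antidiagonal_eq_sum_range_succ (fun x y => b.choose x * c.choose y),
      Nat.cast_sum]
    exact Finset.sum_congr rfl fun j _ => by push_cast; ring

theorem sum_cf_choose {a c : ℕ} (hc : 0 < c) (i : ℕ) :
    ∑ j ∈ Finset.range (i + 1), (a.choose j : ℤ) * cf c (i - j) = cf (a + c) i := by
  rw [← Finset.sum_range_reflect, add_comm a c, ← sum_choose_cf hc i (c := a)]
  refine Finset.sum_congr rfl fun j hj => ?_
  have := Finset.mem_range.1 hj
  rw [show i + 1 - 1 - j = i - j by omega, show i - (i - j) = j by omega]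

variable (k : Type u) [Field k] {X : Scheme.{u}} [X.Over (Spec (CommRingCat.of k))]
  [IsProper (X ↘ Spec (CommRingCat.of k))] [IsIntegral X]

omit [IsProper (X ↘ Spec (CommRingCat.of k))] [X.Over (Spec (CommRingCat.of k))] [IsIntegral X] in
theorem rank_extPow {n : ℕ} {A : X.Modules} (hA : FlatMod.IsFinLocFreeOfRank n A) {p : ℕ} {L : X.Modules}
    (hL : ExtPow.IsExtPow p A L) : FlatMod.IsFinLocFreeOfRank (n.choose p) L :=
  PB.rank_of_rk (ExtPowHom.finLocFree_of_isExtPow (locFree_of_rank hA) hL) fun x => by
    rw [KExists.rk_extPow (locFree_of_rank hA) hL, KExists.rk_of_rank hA]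

/-- The degree of an exterior power. -/
theorem deg_extPow (hdim : topologicalKrullDim X ≤ 1) (hreg : ∀ x : X, IsRegularLocalRing (X.presheaf.stalk x)) :
    ∀ (n : ℕ) (A : X.Modules), FlatMod.IsFinLocFreeOfRank n A → ∀ (p : ℕ) (L : X.Modules),
      ExtPow.IsExtPow p A L → Curv2.deg k X L (n.choose p) = cf n p * Curv2.deg k X A n := by
  haveI : IsNoetherian X := H29RR.isNoetherian_of_proper (k := k) (X := X)
  intro n
  induction n using Nat.strong_induction_on with
  | _ n ih =>
    intro A hA p L hL
    rcases Nat.lt_or_ge n 2 with hn | hn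
    · match p with
      | 0 =>
        obtain ⟨e⟩ := ExtPowHom.nonempty_iso hL (KExists.isExtPow_zero A)
        simp [cf, Curv2.deg, H25Euler.euler_congr (k := k) e]
      | 1 =>
        obtain ⟨e⟩ := ExtPowHom.nonempty_iso hL (KExists.isExtPow_one A)
        simp [cf, Curv2.deg, H25Euler.euler_congr (k := k) e]
      | q + 2 =>
        have hz := PB.isZero_extPow_of_gt hA hL (by omega)
        have h1 : n.choose (q + 2) = 0 := Nat.choose_eq_zero_of_lt (by omega)
        have h2 : (n - 1).choose (q + 1) = 0 := Nat.choose_eq_zero_of_lt (by omega)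
        simp [cf, Curv2.deg, h1, h2, H25Euler.euler_eq_zero_of_isZero (k := k) hz]
    · obtain ⟨m, rfl⟩ : ∃ m, n = m + 2 := ⟨n - 2, by omega⟩
      obtain ⟨S, a, c, hS, rfl, ha, hc, hac, ha0, hc0⟩ := CurveReg.exists_split (k := k) hdim hreg hA
      let LA := fun j => KExists.extP j S.X₁
      let LC := fun j => KExists.extP j S.X₃
      have hLA : ∀ j, ExtPow.IsExtPow j S.X₁ (LA j) := fun j => KExists.extP_spec j (locFree_of_rank ha)
      have hLC : ∀ j, ExtPow.IsExtPow j S.X₃ (LC j) := fun j => KExists.extP_spec j (locFree_of_rank hc)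
      obtain ⟨g, hg⟩ := KModel.exists_lift (X := X) (fun M => Curv2.euler k X M) fun S' hS' h₁ h₂ h₃ =>
        H25Euler.euler_add (k := k) hS' (H16Derived.KFlat.Stalk.isCoh_of_isFinLocFree h₁)
          (H16Derived.KFlat.Stalk.isCoh_of_isFinLocFree h₂) (H16Derived.KFlat.Stalk.isCoh_of_isFinLocFree h₃)
      have hsum : Curv2.euler k X L =
          ∑ j ∈ Finset.range (p + 1), Curv2.euler k X (CohB1.tensorMod (LA j) (LC (p - j))) := by
        rw [← hg L (ExtPowHom.finLocFree_of_isExtPow (locFree_of_rank hA) hL),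
          H16Derived.ExtSES.cl_extPow_shortExact hS (locFree_of_rank ha) (locFree_of_rank hA) (locFree_of_rank hc)
            hL LA LC hLA hLC, map_sum]
        exact Finset.sum_congr rfl fun j _ => hg _ (H16Derived.KFlat.Stalk.isFinLocFree_tensor
          (ExtPowHom.finLocFree_of_isExtPow (locFree_of_rank ha) (hLA j))
          (ExtPowHom.finLocFree_of_isExtPow (locFree_of_rank hc) (hLC (p - j))))
      have hterm : ∀ j, Curv2.euler k X (CohB1.tensorMod (LA j) (LC (p - j))) =
          ((a.choose j : ℤ) * (c.choose (p - j) : ℤ)) * Curv2.euler k X (Coh.structureModule X) +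
            ((c.choose (p - j) : ℤ) * cf a j) * Curv2.deg k X S.X₁ a +
              ((a.choose j : ℤ) * cf c (p - j)) * Curv2.deg k X S.X₃ c := fun j => by
        have h := DegBundle.defect_eq k hdim (rank_extPow ha (hLA j)) (rank_extPow hc (hLC (p - j)))
        have h1 := ih a (by omega) S.X₁ ha j _ (hLA j)
        have h2 := ih c (by omega) S.X₃ hc (p - j) _ (hLC (p - j))
        simp only [Curv2.deg] at h1 h2 ⊢
        linear_combination h + (c.choose (p - j) : ℤ) * h1 + (a.choose j : ℤ) * h2
      have hvm : ∑ j ∈ Finset.range (p + 1), (a.choose j : ℤ) * (c.choose (p - j) : ℤ) = ((a + c).choose p : ℤ) := by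
        rw [Nat.add_choose_eq, Finset.Nat.sum_antidiagonal_eq_sum_range_succ (fun x y => a.choose x * c.choose y),
          Nat.cast_sum]
        exact Finset.sum_congr rfl fun j _ => by push_cast; ring
      obtain ⟨-, hd⟩ := H29RR.deg_add_of_shortExact (k := k) hS ha hA hc
      rw [← hac] at hd ⊢
      rw [show Curv2.deg k X L ((a + c).choose p) =
        Curv2.euler k X L - ((a + c).choose p : ℤ) * Curv2.euler k X (Coh.structureModule X) from rfl, hsum, hd,
        Finset.sum_congr rfl fun j _ => hterm j, Finset.sum_add_distrib, Finset.sum_add_distrib,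
        ← Finset.sum_mul, ← Finset.sum_mul, ← Finset.sum_mul, hvm, sum_choose_cf ha0, sum_cf_choose hc0]
      ring

end Groth.Agent.H22Alg.NefDegExt
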