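import Mathlib
import Groth.Agent.H22Alg.NefDegExt
import Groth.Agent.H22Alg.NefBundle
import Groth.Agent.H22Alg.PB.AmpleDim
import Groth.Agent.H22Alg.PB.Exists
import Groth.Agent.H22Alg.IntPush
import Groth.Agent.H10Coh.ProjFormulaFLF

/-! # A bundle that is nef on curves has nonnegative degree on a regular curve -/

set_option autoImplicit false
set_option linter.style.haveILetI false
universe u

open CategoryTheory CategoryTheory.Limits AlgebraicGeometry TopologicalSpace

noncomputable section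

namespace Groth.Agent.H22Alg.NefDeg

open H29RR (locFree_of_rank isCoh_of_rank)

/-- Nef in the curve-test sense. -/
def CNef (k : Type u) [Field k] (X : Scheme.{u}) [X.Over (Spec (CommRingCat.of k))] (E : X.Modules) : Prop :=
  ∀ (C : Scheme.{u}) [C.Over (Spec (CommRingCat.of k))] [IsProper (C ↘ (Spec (CommRingCat.of k)))] [IsIntegral C],
    topologicalKrullDim C = 1 → (∀ x : C, IsRegularLocalRing (C.presheaf.stalk x)) →
    ∀ (f : C ⟶ X), f ≫ (X ↘ (Spec (CommRingCat.of k))) = C ↘ (Spec (CommRingCat.of k)) →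
    ∀ (M : C.Modules), PicF.IsInvertible M →
    ∀ (q : (Scheme.Modules.pullback f).obj E ⟶ M), Epi q → 0 ≤ Curv2.deg k C M 1

/-- A pullback of a nef bundle is nef. -/
theorem CNef.pullback {k : Type u} [Field k] {X Y : Scheme.{u}} [X.Over (Spec (CommRingCat.of k))]
    [Y.Over (Spec (CommRingCat.of k))] {E : X.Modules} (h : CNef k X E) (g : Y ⟶ X)
    (hg : g ≫ (X ↘ Spec (CommRingCat.of k)) = Y ↘ Spec (CommRingCat.of k)) :
    CNef k Y ((Scheme.Modules.pullback g).obj E) := by
  intro C _ _ _ hC hreg f hf M hM q hq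
  haveI := hq
  exact h C hC hreg (f ≫ g) (by rw [Category.assoc, hg, hf]) M hM
    ((Scheme.Modules.pullbackComp f g).inv.app E ≫ q) inferInstance

/-- A quotient of a nef bundle is nef. -/
theorem CNef.quotient {k : Type u} [Field k] {X : Scheme.{u}} [X.Over (Spec (CommRingCat.of k))] {E F : X.Modules}
    (h : CNef k X E) (φ : E ⟶ F) [Epi φ] : CNef k X F := by
  intro C _ _ _ hC hreg f hf M hM q hq
  haveI := hq
  haveI := (Scheme.Modules.pullbackPushforwardAdjunction f).isLeftAdjoint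
  exact h C hC hreg f hf M hM ((Scheme.Modules.pullback f).map φ ≫ q) inferInstance

theorem binom_identity {r : ℕ} (f : ℤ → ℤ)
    (hrec : ∀ d : ℤ, 1 ≤ d → ∑ p ∈ Finset.range (r + 2), (-1 : ℤ) ^ p * ((r + 1).choose p : ℤ) * f (d - p) = 0)
    (h0 : f 0 = 1) (hneg : ∀ d : ℤ, -(r : ℤ) ≤ d → d < 0 → f d = 0) :
    ∑ q ∈ Finset.range (r + 1), (-1 : ℤ) ^ q * (r.choose q : ℤ) * f ((r : ℤ) - q) = 1 := by
  let h : ℤ → ℤ := fun d => ∑ q ∈ Finset.range (r + 1), (-1 : ℤ) ^ q * (r.choose q : ℤ) * f (d - q)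
  have step : ∀ d : ℤ, 1 ≤ d → h d = h (d - 1) := fun d hd => by
    have h1 := hrec d hd
    rw [Finset.sum_range_succ'] at h1
    have e : ∀ p : ℕ, (-1 : ℤ) ^ (p + 1) * ((r + 1).choose (p + 1) : ℤ) * f (d - (p + 1 : ℕ)) =
        -((-1 : ℤ) ^ p * (r.choose p : ℤ) * f (d - 1 - p)) +
          (-1 : ℤ) ^ (p + 1) * (r.choose (p + 1) : ℤ) * f (d - (p + 1 : ℕ)) := fun p => by
      rw [Nat.choose_succ_succ', show d - ((p + 1 : ℕ) : ℤ) = d - 1 - p by push_cast; ring]
      push_cast
      ring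
    rw [Finset.sum_congr rfl fun p _ => e p, Finset.sum_add_distrib, Finset.sum_neg_distrib] at h1
    have e2 : h d = ∑ p ∈ Finset.range (r + 1), (-1 : ℤ) ^ (p + 1) * (r.choose (p + 1) : ℤ) * f (d - (p + 1 : ℕ)) +
        f d := by
      have := Finset.sum_range_succ' (fun q : ℕ => (-1 : ℤ) ^ q * (r.choose q : ℤ) * f (d - q)) (r + 1)
      rw [Finset.sum_range_succ] at this
      simpa [h, Nat.choose_eq_zero_of_lt r.lt_succ_self] using this
    simp only [pow_zero, Nat.choose_zero_right, Nat.cast_one, mul_one, one_mul, Nat.cast_zero, sub_zero] at h1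
    show h d = h (d - 1)
    rw [e2]
    simp only [h]
    linarith
  have hn : ∀ n : ℕ, h n = h 0 := fun n => by
    induction n with
    | zero => rfl
    | succ n ih => rw [step _ (by omega), show ((n + 1 : ℕ) : ℤ) - 1 = (n : ℤ) by omega, ih]
  show h (r : ℤ) = 1
  rw [hn r]
  show ∑ q ∈ Finset.range (r + 1), _ = (1 : ℤ)
  rw [Finset.sum_eq_single 0]
  · simp [h0]
  · intro q hq hq0
    rw [hneg _ (by have := Finset.mem_range.1 hq; omega) (by omega), mul_zero]
  · simp

variable (k : Type u) [Field k]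

/-- The universal quotient of a nef bundle on a curve is nef. -/
theorem nef_O1 {C P : Scheme.{u}} [C.Over (Spec (CommRingCat.of k))] [P.Over (Spec (CommRingCat.of k))]
    [IsProper (P ↘ Spec (CommRingCat.of k))] (π : P ⟶ C)
    (hπ : π ≫ (C ↘ Spec (CommRingCat.of k)) = P ↘ Spec (CommRingCat.of k))
    {A : C.Modules} (hA : CNef k C A) {O1 : P.Modules} (hO : PicF.IsInvertible O1)
    (q : (Scheme.Modules.pullback π).obj A ⟶ O1) [Epi q] : Kleiman.Nef k O1 := by
  intro Z i _ _ hZ
  letI : Z.Over (Spec (CommRingCat.of k)) := ⟨i ≫ (P ↘ Spec (CommRingCat.of k))⟩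
  haveI : IsProper (Z ↘ Spec (CommRingCat.of k)) := inferInstanceAs (IsProper (i ≫ _))
  obtain ⟨N, hN, ν, hNp, hNd, hNreg, hν, hdeg⟩ :=
    NefBundle.exists_regular_curve_over k (by simpa using hZ) (𝟙 Z) (Category.id_comp _)
  haveI := hN
  rw [Category.comp_id] at hν hdeg
  letI : N.Over (Spec (CommRingCat.of k)) := ⟨ν ≫ (Z ↘ Spec (CommRingCat.of k))⟩
  haveI : IsProper (N ↘ Spec (CommRingCat.of k)) := hNp
  let g := ν ≫ i
  have hg : g ≫ (P ↘ Spec (CommRingCat.of k)) = N ↘ Spec (CommRingCat.of k) := Category.assoc _ _ _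
  haveI := (Scheme.Modules.pullbackPushforwardAdjunction g).isLeftAdjoint
  have hM : PicF.IsInvertible ((Scheme.Modules.pullback g).obj O1) := H11Ample.isInvertible_pullback g hO
  have h0 : 0 ≤ Curv2.deg k N ((Scheme.Modules.pullback g).obj O1) 1 :=
    (hA.pullback π hπ) N hNd hNreg g hg _ hM ((Scheme.Modules.pullback g).map q) inferInstance
  have hl : ∀ L ∈ [O1], PicF.IsInvertible L := List.forall_mem_singleton.2 hO
  have hd1 : topologicalKrullDim N = (([O1].length : ℕ) : WithBot ℕ∞) := by simpa using hNd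
  have e := IntPullback.D_pullback_subscheme k (𝟙 N) g hg [O1] hl hd1
  rw [List.map_singleton, Nakai.D_quotMod_id k (List.forall_mem_singleton.2 hM) hd1] at e
  have hneg : H28Int.D k [(Scheme.Modules.pullback g).obj O1] (Coh.structureModule N) =
      -Curv2.deg k N ((Scheme.Modules.pullback g).obj O1) 1 := by
    show Curv2.euler k N _ - Curv2.euler k N _ = -(_ - _)
    rw [H25Euler.euler_congr (k := k) (H10Coh.Tw.rightUnitIso ((Scheme.Modules.pullback g).obj O1))]
    push_cast
    ring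
  rw [hneg, CycBasic.residueDegree_comp (𝟙 N) g, CycBasic.residueDegree_comp ν i,
    IntPullback.residueDegree_of_surjective (𝟙 N) _ ((𝟙 N : N ⟶ N).stalkMap_surjective _), mul_one,
    IntPullback.quotMod_ker (𝟙 N ≫ g), IntPullback.residueDegree_of_surjective i _ (i.stalkMap_surjective _),
    one_mul, Category.id_comp] at e
  have hgη : g (genericPoint N) = i (genericPoint Z) := by rw [Scheme.Hom.comp_apply, hν]
  rw [hgη, ← IntPullback.quotMod_ker i] at e
  show 0 ≤ (-1 : ℤ) ^ 1 * H28Int.D k [O1] (ClSub.quotMod i.ker)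
  have hpos : (0 : ℤ) < ν.residueDegree ((𝟙 N : N ⟶ N) (genericPoint N)) := by exact_mod_cast hdeg
  refine nonneg_of_mul_nonneg_right ?_ hpos
  rw [pow_one, neg_one_mul, mul_neg, ← e, neg_neg]
  exact h0

variable {X : Scheme.{u}} [X.Over (Spec (CommRingCat.of k))] [IsProper (X ↘ Spec (CommRingCat.of k))]

/-- Iterated differences along a family of twists. -/
theorem D_replicate {O : ℤ → X.Modules} (hO : H10Coh.Stab.IsTwistFamily O) {L : X.Modules} (e : O 1 ≅ L) :
    ∀ (n : ℕ) (i : ℤ), H28Int.D k (List.replicate n L) (O i) =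
      ∑ j ∈ Finset.range (n + 1), (-1 : ℤ) ^ j * (n.choose j : ℤ) * Curv2.euler k X (O (i + j)) := by
  haveI := H28Int.isNoetherian k (X := X)
  have hL : PicF.IsInvertible L := H11Tilde.isInvertible_of_iso e (hO.inv 1)
  intro n
  induction n with
  | zero => intro i; simp [H28Int.D]
  | succ n ih =>
    intro i
    obtain ⟨a⟩ := hO.add 1 i
    show H28Int.D k (List.replicate n L) (O i) - H28Int.D k (List.replicate n L) (CohB1.tensorMod L (O i)) = _
    rw [(H28Int.isAddFn_D k _ (Nakai.inv_replicate hL n)).congr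
      (PicGrp.tensorModIso e.symm (Iso.refl _) ≪≫ a), ih, ih]
    rw [Finset.sum_range_succ' _ (n + 1), Finset.sum_range_succ' _ n]
    have e1 : ∀ j : ℕ, (-1 : ℤ) ^ (j + 1) * ((n + 1).choose (j + 1) : ℤ) * Curv2.euler k X (O (i + (j + 1 : ℕ))) =
        -((-1 : ℤ) ^ j * (n.choose j : ℤ) * Curv2.euler k X (O (1 + i + j))) +
          (-1 : ℤ) ^ (j + 1) * (n.choose (j + 1) : ℤ) * Curv2.euler k X (O (i + (j + 1 : ℕ))) := fun j => by
      rw [Nat.choose_succ_succ', show i + ((j + 1 : ℕ) : ℤ) = 1 + i + j by push_cast; ring]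
      push_cast
      ring
    rw [Finset.sum_congr rfl fun j _ => e1 j, Finset.sum_add_distrib, Finset.sum_neg_distrib,
      Finset.sum_range_succ (fun j : ℕ => (-1 : ℤ) ^ (j + 1) * (n.choose (j + 1) : ℤ) *
        Curv2.euler k X (O (i + (j + 1 : ℕ)))) n, Nat.choose_eq_zero_of_lt n.lt_succ_self]
    simp only [Nat.choose_zero_right, Nat.cast_zero, mul_zero, zero_mul, add_zero]
    ring

variable [IsIntegral X]

omit [X.Over (Spec (CommRingCat.of k))] [IsProper (X ↘ Spec (CommRingCat.of k))] [IsIntegral X] in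
/-- The projection formula with an auxiliary isomorphism. -/
theorem nonempty_projIso {P : Scheme.{u}} (π : P ⟶ X) (F : P.Modules) {B B' : X.Modules}
    (hB : FlatMod.IsFinLocFree B) (e : B' ≅ B) :
    Nonempty (CohB1.tensorMod ((Scheme.Modules.pushforward π).obj F) B ≅
      (Scheme.Modules.pushforward π).obj (CohB1.tensorMod F ((Scheme.Modules.pullback π).obj B'))) := by
  have a : CohB1.tensorMod ((Scheme.Modules.pushforward π).obj F) B ≅
      (Scheme.Modules.pushforward π).obj (CohB1.tensorMod F ((Scheme.Modules.pullback π).obj B)) :=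
    @asIso _ _ _ _ (H10Coh.PF.ψT π B F) (H10Coh.PF.isIso_ψ_of_isFinLocFree π hB F)
  exact ⟨a ≪≫ (Scheme.Modules.pushforward π).mapIso
    (PicGrp.tensorModIso (Iso.refl F) ((Scheme.Modules.pullback π).mapIso e.symm))⟩

/-- Invariants of a tensor product of bundles on a curve. -/
theorem tensor_data (hdim : topologicalKrullDim X ≤ 1) {V B : X.Modules} (hV : FlatMod.IsFinLocFree V) {c : ℕ}
    (hB : FlatMod.IsFinLocFreeOfRank c B) :
    FlatMod.IsFinLocFree (CohB1.tensorMod V B) ∧
      (KExists.rk (genericPoint X) (CohB1.tensorMod V B) : ℤ) = (KExists.rk (genericPoint X) V : ℤ) * (c : ℤ) ∧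
      Curv2.euler k X (CohB1.tensorMod V B) = (c : ℤ) * Curv2.euler k X V +
        (KExists.rk (genericPoint X) V : ℤ) * Curv2.deg k X B c := by
  refine ⟨H16Derived.KFlat.Stalk.isFinLocFree_tensor hV (locFree_of_rank hB), ?_, ?_⟩
  · have h : KExists.rk (genericPoint X) (CohB1.tensorMod V B) = _ :=
      KExists.rk_tensor hV (locFree_of_rank hB) (genericPoint X)
    rw [h, KExists.rk_of_rank hB]
    push_cast
    rfl
  · have h := DegBundle.defect_eq k hdim (KExists.ofRank_rk hV (genericPoint X)) hB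
    simp only [Curv2.deg] at h ⊢
    linear_combination h

/-- **A nef bundle on a regular curve has nonnegative degree.** -/
theorem deg_nonneg (hdim : topologicalKrullDim X = 1) (hreg : ∀ x : X, IsRegularLocalRing (X.presheaf.stalk x))
    {n : ℕ} {A : X.Modules} (hA : FlatMod.IsFinLocFreeOfRank n A) (hnef : CNef k X A) :
    0 ≤ Curv2.deg k X A n := by
  haveI : IsNoetherian X := H28Int.isNoetherian k (X := X)
  rcases n with _ | r
  · rw [H29RR.deg_eq_zero_of_rank_zero (k := k) hA]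
  have hA' := locFree_of_rank hA
  obtain ⟨P, π, O1, q, hPB⟩ := PB.exists_isProjBundle A (isCoh_of_rank hA).1
  haveI := hPB.epi
  have hπ := PB.isPn_of_isProjBundle hA hPB
  have hO1 : PicF.IsInvertible O1 := PB.isInvertible_of_rank_one hPB.invertible
  obtain ⟨eO⟩ := PB.nonempty_pw_one hO1
  let O : ℤ → P.Modules := PB.pw hO1
  have hOt : H10Coh.Stab.IsTwistFamily O := hπ.tw
  haveI := hπ.isProper
  letI : P.Over (Spec (CommRingCat.of k)) := ⟨π ≫ (X ↘ Spec (CommRingCat.of k))⟩
  haveI : IsProper (P ↘ Spec (CommRingCat.of k)) := inferInstanceAs (IsProper (π ≫ _))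
  haveI : IsNoetherian P := H28Int.isNoetherian k (X := P)
  have hknef : Kleiman.Nef k O1 := nef_O1 k π rfl hnef hO1 q
  -- the top self-intersection is nonnegative
  have hQ : 0 ≤ NefQ.Q k (List.replicate (r + 1) O1) (Coh.structureModule P) := by
    refine NefQ.nonneg_of_integral k (Nakai.inv_replicate hO1 _) (H28Int.Surface.isCoh_structure k) ?_ ?_
    · rw [List.length_replicate, add_comm r 1]
      exact (Topology.IsInducing.subtypeVal.topologicalKrullDim_le).trans
        (PB.IsPn.topologicalKrullDim_le hπ (d := 1) (by simpa using hdim.le))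
    · intro W _ _ _ i _ hi hW
      have hL : PicF.IsInvertible ((Scheme.Modules.pullback i).obj O1) := H11Ample.isInvertible_pullback i hO1
      rw [List.length_replicate] at hW
      haveI := (NakaiPos.ker_data (𝟙 W)).1
      have h := Kleiman.nonneg k hL (Kleiman.nef_pullback k i hi hO1 hknef) (𝟙 W : W ⟶ W).ker
        (d := r + 1) ((NakaiPos.ker_data (𝟙 W)).2.trans hW)
      rw [Nakai.D_quotMod_id k (Nakai.inv_replicate hL _) (by rw [List.length_replicate, hW])] at h
      rw [NefQ.Q, List.map_replicate, List.length_replicate]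
      exact h
  -- direct images of the twists
  have hvan : ∀ d : ℤ, -(r : ℤ) ≤ d → ∀ i : ℕ, 1 ≤ i → PB.Van π i (O d) := fun d hd i hi =>
    hπ.van_O (by omega) (by omega)
  have hV : ∀ d : ℤ, -(r : ℤ) ≤ d → FlatMod.IsFinLocFree ((Scheme.Modules.pushforward π).obj (O d)) :=
    fun d hd => hπ.finLocFree_push (hπ.finLocFree_O d) (hvan d hd)
  let η := genericPoint X
  let ρ : ℤ → ℤ := fun d => (KExists.rk η ((Scheme.Modules.pushforward π).obj (O d)) : ℤ)
  let χ : ℤ → ℤ := fun d => Curv2.euler k X ((Scheme.Modules.pushforward π).obj (O d))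
  have hχP : ∀ d : ℤ, -(r : ℤ) ≤ d → Curv2.euler k P (O d) = χ d := fun d hd =>
    (IntPush.euler_push k π rfl (O d) fun U hU p hp => by
      obtain ⟨m, rfl⟩ : ∃ m, p = m + 1 := ⟨p - 1, by omega⟩
      exact PB.subsingleton_of_van (H8Props.FinLocFree.isQCoh_of_isFinLocFree _ (hπ.finLocFree_O d))
        (hvan d hd _ (by omega)) hU).symm
  -- the homomorphisms on classes
  obtain ⟨gR, hgR⟩ := KModel.exists_lift (X := X) (fun M => (KExists.rk η M : ℤ)) fun S hS h₁ _ h₃ => by
    exact_mod_cast KExists.rk_add hS h₁ h₃ η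
  obtain ⟨gE, hgE⟩ := KModel.exists_lift (X := X) (fun M => Curv2.euler k X M) fun S hS h₁ h₂ h₃ =>
    H25Euler.euler_add (k := k) hS (H16Derived.KFlat.Stalk.isCoh_of_isFinLocFree h₁)
      (H16Derived.KFlat.Stalk.isCoh_of_isFinLocFree h₂) (H16Derived.KFlat.Stalk.isCoh_of_isFinLocFree h₃)
  -- the recursion
  let M := fun j => KExists.extP j A
  have hM : ∀ j, ExtPow.IsExtPow j A (M j) := fun j => KExists.extP_spec j hA'
  have hMr : ∀ j, FlatMod.IsFinLocFreeOfRank ((r + 1).choose j) (M j) := fun j => NefDegExt.rank_extPow hA (hM j)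
  have hMf : ∀ j, FlatMod.IsFinLocFree (M j) := fun j => locFree_of_rank (hMr j)
  have hterm : ∀ e : ℤ, -(r : ℤ) ≤ e → ∀ p : ℕ,
      ∃ F : X.Modules, FlatMod.IsFinLocFree F ∧
        PB.cP π (PB.tw O e ((Scheme.Modules.pullback π).obj (CohB1.tensorMod (M p) (Coh.structureModule X)))) =
          KRR.cl X F ∧ (KExists.rk η F : ℤ) = ρ e * ((r + 1).choose p : ℤ) ∧
        Curv2.euler k X F = ((r + 1).choose p : ℤ) * χ e +
          ρ e * (NefDegExt.cf (r + 1) p * Curv2.deg k X A (r + 1)) := fun e he p => by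
    obtain ⟨φ⟩ := nonempty_projIso π (O e) (hMf p) (H10Coh.Tw.rightUnitIso (M p))
    obtain ⟨hF, hrk, heu⟩ := tensor_data k hdim.le (hV e he) (hMr p)
    refine ⟨_, hF, (KModel.cl_iso φ hF).symm, hrk, ?_⟩
    rw [heu, NefDegExt.deg_extPow k hdim.le hreg (r + 1) A hA p (M p) (hM p)]
  have hval : ∀ d : ℤ, 1 ≤ d →
      ∑ p ∈ Finset.range (r + 2), (-1 : ℤ) ^ p * ((r + 1).choose p : ℤ) * ρ (d - p) = 0 ∧
      ∑ p ∈ Finset.range (r + 2), (-1 : ℤ) ^ p * (((r + 1).choose p : ℤ) * χ (d - p) +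
        ρ (d - p) * (NefDegExt.cf (r + 1) p * Curv2.deg k X A (r + 1))) = 0 := fun d hd => by
    have h := PB.val_rec hA hPB hπ ⟨eO⟩ M hM (KExists.finLocFree_structure X) hd
    constructor
    · refine Eq.trans (Finset.sum_congr rfl fun p hp => ?_) ((congrArg gR h).trans (map_zero gR) |> fun h => by
        rw [map_sum] at h; exact h)
      obtain ⟨F, hF, hcl, hrk, -⟩ := hterm (d - p) (by have := Finset.mem_range.1 hp; omega) p
      rw [map_zsmul, hcl, hgR F hF, hrk, smul_eq_mul]
      ring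
    · refine Eq.trans (Finset.sum_congr rfl fun p hp => ?_) ((congrArg gE h).trans (map_zero gE) |> fun h => by
        rw [map_sum] at h; exact h)
      obtain ⟨F, hF, hcl, -, heu⟩ := hterm (d - p) (by have := Finset.mem_range.1 hp; omega) p
      rw [map_zsmul, hcl, hgE F hF, heu, smul_eq_mul]
  have hM0 : FlatMod.IsFinLocFree (CohB1.tensorMod (M 0) (Coh.structureModule X)) :=
    (tensor_data k hdim.le (hMf 0)
      (H29RR.rank_one_of_isInvertible (H11Ample.isInvertible_structureModule (X := X)))).1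
  have hone : ρ 0 = 1 := by
    obtain ⟨F, hF, hcl, hrk, -⟩ := hterm 0 (by omega) 0
    rw [hπ.val_zero hM0] at hcl
    have h2 := congrArg gR hcl
    rw [hgR _ hM0, hgR F hF, hrk,
      (tensor_data k hdim.le (hMf 0)
        (H29RR.rank_one_of_isInvertible (H11Ample.isInvertible_structureModule (X := X)))).2.1,
      KExists.rk_of_rank (hMr 0)] at h2
    simp only [Nat.choose_zero_right, Nat.cast_one, mul_one] at h2
    exact h2.symm
  have hneg : ∀ d : ℤ, -(r : ℤ) ≤ d → d < 0 → ρ d = 0 := fun d h1 h2 => by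
    obtain ⟨F, hF, hcl, hrk, -⟩ := hterm d h1 0
    rw [hπ.val_neg h1 h2 hM0] at hcl
    have h3 := congrArg gR hcl
    rw [map_zero, hgR F hF, hrk] at h3
    simpa using h3.symm
  have hh := binom_identity ρ (fun d hd => (hval d hd).1) hone hneg
  have htop := (hval ((r : ℤ) + 1) (by omega)).2
  -- compare
  obtain ⟨e0⟩ := hOt.zero
  have hD : H28Int.D k (List.replicate (r + 1) O1) (Coh.structureModule P) =
      (-1 : ℤ) ^ (r + 1) *
        ∑ p ∈ Finset.range (r + 2), (-1 : ℤ) ^ p * (((r + 1).choose p : ℤ) * χ ((r : ℤ) + 1 - p)) := by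
    rw [← (H28Int.isAddFn_D k _ (Nakai.inv_replicate hO1 (r + 1))).congr e0, D_replicate k hOt eO (r + 1) 0,
      ← Finset.sum_range_reflect, Finset.mul_sum]
    refine Finset.sum_congr rfl fun p hp => ?_
    have hp' : p ≤ r + 1 := Nat.le_of_lt_succ (Finset.mem_range.1 hp)
    rw [show r + 1 + 1 - 1 - p = r + 1 - p by omega, hχP _ (by omega), Nat.choose_symm hp',
      show (0 : ℤ) + ((r + 1 - p : ℕ) : ℤ) = (r : ℤ) + 1 - p by omega,
      show (-1 : ℤ) ^ (r + 1 - p) = (-1 : ℤ) ^ (r + 1) * (-1 : ℤ) ^ p by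
        rw [← pow_add]
        rw [show r + 1 + p = (r + 1 - p) + 2 * p by omega, pow_add, pow_mul, neg_one_sq, one_pow, mul_one]]
    ring
  have hcf : ∑ p ∈ Finset.range (r + 2), (-1 : ℤ) ^ p * (ρ ((r : ℤ) + 1 - p) * NefDegExt.cf (r + 1) p) = -1 := by
    refine Eq.trans ?_ (congrArg Neg.neg hh)
    rw [Finset.sum_range_succ', ← Finset.sum_neg_distrib]
    simp only [NefDegExt.cf, mul_zero, add_zero, Nat.add_sub_cancel]
    refine Finset.sum_congr rfl fun q _ => ?_
    rw [show (r : ℤ) + 1 - ((q + 1 : ℕ) : ℤ) = (r : ℤ) - q by push_cast; ring]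
    ring
  simp only [mul_add, Finset.sum_add_distrib, ← mul_assoc] at htop
  rw [← Finset.sum_mul] at htop
  simp only [mul_assoc] at htop
  rw [hcf] at htop
  rw [NefQ.Q, List.length_replicate, hD, ← mul_assoc, ← pow_add, Even.neg_one_pow ⟨r + 1, rfl⟩, one_mul] at hQ
  simp only [← mul_assoc] at hQ htop
  linarith

end Groth.Agent.H22Alg.NefDeg
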