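import Mathlib
import Groth.Agent.H22Alg.NefDeg
import Groth.Agent.H11Proj.ProjectiveProps
import Groth.Agent.H11Sym.Bundle

/-! # Nefness of `O(1)` versus nefness on curves -/

set_option autoImplicit false
set_option linter.style.haveILetI false
universe u

open CategoryTheory CategoryTheory.Limits AlgebraicGeometry TopologicalSpace
open Groth.Agent.H22Alg.NefDeg (CNef)

noncomputable section

namespace Groth.Agent.H22Alg.NefCriterion

variable (k : Type u) [Field k] {X : Scheme.{u}} [X.Over (Spec (CommRingCat.of k))]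
  [IsProper (X ↘ Spec (CommRingCat.of k))]

/-- The degree of a nef module on a regular curve mapping to it. -/
theorem deg_nonneg_of_nef {L : X.Modules} (hL : PicF.IsInvertible L) (h : Kleiman.Nef k L) {C : Scheme.{u}}
    [C.Over (Spec (CommRingCat.of k))] [IsProper (C ↘ Spec (CommRingCat.of k))] [IsIntegral C]
    (hC : topologicalKrullDim C = 1) (g : C ⟶ X)
    (hg : g ≫ (X ↘ Spec (CommRingCat.of k)) = C ↘ Spec (CommRingCat.of k)) :
    0 ≤ Curv2.deg k C ((Scheme.Modules.pullback g).obj L) 1 := by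
  have hM : PicF.IsInvertible ((Scheme.Modules.pullback g).obj L) := H11Ample.isInvertible_pullback g hL
  have h1 := Kleiman.nef_pullback k g hg hL h C (𝟙 C) (by simpa using hC)
  rw [NefQ.Q, Nakai.D_quotMod_id k (List.forall_mem_singleton.2 hM) (by simpa using hC)] at h1
  have hneg : H28Int.D k [(Scheme.Modules.pullback g).obj L] (Coh.structureModule C) =
      -Curv2.deg k C ((Scheme.Modules.pullback g).obj L) 1 := by
    show Curv2.euler k C _ - Curv2.euler k C _ = -(_ - _)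
    rw [H25Euler.euler_congr (k := k) (H10Coh.Tw.rightUnitIso ((Scheme.Modules.pullback g).obj L))]
    push_cast
    ring
  rw [hneg] at h1
  simpa using h1

variable {E : X.Modules} {𝒮 : RelProj.QCGrAlg X} {j : E ⟶ 𝒮.toModule} {P : Scheme.{u}} {p : P ⟶ X}
  {chart : ∀ (U : X.Opens) (hU : IsAffineOpen U), (((p ⁻¹ᵁ U : P.Opens) : Scheme.{u}) ≅ Proj (𝒮.deg U hU))}
  {O1 : P.Modules}
  {lam : ∀ (U : X.Opens) (hU : IsAffineOpen U),
    O1 ⟶ (Scheme.Modules.pushforward (RelProj.emb p chart U hU)).obj (GrTwist.twist (𝒮.deg U hU) 1)}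

include k in
/-- A relative `Proj` of the symmetric algebra of a bundle is a proper projective bundle. -/
theorem isProjBundle_of_data (hE : FlatMod.IsFinLocFree E) (hT : RelProj.IsGrSymAlg E 𝒮 j)
    (hP : RelProj.IsRelProj 𝒮 p chart) (hL : RelProj.IsRelTwist 𝒮 p chart 1 O1 lam) :
    IsProper p ∧ ∃ q : (Scheme.Modules.pullback p).obj E ⟶ O1, KRR.IsProjBundle p E O1 q := by
  haveI : IsNoetherian X := H28Int.isNoetherian k (X := X)
  have hEc := H16Derived.KFlat.Stalk.isCoh_of_isFinLocFree hE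
  refine ⟨H11Proj.isProper_relProj (H11Sym.isGenDegOne hEc.1 hT) (H11Sym.isFTDeg_one hEc.1 hEc.2 hT) hP, ?_⟩
  obtain ⟨φ, hφ⟩ := H11Sym.exists_canon hEc.1 hT hP hL
  exact ⟨((Scheme.Modules.pullbackPushforwardAdjunction p).homEquiv E O1).symm φ,
    PB.rank_one_of_isInvertible (H11Sym.isInvertible_twist_one hEc.1 hT hP hL),
    H11Sym.epi_homEquiv_symm_of_spans (H11Sym.spans_of_eq_ks hEc.1 hT hL hφ),
    fun T g L hL' s hs =>
      H11Sym.existsUnique_toBundle hEc.1 hT hP hL hφ g L (PB.isInvertible_of_rank_one hL') s hs⟩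

/-- `O(1)` is nef if the bundle is nef on curves. -/
theorem nef_of_cnef (hE : FlatMod.IsFinLocFree E) (hn : CNef k X E) (hT : RelProj.IsGrSymAlg E 𝒮 j)
    (hP : RelProj.IsRelProj 𝒮 p chart) (hL : RelProj.IsRelTwist 𝒮 p chart 1 O1 lam)
    (C : P.IdealSheafData) (hC : IsIntegral C.subscheme) (hd : topologicalKrullDim (C.support : Set P) = 1) :
    0 ≤ @Curv2.euler k _ P ⟨p ≫ (X ↘ (Spec (CommRingCat.of k)))⟩ (CohB1.tensorMod (ClSub.quotMod C) O1) -
      @Curv2.euler k _ P ⟨p ≫ (X ↘ (Spec (CommRingCat.of k)))⟩ (ClSub.quotMod C) := by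
  obtain ⟨hp, q, hPB⟩ := isProjBundle_of_data k hE hT hP hL
  haveI := hp
  haveI := hPB.epi
  letI : P.Over (Spec (CommRingCat.of k)) := ⟨p ≫ (X ↘ (Spec (CommRingCat.of k)))⟩
  haveI : IsProper (P ↘ Spec (CommRingCat.of k)) := inferInstanceAs (IsProper (p ≫ _))
  exact (Kleiman.nef_iff k O1).1 (NefDeg.nef_O1 k p rfl hn (PB.isInvertible_of_rank_one hPB.invertible) q) C hC hd

/-- A bundle is nef on curves if `O(1)` is nef on its projective bundle. -/
theorem cnef_of_nef (hE : FlatMod.IsFinLocFree E)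
    (h : ∀ (𝒮 : RelProj.QCGrAlg X) (j : E ⟶ 𝒮.toModule) (P : Scheme.{u}) (p : P ⟶ X)
        (chart : ∀ (U : X.Opens) (hU : IsAffineOpen U),
          (((p ⁻¹ᵁ U : P.Opens) : Scheme.{u}) ≅ Proj (𝒮.deg U hU)))
        (O1 : P.Modules)
        (lam : ∀ (U : X.Opens) (hU : IsAffineOpen U),
          O1 ⟶ (Scheme.Modules.pushforward (RelProj.emb p chart U hU)).obj (GrTwist.twist (𝒮.deg U hU) 1)),
        RelProj.IsGrSymAlg E 𝒮 j → RelProj.IsRelProj 𝒮 p chart → RelProj.IsRelTwist 𝒮 p chart 1 O1 lam →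
        ∀ C : P.IdealSheafData, IsIntegral C.subscheme → topologicalKrullDim (C.support : Set P) = 1 →
          0 ≤ @Curv2.euler k _ P ⟨p ≫ (X ↘ (Spec (CommRingCat.of k)))⟩ (CohB1.tensorMod (ClSub.quotMod C) O1) -
              @Curv2.euler k _ P ⟨p ≫ (X ↘ (Spec (CommRingCat.of k)))⟩ (ClSub.quotMod C)) :
    CNef k X E := by
  intro C _ _ _ hC hreg f hf M hM s hs
  obtain ⟨𝒯, j₀, hT⟩ := H11Sym.exists_isGrSymAlg E (H8Props.FinLocFree.isQCoh_of_isFinLocFree _ hE)
  obtain ⟨P, p, chart, hP⟩ := H11Proj.exists_isRelProj 𝒯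
  obtain ⟨O1, lam, hL⟩ := H11Tilde.exists_isRelTwist hP 1
  obtain ⟨hp, q, hPB⟩ := isProjBundle_of_data k hE hT hP hL
  haveI := hp
  letI : P.Over (Spec (CommRingCat.of k)) := ⟨p ≫ (X ↘ (Spec (CommRingCat.of k)))⟩
  haveI : IsProper (P ↘ Spec (CommRingCat.of k)) := inferInstanceAs (IsProper (p ≫ _))
  obtain ⟨g, ⟨hg, e, -⟩, -⟩ := hPB.univ C f M (PB.rank_one_of_isInvertible hM) s hs
  have hn : Kleiman.Nef k O1 := (Kleiman.nef_iff k O1).2 (h 𝒯 j₀ P p chart O1 lam hT hP hL)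
  have h1 := deg_nonneg_of_nef k (PB.isInvertible_of_rank_one hPB.invertible) hn hC g
    (by show g ≫ p ≫ _ = _; rw [← Category.assoc, hg, hf])
  rwa [H29RR.deg_congr (k := k) e] at h1

end Groth.Agent.H22Alg.NefCriterion
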