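import Mathlib
import Groth.Agent.H22Alg.NefCriterion
import Groth.Agent.H12Pic.NefBC
import Groth.Agent.H25Theta.Cls
import Groth.Agent.H22Alg.CurveAmple
import Groth.Agent.H29RR.LineBound
import Groth.Agent.H29RR.SmoothRegular
import Groth.Agent.H11Sym.BundleAmple

/-! # Nefness of bundles and ampleness of their ample twists on curves -/

set_option autoImplicit false
set_option linter.style.haveILetI false
universe u

open CategoryTheory CategoryTheory.Limits AlgebraicGeometry TopologicalSpace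
open Groth.Agent.H22Alg.NefDeg (CNef)

noncomputable section

namespace Groth.Agent.H22Alg.NefAmpleTwist

variable (k : Type u) [Field k] {C : Scheme.{u}} [C.Over (Spec (CommRingCat.of k))]
  [IsProper (C ↘ Spec (CommRingCat.of k))]

/-- An ample twist of a nef bundle is an ample bundle. -/
theorem isAmple_twist {A H : C.Modules} (hA : FlatMod.IsFinLocFree A) (nA : CNef k C A) (hH : CohB1.IsAmple H)
    {𝒮 : RelProj.QCGrAlg C} {j : CohB1.tensorMod H A ⟶ 𝒮.toModule} {P : Scheme.{u}} {p : P ⟶ C}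
    {chart : ∀ (U : C.Opens) (hU : IsAffineOpen U), (((p ⁻¹ᵁ U : P.Opens) : Scheme.{u}) ≅ Proj (𝒮.deg U hU))}
    {O1 : P.Modules}
    {lam : ∀ (U : C.Opens) (hU : IsAffineOpen U),
      O1 ⟶ (Scheme.Modules.pushforward (RelProj.emb p chart U hU)).obj (GrTwist.twist (𝒮.deg U hU) 1)}
    (hT : RelProj.IsGrSymAlg (CohB1.tensorMod H A) 𝒮 j) (hP : RelProj.IsRelProj 𝒮 p chart)
    (hL : RelProj.IsRelTwist 𝒮 p chart 1 O1 lam) : CohB1.IsAmple O1 := by
  have hHi := hH.1
  have hB : FlatMod.IsFinLocFree (CohB1.tensorMod H A) :=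
    H16Derived.KFlat.Stalk.isFinLocFree_tensor (H28Pinch.isFinLocFree_of_isInvertible hHi) hA
  have hBq := H8Props.FinLocFree.isQCoh_of_isFinLocFree _ hB
  obtain ⟨hp, q, hPB⟩ := NefCriterion.isProjBundle_of_data k hB hT hP hL
  haveI := hp
  haveI := hPB.epi
  have hO : PicF.IsInvertible O1 := PB.isInvertible_of_rank_one hPB.invertible
  letI : P.Over (Spec (CommRingCat.of k)) := ⟨p ≫ (C ↘ (Spec (CommRingCat.of k)))⟩
  haveI : IsProper (P ↘ Spec (CommRingCat.of k)) := inferInstanceAs (IsProper (p ≫ _))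
  obtain ⟨H', hH', ⟨e⟩⟩ := H11Sym.exists_inverse hHi
  have hH'p : PicF.IsInvertible ((Scheme.Modules.pullback p).obj H') := H11Ample.isInvertible_pullback p hH'
  let L := CohB1.tensorMod O1 ((Scheme.Modules.pullback p).obj H')
  have hLi : PicF.IsInvertible L := H11Ample.isInvertible_tensor hO hH'p
  let a : A ≅ CohB1.tensorMod (CohB1.tensorMod H A) H' :=
    (H10Coh.Tw.rightUnitIso A).symm ≪≫ PicGrp.tensorModIso (Iso.refl A) (e.symm ≪≫ H10Coh.Tw.commIso H' H) ≪≫
      (H10Coh.Tw.assoc A H H').symm ≪≫ PicGrp.tensorModIso (H10Coh.Tw.commIso A H) (Iso.refl H')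
  haveI := H10Coh.Tw.epi_map q hH'p
  let qL : (Scheme.Modules.pullback p).obj A ⟶ L :=
    ((Scheme.Modules.pullback p).mapIso a ≪≫ H25Theta.pT p (CohB1.tensorMod H A) H').hom ≫
      LimSh.tensorModMap q ((Scheme.Modules.pullback p).obj H')
  haveI : Epi qL := epi_comp _ _
  have hnef : Kleiman.Nef k L := NefDeg.nef_O1 k p rfl nA hLi qL
  have hva : RelProj.IsRelVeryAmple p O1 :=
    ⟨_, hBq, 𝒮, j, hT, P, p, chart, hP, O1, lam, hL, 𝟙 P, inferInstance, Category.id_comp p,
      ⟨((Scheme.Modules.pullbackId P).app O1).symm⟩⟩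
  obtain ⟨n, -, hn⟩ := H11Ample.eventually_isAmple_tensor_pullback p (H11Sym.isRelAmple_of_isRelVeryAmple hva) hH
  have hamp := H12Pic.NefBC.isAmple_of_nef k hLi hnef (hn n le_rfl) n
  refine (H11Ample.isAmple_tensorPow_iff hO (n + 1) n.succ_pos).2
    (H11Ample.isAmple_of_iso (Classical.choice (H25Theta.cls_eq.1 ?_)) hamp)
  have hinv : H25Theta.cls H' * H25Theta.cls H = 1 := (H25Theta.cls_tensor H' H).symm.trans
    ((H25Theta.cls_eq.2 ⟨e⟩).trans H25Theta.cls_structureModule)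
  have hinv' : H25Theta.pull p (H25Theta.cls H') ^ n * H25Theta.pull p (H25Theta.cls H) ^ n = 1 := by
    rw [← mul_pow, ← map_mul, hinv, map_one, one_pow]
  simp only [L, H25Theta.cls_tensor, H25Theta.cls_pow, ← H25Theta.pull_cls, map_pow, mul_pow, pow_succ]
  rw [mul_mul_mul_comm, hinv', mul_one]

variable [IsIntegral C] [IsAlgClosed k]

/-- A regular curve over an algebraically closed field has an ample module of degree one. -/
theorem exists_ample_deg_one (hdim : topologicalKrullDim C = 1)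
    (hreg : ∀ x : C, IsRegularLocalRing (C.presheaf.stalk x)) :
    ∃ H : C.Modules, CohB1.IsAmple H ∧ Curv2.deg k C H 1 = 1 := by
  haveI := H29RR.isNoetherian_of_proper (k := k) (X := C)
  haveI : Smooth (C ↘ Spec (CommRingCat.of k)) := H29RR.smooth_of_regular k C hreg
  obtain ⟨x, -, hx, hI⟩ := H29RR.exists_point (k := k) hdim ⊤ trivial
  obtain ⟨H, hH, -, hd, -, -⟩ := H29RR.exists_add_point (k := k) hx hI (H11Ample.isInvertible_structureModule (X := C))
  rw [H29RR.deg_structureModule, H29RR.finrank_residue_eq_one (k := k) hx] at hd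
  exact ⟨H, CurveAmple.isAmple_of_deg_pos (k := k) hdim hH (by omega), by simpa using hd⟩

/-- A bundle on a curve whose ample twists are ample has nonnegative quotient degrees. -/
theorem deg_nonneg_of_twist_ample (hdim : topologicalKrullDim C = 1)
    (hreg : ∀ x : C, IsRegularLocalRing (C.presheaf.stalk x)) {A M : C.Modules} (hA : FlatMod.IsFinLocFree A)
    (h : ∀ (H : C.Modules), CohB1.IsAmple H →
      ∀ (𝒮 : RelProj.QCGrAlg C) (j : (CohB1.tensorMod H A) ⟶ 𝒮.toModule) (P : Scheme.{u}) (p : P ⟶ C)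
        (chart : ∀ (U : C.Opens) (hU : IsAffineOpen U),
          (((p ⁻¹ᵁ U : P.Opens) : Scheme.{u}) ≅ Proj (𝒮.deg U hU)))
        (O1 : P.Modules)
        (lam : ∀ (U : C.Opens) (hU : IsAffineOpen U),
          O1 ⟶ (Scheme.Modules.pushforward (RelProj.emb p chart U hU)).obj (GrTwist.twist (𝒮.deg U hU) 1)),
        RelProj.IsGrSymAlg (CohB1.tensorMod H A) 𝒮 j → RelProj.IsRelProj 𝒮 p chart →
          RelProj.IsRelTwist 𝒮 p chart 1 O1 lam → CohB1.IsAmple O1)
    (hM : PicF.IsInvertible M) (q : A ⟶ M) [Epi q] : 0 ≤ Curv2.deg k C M 1 := by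
  haveI := H29RR.isNoetherian_of_proper (k := k) (X := C)
  obtain ⟨H, hH, hd⟩ := exists_ample_deg_one k hdim hreg
  have hB : FlatMod.IsFinLocFree (CohB1.tensorMod H A) :=
    H16Derived.KFlat.Stalk.isFinLocFree_tensor (H28Pinch.isFinLocFree_of_isInvertible hH.1) hA
  obtain ⟨𝒯, j, hT⟩ := H11Sym.exists_isGrSymAlg _ (H8Props.FinLocFree.isQCoh_of_isFinLocFree _ hB)
  obtain ⟨P, p, chart, hP⟩ := H11Proj.exists_isRelProj 𝒯
  obtain ⟨O1, lam, hL⟩ := H11Tilde.exists_isRelTwist hP 1
  have hamp := h H hH 𝒯 j P p chart O1 lam hT hP hL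
  obtain ⟨hp, qP, hPB⟩ := NefCriterion.isProjBundle_of_data k hB hT hP hL
  haveI := hp
  haveI := H10Coh.Tw.epi_map q hH.1
  let s : (Scheme.Modules.pullback (𝟙 C)).obj (CohB1.tensorMod H A) ⟶ CohB1.tensorMod M H :=
    ((Scheme.Modules.pullbackId C).app _ ≪≫ H10Coh.Tw.commIso H A).hom ≫ LimSh.tensorModMap q H
  haveI : Epi s := epi_comp _ _
  have hMH : PicF.IsInvertible (CohB1.tensorMod M H) := H11Ample.isInvertible_tensor hM hH.1
  obtain ⟨σ, ⟨hσ, e, -⟩, -⟩ := hPB.univ C (𝟙 C) _ (PB.rank_one_of_isInvertible hMH) s inferInstance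
  haveI : IsClosedImmersion σ := by
    haveI : IsClosedImmersion (σ ≫ p) := by rw [hσ]; infer_instance
    exact IsClosedImmersion.of_comp σ p
  have hpos := CurveAmple.deg_pos_of_ample (k := k) hdim
    (H11Ample.isAmple_of_iso e (H11Ample.isAmple_pullback_of_isAffineHom σ hamp))
  rw [H29RR.deg_tensor (k := k) hdim.le hM hH.1, hd] at hpos
  omega

end Groth.Agent.H22Alg.NefAmpleTwist
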