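import Mathlib
import Groth.Agent.H22Alg.NefDeg
import Groth.Agent.H23SS.HomSpaces
import Groth.Agent.H3Cyc.DualFilt
import Groth.Agent.H25Theta.Basic
import Groth.Agent.H26Gr.GrSub

/-! # Tensor and exterior operations preserve nefness -/

set_option autoImplicit false
set_option linter.style.haveILetI false
set_option backward.isDefEq.respectTransparency.types false
universe u

open CategoryTheory CategoryTheory.Limits AlgebraicGeometry TopologicalSpace Opposite
open Groth.Agent.H10Coh.SheafHom Groth.Agent.H16Derived.KFlat.Stalk Groth.Agent.H10Inj.SheafExt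
open Groth.Agent.H22Alg.NefDeg (CNef)

noncomputable section

namespace Groth.Agent.H22Alg.NefTensor

open H29RR (locFree_of_rank isCoh_of_rank rank_tensor)

section Pairings

variable {X : Scheme.{u}}

theorem swap_app (M N : X.Modules) (U : X.Opens) (m : Γ(M, U)) (n : Γ(N, U)) :
    (tensorSwap M N).app U (tensorSect U m n) = tensorSect U n m :=
  desc_tensorSect _ _ _ _ _ _ U m n

/-- Transposition of a pairing that is injective in the first variable. -/
theorem mono_transpose {B Q Q' M : X.Modules} (p : tensor B Q ⟶ M)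
    (hp : Mono ((homAdj B).homEquiv Q M p)) (π' : B ⟶ Q') (p' : tensor Q Q' ⟶ M)
    (hrel : ((DCoh.tensorBi (X := X)).obj Q).map π' ≫ p' = tensorSwap Q B ≫ p) :
    Mono ((homAdj Q').homEquiv Q M (tensorSwap Q' Q ≫ p')) := by
  refine Preadditive.mono_of_cancel_zero _ fun {T} x hx => ?_
  rw [← (homAdj Q').homEquiv_naturality_left] at hx
  have hx' : ((DCoh.tensorBi (X := X)).obj Q').map x ≫ tensorSwap Q' Q ≫ p' = 0 := by
    refine ((homAdj Q').homEquiv T M).injective (hx.trans ?_)
    haveI : (homFunctor Q').Additive := (homAdj Q').right_adjoint_additive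
    rw [Adjunction.homEquiv_unit, Functor.map_zero, comp_zero]
  haveI := hp
  refine (cancel_mono ((homAdj B).homEquiv Q M p)).1 ?_
  rw [zero_comp, ← (homAdj B).homEquiv_naturality_left]
  have h0 : ((DCoh.tensorBi (X := X)).obj B).map x ≫ p = 0 := by
    refine tensor_ext fun U b t => ?_
    have h1 := congr($(hrel).app U (tensorSect U (x.app U t) b))
    have h2 := congr($(hx').app U (tensorSect U (π'.app U b) t))
    have e1 : (((DCoh.tensorBi (X := X)).obj Q).map π' ≫ p').app U (tensorSect U (x.app U t) b) =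
        p'.app U (tensorSect U (x.app U t) (π'.app U b)) := congrArg (p'.app U) (map_tensorSect π' U _ _)
    have e2 : (tensorSwap Q B ≫ p).app U (tensorSect U (x.app U t) b) = p.app U (tensorSect U b (x.app U t)) :=
      congrArg (p.app U) (swap_app Q B U _ _)
    have e3 : (((DCoh.tensorBi (X := X)).obj Q').map x ≫ tensorSwap Q' Q ≫ p').app U (tensorSect U (π'.app U b) t) =
        p'.app U (tensorSect U (x.app U t) (π'.app U b)) :=
      (congrArg ((tensorSwap Q' Q ≫ p').app U) (map_tensorSect x U _ _)).trans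
        (congrArg (p'.app U) (swap_app Q' Q U _ _))
    exact (congrArg (p.app U) (map_tensorSect x U b t)).trans (e2.symm.trans (h1.symm.trans (e1.trans (e3.symm.trans h2))))
  rw [h0]
  haveI : (homFunctor B).Additive := (homAdj B).right_adjoint_additive
  rw [Adjunction.homEquiv_unit, Functor.map_zero, comp_zero]

theorem homEquiv_zero (B Q M : X.Modules) : (homAdj B).homEquiv Q M 0 = 0 := by
  haveI : (homFunctor B).Additive := (homAdj B).right_adjoint_additive
  rw [Adjunction.homEquiv_unit, Functor.map_zero, comp_zero]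

theorem ofRank_hom [IsIntegral X] [IsLocallyNoetherian X] {n : ℕ} {B M : X.Modules}
    (hB : FlatMod.IsFinLocFreeOfRank n B) (hM : PicF.IsInvertible M) :
    FlatMod.IsFinLocFreeOfRank n ((homFunctor B).obj M) :=
  H26Gr.isFinLocFreeOfRank_of_iso ((dualHomIso B (locFree_of_rank hB)).app M)
    (rank_tensor (H23SS.ofRank_dual hB) hM)

end Pairings

variable {k : Type u} [Field k] {C : Scheme.{u}} [C.Over (Spec (CommRingCat.of k))]
  [IsProper (C ↘ Spec (CommRingCat.of k))] [IsIntegral C]

/-- The degree of the dual bundle on a regular curve. -/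
theorem deg_dual (hdim : topologicalKrullDim C ≤ 1) (hreg : ∀ x : C, IsRegularLocalRing (C.presheaf.stalk x)) :
    ∀ (n : ℕ) (A : C.Modules), FlatMod.IsFinLocFreeOfRank n A →
      Curv2.deg k C (RefHull.dual A) n = -Curv2.deg k C A n := by
  haveI : IsNoetherian C := H29RR.isNoetherian_of_proper (k := k) (X := C)
  intro n
  induction n using Nat.strong_induction_on with
  | _ n ih =>
    intro A hA
    match n, ih, hA with
    | 0, _, hA =>
      rw [H29RR.deg_eq_zero_of_rank_zero (k := k) hA, H29RR.deg_eq_zero_of_rank_zero (k := k) (H23SS.ofRank_dual hA),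
        neg_zero]
    | 1, _, hA =>
      have hL := PB.isInvertible_of_rank_one hA
      obtain ⟨e⟩ := H11Tilde.nonempty_tensorMod_iso (H11Sym.evalPairing A) fun x => by
        obtain ⟨V, g, hx, hg⟩ := H11Ample.exists_gen hL x
        exact ⟨V, hx, g, fun W hW => ⟨hg.bijective hW, H11Sym.bijective_toLin_gen (hg.res hW)⟩⟩
      have hD := PB.isInvertible_of_rank_one (H23SS.ofRank_dual hA)
      have h := H29RR.deg_tensor (k := k) hdim hD hL
      rw [H29RR.deg_congr e, H29RR.deg_structureModule] at h
      linarith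
    | m + 2, ih, hA =>
      obtain ⟨S, a, c, hS, rfl, ha, hc, hac, ha0, hc0⟩ := CurveReg.exists_split (k := k) hdim hreg hA
      obtain ⟨w, hS'⟩ := H3Cyc.Filt.dual_shortExact S.f S.g S.zero hS (locFree_of_rank ha) (locFree_of_rank hA)
        (locFree_of_rank hc)
      obtain ⟨-, hd⟩ := H29RR.deg_add_of_shortExact (k := k) hS ha hA hc
      obtain ⟨-, hd'⟩ := H29RR.deg_add_of_shortExact (k := k) hS' (H23SS.ofRank_dual hc) (H23SS.ofRank_dual hA)
        (H23SS.ofRank_dual ha)
      dsimp only at hd'
      rw [ih a (by omega) _ ha, ih c (by omega) _ hc] at hd'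
      rw [hd', hd]
      ring

/-- Degree of the sheaf of maps into a line bundle. -/
theorem deg_hom (hdim : topologicalKrullDim C ≤ 1) (hreg : ∀ x : C, IsRegularLocalRing (C.presheaf.stalk x))
    {r : ℕ} {Q M : C.Modules} (hQ : FlatMod.IsFinLocFreeOfRank r Q) (hM : PicF.IsInvertible M) :
    Curv2.deg k C ((homFunctor Q).obj M) r = r * Curv2.deg k C M 1 - Curv2.deg k C Q r := by
  haveI : IsNoetherian C := H29RR.isNoetherian_of_proper (k := k) (X := C)
  have e : Curv2.euler k C ((homFunctor Q).obj M) = Curv2.euler k C (CohB1.tensorMod (RefHull.dual Q) M) :=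
    (H25Euler.euler_congr (k := k) ((dualHomIso Q (locFree_of_rank hQ)).app M)).symm
  have h := DegBundle.defect_eq k hdim (H23SS.ofRank_dual hQ) (H29RR.rank_one_of_isInvertible hM)
  have hd := deg_dual (k := k) hdim hreg r Q hQ
  simp only [Curv2.deg] at hd ⊢
  rw [e]
  push_cast at h ⊢
  linear_combination h + hd

/-- An invertible quotient of a tensor product of nef bundles has nonnegative degree. -/
theorem deg_quotient_nonneg (hdim : topologicalKrullDim C = 1)
    (hreg : ∀ x : C, IsRegularLocalRing (C.presheaf.stalk x)) {nA nB : ℕ} {A B M : C.Modules}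
    (hA : FlatMod.IsFinLocFreeOfRank nA A) (hB : FlatMod.IsFinLocFreeOfRank nB B)
    (nA' : CNef k C A) (nB' : CNef k C B) (hM : PicF.IsInvertible M)
    (q : tensor A B ⟶ M) [Epi q] : 0 ≤ Curv2.deg k C M 1 := by
  haveI : IsNoetherian C := H29RR.isNoetherian_of_proper (k := k) (X := C)
  have hM1 := H29RR.rank_one_of_isInvertible hM
  have hMne : ¬ IsZero M := fun h => by
    obtain ⟨-, -, hr⟩ := H25Par.finrank_stalk hM1 (genericPoint C)
    haveI : Subsingleton (M.presheaf.stalk (genericPoint C)) :=
      ModuleCat.isZero_iff_subsingleton.1 ((DerSch.stalkFunctor C (genericPoint C)).map_isZero h)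
    rw [Module.finrank_zero_of_subsingleton] at hr
    exact zero_ne_one hr
  have hq : q ≠ 0 := fun h => hMne ((IsZero.iff_id_eq_zero M).2 ((cancel_epi q).1 (by rw [h, zero_comp, zero_comp])))
  -- the image of `A`
  let p₀ : tensor B A ⟶ M := tensorSwap B A ≫ q
  let φ : A ⟶ (homFunctor B).obj M := (homAdj B).homEquiv A M p₀
  have hp₀ : p₀ ≠ 0 := fun h => hq (by
    rw [← Category.id_comp q, ← tensorSwap_comp A B, Category.assoc]
    show tensorSwap A B ≫ p₀ = 0
    rw [h, comp_zero])
  have hφ : φ ≠ 0 := fun h => hp₀ (((homAdj B).homEquiv A M).injective (h.trans (homEquiv_zero B A M).symm))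
  obtain ⟨a, r, -, hQ, -, -, hr0, -⟩ := CurveReg.exists_image_data (k := k) hdim.le hreg hA (ofRank_hom hB hM) φ
  have hQd := NefDeg.deg_nonneg k hdim hreg hQ (nA'.quotient (Abelian.factorThruImage φ))
  have hr := hr0 hφ
  -- the image of `B`
  let Q := Abelian.image φ
  let p : tensor B Q ⟶ M := ((homAdj B).homEquiv Q M).symm (Abelian.image.ι φ)
  let ψ : B ⟶ (homFunctor Q).obj M := (homAdj Q).homEquiv B M (tensorSwap Q B ≫ p)
  obtain ⟨a', s, -, hQ', -, hsr, -, -⟩ := CurveReg.exists_image_data (k := k) hdim.le hreg hB (ofRank_hom hQ hM) ψ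
  have hQ'd := NefDeg.deg_nonneg k hdim hreg hQ' (nB'.quotient (Abelian.factorThruImage ψ))
  let Q' := Abelian.image ψ
  let p' : tensor Q Q' ⟶ M := ((homAdj Q).homEquiv Q' M).symm (Abelian.image.ι ψ)
  have hrel : ((DCoh.tensorBi (X := C)).obj Q).map (Abelian.factorThruImage ψ) ≫ p' = tensorSwap Q B ≫ p := by
    show _ ≫ ((homAdj Q).homEquiv Q' M).symm _ = _
    rw [← (homAdj Q).homEquiv_naturality_left_symm, Abelian.image.fac]
    exact ((homAdj Q).homEquiv B M).symm_apply_apply _
  have hpm : Mono ((homAdj B).homEquiv Q M p) := by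
    rw [show (homAdj B).homEquiv Q M p = Abelian.image.ι φ from ((homAdj B).homEquiv Q M).apply_symm_apply _]
    infer_instance
  haveI := mono_transpose p hpm (Abelian.factorThruImage ψ) p' hrel
  have hrs : r ≤ s := H25Par.rank_le_of_mono (genericPoint C) hQ (ofRank_hom hQ' hM)
    ((homAdj Q').homEquiv Q M (tensorSwap Q' Q ≫ p'))
  obtain rfl : s = r := le_antisymm hsr hrs
  have hle := H25Par.euler_le_of_mono (k := k) hdim.le hQ' (ofRank_hom hQ hM) (Abelian.image.ι ψ)
  have hH := deg_hom (k := k) hdim.le hreg hQ hM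
  have : (0 : ℤ) ≤ s * Curv2.deg k C M 1 := by
    simp only [Curv2.deg] at hQ'd hH hQd ⊢
    linarith
  exact nonneg_of_mul_nonneg_right this (by exact_mod_cast hr)

section Global

variable {X : Scheme.{u}} [X.Over (Spec (CommRingCat.of k))]

/-- A tensor product of nef bundles is nef. -/
theorem cnef_tensor {A B : X.Modules} (hA : FlatMod.IsFinLocFree A) (hB : FlatMod.IsFinLocFree B)
    (nA : CNef k X A) (nB : CNef k X B) : CNef k X (CohB1.tensorMod A B) := by
  intro D _ _ _ hD hreg f hf M hM q hq
  haveI := hq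
  obtain ⟨nA', hA'⟩ := KModel.exists_rank (isFinLocFree_pullback f hA)
  obtain ⟨nB', hB'⟩ := KModel.exists_rank (isFinLocFree_pullback f hB)
  exact deg_quotient_nonneg (k := k) hD hreg hA' hB' (nA.pullback f hf) (nB.pullback f hf) hM
    ((H25Theta.pT f A B).inv ≫ q)

/-- The structure module is nef. -/
theorem cnef_structure : CNef k X (Coh.structureModule X) := by
  intro D _ _ _ hD hreg f hf M hM q hq
  haveI := hq
  haveI : IsNoetherian D := H29RR.isNoetherian_of_proper (k := k) (X := D)
  let s : Coh.structureModule D ⟶ M := (H25Theta.pO f).inv ≫ q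
  haveI : Epi s := epi_comp _ _
  refine (H29RR.deg_nonneg_of_hom (k := k) hD.le hM (s := s) fun h => ?_).1
  have hz : IsZero M := (IsZero.iff_id_eq_zero M).2 ((cancel_epi s).1 (by rw [h, zero_comp, zero_comp]))
  obtain ⟨-, -, hr⟩ := H25Par.finrank_stalk (H29RR.rank_one_of_isInvertible hM) (genericPoint D)
  haveI : Subsingleton (M.presheaf.stalk (genericPoint D)) :=
    ModuleCat.isZero_iff_subsingleton.1 ((DerSch.stalkFunctor D (genericPoint D)).map_isZero hz)
  rw [Module.finrank_zero_of_subsingleton] at hr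
  exact zero_ne_one hr

end Global

end Groth.Agent.H22Alg.NefTensor
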