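import Mathlib
import Groth.Agent.H22Alg.NefTensor
import Groth.Agent.H16Derived.ExtSES

/-! # Exterior powers as quotients of tensor products; exterior powers of nef bundles -/

set_option autoImplicit false
set_option linter.style.haveILetI false
universe u

open CategoryTheory CategoryTheory.Limits AlgebraicGeometry Opposite TopologicalSpace exteriorPower
open Groth.Agent.H16Derived.ExtSES Groth.Agent.H16Derived.ExtSESAlg Groth.Agent.H16Derived.KFlat.Stalk
open Groth.Agent.H22Alg
open ExtPowHom (appL)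
open Groth.Agent.H22Alg.NefDeg (CNef)

attribute [local instance] HasDerivedCategory.standard

noncomputable section

namespace Groth.Agent.H22Alg.NefExt

variable {X : Scheme.{u}}

/-- The wedge with a vector generates the next exterior power. -/
theorem epi_mu_one {E : X.Modules} (PA : Pow (ShortComplex.mk (𝟙 E) (0 : E ⟶ E) comp_zero).X₁)
    (PE : Pow (ShortComplex.mk (𝟙 E) (0 : E ⟶ E) comp_zero).X₂) (n : ℕ) :
    Epi (mu PA PE 1 n (n + 1) (Nat.add_comm 1 n)) := by
  refine Preadditive.epi_of_cancel_zero _ fun {Z} g hg => H17.AffHom.hom_ext fun U z => ?_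
  obtain ⟨z, rfl⟩ := (PE.φ (n + 1) U).symm.surjective z
  rw [app_zero_apply]
  induction z using ExtPowAlg.induction with
  | h0 => simp
  | hadd p q hp hq => simp only [map_add, hp, hq, add_zero]
  | hsmul r p hp => rw [map_smul, Scheme.Modules.Hom.app_smul, hp, smul_zero]
  | hgen e =>
    have h1 := (app_comp_apply (mu PA PE 1 n (n + 1) (Nat.add_comm 1 n)) g U.1
      (tensorSect U.1 ((PA.φ 1 U).symm (ιMulti _ 1 fun _ => e 0))
        ((PE.φ n U).symm (ιMulti _ n fun t => e t.succ)))).symm
    rw [hg, app_zero_apply, mu_app, wv_apply] at h1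
    refine Eq.trans (congrArg (fun v => g.app U.1 ((PE.φ (n + 1) U).symm (ιMulti _ (n + 1) v))) ?_) h1
    funext t
    simp only [app, Function.comp_apply]
    refine Fin.cases ?_ (fun s => ?_) t
    · rw [show Fin.cast (Nat.add_comm 1 n).symm (0 : Fin (n + 1)) = Fin.castAdd n (0 : Fin 1) from Fin.ext rfl,
        Fin.append_left]
      rfl
    · rw [show Fin.cast (Nat.add_comm 1 n).symm s.succ = Fin.natAdd 1 s from
        Fin.ext (by simp [Nat.add_comm]), Fin.append_right]

variable {k : Type u} [Field k] [X.Over (Spec (CommRingCat.of k))]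

/-- Exterior powers of a nef bundle are nef. -/
theorem cnef_extPow {E : X.Modules} (hE : FlatMod.IsFinLocFree E) (nE : CNef k X E) :
    ∀ (n : ℕ) (L : X.Modules), ExtPow.IsExtPow n E L → CNef k X L := by
  intro n
  induction n with
  | zero =>
    intro L hL
    obtain ⟨e⟩ := ExtPowHom.nonempty_iso hL (KExists.isExtPow_zero E)
    exact NefTensor.cnef_structure.quotient e.inv
  | succ n ih =>
    intro L hL
    obtain ⟨P, hP⟩ := exists_pow (E := E) (fun i => KExists.extP i E) (fun i => KExists.extP_spec i hE)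
    obtain ⟨e⟩ := ExtPowHom.nonempty_iso hL (P.isExtPow (n + 1))
    obtain ⟨e₁⟩ := ExtPowHom.nonempty_iso (KExists.isExtPow_one E) (P.isExtPow 1)
    let μ := mu (S := ShortComplex.mk (𝟙 E) (0 : E ⟶ E) comp_zero) P P 1 n (n + 1) (Nat.add_comm 1 n)
    have hμ : Epi μ := epi_mu_one (E := E) P P n
    exact (@CNef.quotient _ _ _ _ _ _ (NefTensor.cnef_tensor (ExtPowHom.finLocFree_of_isExtPow hE (P.isExtPow 1))
      (ExtPowHom.finLocFree_of_isExtPow hE (P.isExtPow n)) (nE.quotient e₁.hom) (ih _ (P.isExtPow n)))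
      μ hμ).quotient e.inv

/-- Tensor powers of a nef bundle are nef. -/
theorem cnef_tensorPow {E : X.Modules} (hE : FlatMod.IsFinLocFree E) (nE : CNef k X E) :
    ∀ n : ℕ, FlatMod.IsFinLocFree (CohB1.tensorPow E n) ∧ CNef k X (CohB1.tensorPow E n)
  | 0 => ⟨KExists.finLocFree_structure X, NefTensor.cnef_structure⟩
  | n + 1 =>
    have h := cnef_tensorPow hE nE n
    ⟨isFinLocFree_tensor h.1 hE, NefTensor.cnef_tensor h.1 hE h.2 nE⟩

end Groth.Agent.H22Alg.NefExt
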