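import Groth.Agent.H22Alg.DevLength
import Groth.Agent.H22Alg.RedIntegral
import Groth.Agent.H22Alg.FibreDimBound
import Groth.Agent.H7Flat.FibreDim
import Groth.Agent.H28Int.Num
import Groth.Agent.H28Bc.FieldPoint
import Groth.Agent.H06FlatSub.Basic
import Groth.Agent.H17.DiagTensor.Geometry
import Groth.Agent.H16Derived.TorTest.RelFlatRel
import Groth.Agent.H06EGA12.GeomRkOpen
import Groth.Agent.H25Theta.Basic
import Groth.Agent.H22Alg.SnapperConst

/-! # Degrees on curves under specialisation. -/

set_option autoImplicit false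
set_option linter.style.haveILetI false
set_option linter.unusedSectionVars false
set_option backward.isDefEq.respectTransparency.types false

universe u

open CategoryTheory CategoryTheory.Limits AlgebraicGeometry TopologicalSpace
open scoped Classical

noncomputable section

namespace Groth.Agent.H22Alg.NefSpec

/-- A module of non-negative degree on curves has non-negative degree on sheaves of dimension one. -/
theorem D_nonpos (k : Type u) [Field k] {X : Scheme.{u}} [X.Over (Spec (CommRingCat.of k))]
    [IsProper (X ↘ Spec (CommRingCat.of k))] {A : X.Modules} (hA : PicF.IsInvertible A)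
    (h : ∀ C : X.IdealSheafData, IsIntegral C.subscheme →
      topologicalKrullDim (C.support : Set X) = 1 →
        0 ≤ Curv2.euler k X (CohB1.tensorMod (ClSub.quotMod C) A) - Curv2.euler k X (ClSub.quotMod C))
    {F : X.Modules} (hF : Coh.IsCoh F) (hd : topologicalKrullDim (CohB1.support F) ≤ ((1 : ℕ) : WithBot ℕ∞)) :
    H28Int.D k [A] F ≤ 0 := by
  haveI := H28Int.isNoetherian k (X := X)
  have hl : ∀ B ∈ [A], PicF.IsInvertible B := List.forall_mem_singleton.2 hA
  rw [DevLength.eq_finsum (H28Int.isAddFn_D k [A] hl) (d := 1)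
    (fun G hG hG' => H28Int.D_eq_zero k [A] hl G hG hG') hF hd]
  refine finsum_induction (fun t : ℤ => t ≤ 0) le_rfl (fun a b ha hb => by omega) fun ξ => ?_
  by_cases hξ : topologicalKrullDim (closure ({ξ} : Set X)) = ((1 : ℕ) : WithBot ℕ∞)
  · rw [if_pos hξ]
    refine mul_nonpos_of_nonneg_of_nonpos (Int.natCast_nonneg _) ?_
    let C := Scheme.IdealSheafData.vanishingIdeal (DevLength.cl ξ)
    have hsupp : (C.support : Set X) = closure {ξ} := Scheme.IdealSheafData.coe_support_vanishingIdeal _
    have h1 := h C (isIntegral_vanishingIdeal_closure ξ) (by rw [hsupp]; exact_mod_cast hξ)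
    have h2 : Curv2.euler k X (CohB1.tensorMod A (ClSub.quotMod C)) =
        Curv2.euler k X (CohB1.tensorMod (ClSub.quotMod C) A) :=
      H25Euler.euler_congr (H10Coh.Tw.commIso _ _)
    show Curv2.euler k X (ClSub.quotMod C) - Curv2.euler k X (CohB1.tensorMod A (ClSub.quotMod C)) ≤ 0
    omega
  · rw [if_neg hξ]

/-- A flat scheme over a regular one-dimensional local base with generic fibre of dimension at most one has
closed fibre of dimension at most one. -/
theorem dim_closed_fibre_le {R : Type u} [CommRing R] [IsDomain R] [IsDiscreteValuationRing R]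
    {Z : Scheme.{u}} (q : Z ⟶ Spec (CommRingCat.of R)) [Flat q] [LocallyOfFiniteType q]
    (hη : topologicalKrullDim ↥(q.fiber (genericPoint (Spec (CommRingCat.of R)))) ≤ (1 : WithBot ℕ∞))
    (hdim : ringKrullDim ((Spec (CommRingCat.of R)).presheaf.stalk (IsLocalRing.closedPoint R)) ≤ 1) :
    topologicalKrullDim ↥(q.fiber (IsLocalRing.closedPoint R)) ≤ (1 : WithBot ℕ∞) := by
  refine (H7Flat.dim_fiber_le_iff q _ _).2 fun x hx => ?_
  have hmax : ∀ η : Z, (∀ ζ, ζ ⤳ η → ζ = η) → q η = genericPoint (Spec (CommRingCat.of R)) := fun η hη' => by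
    obtain ⟨ζ, hζ, he⟩ := Flat.generalizingMap q (genericPoint_specializes (q η))
    exact (congrArg q (hη' ζ hζ)).symm.trans he
  rcases fibreDimAt_dichotomy_noetherian q x 1
      (fun η _ hη' => ((H7Flat.dim_fiber_le_iff q _ _).1 hη η (hmax η hη')).trans (le_of_eq Nat.cast_one.symm)) with
    ⟨η, _, hη', he, _⟩ | hle
  · exfalso
    rw [hmax η hη', hx, genericPoint_eq_bot_of_affine] at he
    exact IsDiscreteValuationRing.not_a_field R (congrArg PrimeSpectrum.asIdeal he).symm
  · rw [hx] at hle
    generalize FlatMor.fibreDimAt q x = a at hle ⊢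
    have h2 : a + 1 ≤ 1 + 1 := hle.trans (add_le_add (le_of_eq Nat.cast_one) hdim)
    induction a using WithBot.recBotCoe with
    | bot => exact bot_le
    | coe n =>
      have h3 : n + 1 ≤ (1 : ℕ∞) + 1 := WithBot.coe_le_coe.1 h2
      exact_mod_cast (WithTop.add_le_add_iff_right (by simp : (1 : ℕ∞) ≠ ⊤)).1 h3

/-- The local rings of a discrete valuation ring are regular of dimension at most one. -/
theorem regular_stalk (R : Type u) [CommRing R] [IsDomain R] [IsDiscreteValuationRing R]
    (y : Spec (CommRingCat.of R)) :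
    IsRegularLocalRing ((Spec (CommRingCat.of R)).presheaf.stalk y) ∧
      ringKrullDim ((Spec (CommRingCat.of R)).presheaf.stalk y) ≤ 1 := by
  let P := (show PrimeSpectrum R from y).asIdeal
  let e : Localization.AtPrime P ≃+* (Spec (CommRingCat.of R)).presheaf.stalk y :=
    (StructureSheaf.stalkIso (CommRingCat.of R) y).toRingEquiv
  have hle : P.primeCompl ≤ nonZeroDivisors R := fun a ha =>
    mem_nonZeroDivisors_of_ne_zero fun h => ha (h ▸ zero_mem P)
  haveI : IsDomain (Localization.AtPrime P) := IsLocalization.isDomain_localization hle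
  haveI : IsPrincipalIdealRing (Localization.AtPrime P) := ⟨fun I => by
    rw [← IsLocalization.map_comap P.primeCompl (Localization.AtPrime P) I,
      ← Ideal.span_singleton_generator (Ideal.under R I), Ideal.map_span, Set.image_singleton]
    exact ⟨_, rfl⟩⟩
  refine ⟨IsRegularLocalRing.of_ringEquiv e, ?_⟩
  rw [← ringKrullDim_eq_of_ringEquiv e]
  exact Ring.krullDimLE_iff.1 inferInstance

/-- The fibres of a proper morphism are proper over the residue fields. -/
theorem isProper_fiber {X S : Scheme.{u}} (p : X ⟶ S) [IsProper p] (s : S) :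
    IsProper (p.fiberToSpecResidueField s) :=
  MorphismProperty.of_isPullback (IsPullback.of_hasPullback p (S.fromSpecResidueField s)) inferInstance

/-- Nef specialisation over a discrete valuation ring. -/
theorem main {R : Type u} [CommRing R] [IsDomain R] [IsDiscreteValuationRing R]
    (hY : ∀ y : Spec (CommRingCat.of R), IsRegularLocalRing ((Spec (CommRingCat.of R)).presheaf.stalk y) ∧
      ringKrullDim ((Spec (CommRingCat.of R)).presheaf.stalk y) ≤ 1)
    {X : Scheme.{u}} (p : X ⟶ Spec (CommRingCat.of R)) [IsProper p] {L : X.Modules} (hL : PicF.IsInvertible L)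
    (η : Spec (CommRingCat.of R)) (hη : η = genericPoint (Spec (CommRingCat.of R)))
    (C' : (p.fiber η).IdealSheafData) (hC' : IsIntegral C'.subscheme)
    (hdim' : topologicalKrullDim (C'.support : Set ↥(p.fiber η)) = 1)
    (h0 : ∀ C : (p.fiber (IsLocalRing.closedPoint R)).IdealSheafData, IsIntegral C.subscheme →
        topologicalKrullDim (C.support : Set ↥(p.fiber (IsLocalRing.closedPoint R))) = 1 →
          0 ≤ @Curv2.euler ((Spec (CommRingCat.of R)).residueField (IsLocalRing.closedPoint R)) _ (p.fiber (IsLocalRing.closedPoint R)) ⟨p.fiberToSpecResidueField (IsLocalRing.closedPoint R)⟩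
                (CohB1.tensorMod (ClSub.quotMod C) ((Scheme.Modules.pullback (p.fiberι (IsLocalRing.closedPoint R))).obj L)) -
              @Curv2.euler ((Spec (CommRingCat.of R)).residueField (IsLocalRing.closedPoint R)) _ (p.fiber (IsLocalRing.closedPoint R)) ⟨p.fiberToSpecResidueField (IsLocalRing.closedPoint R)⟩ (ClSub.quotMod C)) :
    0 ≤ @Curv2.euler ((Spec (CommRingCat.of R)).residueField η) _ (p.fiber η) ⟨p.fiberToSpecResidueField η⟩
          (CohB1.tensorMod (ClSub.quotMod C') ((Scheme.Modules.pullback (p.fiberι η)).obj L)) -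
        @Curv2.euler ((Spec (CommRingCat.of R)).residueField η) _ (p.fiber η) ⟨p.fiberToSpecResidueField η⟩ (ClSub.quotMod C') := by
  subst hη
  haveI : IsNoetherianRing R := inferInstance
  haveI : IsLocallyNoetherian X := LocallyOfFiniteType.isLocallyNoetherian p
  haveI : CompactSpace X := QuasiCompact.compactSpace_of_compactSpace p
  haveI : IsNoetherian X := {}
  let g := genericPoint (Spec (CommRingCat.of R))
  let s : Spec (CommRingCat.of R) := IsLocalRing.closedPoint R
  letI : (p.fiber g).Over (Spec (CommRingCat.of ((Spec (CommRingCat.of R)).residueField g))) := ⟨p.fiberToSpecResidueField g⟩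
  letI : (p.fiber s).Over (Spec (CommRingCat.of ((Spec (CommRingCat.of R)).residueField s))) := ⟨p.fiberToSpecResidueField s⟩
  haveI : IsProper (p.fiber s ↘ Spec (CommRingCat.of ((Spec (CommRingCat.of R)).residueField s))) := isProper_fiber p s
  haveI : IsNoetherian (p.fiber s) := H28Int.isNoetherian ((Spec (CommRingCat.of R)).residueField s)
  -- the flat closure
  obtain ⟨Z, z, w, _, hflat, H⟩ := H06FlatSub.exists_flat_closure hY p C'.subschemeι
  let F : X.Modules := (Scheme.Modules.pushforward z).obj (Coh.structureModule Z)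
  have hF : Coh.IsCoh F := LeadDev.isCoh_push_structure z
  haveI : Flat (z ≫ p) := hflat
  have hFfl : FlatMod.IsFlatOver p F :=
    H16Derived.TorTest.isFlatOver_push z p (H06EGA12.isFlatOver_structureModule (z ≫ p))
  have hFfp : CohB1.IsFP F := H10Coh.isFP_of_isCoh F hF
  let G : X.Modules := CohB1.tensorMod F L
  have hG : Coh.IsCoh G := H11Ample.isCoh_tensor hF hL
  have hGfl : FlatMod.IsFlatOver p G := fun x => H12Pic.AlgEquivEuler.isFlatOverAt_tensor p hL (hFfl x)
  have hGfp : CohB1.IsFP G := H10Coh.isFP_of_isCoh G hG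
  -- constancy of the Euler characteristics
  have key : ∀ M : X.Modules, Coh.IsCoh M → FlatMod.IsFlatOver p M → CohB1.IsFP M →
      Curv2.euler ((Spec (CommRingCat.of R)).residueField g) (p.fiber g) ((Scheme.Modules.pullback (p.fiberι g)).obj M) =
        Curv2.euler ((Spec (CommRingCat.of R)).residueField s) (p.fiber s) ((Scheme.Modules.pullback (p.fiberι s)).obj M) :=
    fun M hM hMfl hMfp => H28Bc.euler_eq_euler p M hM hMfl hMfp _ _ (IsPullback.of_hasPullback p _) _ _
      (IsPullback.of_hasPullback p _)
  -- the generic fibre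
  obtain ⟨eg⟩ := H17.DiagTensor.nonempty_pullback_push H
  -- the closed fibre
  obtain ⟨es⟩ := H17.DiagTensor.nonempty_pullback_push (IsPullback.of_hasPullback z (p.fiberι s))
  let Ls := (Scheme.Modules.pullback (p.fiberι s)).obj L
  let Fs := (Scheme.Modules.pullback (p.fiberι s)).obj F
  have hFs : Coh.IsCoh Fs := H17.ConsProp.isCoh_of_isFP (H06EGA9.isFP_pullback _ hFfp)
  have hdimC : topologicalKrullDim ↥C'.subscheme = (1 : WithBot ℕ∞) :=
    ((C'.subschemeι.isEmbedding.toHomeomorph.trans
      (Homeomorph.setCongr C'.range_subschemeι)).isHomeomorph.topologicalKrullDim_eq).trans hdim'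
  have Hg : IsPullback w (C'.subschemeι ≫ p.fiberToSpecResidueField g) (z ≫ p) _ :=
    H.paste_vert (IsPullback.of_hasPullback p ((Spec (CommRingCat.of R)).fromSpecResidueField g))
  have hZg : topologicalKrullDim ↥((z ≫ p).fiber g) ≤ (1 : WithBot ℕ∞) :=
    ((Scheme.homeoOfIso Hg.isoPullback).isHomeomorph.topologicalKrullDim_eq.symm.trans hdimC).le
  have hZs := dim_closed_fibre_le (z ≫ p) hZg (hY s).2
  have Hs := (IsPullback.of_hasPullback z (p.fiberι s)).paste_vert
    (IsPullback.of_hasPullback p ((Spec (CommRingCat.of R)).fromSpecResidueField s))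
  have hsupp : topologicalKrullDim (CohB1.support Fs) ≤ ((1 : ℕ) : WithBot ℕ∞) := by
    refine (H28Int.dim_le_of_subset ((LeadDev.support_subset_of_iso es).trans
      (fun y hy => not_not.1 fun hn => LeadDev.notMem_support_push (pullback.snd z (p.fiberι s)) _ hn hy))).trans ?_
    rw [← (pullback.snd z (p.fiberι s)).isEmbedding.toHomeomorph.isHomeomorph.topologicalKrullDim_eq,
      (Scheme.homeoOfIso Hs.isoPullback).isHomeomorph.topologicalKrullDim_eq, Nat.cast_one]
    exact hZs
  have hD := D_nonpos ((Spec (CommRingCat.of R)).residueField s) (A := Ls) (H11Ample.isInvertible_pullback _ hL)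
    h0 hFs hsupp
  change Curv2.euler _ _ Fs - Curv2.euler _ _ (CohB1.tensorMod Ls Fs) ≤ 0 at hD
  rw [H25Euler.euler_congr (H10Coh.Tw.commIso Ls Fs), ← H25Euler.euler_congr (H25Theta.pT (p.fiberι s) F L),
    ← key G hG hGfl hGfp, ← key F hF hFfl hFfp,
    H25Euler.euler_congr (H25Theta.pT (p.fiberι g) F L ≪≫ PicGrp.tensorModIso eg (Iso.refl _)),
    H25Euler.euler_congr eg] at hD
  exact sub_nonneg.2 (sub_nonpos.1 hD)

end Groth.Agent.H22Alg.NefSpec
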