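import Mathlib
import Groth.Prelude.Def_ClSub2
import Groth.Agent.H22Alg.BranchNorm
import Groth.Agent.H22Alg.DevLength
import Groth.Agent.H17.NagataNorm
import Groth.Agent.H29Fitt.Sheaf
import Groth.Agent.H10Coh.QcqsPush
import Groth.Agent.H10Coh.Support

/-!
# The cokernel of `O_X → ν_* O` for the normalization
-/

set_option autoImplicit false
set_option linter.style.haveILetI false

noncomputable section

universe u

open CategoryTheory CategoryTheory.Limits AlgebraicGeometry TopologicalSpace Opposite

namespace Groth.Agent.H22Alg.NormCoker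

theorem deltaInv_field (K : Type u) [CommRing K] (hK : IsField K) : Curv2.deltaInv K = 0 := by
  letI := hK.toField
  refine Module.length_eq_zero_iff.2 (Submodule.Quotient.subsingleton_iff.2 (LinearMap.range_eq_top.2 fun z => ?_))
  obtain ⟨a, ha⟩ := (IsFractionRing.surjective_iff_isField (R := K) (K := FractionRing K)).2 hK z.1
  exact ⟨a, Subtype.ext ha⟩

theorem length_integralClosure_quotient (A : Type u) [CommRing A] [IsDomain A] (K : Type u) [Field K] [Algebra A K]
    [IsFractionRing A K] :
    Module.length A (integralClosure A K ⧸ LinearMap.range (Algebra.linearMap A (integralClosure A K))) =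
      Curv2.deltaInv A := by
  let e := (FractionRing.algEquiv A K).symm.mapIntegralClosure
  refine LinearEquiv.length_eq (Submodule.Quotient.equiv _ _ e.toLinearEquiv ?_)
  refine le_antisymm ?_ ?_
  · rintro _ ⟨_, ⟨a, rfl⟩, rfl⟩
    exact ⟨a, (e.commutes a).symm⟩
  · rintro _ ⟨a, rfl⟩
    exact ⟨_, ⟨a, rfl⟩, e.commutes a⟩

variable (X : Scheme.{u}) [IsIntegral X] [QuasiCompact (X.fromSpecStalk (genericPoint X))]
  [QuasiSeparated (X.fromSpecStalk (genericPoint X))]

/-- The push forward of the structure sheaf of the normalization. -/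
abbrev pushO : X.Modules :=
  (Scheme.Modules.pushforward (Curv2.normalizationι X)).obj (Coh.structureModule (Curv2.normalization X))

theorem exists_stalk_equiv (x : X) :
    ∃ Ψ : (pushO X).presheaf.stalk x ≃ₗ[X.presheaf.stalk x] integralClosure (X.presheaf.stalk x) X.functionField,
      Ψ ((pushO X).presheaf.germ ⊤ x trivial (H11Ample.one (X := Curv2.normalization X) ⊤)) = 1 := by
  obtain ⟨U, hU, hx, -⟩ := exists_isAffineOpen_mem_and_subset (show x ∈ (⊤ : X.Opens) from trivial)
  haveI : Nonempty U := ⟨⟨x, hx⟩⟩
  haveI := functionField_isFractionRing_of_isAffineOpen X U hU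
  haveI : IsIntegralHom (Curv2.normalizationι X) := H22Alg.NormalizationDimOne.isIntegralHom_normalizationι X
  letI := TopCat.Presheaf.algebra_section_stalk X.presheaf (⟨x, hx⟩ : U)
  haveI := hU.isLocalization_stalk ⟨x, hx⟩
  haveI : IsScalarTower Γ(X, U) (X.presheaf.stalk x) X.functionField := functionField_isScalarTower X U ⟨x, hx⟩
  obtain ⟨φ, hφ⟩ := H22Alg.NormalizationDimOne.exists_obj_iso X hU
  let p := (hU.primeIdealOf ⟨x, hx⟩).asIdeal
  letI := (BranchNorm.incl (B := Γ(X, U)) (A := X.presheaf.stalk x) (L := X.functionField)).toAlgebra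
  haveI : IsScalarTower Γ(X, U) (integralClosure Γ(X, U) X.functionField)
      (integralClosure (X.presheaf.stalk x) X.functionField) :=
    .of_algebraMap_eq fun b => Subtype.ext rfl
  haveI hloc := BranchNorm.isLocalization_integralClosure (A := X.presheaf.stalk x) (L := X.functionField) p
  let θ : integralClosure Γ(X, U) X.functionField →ₗ[Γ(X, U)] integralClosure (X.presheaf.stalk x) X.functionField :=
    (IsScalarTower.toAlgHom Γ(X, U) _ _).toLinearMap
  haveI : IsLocalizedModule p.primeCompl θ := isLocalizedModule_iff_isLocalization.2 hloc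
  let ψ : Γ(pushO X, U) ≃ₗ[Γ(X, U)] integralClosure Γ(X, U) X.functionField :=
    { toFun := fun m => φ.symm m
      invFun := fun c => φ c
      map_add' := fun a b => map_add φ.symm a b
      map_smul' := fun b m => by
        show φ.symm ((Curv2.normalizationι X).app U b * (show Γ(Curv2.normalization X, _) from m)) = _
        rw [map_mul, ← hφ, RingEquiv.symm_apply_apply, Algebra.smul_def]
        rfl
      left_inv := fun m => φ.apply_symm_apply m
      right_inv := fun c => φ.symm_apply_apply c }
  letI := Module.compHom ((pushO X).presheaf.stalk x) (algebraMap Γ(X, U) (X.presheaf.stalk x))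
  haveI : IsScalarTower Γ(X, U) (X.presheaf.stalk x) ((pushO X).presheaf.stalk x) :=
    .of_algebraMap_smul fun _ _ => rfl
  haveI : IsLocalizedModule p.primeCompl (H29Fitt.germLin (pushO X) (⟨x, hx⟩ : U)) :=
    H29Fitt.isLocalizedModule_germLin (pushO X)
      (haveI := H10Coh.isQuasicoherent_unit (X := Curv2.normalization X);
        H10Coh.isQuasicoherent_pushforward_of_isAffineHom (Curv2.normalizationι X) _)
      hU ⟨x, hx⟩
  haveI : IsLocalizedModule p.primeCompl (θ.comp ψ.toLinearMap) :=
    IsLocalizedModule.of_linearEquiv_right p.primeCompl θ ψ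
  let Ψ := IsLocalizedModule.linearEquiv p.primeCompl (H29Fitt.germLin (pushO X) (⟨x, hx⟩ : U)) (θ.comp ψ.toLinearMap)
  refine ⟨Ψ.extendScalarsOfIsLocalization p.primeCompl (X.presheaf.stalk x), ?_⟩
  show Ψ ((pushO X).presheaf.germ ⊤ x trivial (H11Ample.one (X := Curv2.normalization X) ⊤)) = 1
  rw [← TopCat.Presheaf.germ_res_apply (pushO X).presheaf (homOfLE (le_top : U ≤ ⊤)) x hx]
  refine (IsLocalizedModule.linearEquiv_apply p.primeCompl _ _ _).trans ?_
  show θ (φ.symm ((Curv2.normalization X).presheaf.map _ (1 : Γ(Curv2.normalization X, ⊤)))) = 1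
  rw [map_one, map_one]
  show (IsScalarTower.toAlgHom Γ(X, U) (integralClosure Γ(X, U) X.functionField)
    (integralClosure (X.presheaf.stalk x) X.functionField)) 1 = 1
  rw [map_one]

theorem stalk_unit (x : X) (a : X.presheaf.stalk x) :
    H06Mod.stalkLin (ClSub.unitToPush (Curv2.normalizationι X)) x
        (a • (Coh.structureModule X).presheaf.germ ⊤ x trivial (H11Ample.one ⊤)) =
      a • (pushO X).presheaf.germ ⊤ x trivial (H11Ample.one (X := Curv2.normalization X) ⊤) := by
  rw [map_smul, H06Mod.stalkLin_germ]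
  congr 2
  exact map_one ((Curv2.normalizationι X).app ⊤).hom

theorem mono_unit : Mono (ClSub.unitToPush (Curv2.normalizationι X)) := by
  refine Preadditive.mono_of_kernel_zero ((H16Derived.KFlat.Stalk.isZero_of_stalk fun x => by
    obtain ⟨Ψ, hΨ⟩ := exists_stalk_equiv X x
    have hinj : Function.Injective (H06Mod.stalkLin (ClSub.unitToPush (Curv2.normalizationι X)) x) := by
      refine (injective_iff_map_eq_zero _).2 fun w hw => ?_
      obtain ⟨a, rfl⟩ := (H11Ample.isGen_one (X := X) ⊤ x trivial).2 w
      have h := congrArg Ψ ((stalk_unit X x a).symm.trans hw)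
      rw [map_smul, hΨ, map_zero, Algebra.smul_def, mul_one] at h
      have ha : a = 0 := by
        refine (injective_iff_map_eq_zero _).1 (IsFractionRing.injective (X.presheaf.stalk x) X.functionField) a ?_
        exact congrArg Subtype.val h
      exact ha ▸ zero_smul _ _
    haveI : Subsingleton ((DerSch.stalkFunctor X x).obj (kernel (ClSub.unitToPush (Curv2.normalizationι X)))) :=
      H10Coh.subsingleton_stalk_kernel _ x hinj
    exact ModuleCat.isZero_of_subsingleton _).eq_of_src _ _)

theorem length_coker (x : X) :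
    Module.length (X.presheaf.stalk x)
        ((cokernel (ClSub.unitToPush (Curv2.normalizationι X))).presheaf.stalk x) =
      Curv2.deltaInv (X.presheaf.stalk x) := by
  obtain ⟨Ψ, hΨ⟩ := exists_stalk_equiv X x
  let s := ClSub.unitToPush (Curv2.normalizationι X)
  let π := H06Mod.stalkLin (cokernel.π s) x
  have hπ : Function.Surjective π :=
    (ModuleCat.epi_iff_surjective _).1 (inferInstance : Epi ((DerSch.stalkFunctor X x).map (cokernel.π s)))
  let q := π ∘ₗ Ψ.symm.toLinearMap
  have hq : Function.Surjective q := hπ.comp Ψ.symm.surjective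
  have hone : ∀ a : X.presheaf.stalk x, Ψ.symm (algebraMap _ (integralClosure (X.presheaf.stalk x) X.functionField) a) =
      a • (pushO X).presheaf.germ ⊤ x trivial (H11Ample.one (X := Curv2.normalization X) ⊤) := fun a => by
    refine Ψ.injective ?_
    rw [LinearEquiv.apply_symm_apply, map_smul, hΨ, Algebra.smul_def, mul_one]
  have hker : LinearMap.ker q = LinearMap.range (Algebra.linearMap _ _) := by
    apply le_antisymm
    · intro v hv
      have hT : ((ShortComplex.mk s (cokernel.π s) (cokernel.condition _)).map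
          (DerSch.stalkFunctor X x)).Exact := (ShortComplex.exact_cokernel s).map _
      obtain ⟨w, hw⟩ := (ShortComplex.moduleCat_exact_iff _).1 hT (Ψ.symm v) hv
      obtain ⟨a, rfl⟩ := (H11Ample.isGen_one (X := X) ⊤ x trivial).2 w
      exact ⟨a, Ψ.symm.injective ((hone a).trans ((stalk_unit X x a).symm.trans hw))⟩
    · rintro _ ⟨a, rfl⟩
      show π (Ψ.symm (algebraMap _ _ a)) = 0
      rw [hone, ← stalk_unit]
      show (H06Mod.stalkLin (cokernel.π s) x) (H06Mod.stalkLin s x _) = 0
      show ((DerSch.stalkFunctor X x).map s ≫ (DerSch.stalkFunctor X x).map (cokernel.π s)).hom _ = 0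
      rw [← Functor.map_comp, cokernel.condition, Functor.map_zero]
      rfl
  rw [← length_integralClosure_quotient (X.presheaf.stalk x) X.functionField]
  exact ((Submodule.quotEquivOfEq _ _ hker).symm ≪≫ₗ q.quotKerEquivOfSurjective hq).length_eq.symm

theorem isFinite_normalization (hN : ∀ U : X.affineOpens, CAlg.IsNagata Γ(X, (U : X.Opens))) :
    IsFinite (Curv2.normalizationι X) := by
  haveI : IsReduced (Spec (X.presheaf.stalk (genericPoint X))) := by
    haveI : IsDomain (X.presheaf.stalk (genericPoint X)) := inferInstanceAs (IsDomain X.functionField)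
    infer_instance
  haveI : IsLocallyNoetherian (Spec (X.presheaf.stalk (genericPoint X))) := by
    haveI : IsNoetherianRing (X.presheaf.stalk (genericPoint X)) :=
      inferInstanceAs (IsNoetherianRing X.functionField)
    infer_instance
  refine H17.NagataNorm.finite_fromNormalization (X.fromSpecStalk (genericPoint X)) hN
    (H17.NagataNorm.locallyFinite_irreducibleComponents _) fun x _ => ?_
  exact RingHom.EssFiniteType.residueFieldMap
    ((RingHom.FiniteType.of_surjective _ ((X.fromSpecStalk (genericPoint X)).stalkMap_surjective x)).essFiniteType)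

theorem exists_denominator {B : Type*} [CommRing B] [IsDomain B] {K : Type*} [Field K] [Algebra B K]
    [IsFractionRing B K] [Module.Finite B (integralClosure B K)] :
    ∃ f : B, f ≠ 0 ∧ ∀ c : integralClosure B K, ∃ b : B, algebraMap B K b = algebraMap B K f * (c : K) := by
  classical
  obtain ⟨s, hs⟩ := (Module.Finite.fg_top : (⊤ : Submodule B (integralClosure B K)).FG)
  obtain ⟨⟨f, hf⟩, h⟩ := IsLocalization.exist_integer_multiples (nonZeroDivisors B) s
    (fun c : integralClosure B K => (c : K))
  refine ⟨f, nonZeroDivisors.ne_zero hf, fun c => ?_⟩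
  have hc : c ∈ Submodule.span B (s : Set (integralClosure B K)) := hs ▸ trivial
  induction hc using Submodule.span_induction with
  | mem c hc =>
    obtain ⟨b, hb⟩ := h c hc
    exact ⟨b, hb.trans (Algebra.smul_def f (c : K))⟩
  | zero => exact ⟨0, by simp⟩
  | add c d _ _ hc hd =>
    obtain ⟨b, hb⟩ := hc
    obtain ⟨b', hb'⟩ := hd
    exact ⟨b + b', by rw [map_add, hb, hb', Subalgebra.coe_add, mul_add]⟩
  | smul r c _ hc =>
    obtain ⟨b, hb⟩ := hc
    exact ⟨r * b, by rw [map_mul, hb, Subalgebra.coe_smul, Algebra.smul_def]; ring⟩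

theorem exists_isIso_open (hfin : IsFinite (Curv2.normalizationι X)) :
    ∃ U : X.Opens, Dense (U : Set X) ∧ IsIso (Curv2.normalizationι X ∣_ U) := by
  obtain ⟨U, hU, hx, -⟩ := exists_isAffineOpen_mem_and_subset (show genericPoint X ∈ (⊤ : X.Opens) from trivial)
  haveI : Nonempty U := ⟨⟨_, hx⟩⟩
  haveI := functionField_isFractionRing_of_isAffineOpen X U hU
  haveI : IsAffineHom (Curv2.normalizationι X) := hfin.toIsAffineHom
  obtain ⟨φ, hφ⟩ := H22Alg.NormalizationDimOne.exists_obj_iso X hU
  let ν := Curv2.normalizationι X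
  haveI : Module.Finite Γ(X, U) (integralClosure Γ(X, U) X.functionField) := by
    have h := (isFinite_iff ν).1 hfin |>.2 U hU
    letI := (ν.app U).hom.toAlgebra
    haveI : Module.Finite Γ(X, U) Γ(Curv2.normalization X, ν ⁻¹ᵁ U) := h
    exact Module.Finite.equiv (AlgEquiv.ofRingEquiv (f := φ.symm) fun b => φ.injective (by
      rw [RingEquiv.apply_symm_apply]; exact (hφ b).symm)).toLinearEquiv
  obtain ⟨f, hf, hden⟩ := exists_denominator (B := Γ(X, U)) (K := X.functionField)
  refine ⟨X.basicOpen f, ?_, ?_⟩
  · refine ((X.basicOpen f).2.dense (Set.nonempty_iff_ne_empty.2 fun he => hf ?_))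
    exact (AlgebraicGeometry.basicOpen_eq_bot_iff f).1 (SetLike.coe_injective (by simpa using he))
  · have hUf : IsAffineOpen (X.basicOpen f) := hU.basicOpen f
    haveI : IsAffine (X.basicOpen f).toScheme := hUf
    haveI : IsAffine (ν ⁻¹ᵁ X.basicOpen f).toScheme := hUf.preimage ν
    let B' := Γ(Curv2.normalization X, ν ⁻¹ᵁ U)
    have happ : Function.Bijective (ν.app (X.basicOpen f)) := by
      haveI := hU.isLocalization_basicOpen f
      have hpre : ν ⁻¹ᵁ X.basicOpen f = (Curv2.normalization X).basicOpen (ν.app U f) := Scheme.preimage_basicOpen ν f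
      letI : Algebra B' Γ(Curv2.normalization X, ν ⁻¹ᵁ X.basicOpen f) :=
        ((Curv2.normalization X).presheaf.map (homOfLE (ν.preimage_mono (X.basicOpen_le f))).op).hom.toAlgebra
      haveI : IsLocalization.Away (ν.app U f) Γ(Curv2.normalization X, ν ⁻¹ᵁ X.basicOpen f) :=
        (hU.preimage ν).isLocalization_of_eq_basicOpen (ν.app U f) (homOfLE (ν.preimage_mono (X.basicOpen_le f))) hpre
      have hnat : ∀ b : Γ(X, U), ν.app (X.basicOpen f) (algebraMap Γ(X, U) Γ(X, X.basicOpen f) b) =
          algebraMap B' Γ(Curv2.normalization X, ν ⁻¹ᵁ X.basicOpen f) (ν.app U b) :=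
        fun b => congr($(ν.naturality (homOfLE (X.basicOpen_le f)).op) b)
      have hfu : IsUnit (algebraMap Γ(X, U) Γ(X, X.basicOpen f) f) :=
        IsLocalization.map_units _ (⟨f, 1, pow_one f⟩ : Submonoid.powers f)
      constructor
      · refine (injective_iff_map_eq_zero _).2 fun z hz => ?_
        obtain ⟨⟨b, s⟩, hb⟩ := IsLocalization.surj (Submonoid.powers f) z
        have h0 : algebraMap B' Γ(Curv2.normalization X, ν ⁻¹ᵁ X.basicOpen f) (ν.app U b) = 0 := by
          rw [← hnat, ← hb, map_mul, hz, zero_mul]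
        obtain ⟨⟨_, m, rfl⟩, hm⟩ := (IsLocalization.map_eq_zero_iff (Submonoid.powers (ν.app U f)) _ _).1 h0
        have hb0 : f ^ m * b = 0 := by
          refine IsFractionRing.injective Γ(X, U) X.functionField ?_
          have key : ∀ b : Γ(X, U), ((φ.symm (ν.app U b) : integralClosure Γ(X, U) X.functionField) : X.functionField) =
              algebraMap Γ(X, U) X.functionField b := fun b => by rw [← hφ, RingEquiv.symm_apply_apply]; rfl
          have h1 := congrArg (fun w => ((φ.symm w : integralClosure Γ(X, U) X.functionField) : X.functionField)) hm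
          simp only [map_mul, map_pow, map_zero, Subalgebra.coe_mul, Subalgebra.coe_pow, Subalgebra.coe_zero, key] at h1 ⊢
          exact h1
        rw [(mul_eq_zero.1 hb0).resolve_left (pow_ne_zero m hf), map_zero] at hb
        exact (IsLocalization.map_units _ s).mul_left_eq_zero.1 hb
      · intro w
        obtain ⟨⟨c, ⟨_, m, rfl⟩⟩, hc⟩ := IsLocalization.surj (Submonoid.powers (ν.app U f)) w
        obtain ⟨b, hb⟩ := hden (φ.symm c)
        have hcb : ν.app U f * c = ν.app U b := by
          rw [← hφ, ← hφ, ← φ.apply_symm_apply c, ← map_mul]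
          exact congrArg φ (Subtype.ext hb.symm)
        refine ⟨algebraMap Γ(X, U) Γ(X, X.basicOpen f) b * ↑(hfu.pow (m + 1)).unit⁻¹, ?_⟩
        have hu2 : IsUnit (ν.app (X.basicOpen f) (algebraMap Γ(X, U) Γ(X, X.basicOpen f) f ^ (m + 1))) :=
          (hfu.pow (m + 1)).map _
        refine hu2.mul_left_injective ?_
        show ν.app _ _ * ν.app _ _ = w * ν.app _ _
        rw [← map_mul, mul_assoc, (hfu.pow (m + 1)).val_inv_mul, mul_one, map_pow, hnat, hnat, ← hcb, map_mul,
          pow_succ', ← mul_assoc, mul_comm w, mul_assoc, ← map_pow]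
        exact congrArg _ hc.symm
    haveI : IsIso ((ν ∣_ X.basicOpen f).appTop) := by
      rw [morphismRestrict_appTop]
      haveI : IsIso (ν.app (X.basicOpen f)) := (ConcreteCategory.isIso_iff_bijective _).2 happ
      haveI h1 : IsIso (ν.app ((X.basicOpen f).ι ''ᵁ ⊤)) := by rw [Scheme.Opens.ι_image_top]; infer_instance
      exact @IsIso.comp_isIso _ _ _ _ _ _ _ h1 (Functor.map_isIso _ _)
    exact (HasAffineProperty.iff_of_isAffine (P := MorphismProperty.isomorphisms Scheme)).2
      ⟨inferInstance, inferInstance⟩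

theorem eq_genericPoint_of_not_closed (hdim : topologicalKrullDim X = 1) {x : X} (hx : ¬ IsClosed ({x} : Set X)) :
    x = genericPoint X := by
  obtain ⟨y, hy, hne⟩ : ∃ y ∈ closure ({x} : Set X), y ≠ x := by
    by_contra h
    push Not at h
    exact hx (closure_subset_iff_isClosed.1 fun y hy => h y hy)
  by_contra hxη
  have hη : topologicalKrullDim (closure ({genericPoint X} : Set X)) ≤ ((1 : ℕ) : WithBot ℕ∞) :=
    (Topology.IsInducing.subtypeVal.topologicalKrullDim_le).trans hdim.le
  have h1 := DevLength.dim_closure_lt (genericPoint_specializes x) hxη hη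
  have h0 : topologicalKrullDim (closure ({x} : Set X)) ≤ ((0 : ℕ) : WithBot ℕ∞) := by
    rcases hD : topologicalKrullDim (closure ({x} : Set X)) with _ | p
    · exact bot_le
    · rw [hD] at h1
      exact WithBot.coe_le_coe.2 (ENat.lt_one_iff_eq_zero.1 (WithBot.coe_lt_coe.1 h1)).le
  have h2 := DevLength.dim_closure_lt (specializes_iff_mem_closure.2 hy) hne h0
  haveI : Nonempty (closure ({y} : Set X)) := ⟨⟨y, subset_closure rfl⟩⟩
  haveI : Nonempty (IrreducibleCloseds (closure ({y} : Set X))) :=
    ⟨⟨closure {⟨y, subset_closure rfl⟩}, isIrreducible_singleton.closure, isClosed_closure⟩⟩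
  exact absurd h2 (not_lt.2 (by exact_mod_cast Order.krullDim_nonneg))

theorem subsingleton_coker (hdim : topologicalKrullDim X = 1) {x : X} (hx : ¬ IsClosed ({x} : Set X)) :
    Subsingleton ((cokernel (ClSub.unitToPush (Curv2.normalizationι X))).presheaf.stalk x) := by
  refine Module.length_eq_zero_iff.1 ((length_coker X x).trans ?_)
  obtain rfl := eq_genericPoint_of_not_closed X hdim hx
  exact deltaInv_field _ (Field.toIsField X.functionField)

end Groth.Agent.H22Alg.NormCoker
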