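import Mathlib

/-!
# Descent of normality along flat morphisms
-/

set_option autoImplicit false
set_option linter.style.haveILetI false
universe u

open CategoryTheory AlgebraicGeometry

namespace Groth.Agent.H22Alg.NormalDescentField

/-- A faithfully flat subring of a normal domain is a normal domain. -/
theorem normal_of_faithfullyFlat {A B : Type u} [CommRing A] [CommRing B] [Algebra A B]
    [Module.FaithfullyFlat A B] [IsDomain B] [IsIntegrallyClosed B] : IsDomain A ∧ IsIntegrallyClosed A := by
  have hinj : Function.Injective (algebraMap A B) := FaithfulSMul.algebraMap_injective A B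
  haveI : IsDomain A := hinj.isDomain _
  refine ⟨inferInstance, (isIntegrallyClosed_iff (FractionRing A)).mpr fun {z} hz => ?_⟩
  obtain ⟨a, b, hb, rfl⟩ := IsFractionRing.div_surjective (A := A) z
  have hb0 : b ≠ 0 := nonZeroDivisors.ne_zero hb
  let ψ : FractionRing A →+* FractionRing B :=
    IsLocalization.lift (M := nonZeroDivisors A) (g := (algebraMap B (FractionRing B)).comp (algebraMap A B))
      fun s => isUnit_iff_ne_zero.mpr fun h =>
        nonZeroDivisors.ne_zero s.2 (hinj ((map_eq_zero_iff _ (IsFractionRing.injective B (FractionRing B))).mp h |>.trans (map_zero _).symm))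
  have hψ : ∀ x, ψ (algebraMap A (FractionRing A) x) = algebraMap B (FractionRing B) (algebraMap A B x) :=
    fun x => IsLocalization.lift_eq _ x
  obtain ⟨P, hPm, hP⟩ := hz
  have hint : IsIntegral B (ψ (algebraMap A _ a / algebraMap A _ b)) := by
    refine ⟨P.map (algebraMap A B), hPm.map _, ?_⟩
    have := congrArg ψ hP
    rw [Polynomial.hom_eval₂, map_zero] at this
    rw [Polynomial.eval₂_map, show (algebraMap B (FractionRing B)).comp (algebraMap A B) =
      ψ.comp (algebraMap A (FractionRing A)) from RingHom.ext fun x => (hψ x).symm]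
    exact this
  obtain ⟨c, hc⟩ := IsIntegrallyClosed.algebraMap_eq_of_integral hint
  have hmem : algebraMap A B a ∈ (Ideal.span {b}).map (algebraMap A B) := by
    rw [Ideal.map_span, Set.image_singleton, Ideal.mem_span_singleton']
    refine ⟨c, IsFractionRing.injective B (FractionRing B) ?_⟩
    rw [map_mul, hc, map_div₀, hψ, hψ, div_mul_cancel₀]
    exact fun h => hb0 (hinj ((map_eq_zero_iff _ (IsFractionRing.injective B (FractionRing B))).mp h |>.trans (map_zero _).symm))
  have h2 : a ∈ ((Ideal.span {b}).map (algebraMap A B)).comap (algebraMap A B) := hmem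
  rw [Ideal.comap_map_eq_self_of_faithfullyFlat, Ideal.mem_span_singleton'] at h2
  obtain ⟨d, rfl⟩ := h2
  exact ⟨d, by rw [map_mul, mul_div_cancel_right₀]; simpa using hb0⟩

/-- Normality at a point descends along a flat morphism. -/
theorem normal_stalk_of_flat {X Y : Scheme.{u}} (f : X ⟶ Y) [Flat f] (x : X)
    (h : IsDomain (X.presheaf.stalk x) ∧ IsIntegrallyClosed (X.presheaf.stalk x)) :
    IsDomain (Y.presheaf.stalk (f x)) ∧ IsIntegrallyClosed (Y.presheaf.stalk (f x)) := by
  letI := (f.stalkMap x).hom.toAlgebra
  haveI : IsLocalHom (algebraMap (Y.presheaf.stalk (f x)) (X.presheaf.stalk x)) :=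
    inferInstanceAs (IsLocalHom (f.stalkMap x).hom)
  haveI : Module.Flat (Y.presheaf.stalk (f x)) (X.presheaf.stalk x) := Flat.stalkMap f x
  haveI : Module.FaithfullyFlat (Y.presheaf.stalk (f x)) (X.presheaf.stalk x) := Module.FaithfullyFlat.of_flat_of_isLocalHom
  haveI := h.1
  haveI := h.2
  exact normal_of_faithfullyFlat (B := X.presheaf.stalk x)

end Groth.Agent.H22Alg.NormalDescentField
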