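import Mathlib

/-!
# Quasi-compact opens of a base change descend to a finitely generated subalgebra
-/

set_option autoImplicit false
set_option linter.style.haveILetI false
universe u

noncomputable section

open CategoryTheory CategoryTheory.Limits AlgebraicGeometry TensorProduct

namespace Groth.Agent.H22Alg.OpenDescSubalg

variable {k : Type u} [Field k] {X : Scheme.{u}} (p : X ⟶ Spec (CommRingCat.of k))

local notation "σ[" A "]" => Spec.map (CommRingCat.ofHom (algebraMap k A))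

variable {W : X.Opens} (hW : IsAffineOpen W) [Algebra k Γ(X, W)]
  (hp : hW.fromSpec ≫ p = Spec.map (CommRingCat.ofHom (algebraMap k Γ(X, W))))

/-- The chart of the base change over an affine open. -/
def chart (A : Type u) [CommRing A] [Algebra k A] :
    Spec (CommRingCat.of (Γ(X, W) ⊗[k] A)) ⟶ pullback p σ[A] :=
  (pullbackSpecIso k Γ(X, W) A).inv ≫ pullback.map _ σ[A] p σ[A] hW.fromSpec (𝟙 _) (𝟙 _)
    ((Category.comp_id _).trans hp.symm) ((Category.comp_id _).trans (Category.id_comp _).symm)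

theorem range_chart (A : Type u) [CommRing A] [Algebra k A] :
    Set.range (chart p hW hp A) = pullback.fst p σ[A] ⁻¹' (W : Set X) := by
  rw [chart, Scheme.Hom.comp_base, TopCat.coe_comp, Set.range_comp,
    Set.range_eq_univ.mpr (pullbackSpecIso k Γ(X, W) A).inv.surjective, Set.image_univ,
    Scheme.Pullback.range_map, hW.range_fromSpec]
  simp

instance (A : Type u) [CommRing A] [Algebra k A] : IsOpenImmersion (chart p hW hp A) := by
  delta chart; infer_instance

theorem chart_fst (A : Type u) [CommRing A] [Algebra k A] :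
    chart p hW hp A ≫ pullback.fst p σ[A] =
      Spec.map (CommRingCat.ofHom Algebra.TensorProduct.includeLeftRingHom) ≫ hW.fromSpec := by
  simp only [chart, Category.assoc, pullback.lift_fst]
  rw [pullbackSpecIso_inv_fst_assoc]

theorem chart_snd (A : Type u) [CommRing A] [Algebra k A] :
    chart p hW hp A ≫ pullback.snd p σ[A] =
      Spec.map (CommRingCat.ofHom (Algebra.TensorProduct.includeRight : A →ₐ[k] Γ(X, W) ⊗[k] A).toRingHom) := by
  simp only [chart, Category.assoc, pullback.lift_snd, Category.comp_id]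
  exact pullbackSpecIso_inv_snd _ _ _

/-- The chart is compatible with transition maps. -/
theorem chart_comp (A : Type u) [CommRing A] [Algebra k A] (A' : Subalgebra k A)
    (π : pullback p σ[A] ⟶ pullback p σ[A']) (h₁ : π ≫ pullback.fst _ _ = pullback.fst _ _)
    (h₂ : π ≫ pullback.snd _ _ = pullback.snd _ _ ≫ Spec.map (CommRingCat.ofHom A'.val.toRingHom)) :
    chart p hW hp A ≫ π = Spec.map (CommRingCat.ofHom
      (Algebra.TensorProduct.map (AlgHom.id k Γ(X, W)) A'.val).toRingHom) ≫ chart p hW hp A' := by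
  apply pullback.hom_ext
  · rw [Category.assoc, h₁, Category.assoc, chart_fst, chart_fst, ← Spec.map_comp_assoc]
    congr 2
  · rw [Category.assoc, h₂, reassoc_of% (chart_snd p hW hp A), Category.assoc, chart_snd,
      ← Spec.map_comp, ← Spec.map_comp]
    congr 1

/-- A point of an open of the base change lies in a basic open of a chart inside it. -/
theorem exists_nbhd (A : Type u) [CommRing A] [Algebra k A] (V : Set ↥(pullback p σ[A])) (hV : IsOpen V)
    (v : ↥(pullback p σ[A])) (hv : v ∈ V) :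
    ∃ S : Finset A, ∃ O : Set ↥(pullback p σ[A]), IsOpen O ∧ v ∈ O ∧ O ⊆ V ∧
      ∀ A' : Subalgebra k A, ↑S ⊆ (A' : Set A) → ∃ O' : Set ↥(pullback p σ[A']), IsOpen O' ∧ IsCompact O' ∧
        ∀ π : pullback p σ[A] ⟶ pullback p σ[A'], π ≫ pullback.fst _ _ = pullback.fst _ _ →
          π ≫ pullback.snd _ _ = pullback.snd _ _ ≫ Spec.map (CommRingCat.ofHom A'.val.toRingHom) →
            π ⁻¹' O' = O := by
  classical
  obtain ⟨W, hW, hxW, -⟩ := exists_isAffineOpen_mem_and_subset (x := pullback.fst p σ[A] v) (U := ⊤) trivial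
  letI : Algebra k Γ(X, W) := (Spec.preimage (hW.fromSpec ≫ p)).hom.toAlgebra
  have hp : hW.fromSpec ≫ p = Spec.map (CommRingCat.ofHom (algebraMap k Γ(X, W))) :=
    (Spec.map_preimage _).symm
  let c := chart p hW hp A
  obtain ⟨w, hw⟩ : v ∈ Set.range c := by rw [range_chart]; exact hxW
  obtain ⟨_, ⟨_, ⟨t, rfl⟩, rfl⟩, hwt, htV⟩ := PrimeSpectrum.isBasis_basic_opens.exists_subset_of_mem_open
    (show w ∈ c ⁻¹' V by rw [Set.mem_preimage, hw]; exact hv) (hV.preimage c.continuous)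
  obtain ⟨T, hT⟩ := TensorProduct.exists_finset (R := k) t
  refine ⟨T.image Prod.snd, c '' (PrimeSpectrum.basicOpen t : Set (PrimeSpectrum (Γ(X, W) ⊗[k] A))),
    c.isOpenEmbedding.isOpenMap _ (PrimeSpectrum.basicOpen t).2, ⟨w, hwt, hw⟩, Set.image_subset_iff.mpr htV, fun A' hA' => ?_⟩
  let t' : Γ(X, W) ⊗[k] A' := ∑ i ∈ T.attach, i.1.1 ⊗ₜ[k] (⟨i.1.2, hA' (Finset.mem_image_of_mem _ i.2)⟩ : A')
  have ht' : Algebra.TensorProduct.map (AlgHom.id k Γ(X, W)) A'.val t' = t := by
    simp only [t', map_sum, Algebra.TensorProduct.map_tmul, AlgHom.id_apply, Subalgebra.coe_val]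
    rw [hT]
    exact Finset.sum_attach T fun i => i.1 ⊗ₜ[k] i.2
  let c' := chart p hW hp A'
  refine ⟨c' '' (PrimeSpectrum.basicOpen t' : Set (PrimeSpectrum (Γ(X, W) ⊗[k] A'))),
    c'.isOpenEmbedding.isOpenMap _ (PrimeSpectrum.basicOpen t').2,
    (PrimeSpectrum.isCompact_basicOpen t').image c'.continuous, fun π h₁ h₂ => ?_⟩
  have hc := chart_comp p hW hp A A' π h₁ h₂
  let ψ : Spec (CommRingCat.of (Γ(X, W) ⊗[k] A)) ⟶ Spec (CommRingCat.of (Γ(X, W) ⊗[k] A')) :=
    Spec.map (CommRingCat.ofHom (Algebra.TensorProduct.map (AlgHom.id k Γ(X, W)) A'.val).toRingHom)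
  have hbasic : ∀ z, ψ z ∈ PrimeSpectrum.basicOpen t' ↔ z ∈ PrimeSpectrum.basicOpen t := fun z => by
    rw [← ht']; rfl
  have hcz : ∀ z, π (c z) = c' (ψ z) := fun z => by
    rw [← Scheme.Hom.comp_apply, show c ≫ π = ψ ≫ c' from hc, Scheme.Hom.comp_apply]
  ext y
  constructor
  · rintro ⟨z', hz', hz'y⟩
    have hy : y ∈ Set.range c := by
      rw [range_chart, Set.mem_preimage]
      have h3 : pullback.fst p σ[A'] (π y) ∈ W :=
        (range_chart p hW hp A').le ⟨z', hz'y⟩
      rwa [← Scheme.Hom.comp_apply, h₁] at h3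
    obtain ⟨z, rfl⟩ := hy
    refine ⟨z, (hbasic z).mp ?_, rfl⟩
    rwa [← c'.isOpenEmbedding.injective (hz'y.trans (hcz z))]
  · rintro ⟨z, hz, rfl⟩
    exact ⟨ψ z, (hbasic z).mpr hz, (hcz z).symm⟩

/-- A quasi-compact open of a base change comes from a finitely generated subalgebra. -/
theorem exists_descent (A : Type u) [CommRing A] [Algebra k A] (V : Set ↥(pullback p σ[A]))
    (hV : IsOpen V) (hVc : IsCompact V) :
    ∃ A' : Subalgebra k A, A'.FG ∧ ∃ V' : Set ↥(pullback p σ[A']), IsOpen V' ∧ IsCompact V' ∧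
      ∀ π : pullback p σ[A] ⟶ pullback p σ[A'], π ≫ pullback.fst _ _ = pullback.fst _ _ →
        π ≫ pullback.snd _ _ = pullback.snd _ _ ≫ Spec.map (CommRingCat.ofHom A'.val.toRingHom) →
          π ⁻¹' V' = V := by
  classical
  choose S O hO hvO hOV hdesc using fun v : V => exists_nbhd p A V hV v.1 v.2
  obtain ⟨s, hs⟩ := hVc.elim_finite_subcover O hO fun v hv => Set.mem_iUnion.mpr ⟨⟨v, hv⟩, hvO ⟨v, hv⟩⟩
  refine ⟨Algebra.adjoin k (↑(s.biUnion S) : Set A), ⟨_, rfl⟩, ?_⟩
  choose O' hO' hO'c hπ using fun i : s => hdesc i.1 (Algebra.adjoin k (↑(s.biUnion S) : Set A))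
    fun a ha => Algebra.subset_adjoin (Finset.mem_biUnion.mpr ⟨i.1, i.2, ha⟩)
  refine ⟨⋃ i : s, O' i, isOpen_iUnion hO', isCompact_iUnion hO'c, fun π h₁ h₂ => ?_⟩
  rw [Set.preimage_iUnion]
  refine Set.Subset.antisymm (Set.iUnion_subset fun i => (hπ i π h₁ h₂).le.trans (hOV i.1)) ?_
  intro v hv
  obtain ⟨i, hi, hvi⟩ := Set.mem_iUnion₂.mp (hs hv)
  exact Set.mem_iUnion.mpr ⟨⟨i, hi⟩, (hπ ⟨i, hi⟩ π h₁ h₂).ge hvi⟩

end Groth.Agent.H22Alg.OpenDescSubalg
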