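import Mathlib

/-! # Orders of vanishing on open subschemes. -/

set_option autoImplicit false
set_option linter.style.haveILetI false
universe u

open CategoryTheory AlgebraicGeometry TopologicalSpace

noncomputable section

namespace Groth.Agent.H22Alg.OrdOpen

theorem ord_ringEquiv {R R' : Type u} [CommRing R] [CommRing R'] (e : R ≃+* R') (a : R) :
    Ring.ord R' (e a) = Ring.ord R a := by
  letI := e.toRingHom.toAlgebra
  let ea : R ≃ₐ[R] R' := AlgEquiv.ofRingEquiv (f := e) fun _ => rfl
  have h : Ideal.span {e a} = Ideal.map (ea : R →+* R') (Ideal.span {a}) := by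
    rw [Ideal.map_span, Set.image_singleton]
    rfl
  rw [Ring.ord, Ring.ord, ← Module.length_eq_of_surjective (S := R) (show Function.Surjective (algebraMap R R') from e.surjective),
    (Ideal.quotientEquivAlg _ _ ea h).toLinearEquiv.length_eq]

theorem ordFrac_ringEquiv {R R' K K' : Type u} [CommRing R] [CommRing R'] [IsDomain R] [IsDomain R']
    [IsNoetherianRing R] [IsNoetherianRing R'] [Ring.KrullDimLE 1 R] [Ring.KrullDimLE 1 R']
    [Field K] [Field K'] [Algebra R K] [Algebra R' K'] [IsFractionRing R K] [IsFractionRing R' K']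
    (e : R ≃+* R') (φ : K →+* K') (h : ∀ a, φ (algebraMap R K a) = algebraMap R' K' (e a)) (f : K) :
    Ring.ordFrac R' (φ f) = Ring.ordFrac R f := by
  obtain ⟨a, b, hb, rfl⟩ := IsFractionRing.div_surjective (A := R) f
  have key : ∀ c : R, Ring.ordFrac R' (φ (algebraMap R K c)) = Ring.ordFrac R (algebraMap R K c) := fun c => by
    by_cases hc : c = 0
    · simp [hc]
    have hc' : e c ≠ 0 := by simpa using hc
    rw [h, Ring.ordFrac_eq_ord R' hc', Ring.ordFrac_eq_ord R hc,
      Ring.ordMonoidWithZeroHom_eq_ord (mem_nonZeroDivisors_of_ne_zero hc'),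
      Ring.ordMonoidWithZeroHom_eq_ord (mem_nonZeroDivisors_of_ne_zero hc), ord_ringEquiv]
  rw [map_div₀, map_div₀, map_div₀, key, key]

variable {X : Scheme.{u}} [IsIntegral X] (U : X.Opens) [Nonempty U]

theorem genericPoint_val : (genericPoint (U : Scheme.{u})).1 = genericPoint X :=
  genericPoint_eq_of_isOpenImmersion U.ι

/-- Restriction of rational functions to an open subscheme. -/
def toOpen : X.functionField →+* (U : Scheme.{u}).functionField :=
  (X.presheaf.stalkSpecializes (specializes_of_eq (genericPoint_val U)) ≫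
    (U.stalkIso (genericPoint (U : Scheme.{u}))).inv).hom

theorem toOpen_bijective : Function.Bijective (toOpen U) := by
  haveI : IsIso (X.presheaf.stalkSpecializes (specializes_of_eq (genericPoint_val U))) :=
    ⟨X.presheaf.stalkSpecializes (specializes_of_eq (genericPoint_val U).symm),
      by rw [TopCat.Presheaf.stalkSpecializes_comp, TopCat.Presheaf.stalkSpecializes_refl],
      by rw [TopCat.Presheaf.stalkSpecializes_comp, TopCat.Presheaf.stalkSpecializes_refl]⟩
  exact ConcreteCategory.bijective_of_isIso (X.presheaf.stalkSpecializes (specializes_of_eq (genericPoint_val U)) ≫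
    (U.stalkIso (genericPoint (U : Scheme.{u}))).inv)

theorem algebraMap_square (x : (U : Scheme.{u})) (a : X.presheaf.stalk x.1) :
    toOpen U (algebraMap (X.presheaf.stalk x.1) X.functionField a) =
      algebraMap ((U : Scheme.{u}).presheaf.stalk x) (U : Scheme.{u}).functionField
        ((U.stalkIso x).inv a) := by
  change (X.presheaf.stalkSpecializes ((genericPoint_spec X).specializes trivial) ≫
      X.presheaf.stalkSpecializes (specializes_of_eq (genericPoint_val U)) ≫
      (U.stalkIso (genericPoint (U : Scheme.{u}))).inv).hom a =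
    ((U.stalkIso x).inv ≫ (U : Scheme.{u}).presheaf.stalkSpecializes
      ((genericPoint_spec (U : Scheme.{u})).specializes trivial)).hom a
  rw [Scheme.Opens.stalkIso_inv, Scheme.Opens.stalkIso_inv, TopCat.Presheaf.stalkSpecializes_comp_assoc]
  refine congrArg (fun φ => (CommRingCat.Hom.hom φ) a) ?_
  exact Scheme.Hom.stalkSpecializes_stalkMap U.ι _ _ ((genericPoint_spec (U : Scheme.{u})).specializes trivial)

theorem coheight_eq (x : (U : Scheme.{u})) : Order.coheight x = Order.coheight x.1 := by
  have h := ringKrullDim_eq_of_ringEquiv (U.stalkIso x).commRingCatIsoToRingEquiv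
  rw [ringKrullDim_stalk_eq_coheight, ringKrullDim_stalk_eq_coheight] at h
  exact WithBot.coe_injective h

theorem ord_toOpen [IsLocallyNoetherian X] (x : (U : Scheme.{u})) (f : X.functionField) :
    Scheme.ord (toOpen U f) x = Scheme.ord f x.1 := by
  by_cases hx : Order.coheight x = 1
  · have hx' : Order.coheight x.1 = 1 := (coheight_eq U x).symm.trans hx
    rw [Scheme.ord_eq_ordHom_of_coheight_eq_one hx, Scheme.ord_eq_ordHom_of_coheight_eq_one hx']
    haveI : Ring.KrullDimLE 1 (X.presheaf.stalk x.1) := krullDimLE_of_coheight_le hx'.le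
    haveI : Ring.KrullDimLE 1 ((U : Scheme.{u}).presheaf.stalk x) := krullDimLE_of_coheight_le hx.le
    congr 2
    exact ordFrac_ringEquiv (U.stalkIso x).symm.commRingCatIsoToRingEquiv (toOpen U) (algebraMap_square U x) f
  · rw [Scheme.ord_eq_zero_of_coheight_neq_one hx,
      Scheme.ord_eq_zero_of_coheight_neq_one (fun h => hx ((coheight_eq U x).trans h))]

end Groth.Agent.H22Alg.OrdOpen
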