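import Groth.Agent.H22Alg.PnDeg0
import Groth.Agent.H22Alg.CohCechTensor
import Groth.Agent.H17.PullSectLocal

/-! # `p_* p^* M = M` and `p_* (p^* M(d)) = 0`, `-n ≤ d < 0`, for quasi-coherent `M` on the base of `P^n_T`. -/

set_option autoImplicit false
set_option linter.style.haveILetI false

universe u

open CategoryTheory CategoryTheory.Limits AlgebraicGeometry TopologicalSpace Opposite
open Groth.Agent.H11Tilde Groth.Agent.H11Ample
open scoped TensorProduct
attribute [local instance 10000] Groth.Agent.H10Coh.hasSheafifyAb Groth.Agent.H10Coh.hasWeakSheafifyAb Groth.Agent.H10Coh.hasExtAb Groth.Agent.H10Coh.enoughInjAb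

noncomputable section

namespace Groth.Agent.H22Alg.PnUnit

open PnVan H17.PullSect
attribute [local instance] PnVan.algZ

variable {n : ℕ} {T : Scheme.{u}} {W : T.Opens}

section General

variable {X Y Z : Scheme.{u}}

/-- Bijectivity of the pull-back of sections. -/
def BijOn (h : X ⟶ Y) (M : Y.Modules) (W : Y.Opens) : Prop := Function.Bijective (OmegaSh.pullSect h M W)

theorem bijOn_comp_iff_left {g : X ⟶ Y} {h : Y ⟶ Z} {M : Z.Modules} {W : Z.Opens} (hh : BijOn h M W) :
    BijOn (g ≫ h) M W ↔ BijOn g ((Scheme.Modules.pullback h).obj M) (h ⁻¹ᵁ W) := by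
  have hc := bijective_app ((Scheme.Modules.pullbackComp g h).inv.app M) ((g ≫ h) ⁻¹ᵁ W)
  have key := funext (pullSect_comp g h M W)
  unfold BijOn
  rw [← Function.Bijective.of_comp_iff' hc (OmegaSh.pullSect (g ≫ h) M W), Function.comp_def, key,
    ← Function.Bijective.of_comp_iff (OmegaSh.pullSect g _ (h ⁻¹ᵁ W)) hh]
  rfl

theorem bijOn_comp_iff_right {g : X ⟶ Y} {h : Y ⟶ Z} {M : Z.Modules} {W : Z.Opens}
    (hg : BijOn g ((Scheme.Modules.pullback h).obj M) (h ⁻¹ᵁ W)) :
    BijOn (g ≫ h) M W ↔ BijOn h M W := by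
  have hc := bijective_app ((Scheme.Modules.pullbackComp g h).inv.app M) ((g ≫ h) ⁻¹ᵁ W)
  have key := funext (pullSect_comp g h M W)
  unfold BijOn
  rw [← Function.Bijective.of_comp_iff' hc (OmegaSh.pullSect (g ≫ h) M W), Function.comp_def, key,
    ← Function.Bijective.of_comp_iff' hg (OmegaSh.pullSect h M W)]
  rfl

theorem bijOn_of_iso (h : X ⟶ Y) {M M' : Y.Modules} (e : M ≅ M') {W : Y.Opens} (hb : BijOn h M W) :
    BijOn h M' W := by
  have h1 := bijective_app e.hom W
  have h2 := bijective_app ((Scheme.Modules.pullback h).map e.hom) (h ⁻¹ᵁ W)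
  refine (Function.Bijective.of_comp_iff (OmegaSh.pullSect h M' W) h1).1 ?_
  refine (congrArg Function.Bijective (funext fun m => ?_)).mp (h2.comp hb)
  exact (pullSect_natural h e.hom W m).symm

theorem bijOn_congr {h h' : X ⟶ Y} (e : h = h') {M : Y.Modules} {W : Y.Opens} (hb : BijOn h M W) :
    BijOn h' M W := e ▸ hb

theorem bijOn_open (h : X ⟶ Y) {M : Y.Modules} {W W' : Y.Opens} (e : W = W') (hb : BijOn h M W) :
    BijOn h M W' := e ▸ hb

theorem bijOn_tilde (A : Type u) [CommRing A] {X : Scheme.{u}} [X.Over (Spec (CommRingCat.of A))]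
    (M : ModuleCat.{u} A) (hb : Function.Bijective (LeadBC.ηV A (X := X) M ⊤)) :
    BijOn (X ↘ Spec (CommRingCat.of A)) ((tilde.functor (CommRingCat.of A)).obj M) ⊤ := by
  have hi : ∀ m : M, LeadBC.ηV A (X := X) M ⊤ m = OmegaSh.pullSect (X ↘ Spec (CommRingCat.of A))
      ((tilde.functor (CommRingCat.of A)).obj M) ⊤ (H10Coh.TT.toG (A := CommRingCat.of A) M m) := fun m => by
    show LeadBC.ηgen (R := CommRingCat.of A) _ M ⊤ m = _
    rw [LeadBC.ηgen]
    exact congr($((((Scheme.Modules.pullback (X ↘ Spec (CommRingCat.of A))).obj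
      ((tilde.functor (CommRingCat.of A)).obj M)).presheaf.map_id (op (⊤ : X.Opens)))) _)
  refine (Function.Bijective.of_comp_iff _ (H10Coh.TT.bijective_toG (A := CommRingCat.of A) M)).1 ?_
  exact (congrArg Function.Bijective (funext hi)).mp hb

end General

theorem nonempty_qF_zero :
    Nonempty (LeadBC.qF (qW n T W) (Twist.twistProjSpace n Zu.{u} 0) ≅ Coh.structureModule (PW n T W)) := by
  obtain ⟨e₀⟩ : Nonempty (Twist.twistProjSpace n Zu.{u} 0 ≅ Coh.structureModule (CohB1.ProjSpace n Zu.{u})) :=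
    H11Tilde.nonempty_twist_zero_iso (CohB1.polyGrading n (ULift.{u} ℤ))
  exact ⟨(Scheme.Modules.pullback _).mapIso e₀ ≪≫ H16Derived.KFlat.Stalk.structurePullbackIso _⟩

theorem subsingleton_HH_structure_W (hW : IsAffineOpen W) (p : ℕ) :
    Subsingleton (Coh.HH (PW n T W) (Coh.structureModule (PW n T W)) (p + 1)) := by
  obtain ⟨e₁⟩ := nonempty_qF_zero (n := n) (T := T) (W := W)
  exact H10Coh.subsingleton_HH_of_iso e₁ _ (subsingleton_qF hW (by omega) p)

theorem bijective_η (hW : IsAffineOpen W) (N : ModuleCat.{u} Γ(T, W)) :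
    letI := overW (n := n) hW
    Function.Bijective (LeadBC.ηV Γ(T, W) (X := PW n T W) N ⊤) := by
  letI := overW (n := n) hW
  obtain ⟨ι, hι, U, hU⟩ := exists_cover (n := n)
  haveI hp : IsProper (PW n T W ↘ Spec (CommRingCat.of Γ(T, W))) :=
    MorphismProperty.of_isPullback (P := @IsProper) (isPullback_W hW)
      (inferInstanceAs (IsProper (CohB1.ProjSpace.toSpec n Zu.{u})))
  haveI : Flat (PW n T W ↘ Spec (CommRingCat.of Γ(T, W))) :=
    MorphismProperty.of_isPullback (P := @Flat) (isPullback_W hW) flat_toSpec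
  haveI := H8Props.FinLocFree.isQCoh_of_isFinLocFree _
    (finLocFree_of_inv (PnDeg0.isInvertible_structure (PW n T W)))
  exact CohCech.bijective_ηV_top Γ(T, W) (PW n T W) (LeadBC.goodCover_preU _ _ (isPullback_W hW) U hU)
    (H10Coh.SheafHom.isFlatOver_of_isFinLocFree _ _ (finLocFree_of_inv (PnDeg0.isInvertible_structure _)))
    (subsingleton_HH_structure_W hW) (PnDeg0.bijective_scal hW) N

theorem bijOn_pullback_fromSpec (hW : IsAffineOpen W) (M : T.Modules) (hM : Coh.IsQCoh M) :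
    letI := overW (n := n) hW
    BijOn (PW n T W ↘ Spec (CommRingCat.of Γ(T, W))) ((Scheme.Modules.pullback hW.fromSpec).obj M)
      (hW.fromSpec ⁻¹ᵁ W) := by
  letI := overW (n := n) hW
  haveI := H29Fitt.isQCoh_pullback hW.fromSpec M hM
  let N := (moduleSpecΓFunctor (R := Γ(T, W))).obj ((Scheme.Modules.pullback hW.fromSpec).obj M)
  exact bijOn_open _ hW.fromSpec_preimage_self.symm
    (bijOn_of_iso _ (H10Coh.tildeIso _) (bijOn_tilde Γ(T, W) N (bijective_η hW N)))

/-- Sections of `p^* M` over the preimage of an affine open. -/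
theorem bijective_pullSect (hW : IsAffineOpen W) (M : T.Modules) (hM : Coh.IsQCoh M) :
    Function.Bijective (OmegaSh.pullSect (KRR.pr n T) M W) := by
  letI := overW (n := n) hW
  have hw : (PW n T W ↘ Spec (CommRingCat.of Γ(T, W))) ≫ hW.fromSpec = (KRR.pr n T ⁻¹ᵁ W).ι ≫ KRR.pr n T := by
    show ((KRR.pr n T ∣_ W) ≫ hW.isoSpec.hom) ≫ hW.fromSpec = _
    rw [Category.assoc, hW.isoSpec_hom, hW.toSpecΓ_fromSpec, morphismRestrict_ι]
  have h0 := bijOn_pullback_fromSpec (n := n) hW M hM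
  have hj : BijOn hW.fromSpec M W :=
    H17.PullSect.bijective_pullSect _ _ (le_of_eq hW.opensRange_fromSpec.symm)
  have hι' : BijOn (KRR.pr n T ⁻¹ᵁ W).ι ((Scheme.Modules.pullback (KRR.pr n T)).obj M) (KRR.pr n T ⁻¹ᵁ W) :=
    H17.PullSect.bijective_pullSect _ _ (le_of_eq (Scheme.Opens.opensRange_ι _).symm)
  exact (bijOn_comp_iff_right hι').1 (bijOn_congr hw ((bijOn_comp_iff_left hj).2 h0))

/-- `M → p_* p^* M` is an isomorphism. -/
theorem isIso_unit (M : T.Modules) (hM : Coh.IsQCoh M) :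
    IsIso ((Scheme.Modules.pullbackPushforwardAdjunction (KRR.pr n T)).unit.app M) :=
  PnDeg0.isIso_of_bijective_basis _ (fun U => IsAffineOpen U)
    (fun V x hx => exists_isAffineOpen_mem_and_subset hx) fun U hU => bijective_pullSect hU M hM

/-- `p_* (p^* M(d)) = 0` for `-n ≤ d < 0`. -/
theorem isZero_push_pullback_neg {d : ℤ} (hd : -(n : ℤ) ≤ d) (hd' : d < 0) (M : T.Modules) (hM : Coh.IsQCoh M) :
    IsZero ((Scheme.Modules.pushforward (KRR.pr n T)).obj
      (KRR.twF n T d ((Scheme.Modules.pullback (KRR.pr n T)).obj M))) := by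
  rw [IsZero.iff_id_eq_zero]
  refine Scheme.Modules.hom_ext _ _ fun V => ConcreteCategory.hom_ext _ _ fun s => ?_
  change s = (0 : Γ((Scheme.Modules.pushforward (KRR.pr n T)).obj
    (KRR.twF n T d ((Scheme.Modules.pullback (KRR.pr n T)).obj M)), V))
  refine eq_of_locally _ _ fun x hx => ?_
  obtain ⟨U, hU, hxU, hUV⟩ := exists_isAffineOpen_mem_and_subset hx
  refine ⟨U, hUV, hxU, ?_⟩
  letI := overW (n := n) hU
  obtain ⟨N, ⟨e⟩⟩ := nonempty_restrict_iso (n := n) hU d M hM
  obtain ⟨ι, hι, C, hC⟩ := exists_cover (n := n)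
  haveI hp : IsProper (PW n T U ↘ Spec (CommRingCat.of Γ(T, U))) :=
    MorphismProperty.of_isPullback (P := @IsProper) (isPullback_W hU)
      (inferInstanceAs (IsProper (CohB1.ProjSpace.toSpec n Zu.{u})))
  haveI : Flat (PW n T U ↘ Spec (CommRingCat.of Γ(T, U))) :=
    MorphismProperty.of_isPullback (P := @Flat) (isPullback_W hU) flat_toSpec
  haveI := H8Props.FinLocFree.isQCoh_of_isFinLocFree _ (finLocFree_qF (n := n) (W := U) d)
  haveI : Subsingleton (LeadBC.sec Γ(T, U) (LeadBC.qF (qW n T U) (Twist.twistProjSpace n Zu.{u} d)) ⊤) :=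
    PnDeg0.subsingleton_qF_neg (n := n) hU hd hd'
  have hb := CohCech.bijective_τ_top Γ(T, U) (LeadBC.qF (qW n T U) (Twist.twistProjSpace n Zu.{u} d))
    (LeadBC.goodCover_preU _ _ (isPullback_W hU) C hC)
    (H10Coh.SheafHom.isFlatOver_of_isFinLocFree _ _ (finLocFree_qF d)) (subsingleton_qF hU hd) N
  have h1 : Subsingleton Γ(((CohIII.tensorAFunctor Γ(T, U) (LeadBC.qF (qW n T U) (Twist.twistProjSpace n Zu.{u} d))).obj N), ⊤) :=
    hb.2.subsingleton
  let O := KRR.pr n T ⁻¹ᵁ U
  let G := KRR.twF n T d ((Scheme.Modules.pullback (KRR.pr n T)).obj M)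
  have h2 : Subsingleton Γ(G.restrict O.ι, ⊤) :=
    (ConcreteCategory.bijective_of_isIso (e.hom.app ⊤)).2.subsingleton
  exact @Subsingleton.elim _ ((G.presheaf.mapIso (eqToIso (O.ι_image_top).symm).op).addCommGroupIsoToAddEquiv.toEquiv.subsingleton_congr.1 h2) _ _

end Groth.Agent.H22Alg.PnUnit
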