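import Groth.Agent.H22Alg.CMKer
import Groth.Agent.H22Alg.PnUnit
import Groth.Agent.H22Alg.SyzResolution
import Groth.Agent.H10Coh.QCohOps

/-! # The canonical resolution of a regular quasi-coherent module on `P^n_T`. -/

set_option autoImplicit false
set_option linter.style.haveILetI false

universe u

open CategoryTheory CategoryTheory.Limits AlgebraicGeometry ZeroObject
attribute [local instance] HasDerivedCategory.standard
attribute [local instance 10000] Groth.Agent.H10Coh.hasSheafifyAb Groth.Agent.H10Coh.hasWeakSheafifyAb Groth.Agent.H10Coh.hasExtAb Groth.Agent.H10Coh.enoughInjAb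

noncomputable section

namespace Groth.Agent.H22Alg.SyzPn

variable {n : ℕ} {T : Scheme.{u}}

variable (n T) in
/-- `p^* p_* F`. -/
abbrev PP (F : (KRR.PY n T).Modules) : (KRR.PY n T).Modules :=
  (Scheme.Modules.pullback (KRR.pr n T)).obj ((Scheme.Modules.pushforward (KRR.pr n T)).obj F)

variable (n T) in
/-- The counit. -/
abbrev ε (F : (KRR.PY n T).Modules) : PP n T F ⟶ F :=
  (Scheme.Modules.pullbackPushforwardAdjunction (KRR.pr n T)).counit.app F

variable (n T) in
/-- The next regular module. -/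
def next (F : (KRR.PY n T).Modules) : (KRR.PY n T).Modules := KRR.twF n T 1 (kernel (ε n T F))

/-- The iterates. -/
def Fk (F : (KRR.PY n T).Modules) : ℕ → (KRR.PY n T).Modules
  | 0 => F
  | k + 1 => next n T (Fk F k)

theorem isQCoh_PP {F : (KRR.PY n T).Modules} (hF : Coh.IsQCoh F) : Coh.IsQCoh (PP n T F) :=
  H29Fitt.isQCoh_pullback (KRR.pr n T) _ (CMKer.isQCoh_pushforward_pr hF)

theorem isQCoh_next {F : (KRR.PY n T).Modules} (hF : Coh.IsQCoh F) : Coh.IsQCoh (next n T F) := by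
  haveI : (PP n T F).IsQuasicoherent := isQCoh_PP hF
  haveI : F.IsQuasicoherent := hF
  exact CMKer.isQCoh_twF 1 (H10Coh.isQuasicoherent_kernel (ε n T F))

theorem good {F : (KRR.PY n T).Modules} (hF : Coh.IsQCoh F) (hreg : KRR.IsRegSheaf n T F) :
    ∀ k, Coh.IsQCoh (Fk F k) ∧ KRR.IsRegSheaf n T (Fk F k)
  | 0 => ⟨hF, hreg⟩
  | k + 1 => ⟨isQCoh_next (good hF hreg k).1, CMKer.isRegSheaf_kernel (good hF hreg k).1 (good hF hreg k).2⟩

theorem shortExact_ker (F : (KRR.PY n T).Modules) [Epi (ε n T F)] :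
    (ShortComplex.mk (kernel.ι (ε n T F)) (ε n T F) (kernel.condition _)).ShortExact :=
  { exact := ShortComplex.exact_kernel _ }

theorem isIso_push_ε {F : (KRR.PY n T).Modules} (hF : Coh.IsQCoh F) :
    IsIso ((Scheme.Modules.pushforward (KRR.pr n T)).map (ε n T F)) := by
  haveI := PnUnit.isIso_unit (n := n) _ (CMKer.isQCoh_pushforward_pr hF)
  exact IsIso.of_isIso_fac_left
    ((Scheme.Modules.pullbackPushforwardAdjunction (KRR.pr n T)).right_triangle_components F)

theorem van_zero_iff {M : (KRR.PY n T).Modules} :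
    CMReg.Van 0 M ↔ IsZero ((Scheme.Modules.pushforward (KRR.pr n T)).obj M) := by
  refine ⟨fun h => ?_, fun h => ?_⟩
  · refine (IsZero.iff_id_eq_zero _).2 ((H10Coh.shF T).map_injective ?_)
    exact (h.of_iso ((Coh.pushAb (KRR.pr n T)).rightDerivedZeroIsoSelf.app (Coh.toAb M)).symm :
      IsZero ((H10Coh.shF T).obj ((Scheme.Modules.pushforward (KRR.pr n T)).obj M))).eq_of_src _ _
  · exact ((H10Coh.shF T).map_isZero h :
      IsZero ((Coh.pushAb (KRR.pr n T)).obj (Coh.toAb M))).of_iso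
      ((Coh.pushAb (KRR.pr n T)).rightDerivedZeroIsoSelf.app _)

theorem van_zero_left {S : ShortComplex (KRR.PY n T).Modules} (hS : S.ShortExact) (h₂ : CMReg.Van 0 S.X₂) :
    CMReg.Van 0 S.X₁ := by
  haveI : (Scheme.Modules.pushforward (KRR.pr n T)).IsRightAdjoint :=
    (Scheme.Modules.pullbackPushforwardAdjunction (KRR.pr n T)).isRightAdjoint
  haveI := hS.mono_f
  rw [van_zero_iff] at h₂ ⊢
  exact IsZero.of_mono ((Scheme.Modules.pushforward (KRR.pr n T)).map S.f) h₂

theorem van_all {F : (KRR.PY n T).Modules} (hF : Coh.IsQCoh F) {q a : ℕ} (ha : 1 ≤ a) (han : a ≤ n) :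
    CMReg.Van q (KRR.twF n T (-(a : ℤ)) (PP n T F)) := by
  rcases Nat.eq_zero_or_pos q with rfl | hq
  · exact van_zero_iff.2 (PnUnit.isZero_push_pullback_neg (by omega) (by omega) _ (CMKer.isQCoh_pushforward_pr hF))
  · exact PnVan.van_pullback hq (by omega) _ (CMKer.isQCoh_pushforward_pr hF)

theorem van_kernel {F : (KRR.PY n T).Modules} (hF : Coh.IsQCoh F) (hreg : KRR.IsRegSheaf n T F) (q : ℕ) :
    CMReg.Van q (kernel (ε n T F)) := by
  haveI := CMGen.epi_counit hF hreg
  haveI := isIso_push_ε hF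
  have h₂ : ∀ i, 1 ≤ i → CMReg.Van i (PP n T F) := fun i hi => by
    obtain ⟨e⟩ := RegSheaf.nonempty_twF_zero (n := n) (T := T) (PP n T F)
    exact CMReg.van_iso e (PnVan.van_pullback hi (by omega) _ (CMKer.isQCoh_pushforward_pr hF))
  have hS := RegSheaf.shortExact_toAb (shortExact_ker F)
  match q with
  | 0 =>
    rw [van_zero_iff, IsZero.iff_id_eq_zero]
    haveI : (Scheme.Modules.pushforward (KRR.pr n T)).IsRightAdjoint :=
      (Scheme.Modules.pullbackPushforwardAdjunction (KRR.pr n T)).isRightAdjoint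
    rw [← cancel_mono ((Scheme.Modules.pushforward (KRR.pr n T)).map (kernel.ι (ε n T F))),
      ← cancel_mono ((Scheme.Modules.pushforward (KRR.pr n T)).map (ε n T F)), Category.assoc, ← Functor.map_comp,
      kernel.condition, Functor.map_zero, comp_zero, zero_comp, zero_comp]
  | 1 =>
    refine RegSheaf.isZero_one (Coh.pushAb (KRR.pr n T)) hS (h₂ 1 le_rfl) ?_
    exact (H10Coh.shF T).map_epi ((Scheme.Modules.pushforward (KRR.pr n T)).map (ε n T F))
  | i + 2 =>
    exact RegSheaf.isZero_left (Coh.pushAb (KRR.pr n T)) hS (i + 1) (CMReg.van_self hreg (by omega))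
      (h₂ (i + 1 + 1) (by omega))

theorem van_kernel_twist {F : (KRR.PY n T).Modules} (hF : Coh.IsQCoh F) (hreg : KRR.IsRegSheaf n T F) {a : ℕ}
    (ha : 1 ≤ a) (han : a ≤ n) (hF0 : ∀ q, CMReg.Van q (KRR.twF n T (-(a : ℤ)) F)) (q : ℕ) :
    CMReg.Van q (KRR.twF n T (-(a : ℤ)) (kernel (ε n T F))) := by
  haveI := CMGen.epi_counit hF hreg
  have hS := RegSheaf.shortExact_twist (n := n) (T := T) (-(a : ℤ)) (shortExact_ker F)
  cases q with
  | zero => exact van_zero_left hS (van_all hF ha han)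
  | succ i =>
    exact RegSheaf.isZero_left (Coh.pushAb (KRR.pr n T)) (RegSheaf.shortExact_toAb hS) i (hF0 i)
      (van_all hF ha han)

theorem van_Fk {F : (KRR.PY n T).Modules} (hF : Coh.IsQCoh F) (hreg : KRR.IsRegSheaf n T F) :
    ∀ k, k ≤ n + 1 → ∀ j, 1 ≤ j → j ≤ k → ∀ q, CMReg.Van q (KRR.twF n T (-(j : ℤ)) (Fk F k))
  | 0, _, j, h1, h2, _ => by omega
  | k + 1, hk, j, h1, h2, q => by
    obtain ⟨a, rfl⟩ : ∃ a, j = a + 1 := ⟨j - 1, by omega⟩
    obtain ⟨e⟩ := RegSheaf.nonempty_twF_twF (n := n) (T := T) (-((a + 1 : ℕ) : ℤ)) 1 (-(a : ℤ)) (by push_cast; ring)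
      (kernel (ε n T (Fk F k)))
    refine CMReg.van_iso e.symm ?_
    rcases Nat.eq_zero_or_pos a with rfl | ha
    · obtain ⟨e'⟩ := RegSheaf.nonempty_twF_zero (n := n) (T := T) (kernel (ε n T (Fk F k)))
      exact CMReg.van_iso e'.symm (van_kernel (good hF hreg k).1 (good hF hreg k).2 q)
    · exact van_kernel_twist (good hF hreg k).1 (good hF hreg k).2 ha (by omega)
        (fun q => van_Fk hF hreg k (by omega) a ha (by omega) q) q

theorem isZero_of_reg_push {G : (KRR.PY n T).Modules} (hG : Coh.IsQCoh G) (hreg : KRR.IsRegSheaf n T G)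
    (h0 : IsZero ((Scheme.Modules.pushforward (KRR.pr n T)).obj G)) : IsZero G := by
  haveI := CMGen.epi_counit hG hreg
  haveI : (Scheme.Modules.pullback (KRR.pr n T)).IsLeftAdjoint :=
    (Scheme.Modules.pullbackPushforwardAdjunction (KRR.pr n T)).isLeftAdjoint
  exact IsZero.of_epi (ε n T G) ((Scheme.Modules.pullback (KRR.pr n T)).map_isZero h0)

theorem isZero_twF {d : ℤ} {M : (KRR.PY n T).Modules} (h : IsZero M) : IsZero (KRR.twF n T d M) :=
  Functor.map_isZero ((DCoh.tensorBi (X := KRR.PY n T)).obj (Twist.twistOver n T d)) h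

theorem isZero_Fk_top {F : (KRR.PY n T).Modules} (hF : Coh.IsQCoh F) (hreg : KRR.IsRegSheaf n T F) :
    IsZero (Fk F (n + 1)) := by
  have hV := van_Fk hF hreg (n + 1) le_rfl
  have hq := (good hF hreg (n + 1)).1
  have hG : IsZero (KRR.twF n T (-1) (Fk F (n + 1))) := by
    refine isZero_of_reg_push (CMKer.isQCoh_twF _ hq) (fun i hi => ?_) (van_zero_iff.1 ?_)
    · by_cases h : i ≤ n
      · obtain ⟨e⟩ := RegSheaf.nonempty_twF_twF (n := n) (T := T) (-(i : ℤ)) (-1) (-((i + 1 : ℕ) : ℤ))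
          (by push_cast; ring) (Fk F (n + 1))
        exact CMReg.van_iso e.symm (hV (i + 1) (by omega) (by omega) i)
      · exact CMKer.van_high (by omega) (CMKer.isQCoh_twF _ (CMKer.isQCoh_twF _ hq))
    · exact hV 1 le_rfl (by omega) 0
  obtain ⟨e⟩ := RegSheaf.nonempty_twF_twF (n := n) (T := T) 1 (-1) 0 (by ring) (Fk F (n + 1))
  obtain ⟨e'⟩ := RegSheaf.nonempty_twF_zero (n := n) (T := T) (Fk F (n + 1))
  exact (isZero_twF hG).of_iso (e ≪≫ e').symm

theorem isZero_Fk {F : (KRR.PY n T).Modules} (hF : Coh.IsQCoh F) (hreg : KRR.IsRegSheaf n T F) :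
    ∀ k, IsZero (Fk F (n + 1 + k))
  | 0 => isZero_Fk_top hF hreg
  | k + 1 => by
    refine isZero_twF (IsZero.of_mono (kernel.ι (ε n T (Fk F (n + 1 + k)))) ?_)
    haveI : (Scheme.Modules.pullback (KRR.pr n T)).IsLeftAdjoint :=
      (Scheme.Modules.pullbackPushforwardAdjunction (KRR.pr n T)).isLeftAdjoint
    haveI : (Scheme.Modules.pushforward (KRR.pr n T)).IsRightAdjoint :=
      (Scheme.Modules.pullbackPushforwardAdjunction (KRR.pr n T)).isRightAdjoint
    exact (Scheme.Modules.pullback (KRR.pr n T)).map_isZero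
      ((Scheme.Modules.pushforward (KRR.pr n T)).map_isZero (isZero_Fk hF hreg k))

/-- The twisted iterates. -/
def Z (F : (KRR.PY n T).Modules) (k : ℕ) : (KRR.PY n T).Modules := KRR.twF n T (-(k : ℤ)) (Fk F k)

/-- The terms of the resolution. -/
def Lk (F : (KRR.PY n T).Modules) (k : ℕ) : (KRR.PY n T).Modules := KRR.twF n T (-(k : ℤ)) (PP n T (Fk F k))

variable (n T) in
/-- A chosen twisted-twice identification. -/
def shiftIso (k : ℕ) (M : (KRR.PY n T).Modules) :
    KRR.twF n T (-((k + 1 : ℕ) : ℤ)) (KRR.twF n T 1 M) ≅ KRR.twF n T (-(k : ℤ)) M :=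
  (RegSheaf.nonempty_twF_twF (n := n) (T := T) (-((k + 1 : ℕ) : ℤ)) 1 (-(k : ℤ)) (by push_cast; ring) M).some

/-- The projections. -/
def π (F : (KRR.PY n T).Modules) (k : ℕ) : Lk F k ⟶ Z F k :=
  ((DCoh.tensorBi (X := KRR.PY n T)).obj (Twist.twistOver n T (-(k : ℤ)))).map (ε n T (Fk F k))

/-- The inclusions. -/
def ι (F : (KRR.PY n T).Modules) (k : ℕ) : Z F (k + 1) ⟶ Lk F k :=
  (shiftIso n T k (kernel (ε n T (Fk F k)))).hom ≫
    ((DCoh.tensorBi (X := KRR.PY n T)).obj (Twist.twistOver n T (-(k : ℤ)))).map (kernel.ι (ε n T (Fk F k)))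

theorem w (F : (KRR.PY n T).Modules) (k : ℕ) : ι F k ≫ π F k = 0 := by
  refine (Category.assoc _ _ _).trans ?_
  refine (congrArg ((shiftIso n T k (kernel (ε n T (Fk F k)))).hom ≫ ·)
    ((Functor.map_comp _ _ _).symm.trans
      ((congrArg ((DCoh.tensorBi (X := KRR.PY n T)).obj (Twist.twistOver n T (-(k : ℤ)))).map
        (kernel.condition _)).trans (Functor.map_zero _ _ _)))).trans ?_
  exact comp_zero

theorem shortExact {F : (KRR.PY n T).Modules} (hF : Coh.IsQCoh F) (hreg : KRR.IsRegSheaf n T F) (k : ℕ) :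
    (ShortComplex.mk (ι F k) (π F k) (w F k)).ShortExact := by
  haveI := CMGen.epi_counit (good hF hreg k).1 (good hF hreg k).2
  let e : (ShortComplex.mk (kernel.ι (ε n T (Fk F k))) (ε n T (Fk F k)) (kernel.condition _)).map
      ((DCoh.tensorBi (X := KRR.PY n T)).obj (Twist.twistOver n T (-(k : ℤ)))) ≅
      ShortComplex.mk (ι F k) (π F k) (w F k) :=
    ShortComplex.isoMk (shiftIso n T k (kernel (ε n T (Fk F k)))).symm (Iso.refl _) (Iso.refl _)
      (by
        show (shiftIso n T k _).inv ≫ ι F k = _ ≫ 𝟙 _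
        refine ((Category.assoc _ _ _).symm.trans ?_).trans (Category.comp_id _).symm
        rw [Iso.inv_hom_id]
        exact Category.id_comp _)
      ((Category.id_comp _).trans (Category.comp_id _).symm)
  exact ShortComplex.shortExact_of_iso e (RegSheaf.shortExact_twist (-(k : ℤ)) (shortExact_ker (Fk F k)))

/-- The resolution. -/
theorem exists_resolution {F : (KRR.PY n T).Modules} (hF : Coh.IsQCoh F) (hreg : KRR.IsRegSheaf n T F) :
    ∃ (Tm : ℕ → T.Modules) (L : ChainComplex (KRR.PY n T).Modules ℕ)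
      (π : L ⟶ (ChainComplex.single₀ (KRR.PY n T).Modules).obj F),
      (∀ i, Coh.IsQCoh (Tm i)) ∧
      (∀ i, i ≤ n → Nonempty (L.X i ≅
        KRR.twF n T (-(i : ℤ)) ((Scheme.Modules.pullback (KRR.pr n T)).obj (Tm i)))) ∧
      (∀ i, n < i → IsZero (L.X i)) ∧ QuasiIso π := by
  obtain ⟨e⟩ : Nonempty (Z F 0 ≅ F) := RegSheaf.nonempty_twF_zero (n := n) (T := T) F
  haveI := SyzResolution.quasiIso_aug (π F) (ι F) (w F) (shortExact hF hreg)
  refine ⟨fun i => (Scheme.Modules.pushforward (KRR.pr n T)).obj (Fk F i),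
    SyzResolution.cx (π F) (ι F) (w F),
    SyzResolution.aug (π F) (ι F) (w F) ≫ (ChainComplex.single₀ (KRR.PY n T).Modules).map e.hom,
    fun i => CMKer.isQCoh_pushforward_pr (good hF hreg i).1, fun i _ => ⟨Iso.refl _⟩, fun i hi => ?_, inferInstance⟩
  obtain ⟨k, rfl⟩ : ∃ k, i = n + 1 + k := ⟨i - (n + 1), by omega⟩
  haveI : (Scheme.Modules.pullback (KRR.pr n T)).IsLeftAdjoint :=
    (Scheme.Modules.pullbackPushforwardAdjunction (KRR.pr n T)).isLeftAdjoint
  haveI : (Scheme.Modules.pushforward (KRR.pr n T)).IsRightAdjoint :=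
    (Scheme.Modules.pullbackPushforwardAdjunction (KRR.pr n T)).isRightAdjoint
  exact isZero_twF ((Scheme.Modules.pullback (KRR.pr n T)).map_isZero
    ((Scheme.Modules.pushforward (KRR.pr n T)).map_isZero (isZero_Fk hF hreg k)))

end Groth.Agent.H22Alg.SyzPn
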