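import Mathlib
import Groth.Agent.H22Alg.PicLiftIso

/-!
# Invertible modules on a reduced union of closed subschemes meeting in isolated points
-/

set_option autoImplicit false
set_option linter.style.haveILetI false

noncomputable section

universe u

open CategoryTheory CategoryTheory.Limits AlgebraicGeometry Opposite TopologicalSpace
open Groth.Agent.H11Tilde Groth.Agent.H11Ample

namespace Groth.Agent.H22Alg.PicClosedUnion

variable {X : Scheme.{u}} {I : Type u}

/-- A generator on the source of an open immersion generates the direct image. -/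
theorem isGen_push {Y : Scheme.{u}} (j : Y ⟶ X) [IsOpenImmersion j] (N : Y.Modules) {T : X.Opens}
    (hT : T ≤ j.opensRange) (e : Γ((Scheme.Modules.pushforward j).obj N, T))
    (he : IsGen N (show Γ(N, j ⁻¹ᵁ T) from e)) : IsGen ((Scheme.Modules.pushforward j).obj N) e :=
  isGen_of_bijective fun V hV => by
    haveI : IsIso (j.app V) := j.isIso_app V (hV.trans hT)
    exact (he.bijective (j.preimage_mono hV)).comp (ConcreteCategory.bijective_of_isIso (j.app V))

/-- Invertible modules on the members of a coproduct come from one on the coproduct. -/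
theorem exists_sigma (g : I → Scheme.{u}) (L : ∀ i, (g i).Modules) (hL : ∀ i, PicF.IsInvertible (L i)) :
    ∃ M : (∐ g).Modules, PicF.IsInvertible M ∧ ∀ i, Nonempty ((Scheme.Modules.pullback (Sigma.ι g i)).obj M ≅ L i) := by
  let P : I → (∐ g).Modules := fun i => (Scheme.Modules.pushforward (Sigma.ι g i)).obj (L i)
  let M := ∏ᶜ P
  have hsub : ∀ i k, k ≠ i → ∀ B : (∐ g).Opens, B ≤ (Sigma.ι g i).opensRange → Subsingleton Γ(P k, B) := by
    intro i k hki B hB
    have hbot : Sigma.ι g k ⁻¹ᵁ B = ⊥ := eq_bot_iff.2 fun y hy =>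
      (disjoint_opensRange_sigmaι g k i hki).le_bot (x := Sigma.ι g k y) ⟨⟨y, rfl⟩, hB hy⟩ |>.elim
    show Subsingleton Γ(L k, Sigma.ι g k ⁻¹ᵁ B)
    rw [hbot]
    let F : TopCat.Sheaf Ab.{u} (g k) := ⟨(L k).presheaf, (L k).isSheaf⟩
    exact ⟨fun a b => F.eq_of_locally_eq' (fun e : PEmpty.{u + 1} => e.elim) ⊥ (fun e => e.elim)
      (fun y hy => hy.elim) a b fun e => e.elim⟩
  have hbij : ∀ i (B : (∐ g).Opens), B ≤ (Sigma.ι g i).opensRange → Function.Bijective ((Pi.π P i).app B) := by
    classical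
    intro i B hB
    refine ⟨fun a b h => LineGlue.pi_ext P a b fun k => ?_, fun v => ?_⟩
    · by_cases hk : k = i
      · subst hk; exact h
      · haveI := hsub i k hk B hB
        exact Subsingleton.elim _ _
    · obtain ⟨z, hz⟩ := LineGlue.exists_pi P (V := B) (Function.update (fun _ => 0) i v)
      exact ⟨z, (hz i).trans (Function.update_self ..)⟩
  refine ⟨M, isInvertible_of_gen fun x => ?_, fun i => ?_⟩
  · obtain ⟨i, y, rfl⟩ : ∃ i y, Sigma.ι g i y = x := (sigmaOpenCover g).exists_eq x
    obtain ⟨V, e, hyV, he⟩ := exists_gen (hL i) y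
    let B := Sigma.ι g i ''ᵁ V
    have hB : B ≤ (Sigma.ι g i).opensRange := (Sigma.ι g i).image_le_opensRange V
    have hpre : Sigma.ι g i ⁻¹ᵁ B = V := (Sigma.ι g i).preimage_image_eq V
    obtain ⟨t, ht⟩ := (hbij i B hB).2 ((L i).presheaf.map (homOfLE hpre.le).op e)
    refine ⟨B, t, ⟨y, hyV, rfl⟩, LineGlue.isGen_of_hom (Pi.π P i) (fun B' h => hbij i B' (h.trans hB)) ?_⟩
    rw [ht]
    exact isGen_push _ _ hB _ (he.res hpre.le)
  · let φ : M.restrict (Sigma.ι g i) ⟶ L i :=
      (Scheme.Modules.restrictFunctor (Sigma.ι g i)).map (Pi.π P i) ≫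
        (Scheme.Modules.restrictAdjunction (Sigma.ι g i)).counit.app (L i)
    haveI : IsIso ((Scheme.Modules.restrictFunctor (Sigma.ι g i)).map (Pi.π P i)) := by
      rw [Scheme.Modules.Hom.isIso_iff_isIso_app]
      intro V
      rw [ConcreteCategory.isIso_iff_bijective]
      exact hbij i _ ((Sigma.ι g i).image_le_opensRange V)
    exact ⟨(Scheme.Modules.restrictFunctorIsoPullback (Sigma.ι g i)).symm.app M ≪≫ asIso φ⟩

/-- The restrictions to pieces of a reduced union meeting in isolated points are arbitrary. -/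
theorem exists_union [IsReduced X] [Finite I] (Z : I → X.IdealSheafData)
    (hcov : ⋃ i, ((Z i).support : Set X) = Set.univ)
    (hdisc : ∀ i j, i ≠ j → DiscreteTopology ↥(((Z i).support : Set X) ∩ ((Z j).support : Set X)))
    (L : ∀ i, (Z i).subscheme.Modules) (hL : ∀ i, PicF.IsInvertible (L i)) :
    ∃ N : X.Modules, PicF.IsInvertible N ∧
      ∀ i, Nonempty ((Scheme.Modules.pullback (Z i).subschemeι).obj N ≅ L i) := by
  classical
  let g : I → Scheme.{u} := fun i => (Z i).subscheme
  let f : ∐ g ⟶ X := Sigma.desc fun i => (Z i).subschemeι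
  have hι : ∀ i, Sigma.ι g i ≫ f = (Z i).subschemeι := fun i => Sigma.ι_desc _ _
  have happ : ∀ i y, f (Sigma.ι g i y) = (Z i).subschemeι y := fun i y => by
    rw [← Scheme.Hom.comp_apply, hι]
  have hsurj : ∀ z : (∐ g : Scheme.{u}), ∃ i y, Sigma.ι g i y = z := fun z => (sigmaOpenCover g).exists_eq z
  have hrange : ∀ i, Set.range (Z i).subschemeι = ((Z i).support : Set X) := fun i => (Z i).range_subschemeι
  haveI : IsAffineHom f := ⟨fun A hA => by
    have hA' : f ⁻¹ᵁ A = ⨆ i, Sigma.ι g i ''ᵁ ((Z i).subschemeι ⁻¹ᵁ A) := by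
      ext z
      obtain ⟨i, y, rfl⟩ := hsurj z
      rw [SetLike.mem_coe, SetLike.mem_coe, Opens.mem_iSup]
      constructor
      · intro h
        exact ⟨i, y, show (Z i).subschemeι y ∈ A by rw [← happ]; exact h, rfl⟩
      · rintro ⟨k, w, hw, e⟩
        show f (Sigma.ι g i y) ∈ A
        rw [← show Sigma.ι g k w = Sigma.ι g i y from e, happ]
        exact hw
    rw [hA']
    refine IsAffineOpen.iSup_of_disjoint (fun i => ((hA.preimage (Z i).subschemeι)).image_of_isOpenImmersion _) ?_
    intro i j hij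
    exact (disjoint_opensRange_sigmaι g i j hij).mono ((Sigma.ι g i).image_le_opensRange _)
      ((Sigma.ι g j).image_le_opensRange _)⟩
  have hfin : ∀ x : X, (f ⁻¹' {x}).Finite := fun x => by
    refine (Set.finite_iUnion fun i => ((Set.finite_singleton x).preimage
      (f := (Z i).subschemeι) (Z i).subschemeι.isClosedEmbedding.injective.injOn).image (Sigma.ι g i)).subset
        fun z hz => ?_
    obtain ⟨i, y, rfl⟩ := hsurj z
    exact Set.mem_iUnion.2 ⟨i, y, show (Z i).subschemeι y = x by rw [← happ]; exact hz, rfl⟩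
  have hcl : IsClosedMap f := fun C hC => by
    have : f '' C = ⋃ i, (Z i).subschemeι '' (Sigma.ι g i ⁻¹' C) := by
      ext x
      simp only [Set.mem_image, Set.mem_iUnion, Set.mem_preimage]
      constructor
      · rintro ⟨z, hz, rfl⟩
        obtain ⟨i, y, rfl⟩ := hsurj z
        exact ⟨i, y, hz, (happ i y).symm⟩
      · rintro ⟨i, y, hy, rfl⟩
        exact ⟨_, hy, happ i y⟩
    rw [this]
    exact isClosed_iUnion_of_finite fun i =>
      (Z i).subschemeι.isClosedEmbedding.isClosedMap _ (hC.preimage (Sigma.ι g i).continuous)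
  -- the open where the pieces are disjoint
  let D : Set X := ⋃ p ∈ ({p : I × I | p.1 ≠ p.2}), ((Z p.1).support : Set X) ∩ ((Z p.2).support : Set X)
  have hDcl : IsClosed D := (Set.toFinite _).isClosed_biUnion fun p _ => (Z p.1).support.isClosed.inter (Z p.2).support.isClosed
  have hD : _root_.IsDiscrete D := _root_.IsDiscrete.biUnion (Set.toFinite _)
    (fun p hp => isDiscrete_iff_discreteTopology.2 (hdisc (Prod.fst p) (Prod.snd p) hp))
    (fun p _ => (Z p.1).support.isClosed.inter (Z p.2).support.isClosed)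
  let V : X.Opens := ⟨Dᶜ, hDcl.isOpen_compl⟩
  have hdiscV : DiscreteTopology ((V : Set X)ᶜ : Set X) := by
    rw [show ((V : Set X)ᶜ) = D from compl_compl D]
    exact isDiscrete_iff_discreteTopology.1 hD
  haveI : Surjective (f ∣_ V) := ⟨fun x => by
    obtain ⟨i, hi⟩ := Set.mem_iUnion.1 (hcov.ge (Set.mem_univ x.1))
    obtain ⟨y, hy⟩ := (hrange i).ge hi
    have hfz : f (Sigma.ι g i y) = x.1 := (happ i y).trans hy
    refine ⟨⟨Sigma.ι g i y, show f (Sigma.ι g i y) ∈ V by rw [hfz]; exact x.2⟩, Subtype.ext ?_⟩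
    rw [morphismRestrict_base_coe]
    exact hfz⟩
  haveI : SurjectiveOnStalks (f ∣_ V) := ⟨fun z => by
    obtain ⟨i, y, hy⟩ := hsurj z.1
    have h1 : Function.Surjective (f.stalkMap z.1) := by
      rw [← hy]
      have h2 : Function.Surjective ((Sigma.ι g i ≫ f).stalkMap y) := by
        rw [hι]; exact (Z i).subschemeι.stalkMap_surjective y
      rw [Scheme.Hom.stalkMap_comp] at h2
      intro b
      obtain ⟨a, ha⟩ := h2 ((Sigma.ι g i).stalkMap y b)
      exact ⟨a, (ConcreteCategory.bijective_of_isIso ((Sigma.ι g i).stalkMap y)).1 ha⟩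
    let e := morphismRestrictStalkMap f V z
    have h3 : e.hom.left ≫ f.stalkMap z.1 ≫ e.inv.right = (f ∣_ V).stalkMap z := by
      have := e.inv.w
      simp only [Arrow.mk_hom, Arrow.mk_left, Arrow.mk_right, Functor.id_map, Functor.id_obj] at this
      rw [← this, ← Category.assoc, ← Arrow.comp_left, e.hom_inv_id, Arrow.id_left, Category.id_comp]
    show Function.Surjective ((f ∣_ V).stalkMap z)
    rw [← h3]
    exact (ConcreteCategory.bijective_of_isIso e.inv.right).2.comp
      (h1.comp (ConcreteCategory.bijective_of_isIso e.hom.left).2)⟩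
  haveI : IsClosedImmersion (f ∣_ V) := by
    refine { toSurjectiveOnStalks := inferInstance, isClosedEmbedding := ?_ }
    refine Topology.IsClosedEmbedding.of_continuous_injective_isClosedMap (f ∣_ V).continuous ?_ ?_
    · rintro ⟨a, ha⟩ ⟨b, hb⟩ h
      have h' : f a = f b := by
        have := congrArg Subtype.val h
        rwa [morphismRestrict_base_coe, morphismRestrict_base_coe] at this
      obtain ⟨i, y, rfl⟩ := hsurj a
      obtain ⟨j, w, rfl⟩ := hsurj b
      rw [happ, happ] at h'
      rcases eq_or_ne i j with rfl | hij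
      · exact Subtype.ext (congrArg (Sigma.ι g i).base ((Z i).subschemeι.isClosedEmbedding.injective h'))
      · refine absurd ?_ (show f (Sigma.ι g i y) ∉ D from ha)
        rw [happ]
        exact Set.mem_biUnion (x := (i, j)) (show i ≠ j from hij)
          ⟨(hrange i).le ⟨y, rfl⟩, (hrange j).le ⟨w, h'.symm⟩⟩
    · intro C hC
      obtain ⟨C', hC', rfl⟩ := isClosed_induced_iff.1 hC
      refine isClosed_induced_iff.2 ⟨f '' C', hcl _ hC', ?_⟩
      ext x
      constructor
      · rintro ⟨z, hz, hzx⟩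
        refine ⟨⟨z, show f z ∈ V by rw [hzx]; exact x.2⟩, hz, Subtype.ext ?_⟩
        rw [morphismRestrict_base_coe]
        exact hzx
      · rintro ⟨z, hz, rfl⟩
        exact ⟨z.1, hz, (morphismRestrict_base_coe f V z).symm⟩
  have hV : IsIso (f ∣_ V) := isIso_of_isClosedImmersion_of_surjective _
  obtain ⟨M, hM, hMi⟩ := exists_sigma g L hL
  obtain ⟨N, hN, ⟨e⟩⟩ := PicLiftIso.exists_lift' f (fun h => PicLift.exists_nbhd_gen' f hfin hcl h) V hV hdiscV M hM
  refine ⟨N, hN, fun i => ?_⟩
  obtain ⟨e'⟩ := hMi i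
  exact ⟨(Scheme.Modules.pullbackCongr (hι i)).symm.app N ≪≫ (Scheme.Modules.pullbackComp _ f).symm.app N ≪≫
    (Scheme.Modules.pullback (Sigma.ι g i)).mapIso e ≪≫ e'⟩

end Groth.Agent.H22Alg.PicClosedUnion
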