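import Mathlib
import Groth.Prelude.Def_PolLaw2
import Groth.Agent.H22Alg.PolLawTS

/-!
For a flat algebra (or when `d!` is invertible) the symmetric tensors are the divided power algebra.
-/

universe u

open scoped TensorProduct

namespace Groth.Agent.H22Alg.PL

variable {A : Type u} [CommRing A] {d : ℕ}

section Module

variable {M P P' : Type u} [AddCommGroup M] [Module A M] [AddCommGroup P] [Module A P]
  [AddCommGroup P'] [Module A P']

/-- The pure tensors with a factor killed by `π` (linear version). -/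
def badTensorsL (d : ℕ) (π : P →ₗ[A] M) : Set (⨂[A] _ : Fin d, P) :=
  {t | ∃ (p : Fin d → P) (k : Fin d), π (p k) = 0 ∧ t = PiTensorProduct.tprod A p}

theorem tprod_sub_tprod_memL (π : P →ₗ[A] M) {m m' : Fin d → P} (h : ∀ i, π (m i) = π (m' i)) :
    PiTensorProduct.tprod A m - PiTensorProduct.tprod A m' ∈ Submodule.span A (badTensorsL d π) := by
  classical
  have e : m = (m - m') + m' := (sub_add_cancel m m').symm
  rw [e, MultilinearMap.map_add_univ, ← Finset.add_sum_erase _ _ (Finset.mem_univ (∅ : Finset (Fin d))),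
    Finset.piecewise_empty, add_sub_cancel_left]
  refine Submodule.sum_mem _ fun s hs => ?_
  obtain ⟨k, hk⟩ := Finset.nonempty_iff_ne_empty.mpr (Finset.ne_of_mem_erase hs)
  refine Submodule.subset_span ⟨_, k, ?_, rfl⟩
  rw [Finset.piecewise_eq_of_mem _ _ _ hk, Pi.sub_apply, map_sub, h, sub_self]

/-- The kernel of the tensor power of a surjection (linear version). -/
theorem ker_map_le (π : P →ₗ[A] M) (hπ : Function.Surjective π) :
    LinearMap.ker (PiTensorProduct.map fun _ : Fin d => π) ≤ Submodule.span A (badTensorsL d π) := by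
  classical
  set R := Submodule.span A (badTensorsL d π)
  have hwd : ∀ m m' : Fin d → P, (∀ i, π (m i) = π (m' i)) →
      R.mkQ (PiTensorProduct.tprod A m) = R.mkQ (PiTensorProduct.tprod A m') := fun m m' h =>
    (Submodule.Quotient.eq R).mpr (tprod_sub_tprod_memL π h)
  set σ := Function.surjInv hπ
  have hσ : ∀ b, π (σ b) = b := Function.surjInv_eq hπ
  let Ψ : MultilinearMap A (fun _ : Fin d => M) ((⨂[A] _ : Fin d, P) ⧸ R) :=
    { toFun := fun b => R.mkQ (PiTensorProduct.tprod A fun i => σ (b i))
      map_update_add' := fun b i x y => by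
        have h1 := hwd (fun k => σ (Function.update b i (x + y) k))
          (Function.update (fun k => σ (b k)) i (σ x + σ y)) fun k => by
            rcases eq_or_ne k i with rfl | hk
            · simp [hσ]
            · simp [hσ, Function.update_of_ne hk]
        rw [h1, MultilinearMap.map_update_add, map_add]
        congr 1 <;>
        · refine hwd _ _ fun k => ?_
          rcases eq_or_ne k i with rfl | hk
          · simp [hσ]
          · simp [hσ, Function.update_of_ne hk]
      map_update_smul' := fun b i r x => by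
        have h1 := hwd (fun k => σ (Function.update b i (r • x) k))
          (Function.update (fun k => σ (b k)) i (r • σ x)) fun k => by
            rcases eq_or_ne k i with rfl | hk
            · simp [hσ]
            · simp [hσ, Function.update_of_ne hk]
        rw [h1, MultilinearMap.map_update_smul, map_smul]
        congr 1
        refine hwd _ _ fun k => ?_
        rcases eq_or_ne k i with rfl | hk
        · simp [hσ]
        · simp [hσ, Function.update_of_ne hk] }
  have key : ∀ t, PiTensorProduct.lift Ψ (PiTensorProduct.map (fun _ : Fin d => π) t) = R.mkQ t := by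
    intro t
    induction t using PiTensorProduct.induction_on with
    | smul_tprod r f =>
      simp only [map_smul, PiTensorProduct.map_tprod, PiTensorProduct.lift.tprod]
      congr 1
      exact hwd _ _ fun i => hσ _
    | add x y hx hy => simp only [map_add, hx, hy]
  intro t ht
  rw [← Submodule.Quotient.mk_eq_zero R]
  rw [LinearMap.mem_ker] at ht
  exact (key t).symm.trans (by rw [ht, map_zero])

end Module

section Free

open MvPolynomial

variable {B : Type u} [CommRing B] [Algebra A B] [Module.Flat A B]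

/-- Finitely many tensors on a free cover killed in `B` are killed by a map of free covers. -/
theorem exists_kill {ι : Type u} {P : Type u} [AddCommGroup P] [Module A P] (e : Module.Basis ι A P)
    (π : P →ₗ[A] B) (hπ : Function.Surjective π) (T : Finset (⨂[A] _ : Fin d, P))
    (hT : ∀ t ∈ T, PiTensorProduct.map (fun _ : Fin d => π) t = 0) :
    ∃ (σ : Type u) (π' : MvPolynomial σ A →ₐ[A] B) (h : P →ₗ[A] MvPolynomial σ A),
      Function.Surjective π' ∧ π'.toLinearMap ∘ₗ h = π ∧
      ∀ t ∈ T, PiTensorProduct.map (fun _ : Fin d => h) t = 0 := by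
  classical
  have hbad : ∀ t ∈ T, ∃ (m : ℕ) (a : Fin m → A) (p : Fin m → Fin d → P) (k : Fin m → Fin d),
      (∀ l, π (p l (k l)) = 0) ∧ t = ∑ l, a l • PiTensorProduct.tprod A (p l) := by
    intro t ht
    have hmem := ker_map_le π hπ (LinearMap.mem_ker.mpr (hT t ht))
    obtain ⟨m, a, g, hg⟩ := (Submodule.mem_span_set'.mp hmem)
    choose p k hk hp using fun l => (g l).2
    exact ⟨m, a, p, k, hk, by rw [← hg]; simp only [hp]⟩
  choose m a p k hk hp using hbad
  let bad : Finset P := T.attach.biUnion fun t => Finset.univ.image fun l => p t.1 t.2 l (k t.1 t.2 l)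
  let s : Finset ι := bad.biUnion fun x => (e.repr x).support
  let r : P →ₗ[A] (↥s →₀ A) := e.constr A fun j => if h : j ∈ s then Finsupp.single ⟨j, h⟩ 1 else 0
  let x₁ : (↥s →₀ A) →ₗ[A] B := Finsupp.linearCombination A fun j : ↥s => π (e j)
  let f : (↥bad →₀ A) →ₗ[A] (↥s →₀ A) := Finsupp.linearCombination A fun y : ↥bad => r y
  have hr : ∀ y : P, (e.repr y).support ⊆ s → x₁ (r y) = π y := by
    intro y hy
    conv_rhs => rw [← e.linearCombination_repr y]
    conv_lhs => rw [← e.linearCombination_repr y]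
    simp only [Finsupp.linearCombination_apply, Finsupp.sum, map_sum, map_smul]
    refine Finset.sum_congr rfl fun j hj => ?_
    congr 1
    rw [Module.Basis.constr_basis, dif_pos (hy hj)]
    simp [x₁]
  have hxf : x₁ ∘ₗ f = 0 := by
    refine Finsupp.lhom_ext fun y c => ?_
    obtain ⟨y, hy⟩ := y
    obtain ⟨t, -, hty⟩ := Finset.mem_biUnion.mp hy
    obtain ⟨l, -, rfl⟩ := Finset.mem_image.mp hty
    show x₁ (f (Finsupp.single ⟨_, hy⟩ c)) = 0
    simp only [f, Finsupp.linearCombination_single, map_smul]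
    rw [hr _ (Finset.subset_biUnion_of_mem (fun x => (e.repr x).support) hy), hk, smul_zero]
  obtain ⟨n, α, y₁, hxy, hαf⟩ := Module.Flat.exists_factorization_of_comp_eq_zero_of_free hxf
  let σ := ULift.{u} (Fin n) ⊕ B
  let π' : MvPolynomial σ A →ₐ[A] B :=
    aeval (Sum.elim (fun i => y₁ (Finsupp.single i.down 1)) id)
  let ins : (Fin n →₀ A) →ₗ[A] MvPolynomial σ A :=
    Finsupp.linearCombination A fun i => X (Sum.inl (ULift.up i))
  have hins : ∀ z, π' (ins z) = y₁ z := by
    intro z
    induction z using Finsupp.induction_linear with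
    | zero => simp
    | add z z' hz hz' => simp only [map_add, hz, hz']
    | single i c =>
      simp only [ins, Finsupp.linearCombination_single, map_smul, π', aeval_X, Sum.elim_inl]
      rw [← map_smul, Finsupp.smul_single, smul_eq_mul, mul_one]
  let h : P →ₗ[A] MvPolynomial σ A := e.constr A fun j =>
    if j ∈ s then ins (α (r (e j))) else X (Sum.inr (π (e j)))
  refine ⟨σ, π', h, fun b => ⟨X (Sum.inr b), by simp [π']⟩, ?_, fun t ht => ?_⟩
  · refine e.ext fun j => ?_
    show π' (h (e j)) = π (e j)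
    simp only [h, Module.Basis.constr_basis]
    split_ifs with hj
    · rw [hins, show y₁ (α (r (e j))) = x₁ (r (e j)) from (LinearMap.congr_fun hxy _).symm]
      exact hr _ (by
        rw [Module.Basis.repr_self]
        exact Finsupp.support_single_subset.trans (by simpa using hj))
    · simp [π']
  · rw [hp t ht, map_sum]
    refine Finset.sum_eq_zero fun l _ => ?_
    rw [map_smul, PiTensorProduct.map_tprod, MultilinearMap.map_coord_zero _ (k t ht l), smul_zero]
    set y := p t ht l (k t ht l)
    have hy : y ∈ bad := Finset.mem_biUnion.mpr ⟨⟨t, ht⟩, Finset.mem_attach _ _, Finset.mem_image_of_mem _ (Finset.mem_univ l)⟩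
    have hsupp : (e.repr y).support ⊆ s := Finset.subset_biUnion_of_mem (fun x => (e.repr x).support) hy
    have h1 : h y = ins (α (r y)) := by
      conv_lhs => rw [← e.linearCombination_repr y]
      conv_rhs => rw [← e.linearCombination_repr y]
      simp only [Finsupp.linearCombination_apply, Finsupp.sum, map_sum, map_smul]
      refine Finset.sum_congr rfl fun j hj => ?_
      congr 1
      simp only [h, Module.Basis.constr_basis, if_pos (hsupp hj)]
    rw [h1]
    have h2 : α (f (Finsupp.single ⟨y, hy⟩ 1)) = 0 := LinearMap.congr_fun hαf _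
    simp only [f, Finsupp.linearCombination_single, one_smul] at h2
    rw [h2, map_zero]

end Free

section Compare

open MvPolynomial

variable {B C P P' : Type u} [CommRing B] [Algebra A B] [CommRing C] [Algebra A C] [CommRing P] [Algebra A P]
  [CommRing P'] [Algebra A P'] {ι ι' : Type u}

theorem map_orbSum {M N : Type u} [AddCommGroup M] [Module A M] [AddCommGroup N] [Module A N]
    (h : M →ₗ[A] N) (b : ι → M) (ν : ι →₀ ℕ) :
    PiTensorProduct.map (fun _ : Fin d => h) (orbSum d b ν) = orbSum d (h ∘ b) ν := by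
  simp only [orbSum, map_sum, PiTensorProduct.map_tprod]
  rfl

/-- The linear factorisation is compatible with linear maps of covers, on symmetric tensors. -/
theorem fhat_map (γ : PolLaw.MulLaw A B C d) (e : Module.Basis ι A P) (e' : Module.Basis ι' A P')
    (π : P →ₐ[A] B) (π' : P' →ₐ[A] B) (h : P →ₗ[A] P') (hh : π'.toLinearMap ∘ₗ h = π.toLinearMap)
    {t : ⨂[A] _ : Fin d, P} (ht : t ∈ SymTen.TS A P d) :
    fhat d (γ.precomp π').law e' (PiTensorProduct.map (fun _ : Fin d => h) t) = fhat d (γ.precomp π).law e t := by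
  have hmem := TS_le_span e ht
  clear ht
  induction hmem using Submodule.span_induction with
  | mem x hx =>
    obtain ⟨ν, rfl⟩ := hx
    show fhat d (γ.precomp π').law e' (PiTensorProduct.map (fun _ : Fin d => h) (orbSum d e ν)) =
      fhat d (γ.precomp π).law e (orbSum d e ν)
    rw [map_orbSum, ← co_tpowLaw, fhat_co_tpowLaw, fhat_orbSum (γ.precomp π).homog, co_precomp_law,
      co_precomp_law]
    exact congrArg (fun b => co γ.law b ν) (funext fun j => LinearMap.congr_fun hh (e j))
  | zero => simp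
  | add a b _ _ ha hb => simp only [map_add, ha, hb]
  | smul r a _ ha => simp only [map_smul, ha]

theorem map_invariant {M N : Type u} [AddCommGroup M] [Module A M] [AddCommGroup N] [Module A N]
    (h : M →ₗ[A] N) (σ : Equiv.Perm (Fin d)) (t : ⨂[A] _ : Fin d, M) :
    PiTensorProduct.reindex A (fun _ : Fin d => N) σ (PiTensorProduct.map (fun _ : Fin d => h) t) =
      PiTensorProduct.map (fun _ : Fin d => h) (PiTensorProduct.reindex A (fun _ : Fin d => M) σ t) := by
  induction t using PiTensorProduct.induction_on with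
  | smul_tprod r f => simp [PiTensorProduct.reindex_tprod]
  | add x y hx hy => simp only [map_add, hx, hy]

variable {γ : PolLaw.MulLaw A B C d} {φ : C →ₐ[A] SymTen.TS A B d}

theorem val_fhat (hφ : ∀ (S : Type u) [CommSemiring S] [Algebra A S] (n : ℕ) (s : Fin n → S) (b : Fin n → B),
      ((SymTen.TS A B d).val.comp φ).toLinearMap.lTensor S (γ.law.toFun' S (∑ j, s j ⊗ₜ[A] b j)) =
        ∑ c : Fin d → Fin n, (∏ i, s (c i)) ⊗ₜ[A] PiTensorProduct.tprod A (fun i => b (c i)))
    (e : Module.Basis ι A P) (π : P →ₐ[A] B) {t : ⨂[A] _ : Fin d, P} (ht : t ∈ SymTen.TS A P d) :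
    ((φ (fhat d (γ.precomp π).law e t) : SymTen.TS A B d) : ⨂[A] _ : Fin d, B) =
      PiTensorProduct.map (fun _ : Fin d => π.toLinearMap) t := by
  have hmem := TS_le_span e ht
  clear ht
  induction hmem using Submodule.span_induction with
  | mem x hx =>
    obtain ⟨ν, rfl⟩ := hx
    show ((φ (fhat d (γ.precomp π).law e (orbSum d e ν)) : SymTen.TS A B d) : ⨂[A] _ : Fin d, B) =
      PiTensorProduct.map (fun _ : Fin d => π.toLinearMap) (orbSum d e ν)
    rw [fhat_orbSum (γ.precomp π).homog, co_precomp_law, val_co γ φ hφ, map_orbSum]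
    rfl
  | zero => simp
  | add a b _ _ ha hb => simp only [map_add, Subalgebra.coe_add, ha, hb]
  | smul r a _ ha => simp only [map_smul, Subalgebra.coe_smul, ha]

theorem exists_fhat_eq (hγ : PolLaw.IsGammaD γ) (e : Module.Basis ι A P) (π : P →ₐ[A] B)
    (hπ : Function.Surjective π) (c : C) :
    ∃ t ∈ SymTen.TS A P d, fhat d (γ.precomp π).law e t = c := by
  have hsp : Submodule.span A (Set.range (co γ.law fun p : P => π p)) = ⊤ := span_co_eq_top hγ (by
    rw [show Set.range (fun p : P => π p) = Set.univ from hπ.range_eq]; simp)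
  have hc := hsp.ge (Submodule.mem_top : c ∈ ⊤)
  induction hc using Submodule.span_induction with
  | mem x hx =>
    obtain ⟨ν, rfl⟩ := hx
    refine ⟨orbSum d id ν, orbSum_mem_TS _ _, ?_⟩
    rw [← co_tpowLaw, fhat_co_tpowLaw, co_precomp_law]
    rfl
  | zero => exact ⟨0, zero_mem _, map_zero _⟩
  | add a b _ _ ha hb =>
    obtain ⟨ta, hta, rfl⟩ := ha
    obtain ⟨tb, htb, rfl⟩ := hb
    exact ⟨ta + tb, add_mem hta htb, map_add _ _ _⟩
  | smul r a _ ha =>
    obtain ⟨ta, hta, rfl⟩ := ha
    exact ⟨r • ta, Subalgebra.smul_mem _ hta r, map_smul _ _ _⟩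

/-- For a flat algebra the comparison map to symmetric tensors is bijective. -/
theorem bijective_of_flat [Module.Flat A B] (hγ : PolLaw.IsGammaD γ)
    (hφ : ∀ (S : Type u) [CommSemiring S] [Algebra A S] (n : ℕ) (s : Fin n → S) (b : Fin n → B),
      ((SymTen.TS A B d).val.comp φ).toLinearMap.lTensor S (γ.law.toFun' S (∑ j, s j ⊗ₜ[A] b j)) =
        ∑ c : Fin d → Fin n, (∏ i, s (c i)) ⊗ₜ[A] PiTensorProduct.tprod A (fun i => b (c i))) :
    Function.Bijective φ := by
  classical
  let π : MvPolynomial B A →ₐ[A] B := aeval (id : B → B)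
  have hπ : Function.Surjective π := fun b => ⟨X b, aeval_X _ b⟩
  let e := basisMonomials B A
  refine ⟨(injective_iff_map_eq_zero φ).mpr fun c hc => ?_, fun y => ?_⟩
  · obtain ⟨t, ht, rfl⟩ := exists_fhat_eq hγ e π hπ c
    have h0 : PiTensorProduct.map (fun _ : Fin d => π.toLinearMap) t = 0 := by
      rw [← val_fhat hφ e π ht, hc]; rfl
    obtain ⟨σ, π', h, -, hh, hk⟩ := exists_kill e π.toLinearMap hπ {t} (by simpa using h0)
    rw [← fhat_map γ e (basisMonomials σ A) π π' h hh ht, hk t (Finset.mem_singleton_self t), map_zero]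
  · have hsT : ∀ z : ⨂[A] _ : Fin d, B, ∃ t, PiTensorProduct.map (fun _ : Fin d => π.toLinearMap) t = z := by
      intro z
      induction z using PiTensorProduct.induction_on with
      | smul_tprod r f =>
        exact ⟨r • PiTensorProduct.tprod A (fun i => Function.surjInv hπ (f i)), by
          simp [Function.surjInv_eq hπ]⟩
      | add x y hx hy => obtain ⟨a, rfl⟩ := hx; obtain ⟨b, rfl⟩ := hy; exact ⟨a + b, map_add _ _ _⟩
    obtain ⟨t, ht⟩ := hsT y
    let T := Finset.univ.image fun σ : Equiv.Perm (Fin d) =>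
      PiTensorProduct.reindex A (fun _ : Fin d => MvPolynomial B A) σ t - t
    obtain ⟨σ', π', h, -, hh, hk⟩ := exists_kill e π.toLinearMap hπ T (fun w hw => by
      obtain ⟨σ, -, rfl⟩ := Finset.mem_image.mp hw
      rw [map_sub, ← map_invariant, ht, y.2 σ, sub_self])
    set t' := PiTensorProduct.map (fun _ : Fin d => h) t with ht'_def
    have ht' : t' ∈ SymTen.TS A (MvPolynomial σ' A) d := fun σ => by
      rw [ht'_def, map_invariant, ← sub_eq_zero, ← map_sub]
      exact hk _ (Finset.mem_image_of_mem _ (Finset.mem_univ σ))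
    refine ⟨fhat d (γ.precomp π').law (basisMonomials σ' A) t', Subtype.ext ?_⟩
    rw [val_fhat hφ _ π' ht', ht'_def, ← LinearMap.comp_apply, ← PiTensorProduct.map_comp, ← ht]
    exact congrArg (fun g : MvPolynomial B A →ₗ[A] B => PiTensorProduct.map (fun _ : Fin d => g) t) hh

/-- Symmetric tensors of a free module form a flat module. -/
theorem flat_TS_of_free (e : Module.Basis ι A P) : Module.Flat A (SymTen.TS A P d) := by
  classical
  let b : {ν : ι →₀ ℕ // (ν.sum fun _ k => k) = d} → SymTen.TS A P d :=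
    fun ν => ⟨orbSum d e ν.1, orbSum_mem_TS _ _⟩
  have hli : LinearIndependent A b := by
    refine LinearIndependent.of_comp ((piBasis d e).repr.toLinearMap ∘ₗ (SymTen.TS A P d).val.toLinearMap) ?_
    rw [linearIndependent_iff']
    intro S g hg ν hν
    obtain ⟨c, hc⟩ := exists_cnt_eq ν.1 ν.2
    have h1 := DFunLike.congr_fun hg c
    simp only [Function.comp_apply, LinearMap.comp_apply, LinearEquiv.coe_coe, AlgHom.toLinearMap_apply,
      Subalgebra.coe_val, b, Finsupp.finsetSum_apply, Finsupp.smul_apply, Finsupp.coe_zero, Pi.zero_apply,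
      repr_orbSum, hc, smul_eq_mul, mul_ite, mul_one, mul_zero] at h1
    rw [Finset.sum_eq_single ν (fun μ _ hμ => if_neg fun h => hμ (Subtype.ext h.symm))
      (fun h => absurd hν h), if_pos rfl] at h1
    exact h1
  have hspan : ⊤ ≤ Submodule.span A (Set.range b) := by
    intro t _
    have hmem := TS_le_span e t.2
    have hle : Submodule.span A (Set.range fun ν : ι →₀ ℕ => orbSum d e ν) ≤
        (Submodule.span A (Set.range b)).map (SymTen.TS A P d).val.toLinearMap := by
      refine Submodule.span_le.mpr ?_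
      rintro _ ⟨ν, rfl⟩
      by_cases hν : (ν.sum fun _ k => k) = d
      · exact ⟨b ⟨ν, hν⟩, Submodule.subset_span ⟨⟨ν, hν⟩, rfl⟩, rfl⟩
      · refine ⟨0, zero_mem _, ?_⟩
        rw [map_zero]
        exact (Finset.sum_eq_zero fun c hc => absurd (mem_fib.mp hc ▸ degree_cnt c) hν).symm
    obtain ⟨s, hs, hst⟩ := hle hmem
    exact (Subtype.ext hst : s = t) ▸ hs
  have : Module.Free A (SymTen.TS A P d) := Module.Free.of_basis (Module.Basis.mk hli hspan)
  infer_instance

/-- The divided power algebra of a flat algebra is flat. -/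
theorem flat_gammaD [Module.Flat A B] (hγ : PolLaw.IsGammaD γ)
    (hφ : ∀ (S : Type u) [CommSemiring S] [Algebra A S] (n : ℕ) (s : Fin n → S) (b : Fin n → B),
      ((SymTen.TS A B d).val.comp φ).toLinearMap.lTensor S (γ.law.toFun' S (∑ j, s j ⊗ₜ[A] b j)) =
        ∑ c : Fin d → Fin n, (∏ i, s (c i)) ⊗ₜ[A] PiTensorProduct.tprod A (fun i => b (c i))) :
    Module.Flat A C := by
  classical
  refine Module.Flat.of_forall_exists_factorization fun {l f x} hxf => ?_
  let π : MvPolynomial B A →ₐ[A] B := aeval (id : B → B)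
  have hπ : Function.Surjective π := fun b => ⟨X b, aeval_X _ b⟩
  let e := basisMonomials B A
  choose t ht hq using fun i : Fin l => exists_fhat_eq hγ e π hπ (x (Finsupp.single i 1))
  let t₀ := ∑ i, f i • t i
  have ht₀ : t₀ ∈ SymTen.TS A (MvPolynomial B A) d :=
    sum_mem fun i _ => Subalgebra.smul_mem _ (ht i) (f i)
  have hfx : fhat d (γ.precomp π).law e t₀ = 0 := by
    rw [← hxf]
    simp only [t₀, map_sum, map_smul, hq]
    simp only [← map_smul, ← map_sum, Finsupp.smul_single, smul_eq_mul, mul_one, Finsupp.univ_sum_single]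
  have h0 : PiTensorProduct.map (fun _ : Fin d => π.toLinearMap) t₀ = 0 := by
    rw [← val_fhat hφ e π ht₀, hfx, map_zero]; rfl
  obtain ⟨σ, π', h, -, hh, hk⟩ := exists_kill e π.toLinearMap hπ {t₀} (by simpa using h0)
  have ht' : ∀ i, PiTensorProduct.map (fun _ : Fin d => h) (t i) ∈ SymTen.TS A (MvPolynomial σ A) d :=
    fun i σ' => by rw [map_invariant, ht i σ']
  let X' : (Fin l →₀ A) →ₗ[A] SymTen.TS A (MvPolynomial σ A) d :=
    Finsupp.linearCombination A fun i => (⟨_, ht' i⟩ : SymTen.TS A (MvPolynomial σ A) d)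
  have hX' : X' f = 0 := Subtype.ext (by
    refine Eq.trans ?_ (hk t₀ (Finset.mem_singleton_self t₀))
    simp only [X', t₀, Finsupp.linearCombination_apply, map_sum, map_smul]
    rw [Finsupp.sum_fintype _ _ (fun i => zero_smul A (⟨_, ht' i⟩ : SymTen.TS A (MvPolynomial σ A) d))]
    simp only [AddSubmonoidClass.coe_finsetSum, Subalgebra.coe_smul])
  have := flat_TS_of_free (d := d) (basisMonomials σ A)
  obtain ⟨k, a, y, hxy, haf⟩ := Module.Flat.exists_factorization_of_apply_eq_zero_of_free hX'
  let F : SymTen.TS A (MvPolynomial σ A) d →ₗ[A] C :=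
    (fhat d (γ.precomp π').law (basisMonomials σ A)) ∘ₗ (SymTen.TS A (MvPolynomial σ A) d).val.toLinearMap
  refine ⟨k, a, F ∘ₗ y, ?_, haf⟩
  rw [LinearMap.comp_assoc, ← hxy]
  refine Finsupp.lhom_ext fun i c => ?_
  rw [show Finsupp.single i c = c • Finsupp.single i (1 : A) from (Finsupp.smul_single_one i c).symm,
    map_smul, map_smul, ← hq i, ← fhat_map γ e (basisMonomials σ A) π π' h hh (ht i)]
  simp [X', F]

/-- The tensor-power law corestricted to the symmetric tensors exists for every algebra. -/
theorem exists_tsLaw (A B : Type u) [CommRing A] [CommRing B] [Algebra A B] (d : ℕ) :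
    ∃ τ : PolLaw.MulLaw A B (SymTen.TS A B d) d,
      PolLaw.postcomp (SymTen.TS A B d).val.toLinearMap τ.law = (SymTen.tpowLaw A B d).law :=
  exists_restrict (SymTen.tpowLaw A B d) (SymTen.TS A B d).val Subtype.val_injective fun ν =>
    ⟨⟨_, orbSum_mem_TS id ν⟩, (co_tpowLaw id ν).symm⟩

theorem tpowLaw_formula (S : Type u) [CommSemiring S] [Algebra A S] (n : ℕ) (s : Fin n → S) (b : Fin n → B) :
    (SymTen.tpowLaw A B d).law.toFun' S (∑ j, s j ⊗ₜ[A] b j) =
      ∑ c : Fin d → Fin n, (∏ i, s (c i)) ⊗ₜ[A] PiTensorProduct.tprod A (fun i => b (c i)) := by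
  classical
  have h := tpowLaw_sum (A := A) (d := d) (fun j : ULift.{u} (Fin n) => b j.down) Finset.univ
    (fun j : ULift.{u} (Fin n) => s j.down)
  rw [← Equiv.sum_comp Equiv.ulift.symm, Fintype.piFinset_univ] at h
  refine h.trans ?_
  exact Fintype.sum_equiv (Equiv.arrowCongr (Equiv.refl (Fin d)) Equiv.ulift) _ _ fun c => rfl

/-- When the comparison map is bijective, the symmetric tensors are the divided power algebra. -/
theorem exists_comparison (A B : Type u) [CommRing A] [CommRing B] [Algebra A B] (d : ℕ) :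
    ∃ (C : Type u) (_ : CommRing C) (_ : Algebra A C) (γ : PolLaw.MulLaw A B C d)
      (φ : C →ₐ[A] SymTen.TS A B d) (τ : PolLaw.MulLaw A B (SymTen.TS A B d) d),
      PolLaw.IsGammaD γ ∧
      (∀ (S : Type u) [CommSemiring S] [Algebra A S] (n : ℕ) (s : Fin n → S) (b : Fin n → B),
        (SymTen.TS A B d).val.toLinearMap.lTensor S (τ.law.toFun' S (∑ j, s j ⊗ₜ[A] b j)) =
          ∑ c : Fin d → Fin n, (∏ i, s (c i)) ⊗ₜ[A] PiTensorProduct.tprod A (fun i => b (c i))) ∧
      (∀ (S : Type u) [CommSemiring S] [Algebra A S] (n : ℕ) (s : Fin n → S) (b : Fin n → B),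
        ((SymTen.TS A B d).val.comp φ).toLinearMap.lTensor S (γ.law.toFun' S (∑ j, s j ⊗ₜ[A] b j)) =
          ∑ c : Fin d → Fin n, (∏ i, s (c i)) ⊗ₜ[A] PiTensorProduct.tprod A (fun i => b (c i))) ∧
      (Function.Bijective φ → PolLaw.IsGammaD τ) := by
  obtain ⟨C, i1, i2, γ, hγ⟩ := exists_gammaD A B d
  obtain ⟨τ, hτ⟩ := exists_tsLaw A B d
  obtain ⟨φ, hφ, -⟩ := hγ (SymTen.TS A B d) τ
  refine ⟨C, i1, i2, γ, φ, τ, hγ, fun S _ _ n s b => ?_, fun S _ _ n s b => ?_, fun hbij => ?_⟩
  · rw [← tpowLaw_formula S n s b, ← hτ]; rfl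
  · rw [← tpowLaw_formula S n s b, ← hτ, ← hφ]
    exact LinearMap.lTensor_comp_apply S (SymTen.TS A B d).val.toLinearMap φ.toLinearMap _
  · intro C' _ _ F
    obtain ⟨f, hf, huniq⟩ := hγ C' F
    let ψ := (AlgEquiv.ofBijective φ hbij).symm
    have hψ : ∀ z, ψ (φ z) = z := fun z => (AlgEquiv.ofBijective φ hbij).symm_apply_apply z
    have hττ : γ.postcomp φ = τ := PolLaw.MulLaw.ext hφ
    refine ⟨f.comp ψ.toAlgHom, ?_, fun g hg => ?_⟩
    · show PolLaw.postcomp (f.comp ψ.toAlgHom).toLinearMap τ.law = F.law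
      have : (τ.postcomp (f.comp ψ.toAlgHom)) = F := by
        rw [← hττ, postcomp_postcomp, show (f.comp ψ.toAlgHom).comp φ = f from AlgHom.ext fun z => congrArg f (hψ z)]
        exact PolLaw.MulLaw.ext hf
      exact congrArg PolLaw.MulLaw.law this
    · have hgF : γ.postcomp (g.comp φ) = F := by
        rw [← postcomp_postcomp, hττ]; exact PolLaw.MulLaw.ext hg
      have hgf : g.comp φ = f := huniq _ (congrArg PolLaw.MulLaw.law hgF)
      refine AlgHom.ext fun y => ?_
      obtain ⟨z, rfl⟩ := hbij.2 y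
      rw [AlgHom.comp_apply, ← hgf]
      exact (congrArg (fun w => g (φ w)) (hψ z)).symm

end Compare

end Groth.Agent.H22Alg.PL
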