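import Mathlib.RingTheory.Ideal.Height
import Mathlib.RingTheory.Polynomial.Basic
import Mathlib.RingTheory.DiscreteValuationRing.TFAE
import Mathlib.RingTheory.Localization.Submodule
import Mathlib.RingTheory.Localization.AtPrime.Basic
import Mathlib.RingTheory.Localization.FractionRing
import Mathlib.RingTheory.KrullDimension.Basic

/-!
Height one primes of a polynomial ring.
-/

universe u

open Polynomial

namespace Groth.Agent.H22Alg

theorem comap_C_cases {A : Type u} [CommRing A] [IsDomain A] (P : Ideal A[X]) [P.IsPrime]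
    (hP : P.height = 1) :
    P.comap (C : A →+* A[X]) = ⊥ ∨
      ((P.comap (C : A →+* A[X])).height = 1 ∧ P = (P.comap (C : A →+* A[X])).map C) := by
  set p := P.comap (C : A →+* A[X]) with hp
  by_cases hbot : p = ⊥
  · exact Or.inl hbot
  refine Or.inr ?_
  have hmapne : ∀ q : Ideal A, q ≠ ⊥ → q.map (C : A →+* A[X]) ≠ ⊥ := fun q hq h =>
    hq (Ideal.map_eq_bot_iff_of_injective C_injective |>.mp h)
  have hpp : (p.map (C : A →+* A[X])).IsPrime := Ideal.isPrime_map_C_of_isPrime
  have hfh : P.FiniteHeight := ⟨Or.inr (by rw [hP]; exact ENat.one_ne_top)⟩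
  have heq : p.map (C : A →+* A[X]) = P := by
    by_contra hne
    have hlt : p.map (C : A →+* A[X]) < P := lt_of_le_of_ne Ideal.map_comap_le hne
    have h1 : (p.map (C : A →+* A[X])).height = 0 := by
      have hfh' : (p.map (C : A →+* A[X])).FiniteHeight := ⟨Or.inr
        (ne_top_of_le_ne_top (by rw [hP]; exact ENat.one_ne_top) (Ideal.height_mono hlt.le))⟩
      have := Ideal.height_strict_mono_of_isPrime hlt
      rw [hP] at this
      exact Order.lt_one_iff.mp this
    exact hmapne p hbot (by
      have := Ideal.height_eq_zero_iff.mp h1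
      exact le_antisymm (this.2 ⟨Ideal.isPrime_bot, le_rfl⟩ bot_le) bot_le)
  refine ⟨?_, heq.symm⟩
  have hne0 : p.height ≠ 0 := fun h => hbot (le_antisymm
    ((Ideal.height_eq_zero_iff.mp h).2 ⟨Ideal.isPrime_bot, le_rfl⟩ bot_le) bot_le)
  refine le_antisymm ?_ (Order.one_le_iff_pos.mpr (pos_iff_ne_zero.mpr hne0))
  refine Ideal.height_le_iff.mpr fun q hq hqp => ?_
  have : q = ⊥ := by
    by_contra hq0
    have hqlt : q.map (C : A →+* A[X]) < P := by
      rw [← heq]
      refine lt_of_le_of_ne (Ideal.map_mono hqp.le) fun e => hqp.ne (le_antisymm hqp.le fun a ha => ?_)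
      have h : C a ∈ q.map (C : A →+* A[X]) := e ▸ Ideal.mem_map_of_mem C ha
      simpa using Ideal.mem_map_C_iff.mp h 0
    have : (q.map (C : A →+* A[X])).IsPrime := Ideal.isPrime_map_C_of_isPrime
    have hfh' : (q.map (C : A →+* A[X])).FiniteHeight := ⟨Or.inr
      (ne_top_of_le_ne_top (by rw [hP]; exact ENat.one_ne_top) (Ideal.height_mono hqlt.le))⟩
    have h' := Ideal.height_strict_mono_of_isPrime hqlt
    rw [hP, Order.lt_one_iff] at h'
    exact hmapne q hq0 (le_antisymm ((Ideal.height_eq_zero_iff.mp h').2 ⟨Ideal.isPrime_bot, le_rfl⟩ bot_le) bot_le)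
  rw [this, Ideal.height_bot]
  exact one_pos

theorem isDVR_of_forall_dvd {B : Type u} [CommRing B] [IsDomain B] [IsNoetherianRing B] (P : Ideal B)
    [P.IsPrime] (hP0 : P ≠ ⊥) (π : B) (hπ : π ∈ P)
    (h : ∀ x ∈ P, ∃ s ∉ P, π ∣ s * x) : IsDiscreteValuationRing (Localization.AtPrime P) := by
  set L := Localization.AtPrime P
  have : IsNoetherianRing L := IsLocalization.isNoetherianRing P.primeCompl L inferInstance
  have hmax : IsLocalRing.maximalIdeal L = Ideal.span {algebraMap B L π} := by
    rw [← IsLocalization.AtPrime.map_eq_maximalIdeal P L]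
    refine le_antisymm (Ideal.map_le_iff_le_comap.mpr fun x hx => ?_) ?_
    · obtain ⟨s, hs, c, hc⟩ := h x hx
      rw [Ideal.mem_comap, Ideal.mem_span_singleton]
      refine ((IsLocalization.map_units L (⟨s, hs⟩ : P.primeCompl)).dvd_mul_left).mp ⟨algebraMap B L c, ?_⟩
      rw [← map_mul, ← map_mul, ← hc]
    · rw [Ideal.span_singleton_le_iff_mem]; exact Ideal.mem_map_of_mem _ hπ
  have hnf : ¬ IsField L := by
    rw [IsLocalRing.isField_iff_maximalIdeal_eq, ← IsLocalization.AtPrime.map_eq_maximalIdeal P L]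
    intro h0
    exact hP0 ((Ideal.map_eq_bot_iff_of_injective
      (IsLocalization.injective L P.primeCompl_le_nonZeroDivisors)).mp h0)
  exact ((IsDiscreteValuationRing.TFAE L hnf).out 0 4).mpr (show (IsLocalRing.maximalIdeal L).IsPrincipal from ⟨⟨_, hmax⟩⟩)

theorem isDVR_polynomial {A : Type u} [CommRing A] [IsDomain A] [IsNoetherianRing A]
    (hR1 : ∀ (p : Ideal A) [p.IsPrime], p.height = 1 → IsDiscreteValuationRing (Localization.AtPrime p))
    (P : Ideal A[X]) [P.IsPrime] (hP : P.height = 1) :
    IsDiscreteValuationRing (Localization.AtPrime P) := by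
  classical
  have hP0 : P ≠ ⊥ := fun e => by rw [e, Ideal.height_bot] at hP; exact zero_ne_one hP
  rcases comap_C_cases P hP with h | ⟨hp1, hPp⟩
  · let K := FractionRing A
    let ι : A[X] →+* K[X] := mapRingHom (algebraMap A K)
    obtain ⟨g, hg⟩ := (IsPrincipalIdealRing.principal (P.map ι)).principal
    have hmem : ∀ f ∈ P.map ι, ∃ a : A, a ≠ 0 ∧ ∃ f' ∈ P, C (algebraMap A K a) * f = ι f' := by
      intro f hf
      induction hf using Submodule.span_induction with
      | mem x hx =>
        obtain ⟨y, hy, rfl⟩ := hx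
        exact ⟨1, one_ne_zero, y, hy, by simp⟩
      | zero => exact ⟨1, one_ne_zero, 0, P.zero_mem, by simp⟩
      | add x y _ _ hx hy =>
        obtain ⟨a, ha, x', hx', ex⟩ := hx
        obtain ⟨b, hb, y', hy', ey⟩ := hy
        refine ⟨a * b, mul_ne_zero ha hb, C b * x' + C a * y', P.add_mem (P.mul_mem_left _ hx') (P.mul_mem_left _ hy'), ?_⟩
        simp only [map_add, map_mul, ← ex, ← ey, ι, coe_mapRingHom, map_C]
        ring
      | smul r x _ hx =>
        obtain ⟨a, ha, x', hx', ex⟩ := hx
        obtain ⟨b, hbM, hb⟩ := IsLocalization.integerNormalization_spec (nonZeroDivisors A) r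
        refine ⟨b * a, mul_ne_zero (nonZeroDivisors.ne_zero hbM) ha, IsLocalization.integerNormalization (nonZeroDivisors A) r * x',
          P.mul_mem_left _ hx', ?_⟩
        rw [map_mul ι, ← ex, show ι (IsLocalization.integerNormalization (nonZeroDivisors A) r) = _ from hb,
          smul_eq_mul, Algebra.smul_def, Polynomial.algebraMap_apply]
        simp only [map_mul]
        ring
    obtain ⟨a, ha, π, hπ, eπ⟩ := hmem g (hg ▸ Submodule.mem_span_singleton_self g)
    refine isDVR_of_forall_dvd P hP0 π hπ fun x hx => ?_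
    have hx' : ι x ∈ Submodule.span K[X] {g} := hg ▸ Ideal.mem_map_of_mem ι hx
    obtain ⟨q, hq⟩ := Submodule.mem_span_singleton.mp hx'
    obtain ⟨b, hbM, hb⟩ := IsLocalization.integerNormalization_spec (nonZeroDivisors A) q
    refine ⟨C (b * a), fun hmem' => ?_, IsLocalization.integerNormalization (nonZeroDivisors A) q, ?_⟩
    · have : b * a ∈ P.comap (C : A →+* A[X]) := hmem'
      rw [h, Ideal.mem_bot] at this
      exact mul_ne_zero (nonZeroDivisors.ne_zero hbM) ha this
    · apply map_injective (algebraMap A K) (IsFractionRing.injective A K)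
      show ι _ = ι _
      rw [map_mul ι, map_mul ι, ← hq, ← eπ, show ι (IsLocalization.integerNormalization (nonZeroDivisors A) q) = _ from hb,
        smul_eq_mul, Algebra.smul_def, Polynomial.algebraMap_apply]
      simp only [ι, coe_mapRingHom, map_C, map_mul]
      ring
  · set p := P.comap (C : A →+* A[X])
    have := hR1 p hp1
    obtain ⟨⟨ϖ, hϖ⟩⟩ := IsPrincipalIdealRing.principal (IsLocalRing.maximalIdeal (Localization.AtPrime p))
    obtain ⟨⟨π, s⟩, rfl⟩ := IsLocalization.mk'_surjective p.primeCompl ϖ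
    have hπ : π ∈ p := (IsLocalization.AtPrime.mk'_mem_maximal_iff (Localization.AtPrime p) p π s).mp
      (hϖ ▸ Submodule.mem_span_singleton_self _)
    have hdiv : ∀ a ∈ p, ∃ t ∉ p, π ∣ t * a := by
      intro a ha
      have : algebraMap A (Localization.AtPrime p) a ∈ IsLocalRing.maximalIdeal (Localization.AtPrime p) := by
        rw [← IsLocalization.AtPrime.map_eq_maximalIdeal p]; exact Ideal.mem_map_of_mem _ ha
      rw [hϖ] at this
      obtain ⟨c, hc⟩ := Submodule.mem_span_singleton.mp this
      obtain ⟨⟨c, t⟩, rfl⟩ := IsLocalization.mk'_surjective p.primeCompl c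
      rw [smul_eq_mul, ← IsLocalization.mk'_mul, eq_comm, IsLocalization.eq_mk'_iff_mul_eq, ← map_mul] at hc
      have := IsLocalization.injective (Localization.AtPrime p) p.primeCompl_le_nonZeroDivisors hc
      exact ⟨((t * s : p.primeCompl) : A), (t * s).2, c, by rw [mul_comm _ a, this]; ring⟩
    have hCp : C π ∈ P := hπ
    refine isDVR_of_forall_dvd P hP0 (C π) hCp fun x hx => ?_
    rw [hPp] at hx
    choose t ht htd using fun i : ℕ => hdiv (x.coeff i) (Ideal.mem_map_C_iff.mp hx i)
    refine ⟨C (∏ i ∈ x.support, t i), ?_, ?_⟩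
    · intro hmem
      obtain ⟨i, -, hi⟩ := (Ideal.IsPrime.prod_mem_iff (p := p)).mp hmem
      exact ht i hi
    · rw [C_dvd_iff_dvd_coeff]
      intro n
      rw [coeff_C_mul]
      by_cases hn : n ∈ x.support
      · rw [← Finset.mul_prod_erase _ _ hn, mul_assoc, mul_comm (∏ i ∈ x.support.erase n, t i), ← mul_assoc]
        exact (htd n).mul_right _
      · rw [notMem_support_iff.mp hn, mul_zero]; exact dvd_zero π

end Groth.Agent.H22Alg
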