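import Mathlib
import Groth.Agent.H22Alg.ProjDim2

/-!
Covering the complement of a closed subset of projective space by few hypersurface complements.
-/

set_option autoImplicit false
set_option linter.style.haveILetI false

universe u

open MvPolynomial CohB1

namespace Groth.Agent.H22Alg.ProjDim

variable (k : Type u) [Field k] (n : ℕ)

local notation "𝒮" => MvPolynomial (Fin (n + 1)) k
local notation "ℙ" => ProjectiveSpectrum (polyGrading n k)

/-- Homogeneous prime avoidance with a positive degree form. -/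
theorem exists_form_avoiding (I : Ideal 𝒮) (hI : I.IsHomogeneous (polyGrading n k)) (S : Finset (Ideal 𝒮))
    (hS : ∀ q ∈ S, q.IsPrime ∧ q.IsHomogeneous (polyGrading n k) ∧ ¬ I ≤ q ∧
      ¬ (HomogeneousIdeal.irrelevant (polyGrading n k)).toIdeal ≤ q) :
    ∃ (d : ℕ) (h : 𝒮), 0 < d ∧ h.IsHomogeneous d ∧ h ∈ I ∧ ∀ q ∈ S, h ∉ q := by
  classical
  induction S using Finset.strongInduction with
  | H S ih =>
    rcases S.eq_empty_or_nonempty with rfl | hne
    · exact ⟨1, 0, one_pos, isHomogeneous_zero _ _ _, I.zero_mem, fun q hq => absurd hq (Finset.notMem_empty q)⟩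
    obtain ⟨p, hp⟩ := S.exists_minimal hne
    obtain ⟨D, h, hD, hh, hhI, hhS⟩ := ih (S.erase p) (Finset.erase_ssubset hp.1)
      fun q hq => hS q (Finset.mem_of_mem_erase hq)
    by_cases hhp : h ∈ p
    swap
    · exact ⟨D, h, hD, hh, hhI, fun q hq => if e : q = p then e ▸ hhp else hhS q (Finset.mem_erase.mpr ⟨e, hq⟩)⟩
    obtain ⟨hpp, -, hpI, hpirr⟩ := hS p hp.1
    let J : Ideal 𝒮 := I ⊓ (S.erase p).inf id
    have hJp : ¬ J ≤ p := by
      intro hle
      rcases hpp.inf_le.mp hle with h1 | h1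
      · exact hpI h1
      · obtain ⟨q, hq, hqp⟩ := hpp.inf_le'.mp h1
        exact (Finset.mem_erase.mp hq).1 (le_antisymm hqp (hp.2 (Finset.mem_of_mem_erase hq) hqp))
    obtain ⟨a, haJ, hap⟩ := SetLike.not_le_iff_exists.mp hJp
    obtain ⟨e, hec⟩ : ∃ e, homogeneousComponent e a ∉ p := by
      by_contra! hall
      exact hap (sum_homogeneousComponent a ▸ p.sum_mem fun i _ => hall i)
    have hcomp : ∀ K : Ideal 𝒮, K.IsHomogeneous (polyGrading n k) → a ∈ K → homogeneousComponent e a ∈ K :=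
      fun K hK ha => by
        have h1 := hK e ha
        rwa [show ((DirectSum.decompose (polyGrading n k) a e : 𝒮)) = homogeneousComponent e a from
          MvPolynomial.decomposition.decompose'_apply a e] at h1
    obtain ⟨l, hl⟩ : ∃ l, (X l : 𝒮) ∉ p := by
      by_contra! hall
      refine hpirr fun b hb => ?_
      rw [irrelevant_eq_ker, RingHom.mem_ker, constantCoeff_eq] at hb
      have h1 : b ∈ Ideal.span ((X : Fin (n + 1) → 𝒮) '' Set.univ) := mem_ideal_span_X_image.mpr fun m hm => by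
        by_contra! h2
        refine mem_support_iff.mp hm ?_
        rw [show m = 0 from Finsupp.ext fun i => h2 i trivial]
        exact hb
      exact (Ideal.span_le.mpr (by rintro _ ⟨j, -, rfl⟩; exact hall j)) h1
    let c := homogeneousComponent e a * X l
    have hc : c.IsHomogeneous (e + 1) := (homogeneousComponent_isHomogeneous e a).mul (isHomogeneous_X k l)
    have hcI : c ∈ I := I.mul_mem_right _ (hcomp I hI haJ.1)
    have hcp : c ∉ p := fun hcm => (hpp.mem_or_mem hcm).elim hec hl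
    have hcq : ∀ q ∈ S.erase p, c ∈ q := fun q hq => q.mul_mem_right _
      (hcomp q (hS q (Finset.mem_of_mem_erase hq)).2.1 (Finset.inf_le (f := id) hq haJ.2))
    refine ⟨D * (e + 1), h ^ (e + 1) + c ^ D, Nat.mul_pos hD e.succ_pos, (hh.pow (e + 1)).add ?_,
      I.add_mem (I.pow_mem_of_mem hhI _ e.succ_pos) (I.pow_mem_of_mem hcI _ hD), fun q hq hmem => ?_⟩
    · rw [mul_comm D]; exact hc.pow D
    by_cases hqp : q = p
    · subst hqp
      exact hcp (hpp.mem_of_pow_mem D ((q.add_mem_iff_right (q.pow_mem_of_mem hhp _ e.succ_pos)).mp hmem))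
    · have hq' := Finset.mem_erase.mpr ⟨hqp, hq⟩
      exact hhS q hq' ((hS q hq).1.mem_of_pow_mem (e + 1)
        ((q.add_mem_iff_left (q.pow_mem_of_mem (hcq q hq') _ hD)).mp hmem))

theorem mem_iff_vanishingIdeal_le {A : Set ℙ} (hA : IsClosed A) (x : ℙ) :
    x ∈ A ↔ (ProjectiveSpectrum.vanishingIdeal A).toIdeal ≤ x.asHomogeneousIdeal.toIdeal := by
  conv_lhs => rw [← hA.closure_eq, ← ProjectiveSpectrum.zeroLocus_vanishingIdeal_eq_closure]
  exact Iff.rfl

/-- `m` forms vanishing on `Y` cut out `A` inside the complement of `Y`, when `A ∖ Y` has small cones. -/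
theorem exists_forms {Y : Set ℙ} (hY : IsClosed Y) : ∀ (m : ℕ) (A : Set ℙ), IsClosed A →
    (∀ x ∈ A, x ∉ Y → qdim k n x ≤ m) → ∃ h : Fin m → 𝒮, (∀ j, ∃ d, 0 < d ∧ (h j).IsHomogeneous d) ∧
      (∀ j, ∀ y ∈ Y, h j ∈ y.asHomogeneousIdeal.toIdeal) ∧
      ∀ x ∈ A, x ∉ Y → ∃ j, h j ∉ x.asHomogeneousIdeal.toIdeal := by
  classical
  intro m
  induction m with
  | zero =>
    exact fun A _ hle => ⟨Fin.elim0, fun j => j.elim0, fun j => j.elim0, fun x hx hxY =>
      absurd (qdim_pos k n x) (by have := hle x hx hxY; omega)⟩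
  | succ m ih =>
    intro A hA hle
    let I := (ProjectiveSpectrum.vanishingIdeal Y).toIdeal
    let J := (ProjectiveSpectrum.vanishingIdeal A).toIdeal
    have hfin : J.minimalPrimes.Finite := Ideal.finite_minimalPrimes_of_isNoetherianRing _ J
    obtain ⟨d, h₀, hd, hh₀, hh₀I, hh₀S⟩ := exists_form_avoiding k n I (ProjectiveSpectrum.vanishingIdeal Y).isHomogeneous
      (hfin.toFinset.filter fun q => ¬ I ≤ q ∧ ¬ (HomogeneousIdeal.irrelevant (polyGrading n k)).toIdeal ≤ q)
      fun q hq => by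
        obtain ⟨hq1, hq2⟩ := Finset.mem_filter.mp hq
        rw [Set.Finite.mem_toFinset] at hq1
        exact ⟨hq1.1.1, H26Grass.Graded.isHomogeneous_of_mem_minimalPrimes
          (ProjectiveSpectrum.vanishingIdeal A).isHomogeneous hq1, hq2⟩
    obtain ⟨h, hhom, hhY, hcov⟩ := ih (A ∩ ProjectiveSpectrum.zeroLocus _ {h₀})
      (hA.inter (ProjectiveSpectrum.isClosed_zeroLocus _ _)) fun x hx hxY => by
        obtain ⟨q, hq, hqx⟩ := Ideal.exists_minimalPrimes_le ((mem_iff_vanishingIdeal_le k n hA x).mp hx.1)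
        haveI := hq.1.1
        let z : ℙ := ⟨⟨q, H26Grass.Graded.isHomogeneous_of_mem_minimalPrimes
          (ProjectiveSpectrum.vanishingIdeal A).isHomogeneous hq⟩, ‹_›, fun h => x.not_irrelevant_le (le_trans h hqx)⟩
        have hzx : z ≤ x := hqx
        have hzA : z ∈ A := (mem_iff_vanishingIdeal_le k n hA z).mpr hq.1.2
        have hzY : z ∉ Y := fun h => hxY (mem_closed_of_le k n hY h hzx)
        have hz0 : h₀ ∉ q := hh₀S q (Finset.mem_filter.mpr ⟨hfin.mem_toFinset.mpr hq,
          fun h => hzY ((mem_iff_vanishingIdeal_le k n hY z).mpr h), z.not_irrelevant_le⟩)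
        have h1 := qdim_lt k n (lt_of_le_of_ne hzx fun e => hz0 (show h₀ ∈ z.asHomogeneousIdeal.toIdeal from
          e ▸ hx.2 rfl))
        have h2 := hle z hzA hzY
        omega
    refine ⟨Fin.cons h₀ h, Fin.cases ⟨d, hd, hh₀⟩ hhom,
      Fin.cases (fun y hy => (mem_iff_vanishingIdeal_le k n hY y).mp hy hh₀I) hhY, fun x hx hxY => ?_⟩
    by_cases hx0 : h₀ ∈ x.asHomogeneousIdeal.toIdeal
    · obtain ⟨j, hj⟩ := hcov x ⟨hx, Set.singleton_subset_iff.mpr hx0⟩ hxY
      exact ⟨j.succ, by simpa using hj⟩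
    · exact ⟨0, by simpa using hx0⟩

/-- A point off `V(h)` has a specialization of cone dimension one less still off `V(h)`. -/
theorem exists_qdim_pred_avoiding (x : ℙ) {h : 𝒮} {e : ℕ} (he : 0 < e) (hh : h.IsHomogeneous e)
    (hhx : h ∉ x.asHomogeneousIdeal.toIdeal) (d : ℕ) (hx : qdim k n x = d + 2) :
    ∃ y : ℙ, x < y ∧ qdim k n y = d + 1 ∧ h ∉ y.asHomogeneousIdeal.toIdeal := by
  classical
  let J := x.asHomogeneousIdeal.toIdeal ⊔ Ideal.span {h}
  have hJh : J.IsHomogeneous (polyGrading n k) :=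
    x.asHomogeneousIdeal.isHomogeneous.sup (Ideal.homogeneous_span _ _ fun g hg => ⟨e, by
      rw [Set.mem_singleton_iff.mp hg]; exact hh⟩)
  have hfin : J.minimalPrimes.Finite := Ideal.finite_minimalPrimes_of_isNoetherianRing _ J
  obtain ⟨D, f, hD, hf, -, hfS⟩ := exists_form_avoiding k n (HomogeneousIdeal.irrelevant (polyGrading n k)).toIdeal
    (HomogeneousIdeal.irrelevant (polyGrading n k)).isHomogeneous
    (insert x.asHomogeneousIdeal.toIdeal
      (hfin.toFinset.filter fun q => ¬ (HomogeneousIdeal.irrelevant (polyGrading n k)).toIdeal ≤ q)) fun q hq => by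
        rcases Finset.mem_insert.mp hq with rfl | hq
        · exact ⟨x.isPrime, x.asHomogeneousIdeal.isHomogeneous, x.not_irrelevant_le, x.not_irrelevant_le⟩
        · obtain ⟨hq1, hq2⟩ := Finset.mem_filter.mp hq
          rw [Set.Finite.mem_toFinset] at hq1
          exact ⟨hq1.1.1, H26Grass.Graded.isHomogeneous_of_mem_minimalPrimes hJh hq1, hq2, hq2⟩
  obtain ⟨q, hqh, hq, c, hc, hle⟩ := exists_minimal_cut k n x {f} (by
    intro g hg
    rw [Finset.mem_singleton] at hg
    exact ⟨D, hD, hg ▸ hf⟩)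
  haveI := hq.1.1
  rw [Finset.card_singleton] at hle
  obtain ⟨y, hy⟩ := exists_point k n hqh (by rw [hc]; exact_mod_cast (show 0 < c by omega))
  have hfy : f ∈ y.asHomogeneousIdeal.toIdeal := by
    rw [hy]; exact hq.1.2 (le_sup_right (α := Ideal 𝒮) (Ideal.subset_span (by simp)))
  have hxy : x < y := lt_of_le_of_ne (show x.asHomogeneousIdeal.toIdeal ≤ y.asHomogeneousIdeal.toIdeal from
    hy ▸ le_sup_left.trans hq.1.2) fun h => hfS _ (Finset.mem_insert_self _ _) (h ▸ hfy)
  have hyc : qdim k n y = c := by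
    have h1 := qdim_spec k n y
    rw [hy, hc] at h1
    exact_mod_cast h1.symm
  have hlt := qdim_lt k n hxy
  refine ⟨y, hxy, by omega, fun hhy => ?_⟩
  obtain ⟨p, hp, hpy⟩ := Ideal.exists_minimalPrimes_le (I := J) (J := y.asHomogeneousIdeal.toIdeal)
    (sup_le (show x.asHomogeneousIdeal.toIdeal ≤ _ from hxy.le) ((Ideal.span_singleton_le_iff_mem _).mpr hhy))
  haveI := hp.1.1
  let z : ℙ := ⟨⟨p, H26Grass.Graded.isHomogeneous_of_mem_minimalPrimes hJh hp⟩, ‹_›,
    fun h => y.not_irrelevant_le (le_trans h hpy)⟩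
  have hhz : h ∈ z.asHomogeneousIdeal.toIdeal := hp.1.2 (le_sup_right (α := Ideal 𝒮) (Ideal.mem_span_singleton_self h))
  have hxz : x < z := lt_of_le_of_ne (show x.asHomogeneousIdeal.toIdeal ≤ z.asHomogeneousIdeal.toIdeal from
    le_sup_left.trans hp.1.2) fun e' => hhx (e' ▸ hhz)
  have hzy : z = y := by
    rcases (show z ≤ y from hpy).eq_or_lt with h1 | h1
    · exact h1
    · have := qdim_lt k n h1
      have := qdim_lt k n hxz
      omega
  exact hfS p (Finset.mem_insert_of_mem (Finset.mem_filter.mpr ⟨hfin.mem_toFinset.mpr hp, z.not_irrelevant_le⟩))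
    (show f ∈ z.asHomogeneousIdeal.toIdeal from hzy ▸ hfy)

end Groth.Agent.H22Alg.ProjDim
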