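import Groth.Agent.H18Quot.Affine
import Groth.Agent.H18Quot.OnCover
import Mathlib

/-! # `Proj` of the invariants is the quotient of `Proj`. -/

set_option autoImplicit false
set_option linter.style.haveILetI false

universe u

open CategoryTheory AlgebraicGeometry HomogeneousLocalization Graded

namespace Groth.Agent.H22Alg.ProjQuot

noncomputable section

section poly

variable {R A : Type u} [CommRing R] [CommRing A] [Algebra R A] (𝒜 : ℕ → Submodule R A) [GradedAlgebra 𝒜]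

theorem coeff_prod_X_sub_C {ι : Type*} (s : Finset ι) (v : ι → A) {d : ℕ} (hv : ∀ i, v i ∈ 𝒜 d) (j : ℕ) :
    (∏ i ∈ s, (Polynomial.X - Polynomial.C (v i))).coeff j ∈ 𝒜 ((s.card - j) * d) := by
  classical
  induction s using Finset.induction generalizing j with
  | empty =>
    rw [Finset.prod_empty, Polynomial.coeff_one, Finset.card_empty, Nat.zero_sub, Nat.zero_mul]
    split_ifs
    · exact SetLike.one_mem_graded 𝒜
    · exact zero_mem _
  | insert a s ha ih =>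
    rw [Finset.prod_insert ha, Finset.card_insert_of_notMem ha, sub_mul, Polynomial.coeff_sub,
      Polynomial.coeff_C_mul]
    refine sub_mem ?_ ?_
    · cases j with
      | zero => rw [Polynomial.coeff_X_mul_zero]; exact zero_mem _
      | succ j =>
        rw [Polynomial.coeff_X_mul, Nat.add_sub_add_right]
        exact ih j
    · by_cases hj : j ≤ s.card
      · rw [show (s.card + 1 - j) * d = d + (s.card - j) * d by rw [Nat.sub_add_comm hj, add_mul, one_mul, add_comm]]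
        exact SetLike.mul_mem_graded (hv a) (ih j)
      · have hle : (∏ i ∈ s, (Polynomial.X - Polynomial.C (v i))).natDegree ≤ s.card :=
          (Polynomial.natDegree_prod_le _ _).trans ((Finset.sum_le_card_nsmul _ _ 1
            fun i _ => Polynomial.natDegree_X_sub_C_le (v i)).trans (by simp))
        rw [Polynomial.coeff_eq_zero_of_natDegree_lt (lt_of_le_of_lt hle (by omega)), mul_zero]
        exact zero_mem _

end poly

variable {R A : Type u} [CommRing R] [CommRing A] [Algebra R A] (𝒜 : ℕ → Submodule R A) [GradedAlgebra 𝒜]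
  {G : Type u} [Group G] [MulSemiringAction G A]
  (hGdeg : ∀ (σ : G) (i : ℕ) (a : A), a ∈ 𝒜 i → σ • a ∈ 𝒜 i)

/-- The action of an element as a graded ring homomorphism. -/
def actHom (σ : G) : 𝒜 →+*ᵍ 𝒜 :=
  ⟨MulSemiringAction.toRingHom G A σ, fun {i x} hx => hGdeg σ i x hx⟩

theorem comp_algebraMap {B : Type u} [CommRing B] [Algebra R B] {ℬ : ℕ → Submodule R B} [GradedAlgebra ℬ]
    (g : 𝒜 →+*ᵍ ℬ) (f : A) :
    (algebraMap (Away ℬ (g f)) (Localization.Away (g f))).comp (Away.map g f) =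
      (Localization.awayMap g.toRingHom f).comp (algebraMap (Away 𝒜 f) (Localization.Away f)) := by
  refine RingHom.ext fun x => ?_
  obtain ⟨⟨i, ⟨a, ha⟩, ⟨b, hb⟩, hm⟩, rfl⟩ := HomogeneousLocalization.mk_surjective x
  show (Away.map g f (HomogeneousLocalization.mk _)).val =
    Localization.awayMap g.toRingHom f (HomogeneousLocalization.mk _).val
  rw [HomogeneousLocalization.Away.map, HomogeneousLocalization.map_mk, HomogeneousLocalization.val_mk, HomogeneousLocalization.val_mk,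
    Localization.mk_eq_mk', Localization.mk_eq_mk', Localization.awayMap, IsLocalization.Away.map,
    IsLocalization.map_mk']
  rfl

section chart

variable (ρ : G →* Aut (Proj 𝒜))
  (hρ : ∀ (σ : G) (n : ℕ) (f : A) (hn : 0 < n) (hf : f ∈ 𝒜 n)
    (θ : CommRingCat.of (HomogeneousLocalization.Away 𝒜 f) ⟶ CommRingCat.of (HomogeneousLocalization.Away 𝒜 (σ • f))),
    (algebraMap (HomogeneousLocalization.Away 𝒜 (σ • f)) (Localization.Away (σ • f))).comp θ.hom =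
      (Localization.awayMap (MulSemiringAction.toRingHom G A σ) f).comp
        (algebraMap (HomogeneousLocalization.Away 𝒜 f) (Localization.Away f)) →
    Proj.awayι 𝒜 (σ • f) (hGdeg σ n f hf) hn ≫ (ρ σ).inv = Spec.map θ ≫ Proj.awayι 𝒜 f hf hn)

include hρ in
/-- The chart of the action at a fixed element. -/
theorem exists_chart {n : ℕ} {f : A} (hn : 0 < n) (hf : f ∈ 𝒜 n) (σ : G) (hfix : σ • f = f) :
    ∃ θ : Away 𝒜 f →+* Away 𝒜 f,
      (∀ (m : ℕ) (x : A) (hx : x ∈ 𝒜 (m • n)), θ (Away.mk 𝒜 hf m x hx) = Away.mk 𝒜 hf m (σ • x) (hGdeg σ _ x hx)) ∧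
      Proj.awayι 𝒜 f hf hn ≫ (ρ σ).inv = Spec.map (CommRingCat.ofHom θ) ≫ Proj.awayι 𝒜 f hf hn := by
  suffices H : ∀ (f' : A) (hf' : f' ∈ 𝒜 n), σ • f = f' →
      ∃ θ : Away 𝒜 f →+* Away 𝒜 f',
        (∀ (m : ℕ) (x : A) (hx : x ∈ 𝒜 (m • n)), θ (Away.mk 𝒜 hf m x hx) = Away.mk 𝒜 hf' m (σ • x) (hGdeg σ _ x hx)) ∧
        Proj.awayι 𝒜 f' hf' hn ≫ (ρ σ).inv = Spec.map (CommRingCat.ofHom θ) ≫ Proj.awayι 𝒜 f hf hn from H f hf hfix
  rintro f' hf' rfl
  exact ⟨Away.map (actHom 𝒜 hGdeg σ) f, fun m x hx => Away.map_mk (actHom 𝒜 hGdeg σ) f hf m x hx,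
    hρ σ n f hn hf (CommRingCat.ofHom (Away.map (actHom 𝒜 hGdeg σ) f)) (comp_algebraMap 𝒜 (actHom 𝒜 hGdeg σ) f)⟩

include hρ in
/-- The action restricted to the chart of a fixed element. -/
theorem exists_act {n : ℕ} {f : A} (hn : 0 < n) (hf : f ∈ 𝒜 n) (hfix : ∀ σ : G, σ • f = f) :
    ∃ ρ' : G →* Aut (Spec (CommRingCat.of (Away 𝒜 f))),
      (∀ σ, (ρ' σ).hom ≫ Proj.awayι 𝒜 f hf hn = Proj.awayι 𝒜 f hf hn ≫ (ρ σ).hom) ∧
      ∀ σ, ∃ θ : Away 𝒜 f →+* Away 𝒜 f, (ρ' σ).hom = Spec.map (CommRingCat.ofHom θ) ∧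
        ∀ (m : ℕ) (x : A) (hx : x ∈ 𝒜 (m • n)),
          θ (Away.mk 𝒜 hf m x hx) = Away.mk 𝒜 hf m (σ⁻¹ • x) (hGdeg σ⁻¹ _ x hx) := by
  choose θ hθ hθ' using fun σ : G => exists_chart 𝒜 hGdeg ρ hρ hn hf σ (hfix σ)
  let j := Proj.awayι 𝒜 f hf hn
  let s : G → (Spec (CommRingCat.of (Away 𝒜 f)) ⟶ Spec (CommRingCat.of (Away 𝒜 f))) :=
    fun σ => Spec.map (CommRingCat.ofHom (θ σ⁻¹))
  have hinv : ∀ σ : G, (ρ σ⁻¹).inv = (ρ σ).hom := fun σ => by rw [map_inv]; rfl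
  have hs : ∀ σ : G, s σ ≫ j = j ≫ (ρ σ).hom := fun σ => by rw [← hinv σ]; exact (hθ' σ⁻¹).symm
  have hs1 : s 1 = 𝟙 _ := by
    rw [← cancel_mono j, hs, map_one]
    exact (Category.comp_id j).trans (Category.id_comp j).symm
  have hsmul : ∀ σ τ : G, s (σ * τ) = s τ ≫ s σ := fun σ τ => by
    rw [← cancel_mono j, hs, Category.assoc, hs, ← Category.assoc, hs, map_mul, Category.assoc]
    rfl
  let ρ' : G →* Aut (Spec (CommRingCat.of (Away 𝒜 f))) :=
    { toFun := fun σ => ⟨s σ, s σ⁻¹, by rw [← hsmul, inv_mul_cancel, hs1], by rw [← hsmul, mul_inv_cancel, hs1]⟩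
      map_one' := Iso.ext hs1
      map_mul' := fun σ τ => Iso.ext (hsmul σ τ) }
  exact ⟨ρ', hs, fun σ => ⟨θ σ⁻¹, rfl, fun m x hx => hθ σ⁻¹ m x hx⟩⟩

end chart

section main

variable {C : Type u} [CommRing C] [Algebra R C] {𝒞 : ℕ → Submodule R C} [GradedAlgebra 𝒞] (g : 𝒞 →+*ᵍ 𝒜)
  (hrange : ∀ (i : ℕ) (a : A), a ∈ 𝒜 i → (∀ σ : G, σ • a = a) → ∃ c ∈ 𝒞 i, g c = a)
  (hfix : ∀ {i : ℕ} {c : C}, c ∈ 𝒞 i → ∀ σ : G, σ • g c = g c)
  (π : Proj 𝒜 ⟶ Proj 𝒞)
  (hw : ∀ (n : ℕ) (c : C) (hn : 0 < n) (hc : c ∈ 𝒞 n),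
    Proj.awayι 𝒜 (g c) (map_mem g hc) hn ≫ π =
      Spec.map (CommRingCat.ofHom (Away.map g c)) ≫ Proj.awayι 𝒞 c hc hn)

include hGdeg hrange in
/-- The invariant basic opens cover. -/
theorem exists_mem_basicOpen [Finite G] (hgen : Algebra.adjoin R (𝒜 1 : Set A) = ⊤) (x : Proj 𝒜) :
    ∃ (n : ℕ) (c : C), 0 < n ∧ c ∈ 𝒞 n ∧ x ∈ Proj.basicOpen 𝒜 (g c) := by
  classical
  letI := Fintype.ofFinite G
  obtain ⟨f, hf, hfx⟩ : ∃ f ∈ 𝒜 1, f ∉ x.asHomogeneousIdeal := by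
    have hadj : Algebra.adjoin (𝒜 0) (Set.range fun f : 𝒜 1 => (f : A)) = ⊤ := by
      refine Algebra.eq_top_iff.2 fun a => ?_
      have ha : a ∈ Algebra.adjoin R (𝒜 1 : Set A) := hgen ▸ trivial
      induction ha using Algebra.adjoin_induction with
      | mem y hy => exact Algebra.subset_adjoin ⟨⟨y, hy⟩, rfl⟩
      | algebraMap r =>
        exact Subalgebra.algebraMap_mem _ (⟨algebraMap R A r, SetLike.algebraMap_mem_graded 𝒜 r⟩ : 𝒜 0)
      | add _ _ _ _ h₁ h₂ => exact add_mem h₁ h₂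
      | mul _ _ _ _ h₁ h₂ => exact mul_mem h₁ h₂
    have := Proj.iSup_basicOpen_eq_top' 𝒜 (fun f : 𝒜 1 => (f : A)) (fun f => ⟨1, f.2⟩) hadj
    obtain ⟨f, hf⟩ := TopologicalSpace.Opens.mem_iSup.1 (this.ge (Set.mem_univ x))
    exact ⟨f, f.2, hf⟩
  haveI : Nontrivial A := nontrivial_of_ne f 0 fun h => hfx (by rw [h]; exact zero_mem _)
  let P : Polynomial A := ∏ σ : G, (Polynomial.X - Polynomial.C (σ • f))
  have hdeg : P.natDegree = Fintype.card G := Polynomial.natDegree_finsetProd_X_sub_C_eq_card _ _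
  have hmon : P.Monic := Polynomial.monic_prod_of_monic _ _ fun σ _ => Polynomial.monic_X_sub_C _
  have hinvP : ∀ (τ : G) (j : ℕ), τ • P.coeff j = P.coeff j := fun τ j => by
    have : P.map (MulSemiringAction.toRingHom G A τ) = P := by
      rw [Polynomial.map_prod]
      simp only [Polynomial.map_sub, Polynomial.map_X, Polynomial.map_C, MulSemiringAction.toRingHom_apply,
        smul_smul]
      exact Fintype.prod_equiv (Equiv.mulLeft τ) _ _ fun σ => rfl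
    conv_rhs => rw [← this, Polynomial.coeff_map]
    rfl
  have hroot : P.eval f = 0 := by
    rw [Polynomial.eval_prod]
    exact Finset.prod_eq_zero (Finset.mem_univ 1) (by simp)
  obtain ⟨j, hj, hjx⟩ : ∃ j < Fintype.card G, P.coeff j ∉ x.asHomogeneousIdeal := by
    by_contra hcon
    push Not at hcon
    rw [hmon.as_sum, hdeg, Polynomial.eval_add, Polynomial.eval_pow, Polynomial.eval_X,
      Polynomial.eval_finsetSum] at hroot
    refine hfx (x.isPrime.mem_of_pow_mem (Fintype.card G) ?_)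
    rw [eq_neg_of_add_eq_zero_left hroot]
    refine neg_mem (sum_mem fun i hi => ?_)
    rw [Polynomial.eval_mul, Polynomial.eval_C]
    exact Ideal.mul_mem_right _ _ (hcon i (Finset.mem_range.1 hi))
  have hcoef : P.coeff j ∈ 𝒜 ((Fintype.card G - j) * 1) :=
    coeff_prod_X_sub_C 𝒜 _ _ (fun σ => hGdeg σ 1 f hf) j
  obtain ⟨c, hc, hce⟩ := hrange _ _ hcoef fun σ => hinvP σ j
  exact ⟨_, c, by omega, hc, by rw [hce]; exact hjx⟩

include hGdeg hrange hw in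
/-- The preimages of basic opens. -/
theorem preimage_basicOpen [Finite G] (hgen : Algebra.adjoin R (𝒜 1 : Set A) = ⊤) {n : ℕ} {c : C} (hn : 0 < n)
    (hc : c ∈ 𝒞 n) : π ⁻¹ᵁ Proj.basicOpen 𝒞 c = Proj.basicOpen 𝒜 (g c) := by
  ext x
  obtain ⟨n', c', hn', hc', hx⟩ := exists_mem_basicOpen 𝒜 hGdeg g hrange hgen x
  rw [← Proj.opensRange_awayι 𝒜 (g c') (map_mem g hc') hn'] at hx
  obtain ⟨z, rfl⟩ := hx
  show π (Proj.awayι 𝒜 (g c') (map_mem g hc') hn' z) ∈ Proj.basicOpen 𝒞 c ↔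
    z ∈ Proj.awayι 𝒜 (g c') (map_mem g hc') hn' ⁻¹ᵁ Proj.basicOpen 𝒜 (g c)
  rw [← Scheme.Hom.comp_apply, hw n' c' hn' hc', Scheme.Hom.comp_apply]
  change Spec.map (CommRingCat.ofHom (Away.map g c')) z ∈ Proj.awayι 𝒞 c' hc' hn' ⁻¹ᵁ Proj.basicOpen 𝒞 c ↔ _
  rw [Proj.awayι_preimage_basicOpen 𝒞 hc' hn' hc hn,
    Proj.awayι_preimage_basicOpen 𝒜 (map_mem g hc') hn' (map_mem g hc) hn]
  show Away.map g c' (Away.isLocalizationElem hc' hc) ∉ z.asIdeal ↔
    Away.isLocalizationElem (map_mem g hc') (map_mem g hc) ∉ z.asIdeal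
  refine Iff.of_eq (congrArg (· ∉ z.asIdeal) ?_)
  refine (Away.map_mk g c' hc' n _ _).trans (HomogeneousLocalization.val_injective _ ?_)
  rw [Away.val_mk, Away.val_mk]
  simp only [map_pow]

include hfix in
theorem fix_comp_map {n : ℕ} {c : C} (hc : c ∈ 𝒞 n) (τ : G) (θ : Away 𝒜 (g c) →+* Away 𝒜 (g c))
    (hθ : ∀ (m : ℕ) (x : A) (hx : x ∈ 𝒜 (m • n)),
      θ (Away.mk 𝒜 (map_mem g hc) m x hx) = Away.mk 𝒜 (map_mem g hc) m (τ • x) (hGdeg τ _ x hx)) :
    θ.comp (Away.map g c) = Away.map g c := by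
  refine RingHom.ext fun z => ?_
  obtain ⟨m, x, hx, rfl⟩ := Away.mk_surjective 𝒞 hc z
  rw [RingHom.comp_apply, Away.map_mk g c hc m x hx, hθ]
  refine HomogeneousLocalization.val_injective _ ?_
  rw [Away.val_mk, Away.val_mk, hfix hx τ]

theorem exists_pow_of_fixed {n : ℕ} {f : A} (hf : f ∈ 𝒜 n) (θ : Away 𝒜 f →+* Away 𝒜 f) (τ : G)
    (hθ : ∀ (m : ℕ) (x : A) (hx : x ∈ 𝒜 (m • n)), θ (Away.mk 𝒜 hf m x hx) = Away.mk 𝒜 hf m (τ • x) (hGdeg τ _ x hx))
    {m : ℕ} {x : A} (hx : x ∈ 𝒜 (m • n)) (h : θ (Away.mk 𝒜 hf m x hx) = Away.mk 𝒜 hf m x hx) :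
    ∃ e : ℕ, f ^ e * (τ • x) = f ^ e * x := by
  rw [hθ] at h
  have h4 := congrArg HomogeneousLocalization.val h
  rw [Away.val_mk, Away.val_mk, Localization.mk_eq_mk_iff, Localization.r_iff_exists] at h4
  obtain ⟨⟨-, e, rfl⟩, he⟩ := h4
  exact ⟨e + m, by rw [pow_add, mul_assoc, mul_assoc]; exact he⟩

theorem away_map_injective {n : ℕ} {c : C} (hc : c ∈ 𝒞 n) (hg : Function.Injective g) :
    Function.Injective (Away.map g c) := by
  intro a b hab
  obtain ⟨m, x, hx, rfl⟩ := Away.mk_surjective 𝒞 hc a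
  obtain ⟨m', x', hx', rfl⟩ := Away.mk_surjective 𝒞 hc b
  refine HomogeneousLocalization.val_injective _ ?_
  have h := congrArg HomogeneousLocalization.val hab
  rw [Away.map_mk g c hc m x hx, Away.map_mk g c hc m' x' hx', Away.val_mk, Away.val_mk,
    Localization.mk_eq_mk_iff, Localization.r_iff_exists] at h
  rw [Away.val_mk, Away.val_mk, Localization.mk_eq_mk_iff, Localization.r_iff_exists]
  obtain ⟨⟨-, e, rfl⟩, he⟩ := h
  exact ⟨⟨c ^ e, e, rfl⟩, hg (by simpa using he)⟩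

include hrange hfix in
theorem away_map_range [Finite G] {n : ℕ} {c : C} (hc : c ∈ 𝒞 n) {m : ℕ} {x : A} (hx : x ∈ 𝒜 (m • n))
    (h : ∀ σ : G, ∃ e : ℕ, (g c) ^ e * (σ • x) = (g c) ^ e * x) :
    ∃ b, Away.map g c b = Away.mk 𝒜 (map_mem g hc) m x hx := by
  letI := Fintype.ofFinite G
  choose e he using h
  let E := ∑ σ : G, e σ
  have hy : (g c) ^ E * x ∈ 𝒜 ((E + m) • n) := by
    rw [add_smul]
    exact SetLike.mul_mem_graded (SetLike.pow_mem_graded E (map_mem g hc)) hx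
  obtain ⟨w, hwm, hwe⟩ := hrange _ _ hy fun σ => by
    obtain ⟨d, hd⟩ := Nat.exists_eq_add_of_le
      (show e σ ≤ E from Finset.single_le_sum (fun τ _ => Nat.zero_le (e τ)) (Finset.mem_univ σ))
    rw [smul_mul', smul_pow', hfix hc σ, hd, add_comm (e σ) d, pow_add, mul_assoc, mul_assoc, he σ]
  refine ⟨Away.mk 𝒞 hc (E + m) w hwm, ?_⟩
  rw [Away.map_mk g c hc (E + m) w hwm]
  refine HomogeneousLocalization.val_injective _ ?_
  rw [Away.val_mk, Away.val_mk, Localization.mk_eq_mk_iff, Localization.r_iff_exists]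
  refine ⟨1, ?_⟩
  simp only [OneMemClass.coe_one, one_mul]
  rw [hwe, pow_add]
  ring

variable (ρ : G →* Aut (Proj 𝒜))
  (hρ : ∀ (σ : G) (n : ℕ) (f : A) (hn : 0 < n) (hf : f ∈ 𝒜 n)
    (θ : CommRingCat.of (HomogeneousLocalization.Away 𝒜 f) ⟶ CommRingCat.of (HomogeneousLocalization.Away 𝒜 (σ • f))),
    (algebraMap (HomogeneousLocalization.Away 𝒜 (σ • f)) (Localization.Away (σ • f))).comp θ.hom =
      (Localization.awayMap (MulSemiringAction.toRingHom G A σ) f).comp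
        (algebraMap (HomogeneousLocalization.Away 𝒜 f) (Localization.Away f)) →
    Proj.awayι 𝒜 (σ • f) (hGdeg σ n f hf) hn ≫ (ρ σ).inv = Spec.map θ ≫ Proj.awayι 𝒜 f hf hn)

include hGdeg hrange hfix hw hρ in
theorem isQuot [Finite G] (hgen : Algebra.adjoin R (𝒜 1 : Set A) = ⊤) (hg : Function.Injective g) :
    SGA1.IsQuot ρ π := by
  classical
  have hcovA := exists_mem_basicOpen 𝒜 hGdeg g hrange hgen
  have hcovC : ∀ y : Proj 𝒞, ∃ (n : ℕ) (c : C) (hn : 0 < n) (hc : c ∈ 𝒞 n),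
      y ∈ Set.range (Proj.awayι 𝒞 c hc hn) := fun y => by
    obtain ⟨⟨⟨n, hn⟩, c, hc⟩, hi⟩ : ∃ i, y ∈ Set.range ((Proj.affineOpenCover 𝒞).f i) :=
      ⟨_, (Proj.affineOpenCover 𝒞).covers y⟩
    exact ⟨n, c, hn, hc, hi⟩
  haveI : IsAffineHom π := isAffineHom_of_forall_exists_isAffineOpen π fun y => by
    obtain ⟨n, c, hn, hc, hi⟩ := hcovC y
    refine ⟨Proj.basicOpen 𝒞 c, (Proj.opensRange_awayι 𝒞 c hc hn).le hi,
      Proj.isAffineOpen_basicOpen 𝒞 c hc hn, ?_⟩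
    rw [preimage_basicOpen 𝒜 hGdeg g hrange π hw hgen hn hc]
    exact Proj.isAffineOpen_basicOpen 𝒜 (g c) (map_mem g hc) hn
  let I := {i : ℕ × C // 0 < i.1 ∧ i.2 ∈ 𝒞 i.1}
  choose ρi hρi hρθ using fun i : I =>
    exists_act 𝒜 hGdeg ρ hρ i.2.1 (map_mem g i.2.2) (hfix i.2.2)
  have hinvq : ∀ (i : I) (σ : G), (ρi i σ).hom ≫ Spec.map (CommRingCat.ofHom (Away.map g i.1.2)) =
      Spec.map (CommRingCat.ofHom (Away.map g i.1.2)) := by
    intro i σ
    obtain ⟨θ, hθ, hθm⟩ := hρθ i σ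
    rw [hθ, ← Spec.map_comp, ← CommRingCat.ofHom_comp, fix_comp_map 𝒜 hGdeg g hfix i.2.2 σ⁻¹ θ hθm]
  have hinv : ∀ σ : G, (ρ σ).hom ≫ π = π := by
    intro σ
    refine Scheme.Cover.hom_ext (Scheme.openCoverOfIsOpenCover (Proj 𝒜)
      (fun i : I => Proj.basicOpen 𝒜 (g i.1.2)) ?_) _ _ fun i => ?_
    · exact TopologicalSpace.IsOpenCover.mk (eq_top_iff.2 fun x _ => by
        obtain ⟨n, c, hn, hc, hx⟩ := hcovA x
        exact TopologicalSpace.Opens.mem_iSup.2 ⟨⟨(n, c), hn, hc⟩, hx⟩)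
    · show (Proj.basicOpen 𝒜 (g i.1.2)).ι ≫ (ρ σ).hom ≫ π = (Proj.basicOpen 𝒜 (g i.1.2)).ι ≫ π
      have e : (Proj.basicOpen 𝒜 (g i.1.2)).ι =
          (Proj.basicOpenIsoSpec 𝒜 (g i.1.2) (map_mem g i.2.2) i.2.1).hom ≫
            Proj.awayι 𝒜 (g i.1.2) (map_mem g i.2.2) i.2.1 :=
        (Iso.hom_inv_id_assoc _ _).symm
      rw [e, Category.assoc, Category.assoc, ← reassoc_of% (hρi i σ), hw i.1.1 i.1.2 i.2.1 i.2.2,
        reassoc_of% (hinvq i σ)]
  refine H18Quot.isQuot_of_cover ρ π hinv (fun i : I => Spec (CommRingCat.of (Away 𝒜 (g i.1.2))))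
    (fun i : I => Spec (CommRingCat.of (Away 𝒞 i.1.2))) (fun i => Proj.awayι 𝒜 (g i.1.2) (map_mem g i.2.2) i.2.1)
    (fun i => Proj.awayι 𝒞 i.1.2 i.2.2 i.2.1) (fun i => Spec.map (CommRingCat.ofHom (Away.map g i.1.2)))
    (fun i => hw i.1.1 i.1.2 i.2.1 i.2.2) (fun i => ?_) ρi hρi (fun i => ?_) (fun y => ?_)
  · rw [Proj.opensRange_awayι, Proj.opensRange_awayι, preimage_basicOpen 𝒜 hGdeg g hrange π hw hgen i.2.1 i.2.2]
  swap
  · obtain ⟨n, c, hn, hc, hi⟩ := hcovC y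
    exact ⟨⟨(n, c), hn, hc⟩, hi⟩
  obtain ⟨⟨n, c⟩, hn, hc⟩ := i
  dsimp only
  let q := Spec.map (CommRingCat.ofHom (Away.map g c))
  haveI : IsAffineHom q := isAffineHom_of_isAffine _
  let eA := (Scheme.ΓSpecIso (CommRingCat.of (Away 𝒜 (g c)))).inv
  let eC := (Scheme.ΓSpecIso (CommRingCat.of (Away 𝒞 c))).inv
  have happ : ∀ b : Away 𝒞 c, q.app ⊤ (eC b) = eA (Away.map g c b) := fun b =>
    (ConcreteCategory.congr_hom (Scheme.ΓSpecIso_inv_naturality (CommRingCat.ofHom (Away.map g c))) b).symm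
  refine H18Quot.isQuot_of_isAffine _ q (hinvq ⟨(n, c), hn, hc⟩) (fun a b hab => ?_) fun s hs => ?_
  · obtain ⟨a, rfl⟩ := (ConcreteCategory.bijective_of_isIso eC).2 a
    obtain ⟨b, rfl⟩ := (ConcreteCategory.bijective_of_isIso eC).2 b
    rw [happ, happ] at hab
    rw [away_map_injective 𝒜 g hc hg ((ConcreteCategory.bijective_of_isIso eA).1 hab)]
  · obtain ⟨z, rfl⟩ := (ConcreteCategory.bijective_of_isIso eA).2 s
    obtain ⟨m, x, hx, rfl⟩ := Away.mk_surjective 𝒜 (map_mem g hc) z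
    obtain ⟨b, hb⟩ := away_map_range 𝒜 g hrange hfix hc hx fun σ => by
      obtain ⟨θ, hθ, hθm⟩ := hρθ ⟨(n, c), hn, hc⟩ σ⁻¹
      have h := hs σ⁻¹
      simp only [Scheme.Hom.appLE] at h
      erw [CategoryTheory.Functor.map_id, Category.comp_id, hθ] at h
      have h2 : (Spec.map (CommRingCat.ofHom θ)).appTop (eA (Away.mk 𝒜 (map_mem g hc) m x hx)) =
          eA (θ (Away.mk 𝒜 (map_mem g hc) m x hx)) :=
        (ConcreteCategory.congr_hom (Scheme.ΓSpecIso_inv_naturality (CommRingCat.ofHom θ)) _).symm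
      have h3 := (ConcreteCategory.bijective_of_isIso eA).1 (h2.symm.trans h)
      simp only [inv_inv] at hθm
      exact exists_pow_of_fixed 𝒜 hGdeg (map_mem g hc) θ σ hθm hx h3
    exact ⟨eC b, (happ b).trans (congrArg _ hb)⟩

end main

end

end Groth.Agent.H22Alg.ProjQuot
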