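import Mathlib
import Groth.Prelude.Def_SymTen

/-!
Points of the Proj of the symmetric part of a graded tensor power, and the coordinate points they
determine.
-/

universe u

open scoped TensorProduct

namespace Groth.Agent.H22Alg.ProjSym

variable {A B : Type u} [CommRing A] [CommRing B] [Algebra A B] (𝒜 : ℕ → Submodule A B) {d : ℕ}

/-- The generators of the diagonal part of the tensor power. -/
def pureSet (d : ℕ) : Set (⨂[A] _ : Fin d, B) :=
  {t | ∃ (k : ℕ) (b : Fin d → B), (∀ i, b i ∈ 𝒜 k) ∧ t = PiTensorProduct.tprod A b}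

/-- The diagonal part of the tensor power. -/
noncomputable def diag (d : ℕ) : Subalgebra A (⨂[A] _ : Fin d, B) :=
  Algebra.adjoin A (pureSet 𝒜 d)

/-- The span of pure tensors of one degree. -/
def layer (d k : ℕ) : Submodule A (⨂[A] _ : Fin d, B) :=
  Submodule.span A {s | ∃ b : Fin d → B, (∀ i, b i ∈ 𝒜 k) ∧ s = PiTensorProduct.tprod A b}

theorem tprod_mem_diag {k : ℕ} {b : Fin d → B} (hb : ∀ i, b i ∈ 𝒜 k) :
    PiTensorProduct.tprod A b ∈ diag 𝒜 d :=
  Algebra.subset_adjoin ⟨k, b, hb, rfl⟩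

theorem layer_le_diag (k : ℕ) : layer 𝒜 d k ≤ Subalgebra.toSubmodule (diag 𝒜 d) :=
  Submodule.span_le.mpr fun _ ⟨_, hb, hs⟩ => hs ▸ tprod_mem_diag 𝒜 hb

theorem perm_mul (σ τ : Equiv.Perm (Fin d)) (x : ⨂[A] _ : Fin d, B) :
    SymTen.perm A B d σ (SymTen.perm A B d τ x) = SymTen.perm A B d (σ * τ) x := by
  induction x using PiTensorProduct.induction_on with
  | smul_tprod r f => simp [Equiv.Perm.mul_def]
  | add a b ha hb => simp only [map_add, ha, hb]

theorem perm_mem_diag (σ : Equiv.Perm (Fin d)) {x : ⨂[A] _ : Fin d, B} (hx : x ∈ diag 𝒜 d) :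
    SymTen.perm A B d σ x ∈ diag 𝒜 d := by
  induction hx using Algebra.adjoin_induction with
  | mem v hv =>
    obtain ⟨k, b, hb, rfl⟩ := hv
    rw [SymTen.perm_tprod]
    exact tprod_mem_diag 𝒜 fun i => hb _
  | algebraMap a => rw [AlgHom.commutes]; exact Subalgebra.algebraMap_mem _ a
  | add v w _ _ hv hw => rw [map_add]; exact add_mem hv hw
  | mul v w _ _ hv hw => rw [map_mul]; exact mul_mem hv hw

theorem isIntegralElem_inclusion {D : Subalgebra A (⨂[A] _ : Fin d, B)} (hle : D ≤ diag 𝒜 d)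
    (hge : diag 𝒜 d ⊓ SymTen.TS A B d ≤ D) (x : diag 𝒜 d) :
    (Subalgebra.inclusion hle).toRingHom.IsIntegralElem x := by
  classical
  let p : Polynomial (⨂[A] _ : Fin d, B) :=
    ∏ σ : Equiv.Perm (Fin d), (Polynomial.X - Polynomial.C (SymTen.perm A B d σ x))
  have hmon : p.Monic := Polynomial.monic_prod_of_monic _ _ fun σ _ => Polynomial.monic_X_sub_C _
  have hfix : ∀ τ : Equiv.Perm (Fin d), p.map (SymTen.perm A B d τ).toRingHom = p := fun τ => by
    simp only [p, Polynomial.map_prod, Polynomial.map_sub, Polynomial.map_X, Polynomial.map_C]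
    refine Fintype.prod_equiv (Equiv.mulLeft τ) _ _ fun σ => ?_
    simp [perm_mul]
  have hdiag : ∀ n, p.coeff n ∈ diag 𝒜 d := by
    intro n
    have : p ∈ Polynomial.lifts (diag 𝒜 d).val.toRingHom := prod_mem fun σ _ =>
      ⟨Polynomial.X - Polynomial.C ⟨_, perm_mem_diag 𝒜 σ x.2⟩, by simp⟩
    obtain ⟨y, hy⟩ := (Polynomial.lifts_iff_coeff_lifts p).mp this n
    rw [← hy]
    exact y.2
  have hts : ∀ n, p.coeff n ∈ SymTen.TS A B d := fun n τ => by
    rw [← SymTen.perm_apply]
    have := congrArg (fun q => Polynomial.coeff q n) (hfix τ)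
    simpa using this
  have hl : p ∈ Polynomial.lifts D.val.toRingHom :=
    (Polynomial.lifts_iff_coeff_lifts p).mpr fun n => ⟨⟨_, hge ⟨hdiag n, hts n⟩⟩, rfl⟩
  obtain ⟨q, hq, -, hqm⟩ := Polynomial.lifts_and_natDegree_eq_and_monic hl hmon
  refine ⟨q, hqm, Subtype.ext ?_⟩
  show (diag 𝒜 d).val.toRingHom (Polynomial.eval₂ _ x q) = 0
  rw [Polynomial.hom_eval₂]
  show Polynomial.eval₂ D.val.toRingHom (x : ⨂[A] _ : Fin d, B) q = 0
  rw [Polynomial.eval₂_eq_eval_map, hq, Polynomial.eval_prod]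
  refine Finset.prod_eq_zero (Finset.mem_univ 1) ?_
  have h1 : SymTen.perm A B d 1 (x : ⨂[A] _ : Fin d, B) = x := by
    rw [SymTen.perm_apply]
    simp [Equiv.Perm.one_def, PiTensorProduct.reindex_refl]
  simp [h1]

theorem le_pow_one [GradedAlgebra 𝒜] (hgen : Algebra.adjoin A (𝒜 1 : Set B) = ⊤) (k : ℕ) :
    𝒜 k ≤ (𝒜 1) ^ k := by
  classical
  intro b hb
  have hle : ∀ n, (𝒜 1) ^ n ≤ 𝒜 n := by
    intro n
    induction n with
    | zero => rw [pow_zero]; exact Submodule.one_le.mpr (SetLike.one_mem_graded 𝒜)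
    | succ n ih =>
      rw [pow_succ]
      refine Submodule.mul_le.mpr fun u hu v hv => SetLike.mul_mem_graded (ih hu) hv
  have hmem : ∀ y : B, ∀ n, (DirectSum.decompose 𝒜 y n : B) ∈ (𝒜 1) ^ n := by
    intro y n
    have hy : y ∈ ⨆ m : ℕ, (𝒜 1) ^ m := by
      have hy : y ∈ Algebra.adjoin A (𝒜 1 : Set B) := hgen ▸ Algebra.mem_top
      induction hy using Algebra.adjoin_induction with
      | mem v hv => exact Submodule.mem_iSup_of_mem 1 (by simpa using hv)
      | algebraMap a => exact Submodule.mem_iSup_of_mem 0 (by simp)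
      | add v w _ _ hv hw => exact add_mem hv hw
      | mul v w _ _ hv hw =>
        have := Submodule.mul_mem_mul hv hw
        rw [Submodule.iSup_mul] at this
        refine (iSup_le (fun i => ?_) : _ ≤ ⨆ m : ℕ, (𝒜 1) ^ m) this
        rw [Submodule.mul_iSup]
        exact iSup_le fun j => (pow_add (𝒜 1) i j).symm.le.trans (le_iSup (fun m => (𝒜 1) ^ m) (i + j))
    induction hy using Submodule.iSup_induction' with
    | mem m v hv =>
      by_cases hmn : m = n
      · subst hmn; rwa [DirectSum.decompose_of_mem_same 𝒜 (hle m hv)]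
      · rw [DirectSum.decompose_of_mem_ne 𝒜 (hle m hv) hmn]; exact zero_mem _
    | zero => simp
    | add v w _ _ hv hw => simp only [DirectSum.decompose_add, DirectSum.add_apply, Submodule.coe_add]; exact add_mem hv hw
  have := hmem b k
  rwa [DirectSum.decompose_of_mem_same 𝒜 hb] at this

theorem tprod_mem_of_span {N : Submodule A (⨂[A] _ : Fin d, B)} {S : Set B}
    (h : ∀ b : Fin d → B, (∀ i, b i ∈ S) → PiTensorProduct.tprod A b ∈ N) {b : Fin d → B}
    (hb : ∀ i, b i ∈ Submodule.span A S) : PiTensorProduct.tprod A b ∈ N := by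
  classical
  suffices ∀ (s : Finset (Fin d)) (b : Fin d → B), (∀ i ∈ s, b i ∈ Submodule.span A S) →
      (∀ i ∉ s, b i ∈ S) → PiTensorProduct.tprod A b ∈ N from
    this Finset.univ b (fun i _ => hb i) fun i hi => absurd (Finset.mem_univ i) hi
  intro s
  induction s using Finset.induction_on with
  | empty => exact fun b _ hb => h b fun i => hb i (Finset.notMem_empty i)
  | insert a s ha ih =>
    intro b h1 h2
    have key : ∀ v ∈ Submodule.span A S, PiTensorProduct.tprod A (Function.update b a v) ∈ N := by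
      intro v hv
      induction hv using Submodule.span_induction with
      | mem w hw =>
        refine ih _ (fun i hi => ?_) fun i hi => ?_
        · rw [Function.update_of_ne (fun e => ha (by rw [← e]; exact hi))]
          exact h1 i (Finset.mem_insert_of_mem hi)
        · rcases eq_or_ne i a with rfl | hia
          · rwa [Function.update_self]
          · rw [Function.update_of_ne hia]
            exact h2 i (by simp [hia, hi])
      | zero => rw [MultilinearMap.map_coord_zero _ a (Function.update_self _ _ _)]; exact zero_mem _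
      | add v w _ _ hv hw => rw [MultilinearMap.map_update_add]; exact add_mem hv hw
      | smul r v _ hv => rw [MultilinearMap.map_update_smul]; exact Submodule.smul_mem _ r hv
    simpa using key (b a) (h1 a (Finset.mem_insert_self a s))

theorem exists_factor_mem [GradedAlgebra 𝒜] (hgen : Algebra.adjoin A (𝒜 1 : Set B) = ⊤)
    {k : ℕ} (hk : 0 < k) {N : Submodule A (⨂[A] _ : Fin d, B)}
    (h : ∀ c u : Fin d → B, (∀ i, c i ∈ 𝒜 1) → (∀ i, u i ∈ 𝒜 (k - 1)) → PiTensorProduct.tprod A (c * u) ∈ N)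
    {b : Fin d → B} (hb : ∀ i, b i ∈ 𝒜 k) : PiTensorProduct.tprod A b ∈ N := by
  classical
  obtain ⟨m, rfl⟩ : ∃ m, k = m + 1 := ⟨k - 1, by omega⟩
  let S : Set B := {v | ∃ c u, c ∈ 𝒜 1 ∧ u ∈ 𝒜 m ∧ v = c * u}
  refine tprod_mem_of_span (S := S) (fun b hb => ?_) fun i => ?_
  · choose c u hc hu hv using hb
    rw [show b = c * u from funext hv]
    exact h c u hc fun i => by simpa using hu i
  · have := le_pow_one 𝒜 hgen (m + 1) (hb i)
    rw [pow_succ'] at this
    have hle : (𝒜 1) ^ m ≤ 𝒜 m := by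
      clear * -
      induction m with
      | zero => rw [pow_zero]; exact Submodule.one_le.mpr (SetLike.one_mem_graded 𝒜)
      | succ n ih =>
        rw [pow_succ]
        exact Submodule.mul_le.mpr fun u hu v hv => SetLike.mul_mem_graded (ih hu) hv
    exact (Submodule.mul_le.mpr fun c hc u hu => Submodule.subset_span (show c * u ∈ S from ⟨c, u, hc, hle hu, rfl⟩)) this

/-- A point of the diagonal part outside the irrelevant locus, with one coordinate point per slot. -/
structure Slots (d : ℕ) where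
  /-- the field of the point -/
  L : Type u
  [field : Field L]
  [alg : Algebra A L]
  /-- evaluation at the point -/
  θ : diag 𝒜 d →ₐ[A] L
  /-- a non vanishing pure tensor of degree one -/
  c : Fin d → B
  hc : ∀ i, c i ∈ 𝒜 1
  ne : θ ⟨_, tprod_mem_diag 𝒜 hc⟩ ≠ 0

attribute [instance] Slots.field Slots.alg

open scoped Classical in
/-- A prime not containing an element of positive degree gives a point. -/
theorem exists_slots [GradedAlgebra 𝒜] (hgen : Algebra.adjoin A (𝒜 1 : Set B) = ⊤)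
    {D : Subalgebra A (⨂[A] _ : Fin d, B)} (hD : D = diag 𝒜 d ⊓ SymTen.TS A B d)
    {k : ℕ} (hk : 0 < k) {t : ⨂[A] _ : Fin d, B} (htD : t ∈ D) (htk : t ∈ layer 𝒜 d k)
    {X : Set D} (hX : ∀ m : ℕ, 0 < m → (⟨t, htD⟩ : D) ^ m ∉ Ideal.span X) :
    ∃ P : Slots 𝒜 d, ∀ (x : D) (hx : (x : ⨂[A] _ : Fin d, B) ∈ diag 𝒜 d), x ∈ X → P.θ ⟨x, hx⟩ = 0 := by
  have hle : D ≤ diag 𝒜 d := hD.le.trans inf_le_left
  have hrad : (⟨t, htD⟩ : D) ∉ (Ideal.span X).radical := fun ⟨m, hm⟩ => by
    refine hX (m + 1) m.succ_pos ?_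
    rw [pow_succ]
    exact Ideal.mul_mem_right _ _ hm
  rw [Ideal.radical_eq_sInf, Submodule.mem_sInf] at hrad
  push Not at hrad
  obtain ⟨P, ⟨hXP, hP⟩, htP⟩ := hrad
  let ι := (Subalgebra.inclusion hle).toRingHom
  letI := ι.toAlgebra
  haveI : Algebra.IsIntegral D (diag 𝒜 d) := ⟨fun x => isIntegralElem_inclusion 𝒜 hle hD.ge x⟩
  haveI := hP
  obtain ⟨Q, -, hQ, hQP⟩ := Ideal.exists_ideal_over_prime_of_isIntegral P (⊥ : Ideal (diag 𝒜 d))
    (fun z hz => by
      rw [Ideal.mem_comap, Ideal.mem_bot] at hz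
      rw [show z = 0 from Subalgebra.inclusion_injective hle (hz.trans (map_zero _).symm)]
      exact zero_mem _)
  let L := FractionRing (diag 𝒜 d ⧸ Q)
  let θ : diag 𝒜 d →ₐ[A] L := (IsScalarTower.toAlgHom A (diag 𝒜 d ⧸ Q) L).comp (Ideal.Quotient.mkₐ A Q)
  have hθ : ∀ z, θ z = 0 ↔ z ∈ Q := fun z => by
    show algebraMap (diag 𝒜 d ⧸ Q) L (Ideal.Quotient.mk Q z) = 0 ↔ _
    rw [FaithfulSMul.algebraMap_eq_zero_iff, Ideal.Quotient.eq_zero_iff_mem]
  by_contra hc
  push Not at hc
  let K : Submodule A (⨂[A] _ : Fin d, B) := (LinearMap.ker θ.toLinearMap).map (diag 𝒜 d).val.toLinearMap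
  have htK : t ∈ K := by
    refine (Submodule.span_le.mpr ?_) htk
    rintro _ ⟨b, hb, rfl⟩
    refine exists_factor_mem 𝒜 hgen hk (fun c u hc' hu => ?_) hb
    have hzero : θ ⟨_, tprod_mem_diag 𝒜 hc'⟩ = 0 := by
      by_contra hne
      obtain ⟨x, hx, hxX, hx0⟩ := hc ⟨L, θ, c, hc', hne⟩
      exact hx0 ((hθ _).mpr (by
        have : x ∈ P := hXP (Ideal.subset_span hxX)
        rw [← hQP, Ideal.mem_comap] at this
        exact this))
    refine ⟨⟨_, tprod_mem_diag 𝒜 hc'⟩ * ⟨_, tprod_mem_diag 𝒜 hu⟩, ?_, ?_⟩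
    · show θ _ = 0
      rw [map_mul, hzero, zero_mul]
    · exact PiTensorProduct.tprod_mul_tprod c u
  obtain ⟨z, hz, rfl⟩ := htK
  apply htP
  rw [← hQP, Ideal.mem_comap]
  exact (hθ z).mp hz

namespace Slots

variable {𝒜} (P : Slots 𝒜 d)

open scoped Classical in
/-- Evaluation extended by zero. -/
noncomputable def ev (x : ⨂[A] _ : Fin d, B) : P.L := if h : x ∈ diag 𝒜 d then P.θ ⟨x, h⟩ else 0

theorem ev_of_mem {x : ⨂[A] _ : Fin d, B} (h : x ∈ diag 𝒜 d) : P.ev x = P.θ ⟨x, h⟩ := dif_pos h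

theorem ev_add {x y : ⨂[A] _ : Fin d, B} (hx : x ∈ diag 𝒜 d) (hy : y ∈ diag 𝒜 d) :
    P.ev (x + y) = P.ev x + P.ev y := by
  rw [P.ev_of_mem hx, P.ev_of_mem hy, P.ev_of_mem (add_mem hx hy), ← map_add]; rfl

theorem ev_smul (r : A) {x : ⨂[A] _ : Fin d, B} (hx : x ∈ diag 𝒜 d) : P.ev (r • x) = r • P.ev x := by
  rw [P.ev_of_mem hx, P.ev_of_mem (Subalgebra.smul_mem _ hx r), ← map_smul]; rfl

theorem ev_mul {x y : ⨂[A] _ : Fin d, B} (hx : x ∈ diag 𝒜 d) (hy : y ∈ diag 𝒜 d) :
    P.ev (x * y) = P.ev x * P.ev y := by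
  rw [P.ev_of_mem hx, P.ev_of_mem hy, P.ev_of_mem (mul_mem hx hy), ← map_mul]; rfl

theorem ev_one : P.ev 1 = 1 := by rw [P.ev_of_mem (one_mem _)]; exact map_one P.θ

theorem ev_prod {κ : Type*} (s : Finset κ) (f : κ → ⨂[A] _ : Fin d, B) (hf : ∀ j ∈ s, f j ∈ diag 𝒜 d) :
    P.ev (∏ j ∈ s, f j) = ∏ j ∈ s, P.ev (f j) := by
  classical
  induction s using Finset.induction_on with
  | empty => simpa using P.ev_one
  | insert a s ha ih =>
    rw [Finset.prod_insert ha, Finset.prod_insert ha,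
      P.ev_mul (hf a (Finset.mem_insert_self a s)) (prod_mem fun j hj => hf j (Finset.mem_insert_of_mem hj)),
      ih fun j hj => hf j (Finset.mem_insert_of_mem hj)]

theorem ev_pow {x : ⨂[A] _ : Fin d, B} (hx : x ∈ diag 𝒜 d) (n : ℕ) : P.ev (x ^ n) = P.ev x ^ n := by
  rw [P.ev_of_mem hx, P.ev_of_mem (pow_mem hx n), ← map_pow]; rfl

theorem ev_sum {κ : Type*} (s : Finset κ) (f : κ → ⨂[A] _ : Fin d, B) (hf : ∀ j ∈ s, f j ∈ diag 𝒜 d) :
    P.ev (∑ j ∈ s, f j) = ∑ j ∈ s, P.ev (f j) := by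
  classical
  induction s using Finset.induction_on with
  | empty =>
    rw [Finset.sum_empty, Finset.sum_empty, P.ev_of_mem (zero_mem _)]
    exact map_zero P.θ
  | insert a s ha ih =>
    rw [Finset.sum_insert ha, Finset.sum_insert ha,
      P.ev_add (hf a (Finset.mem_insert_self a s)) (sum_mem fun j hj => hf j (Finset.mem_insert_of_mem hj)),
      ih fun j hj => hf j (Finset.mem_insert_of_mem hj)]

variable [GradedAlgebra 𝒜]

theorem upd_mem {n : ℕ} (i : Fin d) {b : B} (hb : b ∈ 𝒜 n) (j : Fin d) :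
    Function.update (fun l => P.c l ^ n) i b j ∈ 𝒜 n := by
  rcases eq_or_ne j i with rfl | h
  · rwa [Function.update_self]
  · rw [Function.update_of_ne h]
    simpa using SetLike.pow_mem_graded n (P.hc j)

theorem ev_c_ne : P.ev (PiTensorProduct.tprod A P.c) ≠ 0 := by
  rw [P.ev_of_mem (tprod_mem_diag 𝒜 P.hc)]; exact P.ne

/-- The coordinate point of a slot, on homogeneous elements. -/
noncomputable def val (i : Fin d) (n : ℕ) (b : B) : P.L :=
  P.ev (PiTensorProduct.tprod A (Function.update (fun l => P.c l ^ n) i b)) /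
    P.ev (PiTensorProduct.tprod A P.c) ^ n

theorem val_add (i : Fin d) {n : ℕ} {a b : B} (ha : a ∈ 𝒜 n) (hb : b ∈ 𝒜 n) :
    P.val i n (a + b) = P.val i n a + P.val i n b := by
  rw [val, val, val, ← add_div, ← P.ev_add (tprod_mem_diag 𝒜 (P.upd_mem i ha)) (tprod_mem_diag 𝒜 (P.upd_mem i hb)),
    MultilinearMap.map_update_add]

theorem val_smul (i : Fin d) {n : ℕ} (r : A) {b : B} (hb : b ∈ 𝒜 n) :
    P.val i n (r • b) = r • P.val i n b := by
  rw [val, val, MultilinearMap.map_update_smul, P.ev_smul r (tprod_mem_diag 𝒜 (P.upd_mem i hb)), smul_div_assoc]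

theorem val_mul (i : Fin d) {n m : ℕ} {a b : B} (ha : a ∈ 𝒜 n) (hb : b ∈ 𝒜 m) :
    P.val i (n + m) (a * b) = P.val i n a * P.val i m b := by
  rw [val, val, val, div_mul_div_comm, ← pow_add,
    ← P.ev_mul (tprod_mem_diag 𝒜 (P.upd_mem i ha)) (tprod_mem_diag 𝒜 (P.upd_mem i hb)),
    PiTensorProduct.tprod_mul_tprod]
  congr 3
  funext j
  rcases eq_or_ne j i with rfl | h
  · simp
  · simp [Function.update_of_ne h, pow_add]

theorem val_c (i : Fin d) : P.val i 1 (P.c i) = 1 := by
  rw [val, pow_one]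
  simp only [pow_one, Function.update_eq_self]
  exact div_self P.ev_c_ne

theorem val_zero (i : Fin d) (n : ℕ) : P.val i n 0 = 0 := by
  simpa using P.val_smul i (n := n) (0 : A) (zero_mem (𝒜 n))

theorem val_sum (i : Fin d) {n : ℕ} {κ : Type*} (s : Finset κ) (f : κ → B) (hf : ∀ j ∈ s, f j ∈ 𝒜 n) :
    P.val i n (∑ j ∈ s, f j) = ∑ j ∈ s, P.val i n (f j) := by
  classical
  induction s using Finset.induction_on with
  | empty => simpa using P.val_zero i n
  | insert a s ha ih =>
    rw [Finset.sum_insert ha, Finset.sum_insert ha,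
      P.val_add i (hf a (Finset.mem_insert_self a s)) (sum_mem fun j hj => hf j (Finset.mem_insert_of_mem hj)),
      ih fun j hj => hf j (Finset.mem_insert_of_mem hj)]

theorem val_one (i : Fin d) : P.val i 0 1 = 1 := by
  rw [val, pow_zero, div_one]
  have : Function.update (fun l => P.c l ^ 0) i (1 : B) = fun _ => 1 := by
    funext j
    rcases eq_or_ne j i with rfl | h
    · simp
    · simp [Function.update_of_ne h]
  rw [this]
  exact P.ev_one

theorem val_pow (i : Fin d) {n : ℕ} {a : B} (ha : a ∈ 𝒜 n) (m : ℕ) :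
    P.val i (m * n) (a ^ m) = P.val i n a ^ m := by
  induction m with
  | zero => simpa using P.val_one i
  | succ m ih =>
    rw [pow_succ, pow_succ, Nat.succ_mul,
      P.val_mul i (by simpa using SetLike.pow_mem_graded m ha) ha, ih]

/-- The value at a pure tensor is the product of the coordinate values. -/
theorem ev_tprod {n : ℕ} {b : Fin d → B} (hb : ∀ i, b i ∈ 𝒜 n) :
    P.ev (PiTensorProduct.tprod A b) = P.ev (PiTensorProduct.tprod A P.c) ^ n * ∏ i, P.val i n (b i) := by
  classical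
  set γ := P.ev (PiTensorProduct.tprod A P.c)
  have hγ : γ ≠ 0 := P.ev_c_ne
  have hcm : PiTensorProduct.tprod A P.c ∈ diag 𝒜 d := tprod_mem_diag 𝒜 P.hc
  have hu : ∀ i ∈ (Finset.univ : Finset (Fin d)),
      PiTensorProduct.tprod A (Function.update (fun l => P.c l ^ n) i (b i)) ∈ diag 𝒜 d :=
    fun i _ => tprod_mem_diag 𝒜 (P.upd_mem i (hb i))
  have key : (∏ i, PiTensorProduct.tprod A (Function.update (fun l => P.c l ^ n) i (b i))) *
      PiTensorProduct.tprod A P.c ^ n = PiTensorProduct.tprod A b * PiTensorProduct.tprod A P.c ^ (d * n) := by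
    let φ := PiTensorProduct.tprodMonoidHom A (A := fun _ : Fin d => B)
    show (∏ i, φ _) * φ P.c ^ n = φ b * φ P.c ^ (d * n)
    rw [← map_prod, ← map_pow, ← map_pow, ← map_mul, ← map_mul]
    refine congrArg φ (funext fun j => ?_)
    simp only [Pi.mul_apply, Finset.prod_apply, Pi.pow_apply]
    rw [← Finset.mul_prod_erase _ _ (Finset.mem_univ j), Function.update_self,
      Finset.prod_congr rfl (g := fun _ => P.c j ^ n) (fun i hi => by
        rw [Function.update_of_ne (Finset.ne_of_mem_erase hi).symm]),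
      Finset.prod_const, Finset.card_erase_of_mem (Finset.mem_univ j), Finset.card_univ, Fintype.card_fin,
      ← pow_mul, mul_assoc, ← pow_add]
    congr 2
    obtain ⟨e, he⟩ : ∃ e, d = e + 1 := ⟨d - 1, by have := j.2; omega⟩
    subst he
    simp [Nat.add_mul, Nat.mul_comm]
    rw [Nat.mul_succ]
  have h := congrArg P.ev key
  rw [P.ev_mul (prod_mem hu) (pow_mem hcm n), P.ev_mul (tprod_mem_diag 𝒜 hb) (pow_mem hcm _),
    P.ev_prod _ _ hu, P.ev_pow hcm, P.ev_pow hcm] at h
  simp only [val, Finset.prod_div_distrib, Finset.prod_const, Finset.card_univ, Fintype.card_fin]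
  rw [← pow_mul, mul_comm n d, mul_div_assoc', eq_div_iff (pow_ne_zero _ hγ), mul_comm (γ ^ n)]
  exact h.symm

end Slots

end Groth.Agent.H22Alg.ProjSym
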