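import Mathlib
import Groth.Agent.H22Alg.ProjSymCover

/-!
Covering the Proj of the symmetric part of a graded tensor power by symmetric opens.
-/

universe u

open scoped TensorProduct

namespace Groth.Agent.H22Alg.ProjSym

variable {A B : Type u} [CommRing A] [CommRing B] [Algebra A B] (𝒜 : ℕ → Submodule A B) [GradedAlgebra 𝒜]
  {d : ℕ}

/-- The exponent vector of a choice of indices. -/
noncomputable def cnt {r : ℕ} (c : Fin d → Fin r) : Fin r →₀ ℕ := ∑ i, Finsupp.single (c i) 1

/-- Some symmetrised pure tensor of degree one is non zero at a point. -/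
theorem exists_symm_layer_one (P : Slots 𝒜 d) (hfg : (𝒜 1).FG) :
    ∃ u : ⨂[A] _ : Fin d, B, u ∈ layer 𝒜 d 1 ∧ u ∈ SymTen.TS A B d ∧ P.ev u ≠ 0 := by
  classical
  obtain ⟨r, g, hg⟩ := Submodule.fg_iff_exists_fin_generating_family.mp hfg
  have hgm : ∀ j, g j ∈ 𝒜 1 := fun j => hg.le (Submodule.subset_span ⟨j, rfl⟩)
  let a : Fin d → Fin r → P.L := fun i j => P.val i 1 (g j)
  have hlin : ∀ i, ∃ j, a i j ≠ 0 := by
    intro i
    by_contra hc
    push Not at hc
    have : ∀ v ∈ Submodule.span A (Set.range g), v ∈ 𝒜 1 ∧ P.val i 1 v = 0 := by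
      intro v hv
      induction hv using Submodule.span_induction with
      | mem w hw => obtain ⟨j, rfl⟩ := hw; exact ⟨hgm j, hc j⟩
      | zero => exact ⟨zero_mem _, P.val_zero i 1⟩
      | add v w _ _ hv hw => exact ⟨add_mem hv.1 hw.1, by rw [P.val_add i hv.1 hw.1, hv.2, hw.2, add_zero]⟩
      | smul c v _ hv => exact ⟨Submodule.smul_mem _ c hv.1, by rw [P.val_smul i c hv.1, hv.2, smul_zero]⟩
    have h := (this (P.c i) (hg ▸ P.hc i)).2
    rw [P.val_c i] at h
    exact one_ne_zero h
  let l : Fin d → MvPolynomial (Fin r) P.L := fun i => ∑ j, MvPolynomial.C (a i j) * MvPolynomial.X j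
  have hl : ∀ i, l i ≠ 0 := fun i h => by
    obtain ⟨j, hj⟩ := hlin i
    apply hj
    have := congrArg (MvPolynomial.coeff (Finsupp.single j 1)) h
    simpa [l, MvPolynomial.coeff_sum, MvPolynomial.coeff_C_mul, MvPolynomial.coeff_X',
      Finsupp.single_left_inj one_ne_zero] using this
  have hmono : ∀ c : Fin d → Fin r, (∏ i, MvPolynomial.C (a i (c i)) * MvPolynomial.X (c i) : MvPolynomial (Fin r) P.L) =
      MvPolynomial.monomial (cnt c) (∏ i, a i (c i)) := by
    intro c
    rw [cnt, MvPolynomial.monomial_sum_prod]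
    simp [MvPolynomial.C_mul_X_eq_monomial]
  obtain ⟨ν, hν⟩ := MvPolynomial.ne_zero_iff.mp (Finset.prod_ne_zero_iff.mpr fun i _ => hl i :
    (∏ i, l i) ≠ 0)
  let pt : (Fin d → Fin r) → ⨂[A] _ : Fin d, B := fun c => PiTensorProduct.tprod A (g ∘ c)
  let u : ⨂[A] _ : Fin d, B := ∑ c : Fin d → Fin r with cnt c = ν, pt c
  have hpt : ∀ c, pt c ∈ diag 𝒜 d := fun c => tprod_mem_diag 𝒜 fun i => hgm _
  refine ⟨u, sum_mem fun c _ => Submodule.subset_span ⟨_, fun i => hgm _, rfl⟩, fun σ => ?_, ?_⟩
  · simp only [u, map_sum, pt, PiTensorProduct.reindex_tprod]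
    refine Finset.sum_nbij' (fun c => c ∘ σ.symm) (fun c => c ∘ σ) ?_ ?_ ?_ ?_ ?_
    · intro c hc
      simp only [Finset.coe_filter, Finset.mem_filter, Finset.mem_univ, true_and, Set.mem_setOf_eq] at hc ⊢
      rw [← hc, cnt, cnt]
      exact Equiv.sum_comp σ.symm fun i => Finsupp.single (c i) 1
    · intro c hc
      simp only [Finset.coe_filter, Finset.mem_filter, Finset.mem_univ, true_and, Set.mem_setOf_eq] at hc ⊢
      rw [← hc, cnt, cnt]
      exact Equiv.sum_comp σ fun i => Finsupp.single (c i) 1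
    · intro c _; funext i; simp
    · intro c _; funext i; simp
    · intro c _; rfl
  · have he : P.ev u = P.ev (PiTensorProduct.tprod A P.c) * (∏ i, l i).coeff ν := by
      rw [P.ev_sum _ _ fun c _ => hpt c, Finset.prod_univ_sum, Fintype.piFinset_univ, MvPolynomial.coeff_sum,
        Finset.mul_sum, Finset.sum_filter]
      refine Finset.sum_congr rfl fun c _ => ?_
      rw [hmono, MvPolynomial.coeff_monomial]
      split_ifs with h
      · simp only [pt, a]
        rw [P.ev_tprod (n := 1) (b := g ∘ c) fun i => hgm _, pow_one]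
        rfl
      · rw [mul_zero]
    rw [he]
    exact mul_ne_zero P.ev_c_ne hν

/-- Homogeneous avoidance of finitely many points. -/
theorem exists_homog_avoid (P : Slots 𝒜 d) (s : Finset (Fin d)) :
    ∃ n f, 0 < n ∧ f ∈ 𝒜 n ∧ ∀ i ∈ s, P.val i n f ≠ 0 := by
  classical
  induction s using Finset.strongInduction with
  | H s ih =>
    by_cases hsub : ∃ i ∈ s, ∃ j ∈ s, i ≠ j ∧ ∀ n f, f ∈ 𝒜 n → P.val i n f = 0 → P.val j n f = 0
    · obtain ⟨i, hi, j, hj, hij, hsub⟩ := hsub
      obtain ⟨n, f, hn, hf, h⟩ := ih _ (Finset.erase_ssubset hi)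
      refine ⟨n, f, hn, hf, fun l hl => ?_⟩
      rcases eq_or_ne l i with rfl | hl'
      · exact fun h0 => h j (Finset.mem_erase.mpr ⟨hij.symm, hj⟩) (hsub n f hf h0)
      · exact h l (Finset.mem_erase.mpr ⟨hl', hl⟩)
    · push Not at hsub
      choose N G hG0 hG1 hG2 using hsub
      -- for each point, an element vanishing at the others
      have he : ∀ i ∈ s, ∃ n e, 0 < n ∧ e ∈ 𝒜 n ∧ P.val i n e ≠ 0 ∧ ∀ j ∈ s, j ≠ i → P.val j n e = 0 := by
        intro i hi
        have aux : ∀ T : Finset (Fin d), T ⊆ s.erase i → ∃ n e, 0 < n ∧ e ∈ 𝒜 n ∧ P.val i n e ≠ 0 ∧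
            ∀ j ∈ T, P.val j n e = 0 := by
          intro T
          induction T using Finset.induction_on with
          | empty =>
            exact fun _ => ⟨1, P.c i, one_pos, P.hc i, by rw [P.val_c i]; exact one_ne_zero, by simp⟩
          | insert a T ha ihT =>
            intro hT
            obtain ⟨n, e, hn, he, he1, he2⟩ := ihT ((Finset.subset_insert a T).trans hT)
            obtain ⟨hai, has⟩ := Finset.mem_erase.mp (hT (Finset.mem_insert_self a T))
            refine ⟨n + N a has i hi hai, e * G a has i hi hai, by omega,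
              SetLike.mul_mem_graded he (hG0 a has i hi hai), ?_, fun j hj => ?_⟩
            · rw [P.val_mul i he (hG0 a has i hi hai)]
              exact mul_ne_zero he1 (hG2 a has i hi hai)
            · rw [P.val_mul j he (hG0 a has i hi hai)]
              rcases Finset.mem_insert.mp hj with rfl | hj
              · rw [hG1 j has i hi hai, mul_zero]
              · rw [he2 j hj, zero_mul]
        obtain ⟨n, e, h1, h2, h3, h4⟩ := aux _ subset_rfl
        exact ⟨n, e, h1, h2, h3, fun j hj hji => h4 j (Finset.mem_erase.mpr ⟨hji, hj⟩)⟩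
      choose n e hn he1 he2 he3 using he
      let M : ℕ := ∏ i : s, n i.1 i.2
      have hM : 0 < M := Finset.prod_pos fun i _ => hn i.1 i.2
      let m : s → ℕ := fun i => ∏ j ∈ Finset.univ.erase i, n j.1 j.2
      have hm : ∀ i : s, m i * n i.1 i.2 = M := fun i => Finset.prod_erase_mul _ _ (Finset.mem_univ i)
      have hm0 : ∀ i : s, 0 < m i := fun i => Finset.prod_pos fun j _ => hn j.1 j.2
      have hmem : ∀ i : s, e i.1 i.2 ^ m i ∈ 𝒜 M := fun i => by
        have := SetLike.pow_mem_graded (m i) (he1 i.1 i.2)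
        rwa [smul_eq_mul, hm] at this
      refine ⟨M, ∑ i : s, e i.1 i.2 ^ m i, hM, sum_mem fun i _ => hmem i, fun j hj => ?_⟩
      rw [P.val_sum j _ _ fun i _ => hmem i, Finset.sum_eq_single (⟨j, hj⟩ : s)]
      · rw [← hm ⟨j, hj⟩, P.val_pow j (he1 j hj)]
        exact pow_ne_zero _ (he2 j hj)
      · intro i _ hne
        rw [← hm i, P.val_pow j (he1 i.1 i.2), he3 i.1 i.2 j hj (fun h => hne (Subtype.ext h.symm)),
          zero_pow (hm0 i).ne']
      · exact fun h => absurd (Finset.mem_univ _) h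

/-- Degree one avoidance when the residue field is large. -/
theorem exists_degOne_avoid (P : Slots 𝒜 d) (hres : ∀ p : PrimeSpectrum A, (d : Cardinal) ≤ Cardinal.mk p.asIdeal.ResidueField)
    (s : Finset (Fin d)) : ∃ f, f ∈ 𝒜 1 ∧ ∀ i ∈ s, P.val i 1 f ≠ 0 := by
  classical
  let p : Ideal A := RingHom.ker (algebraMap A P.L)
  have : p.IsPrime := RingHom.ker_isPrime _
  let κ := p.ResidueField
  let φ : κ →ₐ[A] P.L := Ideal.ResidueField.liftₐ p (Algebra.ofId A P.L) le_rfl (by
    intro x hx
    exact (isUnit_iff_ne_zero.mpr fun h => hx h))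
  induction s using Finset.induction_on with
  | empty => exact ⟨0, zero_mem _, by simp⟩
  | insert a s ha ih =>
    obtain ⟨f, hf, hfs⟩ := ih
    by_cases hfa : P.val a 1 f ≠ 0
    · exact ⟨f, hf, fun i hi => (Finset.mem_insert.mp hi).elim (fun h => h ▸ hfa) (hfs i)⟩
    push Not at hfa
    set g := P.c a
    let bad : Fin d → P.L := fun i => - P.val i 1 g / P.val i 1 f
    have hcard : (((s.image bad).preimage φ φ.toRingHom.injective.injOn).card : Cardinal) < Cardinal.mk κ := by
      refine lt_of_lt_of_le ?_ (hres ⟨p, this⟩)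
      norm_cast
      calc ((s.image bad).preimage φ φ.toRingHom.injective.injOn).card
          ≤ (s.image bad).card := Finset.card_le_card_of_injOn φ (fun x hx => Finset.mem_preimage.mp hx) φ.toRingHom.injective.injOn
        _ ≤ s.card := Finset.card_image_le
        _ < d := by
          have := Finset.card_le_univ (insert a s)
          rw [Finset.card_insert_of_notMem ha, Fintype.card_fin] at this
          omega
    obtain ⟨x, hx⟩ : ∃ x : κ, φ x ∉ s.image bad := by
      by_contra hc
      push Not at hc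
      refine absurd (Cardinal.mk_le_of_injective (f := fun x : κ => (⟨x, Finset.mem_preimage.mpr (hc x)⟩ :
        ((s.image bad).preimage φ φ.toRingHom.injective.injOn : Finset κ))) fun x y h => congrArg Subtype.val h) ?_
      rw [Cardinal.mk_coe_finset]
      exact not_le.mpr hcard
    obtain ⟨r, t, ht, hrt⟩ := IsFractionRing.div_surjective (A ⧸ p) (K := κ) x
    obtain ⟨r, rfl⟩ := Ideal.Quotient.mk_surjective r
    obtain ⟨t, rfl⟩ := Ideal.Quotient.mk_surjective t
    have ht0 : algebraMap A P.L t ≠ 0 := fun h => nonZeroDivisors.ne_zero ht (Ideal.Quotient.eq_zero_iff_mem.mpr h)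
    have hφ : φ x = algebraMap A P.L r / algebraMap A P.L t := by
      rw [← hrt, map_div₀, ← Ideal.Quotient.algebraMap_eq, ← IsScalarTower.algebraMap_apply,
        ← IsScalarTower.algebraMap_apply, AlgHom.commutes, AlgHom.commutes]
    have hval : ∀ i, P.val i 1 (t • g + r • f) =
        algebraMap A P.L t * (P.val i 1 g + φ x * P.val i 1 f) := fun i => by
      rw [P.val_add i (Submodule.smul_mem _ t (P.hc a)) (Submodule.smul_mem _ r hf), P.val_smul i t (P.hc a),
        P.val_smul i r hf, Algebra.smul_def, Algebra.smul_def, hφ, mul_add, ← mul_assoc, mul_div_cancel₀ _ ht0]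
    refine ⟨t • g + r • f, add_mem (Submodule.smul_mem _ t (P.hc a)) (Submodule.smul_mem _ r hf), fun i hi => ?_⟩
    rw [hval]
    refine mul_ne_zero ht0 ?_
    rcases Finset.mem_insert.mp hi with rfl | hi
    · rw [hfa, mul_zero, add_zero, P.val_c i]
      exact one_ne_zero
    · intro h
      refine hx (Finset.mem_image.mpr ⟨i, hi, ?_⟩)
      rw [div_eq_iff (hfs i hi)]
      linear_combination (-1 : P.L) * h

theorem ev_diag_ne_zero (P : Slots 𝒜 d) {n : ℕ} {f : B} (hf : f ∈ 𝒜 n) (h : ∀ i, P.val i n f ≠ 0) :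
    P.ev (PiTensorProduct.tprod A fun _ : Fin d => f) ≠ 0 := by
  rw [P.ev_tprod (fun _ => hf)]
  exact mul_ne_zero (pow_ne_zero _ P.ev_c_ne) (Finset.prod_ne_zero_iff.mpr fun i _ => h i)

theorem tprod_const_mem {n : ℕ} {f : B} (hf : f ∈ 𝒜 n) :
    (PiTensorProduct.tprod A fun _ : Fin d => f) ∈ diag 𝒜 d ⊓ SymTen.TS A B d :=
  ⟨tprod_mem_diag 𝒜 fun _ => hf, (SymTen.tpow A B d f).2⟩

end Groth.Agent.H22Alg.ProjSym
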