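import Groth.Agent.H22Alg.GradedMonomial
import Groth.Agent.H11Proj.TwistDegAmple
import Groth.Agent.H11Proj.PnGlobal
import Groth.Agent.H11Tilde.ProjUP
import Groth.Agent.H10Inj.SheafExt.DualTensor

/-! # Twisting sheaves of Proj of an algebra finitely generated in positive degrees (EGA II 2.5, 4.4). -/

set_option autoImplicit false
set_option linter.style.haveILetI false

noncomputable section

universe u

open CategoryTheory CategoryTheory.Limits AlgebraicGeometry Opposite TopologicalSpace CohB1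
open Groth.Agent.H11Tilde Groth.Agent.H11Ample
open scoped Pointwise

namespace Groth.Agent.H22Alg.ProjVeronese

variable {R A : Type u} [CommRing R] [CommRing A] [Algebra R A] (𝒜 : ℕ → Submodule R A) [GradedAlgebra 𝒜]

/-- Sections of invertible modules generating somewhere generate everywhere they do so. -/
theorem generatedBy_of_gen {X : Scheme.{u}} {L : X.Modules} (hL : PicF.IsInvertible L) {ι : Type*}
    (v : ι → Γ(L, ⊤)) (hv : ∀ x, ∃ i, x ∈ gen L (v i)) : ProjUP.GeneratedBy L v := fun x => by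
  obtain ⟨i, hi⟩ := hv x
  refine eq_top_iff.2 fun m _ => ?_
  obtain ⟨c, hc⟩ := ((mem_gen_iff hL (v i) x).1 hi).2 m
  rw [← hc]
  exact Submodule.smul_mem _ c (Submodule.subset_span ⟨i, rfl⟩)

theorem globalOf_eq {n : ℕ} (b : 𝒜 n) :
    (Twist.globalOf 𝒜 b : ProjUP.Γm (Twist.twist 𝒜 (n : ℤ))) = globalSec 𝒜 b.2 :=
  sval_ext 𝒜 𝒜 fun _ => rfl

theorem isInvertible_twist {n : ℕ} (h : ∀ x : Proj 𝒜, ∃ f ∈ 𝒜 n, f ∉ x.asHomogeneousIdeal) :
    PicF.IsInvertible (GrTwist.twist 𝒜 (n : ℤ)) :=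
  H11Ample.isInvertible_of_gen fun x => by
    obtain ⟨f, hf, hfx⟩ := h x
    exact ⟨Proj.basicOpen 𝒜 f, _, hfx, H11Tilde.isGen_of_bijective
      (e := (GrTwist.twist 𝒜 (n : ℤ)).presheaf.map (homOfLE (le_top : Proj.basicOpen 𝒜 f ≤ ⊤)).op (globalSec 𝒜 hf))
      fun V hV => by
        refine Eq.mpr (congrArg Function.Bijective (funext fun r => ?_))
          (Groth.Agent.H11Tilde.bijective_smul_globalSec 𝒜 hf hV)
        rw [H10Coh.mres_mres]
        rfl⟩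

/-- A degree without common zero gives generation by the degree piece. -/
theorem generatedBy_of_cover {n : ℕ} (h : ∀ x : Proj 𝒜, ∃ f ∈ 𝒜 n, f ∉ x.asHomogeneousIdeal) :
    ProjUP.GeneratedBy (Twist.twist 𝒜 (n : ℤ))
      (fun b : 𝒜 n => (Twist.globalOf 𝒜 b : ProjUP.Γm (Twist.twist 𝒜 (n : ℤ)))) := by
  refine generatedBy_of_gen (L := Twist.twist 𝒜 (n : ℤ)) (isInvertible_twist 𝒜 h) _ fun x => ?_
  obtain ⟨f, hf, hfx⟩ := h x
  refine ⟨⟨f, hf⟩, ?_⟩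
  rw [globalOf_eq]
  exact (genLocus_globalSec 𝒜 hf h).ge hfx

/-! ### Functions on `D₊(g)` -/

section fn

variable {g : A} {e : ℕ} (hg : g ∈ 𝒜 e)

/-- The function `a / g ^ k` on `D₊(g)`. -/
def secFn {k : ℕ} {a : A} (ha : a ∈ 𝒜 (k • e)) : Γ(Proj 𝒜, Proj.basicOpen 𝒜 g) :=
  Proj.awayToSection 𝒜 g (HomogeneousLocalization.Away.mk 𝒜 hg k a ha)

theorem fval_secFn {k : ℕ} {a : A} (ha : a ∈ 𝒜 (k • e)) (x : Proj.basicOpen 𝒜 g) :
    fval 𝒜 (secFn 𝒜 hg ha) x = Localization.mk a ⟨g ^ k, pow_notMem 𝒜 x.2 k⟩ :=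
  fval_awayToSection 𝒜 hg k a ha x

/-- `a / g ^ k` lies in the subring for some reading. -/
def MemSub (S : Subring Γ(Proj 𝒜, Proj.basicOpen 𝒜 g)) (k : ℕ) (a : A) : Prop :=
  ∃ h : a ∈ 𝒜 (k • e), secFn 𝒜 hg h ∈ S

variable {hg} {S : Subring Γ(Proj 𝒜, Proj.basicOpen 𝒜 g)}

theorem MemSub.zero (k : ℕ) : MemSub 𝒜 hg S k 0 := by
  refine ⟨zero_mem _, ?_⟩
  convert zero_mem S
  exact fval_ext 𝒜 fun x => by rw [fval_secFn, fval_zero, Localization.mk_zero]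

theorem MemSub.add {k : ℕ} {a b : A} (ha : MemSub 𝒜 hg S k a) (hb : MemSub 𝒜 hg S k b) :
    MemSub 𝒜 hg S k (a + b) := by
  obtain ⟨ha, ha'⟩ := ha
  obtain ⟨hb, hb'⟩ := hb
  refine ⟨add_mem ha hb, ?_⟩
  convert add_mem ha' hb'
  exact fval_ext 𝒜 fun x => by rw [fval_add, fval_secFn, fval_secFn, fval_secFn, Localization.add_mk_self]

theorem MemSub.mul {k l : ℕ} {a b : A} (ha : MemSub 𝒜 hg S k a) (hb : MemSub 𝒜 hg S l b) :
    MemSub 𝒜 hg S (k + l) (a * b) := by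
  obtain ⟨ha, ha'⟩ := ha
  obtain ⟨hb, hb'⟩ := hb
  refine ⟨by rw [add_smul]; exact SetLike.mul_mem_graded ha hb, ?_⟩
  convert mul_mem ha' hb'
  refine fval_ext 𝒜 fun x => ?_
  rw [fval_mul, fval_secFn, fval_secFn, fval_secFn, Localization.mk_mul]
  exact Localization.mk_eq_mk_iff.2 (Localization.r_iff_exists.2 ⟨1, by simp [pow_add]⟩)

theorem MemSub.one : MemSub 𝒜 hg S 0 1 := by
  refine ⟨by simpa using SetLike.one_mem_graded 𝒜, ?_⟩
  convert one_mem S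
  refine fval_ext 𝒜 fun x => ?_
  rw [fval_one, fval_secFn, ← Localization.mk_one]
  exact Localization.mk_eq_mk_iff.2 (Localization.r_iff_exists.2 ⟨1, by simp⟩)

theorem MemSub.pow {k : ℕ} {a : A} (ha : MemSub 𝒜 hg S k a) (m : ℕ) : MemSub 𝒜 hg S (m * k) (a ^ m) := by
  induction m with
  | zero => rw [zero_mul, pow_zero]; exact MemSub.one 𝒜
  | succ m ih => rw [add_mul, one_mul, pow_succ]; exact ih.mul 𝒜 ha

theorem MemSub.prod {ι : Type*} (t : Finset ι) (k : ι → ℕ) (a : ι → A)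
    (h : ∀ i ∈ t, MemSub 𝒜 hg S (k i) (a i)) : MemSub 𝒜 hg S (∑ i ∈ t, k i) (∏ i ∈ t, a i) := by
  classical
  induction t using Finset.induction with
  | empty => simpa using MemSub.one 𝒜
  | insert j t hj ih =>
    rw [Finset.sum_insert hj, Finset.prod_insert hj]
    exact (h j (Finset.mem_insert_self _ _)).mul 𝒜 (ih fun i hi => h i (Finset.mem_insert_of_mem hi))

theorem MemSub.smul (hS : ∀ r : R, MemSub 𝒜 hg S 0 (algebraMap R A r)) {k : ℕ} {a : A} (r : R)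
    (ha : MemSub 𝒜 hg S k a) : MemSub 𝒜 hg S k (r • a) := by
  have := (hS r).mul 𝒜 ha
  rwa [zero_add, ← Algebra.smul_def] at this

theorem MemSub.of_cross {k l : ℕ} {a b : A} (hb : MemSub 𝒜 hg S l b) (ha : a ∈ 𝒜 (k • e))
    (h : a * g ^ l = b * g ^ k) : MemSub 𝒜 hg S k a := by
  obtain ⟨hb, hb'⟩ := hb
  refine ⟨ha, ?_⟩
  convert hb' using 1
  refine fval_ext 𝒜 fun x => ?_
  rw [fval_secFn, fval_secFn]
  exact Localization.mk_eq_mk_iff.2 (Localization.r_iff_exists.2 ⟨1, by simp; linear_combination h⟩)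

theorem memSub_span (hS : ∀ r : R, MemSub 𝒜 hg S 0 (algebraMap R A r)) {k : ℕ} {s : Set A}
    (hs : ∀ a ∈ s, MemSub 𝒜 hg S k a) {a : A} (ha : a ∈ Submodule.span R s) : MemSub 𝒜 hg S k a := by
  induction ha using Submodule.span_induction with
  | mem y hy => exact hs y hy
  | zero => exact MemSub.zero 𝒜 k
  | add y z _ _ hy hz => exact hy.add 𝒜 hz
  | smul r y _ hy => exact hy.smul 𝒜 hS r

theorem eq_top_of_memSub (he : 0 < e) (h : ∀ k, ∀ a ∈ 𝒜 (k • e), MemSub 𝒜 hg S k a) : S = ⊤ := by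
  refine eq_top_iff.2 fun c _ => ?_
  haveI : IsIso (Proj.awayToSection 𝒜 g) := (Proj.basicOpenIsoAway 𝒜 g hg he).isIso_hom
  obtain ⟨z, rfl⟩ := (ConcreteCategory.bijective_of_isIso (Proj.awayToSection 𝒜 g)).2 c
  obtain ⟨k, a, ha, rfl⟩ := HomogeneousLocalization.Away.mk_surjective 𝒜 hg z
  exact (h k a ha).2

theorem res_globalSec {b : A} (hb : b ∈ 𝒜 e) :
    (GrTwist.twist 𝒜 (e : ℤ)).presheaf.map (homOfLE (le_top : Proj.basicOpen 𝒜 g ≤ ⊤)).op (globalSec 𝒜 hb) =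
      secFn 𝒜 hg (show b ∈ 𝒜 (1 • e) by rwa [one_smul]) •
        (GrTwist.twist 𝒜 (e : ℤ)).presheaf.map (homOfLE (le_top : Proj.basicOpen 𝒜 g ≤ ⊤)).op (globalSec 𝒜 hg) := by
  refine sval_ext 𝒜 𝒜 fun x => ?_
  erw [sval_smul, fval_secFn]
  change (Localization.mk b ⟨1, _⟩ : GrTwist.Loc 𝒜 x.1) = Localization.mk b ⟨g ^ 1, _⟩ * Localization.mk g ⟨1, _⟩
  rw [Localization.mk_mul]
  exact Localization.mk_eq_mk_iff.2 (Localization.r_iff_exists.2 ⟨1, by simp [mul_comm]⟩)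

end fn

/-- The structure morphism of `Proj` over the ground ring. -/
def structureMap : Proj 𝒜 ⟶ Spec (CommRingCat.of R) :=
  Proj.toSpecZero 𝒜 ≫ Spec.map (CommRingCat.ofHom (algebraMap R (𝒜 0)))

theorem res_toGlobal {g : A} {e : ℕ} (hg : g ∈ 𝒜 e) (he : 0 < e) (r : R) :
    (Proj 𝒜).presheaf.map (homOfLE (le_top : Proj.basicOpen 𝒜 g ≤ ⊤)).op
        (ProjUP.toGlobal (structureMap 𝒜) r) =
      secFn 𝒜 hg (k := 0) (a := algebraMap R A r) (by rw [zero_smul]; exact SetLike.algebraMap_mem_graded 𝒜 r) := by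
  haveI : IsAffine (Proj.basicOpen 𝒜 g).toScheme := Proj.isAffineOpen_basicOpen 𝒜 g hg he
  let D := Proj.basicOpen 𝒜 g
  let φ := CommRingCat.ofHom (algebraMap R (𝒜 0)) ≫
    CommRingCat.ofHom (HomogeneousLocalization.fromZeroRingHom 𝒜 (.powers g)) ≫ Proj.awayToSection 𝒜 g
  have h1 : D.ι ≫ structureMap 𝒜 = D.toSpecΓ ≫ Spec.map φ := by
    have hι : D.ι = (Proj.basicOpenIsoSpec 𝒜 g hg he).hom ≫ Proj.awayι 𝒜 g hg he := by
      rw [← Proj.basicOpenIsoSpec_inv_ι, Iso.hom_inv_id_assoc]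
    rw [hι, structureMap, Category.assoc, Proj.awayι_toSpecZero_assoc, Proj.basicOpenIsoSpec_hom]
    simp only [φ, Proj.basicOpenToSpec, Category.assoc, Spec.map_comp]
    rfl
  rw [hom_to_Spec_ext (structureMap 𝒜), ← Scheme.Opens.toSpecΓ_SpecMap_presheaf_map_top_assoc,
    ← Spec.map_comp] at h1
  haveI : IsIso D.toSpecΓ := by
    rw [Scheme.Opens.toSpecΓ]
    infer_instance
  have h2 := congr($(Spec.map_injective ((cancel_epi D.toSpecΓ).1 h1)).hom r)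
  refine Eq.trans h2 (fval_ext 𝒜 fun x => ?_)
  rw [fval_secFn]
  refine Eq.trans (congrArg (fun z => fval 𝒜 z x) (show φ.hom r = Proj.awayToSection 𝒜 g
    (HomogeneousLocalization.Away.mk 𝒜 hg 0 (algebraMap R A r)
      (by rw [zero_smul]; exact SetLike.algebraMap_mem_graded 𝒜 r)) from ?_)) (fval_awayToSection 𝒜 hg 0 _ _ x)
  refine congrArg (Proj.awayToSection 𝒜 g) (HomogeneousLocalization.val_injective _ ?_)
  rw [HomogeneousLocalization.Away.val_mk]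
  exact congrArg (Localization.mk (algebraMap R A r)) (Subtype.ext (pow_zero g).symm)

/-- The coefficient subring on `D₊(g)`. -/
def coefRing {g : A} {e : ℕ} (hg : g ∈ 𝒜 e) (T : Set A) : Subring Γ(Proj 𝒜, Proj.basicOpen 𝒜 g) :=
  Subring.closure (Set.range ((structureMap 𝒜).appLE ⊤ (Proj.basicOpen 𝒜 g) le_top) ∪
    {c | ∃ b, ∃ hb : b ∈ 𝒜 e, b ∈ T ∧ c = secFn 𝒜 hg (show b ∈ 𝒜 (1 • e) by rwa [one_smul])})

theorem memSub_coefRing_algebraMap {g : A} {e : ℕ} (hg : g ∈ 𝒜 e) (he : 0 < e) (T : Set A) (r : R) :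
    MemSub 𝒜 hg (coefRing 𝒜 hg T) 0 (algebraMap R A r) := by
  refine ⟨by rw [zero_smul]; exact SetLike.algebraMap_mem_graded 𝒜 r, ?_⟩
  rw [← res_toGlobal 𝒜 hg he r]
  refine Subring.subset_closure (Or.inl ⟨(Scheme.ΓSpecIso (CommRingCat.of R)).inv r, ?_⟩)
  rfl

theorem memSub_coefRing {g : A} {e : ℕ} (hg : g ∈ 𝒜 e) (T : Set A) {b : A} (hb : b ∈ 𝒜 e) (hbT : b ∈ T) :
    MemSub 𝒜 hg (coefRing 𝒜 hg T) 1 b :=
  ⟨by rwa [one_smul], Subring.subset_closure (Or.inr ⟨b, hb, hbT, rfl⟩)⟩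

theorem isProper_structureMap [Algebra.FiniteType R A] (h0 : Function.Surjective (algebraMap R (𝒜 0))) :
    IsProper (structureMap 𝒜) := by
  haveI : IsScalarTower R (𝒜 0) A := ⟨fun r a x => smul_mul_assoc r (a : A) x⟩
  haveI : Algebra.FiniteType (𝒜 0) A := Algebra.FiniteType.of_restrictScalars_finiteType R (𝒜 0) A
  haveI : IsClosedImmersion (Spec.map (CommRingCat.ofHom (algebraMap R (𝒜 0)))) :=
    IsClosedImmersion.spec_of_surjective _ h0
  unfold structureMap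
  infer_instance

/-- Coefficients generating the functions on covering affine loci give a closed immersion. -/
theorem exists_closedImmersion [Algebra.FiniteType R A] (h0 : Function.Surjective (algebraMap R (𝒜 0)))
    {n : ℕ} (hn : 0 < n) {N : ℕ} (b : Fin (N + 1) → 𝒜 n) (J : Set (Fin (N + 1)))
    (hJ : ∀ x : Proj 𝒜, ∃ j ∈ J, (b j : A) ∉ x.asHomogeneousIdeal)
    (hgen : ∀ j ∈ J, ∀ k, ∀ a ∈ 𝒜 (k • n),
      MemSub 𝒜 (b j).2 (coefRing 𝒜 (b j).2 (Set.range fun l => (b l : A))) k a) :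
    ∃ i : Proj 𝒜 ⟶ ProjSpaceOver N (Spec (CommRingCat.of R)), IsClosedImmersion i ∧
      i ≫ pullback.snd (ProjSpace.toSpec N (ULift.{u} ℤ)) (specULiftZIsTerminal.from (Spec (CommRingCat.of R))) =
        structureMap 𝒜 ∧
      Nonempty (Twist.twist 𝒜 (n : ℤ) ≅
        (Scheme.Modules.pullback i).obj (Twist.twistOver N (Spec (CommRingCat.of R)) 1)) := by
  let q := structureMap 𝒜
  let M : (Proj 𝒜).Modules := GrTwist.twist 𝒜 (n : ℤ)
  have hcov : ∀ x : Proj 𝒜, ∃ f ∈ 𝒜 n, f ∉ x.asHomogeneousIdeal := fun x =>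
    (hJ x).elim fun j hj => ⟨_, (b j).2, hj.2⟩
  have hM : PicF.IsInvertible M := isInvertible_twist 𝒜 hcov
  let v : Fin (N + 1) → Γ(M, ⊤) := fun l => globalSec 𝒜 (b l).2
  have hgv : ∀ l, gen M (v l) = Proj.basicOpen 𝒜 (b l : A) := fun l => genLocus_globalSec 𝒜 (b l).2 hcov
  have hJv : ∀ x, ∃ j ∈ J, x ∈ gen M (v j) := fun x =>
    (hJ x).imp fun j hj => ⟨hj.1, (hgv j).ge hj.2⟩
  obtain ⟨r, τ, hτ⟩ := H11Proj.exists_toPn' hM v fun x => (hJv x).imp fun _ h => h.2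
  obtain ⟨hpre, hrat⟩ := H11Proj.pn_sections r τ v hτ
  obtain ⟨i, h₁, h₂, hi⟩ := H11Proj.isImmersion_lift q r v hpre hrat J hJv
    (fun j _ => by rw [hgv j]; exact Proj.isAffineOpen_basicOpen 𝒜 _ (b j).2 hn) fun j hj => by
    suffices h : ∀ G : (Proj 𝒜).Opens, G = Proj.basicOpen 𝒜 (b j : A) →
        Subring.closure (Set.range (q.appLE ⊤ G le_top) ∪ H11Proj.globalCoefs v j G) = ⊤ from h _ (hgv j)
    rintro G rfl
    refine top_le_iff.1 ((eq_top_of_memSub 𝒜 hn (hgen j hj)).ge.trans (Subring.closure_mono ?_))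
    rintro c (hc | ⟨a, ha, ⟨l, rfl⟩, rfl⟩)
    · exact Or.inl hc
    · exact Or.inr ⟨l, res_globalSec 𝒜 ha⟩
  haveI := hi
  haveI := isProper_structureMap 𝒜 h0
  refine ⟨i, H11Proj.isClosedImmersion_of_isImmersion q i h₂, h₂, ⟨?_⟩⟩
  exact τ.symm ≪≫ (Scheme.Modules.pullbackCongr h₁.symm).app _ ≪≫
    ((Scheme.Modules.pullbackComp i _).app (Twist.twistProjSpace N (ULift.{u} ℤ) 1)).symm

/-- Tensoring by a twist with local generators. -/
theorem nonempty_tensor_twist_iso {p q r : ℤ} (h : r = p + q)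
    (hcov : ∀ x : Proj 𝒜, ∃ (i j : ℕ) (a b : A), a ∈ 𝒜 i ∧ b ∈ 𝒜 j ∧ (i : ℤ) = j + q ∧
      a ∉ x.asHomogeneousIdeal ∧ b ∉ x.asHomogeneousIdeal) :
    Nonempty (CohB1.tensorMod (Twist.twist 𝒜 q) (Twist.twist 𝒜 p) ≅ Twist.twist 𝒜 r) := by
  obtain ⟨φ⟩ := nonempty_tilde_tensor_iso 𝒜 𝒜 h hcov
  exact ⟨H10Inj.SheafExt.tensorSwapIso (GrTwist.twist 𝒜 q) (GrTwist.twist 𝒜 p) ≪≫ φ⟩

end Groth.Agent.H22Alg.ProjVeronese
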