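import Groth.Agent.H22Alg.ProjVeronese

/-! # The two finiteness cases: degrees divisible by the lcm, and covers in degree one. -/

set_option autoImplicit false
set_option linter.style.haveILetI false

noncomputable section

universe u

open CategoryTheory CategoryTheory.Limits AlgebraicGeometry Opposite TopologicalSpace CohB1
open Groth.Agent.H11Tilde Groth.Agent.H11Ample
open scoped Pointwise

namespace Groth.Agent.H22Alg.ProjVeronese

variable {R A : Type u} [CommRing R] [CommRing A] [Algebra R A] (𝒜 : ℕ → Submodule R A) [GradedAlgebra 𝒜]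
variable {s : ℕ} (f : Fin s → A) (deg : Fin s → ℕ)

include deg in
theorem exists_gen_notMem (hdeg : ∀ i, 0 < deg i) (hf : ∀ i, f i ∈ 𝒜 (deg i))
    (hgen : Algebra.adjoin R (Set.range f) = ⊤) (x : Proj 𝒜) : ∃ i, f i ∉ x.asHomogeneousIdeal := by
  by_contra hcon
  push Not at hcon
  refine x.not_irrelevant_le ?_
  intro a ha
  classical
  have hmem : a = ∑ k ∈ (DirectSum.decompose 𝒜 a).support, (DirectSum.decompose 𝒜 a k : A) :=
    (DirectSum.sum_support_decompose 𝒜 a).symm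
  rw [hmem]
  refine sum_mem fun k hk => ?_
  rcases Nat.eq_zero_or_pos k with rfl | hk0
  · have h0 : (DirectSum.decompose 𝒜 a 0 : A) = 0 := by
      simpa [HomogeneousIdeal.mem_irrelevant_iff, GradedRing.proj_apply] using ha
    rw [h0]; exact zero_mem _
  have key : (DirectSum.decompose 𝒜 a k : A) ∈ Submodule.span R
      {y | ∃ e : Fin s → ℕ, (∑ i, e i * deg i = k) ∧ y = ∏ i, f i ^ e i} :=
    le_span_monomial 𝒜 f deg hf hgen k (Subtype.coe_prop _)
  refine (Submodule.span_le (p := x.asHomogeneousIdeal.toIdeal.restrictScalars R)).2 ?_ key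
  rintro y ⟨e, he, rfl⟩
  obtain ⟨i, hi⟩ : ∃ i, e i ≠ 0 := by
    by_contra h
    push Not at h
    simp [h] at he
    omega
  rw [← Finset.mul_prod_erase _ _ (Finset.mem_univ i)]
  exact x.asHomogeneousIdeal.toIdeal.mul_mem_right _
    (Ideal.pow_mem_of_mem _ (hcon i) _ (Nat.pos_of_ne_zero hi))

theorem algebraMap_surjective_zero (hdeg : ∀ i, 0 < deg i) (hf : ∀ i, f i ∈ 𝒜 (deg i))
    (hgen : Algebra.adjoin R (Set.range f) = ⊤) : Function.Surjective (algebraMap R (𝒜 0)) := by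
  rintro ⟨a, ha⟩
  rw [degree_zero_eq_one 𝒜 f deg hdeg hf hgen, Submodule.mem_one] at ha
  obtain ⟨r, rfl⟩ := ha
  exact ⟨r, rfl⟩

theorem finiteType_of_adjoin (hgen : Algebra.adjoin R (Set.range f) = ⊤) : Algebra.FiniteType R A :=
  ⟨⟨(Set.finite_range f).toFinset, by rwa [Set.Finite.coe_toFinset]⟩⟩

include deg in
theorem compactSpace (hdeg : ∀ i, 0 < deg i) (hf : ∀ i, f i ∈ 𝒜 (deg i))
    (hgen : Algebra.adjoin R (Set.range f) = ⊤) : CompactSpace (Proj 𝒜) := by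
  haveI := finiteType_of_adjoin f hgen
  haveI := isProper_structureMap 𝒜 (algebraMap_surjective_zero 𝒜 f deg hdeg hf hgen)
  exact QuasiCompact.compactSpace_of_compactSpace (structureMap 𝒜)

theorem lcm_dvd (i : Fin s) : deg i ∣ Finset.univ.lcm deg := Finset.dvd_lcm (Finset.mem_univ i)

theorem lcm_pos (hdeg : ∀ i, 0 < deg i) : 0 < Finset.univ.lcm deg :=
  Nat.pos_of_ne_zero fun h => by
    obtain ⟨i, -, hi⟩ := Finset.lcm_eq_zero_iff.1 h
    exact (hdeg i).ne' hi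

theorem exists_mem_mul_lcm (hdeg : ∀ i, 0 < deg i) (hf : ∀ i, f i ∈ 𝒜 (deg i))
    (hgen : Algebra.adjoin R (Set.range f) = ⊤) (a : ℕ) (x : Proj 𝒜) :
    ∃ g ∈ 𝒜 (a * Finset.univ.lcm deg), g ∉ x.asHomogeneousIdeal := by
  obtain ⟨i, hi⟩ := exists_gen_notMem 𝒜 f deg hdeg hf hgen x
  obtain ⟨c, hc⟩ := lcm_dvd deg i
  refine ⟨f i ^ (a * c), ?_, pow_notMem 𝒜 hi _⟩
  have := SetLike.pow_mem_graded (a * c) (hf i)
  rwa [smul_eq_mul, mul_assoc, mul_comm c, ← hc] at this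

theorem twist_mul_lcm (hdeg : ∀ i, 0 < deg i) (hf : ∀ i, f i ∈ 𝒜 (deg i))
    (hgen : Algebra.adjoin R (Set.range f) = ⊤) (a : ℕ) (ha : 0 < a) :
    CohB1.IsAmple (Twist.twist 𝒜 ((a * Finset.univ.lcm deg : ℕ) : ℤ)) ∧
      ProjUP.GeneratedBy (Twist.twist 𝒜 ((a * Finset.univ.lcm deg : ℕ) : ℤ))
        (fun b : 𝒜 (a * Finset.univ.lcm deg) =>
          (Twist.globalOf 𝒜 b : ProjUP.Γm (Twist.twist 𝒜 ((a * Finset.univ.lcm deg : ℕ) : ℤ)))) := by
  haveI := compactSpace 𝒜 f deg hdeg hf hgen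
  exact ⟨H11Proj.isAmple_twist_deg 𝒜 (Nat.mul_pos ha (lcm_pos deg hdeg))
    (exists_mem_mul_lcm 𝒜 f deg hdeg hf hgen a), generatedBy_of_cover 𝒜 (exists_mem_mul_lcm 𝒜 f deg hdeg hf hgen a)⟩

theorem tensor_twist_mul_lcm (hdeg : ∀ i, 0 < deg i) (hf : ∀ i, f i ∈ 𝒜 (deg i))
    (hgen : Algebra.adjoin R (Set.range f) = ⊤) (a n : ℤ) :
    Nonempty (CohB1.tensorMod (Twist.twist 𝒜 (a * (Finset.univ.lcm deg : ℕ))) (Twist.twist 𝒜 n) ≅
      Twist.twist 𝒜 (a * (Finset.univ.lcm deg : ℕ) + n)) := by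
  refine nonempty_tensor_twist_iso 𝒜 (add_comm _ _) fun x => ?_
  obtain ⟨g, hg, hgx⟩ := exists_mem_mul_lcm 𝒜 f deg hdeg hf hgen 1 x
  rw [one_mul] at hg
  refine ⟨a.toNat * Finset.univ.lcm deg, (-a).toNat * Finset.univ.lcm deg, g ^ a.toNat, g ^ (-a).toNat,
    SetLike.pow_mem_graded _ hg, SetLike.pow_mem_graded _ hg, ?_, pow_notMem 𝒜 hgx _, pow_notMem 𝒜 hgx _⟩
  push_cast
  rw [← add_mul]
  congr 1
  omega

/-- The monomials of a given degree, finitely many. -/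
theorem exists_finite_span (hdeg : ∀ i, 0 < deg i) (hf : ∀ i, f i ∈ 𝒜 (deg i))
    (hgen : Algebra.adjoin R (Set.range f) = ⊤) (n : ℕ) :
    ∃ T : Set A, T.Finite ∧ T ⊆ (𝒜 n : Set A) ∧ 𝒜 n ≤ Submodule.span R T := by
  refine ⟨_, ?_, ?_, le_span_monomial 𝒜 f deg hf hgen n⟩
  · refine Set.Finite.subset
      (Set.finite_range fun e : Fin s → Fin (n + 1) => ∏ i, f i ^ (e i : ℕ)) ?_
    rintro y ⟨e, he, rfl⟩
    exact ⟨fun i => ⟨e i, Nat.lt_succ_of_le ((Nat.le_mul_of_pos_right _ (hdeg i)).trans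
      ((Finset.single_le_sum (f := fun i => e i * deg i) (fun _ _ => Nat.zero_le _) (Finset.mem_univ i)).trans he.le))⟩, rfl⟩
  · rintro y ⟨e, he, rfl⟩
    have := monomial_mem 𝒜 f deg hf e
    simp only [smul_eq_mul, he] at this
    exact this

/-- Indexing a finite set of elements of a degree. -/
theorem exists_family {n : ℕ} {T : Set A} (hT : T.Finite) (hTn : T ⊆ (𝒜 n : Set A)) :
    ∃ (N : ℕ) (b : Fin (N + 1) → 𝒜 n), T ⊆ Set.range fun l => (b l : A) := by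
  classical
  haveI := hT.fintype
  let σ := Fintype.equivFin T
  refine ⟨Fintype.card T, Fin.cases 0 fun l => ⟨σ.symm l, hTn (σ.symm l).2⟩, fun y hy => ⟨(σ ⟨y, hy⟩).succ, ?_⟩⟩
  simp

theorem closedImmersion_mul_lcm (hdeg : ∀ i, 0 < deg i) (hf : ∀ i, f i ∈ 𝒜 (deg i))
    (hgen : Algebra.adjoin R (Set.range f) = ⊤) (a : ℕ) (ha : 0 < a) (has : s - 1 ≤ a) :
    ∃ (N : ℕ) (i : Proj 𝒜 ⟶ CohB1.ProjSpaceOver N (Spec (CommRingCat.of R))), IsClosedImmersion i ∧
      i ≫ pullback.snd (CohB1.ProjSpace.toSpec N (ULift.{u} ℤ)) (specULiftZIsTerminal.from (Spec (CommRingCat.of R))) =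
        Proj.toSpecZero 𝒜 ≫ Spec.map (CommRingCat.ofHom (algebraMap R (𝒜 0))) ∧
      Nonempty (Twist.twist 𝒜 ((a * Finset.univ.lcm deg : ℕ) : ℤ) ≅
        (Scheme.Modules.pullback i).obj (Twist.twistOver N (Spec (CommRingCat.of R)) 1)) := by
  set n := a * Finset.univ.lcm deg
  have hn : 0 < n := Nat.mul_pos ha (lcm_pos deg hdeg)
  obtain ⟨T, hTfin, hTn, hspan⟩ := exists_finite_span 𝒜 f deg hdeg hf hgen n
  choose c hc using lcm_dvd deg
  have hg : ∀ i, f i ^ (a * c i) ∈ 𝒜 n := fun i => by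
    have := SetLike.pow_mem_graded (a * c i) (hf i)
    rwa [smul_eq_mul, mul_assoc, mul_comm (c i), ← hc] at this
  let T' : Set A := T ∪ Set.range fun i => f i ^ (a * c i)
  obtain ⟨N, b, hb⟩ := exists_family 𝒜 (hTfin.union (Set.finite_range fun i => f i ^ (a * c i)))
    (Set.union_subset hTn (by rintro _ ⟨i, rfl⟩; exact hg i) : T' ⊆ (𝒜 n : Set A))
  haveI := finiteType_of_adjoin f hgen
  obtain ⟨i, hi⟩ := exists_closedImmersion 𝒜 (algebraMap_surjective_zero 𝒜 f deg hdeg hf hgen) hn b Set.univ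
    (fun x => by
      obtain ⟨i, hi⟩ := exists_gen_notMem 𝒜 f deg hdeg hf hgen x
      obtain ⟨l, hl⟩ := hb (Or.inr ⟨i, rfl⟩)
      exact ⟨l, trivial, (show (b l : A) = f i ^ (a * c i) from hl).symm ▸ pow_notMem 𝒜 hi _⟩)
    fun j _ k x hx => by
      set S := coefRing 𝒜 (b j).2 (Set.range fun l => (b l : A))
      have hS := memSub_coefRing_algebraMap 𝒜 (b j).2 hn (Set.range fun l => (b l : A))
      have h1 : ∀ y ∈ 𝒜 n, MemSub 𝒜 (b j).2 S 1 y := fun y hy =>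
        memSub_span 𝒜 hS (fun t ht => memSub_coefRing 𝒜 (b j).2 _ (hTn ht) (hb (Or.inl ht))) (hspan hy)
      have hk : ∀ m : ℕ, ∀ y ∈ 𝒜 n ^ m, MemSub 𝒜 (b j).2 S m y := fun m => by
        induction m with
        | zero =>
          intro y hy
          rw [Submodule.pow_zero, Submodule.mem_one] at hy
          obtain ⟨r, rfl⟩ := hy
          exact hS r
        | succ m ih =>
          intro y hy
          rw [Submodule.pow_succ] at hy
          induction hy using Submodule.mul_induction_on' with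
          | mem_mul_mem y hy z hz => exact (ih y hy).mul 𝒜 (h1 z hz)
          | add y _ z _ hy hz => exact hy.add 𝒜 hz
      refine hk k x ?_
      rw [← degree_mul_pow 𝒜 f deg hdeg hf hgen a has k]
      simpa using hx
  exact ⟨N, i, hi⟩

section degOne

variable (d : ℕ)

theorem exists_degOne_notMem (hcov : (⨆ g : 𝒜 1, Proj.basicOpen 𝒜 (g : A)) = ⊤) (x : Proj 𝒜) :
    ∃ g ∈ 𝒜 1, g ∉ x.asHomogeneousIdeal := by
  obtain ⟨g, hg⟩ := Opens.mem_iSup.1 (hcov.ge (trivial : x ∈ (⊤ : (Proj 𝒜).Opens)))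
  exact ⟨g, g.2, hg⟩

theorem exists_pow_notMem (hcov : (⨆ g : 𝒜 1, Proj.basicOpen 𝒜 (g : A)) = ⊤) (n : ℕ) (x : Proj 𝒜) :
    ∃ g ∈ 𝒜 n, g ∉ x.asHomogeneousIdeal := by
  obtain ⟨g, hg, hgx⟩ := exists_degOne_notMem 𝒜 hcov x
  exact ⟨g ^ n, by simpa using SetLike.pow_mem_graded n hg, pow_notMem 𝒜 hgx n⟩

theorem exists_homogeneous_generators [Algebra.FiniteType R A]
    (hgen : Algebra.adjoin R (⋃ i ∈ Finset.Icc 1 d, (𝒜 i : Set A)) = ⊤) :
    ∃ (s : ℕ) (f : Fin s → A) (deg : Fin s → ℕ), (∀ i, 0 < deg i) ∧ (∀ i, deg i ≤ d) ∧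
      (∀ i, f i ∈ 𝒜 (deg i)) ∧ Algebra.adjoin R (Set.range f) = ⊤ := by
  classical
  obtain ⟨t, ht⟩ := (‹Algebra.FiniteType R A›).out
  have key : ∀ y ∈ Algebra.adjoin R (⋃ i ∈ Finset.Icc 1 d, (𝒜 i : Set A)), ∃ U : Finset A,
      (U : Set A) ⊆ (⋃ i ∈ Finset.Icc 1 d, (𝒜 i : Set A)) ∧ y ∈ Algebra.adjoin R (U : Set A) := fun y hy => by
    induction hy using Algebra.adjoin_induction with
    | mem z hz => exact ⟨{z}, by rw [Finset.coe_singleton, Set.singleton_subset_iff]; exact hz,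
        Algebra.subset_adjoin (by simp)⟩
    | algebraMap r => exact ⟨∅, by simp, Subalgebra.algebraMap_mem _ r⟩
    | add z w _ _ hz hw =>
      obtain ⟨U, hU, hz⟩ := hz
      obtain ⟨V, hV, hw⟩ := hw
      refine ⟨U ∪ V, ?_, ?_⟩
      · rw [Finset.coe_union]; exact Set.union_subset hU hV
      · rw [Finset.coe_union]
        exact add_mem (Algebra.adjoin_mono Set.subset_union_left hz) (Algebra.adjoin_mono Set.subset_union_right hw)
    | mul z w _ _ hz hw =>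
      obtain ⟨U, hU, hz⟩ := hz
      obtain ⟨V, hV, hw⟩ := hw
      refine ⟨U ∪ V, ?_, ?_⟩
      · rw [Finset.coe_union]; exact Set.union_subset hU hV
      · rw [Finset.coe_union]
        exact mul_mem (Algebra.adjoin_mono Set.subset_union_left hz) (Algebra.adjoin_mono Set.subset_union_right hw)
  have hmem : ∀ y : t, ∃ U : Finset A, (U : Set A) ⊆ (⋃ i ∈ Finset.Icc 1 d, (𝒜 i : Set A)) ∧
      (y : A) ∈ Algebra.adjoin R (U : Set A) := fun y => key y (hgen ▸ Algebra.mem_top)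
  choose U hU hyU using hmem
  let W := Finset.univ.biUnion U
  have hW : Algebra.adjoin R (W : Set A) = ⊤ := by
    rw [eq_top_iff, ← ht]
    refine Algebra.adjoin_le fun y hy => ?_
    have hy' : y ∈ t := hy
    have hsub : (U ⟨y, hy'⟩ : Set A) ⊆ (W : Set A) := fun z hz =>
      Finset.mem_biUnion.2 ⟨⟨y, hy'⟩, Finset.mem_univ _, hz⟩
    exact Algebra.adjoin_mono (R := R) hsub (hyU ⟨y, hy'⟩)
  have hdegW : ∀ w : W, ∃ i, (0 < i ∧ i ≤ d) ∧ (w : A) ∈ 𝒜 i := fun w => by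
    obtain ⟨y, -, hw⟩ := Finset.mem_biUnion.1 w.2
    obtain ⟨i, hi, hwi⟩ := Set.mem_iUnion₂.1 (hU y hw)
    exact ⟨i, Finset.mem_Icc.1 hi, hwi⟩
  choose dg hdg hwd using hdegW
  let σ := (Fintype.equivFin W).symm
  refine ⟨_, fun i => (σ i : A), fun i => dg (σ i), fun i => (hdg _).1, fun i => (hdg _).2, fun i => hwd _, ?_⟩
  rw [show Set.range (fun i => (σ i : A)) = Set.range (Subtype.val : W → A) from σ.surjective.range_comp _,
    Subtype.range_coe_subtype]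
  exact hW

theorem closedImmersion_degOne (hgen : Algebra.adjoin R (⋃ i ∈ Finset.Icc 1 d, (𝒜 i : Set A)) = ⊤)
    (hcov : (⨆ g : 𝒜 1, Proj.basicOpen 𝒜 (g : A)) = ⊤) [Algebra.FiniteType R A] (n : ℕ) (hn : d ≤ n) (hn1 : 0 < n) :
    ∃ (N : ℕ) (i : Proj 𝒜 ⟶ CohB1.ProjSpaceOver N (Spec (CommRingCat.of R))), IsClosedImmersion i ∧
      i ≫ pullback.snd (CohB1.ProjSpace.toSpec N (ULift.{u} ℤ)) (specULiftZIsTerminal.from (Spec (CommRingCat.of R))) =
        Proj.toSpecZero 𝒜 ≫ Spec.map (CommRingCat.ofHom (algebraMap R (𝒜 0))) ∧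
      Nonempty (Twist.twist 𝒜 (n : ℤ) ≅
        (Scheme.Modules.pullback i).obj (Twist.twistOver N (Spec (CommRingCat.of R)) 1)) := by
  classical
  obtain ⟨s, f, deg, hdeg, hdeg_le, hf, hfgen⟩ := exists_homogeneous_generators 𝒜 d hgen
  haveI := compactSpace 𝒜 f deg hdeg hf hfgen
  choose g hg hgx using exists_degOne_notMem 𝒜 hcov
  obtain ⟨G, hG⟩ := CompactSpace.elim_nhds_subcover (fun x => (Proj.basicOpen 𝒜 (g x) : Set (Proj 𝒜)))
    fun x => (Proj.basicOpen 𝒜 (g x)).isOpen.mem_nhds (hgx x)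
  let T : Set A := ((fun x => g x ^ n) '' G) ∪ ((fun p => f p.2 * g p.1 ^ (n - deg p.2)) '' (G ×ˢ Set.univ))
  have hTn : T ⊆ (𝒜 n : Set A) := by
    rintro _ (⟨x, -, rfl⟩ | ⟨⟨x, i⟩, -, rfl⟩)
    · simpa using SetLike.pow_mem_graded n (hg x)
    · have := SetLike.mul_mem_graded (hf i) (SetLike.pow_mem_graded (n - deg i) (hg x))
      rw [smul_eq_mul, mul_one, Nat.add_sub_cancel' ((hdeg_le i).trans hn)] at this
      exact this
  obtain ⟨N, b, hb⟩ := exists_family 𝒜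
    (((G.finite_toSet.image _).union ((G.finite_toSet.prod Set.finite_univ).image _)) : T.Finite) hTn
  obtain ⟨i, hi⟩ := exists_closedImmersion 𝒜 (algebraMap_surjective_zero 𝒜 f deg hdeg hf hfgen) hn1 b
    {j | ∃ x ∈ G, (b j : A) = g x ^ n}
    (fun y => by
      obtain ⟨x, hx, hyx⟩ := Set.mem_iUnion₂.1 (hG.ge (Set.mem_univ y))
      obtain ⟨l, hl⟩ := hb (Or.inl ⟨x, hx, rfl⟩)
      exact ⟨l, ⟨x, hx, hl⟩, (show (b l : A) = g x ^ n from hl).symm ▸ pow_notMem 𝒜 hyx _⟩)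
    fun j ⟨x, hx, hj⟩ k z hz => by
      set S := coefRing 𝒜 (b j).2 (Set.range fun l => (b l : A))
      have hS := memSub_coefRing_algebraMap 𝒜 (b j).2 hn1 (Set.range fun l => (b l : A))
      have h1 : ∀ i, MemSub 𝒜 (b j).2 S 1 (f i * g x ^ (n - deg i)) := fun i =>
        memSub_coefRing 𝒜 (b j).2 _ (hTn (Or.inr ⟨(x, i), ⟨hx, trivial⟩, rfl⟩))
          (hb (Or.inr ⟨(x, i), ⟨hx, trivial⟩, rfl⟩))
      refine memSub_span 𝒜 hS ?_ (le_span_monomial 𝒜 f deg hf hfgen _ hz)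
      rintro _ ⟨e, he, rfl⟩
      refine (MemSub.prod 𝒜 Finset.univ (fun i => e i * 1) _ fun i _ => (h1 i).pow 𝒜 (e i)).of_cross 𝒜 ?_ ?_
      · have := monomial_mem 𝒜 f deg hf e
        simp only [smul_eq_mul] at this he ⊢
        rwa [he] at this
      · simp only [mul_one]
        rw [hj, ← pow_mul, ← pow_mul, Finset.prod_congr rfl fun i _ => mul_pow _ _ (e i), Finset.prod_mul_distrib,
          mul_assoc, Finset.prod_congr rfl fun i _ => (pow_mul (g x) (n - deg i) (e i)).symm, Finset.prod_pow_eq_pow_sum,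
          ← pow_add]
        congr 2
        rw [smul_eq_mul] at he
        rw [Finset.mul_sum]
        calc ∑ i, n * e i = ∑ i, ((n - deg i) * e i + e i * deg i) := Finset.sum_congr rfl fun i _ => by
              rw [mul_comm (e i), ← add_mul, Nat.sub_add_cancel ((hdeg_le i).trans hn)]
          _ = _ := by rw [Finset.sum_add_distrib, he, mul_comm k n]
  exact ⟨N, i, hi⟩

end degOne

end Groth.Agent.H22Alg.ProjVeronese
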