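import Groth.Agent.H22Alg.ProjVeroneseCases

/-! # Generation of `O(n)` for `n ≥ (s - 1)(l - 1)` (EGA II 4.4). -/

set_option autoImplicit false
set_option linter.style.haveILetI false

noncomputable section

universe u

open CategoryTheory CategoryTheory.Limits AlgebraicGeometry Opposite TopologicalSpace CohB1
open Groth.Agent.H11Tilde Groth.Agent.H11Ample
open scoped Pointwise

namespace Groth.Agent.H22Alg.ProjVeronese

variable {R A : Type u} [CommRing R] [CommRing A] [Algebra R A] (𝒜 : ℕ → Submodule R A) [GradedAlgebra 𝒜]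
variable {s : ℕ} (f : Fin s → A) (deg : Fin s → ℕ)

theorem degree_add_mul_lcm_le (hdeg : ∀ i, 0 < deg i) (hf : ∀ i, f i ∈ 𝒜 (deg i))
    (hgen : Algebra.adjoin R (Set.range f) = ⊤) (n : ℕ) (hn : (s - 1) * (Finset.univ.lcm deg - 1) ≤ n) (j : ℕ) :
    𝒜 (n + j * Finset.univ.lcm deg) ≤ 𝒜 n * 𝒜 (j * Finset.univ.lcm deg) := by
  induction j with
  | zero => rw [zero_mul, add_zero, degree_zero_eq_one 𝒜 f deg hdeg hf hgen, mul_one]
  | succ j ih =>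
    rw [add_mul j, one_mul, ← add_assoc, degree_add_lcm 𝒜 f deg hdeg hf hgen _ (hn.trans (Nat.le_add_right _ _))]
    calc 𝒜 (n + j * Finset.univ.lcm deg) * 𝒜 (Finset.univ.lcm deg)
        ≤ 𝒜 n * 𝒜 (j * Finset.univ.lcm deg) * 𝒜 (Finset.univ.lcm deg) := mul_le_mul' ih le_rfl
      _ = 𝒜 n * (𝒜 (j * Finset.univ.lcm deg) * 𝒜 (Finset.univ.lcm deg)) := mul_assoc _ _ _
      _ ≤ _ := mul_le_mul' le_rfl (mul_degree_le 𝒜 _ _)

/-- A fraction with the given denominator, read in the stalk, is a combination of the global sections. -/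
def InSpan (n : ℕ) {t : A} {j : ℕ} (ht : t ∈ 𝒜 j) {x : Proj 𝒜} (hx : x ∈ Proj.basicOpen 𝒜 t) (a : A) : Prop :=
  ∃ ha : a ∈ 𝒜 (n + j), (GrTwist.twist 𝒜 (n : ℤ)).presheaf.germ (Proj.basicOpen 𝒜 t) x hx
      (secOf 𝒜 𝒜 ha ht (n := (n : ℤ)) (fun _ hy => hy) (by push_cast; ring)) ∈
    Submodule.span ((Proj 𝒜).presheaf.stalk x) (Set.range fun b : 𝒜 n =>
      (GrTwist.twist 𝒜 (n : ℤ)).presheaf.germ ⊤ x trivial (globalSec 𝒜 b.2))

theorem inSpan_mul {n : ℕ} {t : A} {j : ℕ} (ht : t ∈ 𝒜 j) {x : Proj 𝒜} (hx : x ∈ Proj.basicOpen 𝒜 t)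
    {b c : A} (hb : b ∈ 𝒜 n) (hc : c ∈ 𝒜 j) : InSpan 𝒜 n ht hx (b * c) := by
  refine ⟨SetLike.mul_mem_graded hb hc, ?_⟩
  have h : secOf 𝒜 𝒜 (SetLike.mul_mem_graded hb hc) ht (n := (n : ℤ)) (fun _ hy => hy) (by push_cast; ring) =
      secFn 𝒜 ht (k := 1) (a := c) (by rwa [one_smul]) •
        (GrTwist.twist 𝒜 (n : ℤ)).presheaf.map (homOfLE (le_top : Proj.basicOpen 𝒜 t ≤ ⊤)).op (globalSec 𝒜 hb) := by
    refine sval_ext 𝒜 𝒜 fun y => ?_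
    erw [sval_smul, fval_secFn]
    change (Localization.mk (b * c) ⟨t, _⟩ : GrTwist.Loc 𝒜 y.1) = Localization.mk c ⟨t ^ 1, _⟩ * Localization.mk b ⟨1, _⟩
    rw [Localization.mk_mul]
    exact Localization.mk_eq_mk_iff.2 (Localization.r_iff_exists.2 ⟨1, by simp [mul_comm b c]⟩)
  rw [h]
  erw [H06Mod.germ_smul, TopCat.Presheaf.germ_res_apply]
  exact Submodule.smul_mem _ _ (Submodule.subset_span ⟨⟨b, hb⟩, rfl⟩)

theorem inSpan_add {n : ℕ} {t : A} {j : ℕ} (ht : t ∈ 𝒜 j) {x : Proj 𝒜} (hx : x ∈ Proj.basicOpen 𝒜 t)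
    {a a' : A} (h : InSpan 𝒜 n ht hx a) (h' : InSpan 𝒜 n ht hx a') : InSpan 𝒜 n ht hx (a + a') := by
  obtain ⟨ha, h⟩ := h
  obtain ⟨ha', h'⟩ := h'
  refine ⟨add_mem ha ha', ?_⟩
  let z : Γ(GrTwist.twist 𝒜 (n : ℤ), Proj.basicOpen 𝒜 t) :=
    secOf 𝒜 𝒜 ha ht (n := (n : ℤ)) (fun _ hy => hy) (by push_cast; ring)
  let z' : Γ(GrTwist.twist 𝒜 (n : ℤ), Proj.basicOpen 𝒜 t) :=
    secOf 𝒜 𝒜 ha' ht (n := (n : ℤ)) (fun _ hy => hy) (by push_cast; ring)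
  have e : (show Γ(GrTwist.twist 𝒜 (n : ℤ), Proj.basicOpen 𝒜 t) from
      secOf 𝒜 𝒜 (add_mem ha ha') ht (n := (n : ℤ)) (fun _ hy => hy) (by push_cast; ring)) = z + z' := by
    refine sval_ext 𝒜 𝒜 fun y => ?_
    exact (Localization.add_mk_self a (⟨t, y.2⟩ : y.1.asHomogeneousIdeal.toIdeal.primeCompl) a').symm
  refine (congrArg (fun w => (GrTwist.twist 𝒜 (n : ℤ)).presheaf.germ (Proj.basicOpen 𝒜 t) x hx w) e ▸ ?_)
  rw [map_add]
  exact add_mem h h'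

theorem generatedBy_of_ge (hdeg : ∀ i, 0 < deg i) (hf : ∀ i, f i ∈ 𝒜 (deg i))
    (hgen : Algebra.adjoin R (Set.range f) = ⊤) (n : ℕ) (hn : (s - 1) * (Finset.univ.lcm deg - 1) ≤ n) :
    ProjUP.GeneratedBy (Twist.twist 𝒜 (n : ℤ))
      (fun b : 𝒜 n => (Twist.globalOf 𝒜 b : ProjUP.Γm (Twist.twist 𝒜 (n : ℤ)))) := by
  intro x
  refine eq_top_iff.2 fun m _ => ?_
  let l := Finset.univ.lcm deg
  let T := GrTwist.twist 𝒜 (n : ℤ)
  obtain ⟨W, hxW, σ, rfl⟩ := T.presheaf.germ_exist (x := x) m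
  obtain ⟨W', hxW', iW, i, j, ⟨a, ha⟩, ⟨t, ht⟩, tnin, hd, hw⟩ :=
    (show GrMod.sect 𝒜 𝒜 (n : ℤ) (op W) from σ).2 ⟨x, hxW⟩
  replace hd : (i : ℤ) = j + n ∨ a = 0 := hd
  have hl : 0 < l := lcm_pos deg hdeg
  let t' := t ^ l
  let a' := a * t ^ (l - 1)
  have ht' : t' ∈ 𝒜 (j * l) := by simpa [mul_comm] using SetLike.pow_mem_graded l ht
  have ha' : a' ∈ 𝒜 (n + j * l) := by
    rcases hd with hd | hd
    · have hi : i = j + n := by omega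
      have h1 := SetLike.mul_mem_graded ha (SetLike.pow_mem_graded (l - 1) ht)
      rw [smul_eq_mul, hi] at h1
      convert h1 using 2
      obtain ⟨l', hl'⟩ : ∃ l', l = l' + 1 := ⟨l - 1, by omega⟩
      rw [hl', Nat.add_sub_cancel]
      ring
    · simp [a', hd]
  have hxt' : x ∈ Proj.basicOpen 𝒜 t' := pow_notMem 𝒜 (tnin ⟨x, hxW'⟩) l
  have hspan : InSpan 𝒜 n ht' hxt' a' := by
    have key : ∀ y ∈ 𝒜 n * 𝒜 (j * l), InSpan 𝒜 n ht' hxt' y := fun y hy => by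
      induction hy using Submodule.mul_induction_on' with
      | mem_mul_mem b hb c hc => exact inSpan_mul 𝒜 ht' hxt' hb hc
      | add b _ c _ h h' => exact inSpan_add 𝒜 ht' hxt' h h'
    exact key a' (degree_add_mul_lcm_le 𝒜 f deg hdeg hf hgen n hn j ha')
  obtain ⟨_, h⟩ := hspan
  let V := W' ⊓ Proj.basicOpen 𝒜 t'
  have key : T.presheaf.map (homOfLE (inf_le_left.trans iW.le : V ≤ W)).op σ =
      T.presheaf.map (homOfLE (inf_le_right : V ≤ Proj.basicOpen 𝒜 t')).op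
        (secOf 𝒜 𝒜 ha' ht' (n := (n : ℤ)) (fun _ hy => hy) (by push_cast; ring)) := by
    refine sval_ext 𝒜 𝒜 fun y => ?_
    refine (hw ⟨y.1, y.2.1⟩).trans ?_
    change (Localization.mk a ⟨t, _⟩ : GrTwist.Loc 𝒜 y.1) = Localization.mk a' ⟨t', _⟩
    refine Localization.mk_eq_mk_iff.2 (Localization.r_iff_exists.2 ⟨1, ?_⟩)
    obtain ⟨l', hl'⟩ : ∃ l', l = l' + 1 := ⟨l - 1, by omega⟩
    simp only [OneMemClass.coe_one, one_mul, a', t', hl', Nat.add_sub_cancel, pow_succ]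
    ring
  have key' := congrArg (fun z => T.presheaf.germ V x ⟨hxW', hxt'⟩ z) key
  have key'' := ((TopCat.Presheaf.germ_res_apply T.presheaf
    (homOfLE (inf_le_left.trans iW.le : V ≤ W)) x ⟨hxW', hxt'⟩ σ).symm.trans key').trans
    (TopCat.Presheaf.germ_res_apply T.presheaf (homOfLE (inf_le_right : V ≤ Proj.basicOpen 𝒜 t')) x ⟨hxW', hxt'⟩ _)
  refine Set.mem_of_eq_of_mem key'' (Submodule.span_mono ?_ h)
  rintro _ ⟨b, rfl⟩
  exact ⟨b, congrArg (fun z => T.presheaf.germ ⊤ x trivial z) (globalOf_eq 𝒜 b)⟩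

end Groth.Agent.H22Alg.ProjVeronese
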