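import Groth.Agent.H11QMap.RelAmpleQ
import Groth.Agent.H11QMap.Compare

/-! # The canonical map to the homogeneous spectrum of all global sections is scheme-theoretically dominant. -/

set_option autoImplicit false
set_option linter.style.haveILetI false

noncomputable section

universe u

open CategoryTheory CategoryTheory.Limits AlgebraicGeometry TopologicalSpace Opposite RelProj
open HomogeneousLocalization
open scoped HomogeneousIdeal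
open Groth.Agent.H11Sym Groth.Agent.H11Tilde Groth.Agent.H11Ample

namespace Groth.Agent.H22Alg.QMapSTD

theorem map_section_eq_zero {R S : CommRingCat.{u}} {D P : Scheme.{u}} (φ : R ⟶ S) (J : Spec R ⟶ P) (c : Spec S ⟶ D)
    (r : D ⟶ P) (hfac : c ≫ r = Spec.map φ ≫ J) (U : P.Opens) (e₀ : (⊤ : (Spec R).Opens) ≤ J ⁻¹ᵁ U)
    (x : Γ(P, U)) (hx : r.app U x = 0) :
    φ ((Scheme.ΓSpecIso R).hom (J.appLE U ⊤ e₀ x)) = 0 := by
  have h1 : (⊤ : (Spec S).Opens) ≤ (Spec.map φ) ⁻¹ᵁ (⊤ : (Spec R).Opens) := fun _ _ => trivial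
  have h2 : (⊤ : (Spec S).Opens) ≤ (c ≫ r) ⁻¹ᵁ U := by
    rw [hfac, Scheme.Hom.comp_preimage]
    exact fun y hy => e₀ (h1 hy)
  have h3 : (c ≫ r).appLE U ⊤ h2 x = 0 := by
    rw [← Scheme.Hom.appLE_comp_appLE _ _ U (r ⁻¹ᵁ U) ⊤ le_rfl h2, CommRingCat.comp_apply,
      ← Scheme.Hom.app_eq_appLE, hx, map_zero]
  have h5 : (Spec.map φ).appTop (J.appLE U ⊤ e₀ x) = 0 := by
    rw [← h3]
    simp only [hfac]
    rw [← Scheme.Hom.appLE_comp_appLE _ _ U ⊤ ⊤ e₀ h1, CommRingCat.comp_apply]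
    exact ConcreteCategory.congr_hom (Scheme.Hom.app_eq_appLE (Spec.map φ)) (J.appLE U ⊤ e₀ x)
  have h6 := ConcreteCategory.congr_hom (Scheme.ΓSpecIso_naturality φ) (J.appLE U ⊤ e₀ x)
  rw [CommRingCat.comp_apply, CommRingCat.comp_apply, h5, map_zero] at h6
  exact h6.symm

theorem section_injective {R : CommRingCat.{u}} {P : Scheme.{u}} (J : Spec R ⟶ P) [IsOpenImmersion J]
    (e₀ : (⊤ : (Spec R).Opens) ≤ J ⁻¹ᵁ (J ''ᵁ ⊤)) (x : Γ(P, J ''ᵁ ⊤))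
    (hx : (Scheme.ΓSpecIso R).hom (J.appLE (J ''ᵁ ⊤) ⊤ e₀ x) = 0) : x = 0 := by
  have h0 : (J.appIso ⊤).hom x = 0 := by
    rw [J.appIso_hom' ⊤]
    exact (ConcreteCategory.bijective_of_isIso (Scheme.ΓSpecIso R).hom).1 (hx.trans (map_zero _).symm)
  exact (ConcreteCategory.bijective_of_isIso (J.appIso ⊤).hom).1 (h0.trans (map_zero _).symm)

theorem isSchemeTheoreticallyDominant_qmap {X Y P PL : Scheme.{u}} [CompactSpace X] {q : X ⟶ Y}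
    {𝒮 : QCGrAlg Y} {𝒮L : QCGrAlg X} (u : QGrHom q 𝒮 𝒮L)
    {p : P ⟶ Y} {chart : ∀ (U : Y.Opens) (hU : IsAffineOpen U), (((p ⁻¹ᵁ U : P.Opens) : Scheme.{u}) ≅ Proj (𝒮.deg U hU))}
    {pL : PL ⟶ X}
    {chartL : ∀ (U : X.Opens) (hU : IsAffineOpen U), (((pL ⁻¹ᵁ U : PL.Opens) : Scheme.{u}) ≅ Proj (𝒮L.deg U hU))}
    (hY : IsAffineOpen (⊤ : Y.Opens)) (hinj : Function.Injective (u.app ⊤).hom)
    {r : ((domQ u pL chartL : PL.Opens) : Scheme.{u}) ⟶ P} [QuasiCompact r]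
    (hr : IsProjQMapOn u p chart pL chartL (domQ u pL chartL) r) :
    IsSchemeTheoreticallyDominant r := by
  let ι := Σ' (d : ℕ) (_ : 0 < d) (b : 𝒮.presheaf.obj (op ⊤)), b ∈ 𝒮.deg ⊤ hY d
  let j : ∀ i : ι, Spec (CommRingCat.of (Away (𝒮.deg ⊤ hY) i.2.2.1)) ⟶ P := fun i =>
    Proj.awayι (𝒮.deg ⊤ hY) i.2.2.1 i.2.2.2 i.2.1 ≫ emb p chart ⊤ hY
  have hU : ∀ i : ι, IsAffineOpen (j i ''ᵁ ⊤) := fun i => (isAffineOpen_top _).image_of_isOpenImmersion _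
  refine ⟨Scheme.IdealSheafData.ext_of_iSup_eq_top (fun i : ι => ⟨j i ''ᵁ ⊤, hU i⟩)
    (eq_top_iff.2 fun z _ => ?_) fun i => ?_⟩
  · obtain ⟨v, hv⟩ := H11QMap.exists_emb_eq (chart := chart) hY (z := z) trivial
    obtain ⟨d, hd, b, hb, hvb, -⟩ := H11QMap.exists_basicOpen_subset isOpen_univ (Set.mem_univ v)
    refine Opens.mem_iSup.2 ⟨⟨d, hd, b, hb⟩, ?_⟩
    rw [← Proj.opensRange_awayι _ b hb hd] at hvb
    obtain ⟨t, ht⟩ := hvb
    refine ⟨t, trivial, ?_⟩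
    refine (Scheme.Hom.comp_apply _ _ t).trans ?_
    exact (congrArg _ ht).trans hv
  refine le_antisymm (fun x hx0 => ?_) bot_le
  have hx : r.app (j i ''ᵁ ⊤) x = 0 :=
    RingHom.mem_ker.1 ((Scheme.Hom.ker_apply r ⟨j i ''ᵁ ⊤, hU i⟩).le hx0)
  obtain ⟨d, hd, b, hb⟩ := i
  have e₀ : (⊤ : Scheme.Opens _) ≤ (j ⟨d, hd, b, hb⟩) ⁻¹ᵁ ((j ⟨d, hd, b, hb⟩) ''ᵁ ⊤) :=
    (Scheme.Hom.preimage_image_eq _ ⊤).ge
  let z : Away (𝒮.deg ⊤ hY) b :=
    (Scheme.ΓSpecIso _).hom ((j ⟨d, hd, b, hb⟩).appLE ((j ⟨d, hd, b, hb⟩) ''ᵁ ⊤) ⊤ e₀ x)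
  suffices hz : z = 0 by
    rw [section_injective _ e₀ x hz]
    exact zero_mem _
  obtain ⟨m, a, ha, hza⟩ := Away.mk_surjective (𝒮.deg ⊤ hY) hb z
  have hker : ∀ V : X.affineOpens, ∃ N : ℕ, ∀ N', N ≤ N' →
      (u.appLE ⊤ V.1 (fun _ _ => trivial)).hom (b ^ N' * a) = 0 := by
    intro V
    let i : H11QMap.Idx u := ⟨⟨⊤, hY⟩, V, fun _ _ => trivial, d, hd, b, hb⟩
    let φ := Away.map (u.gradedAt ⊤ hY V.1 V.2 (fun _ _ => trivial)) b
    have h4 : φ z = 0 := map_section_eq_zero (CommRingCat.ofHom φ) (j ⟨d, hd, b, hb⟩) (H11QMap.lchart u chartL i) r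
      ((H11QMap.isProjQMapOn_iff u chart chartL r).1 hr i) _ e₀ x hx
    rw [← hza] at h4
    have h7 := congrArg HomogeneousLocalization.val
      ((Away.map_mk (u.gradedAt ⊤ hY V.1 V.2 (fun _ _ => trivial)) b hb m a ha).symm.trans h4)
    rw [Away.val_mk, val_zero, H11Proj.mk_eq_zero_iff_exists_pow] at h7
    obtain ⟨N, hN⟩ := h7
    refine ⟨N, fun N' hN' => ?_⟩
    rw [map_mul, map_pow, ← Nat.sub_add_cancel hN', pow_add, mul_assoc]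
    exact (congrArg (_ * ·) hN).trans (mul_zero _)
  choose N hN using hker
  obtain ⟨F, hF⟩ := isCompact_univ.elim_finite_subcover (fun V : X.affineOpens => (V.1 : Set X))
    (fun V => V.1.2) (fun y _ => Set.mem_iUnion.2 (by
      obtain ⟨V, hV, hyV, -⟩ := exists_isAffineOpen_mem_and_subset (U := (⊤ : X.Opens)) (x := y) trivial
      exact ⟨⟨V, hV⟩, hyV⟩))
  have hzero : b ^ F.sup N * a = 0 := hinj (by
    rw [map_zero]
    refine TopCat.Sheaf.eq_of_locally_eq' (⟨𝒮L.presheaf, 𝒮L.isSheaf⟩ : TopCat.Sheaf CommRingCat.{u} X)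
      (fun V : {V // V ∈ F} => V.1.1) (q ⁻¹ᵁ ⊤) (fun V => homOfLE fun _ _ => trivial) (fun y _ => ?_) _ _ fun V => ?_
    · obtain ⟨V, hV, hyV⟩ := Set.mem_iUnion₂.1 (hF (Set.mem_univ y))
      exact Opens.mem_iSup.2 ⟨⟨V, hV⟩, hyV⟩
    · exact (hN V.1 _ (Finset.le_sup V.2)).trans (map_zero _).symm)
  rw [← hza]
  apply HomogeneousLocalization.val_injective
  rw [Away.val_mk, val_zero, H11Proj.mk_eq_zero_iff_exists_pow]
  exact ⟨_, hzero⟩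

end Groth.Agent.H22Alg.QMapSTD
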