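import Groth.Agent.H18Quot.Categorical
import Groth.Agent.H18Quot.Affine
import Groth.Agent.H27SymProd.Decomp
import Groth.Agent.S13606
import Mathlib

/-!
# Quotients by finite groups: stable opens, equivariant open immersions, the affine case
-/

set_option autoImplicit false
set_option linter.style.haveILetI false
universe u

open CategoryTheory AlgebraicGeometry

namespace Groth.Agent.H22Alg.QuotDescOpen

variable {X X' Y Y' : Scheme.{u}} {G : Type u} [Group G] [Finite G] {ρ : G →* Aut X} {p : X ⟶ Y}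
  {ρ' : G →* Aut X'} {p' : X' ⟶ Y'}

/-- A stable open is the preimage of an open of the quotient. -/
theorem exists_preimage_eq (hp : SGA1.IsQuot ρ p) (E : X.Opens)
    (hE : ∀ g : G, ∀ x ∈ E, (ρ g).hom x ∈ E) : ∃ W : Y.Opens, p ⁻¹ᵁ W = E := by
  haveI := _root_.H18Quot.isIntegralHom hp
  refine ⟨⟨(p '' (E : Set X)ᶜ)ᶜ, (p.isClosedMap _ E.isOpen.isClosed_compl).isOpen_compl⟩, ?_⟩
  refine SetLike.ext fun x => ⟨fun hx => ?_, ?_⟩
  · by_contra hne
    exact hx ⟨x, hne, rfl⟩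
  · rintro hx ⟨z, hz, e⟩
    obtain ⟨g, hg⟩ := _root_.H18Quot.exists_smul_eq hp e.symm
    exact hz (hg ▸ hE g x hx)

/-- An equivariant open immersion induces an open immersion of quotients. -/
theorem isOpenImmersion_desc (hp : SGA1.IsQuot ρ p) (hp' : SGA1.IsQuot ρ' p') (s : X ⟶ X')
    [IsOpenImmersion s] (hs : ∀ g, (ρ g).hom ≫ s = s ≫ (ρ' g).hom) (b : Y ⟶ Y')
    (hb : p ≫ b = s ≫ p') : IsOpenImmersion b := by
  obtain ⟨W, hW⟩ := exists_preimage_eq hp' s.opensRange (by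
    rintro g _ ⟨x, rfl⟩
    exact ⟨(ρ g).hom x, congr($(hs g) x)⟩)
  obtain ⟨ρU, hρU⟩ := H27SymProd.exists_restrict ρ' (p' ⁻¹ᵁ W) (fun g x hx => by
    show p' ((ρ' g).hom x) ∈ W
    rw [← Scheme.Hom.comp_apply, hp'.inv]
    exact hx)
  have hres := S13606.result ρ' p' hp' W ρU hρU
  let ψ : X ⟶ (p' ⁻¹ᵁ W).toScheme := IsOpenImmersion.lift (p' ⁻¹ᵁ W).ι s (by
    rw [Scheme.Opens.range_ι, hW]
    rfl)
  have hψ : ψ ≫ (p' ⁻¹ᵁ W).ι = s := IsOpenImmersion.lift_fac _ _ _
  haveI : IsIso ψ := by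
    haveI : IsOpenImmersion (ψ ≫ (p' ⁻¹ᵁ W).ι) := by rw [hψ]; infer_instance
    haveI : IsOpenImmersion ψ := IsOpenImmersion.of_comp _ (p' ⁻¹ᵁ W).ι
    haveI : Surjective ψ := ⟨fun z => by
      have hz : (p' ⁻¹ᵁ W).ι z ∈ s.opensRange := hW ▸ z.2
      obtain ⟨x, hx⟩ := hz
      exact ⟨x, (p' ⁻¹ᵁ W).ι.isOpenEmbedding.injective (by
        rw [← Scheme.Hom.comp_apply, hψ]; exact hx)⟩⟩
    exact (isIso_iff_isOpenImmersion_and_surjective ψ).mpr ⟨inferInstance, inferInstance⟩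
  have hψg : ∀ g, (ρ g).hom ≫ ψ = ψ ≫ (ρU g).hom := fun g => by
    rw [← cancel_mono (p' ⁻¹ᵁ W).ι, Category.assoc, hψ, hs, Category.assoc, hρU, reassoc_of% hψ]
  obtain ⟨e, he⟩ := _root_.H18Quot.exists_desc (ψ ≫ p' ∣_ W) (fun g => by
    rw [reassoc_of% hψg g, hres.inv g]) hp
  obtain ⟨e', he'⟩ := _root_.H18Quot.exists_desc (inv ψ ≫ p) (fun g => by
    have : (ρU g).hom ≫ inv ψ = inv ψ ≫ (ρ g).hom := by
      rw [IsIso.comp_inv_eq, Category.assoc, hψg, IsIso.inv_hom_id_assoc]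
    rw [reassoc_of% this, hp.inv]) hres
  haveI := H27Quot.epi hp
  haveI := H27Quot.epi hres
  haveI : IsIso e := ⟨e', by
      rw [← cancel_epi p, reassoc_of% he, he', IsIso.hom_inv_id_assoc, Category.comp_id], by
      rw [← cancel_epi (p' ∣_ W), reassoc_of% he', he, IsIso.inv_hom_id_assoc, Category.comp_id]⟩
  have hbe : b = e ≫ W.ι := by
    rw [← cancel_epi p, hb, reassoc_of% he, morphismRestrict_ι, reassoc_of% hψ]
  rw [hbe]
  infer_instance

section Affine

variable (ρ)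

/-- The invariant global functions. -/
noncomputable def invs : Subring Γ(X, ⊤) where
  carrier := {a | ∀ g : G, (ρ g).hom.appTop.hom a = a}
  mul_mem' ha hb g := by rw [map_mul, ha g, hb g]
  one_mem' g := map_one _
  add_mem' ha hb g := by rw [map_add, ha g, hb g]
  zero_mem' g := map_zero _
  neg_mem' ha g := by rw [map_neg, ha g]

/-- The quotient map of an affine scheme. -/
noncomputable def proj : X ⟶ Spec (CommRingCat.of (invs ρ)) :=
  X.toSpecΓ ≫ Spec.map (CommRingCat.ofHom (invs ρ).subtype)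

theorem isQuot_proj [IsAffine X] : SGA1.IsQuot ρ (proj ρ) := by
  haveI : IsAffineHom (proj ρ) := isAffineHom_of_isAffine _
  have happ : (proj ρ).appTop =
      (Scheme.ΓSpecIso (CommRingCat.of (invs ρ))).hom ≫ CommRingCat.ofHom (invs ρ).subtype := by
    erw [Scheme.Hom.comp_appTop, Scheme.toSpecΓ_appTop]
    exact Scheme.ΓSpecIso_naturality _
  have hinv : ∀ g : G, (ρ g).hom ≫ proj ρ = proj ρ := fun g => by
    rw [proj, Scheme.toSpecΓ_naturality_assoc]
    refine congrArg (X.toSpecΓ ≫ ·) ((Spec.map_comp _ _).symm.trans (congrArg Spec.map ?_))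
    exact CommRingCat.hom_ext (RingHom.ext fun a => a.2 g)
  refine _root_.H18Quot.isQuot_of_isAffine _ _ hinv (fun a b hab => ?_) fun s hs => ?_
  · have h := hab
    rw [show (proj ρ).app ⊤ = (proj ρ).appTop from rfl, happ] at h
    exact (ConcreteCategory.bijective_of_isIso (Scheme.ΓSpecIso (CommRingCat.of (invs ρ))).hom).injective
      (Subtype.ext h)
  · have hs' : (s : Γ(X, ⊤)) ∈ invs ρ := fun g => by
      have h := hs g
      simp only [Scheme.Hom.appLE] at h
      erw [CategoryTheory.Functor.map_id, Category.comp_id] at h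
      exact h
    refine ⟨(Scheme.ΓSpecIso (CommRingCat.of (invs ρ))).inv.hom ⟨s, hs'⟩, ?_⟩
    rw [show (proj ρ).app ⊤ = (proj ρ).appTop from rfl, happ]
    exact congrArg Subtype.val
      ((Scheme.ΓSpecIso (CommRingCat.of (invs ρ))).commRingCatIsoToRingEquiv.apply_symm_apply ⟨s, hs'⟩)

end Affine

end Groth.Agent.H22Alg.QuotDescOpen
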