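import Groth.Agent.H18Quot.Exists
import Groth.Agent.S2909
import Groth.Agent.H27Quot.Basic
import Groth.Agent.H11Norm.Line
import Groth.Agent.H11Ample.RelAmple
import Groth.Agent.H11Proj.QProjCriterion
import Groth.Agent.H11Proj.ProjectiveProps

/-! # Quotients of quasi-projective schemes by finite groups (EGA II 6.5 norm, SGA 1 V 1.8). -/

set_option autoImplicit false
set_option linter.style.haveILetI false

noncomputable section

universe u

open CategoryTheory CategoryTheory.Limits AlgebraicGeometry TopologicalSpace Opposite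

namespace Groth.Agent.H22Alg.QuotNorm

variable {X Y S : Scheme.{u}} {G : Type u} [Group G] [Finite G] {ρ : G →* Aut X} {q : X ⟶ Y}

/-- The action on sections over the preimage of an open of the quotient. -/
def act (hq : SGA1.IsQuot ρ q) (U : Y.Opens) (σ : G) : Γ(X, q ⁻¹ᵁ U) →+* Γ(X, q ⁻¹ᵁ U) :=
  ((ρ σ).hom.appLE (q ⁻¹ᵁ U) (q ⁻¹ᵁ U) (SGA1.preimage_le_of_inv ρ q hq.inv σ U)).hom

theorem act_one (hq : SGA1.IsQuot ρ q) (U : Y.Opens) (a : Γ(X, q ⁻¹ᵁ U)) : act hq U 1 a = a := by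
  have h : ∀ (φ : X ⟶ X) (hle : q ⁻¹ᵁ U ≤ φ ⁻¹ᵁ (q ⁻¹ᵁ U)), φ = 𝟙 X →
      (φ.appLE (q ⁻¹ᵁ U) (q ⁻¹ᵁ U) hle).hom a = a := by
    rintro φ hle rfl
    simp only [Scheme.Hom.appLE, Scheme.Hom.id_app]
    erw [CategoryTheory.Functor.map_id, Category.comp_id]
    rfl
  exact h _ _ (_root_.H18Quot.rho_one ρ)

theorem act_mul (hq : SGA1.IsQuot ρ q) (U : Y.Opens) (σ τ : G) (a : Γ(X, q ⁻¹ᵁ U)) :
    act hq U τ (act hq U σ a) = act hq U (σ * τ) a := by
  have e := congr($(Scheme.Hom.appLE_comp_appLE (ρ τ).hom (ρ σ).hom (q ⁻¹ᵁ U) (q ⁻¹ᵁ U) (q ⁻¹ᵁ U)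
    (SGA1.preimage_le_of_inv ρ q hq.inv σ U) (SGA1.preimage_le_of_inv ρ q hq.inv τ U)) a)
  refine e.trans ?_
  have h : ∀ (φ : X ⟶ X) (hle : q ⁻¹ᵁ U ≤ φ ⁻¹ᵁ (q ⁻¹ᵁ U)), φ = (ρ (σ * τ)).hom →
      (φ.appLE (q ⁻¹ᵁ U) (q ⁻¹ᵁ U) hle).hom a = act hq U (σ * τ) a := by
    rintro φ hle rfl
    rfl
  exact h _ _ (_root_.H18Quot.rho_mul ρ σ τ).symm

theorem act_res (hq : SGA1.IsQuot ρ q) {U V : Y.Opens} (h : V ≤ U) (σ : G) (a : Γ(X, q ⁻¹ᵁ U)) :
    X.presheaf.map (homOfLE (q.preimage_mono h)).op (act hq U σ a) =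
      act hq V σ (X.presheaf.map (homOfLE (q.preimage_mono h)).op a) := by
  simp only [act, ← ConcreteCategory.comp_apply]
  change ((ρ σ).hom.appLE _ _ _ ≫ X.presheaf.map _).hom a = (X.presheaf.map _ ≫ (ρ σ).hom.appLE _ _ _).hom a
  rw [Scheme.Hom.appLE_map, Scheme.Hom.map_appLE]

/-- The product of the conjugates of a function. -/
def orbitProd (hq : SGA1.IsQuot ρ q) (U : Y.Opens) (a : Γ(X, q ⁻¹ᵁ U)) : Γ(X, q ⁻¹ᵁ U) :=
  letI := Fintype.ofFinite G
  ∏ σ : G, act hq U σ a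

theorem orbitProd_mem_range (hq : SGA1.IsQuot ρ q) (U : Y.Opens) (a : Γ(X, q ⁻¹ᵁ U)) :
    orbitProd hq U a ∈ Set.range (q.app U).hom := by
  letI := Fintype.ofFinite G
  refine (hq.range_iff U _).2 fun τ => ?_
  show act hq U τ (orbitProd hq U a) = orbitProd hq U a
  rw [orbitProd, map_prod]
  simp only [act_mul]
  exact Fintype.prod_equiv (Equiv.mulRight τ) _ _ fun σ => rfl

/-- The norm of the quotient map. -/
def normMul (hq : SGA1.IsQuot ρ q) : H11Norm.NormMul q where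
  N U a := (orbitProd_mem_range hq U a).choose
  map_one U := by
    refine hq.injective U ?_
    rw [(orbitProd_mem_range hq U 1).choose_spec, map_one]
    simp [orbitProd]
  map_mul U a b := by
    refine hq.injective U ?_
    rw [map_mul, (orbitProd_mem_range hq U (a * b)).choose_spec, (orbitProd_mem_range hq U a).choose_spec,
      (orbitProd_mem_range hq U b).choose_spec]
    simp [orbitProd, Finset.prod_mul_distrib]
  natural U V h a := by
    refine hq.injective V ?_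
    rw [(orbitProd_mem_range hq V _).choose_spec]
    have e := congr($(q.naturality (homOfLE h).op) (orbitProd_mem_range hq U a).choose)
    refine e.trans ?_
    show X.presheaf.map (homOfLE (q.preimage_mono h)).op ((q.app U).hom (orbitProd_mem_range hq U a).choose) = _
    rw [(orbitProd_mem_range hq U a).choose_spec, orbitProd, map_prod, orbitProd]
    exact Finset.prod_congr rfl fun σ _ => act_res hq h σ a
  reflects U a x hx := by
    letI := Fintype.ofFinite G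
    obtain ⟨z, rfl⟩ := (H27Quot.surjective hq) x
    refine ⟨z, rfl, ?_⟩
    have hzU : q z ∈ U := Y.basicOpen_le _ hx
    have h1 : z ∈ q ⁻¹ᵁ Y.basicOpen (orbitProd_mem_range hq U a).choose := hx
    rw [Scheme.preimage_basicOpen, (orbitProd_mem_range hq U a).choose_spec, X.mem_basicOpen _ z hzU,
      orbitProd, map_prod, IsUnit.prod_univ_iff] at h1
    have h2 := h1 1
    rw [act_one] at h2
    exact (X.mem_basicOpen _ z hzU).2 h2

/-- Each orbit lies in an affine open when some invertible module is relatively ample. -/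
theorem exists_affine_orbit (f : X ⟶ S) (hρ : ∀ σ : G, (ρ σ).hom ≫ f = f) {L : X.Modules}
    (hL : RelAmple.IsRelAmple f L) (x : X) :
    ∃ U : X.Opens, IsAffineOpen U ∧ ∀ g : G, (ρ g).hom x ∈ U := by
  obtain ⟨B, hB, hxB⟩ := H11Ample.exists_isAffineOpen_mem (f x)
  let W := f ⁻¹ᵁ B
  have hA := (H11Ample.isRelAmple_iff.1 hL).2 B hB
  haveI : CompactSpace W.toScheme := H11Ample.compactSpace_of_isAmple hA
  haveI : QuasiSeparatedSpace W.toScheme := H11Ample.quasiSeparatedSpace_of_isAmple hA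
  have hmem : ∀ g : G, (ρ g).hom x ∈ W := fun g => by
    show f ((ρ g).hom x) ∈ B
    rw [← Scheme.Hom.comp_apply, hρ g]
    exact hxB
  obtain ⟨k, t, -, hZ, -, ht⟩ := H11Ample.exists_affine_gen_nhd_finite hA
    (Z := Set.range fun g : G => (⟨(ρ g).hom x, hmem g⟩ : W.toScheme)) (Set.finite_range _)
    (U := ⊤) (fun _ _ => trivial)
  exact ⟨_, ht.image_of_isOpenImmersion W.ι, fun g => ⟨⟨_, hmem g⟩, hZ ⟨g, rfl⟩, rfl⟩⟩

theorem exists_quotient_isQuasiProjective (f : X ⟶ S) [IsNoetherian S] (ρ : G →* Aut X)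
    (hρ : ∀ σ : G, (ρ σ).hom ≫ f = f) (hf : RelProj.IsQuasiProjective f) :
    ∃ (Y : Scheme.{u}) (q : X ⟶ Y) (h : Y ⟶ S), q ≫ h = f ∧ SGA1.IsQuot ρ q ∧
      RelProj.IsQuasiProjective h ∧ (IsProper f → IsProper h) := by
  obtain ⟨hlft, hqc, L, hL⟩ := hf
  obtain ⟨Y, q, hq⟩ := _root_.H18Quot.Exists.exists_quotient ρ (exists_affine_orbit f hρ hL)
  obtain ⟨h, hqh⟩ := _root_.H18Quot.exists_desc f hρ hq
  obtain ⟨-, hsep, hfin, hft⟩ := S2909.result ρ q hq f h hqh hρ
  haveI := hfin hlft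
  obtain ⟨hh1, hh2⟩ := hft inferInstance hlft hqc
  haveI := hh1
  haveI := hh2
  refine ⟨Y, q, h, hqh, hq, ?_, fun hp => ?_⟩
  · rw [← hqh] at hL
    obtain ⟨M, -, hM⟩ := H11Norm.exists_isRelAmple_of_normMul h (normMul hq) hL
    exact ⟨inferInstance, inferInstance, M, hM⟩
  · haveI : IsSeparated h := hsep.1 inferInstance
    haveI : UniversallyClosed (q ≫ h) := hqh ▸ inferInstance
    haveI : Surjective q := ⟨H27Quot.surjective hq⟩
    haveI : UniversallyClosed h := UniversallyClosed.of_comp_surjective q h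
    exact {}

theorem exists_quotient_isProjective (f : X ⟶ S) [IsNoetherian S] (ρ : G →* Aut X)
    (hρ : ∀ σ : G, (ρ σ).hom ≫ f = f) (hf : RelProj.IsProjective f) :
    ∃ (Y : Scheme.{u}) (q : X ⟶ Y) (h : Y ⟶ S), q ≫ h = f ∧ SGA1.IsQuot ρ q ∧ RelProj.IsProjective h := by
  obtain ⟨Y, q, h, hqh, hq, hqp, hp⟩ :=
    exists_quotient_isQuasiProjective f ρ hρ (H11Proj.isQuasiProjective_of_isProjective hf)
  haveI := hp (H11Proj.isProper_of_isProjective hf)
  exact ⟨Y, q, h, hqh, hq, H11Proj.isProjective_of_isQuasiProjective_qcqs hqp⟩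

end Groth.Agent.H22Alg.QuotNorm
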