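import Groth.Agent.H18Quot.Categorical
import Groth.Agent.H27Quot.Points
import Groth.Agent.H27Perf.Cancel
import Mathlib

/-!
# Comparison maps between quotients by finite groups are universal homeomorphisms
-/

set_option autoImplicit false
set_option linter.style.haveILetI false
universe u

open CategoryTheory CategoryTheory.Limits AlgebraicGeometry

namespace Groth.Agent.H22Alg.QuotUnivHomeo

variable {X Y W WG : Scheme.{u}} {G : Type u} [Group G] [Finite G] {ρ : G →* Aut X} {p : X ⟶ Y}
  {ρW : G →* Aut W} {pW : W ⟶ WG}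

/-- A map of quotients is universally injective when pairs of points of the source agree as soon as they agree in
the target and in an auxiliary invariant coordinate. -/
theorem universallyInjective_of_joint (hPW : SGA1.IsQuot ρW pW) (hP : SGA1.IsQuot ρ p) (j : W ⟶ X)
    {A Z : Scheme.{u}} (t : W ⟶ A) (hjt : ∀ {T : Scheme.{u}} (a b : T ⟶ W), a ≫ j = b ≫ j → a ≫ t = b ≫ t → a = b)
    (hρW : ∀ g, (ρW g).hom ≫ j = j ≫ (ρ g).hom) (hρt : ∀ g, (ρW g).hom ≫ t = t)
    (φ : WG ⟶ Z) (u : Z ⟶ Y) (v : Z ⟶ A) (hu : pW ≫ φ ≫ u = j ≫ p) (hv : pW ≫ φ ≫ v = t) :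
    UniversallyInjective φ := by
  refine ((tfae_universallyInjective φ).out 0 1).mpr ?_
  intro K _ y₁ y₂ he
  let L := AlgebraicClosure K
  let e : Spec (CommRingCat.of L) ⟶ Spec (CommRingCat.of K) := Spec.map (CommRingCat.ofHom (algebraMap K L))
  haveI : Epi e := by
    haveI : Flat e := by
      rw [HasRingHomProperty.Spec_iff (P := @Flat)]
      exact RingHom.flat_algebraMap_iff.mpr inferInstance
    haveI : Surjective e := ⟨fun z => ⟨IsLocalRing.closedPoint L, Subsingleton.elim (α := PrimeSpectrum K) _ _⟩⟩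
    exact Flat.epi_of_flat_of_surjective e
  rw [← cancel_epi e]
  obtain ⟨w₁, hw₁⟩ := H27Quot.exists_point_lift hPW (e ≫ y₁)
  obtain ⟨w₂, hw₂⟩ := H27Quot.exists_point_lift hPW (e ≫ y₂)
  have he' : w₁ ≫ pW ≫ φ = w₂ ≫ pW ≫ φ := by
    rw [← Category.assoc, hw₁, ← Category.assoc, hw₂, Category.assoc, Category.assoc]
    exact congrArg (e ≫ ·) he
  obtain ⟨g, hg⟩ := H27Quot.exists_eq_comp_of_point hP (w₁ ≫ j) (w₂ ≫ j) (by
    rw [Category.assoc, Category.assoc, ← hu]
    simpa only [Category.assoc] using congrArg (fun k => k ≫ u) he')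
  have h2 : w₂ = w₁ ≫ (ρW g).hom := by
    refine hjt _ _ ?_ ?_
    · rw [hg, Category.assoc, Category.assoc, hρW]
    · rw [Category.assoc, hρt, ← hv]
      simpa only [Category.assoc] using (congrArg (fun k => k ≫ v) he').symm
  rw [← hw₁, ← hw₂, h2, Category.assoc, hPW.inv]

/-- The map onto the scheme-theoretic image of a quasi-compact morphism is schematically dominant. -/
theorem ker_toImage {A B : Scheme.{u}} (f : A ⟶ B) [QuasiCompact f] : f.toImage.ker = ⊥ := by
  refine Scheme.IdealSheafData.ext_of_iSup_eq_top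
    (fun U : B.affineOpens => (⟨f.imageι ⁻¹ᵁ U.1, U.2.preimage f.imageι⟩ : f.image.affineOpens)) ?_ fun U => ?_
  · rw [← Scheme.Hom.preimage_iSup, iSup_affineOpens_eq_top, Scheme.Hom.preimage_top]
  · rw [Scheme.Hom.ker_apply, Scheme.IdealSheafData.ideal_bot]
    exact (RingHom.injective_iff_ker_eq_bot _).mp (f.toImage_app_injective U)

end Groth.Agent.H22Alg.QuotUnivHomeo
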