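import Groth.Prelude.Def_SymProd
import Groth.Agent.H26Sym.BC
import Mathlib

/-!
# Fibre powers under closed immersions and base change
-/

set_option autoImplicit false
set_option linter.style.haveILetI false
universe u

noncomputable section

open CategoryTheory CategoryTheory.Limits AlgebraicGeometry

namespace Groth.Agent.H22Alg.SymCmpBase

variable {X S X' S' : Scheme.{u}}

/-- Fibre powers of a closed immersion are closed immersions. -/
theorem isClosedImmersion_fibPowMap {f' : X' ⟶ S} {f : X ⟶ S} (d : ℕ) (h : X' ⟶ X) [IsClosedImmersion h]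
    (w : h ≫ f = f') : IsClosedImmersion (SymProd.fibPowMap f' d f h w) := by
  let π : Fin d → (SymProd.fibPow f d ⟶ X) := fun i => WidePullback.π (fun _ : Fin d => f) i
  let e : ∀ i, pullback (π i) h ⟶ SymProd.fibPow f d := fun i => pullback.fst _ _
  let J : (SymProd.fibPow f d).IdealSheafData := ⨆ i, (e i).ker
  haveI : ∀ i, IsClosedImmersion (e i) := fun i => inferInstanceAs (IsClosedImmersion (pullback.fst (π i) h))
  have hk : ∀ i, (e i).ker ≤ J.subschemeι.ker := fun i => by
    rw [Scheme.IdealSheafData.ker_subschemeι]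
    exact le_iSup (fun i => (e i).ker) i
  let l : ∀ i, J.subscheme ⟶ X' := fun i =>
    IsClosedImmersion.lift (e i) J.subschemeι (hk i) ≫ pullback.snd _ _
  have hl : ∀ i, l i ≫ h = J.subschemeι ≫ π i := fun i => by
    rw [Category.assoc, ← pullback.condition, ← Category.assoc]
    show (IsClosedImmersion.lift (e i) J.subschemeι (hk i) ≫ e i) ≫ _ = _
    rw [IsClosedImmersion.lift_fac]
  let a : J.subscheme ⟶ SymProd.fibPow f' d :=
    WidePullback.lift (J.subschemeι ≫ WidePullback.base (fun _ : Fin d => f)) l (fun i => by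
      rw [← w, ← Category.assoc, hl, Category.assoc, WidePullback.π_arrow])
  let m := SymProd.fibPowMap f' d f h w
  have hm : ∀ i, (e i).ker ≤ m.ker := fun i => by
    have : pullback.lift m (WidePullback.π (fun _ : Fin d => f') i) (SymProd.fibPowMap_π f' d f h w i) ≫ e i = m :=
      pullback.lift_fst _ _ _
    exact (Scheme.Hom.le_ker_comp _ _).trans_eq (congrArg Scheme.Hom.ker this)
  have hJm : J.subschemeι.ker ≤ m.ker := by
    rw [Scheme.IdealSheafData.ker_subschemeι]
    exact iSup_le hm
  let b : SymProd.fibPow f' d ⟶ J.subscheme := IsClosedImmersion.lift J.subschemeι m hJm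
  have hb : b ≫ J.subschemeι = m := IsClosedImmersion.lift_fac _ _ _
  have ham : a ≫ m = J.subschemeι := by
    apply WidePullback.hom_ext
    · intro i
      rw [Category.assoc, SymProd.fibPowMap_π, WidePullback.lift_π_assoc, hl]
    · rw [Category.assoc, SymProd.fibPowMap_base, WidePullback.lift_base]
  have hba : b ≫ a = 𝟙 _ := by
    apply WidePullback.hom_ext
    · intro i
      rw [Category.assoc, WidePullback.lift_π, ← cancel_mono h, Category.assoc, hl, reassoc_of% hb,
        SymProd.fibPowMap_π, Category.id_comp]
    · rw [Category.assoc, WidePullback.lift_base, reassoc_of% hb, SymProd.fibPowMap_base, Category.id_comp]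
  have hab : a ≫ b = 𝟙 _ := by
    rw [← cancel_mono J.subschemeι, Category.assoc, hb, ham, Category.id_comp]
  haveI : IsIso b := ⟨a, hba, hab⟩
  show IsClosedImmersion m
  rw [← hb]
  infer_instance

variable {f : X ⟶ S} {f' : X' ⟶ S'} (α : X' ⟶ X) (β : S' ⟶ S) (w : α ≫ f = f' ≫ β) (d : ℕ)

/-- The map of fibre powers over a change of base. -/
def Phi : SymProd.fibPow f' d ⟶ SymProd.fibPow f d :=
  WidePullback.lift (WidePullback.base (fun _ : Fin d => f') ≫ β)
    (fun i => WidePullback.π (fun _ : Fin d => f') i ≫ α)
    (fun i => by rw [Category.assoc, w, WidePullback.π_arrow_assoc])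

@[reassoc]
theorem Phi_π (i : Fin d) :
    Phi α β w d ≫ WidePullback.π (fun _ : Fin d => f) i = WidePullback.π (fun _ : Fin d => f') i ≫ α := by
  unfold Phi; exact WidePullback.lift_π _ _ _ _ i

@[reassoc]
theorem Phi_base :
    Phi α β w d ≫ WidePullback.base (fun _ : Fin d => f) = WidePullback.base (fun _ : Fin d => f') ≫ β := by
  unfold Phi; exact WidePullback.lift_base _ _ _ _

@[reassoc]
theorem permHom_Phi (σ : Equiv.Perm (Fin d)) :
    SymProd.permHom f' d σ ≫ Phi α β w d = Phi α β w d ≫ SymProd.permHom f d σ := by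
  apply WidePullback.hom_ext
  · intro i
    rw [Category.assoc, Phi_π, SymProd.permHom_π_assoc, Category.assoc, SymProd.permHom_π, Phi_π]
  · rw [Category.assoc, Phi_base, SymProd.permHom_base_assoc, Category.assoc, SymProd.permHom_base, Phi_base]

/-- If `X' → X ×_S S'` is a closed immersion, so is `(X'/S')^d → (X/S)^d ×_S S'`. -/
theorem isClosedImmersion_lift [IsClosedImmersion (pullback.lift α f' w)] :
    IsClosedImmersion (pullback.lift (Phi α β w d) (WidePullback.base (fun _ : Fin d => f')) (Phi_base α β w d)) := by
  let c : SymProd.fibPow (pullback.snd f β) d ⟶ SymProd.fibPow f d :=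
    Phi (pullback.fst f β) β pullback.condition d
  have H := H26Sym.isPullback_fibPow (f := f) (b := β) c (fun i => Phi_π _ _ _ _ i) (Phi_base _ _ _ _)
  haveI := isClosedImmersion_fibPowMap (f := pullback.snd f β) d (pullback.lift α f' w)
    (pullback.lift_snd α f' w)
  have e : pullback.lift (Phi α β w d) (WidePullback.base (fun _ : Fin d => f')) (Phi_base α β w d) =
      SymProd.fibPowMap f' d (pullback.snd f β) (pullback.lift α f' w) (pullback.lift_snd α f' w) ≫
        H.isoPullback.hom := by
    apply pullback.hom_ext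
    · rw [pullback.lift_fst, Category.assoc, IsPullback.isoPullback_hom_fst]
      apply WidePullback.hom_ext
      · intro i
        rw [Category.assoc, Phi_π, Phi_π, SymProd.fibPowMap_π_assoc, pullback.lift_fst]
      · rw [Category.assoc, Phi_base, Phi_base, SymProd.fibPowMap_base_assoc]
    · rw [pullback.lift_snd, Category.assoc, IsPullback.isoPullback_hom_snd, SymProd.fibPowMap_base]
  rw [e]
  infer_instance

end Groth.Agent.H22Alg.SymCmpBase
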