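import Groth.Agent.H22Alg.SymFlatAlg
import Groth.Agent.H22Alg.QuotDescOpen
import Groth.Agent.H26Sym.BoxRing
import Groth.Agent.S4656
import Mathlib

/-!
# Symmetric products of flat morphisms near a point fixed by a group of permutations
-/

set_option autoImplicit false
set_option linter.style.haveILetI false
universe u

noncomputable section

open CategoryTheory CategoryTheory.Limits AlgebraicGeometry
open scoped TensorProduct

namespace Groth.Agent.H22Alg.SymFlatChart

variable {X S : Scheme.{u}} {f : X ⟶ S} {d : ℕ}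

section Chart

variable {J : Type u} (U : J → X.Opens) (c : Fin d → J) (V : S.Opens)

variable (f) in
/-- The points over `V` whose `i`-th coordinate lies in `U (c i)`. -/
def cbox : (SymProd.fibPow f d).Opens :=
  (WidePullback.base (fun _ : Fin d => f)) ⁻¹ᵁ V ⊓
    ⟨⋂ i, (WidePullback.π (fun _ : Fin d => f) i).base ⁻¹' (U (c i) : Set X),
      isOpen_iInter_of_finite fun i => (U (c i)).2.preimage (WidePullback.π (fun _ : Fin d => f) i).continuous⟩

theorem mem_cbox {x : ↥(SymProd.fibPow f d)} :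
    x ∈ cbox f U c V ↔ (WidePullback.base (fun _ : Fin d => f)).base x ∈ V ∧
      ∀ i, (WidePullback.π (fun _ : Fin d => f) i).base x ∈ U (c i) :=
  ⟨fun h => ⟨h.1, Set.mem_iInter.1 h.2⟩, fun h => ⟨h.1, Set.mem_iInter.2 h.2⟩⟩

/-- The disjoint union of the opens, over `X`. -/
abbrev cover : (∐ fun j => (U j).toScheme) ⟶ X := Sigma.desc fun j => (U j).ι

theorem toSigma_congr {T : Scheme.{u}} {X₀ : Scheme.{u}} (ε : ∀ j, (U j).toScheme ⟶ X₀) {a b : J} (e : a = b)
    (m : T ⟶ (U a).toScheme) (m' : T ⟶ (U b).toScheme) (h : m ≫ (U a).ι = m' ≫ (U b).ι) :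
    m ≫ ε a = m' ≫ ε b := by
  subst e
  rw [(cancel_mono (U a).ι).mp h]

/-- The box is an open piece of the fibre power of any scheme over `X` containing the opens, equivariantly. -/
theorem exists_chart {X₀ : Scheme.{u}} (v : X₀ ⟶ X) (ε : ∀ j, (U j).toScheme ⟶ X₀) [∀ j, IsOpenImmersion (ε j)]
    (hε : ∀ j, ε j ≫ v = (U j).ι) :
    ∃ s : (cbox f U c V).toScheme ⟶ SymProd.fibPow (v ≫ f) d,
      IsOpenImmersion s ∧
      (∀ i, ∃ l : (cbox f U c V).toScheme ⟶ (U (c i)).toScheme,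
        l ≫ (U (c i)).ι = (cbox f U c V).ι ≫ WidePullback.π (fun _ : Fin d => f) i ∧
        s ≫ WidePullback.π (fun _ : Fin d => v ≫ f) i = l ≫ ε (c i)) ∧
      s ≫ WidePullback.base (fun _ : Fin d => v ≫ f) =
        (cbox f U c V).ι ≫ WidePullback.base (fun _ : Fin d => f) ∧
      ∀ σ : Equiv.Perm (Fin d), (∀ i, c (σ i) = c i) → ∀ {T : Scheme.{u}} (m m' : T ⟶ (cbox f U c V).toScheme),
        m' ≫ (cbox f U c V).ι = m ≫ (cbox f U c V).ι ≫ SymProd.permHom f d σ →
        m' ≫ s = m ≫ s ≫ SymProd.permHom (v ≫ f) d σ := by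
  let Bx := cbox f U c V
  let fam : J → Scheme.{u} := fun j => (U j).toScheme
  have hr : ∀ i, Set.range (Bx.ι ≫ WidePullback.π (fun _ : Fin d => f) i) ⊆ Set.range (U (c i)).ι := fun i => by
    rintro _ ⟨y, rfl⟩
    rw [Scheme.Opens.range_ι]
    exact ((mem_cbox U c V).mp y.2).2 i
  let l : ∀ i, Bx.toScheme ⟶ fam (c i) := fun i => IsOpenImmersion.lift (U (c i)).ι _ (hr i)
  have hl : ∀ i, l i ≫ (U (c i)).ι = Bx.ι ≫ WidePullback.π (fun _ : Fin d => f) i := fun i =>
    IsOpenImmersion.lift_fac _ _ _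
  let s : Bx.toScheme ⟶ SymProd.fibPow (v ≫ f) d :=
    WidePullback.lift (Bx.ι ≫ WidePullback.base (fun _ : Fin d => f)) (fun i => l i ≫ ε (c i))
      (fun i => by
        rw [Category.assoc, reassoc_of% hε (c i), reassoc_of% hl i, WidePullback.π_arrow])
  refine ⟨s, ?_, fun i => ⟨l i, hl i, WidePullback.lift_π _ _ _ _ i⟩, WidePullback.lift_base _ _ _ _, fun σ hσ T m m' hm => ?_⟩
  · -- the piece of the fibre power of the disjoint union
    let T₃ : (SymProd.fibPow (v ≫ f) d).Opens :=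
      (WidePullback.base (fun _ : Fin d => v ≫ f)) ⁻¹ᵁ V ⊓
        ⟨⋂ i, (WidePullback.π (fun _ : Fin d => v ≫ f) i).base ⁻¹' ((ε (c i)).opensRange : Set _),
          isOpen_iInter_of_finite fun i => (ε (c i)).opensRange.2.preimage
            (WidePullback.π (fun _ : Fin d => v ≫ f) i).continuous⟩
    have hs3 : Set.range s ⊆ Set.range T₃.ι := by
      rintro _ ⟨y, rfl⟩
      rw [Scheme.Opens.range_ι]
      refine ⟨?_, Set.mem_iInter.2 fun i => ?_⟩
      · show (s ≫ WidePullback.base (fun _ : Fin d => v ≫ f)) y ∈ V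
        rw [WidePullback.lift_base]
        exact ((mem_cbox U c V).mp y.2).1
      · show (s ≫ WidePullback.π (fun _ : Fin d => v ≫ f) i) y ∈
          ((ε (c i)).opensRange : Set _)
        rw [WidePullback.lift_π]
        exact ⟨l i y, rfl⟩
    let a : Bx.toScheme ⟶ T₃.toScheme := IsOpenImmersion.lift T₃.ι s hs3
    have ha : a ≫ T₃.ι = s := IsOpenImmersion.lift_fac _ _ _
    have hk : ∀ i, Set.range (T₃.ι ≫ WidePullback.π (fun _ : Fin d => v ≫ f) i) ⊆
        Set.range (ε (c i)) := fun i => by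
      rintro _ ⟨y, rfl⟩
      exact Set.mem_iInter.1 y.2.2 i
    let k : ∀ i, T₃.toScheme ⟶ fam (c i) := fun i => IsOpenImmersion.lift (ε (c i)) _ (hk i)
    have hk' : ∀ i, k i ≫ ε (c i) = T₃.ι ≫ WidePullback.π (fun _ : Fin d => v ≫ f) i := fun i =>
      IsOpenImmersion.lift_fac _ _ _
    let v₃ : T₃.toScheme ⟶ SymProd.fibPow f d :=
      T₃.ι ≫ SymProd.fibPowMap (v ≫ f) d f v rfl
    have hvπ : ∀ i, v₃ ≫ WidePullback.π (fun _ : Fin d => f) i = k i ≫ (U (c i)).ι := fun i => by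
      rw [Category.assoc, SymProd.fibPowMap_π, ← reassoc_of% hk' i, hε]
    have hvb : v₃ ≫ WidePullback.base (fun _ : Fin d => f) =
        T₃.ι ≫ WidePullback.base (fun _ : Fin d => v ≫ f) := by
      rw [Category.assoc, SymProd.fibPowMap_base]
    have hv : Set.range v₃ ⊆ Set.range Bx.ι := by
      rintro _ ⟨y, rfl⟩
      rw [Scheme.Opens.range_ι]
      refine (mem_cbox U c V).mpr ⟨?_, fun i => ?_⟩
      · show (v₃ ≫ WidePullback.base (fun _ : Fin d => f)) y ∈ V
        rw [hvb]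
        exact y.2.1
      · show (v₃ ≫ WidePullback.π (fun _ : Fin d => f) i) y ∈ U (c i)
        rw [hvπ]
        exact (k i y).2
    let b : T₃.toScheme ⟶ Bx.toScheme := IsOpenImmersion.lift Bx.ι v₃ hv
    have hb : b ≫ Bx.ι = v₃ := IsOpenImmersion.lift_fac _ _ _
    have hab : a ≫ b = 𝟙 _ := by
      rw [← cancel_mono Bx.ι, Category.assoc, hb, Category.id_comp]
      apply WidePullback.hom_ext
      · intro i
        rw [Category.assoc, Category.assoc, SymProd.fibPowMap_π, reassoc_of% ha, WidePullback.lift_π_assoc,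
          Category.assoc, hε, hl]
      · rw [Category.assoc, hvb, reassoc_of% ha, WidePullback.lift_base]
    have hba : b ≫ a = 𝟙 _ := by
      rw [← cancel_mono T₃.ι, Category.assoc, ha, Category.id_comp]
      apply WidePullback.hom_ext
      · intro i
        have : b ≫ l i = k i := by
          rw [← cancel_mono (U (c i)).ι, Category.assoc, hl, reassoc_of% hb, hvπ]
        rw [Category.assoc, WidePullback.lift_π, reassoc_of% this, hk']
      · rw [Category.assoc, WidePullback.lift_base, reassoc_of% hb, hvb]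
    haveI : IsIso a := ⟨b, hab, hba⟩
    rw [← ha]
    infer_instance
  · apply WidePullback.hom_ext
    · intro i
      rw [Category.assoc, WidePullback.lift_π]
      simp only [Category.assoc, SymProd.permHom_π]
      rw [WidePullback.lift_π, ← Category.assoc, ← Category.assoc]
      refine toSigma_congr U ε ((congrArg c (σ.apply_symm_apply i)).symm.trans (hσ (σ.symm i))) _ _ ?_
      simp only [Category.assoc, hl]
      rw [reassoc_of% hm, SymProd.permHom_π]
    · simp only [Category.assoc, SymProd.permHom_base]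
      rw [WidePullback.lift_base, reassoc_of% hm, SymProd.permHom_base]

end Chart

theorem appLE_congr_hom {A B : Scheme.{u}} {a b : A ⟶ B} (e : a = b) (U : B.Opens) (W : A.Opens)
    (h : W ≤ a ⁻¹ᵁ U) : a.appLE U W h = b.appLE U W (e ▸ h) := by
  subst e; rfl

section Fixed

variable (I : Subgroup (ULift.{u} (Equiv.Perm (Fin d))))

/-- The subgroup of permutations underlying a subgroup of the lifted symmetric group. -/
def permsOf : Subgroup (Equiv.Perm (Fin d)) := I.comap MulEquiv.ulift.symm.toMonoidHom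

/-- The invariants of the fibre power of an affine morphism over an affine base are flat. -/
theorem exists_flat_quot {X' : Scheme.{u}} [IsAffine X'] (f' : X' ⟶ S) [Flat f'] {V : S.Opens}
    (hV : IsAffineOpen V) (hX' : (⊤ : X'.Opens) ≤ f' ⁻¹ᵁ V)
    (ρF : I →* Aut (H26Sym.box f' d V ⊤).toScheme)
    (hρF : ∀ γ : I, (ρF γ).hom ≫ (H26Sym.box f' d V ⊤).ι =
      (H26Sym.box f' d V ⊤).ι ≫ SymProd.permHom f' d (γ : ULift.{u} (Equiv.Perm (Fin d))).down) :
    ∃ (Q : Scheme.{u}) (p : (H26Sym.box f' d V ⊤).toScheme ⟶ Q) (h : Q ⟶ S), SGA1.IsQuot ρF p ∧ Flat h ∧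
      p ≫ h = (H26Sym.box f' d V ⊤).ι ≫ WidePullback.base (fun _ : Fin d => f') := by
  classical
  let F := H26Sym.box f' d V ⊤
  have hF : IsAffineOpen F := H26Sym.isAffineOpen_box hV (isAffineOpen_top X') hX'
  haveI : IsAffine F.toScheme := hF
  letI : Algebra Γ(S, V) Γ(X', ⊤) := (f'.appLE V ⊤ hX').hom.toAlgebra
  haveI : Module.Flat Γ(S, V) Γ(X', ⊤) := f'.flat_appLE hV (isAffineOpen_top X') hX'
  obtain ⟨θ, hθa, hθσ⟩ := H26Sym.exists_boxEquiv (d := d) hV (isAffineOpen_top X') hX' rfl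
  have eF : (⊤ : F.toScheme.Opens) ≤ F.ι ⁻¹ᵁ F := fun y _ => y.2
  have eb : (⊤ : F.toScheme.Opens) ≤ (F.ι ≫ WidePullback.base (fun _ : Fin d => f')) ⁻¹ᵁ V :=
    fun y _ => y.2.1
  let r := F.ι.appLE F ⊤ eF
  have hr : Function.Bijective r.hom := by
    haveI : IsIso r := by
      have e : r = F.topIso.inv := by
        simp only [r, Scheme.Opens.ι_appLE, Scheme.Opens.topIso_inv]
        exact congrArg _ (Subsingleton.elim _ _)
      rw [e]; infer_instance
    exact ConcreteCategory.bijective_of_isIso r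
  let φ := (F.ι ≫ WidePullback.base (fun _ : Fin d => f')).appLE V ⊤ eb
  have hφ : ∀ a, φ.hom a = r.hom (θ (algebraMap Γ(S, V) _ a)) := fun a => by
    rw [hθa, ← CommRingCat.comp_apply, Scheme.Hom.appLE_comp_appLE]
  have hact : ∀ (γ : I) (z : Γ(SymProd.fibPow f' d, F)), (ρF γ).hom.appTop.hom (r.hom z) =
      r.hom (((SymProd.permHom f' d (γ : ULift.{u} (Equiv.Perm (Fin d))).down).appLE F F
        (H26Sym.preimage_box V ⊤ _).ge).hom z) := fun γ z => by
    rw [show (ρF γ).hom.appTop = (ρF γ).hom.appLE ⊤ ⊤ le_top from Scheme.Hom.app_eq_appLE _,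
      ← CommRingCat.comp_apply, ← CommRingCat.comp_apply, Scheme.Hom.appLE_comp_appLE,
      Scheme.Hom.appLE_comp_appLE]
    rw [appLE_congr_hom (hρF γ)]
  have hφinv : ∀ a, φ.hom a ∈ QuotDescOpen.invs ρF := fun a γ => by
    rw [hφ, hact, hθσ, AlgHom.commutes]
  let φ' : Γ(S, V) →+* QuotDescOpen.invs ρF := φ.hom.codRestrict _ hφinv
  have hflat : φ'.Flat := by
    letI : Algebra Γ(S, V) (QuotDescOpen.invs ρF) := φ'.toAlgebra
    show Module.Flat Γ(S, V) (QuotDescOpen.invs ρF)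
    haveI := SymFlatAlg.flat_invI (I := permsOf I) (A := Γ(S, V)) (B := Γ(X', ⊤))
    have hmem : ∀ t : ⨂[Γ(S, V)] _ : Fin d, Γ(X', ⊤),
        r.hom (θ t) ∈ QuotDescOpen.invs ρF ↔ t ∈ SymFlatAlg.invI (permsOf I) Γ(S, V) Γ(X', ⊤) := fun t => by
      rw [SymFlatAlg.mem_invI]
      constructor
      · intro h σ hσ
        have h1 := h ⟨_, (permsOf I).inv_mem hσ⟩
        rw [hact, hθσ] at h1
        rw [← SymTen.perm_apply]
        exact θ.injective (hr.1 (by simpa [MulEquiv.ulift] using h1))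
      · intro h γ
        rw [hact, hθσ, SymTen.perm_apply, h _ ((permsOf I).inv_mem (show ULift.up _ ∈ I from γ.2))]
    let L : SymFlatAlg.invI (permsOf I) Γ(S, V) Γ(X', ⊤) →ₗ[Γ(S, V)] QuotDescOpen.invs ρF :=
      { toFun := fun t => ⟨r.hom (θ t.1), (hmem t.1).mpr t.2⟩
        map_add' := fun a b => Subtype.ext (by simp)
        map_smul' := fun a t => Subtype.ext (by
          show r.hom (θ (a • t.1)) = φ.hom a * r.hom (θ t.1)
          rw [Algebra.smul_def, map_mul, map_mul, hφ]) }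
    have hL : Function.Bijective L := by
      refine ⟨fun a b hab => Subtype.ext (θ.injective (hr.1 (congrArg Subtype.val hab))), fun z => ?_⟩
      obtain ⟨w, hw⟩ := hr.2 z.1
      obtain ⟨t, rfl⟩ := θ.surjective w
      exact ⟨⟨t, (hmem t).mp (hw ▸ z.2)⟩, Subtype.ext hw⟩
    exact Module.Flat.of_linearEquiv (LinearEquiv.ofBijective L hL).symm
  refine ⟨_, QuotDescOpen.proj ρF, Spec.map (CommRingCat.ofHom φ') ≫ hV.fromSpec,
    QuotDescOpen.isQuot_proj ρF, ?_, ?_⟩
  · haveI : Flat (Spec.map (CommRingCat.ofHom φ')) := Flat.SpecMap_iff.mpr hflat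
    infer_instance
  · show (F.toScheme.toSpecΓ ≫ Spec.map _) ≫ _ = _
    rw [Category.assoc, ← Category.assoc (Spec.map _), ← Spec.map_comp,
      show CommRingCat.ofHom φ' ≫ CommRingCat.ofHom (QuotDescOpen.invs ρF).subtype = φ from rfl,
      IsAffineOpen.SpecMap_appLE_fromSpec _ hV (isAffineOpen_top _), IsAffineOpen.fromSpec_top,
      ← Scheme.isoSpec_hom, Iso.hom_inv_id_assoc]

/-- A quotient by a subgroup fixing a point is flat over the base at the image of the point. -/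
theorem flat_stalkMap_of_fixed [Flat f] {T Q : Scheme.{u}} (ρT : I →* Aut T)
    (j : T ⟶ SymProd.fibPow f d) [IsOpenImmersion j]
    (hj : ∀ γ : I, (ρT γ).hom ≫ j = j ≫ SymProd.permHom f d (γ : ULift.{u} (Equiv.Perm (Fin d))).down)
    {p : T ⟶ Q} (hp : SGA1.IsQuot ρT p) (h : Q ⟶ S)
    (hh : p ≫ h = j ≫ WidePullback.base (fun _ : Fin d => f))
    (x : T) (hx : ∀ γ, (ρT γ).hom x = x) : (h.stalkMap (p x)).hom.Flat := by
  classical
  let pt := j x
  let co : Fin d → X := fun i => (WidePullback.π (fun _ : Fin d => f) i).base pt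
  obtain ⟨V, hV, hsV, -⟩ := exists_isAffineOpen_mem_and_subset (X := S)
    (x := (WidePullback.base (fun _ : Fin d => f)).base pt) (U := ⊤) trivial
  have hco : ∀ i, co i ∈ f ⁻¹ᵁ V := fun i => by
    show (WidePullback.π (fun _ : Fin d => f) i ≫ f) pt ∈ V
    rw [WidePullback.π_arrow]
    exact hsV
  let J := {z : X // ∃ i, co i = z}
  haveI : Finite J := Finite.of_surjective (fun i => (⟨co i, i, rfl⟩ : J))
    (by rintro ⟨z, i, rfl⟩; exact ⟨i, rfl⟩)
  have hex : ∀ z : J, ∃ U : X.Opens, IsAffineOpen U ∧ z.1 ∈ U ∧ U ≤ f ⁻¹ᵁ V := by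
    rintro ⟨z, i, rfl⟩
    exact exists_isAffineOpen_mem_and_subset (hco i)
  choose U hU hzU hUV using hex
  let c : Fin d → J := fun i => ⟨co i, i, rfl⟩
  have hc : ∀ γ : I, ∀ i, c ((γ : ULift.{u} (Equiv.Perm (Fin d))).down i) = c i := fun γ i => by
    refine Subtype.ext ?_
    have h1 : (SymProd.permHom f d (γ : ULift.{u} (Equiv.Perm (Fin d))).down) pt = pt := by
      show SymProd.permHom f d _ (j x) = j x
      rw [← Scheme.Hom.comp_apply, ← hj, Scheme.Hom.comp_apply, hx]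
    show co _ = co i
    conv_lhs => simp only [co]; rw [← h1]
    show ((SymProd.permHom f d _ ≫ WidePullback.π (fun _ : Fin d => f) _) : _ ⟶ _) pt = co i
    rw [SymProd.permHom_π, Equiv.symm_apply_apply]
  let X' := ∐ fun z => (U z).toScheme
  haveI : ∀ z, IsAffine (U z).toScheme := hU
  let f' : X' ⟶ S := cover U ≫ f
  haveI : Flat f' := by
    refine IsZariskiLocalAtSource.sigmaDesc (P := @Flat) (f := fun z => (U z).ι ≫ f) (fun z => inferInstance) |> cast ?_
    congr 1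
    exact Sigma.hom_ext _ _ fun z => by simp [f', cover]
  have hX' : (⊤ : X'.Opens) ≤ f' ⁻¹ᵁ V := by
    intro w _
    obtain ⟨⟨z, y⟩, rfl⟩ := (sigmaMk fun z => (U z).toScheme).surjective w
    rw [sigmaMk_mk]
    show (Sigma.ι (fun z => (U z).toScheme) z ≫ f') y ∈ V
    simp only [f', cover, Sigma.ι_desc_assoc]
    exact hUV z y.2
  obtain ⟨s, hso, -, hsb, hseq⟩ := exists_chart (f := f) U c V (cover U) (fun z => Sigma.ι (fun z => (U z).toScheme) z)
    (fun z => Sigma.ι_desc _ _)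
  let Bx := cbox f U c V
  let F := H26Sym.box f' d V ⊤
  let ρP' : I →* Aut (SymProd.fibPow f' d) := (SymProd.permActU f' d).comp I.subtype
  obtain ⟨ρF, hρF'⟩ := H27SymProd.exists_restrict ρP' F (fun γ y hy =>
    (H26Sym.preimage_box V ⊤ (γ : ULift.{u} (Equiv.Perm (Fin d))).down).ge hy)
  have hρF : ∀ γ : I, (ρF γ).hom ≫ F.ι =
      F.ι ≫ SymProd.permHom f' d (γ : ULift.{u} (Equiv.Perm (Fin d))).down := hρF'
  obtain ⟨Q', p', h', hp', hh'flat, hh'⟩ := exists_flat_quot I f' hV hX' ρF hρF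
  -- the stable neighbourhood
  have hBx : ∀ γ : I, ∀ y, j y ∈ Bx → j ((ρT γ).hom y) ∈ Bx := fun γ y hy => by
    rw [← Scheme.Hom.comp_apply, hj, Scheme.Hom.comp_apply]
    obtain ⟨hy1, hy2⟩ := (mem_cbox U c V).mp hy
    refine (mem_cbox U c V).mpr ⟨?_, fun i => ?_⟩
    · show ((SymProd.permHom f d _ ≫ WidePullback.base (fun _ : Fin d => f)) : _ ⟶ _) (j y) ∈ V
      rw [SymProd.permHom_base]
      exact hy1
    · show ((SymProd.permHom f d _ ≫ WidePullback.π (fun _ : Fin d => f) i) : _ ⟶ _) (j y) ∈ U (c i)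
      rw [SymProd.permHom_π]
      have h1 := hc γ ((γ : ULift.{u} (Equiv.Perm (Fin d))).down.symm i)
      rw [Equiv.apply_symm_apply] at h1
      rw [h1]
      exact hy2 _
  obtain ⟨W, hW⟩ := QuotDescOpen.exists_preimage_eq hp (j ⁻¹ᵁ Bx) hBx
  have hxW : x ∈ p ⁻¹ᵁ W := hW ▸ (mem_cbox U c V).mpr ⟨hsV, fun i => hzU (c i)⟩
  obtain ⟨ρE, hρE⟩ := H27SymProd.exists_restrict ρT (p ⁻¹ᵁ W) (fun γ y hy => by
    show p ((ρT γ).hom y) ∈ W
    rw [← Scheme.Hom.comp_apply, hp.inv]
    exact hy)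
  have hres := S13606.result ρT p hp W ρE hρE
  let E := p ⁻¹ᵁ W
  let l : E.toScheme ⟶ Bx.toScheme := IsOpenImmersion.lift Bx.ι (E.ι ≫ j) (by
    rintro _ ⟨y, rfl⟩
    rw [Scheme.Opens.range_ι]
    exact (hW.le y.2 : y.1 ∈ j ⁻¹ᵁ Bx))
  have hl : l ≫ Bx.ι = E.ι ≫ j := IsOpenImmersion.lift_fac _ _ _
  haveI : IsOpenImmersion l := by
    haveI : IsOpenImmersion (l ≫ Bx.ι) := by rw [hl]; infer_instance
    exact IsOpenImmersion.of_comp _ Bx.ι
  have hrange : Set.range (l ≫ s) ⊆ Set.range F.ι := by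
    rintro _ ⟨y, rfl⟩
    rw [Scheme.Opens.range_ι]
    refine H26Sym.mem_box.mpr ⟨?_, fun i => trivial⟩
    show ((l ≫ s) ≫ WidePullback.base (fun _ : Fin d => f')) y ∈ V
    rw [Category.assoc, hsb]
    exact ((mem_cbox U c V).mp (l y).2).1
  let s₁ : E.toScheme ⟶ F.toScheme := IsOpenImmersion.lift F.ι (l ≫ s) hrange
  have hs₁ : s₁ ≫ F.ι = l ≫ s := IsOpenImmersion.lift_fac _ _ _
  haveI : IsOpenImmersion s₁ := by
    haveI := hso
    haveI : IsOpenImmersion (s₁ ≫ F.ι) := by rw [hs₁]; infer_instance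
    exact IsOpenImmersion.of_comp _ F.ι
  have heq : ∀ γ, (ρE γ).hom ≫ s₁ = s₁ ≫ (ρF γ).hom := fun γ => by
    rw [← cancel_mono F.ι, Category.assoc, hs₁, Category.assoc, hρF, reassoc_of% hs₁, ← Category.assoc]
    exact hseq _ (hc γ) l ((ρE γ).hom ≫ l) (by
      rw [Category.assoc, hl, reassoc_of% hρE γ, hj, reassoc_of% hl])
  obtain ⟨b, hb⟩ := _root_.H18Quot.exists_desc (s₁ ≫ p') (fun γ => by
    rw [reassoc_of% heq γ, hp'.inv]) hres
  haveI := QuotDescOpen.isOpenImmersion_desc hres hp' s₁ heq b hb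
  haveI := H27Quot.epi hres
  have hWh : W.ι ≫ h = b ≫ h' := by
    rw [← cancel_epi (p ∣_ W), reassoc_of% hb, hh', morphismRestrict_ι_assoc, hh, reassoc_of% hs₁, hsb,
      reassoc_of% hl]
  haveI : Flat (W.ι ≫ h) := by rw [hWh]; infer_instance
  exact (S4656.result W.ι h ⟨p x, hxW⟩ (Flat.stalkMap _ _)).mp (Flat.stalkMap _ _)

end Fixed

end Groth.Agent.H22Alg.SymFlatChart
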