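import Groth.Agent.H22Alg.SymFlatAlg
import Mathlib

/-!
# Invariant tensors of a flat algebra are combinations of orbit sums of any spanning family
-/

set_option autoImplicit false
set_option linter.style.haveILetI false
universe u

noncomputable section

open scoped TensorProduct
open MvPolynomial Groth.Agent.H22Alg.PL

namespace Groth.Agent.H22Alg.SymFlatAlg

variable {d : ℕ} (I : Subgroup (Equiv.Perm (Fin d)))

open Classical in
/-- The orbit of an index function. -/
def orb {ι : Type u} (c : Fin d → ι) : Finset (Fin d → ι) :=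
  Finset.univ.image fun σ : I => c ∘ (σ : Equiv.Perm (Fin d)).symm

/-- The orbit sum of pure tensors. -/
def osum (A : Type u) [CommRing A] {M : Type u} [AddCommGroup M] [Module A M] {ι : Type u} (v : ι → M)
    (c : Fin d → ι) : ⨂[A] _ : Fin d, M :=
  ∑ c' ∈ orb I c, PiTensorProduct.tprod A (v ∘ c')

variable {I}

theorem mem_orb {ι : Type u} {c c' : Fin d → ι} : c' ∈ orb I c ↔ (orbitSetoid I ι).r c c' := by
  classical
  simp only [orb, Finset.mem_image, Finset.mem_univ, true_and]
  exact ⟨fun ⟨σ, h⟩ => ⟨σ, σ.2, h⟩, fun ⟨σ, hσ, h⟩ => ⟨⟨σ, hσ⟩, h⟩⟩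

theorem map_osum {A : Type u} [CommRing A] {M N : Type u} [AddCommGroup M] [Module A M] [AddCommGroup N]
    [Module A N] {ι : Type u} (f : M →ₗ[A] N) (v : ι → M) (c : Fin d → ι) :
    PiTensorProduct.map (fun _ : Fin d => f) (osum I A v c) = osum I A (f ∘ v) c := by
  simp only [osum, map_sum, PiTensorProduct.map_tprod]
  rfl

theorem osum_mem {A : Type u} [CommRing A] {M : Type u} [AddCommGroup M] [Module A M] {ι : Type u}
    (v : ι → M) (c : Fin d → ι) : osum I A v c ∈ invI I A M := by
  classical
  refine (mem_invI _).mpr fun σ hσ => ?_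
  simp only [osum, map_sum, PiTensorProduct.reindex_tprod]
  refine Finset.sum_bij' (fun c' _ => c' ∘ σ.symm) (fun c' _ => c' ∘ σ) (fun c' hc' => ?_) (fun c' hc' => ?_)
    (fun c' _ => funext fun i => by simp) (fun c' _ => funext fun i => by simp) (fun c' _ => rfl)
  · exact mem_orb.mpr ((orbitSetoid I ι).iseqv.trans (mem_orb.mp hc') ⟨σ, hσ, rfl⟩)
  · exact mem_orb.mpr ((orbitSetoid I ι).iseqv.trans (mem_orb.mp hc')
      ⟨σ⁻¹, I.inv_mem hσ, funext fun i => by simp [Equiv.Perm.inv_def]⟩)

/-- In a free module the invariant tensors are spanned by the orbit sums of a basis. -/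
theorem mem_span_osum_basis {A : Type u} [CommRing A] {M : Type u} [AddCommGroup M] [Module A M]
    {ι : Type u} (e : Module.Basis ι A M) {t : ⨂[A] _ : Fin d, M} (ht : t ∈ invI I A M) :
    t ∈ Submodule.span A (Set.range fun c => osum I A e c) := by
  classical
  let B := piBasis d e
  have hinv : ∀ c c', (orbitSetoid I ι).r c c' → B.repr t c = B.repr t c' := by
    rintro c c' ⟨σ, hσ, rfl⟩
    rw [← repr_reindex e σ, (mem_invI _).mp ht σ hσ]
  let rep : (Fin d → ι) → (Fin d → ι) := fun c => Quotient.out (⟦c⟧ : Quotient (orbitSetoid I ι))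
  have hrep : ∀ c, (orbitSetoid I ι).r (rep c) c := fun c =>
    Quotient.exact (s := orbitSetoid I ι) (Quotient.out_eq _)
  have hrep' : ∀ c c', (orbitSetoid I ι).r c c' → rep c = rep c' := fun c c' h =>
    congrArg Quotient.out (Quotient.sound h)
  let S := (B.repr t).support.image rep
  have key : t = ∑ r ∈ S, B.repr t r • osum I A e r := by
    refine B.ext_elem fun c => ?_
    have hr : ∀ r : Fin d → ι, B.repr (osum I A e r) c = if c ∈ orb I r then 1 else 0 := fun r => by
      simp only [osum, map_sum, Finsupp.finsetSum_apply]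
      rw [Finset.sum_congr rfl fun c' _ => show B.repr (PiTensorProduct.tprod A (e ∘ c')) c =
        if c' = c then 1 else 0 by rw [← piBasis_apply, Module.Basis.repr_self, Finsupp.single_apply],
        Finset.sum_ite_eq']
    simp only [map_sum, map_smul, Finsupp.finsetSum_apply, Finsupp.smul_apply, hr, smul_eq_mul, mul_ite,
      mul_one, mul_zero]
    rw [Finset.sum_eq_single (rep c)]
    · rw [if_pos (mem_orb.mpr (hrep c))]
      exact hinv c (rep c) ((orbitSetoid I ι).iseqv.symm (hrep c))
    · intro r hr hne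
      obtain ⟨c₀, -, rfl⟩ := Finset.mem_image.mp hr
      rw [if_neg]
      intro h
      exact hne (hrep' _ _ ((orbitSetoid I ι).iseqv.trans ((orbitSetoid I ι).iseqv.symm (hrep c₀))
        (mem_orb.mp h)))
    · intro h
      rw [if_pos (mem_orb.mpr (hrep c))]
      by_contra hne
      exact h (Finset.mem_image.mpr ⟨c, Finsupp.mem_support_iff.mpr (by
        rw [hinv c (rep c) ((orbitSetoid I ι).iseqv.symm (hrep c))]; exact hne), rfl⟩)
  rw [key]
  exact Submodule.sum_mem _ fun r _ => Submodule.smul_mem _ _ (Submodule.subset_span ⟨r, rfl⟩)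

/-- For a flat algebra and a spanning family, every invariant tensor is a combination of orbit sums. -/
theorem mem_span_osum {A : Type u} [CommRing A] {B : Type u} [CommRing B] [Algebra A B] [Module.Flat A B]
    {ι : Type u} (v : ι → B) (hv : ⊤ ≤ Submodule.span A (Set.range v)) {t : ⨂[A] _ : Fin d, B}
    (ht : t ∈ invI I A B) : t ∈ Submodule.span A (Set.range fun c => osum I A v c) := by
  classical
  obtain ⟨σ, π', y, hy, -⟩ := exists_free_lift (fun _ : Fin 1 => (⟨t, ht⟩ : invI I A B)) 0 (by simp)
  let f : (ι →₀ A) →ₗ[A] B := Finsupp.linearCombination A v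
  have hf : Function.Surjective f := by
    rw [← LinearMap.range_eq_top, Finsupp.range_linearCombination]
    exact top_le_iff.mp hv
  choose g hg using fun m => hf (π' (basisMonomials σ A m))
  let G : MvPolynomial σ A →ₗ[A] (ι →₀ A) := (basisMonomials σ A).constr A g
  have hG : f ∘ₗ G = π' := (basisMonomials σ A).ext fun m => by
    simp only [LinearMap.comp_apply, G, Module.Basis.constr_basis, hg]
  have hst : t = PiTensorProduct.map (fun _ : Fin d => f) (invMap G (y 0)).1 := by
    have h0 : PiTensorProduct.map (fun _ : Fin d => π') (y 0).1 = t := congrArg Subtype.val (hy 0)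
    show t = PiTensorProduct.map (fun _ : Fin d => f) (PiTensorProduct.map (fun _ : Fin d => G) (y 0).1)
    rw [← LinearMap.comp_apply, ← PiTensorProduct.map_comp]
    simp only [hG]
    exact h0.symm
  have hmem := mem_span_osum_basis (I := I) Finsupp.basisSingleOne (invMap G (y 0)).2
  rw [hst]
  have h2 := Submodule.mem_map_of_mem (f := PiTensorProduct.map (fun _ : Fin d => f)) hmem
  rw [Submodule.map_span, ← Set.range_comp] at h2
  refine Submodule.span_mono ?_ h2
  rintro _ ⟨c, rfl⟩
  refine ⟨c, ?_⟩
  show osum I A v c = PiTensorProduct.map (fun _ : Fin d => f) (osum I A _ c)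
  rw [map_osum]
  congr 1
  funext j
  simp [f]

end Groth.Agent.H22Alg.SymFlatAlg
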