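import Groth.Agent.H22Alg.SymBoxEquiv
import Groth.Agent.H22Alg.SymFlatSpan
import Groth.Agent.H22Alg.SymFlatChart
import Groth.Agent.H22Alg.SymCmpBase
import Mathlib

/-!
# Rings of invariants generated by invariants and functions of the base
-/

set_option autoImplicit false
set_option linter.style.haveILetI false
universe u

noncomputable section

open CategoryTheory CategoryTheory.Limits AlgebraicGeometry
open scoped TensorProduct

namespace Groth.Agent.H22Alg.SymCmpGen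

/-- A pushout of rings is generated by the two images. -/
theorem closure_eq_top_of_isPushout {R A B P : CommRingCat.{u}} {a : R ⟶ A} {b : R ⟶ B} {i : A ⟶ P} {j : B ⟶ P}
    (h : IsPushout a b i j) : Subring.closure (Set.range i.hom ∪ Set.range j.hom) = ⊤ := by
  let N := Subring.closure (Set.range i.hom ∪ Set.range j.hom)
  let i' : A ⟶ CommRingCat.of N :=
    CommRingCat.ofHom (i.hom.codRestrict N fun x => Subring.subset_closure (Or.inl ⟨x, rfl⟩))
  let j' : B ⟶ CommRingCat.of N :=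
    CommRingCat.ofHom (j.hom.codRestrict N fun x => Subring.subset_closure (Or.inr ⟨x, rfl⟩))
  have w : a ≫ i' = b ≫ j' := CommRingCat.hom_ext (RingHom.ext fun r =>
    Subtype.ext (ConcreteCategory.congr_hom h.w r))
  have e : h.desc i' j' w ≫ CommRingCat.ofHom N.subtype = 𝟙 P := by
    apply h.hom_ext
    · rw [h.inl_desc_assoc, Category.comp_id]; rfl
    · rw [h.inr_desc_assoc, Category.comp_id]; rfl
  refine eq_top_iff.mpr fun z _ => ?_
  rw [← show (h.desc i' j' w ≫ CommRingCat.ofHom N.subtype) z = z by rw [e]; rfl]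
  exact ((h.desc i' j' w) z).2

variable {X S X' S' : Scheme.{u}}

/-- An affine piece of a closed subscheme of a base change is affine with ring generated by the two images. -/
theorem piece {i : X ⟶ S} {β : S' ⟶ S} (a : X' ⟶ X) (b : X' ⟶ S') (w : a ≫ i = b ≫ β)
    [IsClosedImmersion (pullback.lift a b w)] {US : S.Opens} (hUS : IsAffineOpen US) {UX : X.Opens}
    (hUX : IsAffineOpen UX) {UT : S'.Opens} (hUT : IsAffineOpen UT) (hX : UX ≤ i ⁻¹ᵁ US) (hT : UT ≤ β ⁻¹ᵁ US)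
    (UY : X'.Opens) (hUY : UY = a ⁻¹ᵁ UX ⊓ b ⁻¹ᵁ UT) :
    IsAffineOpen UY ∧ Subring.closure (Set.range (a.appLE UX UY (hUY.le.trans inf_le_left)).hom ∪
      Set.range (b.appLE UT UY (hUY.le.trans inf_le_right)).hom) = ⊤ := by
  let k := pullback.lift a b w
  let H := IsPullback.of_hasPullback i β
  let UP := pullback.fst i β ⁻¹ᵁ UX ⊓ pullback.snd i β ⁻¹ᵁ UT
  have hUP : IsAffineOpen UP := H26Sym.isAffineOpen_inf_preimage H hUS hUT hUX hT hX rfl
  have hpre : k ⁻¹ᵁ UP = UY := by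
    rw [hUY]
    show k ⁻¹ᵁ (pullback.fst i β ⁻¹ᵁ UX) ⊓ k ⁻¹ᵁ (pullback.snd i β ⁻¹ᵁ UT) = _
    rw [← Scheme.Hom.comp_preimage, ← Scheme.Hom.comp_preimage, pullback.lift_fst, pullback.lift_snd]
  have hUY' : IsAffineOpen UY := hpre ▸ hUP.preimage k
  refine ⟨hUY', eq_top_iff.mpr fun z _ => ?_⟩
  let kk := k.appLE UP UY hpre.ge
  have hsurj : Function.Surjective kk.hom := by
    subst hpre
    have := k.app_surjective UP hUP
    simpa [kk, Scheme.Hom.app_eq_appLE] using this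
  obtain ⟨p, rfl⟩ := hsurj z
  have hgen := closure_eq_top_of_isPushout (H26Sym.isPushout_appLE H hUS hUT hUX hT hX rfl)
  have hp : p ∈ Subring.closure (Set.range _ ∪ Set.range _) := hgen.ge (Subring.mem_top p)
  have h2 : kk.hom p ∈ (Subring.closure (Set.range _ ∪ Set.range _)).map kk.hom := Subring.mem_map.mpr ⟨p, hp, rfl⟩
  rw [RingHom.map_closure] at h2
  refine Subring.closure_mono ?_ h2
  rintro _ ⟨q, (⟨r, rfl⟩ | ⟨r, rfl⟩), rfl⟩
  · refine Or.inl ⟨r, ?_⟩
    rw [← CommRingCat.comp_apply, Scheme.Hom.appLE_comp_appLE]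
    simp only [k, pullback.lift_fst]
  · refine Or.inr ⟨r, ?_⟩
    rw [← CommRingCat.comp_apply, Scheme.Hom.appLE_comp_appLE]
    simp only [k, pullback.lift_snd]

variable {d : ℕ} (I : Subgroup (ULift.{u} (Equiv.Perm (Fin d))))

/-- Invariants of the box over a larger scheme are generated by invariants and functions of the base. -/
theorem invs_le_closure {X0 X1 : Scheme.{u}} [IsAffine X0] [IsAffine X1] (f0 : X0 ⟶ S) (f1 : X1 ⟶ S') [Flat f1]
    (u₁ : X1 ⟶ X0) (β : S' ⟶ S) (w : u₁ ≫ f0 = f1 ≫ β)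
    {V : S.Opens} (hV : IsAffineOpen V) (h0 : (⊤ : X0.Opens) ≤ f0 ⁻¹ᵁ V)
    {V' : S'.Opens} (hV' : IsAffineOpen V') (h1 : (⊤ : X1.Opens) ≤ f1 ⁻¹ᵁ V') (hVV' : V' ≤ β ⁻¹ᵁ V)
    (hgen : Subring.closure (Set.range u₁.appTop.hom ∪ Set.range (f1.appLE V' ⊤ h1).hom) = ⊤)
    (ρF : I →* Aut (H26Sym.box f0 d V ⊤).toScheme)
    (hρF : ∀ γ : I, (ρF γ).hom ≫ (H26Sym.box f0 d V ⊤).ι =
      (H26Sym.box f0 d V ⊤).ι ≫ SymProd.permHom f0 d (γ : ULift.{u} (Equiv.Perm (Fin d))).down)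
    (ρF' : I →* Aut (H26Sym.box f1 d V' ⊤).toScheme)
    (hρF' : ∀ γ : I, (ρF' γ).hom ≫ (H26Sym.box f1 d V' ⊤).ι =
      (H26Sym.box f1 d V' ⊤).ι ≫ SymProd.permHom f1 d (γ : ULift.{u} (Equiv.Perm (Fin d))).down)
    (Ψ : (H26Sym.box f1 d V' ⊤).toScheme ⟶ (H26Sym.box f0 d V ⊤).toScheme)
    (hΨ : Ψ ≫ (H26Sym.box f0 d V ⊤).ι = (H26Sym.box f1 d V' ⊤).ι ≫ SymCmpBase.Phi u₁ β w d)
    (eb : (⊤ : (H26Sym.box f1 d V' ⊤).toScheme.Opens) ≤
      ((H26Sym.box f1 d V' ⊤).ι ≫ WidePullback.base (fun _ : Fin d => f1)) ⁻¹ᵁ V')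
    (z : Γ((H26Sym.box f1 d V' ⊤).toScheme, ⊤)) (hz : z ∈ QuotDescOpen.invs ρF') :
    z ∈ Subring.closure (Ψ.appTop.hom '' (QuotDescOpen.invs ρF : Set _) ∪
      Set.range (((H26Sym.box f1 d V' ⊤).ι ≫ WidePullback.base (fun _ : Fin d => f1)).appLE V' ⊤ eb).hom) := by
  classical
  let F := H26Sym.box f0 d V ⊤
  let F' := H26Sym.box f1 d V' ⊤
  letI : Algebra Γ(S, V) Γ(X0, ⊤) := (f0.appLE V ⊤ h0).hom.toAlgebra
  letI : Algebra Γ(S', V') Γ(X1, ⊤) := (f1.appLE V' ⊤ h1).hom.toAlgebra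
  haveI : Module.Flat Γ(S', V') Γ(X1, ⊤) := f1.flat_appLE hV' (isAffineOpen_top X1) h1
  obtain ⟨θ, hθi, hθa, hθσ⟩ := SymBoxEquiv.exists_boxEquiv' (d := d) hV (isAffineOpen_top X0) h0 rfl
  obtain ⟨θ', hθi', hθa', hθσ'⟩ := SymBoxEquiv.exists_boxEquiv' (d := d) hV' (isAffineOpen_top X1) h1 rfl
  have eF : (⊤ : F.toScheme.Opens) ≤ F.ι ⁻¹ᵁ F := fun y _ => y.2
  have eF' : (⊤ : F'.toScheme.Opens) ≤ F'.ι ⁻¹ᵁ F' := fun y _ => y.2
  let r := F.ι.appLE F ⊤ eF
  let r' := F'.ι.appLE F' ⊤ eF'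
  have hr' : Function.Bijective r'.hom := by
    haveI : IsIso r' := by
      have e : r' = F'.topIso.inv := by
        simp only [r', Scheme.Opens.ι_appLE, Scheme.Opens.topIso_inv]
        exact congrArg _ (Subsingleton.elim _ _)
      rw [e]; infer_instance
    exact ConcreteCategory.bijective_of_isIso r'
  -- invariance in terms of tensors
  have hact : ∀ (γ : I) (t : Γ(SymProd.fibPow f0 d, F)), (ρF γ).hom.appTop.hom (r.hom t) =
      r.hom (((SymProd.permHom f0 d (γ : ULift.{u} (Equiv.Perm (Fin d))).down).appLE F F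
        (H26Sym.preimage_box V ⊤ _).ge).hom t) := fun γ t => by
    rw [show (ρF γ).hom.appTop = (ρF γ).hom.appLE ⊤ ⊤ le_top from Scheme.Hom.app_eq_appLE _,
      ← CommRingCat.comp_apply, ← CommRingCat.comp_apply, Scheme.Hom.appLE_comp_appLE,
      Scheme.Hom.appLE_comp_appLE]
    rw [SymFlatChart.appLE_congr_hom (hρF γ)]
  have hact' : ∀ (γ : I) (t : Γ(SymProd.fibPow f1 d, F')), (ρF' γ).hom.appTop.hom (r'.hom t) =
      r'.hom (((SymProd.permHom f1 d (γ : ULift.{u} (Equiv.Perm (Fin d))).down).appLE F' F'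
        (H26Sym.preimage_box V' ⊤ _).ge).hom t) := fun γ t => by
    rw [show (ρF' γ).hom.appTop = (ρF' γ).hom.appLE ⊤ ⊤ le_top from Scheme.Hom.app_eq_appLE _,
      ← CommRingCat.comp_apply, ← CommRingCat.comp_apply, Scheme.Hom.appLE_comp_appLE,
      Scheme.Hom.appLE_comp_appLE]
    rw [SymFlatChart.appLE_congr_hom (hρF' γ)]
  obtain ⟨w', hw'⟩ := hr'.2 z
  obtain ⟨t, rfl⟩ := θ'.surjective w'
  have ht : t ∈ SymFlatAlg.invI (SymFlatChart.permsOf I) Γ(S', V') Γ(X1, ⊤) := by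
    rw [SymFlatAlg.mem_invI]
    intro σ hσ
    have h2 := hz ⟨_, (SymFlatChart.permsOf I).inv_mem hσ⟩
    rw [← hw', hact', hθσ'] at h2
    rw [← SymTen.perm_apply]
    exact θ'.injective (hr'.1 (by simpa [MulEquiv.ulift] using h2))
  let v : Γ(X0, ⊤) → Γ(X1, ⊤) := u₁.appTop.hom
  have hv : ⊤ ≤ Submodule.span Γ(S', V') (Set.range v) := by
    rintro b -
    have hb : b ∈ Subring.closure (Set.range u₁.appTop.hom ∪ Set.range (f1.appLE V' ⊤ h1).hom) := by
      rw [hgen]; trivial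
    have h1mem : (1 : Γ(X1, ⊤)) ∈ Submodule.span Γ(S', V') (Set.range v) :=
      Submodule.subset_span ⟨1, map_one _⟩
    induction hb using Subring.closure_induction with
    | mem y hy =>
      rcases hy with ⟨a, rfl⟩ | ⟨a, rfl⟩
      · exact Submodule.subset_span ⟨a, rfl⟩
      · rw [show (f1.appLE V' ⊤ h1).hom a = algebraMap Γ(S', V') Γ(X1, ⊤) a from rfl, Algebra.algebraMap_eq_smul_one]
        exact Submodule.smul_mem _ _ h1mem
    | zero => exact Submodule.zero_mem _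
    | one => exact h1mem
    | add _ _ _ _ ha hb => exact Submodule.add_mem _ ha hb
    | neg _ _ ha => exact Submodule.neg_mem _ ha
    | mul p q _ _ hp hq =>
      have h2 := Submodule.mul_mem_mul hp hq
      rw [Submodule.span_mul_span] at h2
      refine Submodule.span_mono ?_ h2
      rintro _ ⟨_, ⟨a, rfl⟩, _, ⟨b, rfl⟩, rfl⟩
      exact ⟨a * b, map_mul _ _ _⟩
  -- compatibility of the two descriptions
  have hsingle : ∀ (i : Fin d) (b : Γ(X0, ⊤)),
      Ψ.appTop.hom (r.hom (θ (PiTensorProduct.singleAlgHom (R := Γ(S, V)) (A := fun _ : Fin d => Γ(X0, ⊤)) i b))) =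
        r'.hom (θ' (PiTensorProduct.singleAlgHom (R := Γ(S', V')) (A := fun _ : Fin d => Γ(X1, ⊤)) i (v b))) := by
    intro i b
    rw [hθi, hθi', show Ψ.appTop = Ψ.appLE ⊤ ⊤ le_top from Scheme.Hom.app_eq_appLE _,
      show v b = (u₁.appLE ⊤ ⊤ le_top).hom b from congrArg (fun m => m.hom b) (Scheme.Hom.app_eq_appLE u₁)]
    simp only [r, r', F, F', ← CommRingCat.comp_apply, Scheme.Hom.appLE_comp_appLE, Category.assoc]
    rw [SymFlatChart.appLE_congr_hom (show Ψ ≫ F.ι ≫ WidePullback.π (fun _ : Fin d => f0) i =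
      F'.ι ≫ WidePullback.π (fun _ : Fin d => f1) i ≫ u₁ by rw [reassoc_of% hΨ, SymCmpBase.Phi_π])]
  have htprod : ∀ b : Fin d → Γ(X0, ⊤),
      Ψ.appTop.hom (r.hom (θ (PiTensorProduct.tprod Γ(S, V) b))) =
        r'.hom (θ' (PiTensorProduct.tprod Γ(S', V') (v ∘ b))) := by
    intro b
    have e0 : PiTensorProduct.tprod Γ(S, V) b = ∏ i, PiTensorProduct.singleAlgHom (R := Γ(S, V))
        (A := fun _ : Fin d => Γ(X0, ⊤)) i (b i) := by
      simp only [PiTensorProduct.singleAlgHom_apply, MonoidHom.mulSingle_apply]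
      rw [← Finset.univ_prod_mulSingle b]
      exact (map_prod (PiTensorProduct.tprodMonoidHom Γ(S, V) (A := fun _ : Fin d => Γ(X0, ⊤))) _ _).trans (by simp [Finset.univ_prod_mulSingle])
    have e1 : PiTensorProduct.tprod Γ(S', V') (v ∘ b) = ∏ i, PiTensorProduct.singleAlgHom (R := Γ(S', V'))
        (A := fun _ : Fin d => Γ(X1, ⊤)) i (v (b i)) := by
      simp only [PiTensorProduct.singleAlgHom_apply, MonoidHom.mulSingle_apply]
      rw [← Finset.univ_prod_mulSingle (v ∘ b)]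
      exact (map_prod (PiTensorProduct.tprodMonoidHom Γ(S', V') (A := fun _ : Fin d => Γ(X1, ⊤))) _ _).trans (by simp [Finset.univ_prod_mulSingle])
    rw [e0, e1]
    simp only [map_prod, hsingle]
  -- conclusion
  rw [← hw']
  have hspan := SymFlatAlg.mem_span_osum (I := SymFlatChart.permsOf I) v hv ht
  let K := Subring.closure (Ψ.appTop.hom '' (QuotDescOpen.invs ρF : Set _) ∪
      Set.range ((F'.ι ≫ WidePullback.base (fun _ : Fin d => f1)).appLE V' ⊤ eb).hom)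
  show r'.hom (θ' t) ∈ K
  clear ht hw'
  induction hspan using Submodule.span_induction with
  | mem x hx =>
    obtain ⟨c, rfl⟩ := hx
    refine Subring.subset_closure (Or.inl ⟨r.hom (θ (SymFlatAlg.osum (SymFlatChart.permsOf I) Γ(S, V) id c)), ?_, ?_⟩)
    · intro γ
      rw [hact, hθσ, SymTen.perm_apply,
        (SymFlatAlg.mem_invI _).mp (SymFlatAlg.osum_mem id c) _
          ((SymFlatChart.permsOf I).inv_mem (show ULift.up _ ∈ I from γ.2))]
    · simp only [SymFlatAlg.osum, map_sum]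
      exact Finset.sum_congr rfl fun c' _ => htprod c'
  | zero => rw [map_zero, map_zero]; exact K.zero_mem
  | add a b _ _ ha hb => rw [map_add, map_add]; exact K.add_mem ha hb
  | smul a x _ hx =>
    rw [Algebra.smul_def, map_mul, map_mul, hθa']
    refine K.mul_mem (Subring.subset_closure (Or.inr ⟨a, ?_⟩)) hx
    rw [← CommRingCat.comp_apply, Scheme.Hom.appLE_comp_appLE]

end Groth.Agent.H22Alg.SymCmpGen
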