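import Mathlib
import Groth.Prelude.Def_Omega3
import Groth.Prelude.Def_Frob
import Groth.Agent.H22Alg.SymCmpGen
import Groth.Agent.H26Sym.BC

/-!
# Derivations relative to the relative Frobenius (helper22)
-/

set_option autoImplicit false
set_option linter.style.haveILetI false
universe u
open CategoryTheory CategoryTheory.Limits AlgebraicGeometry Opposite TopologicalSpace

namespace Groth.Agent.H22Alg.RelFrobOmega

section general

variable {X Y : Scheme.{u}} {f : X ⟶ Y} {F : X.Modules} (d : OmegaSh.Der f F)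

theorem app_mul (U : X.Opens) (a b : Γ(X, U)) :
    d.app U (a * b) = a • d.app U b + b • d.app U a := d.d_mul a b

theorem app_map {U V : X.Opens} (i : V ≤ U) (a : Γ(X, U)) :
    d.app V (X.presheaf.map (homOfLE i).op a) = F.presheaf.map (homOfLE i).op (d.app U a) :=
  d.d_map (homOfLE i).op a

theorem app_app (V : Y.Opens) (a : Γ(Y, V)) : d.app (f ⁻¹ᵁ V) (f.app V a) = 0 :=
  d.d_app (X := op V) a

theorem app_appLE (V : Y.Opens) (U : X.Opens) (e : U ≤ f ⁻¹ᵁ V) (a : Γ(Y, V)) :
    d.app U (f.appLE V U e a) = 0 := by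
  show d.app U (X.presheaf.map (homOfLE e).op (f.app V a)) = 0
  rw [app_map, app_app, map_zero]

theorem app_pow (U : X.Opens) (a : Γ(X, U)) : ∀ n : ℕ,
    d.app U (a ^ n) = ((n : Γ(X, U)) * a ^ (n - 1)) • d.app U a
  | 0 => by rw [pow_zero, Nat.cast_zero, zero_mul, zero_smul]; exact d.d_one (op U)
  | n + 1 => by
    rw [pow_succ, app_mul, app_pow U a n, smul_smul, ← add_smul]
    congr 1
    rcases n with _ | n
    · simp
    · simp [pow_succ]; ring

theorem app_pow_char (p : ℕ) (U : X.Opens) (hp : ((p : ℕ) : Γ(X, U)) = 0) (a : Γ(X, U)) :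
    d.app U (a ^ p) = 0 := by
  rw [app_pow, hp, zero_mul, zero_smul]

end general

variable (p : ℕ) [Fact p.Prime] {X S : Scheme.{u}} [FrobSch.IsCharP S p] (f : X ⟶ S)

theorem app_relFrob {F : X.Modules} (d : OmegaSh.Der f F) (W : (FrobSch.frobTwist f p).Opens)
    (s : Γ(FrobSch.frobTwist f p, W)) :
    d.app (FrobSch.relFrob f p ⁻¹ᵁ W) ((FrobSch.relFrob f p).app W s) = 0 := by
  haveI : FrobSch.IsCharP X p := FrobSch.IsCharP.of_hom f p
  let g := FrobSch.relFrob f p
  let q₁ := pullback.fst f (FrobSch.frob S p)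
  let q₂ := pullback.snd f (FrobSch.frob S p)
  have hbox : ∀ (V : S.Opens) (_ : IsAffineOpen V) (U : X.Opens) (_ : IsAffineOpen U) (_ : U ≤ f ⁻¹ᵁ V)
      (Z : (FrobSch.frobTwist f p).Opens) (_ : Z = q₁ ⁻¹ᵁ U ⊓ q₂ ⁻¹ᵁ V) (z : Γ(FrobSch.frobTwist f p, Z)),
      d.app (g ⁻¹ᵁ Z) (g.app Z z) = 0 := by
    intro V hV U hU hUV Z hZ z
    have hz : z ∈ Subring.closure (Set.range (q₁.appLE U Z (by simp [hZ])).hom ∪
        Set.range (q₂.appLE V Z (by simp [hZ])).hom) :=
      (SymCmpGen.closure_eq_top_of_isPushout (H26Sym.isPushout_appLE (IsPullback.of_hasPullback f (FrobSch.frob S p))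
        hV hV hU (UT := V) (by simp) hUV hZ)).ge (Subring.mem_top z)
    induction hz using Subring.closure_induction with
    | mem x hx =>
      rcases hx with ⟨b, rfl⟩ | ⟨a, rfl⟩
      · have e : g.app Z ((q₁.appLE U Z (by simp [hZ])).hom b) =
            (X.presheaf.map (homOfLE (show g ⁻¹ᵁ Z ≤ U by
              rw [hZ]; intro x hx; have := hx.1; simpa [g, q₁, ← Scheme.Hom.comp_apply] using this)).op b) ^ p := by
          rw [Scheme.Hom.app_eq_appLE, ← CommRingCat.comp_apply, Scheme.Hom.appLE_comp_appLE]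
          simp only [g, q₁, FrobSch.relFrob_fst]
          show X.presheaf.map _ ((FrobSch.frob X p).app U b) = _
          rw [FrobSch.frob_app]
          exact map_pow (X.presheaf.map _).hom b p
        rw [e]
        exact app_pow_char d p _ (FrobSch.natCast_eq_zero_app X p _) _
      · have e : g.app Z ((q₂.appLE V Z (by simp [hZ])).hom a) =
            f.appLE V (g ⁻¹ᵁ Z) (by
              rw [hZ]; intro x hx; have := hx.2; simpa [g, q₂, ← Scheme.Hom.comp_apply] using this) a := by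
          rw [Scheme.Hom.app_eq_appLE, ← CommRingCat.comp_apply, Scheme.Hom.appLE_comp_appLE]
          simp only [g, q₂, FrobSch.relFrob_snd]
        rw [e]
        exact app_appLE d V _ _ a
    | zero => rw [map_zero, map_zero]
    | one => rw [map_one]; exact d.d_one _
    | add x y _ _ hx hy => rw [map_add, map_add, hx, hy, add_zero]
    | neg x _ hx => rw [map_neg, map_neg, hx, neg_zero]
    | mul x y _ _ hx hy => rw [map_mul, app_mul, hx, hy, smul_zero, smul_zero, add_zero]
  have hloc : ∀ w : W, ∃ (D : (FrobSch.frobTwist f p).Opens) (_ : D ≤ W), (w : FrobSch.frobTwist f p) ∈ D ∧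
      ∀ t : Γ(FrobSch.frobTwist f p, D), d.app (g ⁻¹ᵁ D) (g.app D t) = 0 := by
    rintro ⟨w, hw⟩
    obtain ⟨V, hV, hwV, -⟩ := exists_isAffineOpen_mem_and_subset (x := q₂ w) (U := ⊤) trivial
    obtain ⟨U, hU, hwU, hUV⟩ := exists_isAffineOpen_mem_and_subset (x := q₁ w) (U := f ⁻¹ᵁ V) (by
      show f (q₁ w) ∈ V
      rw [← Scheme.Hom.comp_apply, pullback.condition, Scheme.Hom.comp_apply]
      exact hwV)
    let Z := q₁ ⁻¹ᵁ U ⊓ q₂ ⁻¹ᵁ V
    have hZa : IsAffineOpen Z := H26Sym.isAffineOpen_inf_preimage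
      (IsPullback.of_hasPullback f (FrobSch.frob S p)) hV hV hU (UT := V) (by simp) hUV rfl
    obtain ⟨u, huW, huw⟩ := hZa.exists_basicOpen_le (V := W) ⟨w, hw⟩ ⟨hwU, hwV⟩
    refine ⟨_, huW, huw, fun s' => ?_⟩
    haveI := hZa.isLocalization_basicOpen u
    obtain ⟨t, ⟨_, n, rfl⟩, rfl⟩ := IsLocalization.exists_mk'_eq (Submonoid.powers u) s'
    have hres : ∀ z : Γ(FrobSch.frobTwist f p, Z),
        d.app (g ⁻¹ᵁ _) (g.app _ (algebraMap Γ(FrobSch.frobTwist f p, Z)
          Γ(FrobSch.frobTwist f p, (FrobSch.frobTwist f p).basicOpen u) z)) = 0 := by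
      intro z
      have hle := (FrobSch.frobTwist f p).basicOpen_le u
      have e : g.app ((FrobSch.frobTwist f p).basicOpen u) ((FrobSch.frobTwist f p).presheaf.map (homOfLE hle).op z) =
          X.presheaf.map (homOfLE (g.preimage_mono hle)).op (g.app Z z) :=
        ConcreteCategory.congr_hom (g.naturality (homOfLE hle).op) z
      show d.app _ (g.app _ ((FrobSch.frobTwist f p).presheaf.map (homOfLE hle).op z)) = 0
      rw [e, app_map, hbox V hV U hU hUV Z rfl z, map_zero]
    have hspec := congrArg (g.app ((FrobSch.frobTwist f p).basicOpen u))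
      (IsLocalization.mk'_spec Γ(FrobSch.frobTwist f p, (FrobSch.frobTwist f p).basicOpen u) t
        (⟨u ^ n, n, rfl⟩ : Submonoid.powers u))
    rw [map_mul] at hspec
    have h0 := congrArg (d.app _) hspec
    rw [app_mul, hres, hres, smul_zero, zero_add] at h0
    exact (((IsLocalization.map_units _ (⟨u ^ n, n, rfl⟩ : Submonoid.powers u)).map
      (g.app ((FrobSch.frobTwist f p).basicOpen u)).hom).smul_eq_zero).mp h0
  choose D hDW hwD hD using hloc
  refine TopCat.Sheaf.eq_of_locally_eq' ⟨F.presheaf, F.isSheaf⟩ (fun w : W => g ⁻¹ᵁ D w) (g ⁻¹ᵁ W)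
    (fun w => homOfLE (g.preimage_mono (hDW w))) (fun x hx => TopologicalSpace.Opens.mem_iSup.mpr ⟨⟨g x, hx⟩, hwD ⟨g x, hx⟩⟩) _ _ fun w => ?_
  show F.presheaf.map (homOfLE (g.preimage_mono (hDW w))).op (d.app (g ⁻¹ᵁ W) (g.app W s)) =
    F.presheaf.map (homOfLE (g.preimage_mono (hDW w))).op 0
  rw [map_zero, ← app_map]
  have e : X.presheaf.map (homOfLE (g.preimage_mono (hDW w))).op (g.app W s) =
      g.app (D w) ((FrobSch.frobTwist f p).presheaf.map (homOfLE (hDW w)).op s) :=
    (ConcreteCategory.congr_hom (g.naturality (homOfLE (hDW w)).op) s).symm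
  rw [e]
  exact hD w _

theorem der_kills_comp {X Y S : Scheme.{u}} (g : X ⟶ Y) (q : Y ⟶ S) (f : X ⟶ S) (h : g ≫ q = f)
    {F : X.Modules} (D : OmegaSh.Der g F) (V : S.Opens) (a : Γ(S, V)) :
    D.app (f ⁻¹ᵁ V) (f.app V a) = 0 := by
  subst h
  exact app_app D (q ⁻¹ᵁ V) (q.app V a)

/-- A universal derivation is universal over the relative Frobenius twist. -/
theorem exists_universal (Ω : X.Modules) (d : OmegaSh.Der f Ω) (hd : OmegaSh.IsUniversal d) :
    ∃ d' : OmegaSh.Der (FrobSch.relFrob f p) Ω,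
      (∀ (U : X.Opens) (s : Γ(X, U)), d'.app U s = d.app U s) ∧ OmegaSh.IsUniversal d' := by
  let d' : OmegaSh.Der (FrobSch.relFrob f p) Ω :=
    { d := d.d
      d_mul := d.d_mul
      d_map := d.d_map
      d_app := fun {W} a => app_relFrob p f d W.unop a }
  refine ⟨d', fun U s => rfl, fun F D => ?_⟩
  let D₀ : OmegaSh.Der f F :=
    { d := D.d
      d_mul := D.d_mul
      d_map := D.d_map
      d_app := fun {V} a => der_kills_comp (FrobSch.relFrob f p) _ f (FrobSch.relFrob_snd f p) D V.unop a }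
  obtain ⟨α, hα, huniq⟩ := hd F D₀
  refine ⟨α, ?_, fun β hβ => huniq β ?_⟩
  · refine PresheafOfModules.Derivation.ext (funext fun U => ?_)
    exact AddMonoidHom.ext fun s => PresheafOfModules.Derivation.congr_d hα s
  · refine PresheafOfModules.Derivation.ext (funext fun U => ?_)
    exact AddMonoidHom.ext fun s => PresheafOfModules.Derivation.congr_d hβ s

end Groth.Agent.H22Alg.RelFrobOmega
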