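import Mathlib
import Groth.Agent.H22Alg.FieldIrred
import Groth.Agent.H22Alg.VarDim
import Groth.Prelude.Def_Curv2
import Groth.Agent.S1540

/-! A separable element of the function field spanning an irreducible base change is in the base field. -/

set_option autoImplicit false
universe u
open CategoryTheory CategoryTheory.Limits AlgebraicGeometry
attribute [local instance] Curv2.resAlgebra Curv2.stalkAlgebra
open scoped TensorProduct IntermediateField

namespace Groth.Agent.S7594

theorem mem_range_of_irreducible (k : Type u) [Field k] (X : Scheme.{u}) [X.Over (Spec (CommRingCat.of k))] [IrreducibleSpace X]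
    (a : X.residueField (genericPoint X)) (ha : IsSeparable k a)
    [IrreducibleSpace ↥(pullback (X ↘ Spec (CommRingCat.of k)) (Spec.map (CommRingCat.ofHom (algebraMap k k⟮a⟯))))] :
    a ∈ Set.range (algebraMap k (X.residueField (genericPoint X))) := by
  have key : ∀ (L : Type u) [Field L] [Algebra k L],
      IsIrreducible (pullback.fst (X ↘ Spec (CommRingCat.of k)) (Spec.map (CommRingCat.ofHom (algebraMap k L))) ⁻¹' {genericPoint X}) ↔
        IrreducibleSpace ↥(Spec (CommRingCat.of (X.residueField (genericPoint X) ⊗[k] L))) := by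
    intro L _ _
    set f := X ↘ Spec (CommRingCat.of k)
    set g := Spec.map (CommRingCat.ofHom (algebraMap k L))
    have e0 : X.fromSpecResidueField (genericPoint X) ≫ f =
        Spec.map (CommRingCat.ofHom (algebraMap k (X.residueField (genericPoint X)))) :=
      Groth.Agent.H22Alg.VarDim.fromSpecResidueField_over k X _
    let e : (pullback.fst f g).fiber (genericPoint X) ≅ Spec (CommRingCat.of (X.residueField (genericPoint X) ⊗[k] L)) :=
      (pullbackSymmetry _ _ ≪≫ pullbackRightPullbackFstIso f g
        (X.fromSpecResidueField (genericPoint X))) ≪≫ pullback.congrHom e0 rfl ≪≫ pullbackSpecIso k _ L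
    rw [← (e.hom.homeomorph.symm.trans ((pullback.fst f g).fiberHomeo (genericPoint X))).symm.irreducibleSpace_iff,
      ← isIrreducible_iff_irreducibleSpace]
  by_contra hne
  haveI : FiniteDimensional k k⟮a⟯ := IntermediateField.adjoin.finiteDimensional ha.isIntegral
  set g := Spec.map (CommRingCat.ofHom (algebraMap k k⟮a⟯))
  have hsurj := Groth.Agent.H22Alg.GaloisFibres.surjective_bcπ (X ↘ Spec (CommRingCat.of k)) k⟮a⟯
  have hξ : pullback.fst (X ↘ Spec (CommRingCat.of k)) g (genericPoint _) = genericPoint X := by
    obtain ⟨z, hz⟩ := hsurj (genericPoint X)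
    have h1 := (genericPoint_specializes z).map (pullback.fst (X ↘ Spec (CommRingCat.of k)) g).continuous
    rw [hz] at h1
    exact (h1.antisymm (genericPoint_specializes _)).eq
  have hirr : IsIrreducible (pullback.fst (X ↘ Spec (CommRingCat.of k)) g ⁻¹' {genericPoint X}) := by
    refine isIrreducible_iff_closure.mp ?_
    rw [show closure (pullback.fst (X ↘ Spec (CommRingCat.of k)) g ⁻¹' {genericPoint X}) = Set.univ from
      Set.eq_univ_of_forall fun z => closure_mono (Set.singleton_subset_iff.mpr (show genericPoint _ ∈ pullback.fst (X ↘ Spec (CommRingCat.of k)) g ⁻¹' {genericPoint X} from hξ)) (genericPoint_specializes z).mem_closure]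
    exact IrreducibleSpace.isIrreducible_univ _
  haveI := (key k⟮a⟯).mp hirr
  have gen : ∀ (R A : Type u) [Field R] [CommRing A] [Algebra R A] [Module.Finite R A]
      [IrreducibleSpace (PrimeSpectrum A)] (P Q : PrimeSpectrum A), P = Q := by
    intro R A _ _ _ _ _ P Q
    haveI : IsArtinianRing A := IsArtinianRing.of_finite R A
    have hP := (genericPoint_specializes P)
    have hQ := (genericPoint_specializes Q)
    rw [← PrimeSpectrum.le_iff_specializes] at hP hQ
    have hm : (genericPoint (PrimeSpectrum A)).asIdeal.IsMaximal := IsArtinianRing.isMaximal_of_isPrime _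
    exact PrimeSpectrum.ext ((hm.eq_of_le P.2.ne_top hP).symm.trans (hm.eq_of_le Q.2.ne_top hQ))
  haveI : IrreducibleSpace (PrimeSpectrum ((X.residueField (genericPoint X)) ⊗[k] k⟮a⟯)) :=
    show IrreducibleSpace ↥(Spec (CommRingCat.of ((X.residueField (genericPoint X)) ⊗[k] k⟮a⟯))) from inferInstance
  have hsub := gen (X.residueField (genericPoint X)) ((X.residueField (genericPoint X)) ⊗[k] k⟮a⟯)
  let Ω := AlgebraicClosure (X.residueField (genericPoint X))
  have hdeg : 1 < (minpoly k a).natDegree := by
    by_contra! hle
    exact hne (minpoly.natDegree_eq_one_iff.mp (le_antisymm hle (minpoly.natDegree_pos ha.isIntegral)))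
  obtain ⟨b, hb, hbne⟩ : ∃ b : Ω, Polynomial.aeval b (minpoly k a) = 0 ∧ b ≠ algebraMap (X.residueField (genericPoint X)) Ω a := by
    have hc : Fintype.card ((minpoly k a).rootSet Ω) = (minpoly k a).natDegree :=
      Polynomial.card_rootSet_eq_natDegree ha (IsAlgClosed.splits _)
    obtain ⟨b, hb⟩ := Fintype.exists_ne_of_one_lt_card (hc.symm ▸ hdeg)
      ⟨algebraMap (X.residueField (genericPoint X)) Ω a, (Polynomial.mem_rootSet_of_ne (minpoly.ne_zero ha.isIntegral)).mpr
        (by rw [Polynomial.aeval_algebraMap_apply, minpoly.aeval, map_zero])⟩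
    exact ⟨b, (Polynomial.mem_rootSet_of_ne (minpoly.ne_zero ha.isIntegral)).mp b.2, fun h => hb (Subtype.ext h)⟩
  let σ : k⟮a⟯ →ₐ[k] Ω := (IntermediateField.adjoin.powerBasis ha.isIntegral).lift b (by
    rw [IntermediateField.adjoin.powerBasis_gen ha.isIntegral, IntermediateField.minpoly_gen]; exact hb)
  let m : (X.residueField (genericPoint X)) ⊗[k] k⟮a⟯ →ₐ[(X.residueField (genericPoint X))] (X.residueField (genericPoint X)) :=
    Algebra.TensorProduct.lift (Algebra.ofId (X.residueField (genericPoint X)) (X.residueField (genericPoint X))) (IntermediateField.val k⟮a⟯) fun _ _ => .all _ _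
  let m' : (X.residueField (genericPoint X)) ⊗[k] k⟮a⟯ →ₐ[(X.residueField (genericPoint X))] Ω := Algebra.TensorProduct.lift (Algebra.ofId (X.residueField (genericPoint X)) Ω) σ fun _ _ => .all _ _
  have heq := hsub ⟨RingHom.ker m.toRingHom, RingHom.ker_isPrime _⟩ ⟨RingHom.ker m'.toRingHom, RingHom.ker_isPrime _⟩
  set t : (X.residueField (genericPoint X)) ⊗[k] k⟮a⟯ := (1 : (X.residueField (genericPoint X))) ⊗ₜ IntermediateField.AdjoinSimple.gen k a - a ⊗ₜ 1
  have ht : t ∈ RingHom.ker m.toRingHom := by
    simp [t, m, RingHom.mem_ker]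
  have heq' : RingHom.ker m.toRingHom = RingHom.ker m'.toRingHom := congrArg PrimeSpectrum.asIdeal heq
  rw [heq'] at ht
  refine hbne ?_
  have hσ : σ (IntermediateField.AdjoinSimple.gen k a) = b := by
    rw [← IntermediateField.adjoin.powerBasis_gen ha.isIntegral]
    exact PowerBasis.lift_gen _ _ _
  simpa [t, m', hσ, RingHom.mem_ker, sub_eq_zero, Algebra.ofId_apply] using ht

theorem geometricallyIrreducible_iff (k : Type u) [Field k] (X : Scheme.{u}) [X.Over (Spec (CommRingCat.of k))] :
    GeometricallyIrreducible (X ↘ (Spec (CommRingCat.of k))) ↔ IrreducibleSpace ↥(pullback (X ↘ (Spec (CommRingCat.of k))) (X ↘ (Spec (CommRingCat.of k)))) := by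
  set f := X ↘ Spec (CommRingCat.of k)
  haveI : DiscreteTopology ↥(Spec (CommRingCat.of k)) := inferInstance
  haveI : UniversallyOpen f := Groth.Agent.H06Desc.universallyOpen_of_discreteTopology f
  constructor
  · intro h
    haveI := GeometricallyIrreducible.irreducibleSpace_of_subsingleton f
    infer_instance
  · intro h
    haveI : Nonempty X := ⟨pullback.fst f f (Classical.arbitrary _)⟩
    haveI : Surjective f := ⟨fun s => ⟨Classical.arbitrary X, Subsingleton.elim _ _⟩⟩
    haveI : IrreducibleSpace X := Groth.Agent.H06Desc.irreducibleSpace_of_surjective (pullback.fst f f)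
    set ξ := genericPoint X
    set K := X.residueField ξ
    set gK := X.fromSpecResidueField ξ ≫ f
    have e0 : gK = Spec.map (CommRingCat.ofHom (algebraMap k K)) :=
      Groth.Agent.H22Alg.VarDim.fromSpecResidueField_over k X _
    have h1 : IrreducibleSpace ↥(pullback f gK) := by
      let e : (pullback.snd f f).fiber ξ ≅ pullback f gK := pullbackLeftPullbackSndIso f f (X.fromSpecResidueField ξ)
      rw [← e.hom.homeomorph.irreducibleSpace_iff, ((pullback.snd f f).fiberHomeo ξ).irreducibleSpace_iff,
        ← isIrreducible_iff_irreducibleSpace]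
      haveI : Surjective (pullback.snd f f) := inferInstance
      have hg : pullback.snd f f (genericPoint _) = ξ := by
        obtain ⟨z, hz⟩ := (pullback.snd f f).surjective ξ
        have h2 := (genericPoint_specializes z).map (pullback.snd f f).continuous
        rw [hz] at h2
        exact (h2.antisymm (genericPoint_specializes _)).eq
      refine isIrreducible_iff_closure.mp ?_
      rw [show closure (pullback.snd f f ⁻¹' {ξ}) = Set.univ from Set.eq_univ_of_forall fun z =>
        closure_mono (Set.singleton_subset_iff.mpr (show genericPoint _ ∈ pullback.snd f f ⁻¹' {ξ} from hg))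
          (genericPoint_specializes z).mem_closure]
      exact IrreducibleSpace.isIrreducible_univ _
    refine (Groth.Agent.S1540.result k X).mpr fun a ha => ?_
    by_contra hne
    haveI : FiniteDimensional k k⟮a⟯ := IntermediateField.adjoin.finiteDimensional ha.isIntegral
    set gL := Spec.map (CommRingCat.ofHom (algebraMap k k⟮a⟯))
    let r : Spec (CommRingCat.of K) ⟶ Spec (CommRingCat.of k⟮a⟯) := Spec.map (CommRingCat.ofHom (algebraMap k⟮a⟯ K))
    haveI : Surjective r := ⟨fun s => ⟨Classical.arbitrary _, Subsingleton.elim _ _⟩⟩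
    have hr : gK = r ≫ gL := by
      rw [e0]
      simp only [r, gL, ← Spec.map_comp, ← CommRingCat.ofHom_comp, ← IsScalarTower.algebraMap_eq]
    let φ : pullback f gK ⟶ pullback f gL := (pullback.congrHom rfl hr).hom ≫ (pullbackLeftPullbackSndIso f gL r).inv ≫ pullback.fst _ _
    haveI : Surjective φ := inferInstance
    haveI : IrreducibleSpace ↥(pullback f gL) := Groth.Agent.H06Desc.irreducibleSpace_of_surjective φ
    exact hne (mem_range_of_irreducible k X a ha)

end Groth.Agent.S7594
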