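import Groth.Agent.H22Alg.TwistPoint
import Groth.Agent.H22Alg.GammaBC
import Groth.Agent.H17.PullSectLocal
import Groth.Agent.H11Ample.Converse
import Groth.Agent.S14444
import Mathlib.RingTheory.FiniteType

/-! # The base change map on global sections. -/

set_option autoImplicit false
set_option linter.style.haveILetI false
set_option linter.unusedSectionVars false

universe u

open CategoryTheory CategoryTheory.Limits AlgebraicGeometry Opposite TopologicalSpace
open scoped TensorProduct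

noncomputable section

namespace Groth.Agent.H22Alg.SectBC

open Groth.Agent.LeadBC Groth.Agent.LeadFF Groth.Agent.H10Coh
open Groth.Agent.H25Theta (pb pT pC pI tI pO)

attribute [local instance 10000] H10Coh.hasSheafifyAb H10Coh.hasWeakSheafifyAb H10Coh.hasExtAb H10Coh.enoughInjAb

section Basic

variable {A B : Type u} [CommRing A] [CommRing B] [Algebra A B] {X X' : Scheme.{u}}
  [X.Over (Spec (CommRingCat.of A))] [X'.Over (Spec (CommRingCat.of B))] {q : X' ⟶ X}
  (hsq : IsPullback q (X' ↘ Spec (CommRingCat.of B)) (X ↘ Spec (CommRingCat.of A))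
    (Spec.map (CommRingCat.ofHom (algebraMap A B))))

/-- `B ⊗ Γ(X, G) → Γ(X', q^* G)`. -/
abbrev bcSect (G : X.Modules) [G.IsQuasicoherent] :
    B ⊗[A] sec A G ⊤ →ₗ[B] sec B (qF q G) (⊤ : X'.Opens) :=
  LeadFBC.pullExt A B hsq G ⊤

theorem bcSect_tmul (G : X.Modules) [G.IsQuasicoherent] (b : B) (x : sec A G ⊤) :
    bcSect hsq G (b ⊗ₜ x) = b • (show sec B (qF q G) (⊤ : X'.Opens) from OmegaSh.pullSect q G ⊤ x) := by
  have h : LeadFBC.pullExt A B hsq G ⊤ (b ⊗ₜ x) =
      b • (show sec B (qF q G) (q ⁻¹ᵁ ⊤) from OmegaSh.pullSect q G ⊤ x) := by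
    letI : Module A (sec B (qF q G) (q ⁻¹ᵁ ⊤)) := Module.compHom _ (algebraMap A B)
    haveI : IsScalarTower A B (sec B (qF q G) (q ⁻¹ᵁ ⊤)) := .of_algebraMap_smul fun _ _ => rfl
    refine (LinearMap.liftBaseChange_tmul _ _ _ _).trans (congrArg (b • ·) ?_)
    exact H10Coh.mres_self _ _ _
  exact h

theorem bcSect_one (G : X.Modules) [G.IsQuasicoherent] (x : sec A G ⊤) :
    bcSect hsq G ((1 : B) ⊗ₜ x) = (show sec B (qF q G) (⊤ : X'.Opens) from OmegaSh.pullSect q G ⊤ x) := by
  rw [bcSect_tmul, one_smul]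

/-- The base change map on sections is bijective. -/
def Bij (G : X.Modules) [G.IsQuasicoherent] : Prop := Function.Bijective (bcSect hsq G)

theorem bij_of_isIso (G : X.Modules) [G.IsQuasicoherent]
    (hN : Coh.IsQCoh ((Scheme.Modules.pushforward (X ↘ Spec (CommRingCat.of A))).obj G))
    (h : IsIso (((Scheme.Modules.pullbackPushforwardAdjunction
      (Spec.map (CommRingCat.ofHom (algebraMap A B)))).homEquiv _ _).symm
        (GenBC.τ₀ (X ↘ Spec (CommRingCat.of A)) G hsq))) : Bij hsq G := by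
  let f := X ↘ Spec (CommRingCat.of A)
  let f' := X' ↘ Spec (CommRingCat.of B)
  let g := Spec.map (CommRingCat.ofHom (algebraMap A B))
  have hle : (⊤ : (Spec (CommRingCat.of B)).Opens) ≤ g ⁻¹ᵁ (⊤ : (Spec (CommRingCat.of A)).Opens) := fun _ _ => trivial
  have hle' : f' ⁻¹ᵁ (⊤ : (Spec (CommRingCat.of B)).Opens) ≤ q ⁻¹ᵁ (f ⁻¹ᵁ (⊤ : (Spec (CommRingCat.of A)).Opens)) :=
    fun _ _ => trivial
  letI := (g.appLE ⊤ ⊤ hle).hom.toAlgebra
  let N := (Scheme.Modules.pushforward f).obj G
  let P := (Scheme.Modules.pushforward f').obj ((Scheme.Modules.pullback q).obj G)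
  letI := Module.compHom Γ(P, ⊤) (g.appLE ⊤ ⊤ hle).hom
  haveI : IsScalarTower Γ(Spec (CommRingCat.of A), ⊤) Γ(Spec (CommRingCat.of B), ⊤) Γ(P, ⊤) :=
    .of_algebraMap_smul fun _ _ => rfl
  obtain ⟨c, hc, hcf⟩ := GenBC.exists_transpose_app g hN (GenBC.τ₀ f G hsq)
    (isAffineOpen_top _) (isAffineOpen_top _) hle
  have hK : Function.Bijective
      (LinearMap.liftBaseChange Γ(Spec (CommRingCat.of B), ⊤) (H10Coh.FBC.locLin g (GenBC.τ₀ f G hsq) hle)) := by
    rw [hcf]
    exact (ConcreteCategory.bijective_of_isIso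
      ((((Scheme.Modules.pullbackPushforwardAdjunction g).homEquiv _ _).symm (GenBC.τ₀ f G hsq)).app ⊤)).comp hc
  let σA := (Scheme.ΓSpecIso (CommRingCat.of A)).commRingCatIsoToRingEquiv
  let σB := (Scheme.ΓSpecIso (CommRingCat.of B)).commRingCatIsoToRingEquiv
  have hσ : ∀ r : Γ(Spec (CommRingCat.of A), ⊤), σB (g.appLE ⊤ ⊤ hle r) = algebraMap A B (σA r) := fun r => by
    rw [GammaBC.appLE_top g hle]
    exact congr($(Scheme.ΓSpecIso_naturality (CommRingCat.ofHom (algebraMap A B))) r)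
  let ν : Γ(Spec (CommRingCat.of B), ⊤) ⊗[Γ(Spec (CommRingCat.of A), ⊤)] Γ(N, ⊤) →+ B ⊗[A] sec A G ⊤ :=
    TensorProduct.liftAddHom
      (AddMonoidHom.mk' (fun b => AddMonoidHom.mk' (fun m : Γ(N, ⊤) =>
          (σB b ⊗ₜ (show sec A G ⊤ from m) : B ⊗[A] sec A G ⊤))
        fun m n => TensorProduct.tmul_add _ _ _)
        fun a b => by ext m; exact (congrArg (· ⊗ₜ[A] _) (map_add σB a b)).trans (TensorProduct.add_tmul _ _ _))
      fun r b m => by
        show σB (g.appLE ⊤ ⊤ hle r * b) ⊗ₜ (show sec A G ⊤ from m) =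
          σB b ⊗ₜ[A] (show sec A G ⊤ from
            ((show Γ(X, (⊤ : X.Opens)) from f.app ⊤ r) • (show Γ(G, (⊤ : X.Opens)) from m)))
        rw [map_mul, hσ, ← Algebra.smul_def, TensorProduct.smul_tmul]
        refine congrArg (σB b ⊗ₜ[A] ·) ?_
        show LeadBC.sc A (⊤ : X.Opens) (σA r) • (show Γ(G, ⊤) from m) = _
        refine congrArg (· • (show Γ(G, ⊤) from m)) ?_
        show f.appLE ⊤ ⊤ _ ((Scheme.ΓSpecIso (CommRingCat.of A)).inv (σA r)) = _
        rw [show (Scheme.ΓSpecIso (CommRingCat.of A)).inv (σA r) = r from σA.symm_apply_apply r,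
          Scheme.Hom.app_eq_appLE]
        rfl
  have hθν : ∀ z, bcSect hsq G (ν z) = (show sec B (qF q G) (⊤ : X'.Opens) from
      LinearMap.liftBaseChange Γ(Spec (CommRingCat.of B), ⊤) (H10Coh.FBC.locLin g (GenBC.τ₀ f G hsq) hle) z) := by
    intro z
    induction z using TensorProduct.induction_on with
    | zero => rw [map_zero, map_zero, map_zero]; rfl
    | add a b ha hb => rw [map_add, map_add, ha, hb, map_add]; rfl
    | tmul b m =>
      erw [bcSect_tmul, LinearMap.liftBaseChange_tmul]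
      show LeadBC.sc B (⊤ : X'.Opens) (σB b) • (show Γ(qF q G, (⊤ : X'.Opens)) from OmegaSh.pullSect q G ⊤ m) =
        (show Γ(X', (⊤ : X'.Opens)) from f'.app ⊤ b) • _
      have hb : LeadBC.sc B (⊤ : X'.Opens) (σB b) = (show Γ(X', (⊤ : X'.Opens)) from f'.app ⊤ b) := by
        show f'.appLE ⊤ _ _ ((Scheme.ΓSpecIso (CommRingCat.of B)).inv (σB b)) = _
        rw [show (Scheme.ΓSpecIso (CommRingCat.of B)).inv (σB b) = b from σB.symm_apply_apply b,
          Scheme.Hom.app_eq_appLE]
        rfl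
      rw [hb]
      refine congrArg ((show Γ(X', (⊤ : X'.Opens)) from f'.app ⊤ b) • ·) ?_
      refine Eq.trans ?_ (Seesaw.locLin_τ₀ f G hsq hle hle' m).symm
      exact (H10Coh.mres_self _ _ _).symm
  have hνs : Function.Surjective ν := fun w => by
    induction w using TensorProduct.induction_on with
    | zero => exact ⟨0, map_zero ν⟩
    | tmul b m => exact ⟨σB.symm b ⊗ₜ (show Γ(N, ⊤) from m),
        show σB (σB.symm b) ⊗ₜ[A] m = b ⊗ₜ[A] m by rw [σB.apply_symm_apply]⟩
    | add a b ha hb => obtain ⟨z, rfl⟩ := ha; obtain ⟨z', rfl⟩ := hb; exact ⟨z + z', map_add ν z z'⟩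
  refine ⟨fun w w' hw => ?_, fun y => ?_⟩
  · obtain ⟨z, rfl⟩ := hνs w
    obtain ⟨z', rfl⟩ := hνs w'
    rw [hθν, hθν] at hw
    rw [hK.1 hw]
  · obtain ⟨z, hz⟩ := hK.2 y
    exact ⟨ν z, (hθν z).trans hz⟩

theorem bij_of_flat [Module.Flat A B] [CompactSpace X] [QuasiSeparatedSpace X]
    (G : X.Modules) [G.IsQuasicoherent] : Bij hsq G := by
  let f := X ↘ Spec (CommRingCat.of A)
  let g := Spec.map (CommRingCat.ofHom (algebraMap A B))
  haveI : Coh.IsQCoh G := ‹G.IsQuasicoherent›
  haveI : Flat g := Flat.SpecMap_iff.2 (RingHom.flat_algebraMap_iff.2 inferInstance)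
  haveI : QuasiCompact f := (quasiCompact_iff_compactSpace f).2 inferInstance
  haveI : QuasiSeparated f := (quasiSeparated_iff_quasiSeparatedSpace f).2 inferInstance
  refine bij_of_isIso hsq G (H10Coh.isQuasicoherent_pushforward f G) ?_
  rw [← Seesaw.bc0Adj_eq f hsq G]
  have h0 := Groth.Agent.S11133.result f g q _ hsq G
  rw [CohBC.bc0Adj, Adjunction.homEquiv_counit]
  simp only [Functor.map_comp, Category.assoc] at h0 ⊢
  simpa only [Iso.trans_hom, NatTrans.comp_app, Iso.symm_hom, Functor.map_comp, Category.assoc] using h0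

theorem bij_of_vanishing [IsProper (X ↘ Spec (CommRingCat.of A))]
    [LocallyOfFinitePresentation (X ↘ Spec (CommRingCat.of A))] (G : X.Modules) [G.IsQuasicoherent]
    (hfp : CohB1.IsFP G) (hfl : FlatMod.IsFlatOver (X ↘ Spec (CommRingCat.of A)) G)
    (h1 : ∀ v, Subsingleton (CohIII.fiberH (X ↘ Spec (CommRingCat.of A)) G v 1)) :
    Bij hsq G ∧ Module.Finite A (sec A G ⊤) ∧ Module.Projective A (sec A G ⊤) := by
  let f := X ↘ Spec (CommRingCat.of A)
  haveI : Coh.IsQCoh G := ‹G.IsQuasicoherent›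
  obtain ⟨hlf, hbc⟩ := Groth.Agent.S14444.result f G hfp hfl h1
  refine ⟨bij_of_isIso hsq G (H10Coh.isQuasicoherent_pushforward f G) ?_, ?_⟩
  · rw [← Seesaw.bc0Adj_eq f hsq G, CohBC.bc0Adj]
    exact hbc q _ _ hsq
  · obtain ⟨hfin, hproj⟩ := H8Props.FinLocFree.finite_projective_sections _ hlf (isAffineOpen_top _)
    let σA := (Scheme.ΓSpecIso (CommRingCat.of A)).commRingCatIsoToRingEquiv
    letI : RingHomInvPair (σA.toRingHom) (σA.symm.toRingHom) := RingHomInvPair.of_ringEquiv σA
    letI : RingHomInvPair (σA.symm.toRingHom) (σA.toRingHom) := RingHomInvPair.of_ringEquiv σA.symm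
    let e : Γ((Scheme.Modules.pushforward f).obj G, ⊤) ≃ₛₗ[σA.toRingHom] sec A G ⊤ :=
      { toFun := fun z => z, invFun := fun z => z, left_inv := fun _ => rfl, right_inv := fun _ => rfl,
        map_add' := fun _ _ => rfl
        map_smul' := fun r z => by
          show (show Γ(X, (⊤ : X.Opens)) from f.app ⊤ r) • (show Γ(G, (⊤ : X.Opens)) from z) =
            LeadBC.sc A (⊤ : X.Opens) (σA r) • (show Γ(G, (⊤ : X.Opens)) from z)
          refine congrArg (· • (show Γ(G, (⊤ : X.Opens)) from z)) ?_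
          show _ = f.appLE ⊤ ⊤ _ ((Scheme.ΓSpecIso (CommRingCat.of A)).inv (σA r))
          rw [show (Scheme.ΓSpecIso (CommRingCat.of A)).inv (σA r) = r from σA.symm_apply_apply r,
            Scheme.Hom.app_eq_appLE]
          rfl }
    haveI := hfin
    haveI := hproj
    exact ⟨Module.Finite.of_surjective e.toLinearMap e.surjective, Module.Projective.of_ringEquiv e⟩

theorem bcSect_natural {G G' : X.Modules} [G.IsQuasicoherent] [G'.IsQuasicoherent] (e : G ⟶ G')
    (z : B ⊗[A] sec A G ⊤) :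
    bcSect hsq G' ((appL A e ⊤).lTensor B z) = appL B ((Scheme.Modules.pullback q).map e) (⊤ : X'.Opens) (bcSect hsq G z) := by
  induction z using TensorProduct.induction_on with
  | zero => simp only [map_zero]
  | add x y hx hy => simp only [map_add, hx, hy]
  | tmul b x =>
    rw [LinearMap.lTensor_tmul, bcSect_tmul, bcSect_tmul, map_smul]
    exact congrArg (b • ·) (H17.PullSect.pullSect_natural q e ⊤ x)

theorem Bij.of_iso {G G' : X.Modules} [G.IsQuasicoherent] [G'.IsQuasicoherent] (e : G ≅ G')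
    (h : Bij hsq G) : Bij hsq G' := by
  have hb : ∀ {H H' : X'.Modules} (i : H ≅ H') (V : X'.Opens), Function.Bijective (appL B i.hom V) := fun i V =>
    ConcreteCategory.bijective_of_isIso (i.hom.app V)
  have hb' : Function.Bijective (appL A e.hom (⊤ : X.Opens)) :=
    ConcreteCategory.bijective_of_isIso (e.hom.app ⊤)
  have hl : Function.Bijective ((appL A e.hom (⊤ : X.Opens)).lTensor B) :=
    (LinearEquiv.lTensor B (LinearEquiv.ofBijective _ hb')).bijective
  have hc : Function.Bijective (bcSect hsq G' ∘ (appL A e.hom (⊤ : X.Opens)).lTensor B) := by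
    rw [show bcSect hsq G' ∘ (appL A e.hom (⊤ : X.Opens)).lTensor B =
      appL B ((Scheme.Modules.pullback q).map e.hom) (⊤ : X'.Opens) ∘ bcSect hsq G from funext (bcSect_natural hsq e.hom)]
    exact (hb ((Scheme.Modules.pullback q).mapIso e) _).comp h
  exact (Function.Bijective.of_comp_iff _ hl).1 hc

end Basic

section Comp

variable {A B C : Type u} [CommRing A] [CommRing B] [CommRing C] [Algebra A B] [Algebra B C] [Algebra A C]
  [IsScalarTower A B C] {X X₁ X₂ : Scheme.{u}} [X.Over (Spec (CommRingCat.of A))]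
  [X₁.Over (Spec (CommRingCat.of B))] [X₂.Over (Spec (CommRingCat.of C))] {q₁ : X₁ ⟶ X} {q₂ : X₂ ⟶ X₁}
  (h₁ : IsPullback q₁ (X₁ ↘ Spec (CommRingCat.of B)) (X ↘ Spec (CommRingCat.of A))
    (Spec.map (CommRingCat.ofHom (algebraMap A B))))
  (h₂ : IsPullback q₂ (X₂ ↘ Spec (CommRingCat.of C)) (X₁ ↘ Spec (CommRingCat.of B))
    (Spec.map (CommRingCat.ofHom (algebraMap B C))))
  (h₃ : IsPullback (q₂ ≫ q₁) (X₂ ↘ Spec (CommRingCat.of C)) (X ↘ Spec (CommRingCat.of A))
    (Spec.map (CommRingCat.ofHom (algebraMap A C))))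
  (G : X.Modules) [G.IsQuasicoherent]

theorem bcSect_comp (z : C ⊗[B] (B ⊗[A] sec A G ⊤)) :
    bcSect h₃ G (TensorProduct.AlgebraTensorModule.cancelBaseChange A B C C (sec A G ⊤) z) =
      appL C ((Scheme.Modules.pullbackComp q₂ q₁).app G).hom (⊤ : X₂.Opens)
        (bcSect h₂ (qF q₁ G) ((bcSect h₁ G).lTensor C z)) := by
  induction z using TensorProduct.induction_on with
  | zero => rw [map_zero, map_zero, map_zero, map_zero, map_zero]
  | add x y hx hy =>
    rw [map_add, map_add, map_add, map_add, map_add, hx, hy]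
  | tmul c w =>
    induction w using TensorProduct.induction_on generalizing c with
    | zero => rw [TensorProduct.tmul_zero]; rw [map_zero, map_zero, map_zero, map_zero, map_zero]
    | add x y hx hy =>
      rw [TensorProduct.tmul_add]
      rw [map_add, map_add, map_add, map_add, map_add, hx, hy]
    | tmul b m =>
      rw [TensorProduct.AlgebraTensorModule.cancelBaseChange_tmul, LinearMap.lTensor_tmul]
      have hone : ∀ c' : C, appL C ((Scheme.Modules.pullbackComp q₂ q₁).app G).hom (⊤ : X₂.Opens)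
          (bcSect h₂ (qF q₁ G) (c' ⊗ₜ[B]
            (show sec B (qF q₁ G) (⊤ : X₁.Opens) from OmegaSh.pullSect q₁ G ⊤ m))) = bcSect h₃ G (c' ⊗ₜ m) := by
        intro c'
        rw [bcSect_tmul, bcSect_tmul, map_smul]
        refine congrArg (c' • ·) ?_
        refine Eq.trans (congrArg (((Scheme.Modules.pullbackComp q₂ q₁).app G).hom.app (⊤ : X₂.Opens))
          (H17.PullSect.pullSect_comp q₂ q₁ G ⊤ m).symm) ?_
        exact congr($(congrArg (fun φ => Scheme.Modules.Hom.app φ (⊤ : X₂.Opens))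
          ((Scheme.Modules.pullbackComp q₂ q₁).inv_hom_id_app G)) _)
      rw [← hone]
      refine congrArg (appL C _ _) (congrArg (bcSect h₂ (qF q₁ G)) ?_)
      rw [bcSect_tmul, TensorProduct.smul_tmul]

include h₁ h₂ h₃

theorem bij_comp (hb₁ : Bij h₁ G) (hb₂ : Bij h₂ (qF q₁ G)) : Bij h₃ G := by
  have hl : Function.Bijective ((bcSect h₁ G).lTensor C) :=
    (LinearEquiv.lTensor C (LinearEquiv.ofBijective _ hb₁)).bijective
  refine (Function.Bijective.of_comp_iff _
    (TensorProduct.AlgebraTensorModule.cancelBaseChange A B C C (sec A G ⊤)).bijective).1 ?_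
  rw [funext (f := bcSect h₃ G ∘ _) (bcSect_comp h₁ h₂ h₃ G)]
  exact (ConcreteCategory.bijective_of_isIso (((Scheme.Modules.pullbackComp q₂ q₁).app G).hom.app _)).comp
    (hb₂.comp hl)

theorem bij_right (hb₁ : Bij h₁ G) (hb₃ : Bij h₃ G) : Bij h₂ (qF q₁ G) := by
  have hl : Function.Bijective ((bcSect h₁ G).lTensor C) :=
    (LinearEquiv.lTensor C (LinearEquiv.ofBijective _ hb₁)).bijective
  have h := hb₃.comp (TensorProduct.AlgebraTensorModule.cancelBaseChange A B C C (sec A G ⊤)).bijective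
  rw [funext (f := bcSect h₃ G ∘ _) (bcSect_comp h₁ h₂ h₃ G)] at h
  exact (Function.Bijective.of_comp_iff _ hl).1 ((Function.Bijective.of_comp_iff'
    (ConcreteCategory.bijective_of_isIso (((Scheme.Modules.pullbackComp q₂ q₁).app G).hom.app _)) _).1 h)

theorem bij_left (hb₂ : Bij h₂ (qF q₁ G)) (hb₃ : Bij h₃ G) :
    Function.Bijective ((bcSect h₁ G).lTensor C) := by
  have h := hb₃.comp (TensorProduct.AlgebraTensorModule.cancelBaseChange A B C C (sec A G ⊤)).bijective
  rw [funext (f := bcSect h₃ G ∘ _) (bcSect_comp h₁ h₂ h₃ G)] at h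
  exact (Function.Bijective.of_comp_iff' hb₂ _).1 ((Function.Bijective.of_comp_iff'
    (ConcreteCategory.bijective_of_isIso (((Scheme.Modules.pullbackComp q₂ q₁).app G).hom.app _)) _).1 h)

end Comp

section Surjective

variable {A B : Type u} [CommRing A] [CommRing B] [Algebra A B] {X X' : Scheme.{u}}
  [X.Over (Spec (CommRingCat.of A))] [X'.Over (Spec (CommRingCat.of B))] {q : X' ⟶ X}
  (hsq : IsPullback q (X' ↘ Spec (CommRingCat.of B)) (X ↘ Spec (CommRingCat.of A))
    (Spec.map (CommRingCat.ofHom (algebraMap A B))))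

include hsq in
theorem unit_app_one (G : X.Modules) [G.IsQuasicoherent] (V : X.Opens) (x : sec A G V) :
    (show sec B (qF q G) (q ⁻¹ᵁ V) from
      appL A ((Scheme.Modules.pullbackPushforwardAdjunction q).unit.app G) V x) =
      LeadFBC.pullExt A B hsq G V ((1 : B) ⊗ₜ[A] x) := by
  letI : Module A (sec B (qF q G) (q ⁻¹ᵁ V)) := Module.compHom _ (algebraMap A B)
  haveI : IsScalarTower A B (sec B (qF q G) (q ⁻¹ᵁ V)) := .of_algebraMap_smul fun _ _ => rfl
  exact Eq.symm ((LinearMap.liftBaseChange_tmul _ _ _ _).trans ((one_smul B _).trans (H10Coh.mres_self _ _ _)))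

theorem exists_one_tmul (hφ : Function.Surjective (algebraMap A B)) {M : Type u} [AddCommGroup M] [Module A M]
    (z : B ⊗[A] M) : ∃ x, (1 : B) ⊗ₜ x = z := by
  induction z using TensorProduct.induction_on with
  | zero => exact ⟨0, TensorProduct.tmul_zero _ _⟩
  | add z z' h h' =>
    obtain ⟨x, rfl⟩ := h
    obtain ⟨x', rfl⟩ := h'
    exact ⟨x + x', TensorProduct.tmul_add _ _ _⟩
  | tmul c x =>
    obtain ⟨b, rfl⟩ := hφ c
    exact ⟨b • x, by rw [TensorProduct.tmul_smul, TensorProduct.smul_tmul', Algebra.smul_def, mul_one]⟩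

include hsq in
theorem smul_push_eq_zero (H : X'.Modules) {V : X.Opens} {a : A} (ha : algebraMap A B a = 0)
    (y : sec A ((Scheme.Modules.pushforward q).obj H) V) : a • y = 0 := by
  show q.app V (LeadBC.sc A V a) • (show Γ(H, q ⁻¹ᵁ V) from y) = 0
  rw [app_scal hsq V a, ha, map_zero, zero_smul]

include hsq in
/-- The base change map to a quotient of the base is bijective on high twists. -/
theorem exists_bij_surjective [IsNoetherianRing A] [IsProper (X ↘ Spec (CommRingCat.of A))]
    (hφ : Function.Surjective (algebraMap A B)) {L : X.Modules} (hA : CohB1.IsAmple L)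
    (F : X.Modules) (hF : Coh.IsCoh F) :
    ∃ n₀ : ℕ, ∀ n : ℕ, n₀ ≤ n → ∀ [(CohB1.tensorMod F (CohB1.tensorPow L n)).IsQuasicoherent],
      Bij hsq (CohB1.tensorMod F (CohB1.tensorPow L n)) := by
  haveI : F.IsQuasicoherent := hF.1
  haveI : IsLocallyNoetherian X := LocallyOfFiniteType.isLocallyNoetherian (X ↘ Spec (CommRingCat.of A))
  have hL : PicF.IsInvertible L := (H11Ample.isAmple_iff.1 hA).1
  haveI : CompactSpace X := QuasiCompact.compactSpace_of_compactSpace (X ↘ Spec (CommRingCat.of A))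
  haveI : IsNoetherian X := ⟨⟩
  haveI : IsAffineHom q := LeadFF.isAffineHom_fst hsq
  -- facts on units
  let u : ∀ (G : X.Modules), G ⟶ (Scheme.Modules.pushforward q).obj (qF q G) := fun G =>
    (Scheme.Modules.pullbackPushforwardAdjunction q).unit.app G
  have husurj : ∀ (G : X.Modules) [G.IsQuasicoherent] {V : X.Opens}, IsAffineOpen V →
      Function.Surjective (appL A (u G) V) := by
    intro G _ V hV y
    obtain ⟨z, hz⟩ := (LeadFBC.bijective_pullExt A B hsq G hV).2 (show sec B (qF q G) (q ⁻¹ᵁ V) from y)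
    obtain ⟨x, rfl⟩ := exists_one_tmul hφ z
    exact ⟨x, (unit_app_one hsq G V x).trans hz⟩
  have hker : ∀ (G : X.Modules) [G.IsQuasicoherent] {V : X.Opens}, IsAffineOpen V → ∀ x : sec A G V,
      appL A (u G) V x = 0 → x ∈ RingHom.ker (algebraMap A B) • (⊤ : Submodule A (sec A G V)) :=
    fun G _ V hV x hx => TwistFibre.mem_smul_of_one_tmul_eq_zero hφ
      ((LeadFBC.bijective_pullExt A B hsq G hV).1 (((unit_app_one hsq G V x).symm.trans hx).trans (map_zero _).symm))
  haveI hpq : ∀ (G : X.Modules) [G.IsQuasicoherent], ((Scheme.Modules.pushforward q).obj (qF q G)).IsQuasicoherent :=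
    fun G _ => isQuasicoherent_pushforward_of_isAffineHom q _
  have hepi : ∀ (G : X.Modules) [G.IsQuasicoherent], Epi (u G) := fun G _ => ⟨fun b c hbc =>
    hom_ext_affine _ _ fun V hV y => by
      obtain ⟨x, rfl⟩ := husurj G hV y
      exact congr($(congr(Scheme.Modules.Hom.app $hbc V)) x)⟩
  obtain ⟨r, a, ha⟩ := Submodule.fg_iff_exists_fin_generating_family.1
    (IsNoetherian.noetherian (RingHom.ker (algebraMap A B)))
  have hle : ∀ (G : X.Modules) (V : X.Opens), RingHom.ker (algebraMap A B) • (⊤ : Submodule A (sec A G V)) ≤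
      LinearMap.range (appL A (biproduct.desc fun j => Formal.smulMod A G (a j)) V) := fun G V => by
    rw [← show Ideal.span (Set.range a) = RingHom.ker (algebraMap A B) from ha]
    exact TwistFibre.smul_top_le_range a V
  have hzero : ∀ (G : X.Modules) [G.IsQuasicoherent] (j : Fin r), Formal.smulMod A G (a j) ≫ u G = 0 :=
    fun G _ j => hom_ext_affine _ _ fun V hV x => by
      show (appL A (u G) V (appL A (Formal.smulMod A G (a j)) V x) :
        sec A ((Scheme.Modules.pushforward q).obj (qF q G)) V) = 0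
      rw [TwistFibre.appL_smulMod, map_smul]
      exact smul_push_eq_zero hsq _ (RingHom.mem_ker.1 (ha.le (Submodule.subset_span ⟨j, rfl⟩))) _
  let P : X.Modules := ⨁ fun _ : Fin r => F
  let ψ : P ⟶ F := biproduct.desc fun j => Formal.smulMod A F (a j)
  have hψu : ψ ≫ u F = 0 := biproduct.hom_ext' _ _ fun j => by
    rw [biproduct.ι_desc_assoc, comp_zero]
    exact hzero F j
  let ψ' : P ⟶ kernel (u F) := kernel.lift (u F) ψ hψu
  haveI : Epi ψ' := ⟨fun b c hbc => hom_ext_affine _ _ fun V hV y => by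
    obtain ⟨z, hz⟩ := hle F V (hker F hV (appL A (kernel.ι (u F)) V y) (by
      rw [← TwistFibre.appL_comp, kernel.condition]; rfl))
    have hy : appL A ψ' V z = y := by
      haveI : Mono ((H10Coh.shF X).map (kernel.ι (u F))) := inferInstance
      refine H10Coh.injective_app_of_mono ((H10Coh.shF X).map (kernel.ι (u F))) V ?_
      show appL A (kernel.ι (u F)) V (appL A ψ' V z) = appL A (kernel.ι (u F)) V y
      rw [← TwistFibre.appL_comp, kernel.lift_ι, hz]
    rw [← hy]
    exact congr($(congr(Scheme.Modules.Hom.app $hbc V)) z)⟩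
  haveI := hpq F
  have hK : Coh.IsCoh (kernel (u F)) := isCoh_kernel (u F) hF (hpq F)
  have hR : Coh.IsCoh (kernel ψ') := isCoh_kernel ψ' (LeadDev.isCoh_biproduct F hF) hK.1
  let S₁ : ShortComplex X.Modules := ShortComplex.mk (kernel.ι ψ') ψ' (kernel.condition ψ')
  have hS₁ : S₁.ShortExact := { exact := ShortComplex.exact_of_f_is_kernel _ (kernelIsKernel _) }
  obtain ⟨n₁, hn₁⟩ := Tw.exists_vanishing_ample (X ↘ Spec (CommRingCat.of A)) hA (kernel ψ') hR
  obtain ⟨n₂, hn₂⟩ := Tw.exists_vanishing_ample (X ↘ Spec (CommRingCat.of A)) hA (kernel (u F)) hK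
  refine ⟨n₁ + n₂ + 1, fun n hn hq => ?_⟩
  let N := CohB1.tensorPow L n
  have hN : PicF.IsInvertible N := H11Ample.isInvertible_tensorPow hL n
  let T := H29RR.twist N
  have hflat : FlatMod.IsFlat N := fun x =>
    H16Derived.KFlat.Stalk.isFlat_of_isFinLocFree (H28Pinch.isFinLocFree_of_isInvertible hN) x
  have hT₁' := (H16Derived.KFlat.Stalk.isFlatObj_of_isFlat hflat) S₁ hS₁
  have hT₁ := hT₁'.map_of_exact (H10Coh.shF X)
  have hι : Mono (T.map (kernel.ι (u F))) :=
    ((H16Derived.KFlat.Stalk.isFlatObj_of_isFlat hflat) (ShortComplex.mk (kernel.ι (u F)) (u F) (kernel.condition _))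
      (by haveI := hepi F; exact { exact := ShortComplex.exact_of_f_is_kernel _ (kernelIsKernel _) })).mono_f
  let G := CohB1.tensorMod F N
  haveI : G.IsQuasicoherent := hq
  have hTψ : T.map ψ = ∑ j, T.map (biproduct.π (fun _ : Fin r => F) j) ≫ Formal.smulMod A G (a j) := by
    rw [show ψ = ∑ j, biproduct.π (fun _ : Fin r => F) j ≫ Formal.smulMod A F (a j) from biproduct.desc_eq,
      Functor.map_sum]
    refine Finset.sum_congr rfl fun j _ => ?_
    rw [Functor.map_comp, show (H29RR.twist N).map (Formal.smulMod A F (a j)) = Formal.smulMod A G (a j) from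
      H02CA.VBPn.twist_map_smulModΓ N F _]
    rfl
  have hiu : T.map (kernel.ι (u F)) ≫ u G = 0 := by
    haveI : Epi (T.map ψ') := hT₁'.epi_g
    rw [← cancel_epi (T.map ψ'), comp_zero, ← Category.assoc, ← Functor.map_comp, kernel.lift_ι, hTψ]
    refine (Preadditive.sum_comp (C := X.Modules) Finset.univ
      (fun j => (T.map (biproduct.π (fun _ : Fin r => F) j) ≫ Formal.smulMod A G (a j) : T.obj P ⟶ G)) (u G)).trans
      (Finset.sum_eq_zero fun j _ => ?_)
    exact (Category.assoc (T.map (biproduct.π (fun _ : Fin r => F) j)) (Formal.smulMod A G (a j)) (u G)).trans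
      ((congrArg (T.map (biproduct.π (fun _ : Fin r => F) j) ≫ ·) (hzero G j)).trans comp_zero)
  let l : T.obj (kernel (u F)) ⟶ kernel (u G) := kernel.lift (u G) (T.map (kernel.ι (u F))) hiu
  haveI : Mono l := by
    haveI : Mono (l ≫ kernel.ι (u G)) := by rw [kernel.lift_ι]; exact hι
    exact mono_of_mono l (kernel.ι (u G))
  haveI := hpq G
  haveI : (kernel (u G)).IsQuasicoherent := H10Coh.isQuasicoherent_kernel (u G)
  haveI : Epi l := ⟨fun b c hbc => hom_ext_affine _ _ fun V hV y => by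
    obtain ⟨z, hz⟩ := hle G V (hker G hV (appL A (kernel.ι (u G)) V y) (by
      rw [← TwistFibre.appL_comp, kernel.condition]; rfl))
    let w : sec A (T.obj (kernel (u F))) V := appL A
      (∑ j, biproduct.π (fun _ : Fin r => G) j ≫ T.map (biproduct.ι (fun _ : Fin r => F) j ≫ ψ')) V z
    have hy : appL A l V w = y := by
      haveI : Mono ((H10Coh.shF X).map (kernel.ι (u G))) := inferInstance
      refine H10Coh.injective_app_of_mono ((H10Coh.shF X).map (kernel.ι (u G))) V ?_
      show appL A (kernel.ι (u G)) V (appL A l V w) = appL A (kernel.ι (u G)) V y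
      rw [← TwistFibre.appL_comp, kernel.lift_ι, ← hz, biproduct.desc_eq, ← TwistFibre.appL_comp,
        Preadditive.sum_comp]
      refine congrArg (fun φ => appL A φ V z) (Finset.sum_congr rfl fun j _ => ?_)
      refine (Category.assoc _ _ _).trans (congrArg (biproduct.π (fun _ : Fin r => G) j ≫ ·) ?_)
      refine ((T.map_comp _ _).symm.trans (congrArg T.map ?_)).trans (H02CA.VBPn.twist_map_smulModΓ N F _)
      rw [Category.assoc, kernel.lift_ι]
      exact biproduct.ι_desc _ _
    rw [← hy]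
    exact congr($(congr(Scheme.Modules.Hom.app $hbc V)) w)⟩
  haveI : IsIso l := isIso_of_mono_of_epi l
  haveI := hepi G
  let S₂ : ShortComplex X.Modules := ShortComplex.mk (kernel.ι (u G)) (u G) (kernel.condition _)
  have hS₂ : S₂.ShortExact := { exact := ShortComplex.exact_of_f_is_kernel _ (kernelIsKernel _) }
  have hT₂ := hS₂.map_of_exact (H10Coh.shF X)
  have hsurj : Function.Surjective (appL A (u G) ⊤) := H10Coh.surjective_sections_of_subsingleton hT₂ (⊤ : X.Opens)
    (H10Coh.Tw.subsingleton_of_iso (asIso l) (hn₂ n (by omega) 1 one_pos))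
  have hπker : ∀ x : sec A G ⊤, appL A (u G) ⊤ x = 0 → x ∈ RingHom.ker (algebraMap A B) • (⊤ : Submodule A _) := by
    intro x hx
    obtain ⟨y, hy⟩ : ∃ y, appL A (kernel.ι (u G)) ⊤ y = x := by
      obtain ⟨y, hy⟩ := H29Blow.exists_kernelι_app_eq (u G) ⊤ (show Γ(G, ⊤) from x) hx
      exact ⟨y, hy⟩
    have hy' : appL A (T.map (kernel.ι (u F))) ⊤ (appL A (asIso l).inv ⊤ y) = x := by
      rw [← TwistFibre.appL_comp, ← hy]
      refine congrArg (fun φ => appL A φ ⊤ y) ?_
      rw [Iso.inv_comp_eq, asIso_hom]; exact (kernel.lift_ι _ _ _).symm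
    obtain ⟨z, hz⟩ := H10Coh.surjective_sections_of_subsingleton hT₁ (⊤ : X.Opens) (hn₁ n (by omega) 1 one_pos)
      (show Γ((T.obj (kernel (u F))), ⊤) from appL A (asIso l).inv ⊤ y)
    rw [show RingHom.ker (algebraMap A B) = Ideal.span (Set.range a) from ha.symm]
    refine TwistFibre.range_twist_le a N ⊤ ⟨(show Γ(T.obj P, ⊤) from z), ?_⟩
    rw [show (biproduct.desc fun j => Formal.smulMod A F (a j)) = ψ' ≫ kernel.ι (u F) from
      (kernel.lift_ι (u F) ψ hψu).symm, Functor.map_comp, TwistFibre.appL_comp]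
    exact (congrArg (appL A (T.map (kernel.ι (u F))) ⊤) hz).trans hy'
  refine ⟨(injective_iff_map_eq_zero _).2 fun z hz => ?_, fun y => ?_⟩
  · obtain ⟨x, rfl⟩ := exists_one_tmul hφ z
    have hx := hπker x ((unit_app_one hsq G ⊤ x).trans hz)
    clear hz
    induction hx using Submodule.smul_induction_on' with
    | smul c hc x _ => rw [TensorProduct.tmul_smul, TensorProduct.smul_tmul', Algebra.smul_def,
        RingHom.mem_ker.1 hc, zero_mul, TensorProduct.zero_tmul]
    | add x _ y _ hx hy => rw [TensorProduct.tmul_add, hx, hy, add_zero]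
  · obtain ⟨x, hx⟩ := hsurj (show Γ((Scheme.Modules.pushforward q).obj (qF q G), ⊤) from y)
    exact ⟨1 ⊗ₜ x, (unit_app_one hsq G ⊤ x).symm.trans hx⟩

include hsq in
/-- The base change map to an algebra of finite type is bijective on high twists. -/
theorem exists_bij_finiteType [IsNoetherianRing A] [IsProper (X ↘ Spec (CommRingCat.of A))]
    [Algebra.FiniteType A B] {L : X.Modules} (hA : CohB1.IsAmple L) (F : X.Modules) (hF : Coh.IsCoh F) :
    ∃ n₀ : ℕ, ∀ n : ℕ, n₀ ≤ n → ∀ [(CohB1.tensorMod F (CohB1.tensorPow L n)).IsQuasicoherent],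
      Bij hsq (CohB1.tensorMod F (CohB1.tensorPow L n)) := by
  obtain ⟨m, φ, hφ⟩ := Algebra.FiniteType.iff_quotient_mvPolynomial''.1 ‹Algebra.FiniteType A B›
  let P := MvPolynomial (Fin m) A
  letI : Algebra P B := φ.toRingHom.toAlgebra
  haveI : IsScalarTower A P B := .of_algebraMap_eq fun a => (φ.commutes a).symm
  let g := Spec.map (CommRingCat.ofHom (algebraMap A P))
  let X₁ := pullback (X ↘ Spec (CommRingCat.of A)) g
  letI : X₁.Over (Spec (CommRingCat.of P)) := ⟨pullback.snd _ g⟩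
  let q₁ : X₁ ⟶ X := pullback.fst _ g
  have h₁ : IsPullback q₁ (X₁ ↘ Spec (CommRingCat.of P)) (X ↘ Spec (CommRingCat.of A)) g :=
    IsPullback.of_hasPullback _ g
  haveI : IsProper (X₁ ↘ Spec (CommRingCat.of P)) := MorphismProperty.of_isPullback h₁ inferInstance
  haveI : IsAffineHom q₁ := LeadFF.isAffineHom_fst h₁
  have hg : Spec.map (CommRingCat.ofHom (algebraMap P B)) ≫ g = Spec.map (CommRingCat.ofHom (algebraMap A B)) := by
    rw [← Spec.map_comp, ← CommRingCat.ofHom_comp, ← IsScalarTower.algebraMap_eq]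
  let q₂ : X' ⟶ X₁ := pullback.lift q ((X' ↘ Spec (CommRingCat.of B)) ≫ Spec.map (CommRingCat.ofHom (algebraMap P B)))
    (by rw [hsq.w, Category.assoc, hg])
  have hq : q₂ ≫ q₁ = q := pullback.lift_fst _ _ _
  have h₂ : IsPullback q₂ (X' ↘ Spec (CommRingCat.of B)) (X₁ ↘ Spec (CommRingCat.of P))
      (Spec.map (CommRingCat.ofHom (algebraMap P B))) := by
    refine IsPullback.of_right ?_ (pullback.lift_snd _ _ _) h₁
    rw [hq, hg]
    exact hsq
  haveI : CompactSpace X := QuasiCompact.compactSpace_of_compactSpace (X ↘ Spec (CommRingCat.of A))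
  haveI : QuasiSeparatedSpace X := quasiSeparatedSpace_of_quasiSeparated (X ↘ Spec (CommRingCat.of A))
  have hL : PicF.IsInvertible L := (H11Ample.isAmple_iff.1 hA).1
  obtain ⟨n₀, hn₀⟩ := exists_bij_surjective h₂ hφ (H11Ample.isAmple_pullback_of_isAffineHom q₁ hA)
    (pb q₁ F) (H17.ConsProp.isCoh_pullback q₁ hF)
  refine ⟨n₀, fun n hn hq' => ?_⟩
  obtain ⟨e⟩ := H11Ample.exists_iso_pullback_tensorPow q₁ hL n
  haveI : (qF q₁ (CohB1.tensorMod F (CohB1.tensorPow L n))).IsQuasicoherent := H29Fitt.isQCoh_pullback q₁ _ hq'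
  let E := pT q₁ F (CohB1.tensorPow L n) ≪≫ tI (Iso.refl _) e
  haveI : (CohB1.tensorMod (pb q₁ F) (CohB1.tensorPow (pb q₁ L) n)).IsQuasicoherent :=
    H10Coh.isQuasicoherent_of_iso E
  suffices key : ∀ (q' : X' ⟶ X) (_ : q₂ ≫ q₁ = q') (h₃ : IsPullback q' (X' ↘ Spec (CommRingCat.of B))
      (X ↘ Spec (CommRingCat.of A)) (Spec.map (CommRingCat.ofHom (algebraMap A B)))),
      Bij h₃ (CohB1.tensorMod F (CohB1.tensorPow L n)) from key q hq hsq
  rintro _ rfl h₃
  exact bij_comp h₁ h₂ h₃ _ (bij_of_flat h₁ _) (Bij.of_iso h₂ E.symm (hn₀ n hn))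

end Surjective

end Groth.Agent.H22Alg.SectBC
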