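import Groth.Prelude.Def_W4c2movlemaddchowShuffle
import Mathlib.Data.Fin.Tuple.Sort
import Mathlib.GroupTheory.Perm.Sign

/-!
Factorisation of permutations monotone on blocks.
-/

open Equiv

namespace Groth.Agent.H22Alg

theorem extRight_castAdd (a t : ℕ) (σ : Perm (Fin a)) (i : Fin a) :
    W4c2movlemaddchow.extRight a t σ (Fin.castAdd t i) = Fin.castAdd t (σ i) := by
  simp [W4c2movlemaddchow.extRight, Equiv.permCongr_apply]

theorem extRight_natAdd (a t : ℕ) (σ : Perm (Fin a)) (i : Fin t) :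
    W4c2movlemaddchow.extRight a t σ (Fin.natAdd a i) = Fin.natAdd a i := by
  simp [W4c2movlemaddchow.extRight, Equiv.permCongr_apply]

theorem exists_factor_right (a t : ℕ) (ν : Perm (Fin (a + t))) :
    ∃ (τ : Perm (Fin (a + t))) (σ : Perm (Fin a)), ν = τ * W4c2movlemaddchow.extRight a t σ ∧
      StrictMono (fun i => τ (Fin.castAdd t i)) ∧
      ∀ l, τ (Fin.natAdd a l) = ν (Fin.natAdd a l) := by
  let f : Fin a → Fin (a + t) := fun i => ν (Fin.castAdd t i)
  have hinj : Function.Injective f := ν.injective.comp (Fin.castAdd_injective a t)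
  refine ⟨ν * W4c2movlemaddchow.extRight a t (Tuple.sort f), (Tuple.sort f)⁻¹, ?_, ?_, fun l => ?_⟩
  · apply Equiv.ext
    intro x
    induction x using Fin.addCases with
    | left i => simp [Perm.mul_apply, extRight_castAdd]
    | right i => simp [Perm.mul_apply, extRight_natAdd]
  · have : (fun i => (ν * W4c2movlemaddchow.extRight a t (Tuple.sort f)) (Fin.castAdd t i))
        = f ∘ Tuple.sort f := by
      funext i; simp [Perm.mul_apply, extRight_castAdd, f]
    rw [this]
    exact (Tuple.monotone_sort f).strictMono_of_injective (hinj.comp (Tuple.sort f).injective)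
  · simp [Perm.mul_apply, extRight_natAdd]

theorem factor_right_unique {a t : ℕ} {τ τ' : Perm (Fin (a + t))} {σ σ' : Perm (Fin a)}
    (h : τ * W4c2movlemaddchow.extRight a t σ = τ' * W4c2movlemaddchow.extRight a t σ')
    (h1 : Monotone (fun i => τ (Fin.castAdd t i))) (h2 : Monotone (fun i => τ' (Fin.castAdd t i))) :
    τ = τ' ∧ σ = σ' := by
  let f : Fin a → Fin (a + t) := fun i => (τ * W4c2movlemaddchow.extRight a t σ) (Fin.castAdd t i)
  have e1 : f ∘ ⇑σ⁻¹ = fun i => τ (Fin.castAdd t i) := by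
    funext i; simp [f, Perm.mul_apply, extRight_castAdd]
  have e2 : f ∘ ⇑σ'⁻¹ = fun i => τ' (Fin.castAdd t i) := by
    funext i; simp [f, h, Perm.mul_apply, extRight_castAdd]
  have hfu := Tuple.unique_monotone (f := f) (σ := σ⁻¹) (τ := σ'⁻¹) (e1 ▸ h1) (e2 ▸ h2)
  have hτ : τ = τ' := by
    apply Equiv.ext
    intro x
    induction x using Fin.addCases with
    | left i => exact congrFun (e1.symm.trans (hfu.trans e2)) i
    | right i =>
      have := DFunLike.congr_fun h (Fin.natAdd a i)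
      simpa [Perm.mul_apply, extRight_natAdd] using this
  refine ⟨hτ, ?_⟩
  apply Equiv.ext
  intro i
  have := DFunLike.congr_fun h (Fin.castAdd t i)
  simp only [Perm.mul_apply, extRight_castAdd, ← hτ] at this
  exact Fin.castAdd_injective a t (τ.injective this)

theorem sign_extRight (a t : ℕ) (σ : Perm (Fin a)) :
    Perm.sign (W4c2movlemaddchow.extRight a t σ) = Perm.sign σ := by
  simp [W4c2movlemaddchow.extRight, Perm.sign_sumCongr]

/-- Extension on the left, without reassociation. -/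
def extL (r b : ℕ) (σ : Perm (Fin b)) : Perm (Fin (r + b)) :=
  finSumFinEquiv.permCongr ((Equiv.refl (Fin r)).sumCongr σ)

theorem extL_natAdd (r b : ℕ) (σ : Perm (Fin b)) (i : Fin b) :
    extL r b σ (Fin.natAdd r i) = Fin.natAdd r (σ i) := by
  simp [extL, Equiv.permCongr_apply]

theorem extL_castAdd (r b : ℕ) (σ : Perm (Fin b)) (i : Fin r) :
    extL r b σ (Fin.castAdd b i) = Fin.castAdd b i := by
  simp [extL, Equiv.permCongr_apply]

theorem exists_factor_left (r b : ℕ) (ν : Perm (Fin (r + b))) :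
    ∃ (τ : Perm (Fin (r + b))) (σ : Perm (Fin b)), ν = τ * extL r b σ ∧
      StrictMono (fun i => τ (Fin.natAdd r i)) ∧
      ∀ l, τ (Fin.castAdd b l) = ν (Fin.castAdd b l) := by
  let f : Fin b → Fin (r + b) := fun i => ν (Fin.natAdd r i)
  have hinj : Function.Injective f := ν.injective.comp (Fin.natAdd_injective b r)
  refine ⟨ν * extL r b (Tuple.sort f), (Tuple.sort f)⁻¹, ?_, ?_, fun l => ?_⟩
  · apply Equiv.ext
    intro x
    induction x using Fin.addCases with
    | left i => simp [Perm.mul_apply, extL_castAdd]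
    | right i => simp [Perm.mul_apply, extL_natAdd]
  · have : (fun i => (ν * extL r b (Tuple.sort f)) (Fin.natAdd r i)) = f ∘ Tuple.sort f := by
      funext i; simp [Perm.mul_apply, extL_natAdd, f]
    rw [this]
    exact (Tuple.monotone_sort f).strictMono_of_injective (hinj.comp (Tuple.sort f).injective)
  · simp [Perm.mul_apply, extL_castAdd]

theorem factor_left_unique {r b : ℕ} {τ τ' : Perm (Fin (r + b))} {σ σ' : Perm (Fin b)}
    (h : τ * extL r b σ = τ' * extL r b σ')
    (h1 : Monotone (fun i => τ (Fin.natAdd r i))) (h2 : Monotone (fun i => τ' (Fin.natAdd r i))) :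
    τ = τ' ∧ σ = σ' := by
  let f : Fin b → Fin (r + b) := fun i => (τ * extL r b σ) (Fin.natAdd r i)
  have e1 : f ∘ ⇑σ⁻¹ = fun i => τ (Fin.natAdd r i) := by
    funext i; simp [f, Perm.mul_apply, extL_natAdd]
  have e2 : f ∘ ⇑σ'⁻¹ = fun i => τ' (Fin.natAdd r i) := by
    funext i; simp [f, h, Perm.mul_apply, extL_natAdd]
  have hfu := Tuple.unique_monotone (f := f) (σ := σ⁻¹) (τ := σ'⁻¹) (e1 ▸ h1) (e2 ▸ h2)
  have hτ : τ = τ' := by
    apply Equiv.ext
    intro x
    induction x using Fin.addCases with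
    | right i => exact congrFun (e1.symm.trans (hfu.trans e2)) i
    | left i =>
      have := DFunLike.congr_fun h (Fin.castAdd b i)
      simpa [Perm.mul_apply, extL_castAdd] using this
  refine ⟨hτ, ?_⟩
  apply Equiv.ext
  intro i
  have := DFunLike.congr_fun h (Fin.natAdd r i)
  simp only [Perm.mul_apply, extL_natAdd, ← hτ] at this
  exact Fin.natAdd_injective b r (τ.injective this)

theorem sign_extLeft (r s t : ℕ) (σ : Perm (Fin (s + t))) :
    Perm.sign (W4c2movlemaddchow.extLeft r s t σ) = Perm.sign σ := by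
  simp [W4c2movlemaddchow.extLeft, Perm.sign_sumCongr]

theorem bijOn_right (r s t : ℕ) :
    Set.BijOn
      (fun p : Perm (Fin (r + s + t)) × Perm (Fin (r + s)) =>
        p.1 * W4c2movlemaddchow.extRight (r + s) t p.2)
      ({τ | W4c2movlemaddchow.IsShuffle₂ (r + s) t τ} ×ˢ {σ | W4c2movlemaddchow.IsShuffle₂ r s σ})
      {ν | W4c2movlemaddchow.IsShuffle₃ r s t ν} := by
  refine ⟨?_, ?_, ?_⟩
  · rintro ⟨τ, σ⟩ ⟨hτ, hσ⟩
    refine ⟨fun i j hij => ?_, fun i j hij => ?_, fun i j hij => ?_⟩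
    · simp only [Perm.mul_apply, extRight_castAdd]
      exact hτ.1 (hσ.1 hij)
    · simp only [Perm.mul_apply, extRight_castAdd]
      exact hτ.1 (hσ.2 hij)
    · simp only [Perm.mul_apply, extRight_natAdd]
      exact hτ.2 hij
  · rintro ⟨τ, σ⟩ ⟨hτ, -⟩ ⟨τ', σ'⟩ ⟨hτ', -⟩ h
    obtain ⟨h1, h2⟩ := factor_right_unique h hτ.1 hτ'.1
    exact Prod.ext h1 h2
  · intro ν hν
    obtain ⟨τ, σ, rfl, hτ1, hτ2⟩ := exists_factor_right (r + s) t ν
    obtain ⟨h1, h2, h3⟩ := hν
    simp only [Perm.mul_apply, extRight_castAdd] at h1 h2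
    exact ⟨⟨τ, σ⟩, ⟨⟨hτ1.monotone, fun i j hij => by simpa [hτ2] using h3 hij⟩,
      fun i j hij => hτ1.le_iff_le.mp (h1 hij), fun i j hij => hτ1.le_iff_le.mp (h2 hij)⟩, rfl⟩

theorem bijOn_left (r s t : ℕ) :
    Set.BijOn
      (fun p : Perm (Fin (r + s + t)) × Perm (Fin (s + t)) =>
        p.1 * W4c2movlemaddchow.extLeft r s t p.2)
      ({τ | W4c2movlemaddchow.IsShuffle₂ r (s + t) ((finCongr (Nat.add_assoc r s t)).permCongr τ)} ×ˢ
        {σ | W4c2movlemaddchow.IsShuffle₂ s t σ})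
      {ν | W4c2movlemaddchow.IsShuffle₃ r s t ν} := by
  set e := finCongr (Nat.add_assoc r s t) with he
  have hmul : ∀ (τ : Perm (Fin (r + s + t))) (σ : Perm (Fin (s + t))),
      e.permCongr (τ * W4c2movlemaddchow.extLeft r s t σ) = e.permCongr τ * extL r (s + t) σ := by
    intro τ σ
    apply Equiv.ext
    intro x
    simp [Equiv.permCongr_apply, W4c2movlemaddchow.extLeft, extL, he, Perm.mul_apply]
  have hsh : ∀ ν : Perm (Fin (r + s + t)), W4c2movlemaddchow.IsShuffle₃ r s t ν ↔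
      Monotone (fun i : Fin r => e.permCongr ν (Fin.castAdd (s + t) i)) ∧
      Monotone (fun j : Fin s => e.permCongr ν (Fin.natAdd r (Fin.castAdd t j))) ∧
      Monotone (fun l : Fin t => e.permCongr ν (Fin.natAdd r (Fin.natAdd s l))) := by
    intro ν
    have c1 : ∀ i : Fin r, e.symm (Fin.castAdd (s + t) i) = Fin.castAdd t (Fin.castAdd s i) :=
      fun i => Fin.ext (by simp [he])
    have c2 : ∀ i : Fin s, e.symm (Fin.natAdd r (Fin.castAdd t i)) = Fin.castAdd t (Fin.natAdd r i) :=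
      fun i => Fin.ext (by simp [he])
    have c3 : ∀ i : Fin t, e.symm (Fin.natAdd r (Fin.natAdd s i)) = Fin.natAdd (r + s) i :=
      fun i => Fin.ext (by simp [he, Nat.add_assoc])
    unfold W4c2movlemaddchow.IsShuffle₃ Monotone
    simp only [Equiv.permCongr_apply, c1, c2, c3]
    simp only [he, finCongr_apply, Fin.cast_le_cast]
  refine ⟨?_, ?_, ?_⟩
  · rintro ⟨τ, σ⟩ ⟨hτ, hσ⟩
    show W4c2movlemaddchow.IsShuffle₃ r s t _
    rw [hsh, hmul]
    refine ⟨fun i j hij => ?_, fun i j hij => ?_, fun i j hij => ?_⟩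
    · simp only [Perm.mul_apply, extL_castAdd]
      exact hτ.1 hij
    · simp only [Perm.mul_apply, extL_natAdd]
      exact hτ.2 (hσ.1 hij)
    · simp only [Perm.mul_apply, extL_natAdd]
      exact hτ.2 (hσ.2 hij)
  · rintro ⟨τ, σ⟩ ⟨hτ, -⟩ ⟨τ', σ'⟩ ⟨hτ', -⟩ h
    have h' := congrArg e.permCongr h
    simp only [hmul] at h'
    obtain ⟨h1, h2⟩ := factor_left_unique h' hτ.2 hτ'.2
    exact Prod.ext (e.permCongr.injective h1) h2
  · intro ν hν
    obtain ⟨τ, σ, hτσ, hτ1, hτ2⟩ := exists_factor_left r (s + t) (e.permCongr ν)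
    obtain ⟨h1, h2, h3⟩ := (hsh ν).mp hν
    rw [hτσ] at h1 h2 h3
    simp only [Perm.mul_apply, extL_natAdd, extL_castAdd] at h1 h2 h3
    refine ⟨⟨e.permCongr.symm τ, σ⟩, ⟨?_, ?_⟩, ?_⟩
    · show W4c2movlemaddchow.IsShuffle₂ r (s + t) (e.permCongr (e.permCongr.symm τ))
      rw [Equiv.apply_symm_apply]
      exact ⟨h1, hτ1.monotone⟩
    · exact ⟨fun i j hij => hτ1.le_iff_le.mp (h2 hij), fun i j hij => hτ1.le_iff_le.mp (h3 hij)⟩
    · apply e.permCongr.injective
      rw [hmul, Equiv.apply_symm_apply, hτσ]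

end Groth.Agent.H22Alg
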