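import Mathlib.RingTheory.Smooth.Field
import Mathlib.RingTheory.Smooth.Local
import Mathlib.RingTheory.Kaehler.JacobiZariski
import Mathlib.RingTheory.LocalRing.Module
import Mathlib.RingTheory.RingHom.EssFiniteType
import Mathlib.Algebra.Exact.Basic

/-!
A local ring formally smooth over a field is formally smooth over an intermediate field,
if the residue field extension is formally smooth.
-/

universe u

open TensorProduct

namespace Groth.Agent.H22Alg

theorem formallySmooth_of_tower {k K O : Type u} [CommRing k] [Field K] [CommRing O] [IsLocalRing O]
    [Algebra k K] [Algebra k O] [Algebra K O] [IsScalarTower k K O]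
    [Algebra.EssFiniteType k K] [Algebra.EssFiniteType k O]
    [Algebra.FormallySmooth k O] [Algebra.FormallySmooth K (IsLocalRing.ResidueField O)] :
    Algebra.FormallySmooth K O := by
  set κ := IsLocalRing.ResidueField O
  set m := KaehlerDifferential.mapBaseChange k K O with hm
  have : Module.Free O Ω[O⁄k] := Module.free_of_flat_of_isLocalRing
  have hκ : Function.Injective (KaehlerDifferential.mapBaseChange k K κ) := by
    refine (injective_iff_map_eq_zero _).mpr fun z hz => ?_
    obtain ⟨w, hw⟩ := (Algebra.H1Cotangent.exact_δ_mapBaseChange k K κ z).mp hz
    have : Subsingleton (Algebra.H1Cotangent K κ) := Algebra.FormallySmooth.subsingleton_h1Cotangent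
    rw [← hw, Subsingleton.elim w 0, map_zero]
  have hinj : Function.Injective (m.lTensor κ) := by
    let q : κ ⊗[O] Ω[O⁄k] →ₗ[κ] Ω[κ⁄k] :=
      (KaehlerDifferential.mapBaseChange k O κ)
    let e := TensorProduct.AlgebraTensorModule.cancelBaseChange K O O κ Ω[K⁄k]
    have hcomp : ∀ z, q (m.lTensor κ z) = KaehlerDifferential.mapBaseChange k K κ (e z) := by
      intro z
      induction z using TensorProduct.induction_on with
      | zero => simp
      | add x y hx hy => simp only [map_add, hx, hy]
      | tmul a y =>
        induction y using TensorProduct.induction_on with
        | zero => simp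
        | add x y hx hy => simp only [tmul_add, map_add, hx, hy]
        | tmul b w =>
          simp only [e, TensorProduct.AlgebraTensorModule.cancelBaseChange_tmul, LinearMap.lTensor_tmul, q, hm,
            KaehlerDifferential.mapBaseChange_tmul, map_smul]
          have : KaehlerDifferential.map k k O κ (KaehlerDifferential.map k k K O w) =
              KaehlerDifferential.map k k K κ w := by
            have hw : w ∈ Submodule.span K (Set.range (KaehlerDifferential.D k K)) := by
              rw [KaehlerDifferential.span_range_derivation]; trivial
            induction hw using Submodule.span_induction with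
            | mem x hx =>
              obtain ⟨x, rfl⟩ := hx
              simp [KaehlerDifferential.map_D, ← IsScalarTower.algebraMap_apply]
            | zero => simp
            | add x y _ _ hx hy => simp only [map_add, hx, hy]
            | smul c x _ hx =>
              rw [map_smul (KaehlerDifferential.map k k K κ), map_smul (KaehlerDifferential.map k k K O),
                ← algebraMap_smul O c (KaehlerDifferential.map k k K O x),
                map_smul (KaehlerDifferential.map k k O κ), algebraMap_smul, hx]
          rw [this, smul_comm a b, smul_assoc]
    intro x y hxy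
    apply e.injective
    apply hκ
    rw [← hcomp, ← hcomp, hxy]
  obtain ⟨l, hl⟩ := (IsLocalRing.split_injective_iff_lTensor_residueField_injective m).mpr hinj
  have hminj : Function.Injective m := Function.LeftInverse.injective (LinearMap.congr_fun hl)
  refine ⟨?_, ?_⟩
  · have hex : Function.Exact m (KaehlerDifferential.map k K O O) := KaehlerDifferential.exact_mapBaseChange_map k K O
    have hs : Function.Surjective (KaehlerDifferential.map k K O O) := KaehlerDifferential.map_surjective k K O
    have h' := (Function.Exact.split_tfae hex hminj hs).out 0 1 rfl rfl
    obtain ⟨s, hs'⟩ := h'.mpr ⟨l, hl⟩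
    exact Module.Projective.of_split s _ hs'
  · refine ⟨fun a b => ?_⟩
    have hδ : ∀ z, Algebra.H1Cotangent.δ k K O z = 0 := fun z => hminj <| by
      rw [map_zero]; exact (Algebra.H1Cotangent.exact_δ_mapBaseChange k K O _).mpr ⟨z, rfl⟩
    have hzero : ∀ z : Algebra.H1Cotangent K O, z = 0 := fun z => by
      obtain ⟨w, hw⟩ := (Algebra.H1Cotangent.exact_map_δ k K O z).mp (hδ z)
      have : Subsingleton (Algebra.H1Cotangent k O) := Algebra.FormallySmooth.subsingleton_h1Cotangent
      rw [← hw, Subsingleton.elim w 0, map_zero]
    rw [hzero a, hzero b]

end Groth.Agent.H22Alg
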