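import Groth.Agent.S4808
import Groth.Agent.S7180
import Groth.Agent.H29Blow.IdealMod
import Groth.Agent.H06Norm.Criterion
import Groth.Prelude.Def_FGA
import Mathlib

/-!
# A split component of the preimage of a normal divisor under a finite étale cover
-/

set_option autoImplicit false
set_option linter.style.haveILetI false
universe u

open CategoryTheory CategoryTheory.Limits AlgebraicGeometry TopologicalSpace

namespace Groth.Agent.H22Alg.SplitDiv

/-- A closed irreducible set with maximal generic point is open when the local rings are domains. -/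
theorem isOpen_closure_of_maximal {W : Scheme.{u}} [IsLocallyNoetherian W]
    (hdom : ∀ w : W, IsDomain (W.presheaf.stalk w)) (e : W) (hmax : ∀ w : W, w ⤳ e → w = e) :
    IsOpen (closure ({e} : Set W)) := by
  rw [isOpen_iff_forall_mem_open]
  intro z hz
  have hez : e ⤳ z := specializes_iff_mem_closure.2 hz
  haveI := hdom z
  let η := W.fromSpecStalk z ⟨⊥, Ideal.isPrime_bot⟩
  have hη : ∀ y : W, y ⤳ z → η ⤳ y := fun y hy => by
    obtain ⟨q, rfl⟩ : y ∈ Set.range (W.fromSpecStalk z) := by rw [Scheme.range_fromSpecStalk]; exact hy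
    exact ((PrimeSpectrum.le_iff_specializes ⟨⊥, Ideal.isPrime_bot⟩ q).1 (show (⊥ : Ideal _) ≤ q.asIdeal from bot_le)).map
      (W.fromSpecStalk z).continuous
  have heη : η = e := hmax η (hη e hez)
  obtain ⟨V, hV, hzV, -⟩ := exists_isAffineOpen_mem_and_subset (U := (⊤ : W.Opens)) (x := z) trivial
  haveI : IsAffine V.toScheme := hV
  haveI : IsLocallyNoetherian V.toScheme := LocallyOfFiniteType.isLocallyNoetherian V.ι
  haveI : AlgebraicGeometry.IsNoetherian V.toScheme := ⟨⟩
  haveI : NoetherianSpace ↥V := inferInstanceAs (NoetherianSpace V.toScheme)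
  haveI : QuasiSober ↥V := inferInstanceAs (QuasiSober V.toScheme)
  let bad : Set (Set V) := {C ∈ irreducibleComponents V | ⟨z, hzV⟩ ∉ C}
  have hfin : bad.Finite := NoetherianSpace.finite_irreducibleComponents.subset fun C hC => hC.1
  let G : Set V := (⋃ C ∈ bad, C)ᶜ
  have hG : IsOpen G := (hfin.isClosed_biUnion fun C hC => isClosed_of_mem_irreducibleComponents C hC.1).isOpen_compl
  refine ⟨Subtype.val '' G, ?_, V.2.isOpenMap_subtype_val _ hG, ⟨⟨z, hzV⟩, ?_, rfl⟩⟩
  · rintro _ ⟨y, hy, rfl⟩
    let C := irreducibleComponent y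
    have hzC : (⟨z, hzV⟩ : V) ∈ C := by
      by_contra hc
      exact hy (Set.mem_biUnion (⟨irreducibleComponent_mem_irreducibleComponents y, hc⟩ : C ∈ bad) mem_irreducibleComponent)
    let hCi : IsIrreducible C := isIrreducible_irreducibleComponent
    have hgy : hCi.genericPoint ⤳ y := (hCi.isGenericPoint_genericPoint isClosed_irreducibleComponent).specializes mem_irreducibleComponent
    have hgz : hCi.genericPoint ⤳ (⟨z, hzV⟩ : V) :=
      (hCi.isGenericPoint_genericPoint isClosed_irreducibleComponent).specializes hzC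
    have h1 : e ⤳ (hCi.genericPoint : W) := heη ▸ hη _ (hgz.map continuous_subtype_val)
    exact specializes_iff_mem_closure.1 (h1.trans (hgy.map continuous_subtype_val))
  · intro hc
    obtain ⟨C, hC, hzC⟩ := Set.mem_iUnion₂.1 hc
    exact hC.2 hzC

theorem mem_nonZeroDivisors_of_flat {A B : Type u} [CommRing A] [CommRing B] (φ : A →+* B) (hφ : φ.Flat)
    {a : A} (ha : a ∈ nonZeroDivisors A) : φ a ∈ nonZeroDivisors B := by
  letI := φ.toAlgebra
  haveI : Module.Flat A B := hφ
  have h1 : IsSMulRegular B a := Module.Flat.isSMulRegular_of_nonZeroDivisors ha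
  refine mem_nonZeroDivisors_iff_right.2 fun b hb => h1 ?_
  show a • b = a • (0 : B)
  rw [smul_zero, Algebra.smul_def, mul_comm]
  exact hb

theorem main {X Y : Scheme.{u}} [IsLocallyNoetherian Y] (f : Y ⟶ X) [IsFinite f] [Etale f]
    (D : X.IdealSheafData) (hD : FGA.IsEffCartier D) [IsIntegral D.subscheme] (hDn : Pi1.IsNormalScheme D.subscheme)
    (E : Y.IdealSheafData) [IsIntegral E.subscheme]
    (g : (E.subscheme : Scheme.{u}) ⟶ D.subscheme) (hg : g ≫ D.subschemeι = E.subschemeι ≫ f)
    (hsurj : Function.Surjective g.base) (hdeg : g.residueDegree (genericPoint E.subscheme) = 1) :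
    IsIso g ∧ FGA.IsEffCartier E := by
  haveI : IsFinite g := by
    haveI : IsFinite (g ≫ D.subschemeι) := by rw [hg]; infer_instance
    exact IsFinite.of_comp g D.subschemeι
  have hgen : g (genericPoint E.subscheme) = genericPoint D.subscheme := by
    have h1 := (genericPoint_spec E.subscheme).image g.continuous
    rw [Set.image_univ, (show Set.range g = Set.univ from hsurj.range_eq), closure_univ] at h1
    exact h1.eq (genericPoint_spec _)
  have hiso : IsIso g := by
    refine S4808.result (fun y => (hDn y).2) g hgen ?_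
    let η := genericPoint E.subscheme
    letI := (g.residueFieldMap η).hom.toAlgebra
    have hbij : Function.Bijective (g.residueFieldMap η) := by
      refine ⟨RingHom.injective _, ?_⟩
      have h1 : (⊥ : Subalgebra (D.subscheme.residueField (g η)) (E.subscheme.residueField η)) = ⊤ :=
        Subalgebra.bot_eq_top_of_finrank_eq_one hdeg
      intro b
      exact Algebra.mem_bot.1 (h1 ▸ Algebra.mem_top : b ∈ (⊥ : Subalgebra _ _))
    have hE : IsField (E.subscheme.presheaf.stalk η) := Field.toIsField E.subscheme.functionField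
    have hDf : IsField (D.subscheme.presheaf.stalk (g η)) := by
      rw [hgen]; exact Field.toIsField D.subscheme.functionField
    have hres : ∀ {S : Scheme.{u}} (x : S), IsField (S.presheaf.stalk x) → Function.Bijective (S.residue x) :=
      fun x hx => by
        refine ⟨?_, Ideal.Quotient.mk_surjective⟩
        letI := hx.toField
        exact RingHom.injective (S := IsLocalRing.ResidueField _) _
    have h2 : Function.Bijective ((g.stalkMap η ≫ E.subscheme.residue η) : _ ⟶ _) := by
      rw [← Scheme.residue_residueFieldMap]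
      exact hbij.comp (hres _ hDf)
    rw [ConcreteCategory.isIso_iff_bijective]
    exact (Function.Bijective.of_comp_iff' (hres η hE) _).1 h2
  refine ⟨hiso, ?_⟩
  let J := D.comap f
  have hle : J ≤ E := by
    rw [← Scheme.IdealSheafData.ker_subschemeι E]
    show (pullback.fst f D.subschemeι).ker ≤ E.subschemeι.ker
    rw [show E.subschemeι = pullback.lift E.subschemeι g hg.symm ≫ pullback.fst f D.subschemeι from
      (pullback.lift_fst _ _ _).symm]
    exact Scheme.Hom.le_ker_comp _ _
  let W := J.subscheme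
  let q : W ⟶ D.subscheme := (D.comapIso f).hom ≫ pullback.snd f D.subschemeι
  have hWn : Pi1.IsNormalScheme W := S7180.result q hDn
  haveI : IsReduced W := H06Norm.isReduced_of_isNormalScheme hWn
  haveI : IsLocallyNoetherian W := LocallyOfFiniteType.isLocallyNoetherian J.subschemeι
  let t : E.subscheme ⟶ W := IsClosedImmersion.lift J.subschemeι E.subschemeι
    (by rw [Scheme.IdealSheafData.ker_subschemeι, Scheme.IdealSheafData.ker_subschemeι]; exact hle)
  have ht : t ≫ J.subschemeι = E.subschemeι := IsClosedImmersion.lift_fac _ _ _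
  haveI : IsClosedImmersion (t ≫ J.subschemeι) := by rw [ht]; infer_instance
  haveI : IsClosedImmersion t := IsClosedImmersion.of_comp t J.subschemeι
  have htq : t ≫ q = g := by
    rw [← cancel_mono D.subschemeι, hg]
    show (t ≫ (D.comapIso f).hom ≫ pullback.snd f D.subschemeι) ≫ D.subschemeι = _
    rw [Category.assoc, Category.assoc, ← pullback.condition, Scheme.IdealSheafData.comapIso_hom_fst_assoc,
      reassoc_of% ht]
  let e := t (genericPoint E.subscheme)
  have hmax : ∀ w : W, w ⤳ e → w = e := fun w hw => by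
    have h1 : q w ⤳ q e := hw.map q.continuous
    have h2 : q e = genericPoint D.subscheme := by
      rw [← hgen, ← htq, Scheme.Hom.comp_apply]; rfl
    have h3 : q w = genericPoint D.subscheme :=
      ((genericPoint_specializes (q w)).antisymm (h2 ▸ h1)).eq.symm
    haveI : DiscreteTopology ↥(q.base ⁻¹' {genericPoint D.subscheme}) :=
      (q.isDiscrete_preimage_singleton _).to_subtype
    have hs : (⟨w, h3⟩ : ↥(q.base ⁻¹' {genericPoint D.subscheme})) ⤳ ⟨e, h2⟩ := (subtype_specializes_iff _ _).2 hw
    exact congrArg Subtype.val hs.eq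
  have hrange : Set.range t = closure {e} := by
    rw [← Set.image_singleton, t.isClosedEmbedding.closure_image_eq, genericPoint_spec E.subscheme |>.def,
      Set.image_univ]
  have hopen : IsOpen (Set.range t) := hrange ▸ isOpen_closure_of_maximal (fun w => (hWn w).1) e hmax
  let R₀ : Set Y := J.subschemeι '' (Set.range t)ᶜ
  have hR₀ : IsClosed R₀ := J.subschemeι.isClosedEmbedding.isClosedMap _ hopen.isClosed_compl
  intro y
  by_cases hy : y ∈ (E.support : Set Y)
  · have hyR : y ∉ R₀ := by
      rw [← E.range_subschemeι] at hy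
      obtain ⟨a, rfl⟩ := hy
      rintro ⟨w, hw, hwa⟩
      refine hw ⟨a, J.subschemeι.isClosedEmbedding.injective ?_⟩
      rw [← Scheme.Hom.comp_apply, ht, hwa]
    obtain ⟨U₀, hxU₀, c, hc, hcD⟩ := hD (f y)
    obtain ⟨V, hV, hyV, hVle⟩ := exists_isAffineOpen_mem_and_subset
      (U := f ⁻¹ᵁ U₀.1 ⊓ ⟨R₀ᶜ, hR₀.isOpen_compl⟩) (x := y) ⟨hxU₀, hyR⟩
    have hVU : V ≤ f ⁻¹ᵁ U₀.1 := fun a ha => (hVle ha).1
    refine ⟨⟨V, hV⟩, hyV, f.appLE U₀.1 V hVU c, ?_, ?_⟩
    · exact mem_nonZeroDivisors_of_flat _ (Flat.flat_appLE f U₀.2 hV hVU) hc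
    have hJ : J.ideal ⟨V, hV⟩ = Ideal.span {(f.appLE U₀.1 V hVU).hom c} := by
      rw [H29Blow.ideal_comap D f U₀ ⟨V, hV⟩ hVU, hcD, Ideal.map_span, Set.image_singleton]
    rw [← hJ]
    refine le_antisymm ?_ (hle _)
    have hrad : (J.ideal ⟨V, hV⟩).IsRadical := by
      rw [← J.ker_subschemeι_app ⟨V, hV⟩]
      exact (RingHom.ker_isRadical_iff_reduced_of_surjective (J.subschemeι_app_surjective ⟨V, hV⟩)).2 inferInstance
    intro a ha
    refine hrad ?_
    rw [← PrimeSpectrum.vanishingIdeal_zeroLocus_eq_radical, PrimeSpectrum.mem_vanishingIdeal]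
    intro P hP
    have hPJ : hV.fromSpec P ∈ (J.support : Set Y) := by
      have := ((J.coe_support_inter ⟨V, hV⟩).trans (hV.fromSpec_image_zeroLocus _).symm).ge ⟨P, hP, rfl⟩
      exact this.1
    have hPE : hV.fromSpec P ∈ (E.support : Set Y) := by
      rw [← J.range_subschemeι] at hPJ
      obtain ⟨w, hw⟩ := hPJ
      rw [← E.range_subschemeι]
      by_contra hc'
      have hPV : hV.fromSpec P ∈ V := hV.range_fromSpec.le ⟨P, rfl⟩
      refine (hVle hPV).2 ⟨w, fun ⟨a, ha'⟩ => hc' ⟨a, ?_⟩, hw⟩
      rw [← ht, Scheme.Hom.comp_apply, ha', hw]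
    have h5 : hV.fromSpec P ∈ hV.fromSpec '' PrimeSpectrum.zeroLocus (E.ideal ⟨V, hV⟩) :=
      ((E.coe_support_inter ⟨V, hV⟩).trans (hV.fromSpec_image_zeroLocus _).symm).le ⟨hPE, hV.range_fromSpec.le ⟨P, rfl⟩⟩
    obtain ⟨P', hP', hPP⟩ := h5
    obtain rfl := hV.fromSpec.isOpenEmbedding.injective hPP
    exact hP' ha
  · obtain ⟨V, hV, hyV, hVle⟩ := exists_isAffineOpen_mem_and_subset
      (U := (⟨(E.support : Set Y)ᶜ, E.support.isClosed.isOpen_compl⟩ : Y.Opens)) (x := y) hy
    refine ⟨⟨V, hV⟩, hyV, 1, one_mem _, ?_⟩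
    rw [Ideal.span_singleton_one]
    rw [← PrimeSpectrum.zeroLocus_empty_iff_eq_top, Set.eq_empty_iff_forall_notMem]
    intro P hP
    exact hVle (hV.range_fromSpec.le ⟨P, rfl⟩) (((E.coe_support_inter ⟨V, hV⟩).trans (hV.fromSpec_image_zeroLocus _).symm).ge ⟨P, hP, rfl⟩).1

end Groth.Agent.H22Alg.SplitDiv
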