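import Mathlib.Algebra.Homology.Homotopy
import Mathlib.Algebra.Module.Projective
import Mathlib.LinearAlgebra.FreeModule.Basic
import Groth.Agent.H22Alg.HomologyElt

/-!
Degreewise split injective quasi-isomorphisms of bounded below complexes with free cokernels.
-/

universe v u

open CategoryTheory Limits

namespace Groth.Agent.H22Alg.SplitQuasiIso

variable {R : Type u} [CommRing R]

/-- An exact bounded below sequence of projective modules is contractible. -/
theorem exists_contraction (Q : ℕ → Type v) [∀ q, AddCommGroup (Q q)] [∀ q, Module R (Q q)]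
    [∀ q, Module.Projective R (Q q)] (d : ∀ q, Q (q + 1) →ₗ[R] Q q)
    (hdd : ∀ q (x : Q (q + 2)), d q (d (q + 1) x) = 0) (h0 : Function.Surjective (d 0))
    (hex : ∀ q (x : Q (q + 1)), d q x = 0 → ∃ y, d (q + 1) y = x) :
    ∃ s : ∀ q, Q q →ₗ[R] Q (q + 1), (∀ x, d 0 (s 0 x) = x) ∧
      ∀ q x, d (q + 1) (s (q + 1) x) + s q (d q x) = x := by
  have step : ∀ q, ∀ s : {s : Q q →ₗ[R] Q (q + 1) // ∀ x, d q (s (d q x)) = d q x},
      ∃ t : {t : Q (q + 1) →ₗ[R] Q (q + 2) // ∀ x, d (q + 1) (t (d (q + 1) x)) = d (q + 1) x},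
        ∀ x, d (q + 1) (t.1 x) + s.1 (d q x) = x := by
    intro q s
    let g : Q (q + 1) →ₗ[R] LinearMap.range (d (q + 1)) :=
      (LinearMap.id - s.1.comp (d q)).codRestrict _ fun x => hex q _ (by
        show d q (x - s.1 (d q x)) = 0
        rw [map_sub, s.2, sub_self])
    obtain ⟨t, ht⟩ := Module.projective_lifting_property (d (q + 1)).rangeRestrict g (d (q + 1)).surjective_rangeRestrict
    have key : ∀ x, d (q + 1) (t x) + s.1 (d q x) = x := fun x => by
      have h : d (q + 1) (t x) = x - s.1 (d q x) := congrArg Subtype.val (LinearMap.congr_fun ht x)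
      rw [h, sub_add_cancel]
    refine ⟨⟨t, fun x => ?_⟩, key⟩
    have h := key (d (q + 1) x)
    rwa [hdd, map_zero, add_zero] at h
  choose next hnext using step
  obtain ⟨s₀, hs₀⟩ := Module.projective_lifting_property (d 0) LinearMap.id h0
  let S : ∀ q, {s : Q q →ₗ[R] Q (q + 1) // ∀ x, d q (s (d q x)) = d q x} :=
    fun q => Nat.rec ⟨s₀, fun x => LinearMap.congr_fun hs₀ _⟩ next q
  exact ⟨fun q => (S q).1, LinearMap.congr_fun hs₀, fun q x => hnext q (S q) x⟩

variable {A' A : ChainComplex (ModuleCat.{v} R) ℕ} (f : A' ⟶ A)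

theorem f_d (i j : ℕ) (x : A'.X i) : A.d i j (f.f i x) = f.f j (A'.d i j x) := by
  simpa only [ModuleCat.hom_comp, LinearMap.comp_apply] using congrArg (fun g => g.hom x) (f.comm i j)

theorem d_d (K : ChainComplex (ModuleCat.{v} R) ℕ) (i j k : ℕ) (x : K.X i) : K.d j k (K.d i j x) = 0 := by
  simpa only [ModuleCat.hom_comp, ModuleCat.hom_zero, LinearMap.comp_apply, LinearMap.zero_apply] using
    congrArg (fun g => g.hom x) (K.d_comp_d i j k)

theorem exists_of_surjective_zero [QuasiIso f] (a : A.X 0) :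
    ∃ x b, f.f 0 x + A.d 1 0 b = a := by
  have h := (HomologyElt.surjective_homologyMap_iff f (i := 0) (j := 1) (k := 0) (by simp) (by simp)).mp
    ((ModuleCat.epi_iff_surjective _).mp inferInstance) a (by rw [A.shape 0 0 (by simp)]; rfl)
  obtain ⟨x, b, -, hb⟩ := h
  exact ⟨x, b, hb⟩

theorem exists_of_d_mem_range [QuasiIso f] (hf : ∀ q, Function.Injective (f.f q).hom) (q : ℕ) (a : A.X (q + 1))
    (b : A'.X q) (hab : f.f q b = A.d (q + 1) q a) :
    ∃ x e, f.f (q + 1) x + A.d (q + 2) (q + 1) e = a := by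
  have hb : ∀ k, A'.d q k b = 0 := fun k => hf k (by
    show f.f k (A'.d q k b) = f.f k 0
    rw [map_zero, ← f_d, hab, d_d])
  obtain ⟨c, hc⟩ := (HomologyElt.injective_homologyMap_iff f (i := q) (j := q + 1) (k := (ComplexShape.down ℕ).next q)
    (by simp) rfl).mp ((ModuleCat.mono_iff_injective _).mp inferInstance) b (hb _) a hab.symm
  obtain ⟨x, e, -, he⟩ := (HomologyElt.surjective_homologyMap_iff f (i := q + 1) (j := q + 2) (k := q) (by simp) (by simp)).mp
    ((ModuleCat.epi_iff_surjective _).mp inferInstance) (a - f.f (q + 1) c) (by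
      rw [map_sub, f_d, hc, hab, sub_self])
  refine ⟨c + x, e, ?_⟩
  rw [map_add, add_assoc, he, add_sub_cancel]

/-- The quotient in degree `q`. -/
abbrev Quo (q : ℕ) : Type v := (A.X q) ⧸ LinearMap.range (f.f q).hom

theorem mk_f {q : ℕ} (x : A'.X q) : (Submodule.Quotient.mk (f.f q x) : Quo f q) = 0 :=
  (Submodule.Quotient.mk_eq_zero _).mpr ⟨x, rfl⟩

/-- The differential of the quotient. -/
noncomputable def quoD (q : ℕ) : Quo f (q + 1) →ₗ[R] Quo f q :=
  Submodule.mapQ _ _ (A.d (q + 1) q).hom (by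
    rintro _ ⟨x, rfl⟩
    exact ⟨A'.d (q + 1) q x, (f_d f _ _ x).symm⟩)

theorem quoD_mk (q : ℕ) (a : A.X (q + 1)) :
    quoD f q (Submodule.Quotient.mk a) = Submodule.Quotient.mk (A.d (q + 1) q a) :=
  Submodule.mapQ_apply _ _ _ a

theorem exists_contraction_quo [QuasiIso f] (hf : ∀ q, Function.Injective (f.f q).hom)
    [∀ q, Module.Projective R (Quo f q)] :
    ∃ s : ∀ q, Quo f q →ₗ[R] Quo f (q + 1), (∀ x, quoD f 0 (s 0 x) = x) ∧
      ∀ q x, quoD f (q + 1) (s (q + 1) x) + s q (quoD f q x) = x := by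
  refine exists_contraction (Quo f) (quoD f) ?_ ?_ ?_
  · intro q x
    obtain ⟨a, rfl⟩ := Submodule.Quotient.mk_surjective _ x
    rw [quoD_mk, quoD_mk, d_d, Submodule.Quotient.mk_zero]
  · intro x
    obtain ⟨a, rfl⟩ := Submodule.Quotient.mk_surjective _ x
    obtain ⟨y, b, hb⟩ := exists_of_surjective_zero f a
    refine ⟨Submodule.Quotient.mk b, ?_⟩
    rw [quoD_mk, Submodule.Quotient.eq, ← hb]
    exact ⟨-y, by show f.f 0 (-y) = _; rw [map_neg]; abel⟩
  · intro q x hx
    obtain ⟨a, rfl⟩ := Submodule.Quotient.mk_surjective _ x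
    rw [quoD_mk, Submodule.Quotient.mk_eq_zero] at hx
    obtain ⟨b, hb⟩ := hx
    obtain ⟨y, e, he⟩ := exists_of_d_mem_range f hf q a b hb
    refine ⟨Submodule.Quotient.mk e, ?_⟩
    rw [quoD_mk, Submodule.Quotient.eq, ← he]
    exact ⟨-y, by show f.f (q + 1) (-y) = _; rw [map_neg]; abel⟩

/-- A degreewise split injective quasi-isomorphism with projective quotients has a retraction. -/
theorem exists_retraction [QuasiIso f] (hf : ∀ q, Function.Injective (f.f q).hom)
    [∀ q, Module.Projective R (Quo f q)] : ∃ g : A ⟶ A', f ≫ g = 𝟙 A' := by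
  obtain ⟨s, hs0, hs⟩ := exists_contraction_quo f hf
  have hσ : ∀ q, ∃ σ : Quo f q →ₗ[R] A.X q, ∀ x, Submodule.Quotient.mk (σ x) = x := fun q => by
    obtain ⟨σ, h⟩ := Module.projective_lifting_property (Submodule.mkQ (LinearMap.range (f.f q).hom))
      (LinearMap.id : Quo f q →ₗ[R] Quo f q) (Submodule.mkQ_surjective _)
    exact ⟨σ, LinearMap.congr_fun h⟩
  choose σ hσ using hσ
  have hr : ∀ q, ∃ r : A.X q →ₗ[R] A'.X q, ∀ a, f.f q (r a) = a - σ q (Submodule.Quotient.mk a) := fun q => by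
    let e := LinearEquiv.ofInjective (f.f q).hom (hf q)
    exact ⟨e.symm.toLinearMap.comp ((LinearMap.id - (σ q).comp (Submodule.mkQ _)).codRestrict _
      fun a => (Submodule.Quotient.eq _).mp ((hσ q (Submodule.Quotient.mk a)).symm)),
      fun a => LinearEquiv.ofInjective_symm_apply (h := hf q) _ _⟩
  choose r hr using hr
  have hrf : ∀ q (x : A'.X q), r q (f.f q x) = x := fun q x => hf q (by
    show f.f q _ = f.f q _
    rw [hr, mk_f, map_zero, sub_zero])
  let δ : ∀ q, Quo f (q + 1) →ₗ[R] A'.X q := fun q =>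
    Submodule.liftQ _ ((A'.d (q + 1) q).hom.comp (r (q + 1)) - (r q).comp (A.d (q + 1) q).hom) (by
      rintro _ ⟨x, rfl⟩
      show A'.d (q + 1) q (r (q + 1) (f.f (q + 1) x)) - r q (A.d (q + 1) q (f.f (q + 1) x)) = 0
      rw [hrf, f_d, hrf, sub_self])
  have hδ : ∀ q a, δ q (Submodule.Quotient.mk a) = A'.d (q + 1) q (r (q + 1) a) - r q (A.d (q + 1) q a) :=
    fun q a => Submodule.liftQ_apply _ _ a
  have hanti : ∀ q x, A'.d (q + 1) q (δ (q + 1) x) = - δ q (quoD f (q + 1) x) := fun q x => by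
    obtain ⟨a, rfl⟩ := Submodule.Quotient.mk_surjective _ x
    rw [quoD_mk, hδ, hδ, map_sub, d_d, d_d, map_zero]
    abel
  let G : ∀ q, A.X q →ₗ[R] A'.X q := fun q => r q + ((δ q).comp (s q)).comp (Submodule.mkQ _)
  have hG : ∀ q a, G q a = r q a + δ q (s q (Submodule.Quotient.mk a)) := fun q a => rfl
  refine ⟨{ f := fun q => ModuleCat.ofHom (G q), comm' := ?_ }, ?_⟩
  · rintro i j (rfl : j + 1 = i)
    ext a
    show A'.d (j + 1) j (G (j + 1) a) = G j (A.d (j + 1) j a)
    rw [hG, hG, map_add, hanti]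
    have h := hs j (Submodule.Quotient.mk a)
    rw [← eq_sub_iff_add_eq] at h
    rw [h, map_sub, hδ, quoD_mk]
    abel
  · ext q x
    show G q (f.f q x) = x
    rw [hG, hrf, mk_f, map_zero, map_zero, add_zero]

/-- Two retractions are homotopic by a homotopy vanishing on the subcomplex. -/
theorem exists_homotopy [QuasiIso f] (hf : ∀ q, Function.Injective (f.f q).hom)
    [∀ q, Module.Projective R (Quo f q)] {B : ChainComplex (ModuleCat.{v} R) ℕ} (g₁ g₂ : A ⟶ B)
    (h : f ≫ g₁ = f ≫ g₂) : ∃ H : Homotopy g₁ g₂, ∀ i j : ℕ, f.f i ≫ H.hom i j = 0 := by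
  obtain ⟨s, hs0, hs⟩ := exists_contraction_quo f hf
  let e : ∀ q, Quo f q →ₗ[R] B.X q := fun q => Submodule.liftQ _ ((g₁ - g₂).f q).hom (by
    rintro _ ⟨x, rfl⟩
    show (g₁.f q - g₂.f q) (f.f q x) = 0
    have h' := congrArg (fun g : A' ⟶ B => (g.f q).hom x) h
    simp only [HomologicalComplex.comp_f, ModuleCat.hom_comp, LinearMap.comp_apply] at h'
    exact sub_eq_zero.mpr h')
  have he : ∀ q a, e q (Submodule.Quotient.mk a) = g₁.f q a - g₂.f q a := fun q a => Submodule.liftQ_apply _ _ a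
  have hed : ∀ q x, B.d (q + 1) q (e (q + 1) x) = e q (quoD f q x) := fun q x => by
    obtain ⟨a, rfl⟩ := Submodule.Quotient.mk_surjective _ x
    rw [quoD_mk, he, he, map_sub, f_d, f_d]
  let k : ∀ q, A.X q ⟶ B.X (q + 1) := fun q =>
    ModuleCat.ofHom (((e (q + 1)).comp (s q)).comp (Submodule.mkQ _))
  have hk : ∀ q a, k q a = e (q + 1) (s q (Submodule.Quotient.mk a)) := fun q a => rfl
  refine ⟨{ hom := fun i j => if h : i + 1 = j then k i ≫ eqToHom (by rw [h]) else 0
            zero := fun i j hij => dif_neg (fun h => hij (by simpa using h))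
            comm := fun i => ?_ }, fun i j => ?_⟩
  · cases i with
    | zero =>
      rw [Homotopy.dNext_zero_chainComplex, Homotopy.prevD_chainComplex, dif_pos rfl, eqToHom_refl, Category.comp_id, zero_add]
      ext a
      show g₁.f 0 a = B.d 1 0 (k 0 a) + g₂.f 0 a
      rw [hk, hed, hs0, he, sub_add_cancel]
    | succ i =>
      rw [Homotopy.dNext_succ_chainComplex, Homotopy.prevD_chainComplex, dif_pos rfl, dif_pos rfl, eqToHom_refl, eqToHom_refl,
        Category.comp_id, Category.comp_id]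
      ext a
      show g₁.f (i + 1) a = k i (A.d (i + 1) i a) + B.d (i + 1 + 1) (i + 1) (k (i + 1) a) + g₂.f (i + 1) a
      rw [hk, hk, hed, ← quoD_mk, add_comm (e (i + 1) _) (e (i + 1) _), ← map_add, hs, he, sub_add_cancel]
  · dsimp only
    split
    · rename_i hij
      subst hij
      ext x
      show k i (f.f i x) = 0
      rw [hk, mk_f, map_zero, map_zero]
    · exact comp_zero

end Groth.Agent.H22Alg.SplitQuasiIso
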