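import Mathlib

/-!
A splitting algebra of a monic polynomial with a linear retraction to the base.
-/

universe u

namespace Groth.Agent.H22Alg

open Polynomial

theorem exists_splitting_aux : ∀ (n : ℕ) {A : Type u} [CommRing A] (g : A[X]), g.Monic → g.natDegree = n →
    ∃ (A'' : Type u) (_ : CommRing A'') (_ : Algebra A A'') (r : A'' →ₗ[A] A),
      (∀ a, r (algebraMap A A'' a) = a) ∧ ∃ rt : Fin n → A'', g.map (algebraMap A A'') = ∏ j, (X - C (rt j)) := by
  intro n
  induction n with
  | zero =>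
    intro A _ g hg hdeg
    refine ⟨A, inferInstance, inferInstance, LinearMap.id, fun a => rfl, Fin.elim0, ?_⟩
    rw [hg.natDegree_eq_zero.mp hdeg]
    simp
  | succ n ih =>
    intro A _ g hg hdeg
    rcases subsingleton_or_nontrivial A with hA | hA
    · exact ⟨A, inferInstance, inferInstance, LinearMap.id, fun a => rfl, fun _ => 0, Subsingleton.elim _ _⟩
    let A₁ := AdjoinRoot g
    let pb := AdjoinRoot.powerBasis' hg
    have hdim : 0 < pb.dim := by rw [AdjoinRoot.powerBasis'_dim, hdeg]; exact Nat.succ_pos n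
    let r₁ : A₁ →ₗ[A] A := pb.basis.coord ⟨0, hdim⟩
    have hr₁ : ∀ a, r₁ (algebraMap A A₁ a) = a := fun a => by
      have h0 : (algebraMap A A₁ a) = a • pb.basis ⟨0, hdim⟩ := by
        rw [pb.basis_eq_pow, pow_zero, Algebra.algebraMap_eq_smul_one]
      rw [h0, map_smul, Module.Basis.coord_apply, Module.Basis.repr_self, Finsupp.single_eq_same,
        smul_eq_mul, mul_one]
    haveI : Nontrivial A₁ := nontrivial_of_ne (algebraMap A A₁ 0) (algebraMap A A₁ 1) fun h =>
      zero_ne_one ((hr₁ 0).symm.trans ((congrArg r₁ h).trans (hr₁ 1)))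
    obtain ⟨g₁, hg₁⟩ := (dvd_iff_isRoot (p := g.map (AdjoinRoot.of g))).mpr (AdjoinRoot.isRoot_root g)
    have hm₁ : g₁.Monic := (monic_X_sub_C _).of_mul_monic_left (hg₁ ▸ hg.map _)
    have hd₁ : g₁.natDegree = n := by
      have h := congrArg natDegree hg₁
      rw [hg.natDegree_map, hdeg, (monic_X_sub_C _).natDegree_mul hm₁, natDegree_X_sub_C] at h
      omega
    obtain ⟨A₂, i₁, i₂, r₂, hr₂, rt, hrt⟩ := ih g₁ hm₁ hd₁
    letI : Algebra A A₂ := ((algebraMap A₁ A₂).comp (algebraMap A A₁)).toAlgebra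
    haveI : IsScalarTower A A₁ A₂ := IsScalarTower.of_algebraMap_eq fun _ => rfl
    refine ⟨A₂, i₁, inferInstance, r₁.comp (r₂.restrictScalars A), fun a => ?_,
      Fin.cons (algebraMap A₁ A₂ (AdjoinRoot.root g)) rt, ?_⟩
    · show r₁ (r₂ (algebraMap A₁ A₂ (algebraMap A A₁ a))) = a
      rw [hr₂, hr₁]
    · rw [IsScalarTower.algebraMap_eq A A₁ A₂, ← map_map, AdjoinRoot.algebraMap_eq, hg₁, Polynomial.map_mul,
        Polynomial.map_sub, map_X, map_C, hrt, Fin.prod_univ_succ]
      simp

/-- A monic polynomial splits in an algebra admitting a linear retraction onto the base. -/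
theorem exists_splitting {A : Type u} [CommRing A] (g : A[X]) (hg : g.Monic) :
    ∃ (A'' : Type u) (_ : CommRing A'') (_ : Algebra A A'') (r : A'' →ₗ[A] A),
      (∀ a, r (algebraMap A A'' a) = a) ∧ ∃ rt : Fin g.natDegree → A'',
        g.map (algebraMap A A'') = ∏ j, (X - C (rt j)) :=
  exists_splitting_aux _ g hg rfl

theorem isUnit_sub_of_separable {A A'' : Type u} [CommRing A] [CommRing A''] [Algebra A A''] {g : A[X]} {m : ℕ}
    {rt : Fin m → A''} (hfac : g.map (algebraMap A A'') = ∏ j, (X - C (rt j))) (hsep : g.Separable)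
    {i j : Fin m} (hij : i ≠ j) : IsUnit (rt i - rt j) := by
  classical
  have h := hsep.map (f := algebraMap A A'')
  rw [hfac, ← Finset.mul_prod_erase _ _ (Finset.mem_univ i),
    ← Finset.mul_prod_erase _ _ (Finset.mem_erase.mpr ⟨hij.symm, Finset.mem_univ j⟩), ← mul_assoc] at h
  obtain ⟨u, v, huv⟩ := h.of_mul_left.isCoprime
  have := congrArg (Polynomial.eval (rt i)) huv
  simp only [eval_add, eval_mul, eval_sub, eval_X, eval_C, sub_self, mul_zero, zero_add, eval_one] at this
  exact IsUnit.of_mul_eq_one_right _ this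

end Groth.Agent.H22Alg
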