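import Mathlib.AlgebraicGeometry.Birational.RationalMap
import Mathlib.AlgebraicGeometry.FunctionField

/-!
Two morphisms to a scheme locally of finite type over the base that agree on a local ring agree nearby
(no germ-injectivity needed).
-/

universe u

open CategoryTheory AlgebraicGeometry

namespace Groth.Agent.H22Alg

theorem exists_agree_finset {X : Scheme.{u}} {B : CommRingCat.{u}} {U : X.Opens} {x : X} (hxU : x ∈ U)
    (a b : B ⟶ Γ(X, U)) (h : a ≫ X.presheaf.germ U x hxU = b ≫ X.presheaf.germ U x hxU) (s : Finset B) :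
    ∃ (U₁ : X.Opens) (_ : x ∈ U₁) (i : U₁ ≤ U),
      ∀ t ∈ s, X.presheaf.map (homOfLE i).op (a t) = X.presheaf.map (homOfLE i).op (b t) := by
  classical
  induction s using Finset.induction_on with
  | empty => exact ⟨U, hxU, le_rfl, by simp⟩
  | @insert t s _ ih =>
    obtain ⟨U₁, hx₁, i₁, hs⟩ := ih
    obtain ⟨W, hxW, iU, iV, heq⟩ := X.presheaf.germ_eq x hxU hxU (a t) (b t) (ConcreteCategory.congr_hom h t)
    refine ⟨U₁ ⊓ W, ⟨hx₁, hxW⟩, inf_le_left.trans i₁, fun t' ht' => ?_⟩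
    have aux : ∀ {V' W' : X.Opens} (i : V' ≤ W') (j : W' ⟶ U) (k : V' ≤ U) (z : Γ(X, U)),
        X.presheaf.map (homOfLE i).op (X.presheaf.map j.op z) = X.presheaf.map (homOfLE k).op z := by
      intro V' W' i j k z
      rw [← ConcreteCategory.comp_apply, ← X.presheaf.map_comp]
      rfl
    rcases Finset.mem_insert.mp ht' with rfl | ht'
    · have := congrArg (X.presheaf.map (homOfLE (inf_le_right : U₁ ⊓ W ≤ W)).op) heq
      rwa [aux _ _ (inf_le_left.trans i₁), aux _ _ (inf_le_left.trans i₁)] at this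
    · have := congrArg (X.presheaf.map (homOfLE (inf_le_left : U₁ ⊓ W ≤ U₁)).op) (hs t' ht')
      rwa [aux _ _ (inf_le_left.trans i₁), aux _ _ (inf_le_left.trans i₁)] at this

theorem exists_agree_of_stalk {X Y S : Scheme.{u}} (sY : Y ⟶ S) [LocallyOfFiniteType sY] {x : X}
    (f g : X ⟶ Y) (hfg : f ≫ sY = g ≫ sY) (e : f x = g x)
    (H : f.stalkMap x =
      Y.presheaf.stalkSpecializes (Inseparable.of_eq e.symm).specializes ≫ g.stalkMap x) :
    ∃ (U : X.Opens), x ∈ U ∧ U.ι ≫ f = U.ι ≫ g := by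
  obtain ⟨_, ⟨W, hW, rfl⟩, hxW, -⟩ :=
    S.isBasis_affineOpens.exists_subset_of_mem_open (Set.mem_univ (sY (f x))) isOpen_univ
  obtain ⟨_, ⟨V : Y.Opens, hV, rfl⟩, hxV, iVW⟩ :=
    Y.isBasis_affineOpens.exists_subset_of_mem_open (a := f x) hxW (sY ⁻¹ᵁ W).2
  have hxV' : g x ∈ V := e ▸ hxV
  obtain ⟨_, ⟨U₀, hU₀, rfl⟩, hxU₀, hU₀V⟩ :=
    X.isBasis_affineOpens.exists_subset_of_mem_open (a := x)
      (show x ∈ f ⁻¹ᵁ V ⊓ g ⁻¹ᵁ V from ⟨hxV, hxV'⟩) (f ⁻¹ᵁ V ⊓ g ⁻¹ᵁ V).2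
  have iU : U₀ ≤ f ⁻¹ᵁ V ⊓ g ⁻¹ᵁ V := hU₀V
  have hgerm : f.appLE V U₀ (iU.trans inf_le_left) ≫ X.presheaf.germ U₀ x hxU₀ =
      g.appLE V U₀ (iU.trans inf_le_right) ≫ X.presheaf.germ U₀ x hxU₀ := by
    simp only [Scheme.Hom.appLE, Category.assoc, X.presheaf.germ_res', ← Scheme.Hom.germ_stalkMap, H]
    simp only [TopCat.Presheaf.germ_stalkSpecializes_assoc, Scheme.Hom.germ_stalkMap]
  obtain ⟨s, hs⟩ : (sY.appLE W V iVW).hom.FiniteType := sY.finiteType_appLE hW hV _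
  obtain ⟨U₁, hxU₁, i₁, hU₁⟩ := exists_agree_finset hxU₀ _ _ hgerm s
  have ef : f.appLE V U₁ (i₁.trans (iU.trans inf_le_left)) = g.appLE V U₁ (i₁.trans (iU.trans inf_le_right)) := by
    have hbase : sY.appLE W V iVW ≫ f.appLE V U₁ (i₁.trans (iU.trans inf_le_left)) =
        sY.appLE W V iVW ≫ g.appLE V U₁ (i₁.trans (iU.trans inf_le_right)) := by
      simp only [Scheme.Hom.appLE_comp_appLE]
      congr 1
    let := (sY.appLE W V iVW).hom.toAlgebra
    let := (sY.appLE W V iVW ≫ f.appLE V U₁ (i₁.trans (iU.trans inf_le_left))).hom.toAlgebra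
    let F : Γ(Y, V) →ₐ[Γ(S, W)] Γ(X, U₁) :=
      { (f.appLE V U₁ (i₁.trans (iU.trans inf_le_left))).hom with commutes' := fun r => rfl }
    let G : Γ(Y, V) →ₐ[Γ(S, W)] Γ(X, U₁) :=
      { (g.appLE V U₁ (i₁.trans (iU.trans inf_le_right))).hom with
        commutes' := fun r => (ConcreteCategory.congr_hom hbase r).symm }
    have hFG : F = G := AlgHom.ext_of_adjoin_eq_top hs fun t ht => by
      have := hU₁ t ht
      simp only [← ConcreteCategory.comp_apply, Scheme.Hom.appLE_map] at this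
      exact this
    exact CommRingCat.hom_ext (congrArg AlgHom.toRingHom hFG)
  refine ⟨U₁, hxU₁, ?_⟩
  have : IsAffine V := hV
  rw [← Scheme.Hom.resLE_comp_ι _ (i₁.trans (iU.trans inf_le_left)),
    ← Scheme.Hom.resLE_comp_ι _ (i₁.trans (iU.trans inf_le_right))]
  congr 1
  suffices ∀ (U' V') (eU : U₁ = U') (eV : V = V'),
      f.appLE V' U' (eU ▸ eV ▸ i₁.trans (iU.trans inf_le_left)) =
        g.appLE V' U' (eU ▸ eV ▸ i₁.trans (iU.trans inf_le_right)) by
    rw [← cancel_mono V.toScheme.isoSpec.hom]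
    simp only [Scheme.isoSpec, asIso_hom, Scheme.toSpecΓ_naturality,
      Scheme.Hom.app_eq_appLE, Scheme.Hom.resLE_appLE]
    congr 2
    apply this <;> simp
  rintro U' V' rfl rfl
  exact ef

theorem exists_agree_of_fromSpecStalk {X Y S : Scheme.{u}} (sY : Y ⟶ S) [LocallyOfFiniteType sY] {x : X}
    (f g : X ⟶ Y) (hfg : f ≫ sY = g ≫ sY) (e : X.fromSpecStalk x ≫ f = X.fromSpecStalk x ≫ g) :
    ∃ (U : X.Opens), x ∈ U ∧ U.ι ≫ f = U.ι ≫ g := by
  fapply exists_agree_of_stalk sY f g hfg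
  · simpa using congr($e (IsLocalRing.closedPoint _))
  · apply Spec.map_injective
    rw [← cancel_mono (Y.fromSpecStalk _)]
    simpa [Scheme.SpecMap_stalkSpecializes_fromSpecStalk]

end Groth.Agent.H22Alg
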