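import Mathlib

/-!
Finitely many linear functionals over a big residue field can be avoided simultaneously.
-/

universe u

namespace Groth.Agent.H22Alg

/-- Avoiding finitely many non zero functionals with values in fields over a prime. -/
theorem exists_linear_avoid {R M : Type u} [CommRing R] [AddCommGroup M] [Module R M] (p : Ideal R) [p.IsPrime]
    {d : ℕ} (L : Fin d → Type u) [∀ i, Field (L i)] [∀ i, Algebra R (L i)]
    (hker : ∀ i, RingHom.ker (algebraMap R (L i)) = p) (φ : ∀ i, M →ₗ[R] L i) (hne : ∀ i, φ i ≠ 0)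
    (hcard : (d : Cardinal) ≤ Cardinal.mk p.ResidueField) (s : Finset (Fin d)) :
    ∃ m, ∀ i ∈ s, φ i m ≠ 0 := by
  classical
  let κ := p.ResidueField
  let emb : ∀ i, κ →ₐ[R] L i := fun i => Ideal.ResidueField.liftₐ p (Algebra.ofId R (L i)) (hker i).ge (by
    intro x hx
    refine isUnit_iff_ne_zero.mpr fun h => hx ?_
    rw [← hker i]
    exact h)
  induction s using Finset.induction_on with
  | empty => exact ⟨0, by simp⟩
  | insert a s ha ih =>
    obtain ⟨f, hfs⟩ := ih
    by_cases hfa : φ a f ≠ 0
    · exact ⟨f, fun i hi => (Finset.mem_insert.mp hi).elim (fun h => h ▸ hfa) (hfs i)⟩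
    push Not at hfa
    obtain ⟨g, hg⟩ : ∃ g, φ a g ≠ 0 := by
      by_contra hc
      push Not at hc
      exact hne a (LinearMap.ext hc)
    let badOf : Fin d → κ := fun i =>
      if h : ∃ x : κ, φ i g + emb i x * φ i f = 0 then h.choose else 0
    obtain ⟨x, hx⟩ : ∃ x : κ, x ∉ s.image badOf := by
      by_contra hc
      push Not at hc
      have h1 : Cardinal.mk κ ≤ ((s.image badOf).card : Cardinal) := by
        rw [← Cardinal.mk_coe_finset]
        exact Cardinal.mk_le_of_injective (f := fun x : κ => (⟨x, hc x⟩ : (s.image badOf : Finset κ)))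
          fun x y h => congrArg Subtype.val h
      have h2 := hcard.trans h1
      norm_cast at h2
      have h3 := Finset.card_le_univ (insert a s)
      rw [Finset.card_insert_of_notMem ha, Fintype.card_fin] at h3
      have h4 : (s.image badOf).card ≤ s.card := Finset.card_image_le
      omega
    obtain ⟨r, t, ht, hrt⟩ := IsFractionRing.div_surjective (R ⧸ p) (K := κ) x
    obtain ⟨r, rfl⟩ := Ideal.Quotient.mk_surjective r
    obtain ⟨t, rfl⟩ := Ideal.Quotient.mk_surjective t
    have htp : t ∉ p := fun h => nonZeroDivisors.ne_zero ht (Ideal.Quotient.eq_zero_iff_mem.mpr h)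
    have ht0 : ∀ i, algebraMap R (L i) t ≠ 0 := fun i h => htp (hker i ▸ h)
    have hval : ∀ i, φ i (t • g + r • f) = algebraMap R (L i) t * (φ i g + emb i x * φ i f) := fun i => by
      have hx' : emb i x = algebraMap R (L i) r / algebraMap R (L i) t := by
        rw [← hrt, map_div₀, ← Ideal.Quotient.algebraMap_eq, ← IsScalarTower.algebraMap_apply,
          ← IsScalarTower.algebraMap_apply, AlgHom.commutes, AlgHom.commutes]
      rw [map_add, map_smul, map_smul, Algebra.smul_def, Algebra.smul_def, hx', mul_add, ← mul_assoc,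
        mul_div_cancel₀ _ (ht0 i)]
    refine ⟨t • g + r • f, fun i hi => ?_⟩
    rw [hval]
    refine mul_ne_zero (ht0 i) ?_
    rcases Finset.mem_insert.mp hi with rfl | hi
    · rwa [hfa, mul_zero, add_zero]
    · intro h
      have hex : ∃ y : κ, φ i g + emb i y * φ i f = 0 := ⟨x, h⟩
      refine hx (Finset.mem_image.mpr ⟨i, hi, ?_⟩)
      simp only [badOf, dif_pos hex]
      apply (emb i).toRingHom.injective
      have h2 := hex.choose_spec
      show emb i hex.choose = emb i x
      exact mul_right_cancel₀ (hfs i hi) (add_left_cancel (h2.trans h.symm))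

end Groth.Agent.H22Alg
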