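import Groth.Agent.H7Flat.CohDim.Fibre
import Groth.Agent.H22Alg.KPoincare
import Groth.Agent.H17.AnnSheaf
import Groth.Agent.LeadProper.Supp
import Groth.Agent.H16Derived.GTheory.Closed
import Groth.Agent.H7Lim.ModExact
import Groth.Agent.S0403
import Groth.Agent.H10Coh.FinType2

/-!
# Higher direct images and the fibres of the support

Higher direct images vanish above a bound on the dimensions of the fibres of the support; at the bound they
surject onto the cohomology of a fibre.
-/

set_option autoImplicit false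
set_option linter.style.haveILetI false
set_option linter.unusedSectionVars false
set_option backward.isDefEq.respectTransparency.types false

universe u

open CategoryTheory CategoryTheory.Limits AlgebraicGeometry Opposite TopologicalSpace

noncomputable section

namespace Groth.Agent.H22Alg.SuppFibre

open Groth.Agent.H10Coh

attribute [local instance 10000] hasSheafifyAb hasWeakSheafifyAb hasExtAb enoughInjAb
attribute [local instance] enoughInjMod

variable {Z X : Scheme.{u}} (p : Z ⟶ X)

/-- The points of `S` over `y`. -/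
abbrev fibreSet (S : Set Z) (y : X) : Type u := {z : Z // p.base z = y ∧ z ∈ S}

/-- The fibre of a closed subscheme is the set of its points over the base point. -/
def fiberCompHomeo {W : Scheme.{u}} (i : W ⟶ Z) [IsPreimmersion i] {S : Set Z} (hS : Set.range i.base = S) (y : X) :
    (i ≫ p).fiber y ≃ₜ fibreSet p S y := by
  have hemb : Topology.IsEmbedding (fun w => i.base ((i ≫ p).fiberι y w)) :=
    i.isEmbedding.comp ((i ≫ p).fiberι y).isEmbedding
  refine hemb.toHomeomorph.trans (Homeomorph.setCongr ?_)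
  ext z
  constructor
  · rintro ⟨w, rfl⟩
    have h : (i ≫ p).fiberι y w ∈ (i ≫ p) ⁻¹' {y} := (i ≫ p).range_fiberι y ▸ Set.mem_range_self w
    exact ⟨h, hS ▸ Set.mem_range_self _⟩
  · rintro ⟨h₁, h₂⟩
    obtain ⟨x, rfl⟩ := hS.symm ▸ h₂
    obtain ⟨w, hw⟩ : x ∈ Set.range ((i ≫ p).fiberι y) := (i ≫ p).range_fiberι y ▸ h₁
    exact ⟨w, congrArg i.base hw⟩

theorem dim_fiber_comp {W : Scheme.{u}} (i : W ⟶ Z) [IsPreimmersion i] {S : Set Z} (hS : Set.range i.base = S)
    (y : X) : topologicalKrullDim ↥((i ≫ p).fiber y) = topologicalKrullDim (fibreSet p S y) :=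
  IsHomeomorph.topologicalKrullDim_eq _ (fiberCompHomeo p i hS y).isHomeomorph

theorem dim_fibreSet_mono {S T : Set Z} (h : S ⊆ T) (y : X) :
    topologicalKrullDim (fibreSet p S y) ≤ topologicalKrullDim (fibreSet p T y) :=
  Topology.IsInducing.topologicalKrullDim_le (f := fun z : fibreSet p S y => (⟨z.1, z.2.1, h z.2.2⟩ : fibreSet p T y))
    (Topology.IsInducing.of_comp (by fun_prop) continuous_subtype_val Topology.IsInducing.subtypeVal)

theorem range_annData {G : Z.Modules} (hG : Coh.IsCoh G) :
    Set.range (H17.AnnSheaf.annData G hG.1 hG.2).subschemeι.base = CohB1.support G := by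
  rw [← H17.AnnSheaf.support_annData G hG.1 hG.2]
  exact Scheme.IdealSheafData.range_subschemeι _

variable [IsProper p]

/-- The locus where the fibres of the support have dimension at most `c` is open. -/
theorem isOpen_dim_le {F : Z.Modules} (hF : Coh.IsCoh F) (c : WithBot ℕ∞) :
    IsOpen {y : X | topologicalKrullDim (fibreSet p (CohB1.support F) y) ≤ c} := by
  have h := S0403.result ((H17.AnnSheaf.annData F hF.1 hF.2).subschemeι ≫ p) c
  simp only [dim_fiber_comp p _ (range_annData hF)] at h
  exact h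

/-- A bound at the closed points is a bound everywhere. -/
theorem dim_le_of_closedPoints [CompactSpace X] {F : Z.Modules} (hF : Coh.IsCoh F) (c : WithBot ℕ∞)
    (h : ∀ x : X, IsClosed ({x} : Set X) → topologicalKrullDim (fibreSet p (CohB1.support F) x) ≤ c) (y : X) :
    topologicalKrullDim (fibreSet p (CohB1.support F) y) ≤ c := by
  obtain ⟨x, hx, hxc⟩ := (isClosed_closure (s := ({y} : Set X))).exists_closed_singleton ⟨y, subset_closure rfl⟩
  exact (specializes_iff_mem_closure.2 hx).mem_open (isOpen_dim_le p hF c) (h x hxc)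

/-- Vanishing of the higher direct images above the dimension of the fibres of the support. -/
theorem isZero_rpushAb {G : Z.Modules} (hG : Coh.IsCoh G) {S : Set Z} (hS : CohB1.support G ⊆ S) {d : ℕ}
    (hd : ∀ y, topologicalKrullDim (fibreSet p S y) ≤ (d : WithBot ℕ∞)) {q : ℕ} (hq : d < q) :
    IsZero ((Coh.RpushAb p q).obj (Coh.toAb G)) := by
  let I := H17.AnnSheaf.annData G hG.1 hG.2
  haveI := H17.AnnSheaf.isIso_unit_annData G hG.1 hG.2
  let N := (Scheme.Modules.pullback I.subschemeι).obj G
  haveI hN : N.IsQuasicoherent := H29Fitt.isQCoh_pullback _ _ hG.1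
  haveI : Coh.IsQCoh N := hN
  obtain ⟨e⟩ := nonempty_rpushAb_comp (M := N) I.subschemeι p q
  refine (H7Flat.CohDim.isZero_rpushAb (I.subschemeι ≫ p) d (fun y => ?_) N q hq).of_iso
    ((Coh.RpushAb p q).mapIso ((shF Z).mapIso
      (asIso ((Scheme.Modules.pullbackPushforwardAdjunction I.subschemeι).unit.app G))) ≪≫ e)
  rw [dim_fiber_comp p I.subschemeι (range_annData hG)]
  exact (dim_fibreSet_mono p hS y).trans (hd y)

/-- Vanishing for a relative bound. -/
theorem isZero_rpush {G : Z.Modules} (hG : Coh.IsCoh G) {S : Set Z} (hS : CohB1.support G ⊆ S) {d : ℕ}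
    (hd : ∀ y, topologicalKrullDim (fibreSet p S y) ≤ (d : WithBot ℕ∞)) {q : ℕ} (hq : d < q)
    [HasInjectiveResolutions Z.Modules] : IsZero ((Coh.Rpush p q).obj G) :=
  H22Alg.KPoincare.isZero_rpush p G q (isZero_rpushAb p hG hS hd hq)

theorem subsingleton_HnM_right {A B : Z.Modules} (f : A ⟶ B) [Epi f] (q : ℕ) (W : Z.Opens)
    (h₁ : Subsingleton (HnM (kernel f) (q + 1) W)) (h₂ : Subsingleton (HnM A q W)) :
    Subsingleton (HnM B q W) := by
  have hS : (ShortComplex.mk (kernel.ι f) f (kernel.condition f)).ShortExact :=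
    { exact := ShortComplex.exact_kernel _ }
  refine subsingleton_of_forall_eq 0 fun x => ?_
  obtain ⟨y, hy⟩ := Abelian.Ext.covariant_sequence_exact₃ _ (shortExact_sh hS) x (n₁ := q + 1) rfl (h₁.elim _ _)
  rw [← hy]
  exact (congrArg (fun z => Abelian.Ext.comp z _ (add_zero q)) (h₂.elim y 0)).trans (Abelian.Ext.zero_comp ..)

/-- At the bound, higher direct images surject onto the cohomology of the fibre. -/
theorem subsingleton_fibre [IsLocallyNoetherian Z] {G : Z.Modules} (hG : Coh.IsCoh G) {S : Set Z}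
    (hS : CohB1.support G ⊆ S) {d : ℕ} (hd : ∀ y, topologicalKrullDim (fibreSet p S y) ≤ (d : WithBot ℕ∞))
    [HasInjectiveResolutions Z.Modules] (h0 : IsZero ((Coh.Rpush p d).obj G)) {P : Scheme.{u}} (j : P ⟶ Z)
    [IsClosedImmersion j] (x : X) (hj : ∀ t, p.base (j.base t) = x) :
    Subsingleton (Coh.HH P ((Scheme.Modules.pullback j).obj G) d) := by
  obtain ⟨U, hU, hxU, -⟩ := exists_isAffineOpen_mem_and_subset (x := x) (U := ⊤) trivial
  haveI := (H16Derived.GTheory.epi_unit j G)
  let u := (Scheme.Modules.pullbackPushforwardAdjunction j).unit.app G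
  have hjG : Coh.IsQCoh ((Scheme.Modules.pullback j).obj G) := H29Fitt.isQCoh_pullback _ _ hG.1
  haveI : ((Scheme.Modules.pullback j).obj G).IsQuasicoherent := hjG
  haveI : G.IsQuasicoherent := hG.1
  have hK : Coh.IsCoh (kernel u) :=
    H10Coh.isCoh_kernel u hG (isQuasicoherent_pushforward_of_isAffineHom j _)
  haveI : (kernel u).IsQuasicoherent := hK.1
  have hKS : CohB1.support (kernel u) ⊆ S :=
    (LeadDev.support_subset_of_mono (kernel.ι u)).trans hS
  have hvan : ∀ (M : Z.Modules) [M.IsQuasicoherent] (q : ℕ), IsZero ((Coh.RpushAb p q).obj (Coh.toAb M)) →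
      Subsingleton (HnM M q (p ⁻¹ᵁ U)) := fun M _ q h => by
    obtain ⟨e⟩ := nonempty_sections_rpushAb p M hU q
    haveI : Subsingleton (((Coh.RpushAb p q).obj (Coh.toAb M)).obj.obj (op U)) :=
      AddCommGrpCat.subsingleton_of_isZero (((sheafToPresheaf _ _).map_isZero h).obj _)
    exact e.toEquiv.subsingleton
  have hG0 : IsZero ((Coh.RpushAb p d).obj (Coh.toAb G)) :=
    ((shF X).map_isZero h0).of_iso (nonempty_toAb_rpush p G d).some.symm
  have h : Subsingleton (HnM ((Coh.push j).obj ((Scheme.Modules.pullback j).obj G)) d (p ⁻¹ᵁ U)) :=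
    subsingleton_HnM_right u d _ (hvan (kernel u) (d + 1) (isZero_rpushAb p hK hKS hd (Nat.lt_succ_self d)))
      (hvan G d hG0)
  have h' : Subsingleton (HnM ((Scheme.Modules.pullback j).obj G) d (j ⁻¹ᵁ (p ⁻¹ᵁ U))) :=
    (affineLerayEquiv j _ d (p ⁻¹ᵁ U)).toEquiv.subsingleton_congr.1 h
  have htop : j ⁻¹ᵁ (p ⁻¹ᵁ U) = ⊤ := eq_top_iff.2 fun t _ => show p.base (j.base t) ∈ U from (hj t).symm ▸ hxU
  rw [htop] at h'
  exact @Equiv.subsingleton _ _ (HHEquiv _ d).toEquiv h'

end Groth.Agent.H22Alg.SuppFibre
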