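import Groth.Agent.H10Coh.SheafHom.Adj
import Groth.Agent.H10Coh.Proj.TwistQuot
import Groth.Agent.H29Ref.HomSections
import Groth.Agent.H22Alg.CMStep
import Groth.Agent.H7Flat.CohDim.AffineStrat
import Groth.Agent.H22Alg.RedIntegral
import Groth.Agent.H22Alg.PB.Twist
import Groth.Agent.H28Int.Vanishing
import Groth.Agent.LeadProper.Supp
import Groth.Agent.LeadPic.PnRel
import Groth.Agent.S11314
import Groth.Agent.S15000
import Groth.Agent.H16Derived.GTheory.Closed

/-!
# Top cohomology of twists does not vanish identically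
-/

set_option autoImplicit false
set_option linter.style.haveILetI false
set_option linter.unusedSectionVars false
set_option backward.isDefEq.respectTransparency.types false
universe u

open CategoryTheory CategoryTheory.Limits AlgebraicGeometry Opposite TopologicalSpace
attribute [local instance 10000] Groth.Agent.H10Coh.hasSheafifyAb Groth.Agent.H10Coh.hasWeakSheafifyAb Groth.Agent.H10Coh.hasExtAb Groth.Agent.H10Coh.enoughInjAb

noncomputable section

namespace Groth.Agent.H22Alg.TopNonvanish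

open Groth.Agent.H11Ample Groth.Agent.H29Ref

/-- A coherent module which is not torsion has a nonzero local map to an invertible module. -/
theorem exists_homSect_ne_zero {X : Scheme.{u}} [IsIntegral X] {F G : X.Modules} (hF : Coh.IsCoh F)
    (hG : PicF.IsInvertible G) (hne : Nontrivial (F.presheaf.stalk (genericPoint X))) :
    ∃ (U : X.Opens) (f : Γ(RefHull.homSh F G, U)), f ≠ 0 := by
  classical
  obtain ⟨V, e, hV, he⟩ := exists_gen hG (genericPoint X)
  obtain ⟨U, hU, hηU, hUV⟩ := exists_isAffineOpen_mem_and_subset (U := V) hV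
  haveI : Nonempty U := ⟨⟨_, hηU⟩⟩
  haveI : IsFractionRing Γ(X, U) X.functionField := functionField_isFractionRing_of_isAffineOpen X U hU
  let e' := G.presheaf.map (homOfLE hUV).op e
  have he' : H11Tilde.IsGen G e' := he.res hUV
  letI : Module X.functionField (F.presheaf.stalk (genericPoint X)) :=
    inferInstanceAs (Module (X.presheaf.stalk (genericPoint X)) (F.presheaf.stalk (genericPoint X)))
  obtain ⟨v, hv⟩ := exists_ne (0 : F.presheaf.stalk (genericPoint X))
  have hdual : ∃ ψ : F.presheaf.stalk (genericPoint X) →ₗ[X.functionField] X.functionField, ψ v ≠ 0 := by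
    by_contra hc
    push Not at hc
    exact hv ((Module.forall_dual_apply_eq_zero_iff X.functionField v).1 hc)
  obtain ⟨ψ, hψv⟩ := hdual
  let μ : Γ(F, U) →ₗ[Γ(X, U)] X.functionField :=
    { toFun := fun m => ψ (F.presheaf.germ U (genericPoint X) hηU m)
      map_add' := fun a b => by simp [map_add]
      map_smul' := fun a m => by
        rw [H06Mod.germ_smul]
        exact ψ.map_smul _ _ }
  have hspan := span_germ_all F hF.1 hU le_rfl (genericPoint X) hηU
  obtain ⟨m₀, hm₀⟩ : ∃ m, μ m ≠ 0 := by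
    by_contra hc
    push Not at hc
    refine hψv ?_
    have : (⊤ : Submodule X.functionField (F.presheaf.stalk (genericPoint X))) ≤ LinearMap.ker ψ := by
      intro w _
      have hw : w ∈ Submodule.span (X.presheaf.stalk (genericPoint X))
          (Set.range fun m : Γ(F, U) => F.presheaf.germ U (genericPoint X) hηU m) := by
        rw [hspan]; trivial
      refine Submodule.span_induction (fun x hx => ?_) (map_zero ψ) (fun a b _ _ ha hb => ?_)
        (fun r a _ ha => ?_) hw
      · obtain ⟨m, rfl⟩ := hx; exact hc m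
      · show ψ (a + b) = 0
        rw [map_add]; exact (congrArg₂ (· + ·) ha hb).trans (add_zero 0)
      · show ψ (r • a) = 0
        exact (ψ.map_smul r a).trans (by rw [show ψ a = 0 from ha, smul_zero])
    exact this (Submodule.mem_top (x := v))
  haveI : F.IsQuasicoherent := hF.1
  haveI : Module.Finite Γ(X, U) Γ(F, U) := H10Coh.finite_sections F hF.2 hU
  obtain ⟨S, hS⟩ := (Module.Finite.fg_top (R := Γ(X, U)) (M := Γ(F, U)))
  obtain ⟨b, hb⟩ := IsLocalization.exist_integer_multiples_of_finset (nonZeroDivisors Γ(X, U)) (S.image μ)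
  let μb : Γ(F, U) →ₗ[Γ(X, U)] X.functionField := (b : Γ(X, U)) • μ
  let ρ := Algebra.linearMap Γ(X, U) X.functionField
  have hrange : ∀ m, μb m ∈ LinearMap.range ρ := by
    intro m
    have hm : m ∈ (⊤ : Submodule Γ(X, U) Γ(F, U)) := trivial
    rw [← hS] at hm
    refine Submodule.span_induction (fun x hx => ?_) (by simp [μb]) (fun a c _ _ ha hc => by
      rw [map_add]; exact add_mem ha hc) (fun r a _ ha => by
      rw [map_smul]; exact Submodule.smul_mem _ r ha) hm
    obtain ⟨c, hc⟩ := hb (μ x) (Finset.mem_image_of_mem μ hx)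
    exact ⟨c, hc⟩
  have hρ : Function.Injective ρ := IsFractionRing.injective Γ(X, U) X.functionField
  let lam : Γ(F, U) →ₗ[Γ(X, U)] Γ(X, U) :=
    (LinearEquiv.ofInjective ρ hρ).symm.toLinearMap.comp (μb.codRestrict _ hrange)
  have hlam : lam m₀ ≠ 0 := fun h => by
    have h1 : ρ (lam m₀) = μb m₀ := congrArg Subtype.val
      ((LinearEquiv.ofInjective ρ hρ).apply_symm_apply (μb.codRestrict _ hrange m₀))
    rw [h, map_zero] at h1
    refine hm₀ ?_
    have h2 : algebraMap Γ(X, U) X.functionField b * μ m₀ = 0 := by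
      rw [← Algebra.smul_def]; exact h1.symm
    rcases mul_eq_zero.1 h2 with h3 | h3
    · exact absurd ((IsFractionRing.to_map_eq_zero_iff).1 h3) (nonZeroDivisors.ne_zero b.2)
    · exact h3
  let χ : Γ(F, U) →ₗ[Γ(X, U)] Γ(G, U) := (LinearMap.toSpanSingleton Γ(X, U) Γ(G, U) e').comp lam
  have hχ : χ m₀ ≠ 0 := fun h => by
    refine hlam ((he'.bijective le_rfl).1 ?_)
    show lam m₀ • G.presheaf.map _ e' = (0 : Γ(X, U)) • G.presheaf.map _ e'
    rw [zero_smul, H10Coh.mres_self]
    exact h
  obtain ⟨f, hf⟩ := (bijective_toLinₗ F G hF.1 hU).2 χ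
  refine ⟨U, f, fun h0 => hχ ?_⟩
  rw [← hf, h0, map_zero]
  rfl

/-- A nonzero morphism into the sheaf Hom gives a nonzero pairing. -/
theorem exists_tensor_hom_ne_zero {X : Scheme.{u}} {F N G : X.Modules} (φ : N ⟶ RefHull.homSh F G) (hφ : φ ≠ 0) :
    ∃ θ : CohB1.tensorMod F N ⟶ G, θ ≠ 0 := by
  refine ⟨(H10Coh.SheafHom.homEquiv F N G).symm φ, fun h => hφ ((H10Coh.SheafHom.homEquiv F N G).symm.injective
    (h.trans (H10Coh.SheafHom.tensor_ext fun W m n => ?_)))⟩
  refine Eq.trans ?_ (H10Coh.SheafHom.uncurry_tensorSect (0 : N ⟶ RefHull.homSh F G) W m n).symm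
  show 0 = toLinₗ F G W ((0 : N ⟶ RefHull.homSh F G).app W n) m
  rw [show (0 : N ⟶ RefHull.homSh F G).app W n = 0 from rfl, map_zero]
  rfl

variable {k : Type u} [Field k] {a : ℕ}

local notation "P" => CohB1.ProjSpace a k

/-- A nonzero quasi-coherent module receives a nonzero morphism from a twist. -/
theorem exists_twist_hom_ne_zero (H : (P).Modules) (hH : Coh.IsQCoh H) {U : (P).Opens} (f : Γ(H, U)) (hf : f ≠ 0) :
    ∃ (d : ℤ) (φ : Twist.twistProjSpace a k d ⟶ H), φ ≠ 0 := by
  obtain ⟨z, hz, hfz⟩ : ∃ z, ∃ hz : z ∈ U, (H).presheaf.germ U z hz f ≠ 0 := by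
    by_contra hc
    push Not at hc
    exact hf (TopCat.Presheaf.section_ext ⟨_, (H).isSheaf⟩ U f 0 fun z hz => by
      rw [map_zero]; exact hc z hz)
  obtain ⟨i, hi⟩ := H11Ample.exists_mem_basicOpen_X (n := a) (R := k) z
  have haff := Proj.isAffineOpen_basicOpen (CohB1.polyGrading a k) (MvPolynomial.X i) (H11Ample.X_mem i) one_pos
  obtain ⟨σ, hσ⟩ : ∃ σ : Γ(H, Proj.basicOpen (CohB1.polyGrading a k) (MvPolynomial.X i)), σ ≠ 0 := by
    by_contra hc
    push Not at hc
    refine hfz ?_
    have h : (H).presheaf.germ U z hz f ∈ Submodule.span ((P).presheaf.stalk z)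
        (Set.range fun s : Γ(H, Proj.basicOpen (CohB1.polyGrading a k) (MvPolynomial.X i)) =>
          (H).presheaf.germ _ z hi s) := by
      rw [span_germ_all _ hH haff le_rfl z hi]; trivial
    have hz0 : (Set.range fun s : Γ(H, Proj.basicOpen (CohB1.polyGrading a k) (MvPolynomial.X i)) =>
          (H).presheaf.germ _ z hi s) ⊆ {0} := by
      rintro _ ⟨s, rfl⟩
      rw [Set.mem_singleton_iff, hc s]
      exact map_zero _
    exact (Submodule.mem_bot _).1 ((Submodule.span_le.2 (by simpa using hz0) : _ ≤ (⊥ : Submodule _ _)) h)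
  obtain ⟨d, φ, c, hφ⟩ := H10Coh.ProjQ.exists_hom_twist (CohB1.polyGrading a k) (H) hH one_pos
    (fun j : Fin (a + 1) => MvPolynomial.X j) (fun j => H11Ample.X_mem j)
    (fun x => H11Ample.exists_mem_basicOpen_X (n := a) (R := k) x) i σ
  refine ⟨d, φ, fun h => hσ ?_⟩
  have h' : φ = 0 := h
  rw [← hφ, h']
  rfl

/-- Top cohomology of some twist is nonzero for a module which is not torsion. -/
theorem exists_nontrivial_projSpace (F : (P).Modules) (hF : Coh.IsCoh F)
    (hne : haveI := LeadPic.PnRel.isIntegral_projSpace a k; Nontrivial (F.presheaf.stalk (genericPoint P))) :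
    ∃ m : ℤ, Nontrivial (Coh.HH P (CohB1.tensorMod F (Twist.twistProjSpace a k m)) a) := by
  haveI := LeadPic.PnRel.isIntegral_projSpace a k
  haveI : IsProper (P ↘ Spec (CommRingCat.of k)) := inferInstanceAs (IsProper (CohB1.ProjSpace.toSpec a k))
  haveI := H28Int.isNoetherian k (X := P)
  have hO := H10Coh.Stab.isTwistFamily_projSpace a k
  let ω := Twist.twistProjSpace a k (-((a : ℤ) + 1))
  obtain ⟨U, f, hf⟩ := exists_homSect_ne_zero hF (hO.inv (-((a : ℤ) + 1))) hne
  have hH := isCoh_homSh F ω hF (H11Ample.isCoh_of_isInvertible (hO.inv _))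
  obtain ⟨d, φ, hφ⟩ := exists_twist_hom_ne_zero (RefHull.homSh F ω) hH.1 f hf
  obtain ⟨θ, hθ⟩ := exists_tensor_hom_ne_zero φ hφ
  obtain ⟨t, ht⟩ := S11314.result k a
  refine ⟨d, not_subsingleton_iff_nontrivial.1 fun hs => hθ ?_⟩
  obtain ⟨φ₀, -, huniq⟩ := ht _ (H11Ample.isCoh_tensor hF (hO.inv d)) 0
  exact (huniq θ fun x => by rw [Subsingleton.elim x 0]; simp).trans
    (huniq 0 fun x => by rw [Subsingleton.elim x 0]; simp).symm

/-- The stalk of a finite direct image at the image of a point with nonzero stalk is nonzero. -/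
theorem nontrivial_stalk_push {Z Y : Scheme.{u}} (π : Z ⟶ Y) [IsAffineHom π] {Q : Z.Modules} (hQ : Coh.IsQCoh Q)
    (z : Z) (h : Nontrivial (Q.presheaf.stalk z)) : Nontrivial (((Coh.push π).obj Q).presheaf.stalk (π z)) := by
  by_contra hc
  rw [not_nontrivial_iff_subsingleton] at hc
  obtain ⟨W, hW, hzW, -⟩ := exists_isAffineOpen_mem_and_subset (U := (⊤ : Y.Opens)) (x := π z) trivial
  have hzero : ∀ s : Γ(Q, π ⁻¹ᵁ W), Q.presheaf.germ (π ⁻¹ᵁ W) z hzW s = 0 := by
    intro s
    let M := (Coh.push π).obj Q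
    obtain ⟨V, hzV, i₁, i₂, h'⟩ := M.presheaf.germ_eq (π z) hzW hzW (show Γ(M, W) from s) 0 (Subsingleton.elim _ _)
    rw [map_zero] at h'
    refine (TopCat.Presheaf.germ_res_apply Q.presheaf (homOfLE (fun w hw => i₁.le hw : π ⁻¹ᵁ V ≤ π ⁻¹ᵁ W)) z hzV s).symm.trans ?_
    exact (congrArg (Q.presheaf.germ (π ⁻¹ᵁ V) z hzV) h').trans (map_zero _)
  obtain ⟨v, hv⟩ := exists_ne (0 : Q.presheaf.stalk z)
  have hspan : v ∈ Submodule.span (Z.presheaf.stalk z)
      (Set.range fun s : Γ(Q, π ⁻¹ᵁ W) => Q.presheaf.germ (π ⁻¹ᵁ W) z hzW s) := by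
    rw [span_germ_all Q hQ (hW.preimage π) le_rfl z hzW]; trivial
  have hsub : (Set.range fun s : Γ(Q, π ⁻¹ᵁ W) => Q.presheaf.germ (π ⁻¹ᵁ W) z hzW s) ⊆
      ((⊥ : Submodule (Z.presheaf.stalk z) (Q.presheaf.stalk z)) : Set _) := by
    rintro _ ⟨s, rfl⟩
    exact (Submodule.mem_bot _).2 (hzero s)
  exact hv ((Submodule.mem_bot _).1 (Submodule.span_le.2 hsub hspan))

/-- Top cohomology of some twist of a coherent module on projective space is nonzero. -/
theorem exists_nontrivial [IsAlgClosed k] {n : ℕ} (G : (CohB1.ProjSpace n k).Modules) (hG : Coh.IsCoh G)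
    (hdim : topologicalKrullDim ↥(CohB1.support G) = a) :
    ∃ m : ℤ, Nontrivial (Coh.HH (CohB1.ProjSpace n k) (CohB1.tensorMod G (Twist.twistProjSpace n k m)) a) := by
  classical
  let X := CohB1.ProjSpace n k
  haveI : IsProper (X ↘ Spec (CommRingCat.of k)) := inferInstanceAs (IsProper (CohB1.ProjSpace.toSpec n k))
  haveI := H28Int.isNoetherian k (X := X)
  haveI : X.IsSeparated := Scheme.IsSeparated.mk (by
    rw [← terminal.comp_from (CohB1.ProjSpace.toSpec n k)]; infer_instance)
  let S := CohB1.support G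
  have hS : IsClosed S := LeadProper.isClosed_support G hG.1 hG.2
  haveI : QuasiSober S := hS.isClosedEmbedding_subtypeVal.quasiSober
  obtain ⟨w, hw⟩ : ∃ w : S, H8Props.FieldDim.cdim w = (a : WithBot ℕ∞) := by
    rw [H8Props.FieldDim.dim_eq_iSup_cdim] at hdim
    by_contra hc
    push Not at hc
    haveI : Nonempty S := by
      by_contra hne
      rw [not_nonempty_iff] at hne
      rw [iSup_of_empty] at hdim
      exact absurd hdim (WithBot.bot_ne_coe)
    have hlt : ∀ w : S, H8Props.FieldDim.cdim w < (a : WithBot ℕ∞) := fun w =>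
      lt_of_le_of_ne (hdim ▸ le_iSup (fun w : S => H8Props.FieldDim.cdim w) w) (hc w)
    rcases Nat.eq_zero_or_pos a with ha | ha
    · obtain ⟨w⟩ := ‹Nonempty S›
      subst ha
      have h0 : (0 : WithBot ℕ∞) ≤ H8Props.FieldDim.cdim w := by
        refine Order.krullDim_nonneg_iff.2 ⟨⟨closure {⟨w, subset_closure rfl⟩}, isIrreducible_singleton.closure,
          isClosed_closure⟩⟩
      exact absurd h0 (not_le.2 (by simpa using hlt w))
    · obtain ⟨b, rfl⟩ := Nat.exists_eq_succ_of_ne_zero ha.ne'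
      have hle : (⨆ w : S, H8Props.FieldDim.cdim w) ≤ (b : WithBot ℕ∞) := iSup_le fun w => by
        have h1 := hlt w
        revert h1
        induction H8Props.FieldDim.cdim w with
        | bot => simp
        | coe e =>
          intro h1
          cases e with
          | top => exact absurd h1 (not_lt.2 le_top)
          | coe e => norm_cast at h1 ⊢; omega
      rw [hdim] at hle
      norm_cast at hle
      omega
  have hcw : topologicalKrullDim (closure ({(w : X)} : Set X)) = (a : WithBot ℕ∞) := by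
    rw [← hw, H8Props.FieldDim.cdim]
    have h1 : closure ({w} : Set S) = (Subtype.val : S → X) ⁻¹' closure {(w : X)} := by
      rw [Topology.IsEmbedding.subtypeVal.closure_eq_preimage_closure_image, Set.image_singleton]
    rw [h1, H8Props.FieldDim.dim_preimage Topology.IsEmbedding.subtypeVal]
    have hsub : closure ({(w : X)} : Set X) ∩ Set.range (Subtype.val : S → X) = closure {(w : X)} := by
      rw [Subtype.range_coe, Set.inter_eq_left]
      exact hS.closure_subset_iff.2 (Set.singleton_subset_iff.2 w.2)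
    rw [hsub]
  let J := Scheme.IdealSheafData.vanishingIdeal (⟨closure {(w : X)}, isClosed_closure⟩ : Closeds X)
  let Z := J.subscheme
  let ι := J.subschemeι
  haveI : IsIntegral Z := isIntegral_vanishingIdeal_closure (w : X)
  have hrange : Set.range ι = closure {(w : X)} := H17.range_vanishingIdeal_subschemeι _
  have hZdim : topologicalKrullDim Z = (a : WithBot ℕ∞) := by
    rw [← hcw, ← hrange]
    exact IsHomeomorph.topologicalKrullDim_eq _ ι.isClosedEmbedding.isEmbedding.toHomeomorph.isHomeomorph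
  obtain ⟨π, hπ, hfin, hsurj, ⟨e1⟩⟩ := S15000.result k n a Z (ι ≫ CohB1.ProjSpace.toSpec n k) ι rfl hZdim
  let Q := (Scheme.Modules.pullback ι).obj G
  have hQ : Coh.IsCoh Q := ⟨H29Fitt.isQCoh_pullback _ G hG.1, H29Fitt.isFT_pullback _ G hG.1 hG.2⟩
  have hQη : Nontrivial (Q.presheaf.stalk (genericPoint Z)) := by
    have h1 : genericPoint Z ∈ CohB1.support Q := by
      rw [LeadProper.support_pullback G hG.1 hG.2 ι]
      exact hS.closure_subset_iff.2 (Set.singleton_subset_iff.2 w.2) (hrange.le ⟨_, rfl⟩)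
    by_contra hc
    rw [not_nontrivial_iff_subsingleton] at hc
    exact (H25Euler.notMem_support_iff Q _).2
      (@ModuleCat.isZero_of_subsingleton _ _ _
        (show Subsingleton ↥((DerSch.stalkFunctor Z (genericPoint Z)).obj Q) from hc)) h1
  haveI := hQ.1
  haveI : Q.IsQuasicoherent := hQ.1
  haveI := LeadPic.PnRel.isIntegral_projSpace a k
  have hF : Coh.IsCoh ((Coh.push π).obj Q) := H10Coh.isCoh_push_of_isFinite π _ hQ
  have hπη : π (genericPoint Z) = genericPoint P := by
    have h1 := (genericPoint_spec Z).image π.continuous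
    rw [Set.image_univ, hsurj.range_eq, closure_univ] at h1
    exact h1.eq (genericPoint_spec _)
  obtain ⟨m, hm⟩ := exists_nontrivial_projSpace ((Coh.push π).obj Q) hF
    (hπη ▸ nontrivial_stalk_push π hQ.1 _ hQη)
  refine ⟨m, ?_⟩
  have hOn := H10Coh.Stab.isTwistFamily_projSpace n k
  have hOa := H10Coh.Stab.isTwistFamily_projSpace a k
  obtain ⟨eπ⟩ := H10Coh.Tw.nonempty_push_tensor_iso π Q (hOa.inv m)
  obtain ⟨eι⟩ := H10Coh.Tw.nonempty_push_tensor_iso ι Q (hOn.inv m)
  obtain ⟨em⟩ := PB.nonempty_family_iso (hOa.pullback π) (hOn.pullback ι) ⟨e1⟩ m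
  let N := CohB1.tensorMod Q ((Scheme.Modules.pullback π).obj (Twist.twistProjSpace a k m))
  have hN : Coh.IsCoh N := H11Ample.isCoh_tensor hQ (H11Ample.isInvertible_pullback π (hOa.inv m))
  haveI : N.IsQuasicoherent := hN.1
  have hNn : Nontrivial (Coh.HH Z N a) := by
    by_contra hc
    rw [not_nontrivial_iff_subsingleton] at hc
    haveI := H10Coh.subsingleton_HH_of_iso eπ.symm a
      ((H7Flat.CohDim.lerayHH π N a).toEquiv.subsingleton)
    exact not_subsingleton (Coh.HH P (CohB1.tensorMod ((Coh.push π).obj Q) (Twist.twistProjSpace a k m)) a) this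
  let η : G ⟶ (Coh.push ι).obj Q := (Scheme.Modules.pullbackPushforwardAdjunction ι).unit.app G
  haveI : Epi η := H16Derived.GTheory.epi_unit ι G
  have hS₀ : (ShortComplex.mk (kernel.ι η) η (kernel.condition η)).ShortExact := H10Coh.shortExact_kernel η
  have hS₁ := H10Coh.Tw.shortExact_seq hS₀ (hOn.inv m)
  have hK : Coh.IsCoh (kernel η) := H10Coh.isCoh_kernel η hG (H10Coh.isCoh_push_of_isFinite ι _ hQ).1
  have hKsupp : CohB1.support (kernel η) ⊆ S := (H25Euler.support_X₁_X₃ hS₀).1
  haveI hvan : Subsingleton (H10Coh.HnM (CohB1.tensorMod (kernel η) (Twist.twistProjSpace n k m)) (a + 1) ⊤) :=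
    H28Int.subsingleton_HnM_of_support ⟨S, hS⟩ a hdim.le _ (H11Ample.isCoh_tensor hK (hOn.inv m)).1
      ((H25Euler.support_tensor_subset _ _).trans hKsupp) (a + 1) (by omega)
  by_contra hc
  rw [not_nontrivial_iff_subsingleton] at hc
  have h3 := H10Coh.Tw.subsingleton_X₃ (H10Coh.shortExact_sh hS₁) (@Equiv.subsingleton _ _ (H10Coh.HHEquiv _ a).symm.toEquiv hc) hvan
  have h4 : Subsingleton (Coh.HH X (CohB1.tensorMod ((Coh.push ι).obj Q) (Twist.twistProjSpace n k m)) a) :=
    @Equiv.subsingleton _ _ (H10Coh.HHEquiv _ a).toEquiv h3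
  let N' := CohB1.tensorMod Q ((Scheme.Modules.pullback ι).obj (Twist.twistProjSpace n k m))
  have hN' : Coh.IsCoh N' := H11Ample.isCoh_tensor hQ (H11Ample.isInvertible_pullback ι (hOn.inv m))
  haveI : N'.IsQuasicoherent := hN'.1
  have h5 := H10Coh.subsingleton_HH_of_iso eι a h4
  haveI := @Equiv.subsingleton _ _ (H7Flat.CohDim.lerayHH ι N' a).symm.toEquiv h5
  have h6 := H10Coh.subsingleton_HH_of_iso (PicGrp.tensorModIso (Iso.refl Q) em.symm) a this
  exact not_subsingleton (Coh.HH Z N a) h6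

end Groth.Agent.H22Alg.TopNonvanish
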