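import Groth.Agent.H22Alg.SuppFibre
import Groth.Agent.H22Alg.ESZ
import Groth.Agent.H22Alg.TopNonvanish
import Groth.Agent.H10Coh.TensorTilde
import Groth.Agent.H17.ConsModModels
import Groth.Agent.S10829
import Mathlib.AlgebraicGeometry.AlgClosed.Basic

/-!
# The support of a module on `Pⁿ ×ₖ X` is finite over `X` iff its twists have no higher direct images
-/

set_option autoImplicit false
set_option linter.style.haveILetI false
set_option linter.unusedSectionVars false
set_option backward.isDefEq.respectTransparency.types false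

universe u

open CategoryTheory CategoryTheory.Limits AlgebraicGeometry Opposite TopologicalSpace

noncomputable section

namespace Groth.Agent.H22Alg.SuppFibreProd

open SuppFibre

attribute [local instance 10000] H10Coh.hasSheafifyAb H10Coh.hasWeakSheafifyAb H10Coh.hasExtAb H10Coh.enoughInjAb

variable {k : Type u} [Field k] {n : ℕ} {X : Scheme.{u}} (f : X ⟶ Spec (CommRingCat.of k)) [IsProper f]

local notation "PP" => CohB1.ProjSpace n k
local notation "ZZ" => pullback (CohB1.ProjSpace.toSpec n k) f
local notation "qq" => pullback.snd (CohB1.ProjSpace.toSpec n k) f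
local notation "rr" => pullback.fst (CohB1.ProjSpace.toSpec n k) f

theorem isNoetherian_prod : IsNoetherian ZZ := by
  letI : (ZZ).Over (Spec (CommRingCat.of k)) := ⟨rr ≫ CohB1.ProjSpace.toSpec n k⟩
  haveI : IsProper (ZZ ↘ Spec (CommRingCat.of k)) := by
    change IsProper (rr ≫ CohB1.ProjSpace.toSpec n k)
    infer_instance
  exact H28Int.isNoetherian k

theorem isCoh_twist {F : (ZZ).Modules} (hF : Coh.IsCoh F) (m : ℤ) :
    Coh.IsCoh (CohB1.tensorMod F ((Scheme.Modules.pullback rr).obj (Twist.twistProjSpace n k m))) := by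
  haveI := isNoetherian_prod (n := n) f
  exact H10Coh.TT.isCoh_tensorMod hF
    (H11Ample.isCoh_of_isInvertible (H11Ample.isInvertible_pullback rr (ESZ.hinvertible n k m)))

/-- The fibre over a rational point. -/
theorem exists_fibre [IsAlgClosed k] (x : X) (hx : IsClosed ({x} : Set X)) :
    ∃ j : PP ⟶ ZZ, IsClosedImmersion j ∧ j ≫ rr = 𝟙 PP ∧ Set.range j.base = (qq).base ⁻¹' {x} := by
  let pt := pointOfClosedPoint f x hx
  let j : PP ⟶ ZZ := pullback.lift (𝟙 PP) (CohB1.ProjSpace.toSpec n k ≫ pt)
    (by rw [Category.assoc, pointOfClosedPoint_comp, Category.id_comp, Category.comp_id])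
  have hj1 : j ≫ rr = 𝟙 PP := pullback.lift_fst _ _ _
  have hj2 : j ≫ qq = CohB1.ProjSpace.toSpec n k ≫ pt := pullback.lift_snd _ _ _
  have hout : IsPullback (j ≫ rr) (CohB1.ProjSpace.toSpec n k) (CohB1.ProjSpace.toSpec n k) (pt ≫ f) := by
    rw [hj1, pointOfClosedPoint_comp]
    exact IsPullback.of_horiz_isIso ⟨by rw [Category.id_comp, Category.comp_id]⟩
  have hsq : IsPullback j (CohB1.ProjSpace.toSpec n k) qq pt :=
    IsPullback.of_right hout hj2 (IsPullback.of_hasPullback _ _)
  haveI : IsClosedImmersion pt := isClosedImmersion_of_comp_eq_id _ _ (pointOfClosedPoint_comp f x hx)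
  refine ⟨j, MorphismProperty.of_isPullback hsq.flip ‹IsClosedImmersion pt›, hj1, ?_⟩
  rw [← hsq.isoPullback_hom_fst, Scheme.Hom.comp_base, TopCat.coe_comp,
    Function.Surjective.range_comp (f := hsq.isoPullback.hom.base) (Scheme.homeoOfIso hsq.isoPullback).surjective]
  refine (Scheme.Pullback.range_fst (f := qq) (g := pt)).trans (congrArg ((qq).base ⁻¹' ·) ?_)
  ext y
  constructor
  · rintro ⟨a, rfl⟩
    exact pointOfClosedPoint_apply f x hx a
  · intro h
    exact ⟨IsLocalRing.closedPoint k, (pointOfClosedPoint_apply f x hx _).trans (Set.mem_singleton_iff.1 h).symm⟩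

theorem le_of_lt_succ {a : WithBot ℕ∞} {d : ℕ} (h : a < ((d + 1 : ℕ) : WithBot ℕ∞)) : a ≤ (d : WithBot ℕ∞) := by
  induction a with
  | bot => exact bot_le
  | coe a =>
    have h' : a < ((d : ℕ) : ℕ∞) + 1 := by exact_mod_cast WithBot.coe_lt_coe.1 h
    exact WithBot.coe_le_coe.2 (ENat.lt_add_one_iff (ENat.natCast_ne_top d) |>.1 h')

/-- The criterion. -/
theorem finite_support_iff [IsAlgClosed k] {F : (ZZ).Modules} (hF : Coh.IsCoh F)
    [HasInjectiveResolutions (ZZ).Modules] :
    (∀ x : X, IsClosed ({x} : Set X) →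
        topologicalKrullDim (fibreSet qq (CohB1.support F) x) ≤ 0) ↔
      ∀ (m : ℤ) (i : ℕ), 0 < i → IsZero ((Coh.Rpush qq i).obj
        (CohB1.tensorMod F ((Scheme.Modules.pullback rr).obj (Twist.twistProjSpace n k m)))) := by
  haveI := isNoetherian_prod (n := n) f
  haveI : CompactSpace X := HasAffineProperty.iff_of_isAffine (P := @QuasiCompact) (f := f).mp inferInstance
  have hsupp := fun m : ℤ => H25Euler.support_tensor_subset F
    ((Scheme.Modules.pullback rr).obj (Twist.twistProjSpace n k m))
  refine ⟨fun h m i hi => ?_, fun h => ?_⟩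
  · exact SuppFibre.isZero_rpush qq (isCoh_twist f hF m) (hsupp m) (d := 0)
      (fun y => SuppFibre.dim_le_of_closedPoints qq hF _ h y) hi
  suffices key : ∀ t d : ℕ, d + t = n → ∀ x : X, IsClosed ({x} : Set X) →
      topologicalKrullDim (fibreSet qq (CohB1.support F) x) ≤ (d : WithBot ℕ∞) from
    fun x hx => (key n 0 (Nat.zero_add n) x hx).trans (le_of_eq Nat.cast_zero)
  intro t
  induction t with
  | zero =>
    intro d hd x hx
    obtain ⟨j, hj, hj1, hrange⟩ := exists_fibre (n := n) f x hx
    haveI := hj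
    calc topologicalKrullDim (fibreSet qq (CohB1.support F) x)
        ≤ topologicalKrullDim (Set.range j.base) :=
          Topology.IsInducing.topologicalKrullDim_le
            (f := fun z : fibreSet qq (CohB1.support F) x => (⟨z.1, hrange.symm ▸ z.2.1⟩ : Set.range j.base))
            (Topology.IsInducing.of_comp (by fun_prop) continuous_subtype_val Topology.IsInducing.subtypeVal)
      _ = topologicalKrullDim PP :=
          (IsHomeomorph.topologicalKrullDim_eq _ j.isEmbedding.toHomeomorph.isHomeomorph).symm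
      _ = (n : WithBot ℕ∞) := S10829.result k n
      _ ≤ (d : WithBot ℕ∞) := by rw [← hd, Nat.add_zero]
  | succ t ih =>
    intro d hd x hx
    have ihd := ih (d + 1) (by omega)
    rcases lt_or_eq_of_le (ihd x hx) with hlt | heq
    · exact le_of_lt_succ hlt
    exfalso
    obtain ⟨j, hj, hj1, hrange⟩ := exists_fibre (n := n) f x hx
    haveI := hj
    have hG : Coh.IsCoh ((Scheme.Modules.pullback j).obj F) := by
      haveI := H28Int.isNoetherian k (X := PP)
      exact H17.ConsProp.isCoh_pullback j hF
    have hS : CohB1.support ((Scheme.Modules.pullback j).obj F) = j.base ⁻¹' CohB1.support F :=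
      LeadProper.support_pullback F hF.1 hF.2 j
    have hhomeo : CohB1.support ((Scheme.Modules.pullback j).obj F) ≃ₜ fibreSet qq (CohB1.support F) x := by
      refine (j.isEmbedding.comp Topology.IsEmbedding.subtypeVal).toHomeomorph.trans (Homeomorph.setCongr ?_)
      ext z
      constructor
      · rintro ⟨⟨t, ht⟩, rfl⟩
        refine ⟨(hrange.subset ⟨t, rfl⟩ : j.base t ∈ (qq).base ⁻¹' {x}), ?_⟩
        exact (hS.subset ht : t ∈ j.base ⁻¹' CohB1.support F)
      · rintro ⟨h₁, h₂⟩
        obtain ⟨t, rfl⟩ := hrange.superset h₁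
        exact ⟨⟨t, hS.superset h₂⟩, rfl⟩
    obtain ⟨m, hm⟩ := TopNonvanish.exists_nontrivial (a := d + 1) ((Scheme.Modules.pullback j).obj F) hG
      ((IsHomeomorph.topologicalKrullDim_eq _ hhomeo.isHomeomorph).trans heq)
    let e : (Scheme.Modules.pullback j).obj
        (CohB1.tensorMod F ((Scheme.Modules.pullback rr).obj (Twist.twistProjSpace n k m))) ≅
        CohB1.tensorMod ((Scheme.Modules.pullback j).obj F) (Twist.twistProjSpace n k m) :=
      (H16Derived.KFlat.Stalk.pullTensorLIso j _).app F ≪≫
        PicGrp.tensorModIso (Iso.refl _) ((Scheme.Modules.pullbackComp j rr).app _ ≪≫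
          (Scheme.Modules.pullbackCongr hj1).app _ ≪≫ (Scheme.Modules.pullbackId PP).app _)
    have := SuppFibre.subsingleton_fibre qq (isCoh_twist f hF m) (hsupp m) (d := d + 1)
      (fun y => SuppFibre.dim_le_of_closedPoints qq hF _ ihd y) (h m (d + 1) (Nat.succ_pos d)) j x
      (fun t => (hrange.subset ⟨t, rfl⟩ : j.base t ∈ (qq).base ⁻¹' {x}))
    exact not_subsingleton _ (H10Coh.subsingleton_HH_of_iso e _ this)

end Groth.Agent.H22Alg.SuppFibreProd
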