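import Groth.Agent.H26Sym.Chart
import Groth.Prelude.Def_SymTen
import Mathlib

/-!
The coordinate ring of a box is the tensor power (the construction of `H26Sym.exists_boxEquiv`, recording in
addition the value on each factor).
-/

universe u

open CategoryTheory CategoryTheory.Limits AlgebraicGeometry
open scoped TensorProduct

namespace Groth.Agent.H22Alg.SymBoxEquiv

variable {X S : Scheme.{u}} {f : X ⟶ S} {d : ℕ}

/-- Data of an affine box: the rings, and the value on each factor. -/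
theorem exists_boxEquiv' {V : S.Opens} (hV : IsAffineOpen V) {U : X.Opens} (hU : IsAffineOpen U)
    (hUV : U ≤ f ⁻¹ᵁ V) [Algebra Γ(S, V) Γ(X, U)]
    (halg : algebraMap Γ(S, V) Γ(X, U) = (f.appLE V U hUV).hom) :
    ∃ θ : (⨂[Γ(S, V)] _ : Fin d, Γ(X, U)) ≃+* Γ(SymProd.fibPow f d, H26Sym.box f d V U),
      (∀ (i : Fin d) (b : Γ(X, U)), θ (PiTensorProduct.singleAlgHom (R := Γ(S, V)) (A := fun _ : Fin d => Γ(X, U)) i b) =
        ((WidePullback.π (fun _ : Fin d => f) i).appLE U (H26Sym.box f d V U) (fun _ h => (H26Sym.mem_box.mp h).2 i)).hom b) ∧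
      (∀ a : Γ(S, V), θ (algebraMap Γ(S, V) _ a) =
        ((WidePullback.base (fun _ : Fin d => f)).appLE V (H26Sym.box f d V U) (fun _ h => h.1)).hom a) ∧
      ∀ (σ : Equiv.Perm (Fin d)) (t : ⨂[Γ(S, V)] _ : Fin d, Γ(X, U)),
        ((SymProd.permHom f d σ).appLE (H26Sym.box f d V U) (H26Sym.box f d V U) (H26Sym.preimage_box V U σ).ge).hom (θ t) =
          θ (SymTen.perm Γ(S, V) Γ(X, U) d σ⁻¹ t) := by
  classical
  set W := H26Sym.box f d V U with hW
  have hWa : IsAffineOpen W := H26Sym.isAffineOpen_box hV hU hUV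
  have eV : W ≤ (WidePullback.base (fun _ : Fin d => f)) ⁻¹ᵁ V := fun _ h => h.1
  have eU : ∀ i, W ≤ (WidePullback.π (fun _ : Fin d => f) i) ⁻¹ᵁ U := fun i _ h => (H26Sym.mem_box.mp h).2 i
  let b₀ := (WidePullback.base (fun _ : Fin d => f)).appLE V W eV
  let p : Fin d → (Γ(X, U) ⟶ Γ(SymProd.fibPow f d, W)) := fun i =>
    (WidePullback.π (fun _ : Fin d => f) i).appLE U W (eU i)
  algebraize [b₀.hom]
  have hp : ∀ i, f.appLE V U hUV ≫ p i = b₀ := fun i => by
    show f.appLE V U hUV ≫ (WidePullback.π (fun _ : Fin d => f) i).appLE U W (eU i) = _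
    rw [Scheme.Hom.appLE_comp_appLE]
    simp only [WidePullback.π_arrow]
    rfl
  let pa : Fin d → (Γ(X, U) →ₐ[Γ(S, V)] Γ(SymProd.fibPow f d, W)) := fun i =>
    { (p i).hom with
      commutes' := fun a => by
        show (p i).hom (algebraMap _ _ a) = b₀.hom a
        rw [halg, ← CommRingCat.comp_apply, hp] }
  let θ₀ : (⨂[Γ(S, V)] _ : Fin d, Γ(X, U)) →ₐ[Γ(S, V)] Γ(SymProd.fibPow f d, W) :=
    PiTensorProduct.liftAlgHom
      ((MultilinearMap.mkPiAlgebra Γ(S, V) (Fin d) Γ(SymProd.fibPow f d, W)).compLinearMap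
        fun i => (pa i).toLinearMap)
      (by simp) (fun x y => by simp [Finset.prod_mul_distrib])
  have hθ₀ : ∀ i b, θ₀ (PiTensorProduct.singleAlgHom (A := fun _ : Fin d => Γ(X, U)) i b) = pa i b := by
    intro i b
    simp only [θ₀, PiTensorProduct.singleAlgHom_apply]
    rw [PiTensorProduct.liftAlgHom_apply, PiTensorProduct.lift.tprod]
    simp only [MultilinearMap.compLinearMap_apply, MultilinearMap.mkPiAlgebra_apply]
    rw [Finset.prod_eq_single i]
    · simp
    · intro j _ hj; simp [Pi.mulSingle_eq_of_ne hj]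
    · simp
  let T : CommRingCat.{u} := CommRingCat.of (⨂[Γ(S, V)] _ : Fin d, Γ(X, U))
  let j : Fin d → (Γ(X, U) ⟶ T) := fun i =>
    CommRingCat.ofHom (PiTensorProduct.singleAlgHom (R := Γ(S, V)) (A := fun _ : Fin d => Γ(X, U)) i).toRingHom
  let c : Γ(S, V) ⟶ T := CommRingCat.ofHom (algebraMap Γ(S, V) _)
  have hj : ∀ i, f.appLE V U hUV ≫ j i = c := fun i => by
    ext a
    show PiTensorProduct.singleAlgHom (R := Γ(S, V)) (A := fun _ : Fin d => Γ(X, U)) i
      ((f.appLE V U hUV).hom a) = algebraMap Γ(S, V) _ a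
    rw [← halg, AlgHom.commutes]
  let e : Spec T ⟶ SymProd.fibPow f d :=
    WidePullback.lift (Spec.map c ≫ hV.fromSpec) (fun i => Spec.map (j i) ≫ hU.fromSpec) (fun i => by
      rw [Category.assoc, ← IsAffineOpen.SpecMap_appLE_fromSpec f hV hU hUV, ← Category.assoc,
        ← Spec.map_comp, hj])
  have he : Set.range e.base ⊆ Set.range hWa.fromSpec.base := by
    rw [hWa.range_fromSpec]
    rintro _ ⟨z, rfl⟩
    refine H26Sym.mem_box.mpr ⟨?_, fun i => ?_⟩
    · rw [← Scheme.Hom.comp_apply, WidePullback.lift_base, Scheme.Hom.comp_apply]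
      exact hV.range_fromSpec.le ⟨_, rfl⟩
    · rw [← Scheme.Hom.comp_apply, WidePullback.lift_π, Scheme.Hom.comp_apply]
      exact hU.range_fromSpec.le ⟨_, rfl⟩
  let ψ : Γ(SymProd.fibPow f d, W) ⟶ T := Spec.preimage (IsOpenImmersion.lift hWa.fromSpec e he)
  have hψ : Spec.map ψ ≫ hWa.fromSpec = e := by
    rw [Spec.map_preimage, IsOpenImmersion.lift_fac]
  have hψp : ∀ i, p i ≫ ψ = j i := fun i => Spec.map_injective ((cancel_mono hU.fromSpec).mp (by
    rw [Spec.map_comp, Category.assoc, IsAffineOpen.SpecMap_appLE_fromSpec _ hU hWa, ← Category.assoc, hψ,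
      WidePullback.lift_π]))
  have hψb : b₀ ≫ ψ = c := Spec.map_injective ((cancel_mono hV.fromSpec).mp (by
    rw [Spec.map_comp, Category.assoc, IsAffineOpen.SpecMap_appLE_fromSpec _ hV hWa, ← Category.assoc, hψ,
      WidePullback.lift_base]))
  let θm : T ⟶ Γ(SymProd.fibPow f d, W) := CommRingCat.ofHom θ₀.toRingHom
  have hjθ : ∀ i, j i ≫ θm = p i := fun i => by ext b; exact hθ₀ i b
  have hcθ : c ≫ θm = b₀ := by ext a; exact θ₀.commutes a
  have h1 : ψ ≫ θm = 𝟙 _ := Spec.map_injective ((cancel_mono hWa.fromSpec).mp (by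
    rw [Spec.map_comp, Category.assoc, hψ, Spec.map_id, Category.id_comp]
    apply WidePullback.hom_ext
    · intro i
      rw [Category.assoc, WidePullback.lift_π, ← Category.assoc, ← Spec.map_comp, hjθ,
        IsAffineOpen.SpecMap_appLE_fromSpec _ hU hWa]
    · rw [Category.assoc, WidePullback.lift_base, ← Category.assoc, ← Spec.map_comp, hcθ,
        IsAffineOpen.SpecMap_appLE_fromSpec _ hV hWa]))
  let ψa : Γ(SymProd.fibPow f d, W) →ₐ[Γ(S, V)] (⨂[Γ(S, V)] _ : Fin d, Γ(X, U)) :=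
    { ψ.hom with
      commutes' := fun a => by
        show ψ.hom (b₀.hom a) = _
        rw [← CommRingCat.comp_apply, hψb]; rfl }
  have h2 : ψa.comp θ₀ = AlgHom.id _ _ := by
    refine PiTensorProduct.algHom_ext fun i => AlgHom.ext fun b => ?_
    show ψ.hom (θ₀ (PiTensorProduct.singleAlgHom (A := fun _ : Fin d => Γ(X, U)) i b)) = _
    rw [hθ₀]
    show ψ.hom ((p i).hom b) = _
    rw [← CommRingCat.comp_apply, hψp]
    rfl
  let θ : (⨂[Γ(S, V)] _ : Fin d, Γ(X, U)) ≃+* Γ(SymProd.fibPow f d, W) :=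
    RingEquiv.ofRingHom θ₀.toRingHom ψ.hom (congrArg CommRingCat.Hom.hom h1)
      (RingHom.ext fun t => AlgHom.congr_fun h2 t)
  refine ⟨θ, hθ₀, fun a => θ₀.commutes a, fun σ t => ?_⟩
  let π := (SymProd.permHom f d σ).appLE W W (H26Sym.preimage_box V U σ).ge
  have hπb : b₀ ≫ π = b₀ := by
    show (WidePullback.base (fun _ : Fin d => f)).appLE V W eV ≫ (SymProd.permHom f d σ).appLE W W _ = _
    rw [Scheme.Hom.appLE_comp_appLE]
    simp only [SymProd.permHom_base]
    rfl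
  have hπp : ∀ i, p i ≫ π = p (σ.symm i) := fun i => by
    show (WidePullback.π (fun _ : Fin d => f) i).appLE U W _ ≫ (SymProd.permHom f d σ).appLE W W _ = _
    rw [Scheme.Hom.appLE_comp_appLE]
    simp only [SymProd.permHom_π]
    rfl
  let πa : Γ(SymProd.fibPow f d, W) →ₐ[Γ(S, V)] Γ(SymProd.fibPow f d, W) :=
    { π.hom with
      commutes' := fun a => by
        show π.hom (b₀.hom a) = b₀.hom a
        rw [← CommRingCat.comp_apply, hπb] }
  show πa (θ₀ t) = θ₀ (SymTen.perm Γ(S, V) Γ(X, U) d σ⁻¹ t)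
  revert t
  refine AlgHom.congr_fun (φ₁ := πa.comp θ₀) (φ₂ := θ₀.comp (SymTen.perm Γ(S, V) Γ(X, U) d σ⁻¹))
    (PiTensorProduct.algHom_ext fun i => AlgHom.ext fun b => ?_)
  show πa (θ₀ (PiTensorProduct.singleAlgHom (A := fun _ : Fin d => Γ(X, U)) i b)) =
    θ₀ (SymTen.perm Γ(S, V) Γ(X, U) d σ⁻¹ (PiTensorProduct.singleAlgHom (A := fun _ : Fin d => Γ(X, U)) i b))
  have hperm : SymTen.perm Γ(S, V) Γ(X, U) d σ⁻¹ (PiTensorProduct.singleAlgHom (A := fun _ : Fin d => Γ(X, U)) i b) =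
      PiTensorProduct.singleAlgHom (A := fun _ : Fin d => Γ(X, U)) (σ.symm i) b := by
    simp only [PiTensorProduct.singleAlgHom_apply, SymTen.perm_tprod, MonoidHom.mulSingle_apply]
    congr 1
    funext k
    by_cases h : k = σ.symm i
    · subst h; simp [Equiv.Perm.inv_def]
    · rw [Pi.mulSingle_eq_of_ne h, Pi.mulSingle_eq_of_ne]
      intro e
      apply h
      rw [← e]
      simp [Equiv.Perm.inv_def]
  rw [hperm, hθ₀, hθ₀]
  show π.hom ((p i).hom b) = (p (σ.symm i)).hom b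
  rw [← CommRingCat.comp_apply, hπp]

end Groth.Agent.H22Alg.SymBoxEquiv
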