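import Groth.Agent.H22Alg.QuotDescOpen
import Groth.Agent.H26Sym.Chart
import Groth.Agent.S12059
import Mathlib

/-!
# Subgroups acting on an affine piece of a fibre power over a symmetric product
-/

set_option autoImplicit false
set_option linter.style.haveILetI false
universe u

noncomputable section

open CategoryTheory CategoryTheory.Limits AlgebraicGeometry

namespace Groth.Agent.H22Alg.SymCmpAffine

variable {X S Y : Scheme.{u}} {f : X ⟶ S} {d : ℕ} {q : SymProd.fibPow f d ⟶ Y}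
  (hq : SGA1.IsQuot (SymProd.permActU f d) q) (W : Y.Opens)

/-- The action of the symmetric group on the functions of a preimage. -/
@[reducible] def mulAct : MulSemiringAction (ULift.{u} (Equiv.Perm (Fin d))) Γ(SymProd.fibPow f d, q ⁻¹ᵁ W) where
  smul γ a := H27Quot.act hq W γ⁻¹ a
  one_smul a := by show H27Quot.act hq W (1 : ULift.{u} (Equiv.Perm (Fin d)))⁻¹ a = a; rw [inv_one]; exact H27Quot.act_one hq W a
  mul_smul γ δ a := by
    show H27Quot.act hq W (γ * δ)⁻¹ a = H27Quot.act hq W γ⁻¹ (H27Quot.act hq W δ⁻¹ a)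
    rw [mul_inv_rev]
    exact H27Quot.act_mul hq W δ⁻¹ γ⁻¹ a
  smul_zero γ := map_zero (H27Quot.act hq W γ⁻¹)
  smul_add γ := map_add (H27Quot.act hq W γ⁻¹)
  smul_one γ := map_one (H27Quot.act hq W γ⁻¹)
  smul_mul γ := map_mul (H27Quot.act hq W γ⁻¹)

/-- The quotient of an affine preimage by a subgroup. -/
theorem exists_quot (hZ : IsAffineOpen (q ⁻¹ᵁ W)) (I : Subgroup (ULift.{u} (Equiv.Perm (Fin d)))) :
    letI := mulAct hq W
    ∃ ρT : I →* Aut (Spec Γ(SymProd.fibPow f d, q ⁻¹ᵁ W)),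
      (∀ γ : I, (ρT γ).hom =
        Spec.map (CommRingCat.ofHom (H27Quot.act hq W (γ : ULift.{u} (Equiv.Perm (Fin d)))))) ∧
      (∀ γ : I, (ρT γ).hom ≫ hZ.fromSpec =
        hZ.fromSpec ≫ SymProd.permHom f d (γ : ULift.{u} (Equiv.Perm (Fin d))).down) ∧
      SGA1.IsQuot ρT (Spec.map (CommRingCat.ofHom (FixedPoints.subring Γ(SymProd.fibPow f d, q ⁻¹ᵁ W) I).subtype)) := by
  letI := mulAct hq W
  let R := Γ(SymProd.fibPow f d, q ⁻¹ᵁ W)
  let RI := FixedPoints.subring R I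
  let τ : ULift.{u} (Equiv.Perm (Fin d)) → (Spec R ⟶ Spec R) := fun γ =>
    Spec.map (CommRingCat.ofHom (H27Quot.act hq W γ))
  have hτmul : ∀ γ δ, τ (γ * δ) = τ δ ≫ τ γ := fun γ δ => by
    show Spec.map _ = Spec.map _ ≫ Spec.map _
    rw [← Spec.map_comp]
    exact congrArg Spec.map (CommRingCat.hom_ext (RingHom.ext fun a => H27Quot.act_mul hq W γ δ a))
  have hτone : τ 1 = 𝟙 _ := by
    show Spec.map _ = _
    rw [show CommRingCat.ofHom (H27Quot.act hq W 1) = 𝟙 R from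
      CommRingCat.hom_ext (RingHom.ext fun a => H27Quot.act_one hq W a), Spec.map_id]
  let ρT : I →* Aut (Spec R) :=
    { toFun := fun γ => ⟨τ γ, τ (γ : ULift.{u} (Equiv.Perm (Fin d)))⁻¹,
        by rw [← hτmul, inv_mul_cancel, hτone], by rw [← hτmul, mul_inv_cancel, hτone]⟩
      map_one' := Iso.ext hτone
      map_mul' := fun γ δ => Iso.ext (hτmul γ δ) }
  refine ⟨ρT, fun γ => rfl, fun γ => IsAffineOpen.SpecMap_appLE_fromSpec _ hZ hZ
    (SGA1.preimage_le_of_inv _ q hq.inv γ.1 W), ?_⟩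
  haveI : SMulCommClass I RI R := ⟨fun γ r a => by
    show γ • ((r : R) * a) = (r : R) * γ • a
    rw [smul_mul', r.2 γ]⟩
  haveI : Algebra.IsInvariant RI R I := ⟨fun a ha => ⟨⟨a, ha⟩, rfl⟩⟩
  haveI : FaithfulSMul RI R := (faithfulSMul_iff_algebraMap_injective RI R).mpr Subtype.val_injective
  refine S12059.result I R RI ρT (Set.ext fun m => ⟨?_, ?_⟩)
  · rintro ⟨γ, rfl⟩
    refine ⟨γ⁻¹, congrArg Spec.map (CommRingCat.hom_ext (RingHom.ext fun a => ?_))⟩
    show H27Quot.act hq W ((γ⁻¹ : I) : ULift.{u} (Equiv.Perm (Fin d)))⁻¹ a = H27Quot.act hq W γ a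
    rw [Subgroup.coe_inv, inv_inv]
  · rintro ⟨γ, rfl⟩
    refine ⟨γ⁻¹, congrArg Spec.map (CommRingCat.hom_ext (RingHom.ext fun a => ?_))⟩
    show H27Quot.act hq W ((γ⁻¹ : I) : ULift.{u} (Equiv.Perm (Fin d))) a =
      H27Quot.act hq W (γ : ULift.{u} (Equiv.Perm (Fin d)))⁻¹ a
    rw [Subgroup.coe_inv]

/-- The range of `q` on sections is the fixed subring. -/
def sectionsHom : letI := mulAct hq W
    Γ(Y, W) →+* FixedPoints.subring Γ(SymProd.fibPow f d, q ⁻¹ᵁ W) (ULift.{u} (Equiv.Perm (Fin d))) :=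
  letI := mulAct hq W
  (q.app W).hom.codRestrict _ fun b γ => (hq.range_iff W _).mp ⟨b, rfl⟩ γ⁻¹

theorem sectionsHom_bijective : Function.Bijective (sectionsHom hq W) := by
  letI := mulAct hq W
  refine ⟨fun a b h => hq.injective W (congrArg Subtype.val h), fun r => ?_⟩
  obtain ⟨b, hb⟩ := (hq.range_iff W r.1).mpr fun γ => by
    have h3 := r.2 (γ⁻¹ : ULift.{u} (Equiv.Perm (Fin d)))
    change H27Quot.act hq W γ⁻¹⁻¹ r.1 = r.1 at h3
    rw [inv_inv] at h3
    exact h3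
  exact ⟨b, Subtype.ext hb⟩

end Groth.Agent.H22Alg.SymCmpAffine
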