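import Groth.Agent.H22Alg.EtalePair
import Groth.Agent.H18Inertia.Exists
import Mathlib

/-!
# Invariants generated by invariants, from the same statement near each inertia group
-/

set_option autoImplicit false
set_option linter.style.haveILetI false
universe u

noncomputable section

open TensorProduct

namespace Groth.Agent.H22Alg.SymCmpRing

open EtalePair

variable {G R R' : Type u} [Group G] [Finite G] [CommRing R] [MulSemiringAction G R] [CommRing R']
  [MulSemiringAction G R'] {φ : R →+* R'}

/-- An element of a subgroup's invariants from an invariant. -/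
def inclI (J : Subgroup G) (R : Type u) [CommRing R] [MulSemiringAction G R] :
    FixedPoints.subring R G →+* FixedPoints.subring R J :=
  (FixedPoints.subring R G).subtype.codRestrict _ fun a γ => a.2 γ

/-- If near every prime the invariants of the inertia group are generated by invariants and `e`, up to powers
of an element outside the prime, then the invariants of `G` are generated by invariants and `e`. -/
theorem closure_eq_top {A₀ : Type u} [CommRing A₀] (hφ : ∀ (γ : G) (a : R), φ (γ • a) = γ • φ a)
    (e : A₀ →+* FixedPoints.subring R' G)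
    (key : ∀ (𝔮 : Ideal R) [𝔮.IsPrime], ∃ h : FixedPoints.subring R (𝔮.inertia G), (h : R) ∉ 𝔮 ∧
      ∀ c : FixedPoints.subring R' (𝔮.inertia G), ∃ n : ℕ, fixMap hφ (𝔮.inertia G) h ^ n * c ∈
        Subring.closure (Set.range (fixMap hφ (𝔮.inertia G)) ∪
          Set.range ((inclI (𝔮.inertia G) R').comp e))) :
    Subring.closure (Set.range (fixMapTop hφ) ∪ Set.range e) = ⊤ := by
  classical
  let A := FixedPoints.subring R G
  let A' := FixedPoints.subring R' G
  letI : Algebra A A' := (fixMapTop hφ).toAlgebra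
  let K := Subring.closure (Set.range (fixMapTop hφ) ∪ Set.range e)
  let K₀ : Submodule A A' :=
    { carrier := K
      zero_mem' := K.zero_mem
      add_mem' := K.add_mem
      smul_mem' := fun a b hb => by
        rw [Algebra.smul_def]
        exact K.mul_mem (Subring.subset_closure (Or.inl ⟨a, rfl⟩)) hb }
  refine eq_top_iff.mpr fun c _ => ?_
  let J : Ideal A := Submodule.comap (LinearMap.toSpanSingleton A A' c) K₀
  suffices hJ : J = ⊤ by
    have h1 : (1 : A) ∈ J := by rw [hJ]; trivial
    simp only [J, Submodule.mem_comap, LinearMap.toSpanSingleton_apply, one_smul] at h1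
    exact h1
  by_contra hne
  obtain ⟨m, hm, hJm⟩ := Ideal.exists_le_maximal J hne
  haveI : Algebra.IsInvariant A R G := ⟨fun a ha => ⟨⟨a, ha⟩, rfl⟩⟩
  haveI : Algebra.IsIntegral A R := Algebra.IsInvariant.isIntegral A R G
  obtain ⟨𝔮', h𝔮'⟩ := (algebraMap_isIntegral_iff.mpr ‹Algebra.IsIntegral A R› :
    (algebraMap A R).IsIntegral).comap_surjective Subtype.val_injective ⟨m, hm.isPrime⟩
  let 𝔮 := 𝔮'.asIdeal
  haveI : 𝔮.IsPrime := 𝔮'.2
  have h𝔮 : 𝔮.comap (algebraMap A R) = m := congrArg PrimeSpectrum.asIdeal h𝔮'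
  obtain ⟨h, hh, hgen⟩ := key 𝔮
  obtain ⟨x, hx⟩ := _root_.H18Inertia.exists_separating (G := G) 𝔮
  let I := 𝔮.inertia G
  haveI : Fintype (G ⧸ I) := Fintype.ofFinite _
  letI : Algebra A (FixedPoints.subring R I) := (inclI I R).toAlgebra
  letI : Algebra A' (FixedPoints.subring R' I) := (inclI I R').toAlgebra
  haveI : IsScalarTower A (FixedPoints.subring R I) R := IsScalarTower.of_algebraMap_eq fun _ => rfl
  haveI : IsScalarTower A' (FixedPoints.subring R' I) R' := IsScalarTower.of_algebraMap_eq fun _ => rfl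
  let g := _root_.H18Inertia.discElt I x
  have hg : (g : R) ∉ 𝔮 := fun hg => by
    rw [_root_.H18Inertia.coe_discElt] at hg
    obtain ⟨p, hp, hpq⟩ := (Ideal.IsPrime.prod_mem_iff).mp hg
    induction p using QuotientGroup.induction_on with
    | H γ =>
      have hγI : γ ∉ I := fun hγ => Finset.ne_of_mem_erase hp
        ((QuotientGroup.eq.mpr (by simpa using I.inv_mem hγ)))
      refine hx γ hγI ?_
      change (x : R) - γ • (x : R) ∈ 𝔮 at hpq
      simpa using 𝔮.neg_mem hpq
  let x' := fixMap hφ I x
  let g' := _root_.H18Inertia.discElt I x'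
  let L := Localization.Away g
  let L' := Localization.Away g'
  haveI : Module.Flat A L := by
    haveI : Algebra.Etale A L := _root_.H18Inertia.etale_away_discElt I x
    infer_instance
  -- the comparison map
  letI : Algebra A L' := ((algebraMap A' L').comp (algebraMap A A')).toAlgebra
  haveI : IsScalarTower A A' L' := IsScalarTower.of_algebraMap_eq fun _ => rfl
  let ψ : FixedPoints.subring R I →+* L' := (algebraMap (FixedPoints.subring R' I) L').comp (fixMap hφ I)
  have hψg : IsUnit (ψ g) := by
    show IsUnit (algebraMap (FixedPoints.subring R' I) L' (fixMap hφ I g))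
    rw [← discElt_fixMap I hφ x]
    exact IsLocalization.Away.algebraMap_isUnit g'
  let ψL : L →+* L' := IsLocalization.Away.lift g hψg
  have hψL : ∀ a, ψL (algebraMap _ L a) = ψ a := fun a => IsLocalization.Away.lift_eq g hψg a
  let ψLa : L →ₐ[A] L' :=
    { ψL with
      commutes' := fun a => by
        show ψL (algebraMap A L a) = algebraMap A L' a
        rw [IsScalarTower.algebraMap_apply A (FixedPoints.subring R I) L, hψL]
        show algebraMap (FixedPoints.subring R' I) L' _ = algebraMap A' L' _
        rw [IsScalarTower.algebraMap_apply A' (FixedPoints.subring R' I) L']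
        rfl }
  let ν : A' ⊗[A] L →ₐ[A] L' :=
    Algebra.TensorProduct.lift (IsScalarTower.toAlgHom A A' L') ψLa fun _ _ => Commute.all _ _
  have hν : Function.Injective ν := EtalePair.eq_zero_of_compare I hφ x rfl ν.toRingHom
    (fun c => by
      show ν (c ⊗ₜ[A] 1) = _
      rw [Algebra.TensorProduct.lift_tmul, map_one, mul_one]
      exact IsScalarTower.algebraMap_apply A' (FixedPoints.subring R' I) L' c)
    (by
      show ν (1 ⊗ₜ[A] _) = _
      rw [Algebra.TensorProduct.lift_tmul, map_one, one_mul]
      exact hψL x)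
  -- the image of the subring
  let Q : Submodule A (A' ⊗[A] L) := LinearMap.range (K₀.subtype.rTensor L)
  have hQmem : ∀ k ∈ K, ∀ l : L, k ⊗ₜ[A] l ∈ Q := fun k hk l =>
    ⟨(⟨k, hk⟩ : K₀) ⊗ₜ l, rfl⟩
  have hQmul : ∀ a ∈ Q, ∀ b ∈ Q, a * b ∈ Q := by
    rintro _ ⟨a, rfl⟩ _ ⟨b, rfl⟩
    induction a using TensorProduct.induction_on with
    | zero => simp
    | add a a' ha ha' => rw [map_add, add_mul]; exact Q.add_mem ha ha'
    | tmul k l =>
      induction b using TensorProduct.induction_on with
      | zero => simp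
      | add b b' hb hb' => rw [map_add, mul_add]; exact Q.add_mem hb hb'
      | tmul k' l' =>
        simp only [LinearMap.rTensor_tmul, Submodule.subtype_apply, Algebra.TensorProduct.tmul_mul_tmul]
        exact hQmem _ (K.mul_mem k.2 k'.2) _
  have himg : ∀ z ∈ Subring.closure (Set.range (fixMap hφ I) ∪ Set.range ((inclI I R').comp e)),
      ∃ q ∈ Q, ν q = algebraMap (FixedPoints.subring R' I) L' z := by
    intro z hz
    induction hz using Subring.closure_induction with
    | mem y hy =>
      rcases hy with ⟨a, rfl⟩ | ⟨a, rfl⟩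
      · refine ⟨1 ⊗ₜ algebraMap _ L a, hQmem 1 K.one_mem _, ?_⟩
        rw [Algebra.TensorProduct.lift_tmul, map_one, one_mul]
        exact hψL a
      · refine ⟨e a ⊗ₜ 1, hQmem _ (Subring.subset_closure (Or.inr ⟨a, rfl⟩)) _, ?_⟩
        rw [Algebra.TensorProduct.lift_tmul, map_one, mul_one]
        exact IsScalarTower.algebraMap_apply A' (FixedPoints.subring R' I) L' (e a)
    | zero => exact ⟨0, Q.zero_mem, by simp⟩
    | one => exact ⟨1, hQmem 1 K.one_mem 1, by simp⟩
    | add a b _ _ ha hb =>
      obtain ⟨p, hp, hpa⟩ := ha; obtain ⟨q, hq, hqb⟩ := hb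
      exact ⟨p + q, Q.add_mem hp hq, by rw [map_add, map_add, hpa, hqb]⟩
    | neg a _ ha =>
      obtain ⟨p, hp, hpa⟩ := ha
      exact ⟨-p, Q.neg_mem hp, by rw [map_neg, map_neg, hpa]⟩
    | mul a b _ _ ha hb =>
      obtain ⟨p, hp, hpa⟩ := ha; obtain ⟨q, hq, hqb⟩ := hb
      exact ⟨p * q, hQmul p hp q hq, by rw [map_mul, map_mul, hpa, hqb]⟩
  obtain ⟨n, hn⟩ := hgen (inclI I R' c)
  obtain ⟨q, hq, hqz⟩ := himg _ hn
  have heq : c ⊗ₜ[A] ((algebraMap _ L h) ^ n) = q := hν (by
    rw [hqz]
    erw [Algebra.TensorProduct.lift_tmul]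
    rw [map_mul, map_pow, map_pow, mul_comm]
    exact congrArg₂ (· * ·) (congrArg (· ^ n) (hψL h))
      (IsScalarTower.algebraMap_apply A' (FixedPoints.subring R' I) L' c))
  -- in the quotient
  let ι : (A ⧸ J) →ₗ[A] (A' ⧸ K₀) := Submodule.mapQ J K₀ (LinearMap.toSpanSingleton A A' c) le_rfl
  have hι : Function.Injective ι := by
    rw [← LinearMap.ker_eq_bot]
    simp [ι, Submodule.ker_liftQ, LinearMap.ker_comp, Submodule.mapQ, J]
  have hzero : (1 : A ⧸ J) ⊗ₜ[A] ((algebraMap (FixedPoints.subring R I) L h) ^ n) = 0 := by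
    apply Module.Flat.rTensor_preserves_injective_linearMap (M := L) ι hι
    rw [map_zero]
    erw [LinearMap.rTensor_tmul]
    rw [show ι 1 = Submodule.Quotient.mk c by
      show ι (Submodule.Quotient.mk 1) = _
      rw [Submodule.mapQ_apply, LinearMap.toSpanSingleton_apply, one_smul],
      show (Submodule.Quotient.mk c : A' ⧸ K₀) ⊗ₜ[A] ((algebraMap (FixedPoints.subring R I) L h) ^ n) =
        K₀.mkQ.rTensor L (c ⊗ₜ ((algebraMap (FixedPoints.subring R I) L h) ^ n)) from rfl, heq]
    obtain ⟨w, rfl⟩ := hq
    rw [← LinearMap.comp_apply, ← LinearMap.rTensor_comp,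
      show K₀.mkQ.comp K₀.subtype = 0 from LinearMap.ext fun k => (Submodule.Quotient.mk_eq_zero _).mpr k.2]
    simp
  have hmem : (algebraMap (FixedPoints.subring R I) L h) ^ n ∈ J • (⊤ : Submodule A L) := by
    have h3 := TensorProduct.quotTensorEquivQuotSMul_mk_one_tmul J ((algebraMap (FixedPoints.subring R I) L h) ^ n)
    erw [hzero, map_zero] at h3
    exact (Submodule.Quotient.mk_eq_zero _).mp h3.symm
  -- the prime of `L` over `m`
  let P := 𝔮.comap (FixedPoints.subring R I).subtype
  have hdisj : Disjoint (Submonoid.powers g : Set (FixedPoints.subring R I)) P :=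
    (Ideal.disjoint_powers_iff_notMem_of_isPrime (I := P) g).mpr hg
  haveI hPL : (Ideal.map (algebraMap _ L) P).IsPrime :=
    IsLocalization.isPrime_of_isPrime_disjoint (Submonoid.powers g) L P inferInstance hdisj
  have hle : J • (⊤ : Submodule A L) ≤ (Ideal.map (algebraMap _ L) P).restrictScalars A := by
    rw [Submodule.smul_le]
    intro a ha l _
    rw [Algebra.smul_def, IsScalarTower.algebraMap_apply A (FixedPoints.subring R I) L]
    refine Ideal.mul_mem_right _ _ (Ideal.mem_map_of_mem _ ?_)
    have : a ∈ 𝔮.comap (algebraMap A R) := h𝔮.ge (hJm ha)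
    exact this
  have h4 : algebraMap (FixedPoints.subring R I) L h ∈ Ideal.map (algebraMap _ L) P :=
    hPL.mem_of_pow_mem n (hle hmem)
  have h5 : h ∈ P := by
    rw [← IsLocalization.under_map_of_isPrime_disjoint (Submonoid.powers g) L inferInstance hdisj]
    exact h4
  exact hh h5

end Groth.Agent.H22Alg.SymCmpRing
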