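import Groth.Agent.H22Alg.SymCmpChart
import Groth.Agent.H22Alg.SymCmpRing
import Groth.Agent.H22Alg.SymCmpAffine
import Mathlib

/-!
# Comparison of symmetric products along a closed immersion over a change of base
-/

set_option autoImplicit false
set_option linter.style.haveILetI false
universe u

noncomputable section

open CategoryTheory CategoryTheory.Limits AlgebraicGeometry

namespace Groth.Agent.H22Alg.SymCmp

/-- An affine-locally surjective morphism of affine pieces is a closed immersion. -/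
theorem isClosedImmersion_of_pieces {Y' P : Scheme.{u}} (M : Y' ⟶ P)
    (h : ∀ z : P, ∃ UP : P.Opens, z ∈ UP ∧ IsAffineOpen UP ∧ IsAffineOpen (M ⁻¹ᵁ UP) ∧
      Function.Surjective (M.app UP)) : IsClosedImmersion M := by
  choose UP hz hUP hpre hsurj using h
  refine (IsZariskiLocalAtTarget.iff_of_iSup_eq_top (P := @IsClosedImmersion) UP
    (top_le_iff.mp fun z _ => TopologicalSpace.Opens.mem_iSup.mpr ⟨z, hz z⟩)).mpr fun z => ?_
  haveI : IsAffine (UP z).toScheme := hUP z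
  haveI : IsAffine (M ⁻¹ᵁ UP z).toScheme := hpre z
  refine IsClosedImmersion.of_surjective_of_isAffine _ ?_
  intro b
  obtain ⟨a, ha⟩ := hsurj z ((M ⁻¹ᵁ UP z).topIso.hom.hom b)
  refine ⟨(UP z).topIso.inv.hom a, ?_⟩
  have e : (UP z).topIso.inv ≫ (M ∣_ UP z).appTop = M.app (UP z) ≫ (M ⁻¹ᵁ UP z).topIso.inv := by
    simp [Scheme.Opens.topIso_inv, morphismRestrict_appTop, Scheme.Hom.app_eq_appLE]
    erw [Scheme.Hom.map_appLE, Scheme.Hom.appLE_map]
  have := congrArg (fun m => m.hom a) e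
  simp only [CommRingCat.comp_apply] at this
  rw [this]
  erw [ha]
  exact (M ⁻¹ᵁ UP z).topIso.commRingCatIsoToRingEquiv.symm_apply_apply b

variable {X S X' S' Y Y' : Scheme.{u}} {f : X ⟶ S} {f' : X' ⟶ S'} {α : X' ⟶ X} {β : S' ⟶ S} {d : ℕ}
  {q : SymProd.fibPow f d ⟶ Y} {g : Y ⟶ S} {r : SymProd.fibPow f' d ⟶ Y'} {g' : Y' ⟶ S'}

/-- The comparison of symmetric products is over the base. -/
theorem comp_eq (hq : SymProd.IsSymProd f d q g) (hr : SymProd.IsSymProd f' d r g') (w : α ≫ f = f' ≫ β)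
    (m : Y' ⟶ Y) (hm : r ≫ m = SymCmpBase.Phi α β w d ≫ q) : m ≫ g = g' ≫ β := by
  haveI := H27Quot.epi hr.isQuot
  rw [← cancel_epi r, reassoc_of% hm, hq.over, SymCmpBase.Phi_base, reassoc_of% hr.over]

/-- The generation statement on an affine piece. -/
theorem piece_data (hq : SymProd.IsSymProd f d q g) (hr : SymProd.IsSymProd f' d r g') (w : α ≫ f = f' ≫ β)
    [IsClosedImmersion (pullback.lift α f' w)] (m : Y' ⟶ Y) (hm : r ≫ m = SymCmpBase.Phi α β w d ≫ q)
    {V : S.Opens} (hV : IsAffineOpen V) {V' : S'.Opens} (hV' : IsAffineOpen V') (hVV' : V' ≤ β ⁻¹ᵁ V)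
    {W : Y.Opens} (hW : IsAffineOpen W) (hWV : W ≤ g ⁻¹ᵁ V) (W' : Y'.Opens)
    (hW' : W' = m ⁻¹ᵁ W ⊓ g' ⁻¹ᵁ V') :
    ∃ (hle : r ⁻¹ᵁ W' ≤ SymCmpBase.Phi α β w d ⁻¹ᵁ (q ⁻¹ᵁ W))
      (hle' : r ⁻¹ᵁ W' ≤ WidePullback.base (fun _ : Fin d => f') ⁻¹ᵁ V'),
      IsAffineOpen (r ⁻¹ᵁ W') ∧ IsAffineOpen W' ∧
      Subring.closure (Set.range ((SymCmpBase.Phi α β w d).appLE (q ⁻¹ᵁ W) (r ⁻¹ᵁ W') hle).hom ∪
        Set.range ((WidePullback.base (fun _ : Fin d => f')).appLE V' (r ⁻¹ᵁ W') hle').hom) = ⊤ := by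
  haveI := SymCmpBase.isClosedImmersion_lift (f := f) (f' := f') α β w d
  haveI := hq.isQuot.affine
  have hZ' : r ⁻¹ᵁ W' = SymCmpBase.Phi α β w d ⁻¹ᵁ (q ⁻¹ᵁ W) ⊓
      WidePullback.base (fun _ : Fin d => f') ⁻¹ᵁ V' := by
    rw [hW']
    show r ⁻¹ᵁ (m ⁻¹ᵁ W) ⊓ r ⁻¹ᵁ (g' ⁻¹ᵁ V') = _
    rw [← Scheme.Hom.comp_preimage, ← Scheme.Hom.comp_preimage, hm, hr.over, Scheme.Hom.comp_preimage]
  have hZV : q ⁻¹ᵁ W ≤ WidePullback.base (fun _ : Fin d => f) ⁻¹ᵁ V := fun y hy => by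
    show WidePullback.base (fun _ : Fin d => f) y ∈ V
    rw [← hq.over, Scheme.Hom.comp_apply]
    exact hWV hy
  obtain ⟨hA, hgen⟩ := SymCmpGen.piece (SymCmpBase.Phi α β w d) (WidePullback.base (fun _ : Fin d => f'))
    (SymCmpBase.Phi_base α β w d) hV (hW.preimage q) hV' hZV hVV' _ hZ'
  exact ⟨_, _, hA, H27Quot.isAffineOpen_of_preimage hr.isQuot hA, hgen⟩

/-- If the larger symmetric product is that of a flat morphism, its comparison with the base change of the smaller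
one is a closed immersion. -/
theorem isClosedImmersion_of_flat [Flat f'] (hq : SymProd.IsSymProd f d q g)
    (hr : SymProd.IsSymProd f' d r g') (w : α ≫ f = f' ≫ β)
    [IsClosedImmersion (pullback.lift α f' w)] (m : Y' ⟶ Y) (hm : r ≫ m = SymCmpBase.Phi α β w d ≫ q) :
    IsClosedImmersion (pullback.lift m g' (comp_eq hq hr w m hm)) := by
  classical
  refine isClosedImmersion_of_pieces _ fun z => ?_
  -- the affine pieces
  obtain ⟨V, hV, hzV, -⟩ := exists_isAffineOpen_mem_and_subset (X := S)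
    (x := g (pullback.fst g β z)) (U := ⊤) trivial
  obtain ⟨W, hW, hzW, hWV⟩ := exists_isAffineOpen_mem_and_subset (X := Y)
    (x := pullback.fst g β z) (U := g ⁻¹ᵁ V) hzV
  have hzV' : pullback.snd g β z ∈ β ⁻¹ᵁ V := by
    show β (pullback.snd g β z) ∈ V
    rw [← Scheme.Hom.comp_apply, ← pullback.condition, Scheme.Hom.comp_apply]
    exact hzV
  obtain ⟨V', hV', hzV'', hVV'⟩ := exists_isAffineOpen_mem_and_subset (X := S')
    (x := pullback.snd g β z) (U := β ⁻¹ᵁ V) hzV'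
  let UP := pullback.fst g β ⁻¹ᵁ W ⊓ pullback.snd g β ⁻¹ᵁ V'
  have hUP : IsAffineOpen UP :=
    H26Sym.isAffineOpen_inf_preimage (IsPullback.of_hasPullback g β) hV hV' hW hVV' hWV rfl
  let M := pullback.lift m g' (comp_eq hq hr w m hm)
  let W' := M ⁻¹ᵁ UP
  have hW' : W' = m ⁻¹ᵁ W ⊓ g' ⁻¹ᵁ V' := by
    show M ⁻¹ᵁ (pullback.fst g β ⁻¹ᵁ W) ⊓ M ⁻¹ᵁ (pullback.snd g β ⁻¹ᵁ V') = _
    rw [← Scheme.Hom.comp_preimage, ← Scheme.Hom.comp_preimage, pullback.lift_fst, pullback.lift_snd]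
  obtain ⟨hle, hle', hZA', hWA', hgenR⟩ := piece_data hq hr w m hm hV hV' hVV' hW hWV W' hW'
  refine ⟨UP, ⟨hzW, hzV''⟩, hUP, hWA', fun b => ?_⟩
  haveI := hq.isQuot.affine
  have hZA := hW.preimage q
  letI := SymCmpAffine.mulAct hq.isQuot W
  letI := SymCmpAffine.mulAct hr.isQuot W'
  let Φ := SymCmpBase.Phi α β w d
  let R := Γ(SymProd.fibPow f d, q ⁻¹ᵁ W)
  let R' := Γ(SymProd.fibPow f' d, r ⁻¹ᵁ W')
  let φ : R →+* R' := (Φ.appLE (q ⁻¹ᵁ W) (r ⁻¹ᵁ W') hle).hom
  have hφ : ∀ (γ : ULift.{u} (Equiv.Perm (Fin d))) (a : R), φ (γ • a) = γ • φ a := fun γ a => by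
    show (Φ.appLE _ _ hle).hom ((((SymProd.permActU f d) γ⁻¹).hom.appLE _ _ _).hom a) =
      ((((SymProd.permActU f' d) γ⁻¹).hom.appLE _ _ _).hom ((Φ.appLE _ _ hle).hom a))
    rw [← CommRingCat.comp_apply, ← CommRingCat.comp_apply, Scheme.Hom.appLE_comp_appLE,
      Scheme.Hom.appLE_comp_appLE]
    rw [SymFlatChart.appLE_congr_hom (show Φ ≫ ((SymProd.permActU f d) γ⁻¹).hom =
      ((SymProd.permActU f' d) γ⁻¹).hom ≫ Φ from (SymCmpBase.permHom_Phi α β w d _).symm)]
  have hgW' : W' ≤ g' ⁻¹ᵁ V' := hW'.le.trans inf_le_right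
  let e : Γ(S', V') →+* FixedPoints.subring R' (ULift.{u} (Equiv.Perm (Fin d))) :=
    (SymCmpAffine.sectionsHom hr.isQuot W').comp (g'.appLE V' W' hgW').hom
  have he : ∀ a, (e a : R') = ((WidePullback.base (fun _ : Fin d => f')).appLE V' (r ⁻¹ᵁ W') hle').hom a := by
    intro a
    show (r.app W').hom ((g'.appLE V' W' hgW').hom a) = _
    rw [show r.app W' = r.appLE W' (r ⁻¹ᵁ W') le_rfl from Scheme.Hom.app_eq_appLE _, ← CommRingCat.comp_apply,
      Scheme.Hom.appLE_comp_appLE]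
    simp only [hr.over]
  have hgenR' : Subring.closure (Set.range φ ∪ Set.range fun a => (e a : R')) = ⊤ := by
    rw [show (fun a => (e a : R')) = _ from funext he]
    exact hgenR
  have htop : Subring.closure (Set.range (EtalePair.fixMapTop hφ) ∪ Set.range e) = ⊤ := by
    refine SymCmpRing.closure_eq_top hφ e fun 𝔮 h𝔮 => ?_
    let I : Subgroup (ULift.{u} (Equiv.Perm (Fin d))) := 𝔮.inertia _
    obtain ⟨ρT, hρT, hjT, hp⟩ := SymCmpAffine.exists_quot hq.isQuot W hZA I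
    obtain ⟨ρT', -, hjT', hp'⟩ := SymCmpAffine.exists_quot hr.isQuot W' hZA' I
    let eI : CommRingCat.of Γ(S', V') ⟶ CommRingCat.of (FixedPoints.subring R' I) :=
      CommRingCat.ofHom ((SymCmpRing.inclI I R').comp e)
    let x : Spec R := (⟨𝔮, h𝔮⟩ : PrimeSpectrum R)
    have hfix : ∀ γ : I, (ρT γ).hom x = x := fun γ => by
      rw [hρT]
      refine PrimeSpectrum.ext (Ideal.ext fun a => ?_)
      show H27Quot.act hq.isQuot W γ.1 a ∈ 𝔮 ↔ a ∈ 𝔮
      have h1 : H27Quot.act hq.isQuot W γ.1 a - a ∈ 𝔮 := by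
        have h2 := (I.inv_mem γ.2) a
        change H27Quot.act hq.isQuot W (γ.1)⁻¹⁻¹ a - a ∈ 𝔮 at h2
        rwa [inv_inv] at h2
      exact ⟨fun h => by simpa using 𝔮.sub_mem h h1, fun h => by simpa using 𝔮.add_mem h1 h⟩
    have hΦT : Spec.map (Φ.appLE (q ⁻¹ᵁ W) (r ⁻¹ᵁ W') hle) ≫ hZA.fromSpec = hZA'.fromSpec ≫ Φ :=
      IsAffineOpen.SpecMap_appLE_fromSpec _ hZA hZA' hle
    have hxV : (WidePullback.base (fun _ : Fin d => f)).base (hZA.fromSpec x) ∈ V := by
      have hx : hZA.fromSpec x ∈ q ⁻¹ᵁ W := hZA.range_fromSpec.le ⟨x, rfl⟩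
      show WidePullback.base (fun _ : Fin d => f) (hZA.fromSpec x) ∈ V
      rw [← hq.over, Scheme.Hom.comp_apply]
      exact hWV hx
    let μ : CommRingCat.of (FixedPoints.subring R I) ⟶ CommRingCat.of (FixedPoints.subring R' I) :=
      CommRingCat.ofHom (EtalePair.fixMap hφ I)
    have hμ : Spec.map (CommRingCat.ofHom (FixedPoints.subring R' I).subtype) ≫ Spec.map μ =
        Spec.map (Φ.appLE (q ⁻¹ᵁ W) (r ⁻¹ᵁ W') hle) ≫
          Spec.map (CommRingCat.ofHom (FixedPoints.subring R I).subtype) := by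
      rw [← Spec.map_comp, ← Spec.map_comp]
      rfl
    have heI : Spec.map (CommRingCat.ofHom (FixedPoints.subring R' I).subtype) ≫ Spec.map eI ≫ hV'.fromSpec =
        hZA'.fromSpec ≫ WidePullback.base (fun _ : Fin d => f') := by
      rw [← Spec.map_comp_assoc, show eI ≫ CommRingCat.ofHom (FixedPoints.subring R' I).subtype =
          (WidePullback.base (fun _ : Fin d => f')).appLE V' (r ⁻¹ᵁ W') hle' from
        CommRingCat.hom_ext (RingHom.ext he), IsAffineOpen.SpecMap_appLE_fromSpec _ hV' hZA']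
    obtain ⟨h, hh, hgen⟩ := SymCmpChart.exists_gen w ρT hZA.fromSpec hjT ρT' hZA'.fromSpec hjT' hp hp'
      (Spec.map (Φ.appLE (q ⁻¹ᵁ W) (r ⁻¹ᵁ W') hle)) hΦT μ hμ hV hV' hVV' eI heI x hfix hxV (fun c' => by
        let N := Subring.closure (Set.range μ.hom ∪ Set.range eI.hom)
        suffices h : IsIntegral N (c' : R') by
          obtain ⟨P, hP, hPc⟩ := h
          refine ⟨P, hP, Subtype.val_injective ?_⟩
          show (FixedPoints.subring R' I).subtype (Polynomial.eval₂ _ c' P) = _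
          rw [Polynomial.hom_eval₂]
          exact hPc
        have hc : (c' : R') ∈ Subring.closure (Set.range φ ∪ Set.range fun a => (e a : R')) := by
          rw [hgenR']; trivial
        refine (Subring.closure_le (t := (integralClosure N R').toSubring)).mpr ?_ hc
        rintro y (⟨a, rfl⟩ | ⟨a, rfl⟩)
        · haveI : SMulCommClass I (FixedPoints.subring R I) R := ⟨fun γ s a => by
            show γ • ((s : R) * a) = (s : R) * γ • a
            rw [smul_mul', s.2 γ]⟩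
          haveI : Algebra.IsInvariant (FixedPoints.subring R I) R I := ⟨fun a ha => ⟨⟨a, ha⟩, rfl⟩⟩
          haveI := Algebra.IsInvariant.isIntegral (FixedPoints.subring R I) R I
          obtain ⟨P, hP, hPa⟩ := Algebra.IsIntegral.isIntegral (R := FixedPoints.subring R I) a
          let κ : FixedPoints.subring R I →+* N :=
            μ.hom.codRestrict N fun s => Subring.subset_closure (Or.inl ⟨s, rfl⟩)
          refine ⟨P.map κ, hP.map κ, ?_⟩
          rw [Polynomial.eval₂_map,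
            show (algebraMap N R').comp κ = φ.comp (algebraMap (FixedPoints.subring R I) R) from rfl,
            ← Polynomial.hom_eval₂, hPa, map_zero]
        · exact isIntegral_algebraMap (R := N) (A := R')
            (x := ⟨SymCmpRing.inclI I R' (e a), Subring.subset_closure (Or.inr ⟨a, rfl⟩)⟩))
    exact ⟨h, hh, hgen⟩
  -- surjectivity on the piece
  have hb : SymCmpAffine.sectionsHom hr.isQuot W' b ∈
      Subring.closure (Set.range (EtalePair.fixMapTop hφ) ∪ Set.range e) := by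
    rw [htop]; trivial
  let P := Subring.map (SymCmpAffine.sectionsHom hr.isQuot W') (M.app UP).hom.range
  have hP : SymCmpAffine.sectionsHom hr.isQuot W' b ∈ P := by
    refine Subring.closure_le.mpr ?_ hb
    rintro y (⟨a, rfl⟩ | ⟨a, rfl⟩)
    · obtain ⟨a, rfl⟩ := (SymCmpAffine.sectionsHom_bijective hq.isQuot W).2 a
      refine ⟨_, ⟨((pullback.fst g β).appLE W UP inf_le_left).hom a, rfl⟩, Subtype.ext ?_⟩
      show (r.app W').hom ((M.app UP).hom (((pullback.fst g β).appLE W UP inf_le_left).hom a)) =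
        (Φ.appLE _ _ hle).hom ((q.app W).hom a)
      rw [show r.app W' = r.appLE W' (r ⁻¹ᵁ W') le_rfl from Scheme.Hom.app_eq_appLE _,
        show q.app W = q.appLE W (q ⁻¹ᵁ W) le_rfl from Scheme.Hom.app_eq_appLE _,
        show M.app UP = M.appLE UP W' le_rfl from Scheme.Hom.app_eq_appLE _, ← CommRingCat.comp_apply,
        ← CommRingCat.comp_apply, ← CommRingCat.comp_apply, Scheme.Hom.appLE_comp_appLE,
        Scheme.Hom.appLE_comp_appLE, Scheme.Hom.appLE_comp_appLE]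
      rw [SymFlatChart.appLE_congr_hom (show (r ≫ M) ≫ pullback.fst g β = Φ ≫ q by rw [Category.assoc, pullback.lift_fst]; exact hm)]
    · refine ⟨_, ⟨((pullback.snd g β).appLE V' UP inf_le_right).hom a, rfl⟩, Subtype.ext ?_⟩
      show (r.app W').hom ((M.app UP).hom (((pullback.snd g β).appLE V' UP inf_le_right).hom a)) = (e a : R')
      rw [he, show r.app W' = r.appLE W' (r ⁻¹ᵁ W') le_rfl from Scheme.Hom.app_eq_appLE _,
        show M.app UP = M.appLE UP W' le_rfl from Scheme.Hom.app_eq_appLE _, ← CommRingCat.comp_apply,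
        ← CommRingCat.comp_apply, Scheme.Hom.appLE_comp_appLE, Scheme.Hom.appLE_comp_appLE]
      rw [SymFlatChart.appLE_congr_hom (show (r ≫ M) ≫ pullback.snd g β = WidePullback.base (fun _ : Fin d => f') by
        rw [Category.assoc, pullback.lift_snd]; exact hr.over)]
  obtain ⟨b', ⟨a, ha⟩, hb'⟩ := hP
  exact ⟨a, ha.trans ((SymCmpAffine.sectionsHom_bijective hr.isQuot W').1 hb')⟩

end Groth.Agent.H22Alg.SymCmp
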