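import Groth.Agent.H22Alg.SymFlat
import Groth.Agent.H27SymProd.CharZeroBC
import Mathlib

/-!
# Quotients of products of symmetric products
-/

set_option autoImplicit false
set_option linter.style.haveILetI false
universe u

open CategoryTheory CategoryTheory.Limits AlgebraicGeometry

namespace Groth.Agent.H22Alg.SymProdProd

/-- Transport of a quotient along an isomorphism of groups. -/
theorem isQuot_congr {X Y : Scheme.{u}} {G G' : Type u} [Group G] [Group G'] {ρ : G →* Aut X}
    {θ : G' →* Aut X} (φ : G' ≃* G) (h : ∀ γ, θ γ = ρ (φ γ)) {p : X ⟶ Y} (hp : SGA1.IsQuot θ p) :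
    SGA1.IsQuot ρ p where
  affine := hp.affine
  inv g := by
    have := hp.inv (φ.symm g)
    rwa [h, φ.apply_symm_apply] at this
  injective := hp.injective
  range_iff U s := by
    rw [hp.range_iff U s]
    constructor
    · intro h1 g
      have h2 := h1 (φ.symm g)
      simp only [h, φ.apply_symm_apply] at h2
      exact h2
    · intro h1 γ
      simp only [h]
      exact h1 (φ γ)

/-- `n!` is invertible on a scheme over a base where positive integers are. -/
theorem isUnit_card_perm {P S : Scheme.{u}} (pP : P ⟶ S)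
    (h : ∀ n : ℕ, 0 < n → IsUnit ((n : ℕ) : Γ(S, ⊤))) (d : ℕ) :
    IsUnit ((Nat.card (ULift.{u} (Equiv.Perm (Fin d))) : ℕ) : Γ(P, ⊤)) := by
  have := (h _ (Nat.card_pos (α := ULift.{u} (Equiv.Perm (Fin d))))).map pP.appTop.hom
  rwa [map_natCast] at this

/-- Fibre powers of a flat morphism are flat. -/
theorem flat_base {X S : Scheme.{u}} (f : X ⟶ S) [Flat f] (d : ℕ) :
    Flat (WidePullback.base (fun _ : Fin d => f)) := by
  rw [Flat.iff_flat_stalkMap]
  intro x
  have hp : SGA1.IsQuot (1 : (⊥ : Subgroup (ULift.{u} (Equiv.Perm (Fin d)))) →* Aut (SymProd.fibPow f d))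
      (𝟙 _) :=
    { affine := inferInstance
      inv := fun _ => Category.comp_id _
      injective := fun U a b h => h
      range_iff := fun U s => ⟨fun ⟨b, hb⟩ γ => hb ▸ _root_.H18Quot.invariant_app _ _
          (fun _ => Category.comp_id _) U b γ,
        fun _ => ⟨s, rfl⟩⟩ }
  exact SymFlatChart.flat_stalkMap_of_fixed (f := f) ⊥ 1 (𝟙 _) (fun γ => by
    rw [show ((γ : ULift.{u} (Equiv.Perm (Fin d))).down) = 1 by rw [Subgroup.mem_bot.mp γ.2]; rfl,
      SymProd.permHom_one]
    rfl) hp _ (by simp) x (fun _ => rfl)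

end Groth.Agent.H22Alg.SymProdProd
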