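import Groth.Agent.H22Alg.SymCmp
import Groth.Agent.H22Alg.SymProdProd
import Mathlib

/-!
# Comparison of symmetric products when `d!` is invertible
-/

set_option autoImplicit false
set_option linter.style.haveILetI false
universe u

noncomputable section

open CategoryTheory CategoryTheory.Limits AlgebraicGeometry

namespace Groth.Agent.H22Alg.SymCmpUnits

variable {G R R' : Type u} [Group G] [Fintype G] [CommRing R] [MulSemiringAction G R] [CommRing R']
  [MulSemiringAction G R'] {φ : R →+* R'}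

/-- If `|G|` is invertible, invariants are generated by invariants and an invariant subring. -/
theorem closure_eq_top {A₀ : Type u} [CommRing A₀] (hφ : ∀ (γ : G) (a : R), φ (γ • a) = γ • φ a)
    (e : A₀ →+* FixedPoints.subring R' G)
    (hgen : Subring.closure (Set.range φ ∪ Set.range fun a => (e a : R')) = ⊤)
    (u : A₀) (hu : u * (Fintype.card G : A₀) = 1) :
    Subring.closure (Set.range (EtalePair.fixMapTop hφ) ∪ Set.range e) = ⊤ := by
  let K := Subring.closure (Set.range (EtalePair.fixMapTop hφ) ∪ Set.range e)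
  let M := AddSubgroup.closure {y : R' | ∃ a r, y = (e a : R') * φ r}
  have hM : ∀ y : R', y ∈ M := fun y => by
    have hy : y ∈ Subring.closure (Set.range φ ∪ Set.range fun a => (e a : R')) := by rw [hgen]; trivial
    induction hy using Subring.closure_induction with
    | mem z hz =>
      rcases hz with ⟨r, rfl⟩ | ⟨a, rfl⟩
      · exact AddSubgroup.subset_closure ⟨1, r, by simp⟩
      · exact AddSubgroup.subset_closure ⟨a, 1, by simp⟩
    | zero => exact M.zero_mem
    | one => exact AddSubgroup.subset_closure ⟨1, 1, by simp⟩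
    | add _ _ _ _ ha hb => exact M.add_mem ha hb
    | neg _ _ ha => exact M.neg_mem ha
    | mul p q hpc hqc hp hq =>
      clear hpc hqc
      induction hp using AddSubgroup.closure_induction with
      | mem p hp =>
        obtain ⟨a, r, rfl⟩ := hp
        induction hq using AddSubgroup.closure_induction with
        | mem q hq =>
          obtain ⟨a', r', rfl⟩ := hq
          exact AddSubgroup.subset_closure ⟨a * a', r * r', by
            simp only [map_mul, Subring.coe_mul]; ring⟩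
        | zero => simp
        | add x y _ _ hx hy => rw [mul_add]; exact M.add_mem hx hy
        | neg x _ hx => rw [mul_neg]; exact M.neg_mem hx
      | zero => simp
      | add x y _ _ hx hy => rw [add_mul]; exact M.add_mem hx hy
      | neg x _ hx => rw [neg_mul]; exact M.neg_mem hx
  have hsum : ∀ y : R', ∃ k ∈ K, (k : R') = ∑ γ : G, γ • y := fun y => by
    induction hM y using AddSubgroup.closure_induction with
    | mem p hp =>
      obtain ⟨a, r, rfl⟩ := hp
      let t : FixedPoints.subring R G := ⟨∑ γ : G, γ • r, fun δ => by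
        rw [Finset.smul_sum]
        exact Fintype.sum_equiv (Equiv.mulLeft δ) _ _ fun γ => by simp [mul_smul]⟩
      refine ⟨e a * EtalePair.fixMapTop hφ t, K.mul_mem (Subring.subset_closure (Or.inr ⟨a, rfl⟩))
        (Subring.subset_closure (Or.inl ⟨t, rfl⟩)), ?_⟩
      show (e a : R') * φ (∑ γ : G, γ • r) = _
      rw [map_sum, Finset.mul_sum]
      refine Finset.sum_congr rfl fun γ _ => ?_
      rw [smul_mul', hφ, (e a).2 γ]
    | zero => exact ⟨0, K.zero_mem, by simp⟩
    | add x y _ _ hx hy =>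
      obtain ⟨k, hk, hkx⟩ := hx; obtain ⟨l, hl, hly⟩ := hy
      exact ⟨k + l, K.add_mem hk hl, by simp [hkx, hly, smul_add, Finset.sum_add_distrib]⟩
    | neg x _ hx =>
      obtain ⟨k, hk, hkx⟩ := hx
      exact ⟨-k, K.neg_mem hk, by simp [hkx, smul_neg]⟩
  refine eq_top_iff.mpr fun c _ => ?_
  obtain ⟨k, hk, hkc⟩ := hsum c.1
  rw [Finset.sum_congr rfl fun γ _ => c.2 γ, Finset.sum_const, Finset.card_univ] at hkc
  have hkn : k = Fintype.card G • c := Subtype.ext hkc
  have : c = e u * k := by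
    rw [hkn, nsmul_eq_mul, ← map_natCast e, ← mul_assoc, ← map_mul, hu, map_one, one_mul]
  rw [this]
  exact K.mul_mem (Subring.subset_closure (Or.inr ⟨u, rfl⟩)) hk

section Scheme

variable {X S X' S' Y Y' : Scheme.{u}} {f : X ⟶ S} {f' : X' ⟶ S'} {α : X' ⟶ X} {β : S' ⟶ S} {d : ℕ}
  {q : SymProd.fibPow f d ⟶ Y} {g : Y ⟶ S} {r : SymProd.fibPow f' d ⟶ Y'} {g' : Y' ⟶ S'}

/-- If `d!` is invertible on the new base the comparison is a closed immersion. -/
theorem isClosedImmersion_of_isUnit (hq : SymProd.IsSymProd f d q g)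
    (hr : SymProd.IsSymProd f' d r g') (w : α ≫ f = f' ≫ β)
    [IsClosedImmersion (pullback.lift α f' w)] (m : Y' ⟶ Y) (hm : r ≫ m = SymCmpBase.Phi α β w d ≫ q)
    (hu : ∀ n : ℕ, 0 < n → IsUnit ((n : ℕ) : Γ(S', ⊤))) :
    IsClosedImmersion (pullback.lift m g' (SymCmp.comp_eq hq hr w m hm)) := by
  classical
  refine SymCmp.isClosedImmersion_of_pieces _ fun z => ?_
  obtain ⟨V, hV, hzV, -⟩ := exists_isAffineOpen_mem_and_subset (X := S)
    (x := g (pullback.fst g β z)) (U := ⊤) trivial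
  obtain ⟨W, hW, hzW, hWV⟩ := exists_isAffineOpen_mem_and_subset (X := Y)
    (x := pullback.fst g β z) (U := g ⁻¹ᵁ V) hzV
  have hzV' : pullback.snd g β z ∈ β ⁻¹ᵁ V := by
    show β (pullback.snd g β z) ∈ V
    rw [← Scheme.Hom.comp_apply, ← pullback.condition, Scheme.Hom.comp_apply]
    exact hzV
  obtain ⟨V', hV', hzV'', hVV'⟩ := exists_isAffineOpen_mem_and_subset (X := S')
    (x := pullback.snd g β z) (U := β ⁻¹ᵁ V) hzV'
  let UP := pullback.fst g β ⁻¹ᵁ W ⊓ pullback.snd g β ⁻¹ᵁ V'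
  have hUP : IsAffineOpen UP :=
    H26Sym.isAffineOpen_inf_preimage (IsPullback.of_hasPullback g β) hV hV' hW hVV' hWV rfl
  let M := pullback.lift m g' (SymCmp.comp_eq hq hr w m hm)
  let W' := M ⁻¹ᵁ UP
  have hW' : W' = m ⁻¹ᵁ W ⊓ g' ⁻¹ᵁ V' := by
    show M ⁻¹ᵁ (pullback.fst g β ⁻¹ᵁ W) ⊓ M ⁻¹ᵁ (pullback.snd g β ⁻¹ᵁ V') = _
    rw [← Scheme.Hom.comp_preimage, ← Scheme.Hom.comp_preimage, pullback.lift_fst, pullback.lift_snd]
  obtain ⟨hle, hle', hZA', hWA', hgenR⟩ := SymCmp.piece_data hq hr w m hm hV hV' hVV' hW hWV W' hW'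
  refine ⟨UP, ⟨hzW, hzV''⟩, hUP, hWA', fun b => ?_⟩
  letI := SymCmpAffine.mulAct hq.isQuot W
  letI := SymCmpAffine.mulAct hr.isQuot W'
  let Φ := SymCmpBase.Phi α β w d
  let R := Γ(SymProd.fibPow f d, q ⁻¹ᵁ W)
  let R' := Γ(SymProd.fibPow f' d, r ⁻¹ᵁ W')
  let φ : R →+* R' := (Φ.appLE (q ⁻¹ᵁ W) (r ⁻¹ᵁ W') hle).hom
  have hφ : ∀ (γ : ULift.{u} (Equiv.Perm (Fin d))) (a : R), φ (γ • a) = γ • φ a := fun γ a => by
    show (Φ.appLE _ _ hle).hom ((((SymProd.permActU f d) γ⁻¹).hom.appLE _ _ _).hom a) =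
      ((((SymProd.permActU f' d) γ⁻¹).hom.appLE _ _ _).hom ((Φ.appLE _ _ hle).hom a))
    rw [← CommRingCat.comp_apply, ← CommRingCat.comp_apply, Scheme.Hom.appLE_comp_appLE,
      Scheme.Hom.appLE_comp_appLE]
    rw [SymFlatChart.appLE_congr_hom (show Φ ≫ ((SymProd.permActU f d) γ⁻¹).hom =
      ((SymProd.permActU f' d) γ⁻¹).hom ≫ Φ from (SymCmpBase.permHom_Phi α β w d _).symm)]
  have hgW' : W' ≤ g' ⁻¹ᵁ V' := hW'.le.trans inf_le_right
  let e : Γ(S', V') →+* FixedPoints.subring R' (ULift.{u} (Equiv.Perm (Fin d))) :=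
    (SymCmpAffine.sectionsHom hr.isQuot W').comp (g'.appLE V' W' hgW').hom
  have he : ∀ a, (e a : R') = ((WidePullback.base (fun _ : Fin d => f')).appLE V' (r ⁻¹ᵁ W') hle').hom a := by
    intro a
    show (r.app W').hom ((g'.appLE V' W' hgW').hom a) = _
    rw [show r.app W' = r.appLE W' (r ⁻¹ᵁ W') le_rfl from Scheme.Hom.app_eq_appLE _, ← CommRingCat.comp_apply,
      Scheme.Hom.appLE_comp_appLE]
    simp only [hr.over]
  have hgenR' : Subring.closure (Set.range φ ∪ Set.range fun a => (e a : R')) = ⊤ := by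
    rw [show (fun a => (e a : R')) = _ from funext he]
    exact hgenR
  obtain ⟨v, hv⟩ : ∃ v : Γ(S', V'), v * (Fintype.card (ULift.{u} (Equiv.Perm (Fin d))) : Γ(S', V')) = 1 := by
    have h1 := (hu _ (Fintype.card_pos (α := ULift.{u} (Equiv.Perm (Fin d))))).map
      (S'.presheaf.map (homOfLE (le_top : V' ≤ ⊤)).op).hom
    rw [map_natCast] at h1
    exact ⟨_, h1.val_inv_mul⟩
  have htop := closure_eq_top hφ e hgenR' v hv
  have hb : SymCmpAffine.sectionsHom hr.isQuot W' b ∈
      Subring.closure (Set.range (EtalePair.fixMapTop hφ) ∪ Set.range e) := by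
    rw [htop]; trivial
  let P := Subring.map (SymCmpAffine.sectionsHom hr.isQuot W') (M.app UP).hom.range
  have hP : SymCmpAffine.sectionsHom hr.isQuot W' b ∈ P := by
    refine Subring.closure_le.mpr ?_ hb
    rintro y (⟨a, rfl⟩ | ⟨a, rfl⟩)
    · obtain ⟨a, rfl⟩ := (SymCmpAffine.sectionsHom_bijective hq.isQuot W).2 a
      refine ⟨_, ⟨((pullback.fst g β).appLE W UP inf_le_left).hom a, rfl⟩, Subtype.ext ?_⟩
      show (r.app W').hom ((M.app UP).hom (((pullback.fst g β).appLE W UP inf_le_left).hom a)) =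
        (Φ.appLE _ _ hle).hom ((q.app W).hom a)
      rw [show r.app W' = r.appLE W' (r ⁻¹ᵁ W') le_rfl from Scheme.Hom.app_eq_appLE _,
        show q.app W = q.appLE W (q ⁻¹ᵁ W) le_rfl from Scheme.Hom.app_eq_appLE _,
        show M.app UP = M.appLE UP W' le_rfl from Scheme.Hom.app_eq_appLE _, ← CommRingCat.comp_apply,
        ← CommRingCat.comp_apply, ← CommRingCat.comp_apply, Scheme.Hom.appLE_comp_appLE,
        Scheme.Hom.appLE_comp_appLE, Scheme.Hom.appLE_comp_appLE]
      rw [SymFlatChart.appLE_congr_hom (show (r ≫ M) ≫ pullback.fst g β = Φ ≫ q by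
        rw [Category.assoc, pullback.lift_fst]; exact hm)]
    · refine ⟨_, ⟨((pullback.snd g β).appLE V' UP inf_le_right).hom a, rfl⟩, Subtype.ext ?_⟩
      show (r.app W').hom ((M.app UP).hom (((pullback.snd g β).appLE V' UP inf_le_right).hom a)) = (e a : R')
      rw [he, show r.app W' = r.appLE W' (r ⁻¹ᵁ W') le_rfl from Scheme.Hom.app_eq_appLE _,
        show M.app UP = M.appLE UP W' le_rfl from Scheme.Hom.app_eq_appLE _, ← CommRingCat.comp_apply,
        ← CommRingCat.comp_apply, Scheme.Hom.appLE_comp_appLE, Scheme.Hom.appLE_comp_appLE]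
      rw [SymFlatChart.appLE_congr_hom (show (r ≫ M) ≫ pullback.snd g β = WidePullback.base (fun _ : Fin d => f') by
        rw [Category.assoc, pullback.lift_snd]; exact hr.over)]
  obtain ⟨b', ⟨a, ha⟩, hb'⟩ := hP
  exact ⟨a, ha.trans ((SymCmpAffine.sectionsHom_bijective hr.isQuot W').1 hb')⟩

end Scheme

end Groth.Agent.H22Alg.SymCmpUnits
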