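import Groth.Agent.H22Alg.SymCmpResidue
import Groth.Agent.H22Alg.SymCmpUnits
import Groth.Agent.H22Alg.InvBaseChange
import Mathlib

/-!
# Small facts for applying the comparison theorems
-/

set_option autoImplicit false
set_option linter.style.haveILetI false
universe u

noncomputable section

open CategoryTheory CategoryTheory.Limits AlgebraicGeometry

namespace Groth.Agent.H22Alg.SymCmpApply

variable {X S X' S' Y Y' : Scheme.{u}} {f : X ⟶ S} {f' : X' ⟶ S} {d : ℕ}

theorem fibPowMap_eq_Phi (h : X' ⟶ X) (w : h ≫ f = f') :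
    SymProd.fibPowMap f' d f h w = SymCmpBase.Phi h (𝟙 S) (w.trans (Category.comp_id f').symm) d := by
  apply WidePullback.hom_ext
  · intro i; rw [SymProd.fibPowMap_π, SymCmpBase.Phi_π]
  · rw [SymProd.fibPowMap_base, SymCmpBase.Phi_base, Category.comp_id]

/-- A quotient map by a finite group has trivial kernel ideal. -/
theorem ker_eq_bot {P Q : Scheme.{u}} {G : Type u} [Group G] {ρ : G →* Aut P} {p : P ⟶ Q}
    (hp : SGA1.IsQuot ρ p) : p.ker = ⊥ := by
  haveI := hp.affine
  refine Scheme.IdealSheafData.ext (funext fun U => ?_)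
  rw [p.ker_apply U, Scheme.IdealSheafData.ideal_bot]
  exact (RingHom.injective_iff_ker_eq_bot _).mp (hp.injective U.1)

/-- Transport of a quotient along an equivariant isomorphism of the source. -/
theorem isQuot_iso {P P' Q : Scheme.{u}} {G : Type u} [Group G] [Finite G] {ρ : G →* Aut P} {p : P ⟶ Q}
    (hp : SGA1.IsQuot ρ p) (j : P' ⟶ P) [IsIso j] (ρ' : G →* Aut P')
    (hj : ∀ γ, (ρ' γ).hom ≫ j = j ≫ (ρ γ).hom) : SGA1.IsQuot ρ' (j ≫ p) :=
  H27QuotBC.isQuot_of_flat_baseChange hp (g := 𝟙 Q)
    (IsPullback.of_horiz_isIso ⟨(Category.comp_id _).symm⟩) ρ' hj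
    fun γ => by rw [reassoc_of% (hj γ), hp.inv]

theorem isIso_residueFieldMap_comp {A B C : Scheme.{u}} (l : A ⟶ B) (p : B ⟶ C) [IsIso p] (a : A)
    [IsIso (l.residueFieldMap a)] : IsIso ((l ≫ p).residueFieldMap a) := by
  rw [Scheme.residueFieldMap_comp]
  haveI : IsOpenImmersion p := inferInstance
  exact IsIso.comp_isIso' (inferInstanceAs (IsIso (p.residueFieldMap _))) ‹_›

/-- A first factor of a composite with surjective residue field map has bijective one. -/
theorem isIso_of_comp' {A B C : Scheme.{u}} (g : A ⟶ B) (f : B ⟶ C) (a : A)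
    (h : Function.Surjective ((g ≫ f).residueFieldMap a).hom) : IsIso (g.residueFieldMap a) := by
  rw [Scheme.residueFieldMap_comp] at h
  refine (ConcreteCategory.isIso_iff_bijective _).mpr ⟨(g.residueFieldMap a).hom.injective, fun z => ?_⟩
  obtain ⟨w, hw⟩ := h z
  exact ⟨_, hw⟩

end Groth.Agent.H22Alg.SymCmpApply
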