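import Groth.Agent.H22Alg.SymCmpGen
import Mathlib

/-!
# Invariants near a fixed point are generated by invariants and functions of the base
-/

set_option autoImplicit false
set_option linter.style.haveILetI false
universe u

noncomputable section

open CategoryTheory CategoryTheory.Limits AlgebraicGeometry

namespace Groth.Agent.H22Alg.SymCmpChart

/-- A subring `N` over which `B` is integral, containing the image of a ring whose spectrum contains `Spec B`
as an open, is everything. -/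
theorem eq_top_of_isOpenImmersion {C B : CommRingCat.{u}} (θ : C ⟶ B) [IsOpenImmersion (Spec.map θ)]
    (N : Subring B) (hN : ∀ c, θ.hom c ∈ N) (hint : ∀ b : B, IsIntegral N b) : N = ⊤ := by
  let θ' : MvPolynomial N C →+* B := MvPolynomial.eval₂Hom θ.hom fun z => z.1
  have hrange : ∀ z, θ' z ∈ N := fun z => by
    induction z using MvPolynomial.induction_on with
    | C a => simp only [θ', MvPolynomial.eval₂Hom_C]; exact hN a
    | add a b ha hb => rw [map_add]; exact N.add_mem ha hb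
    | mul_X a i ha => rw [map_mul]; exact N.mul_mem ha (by simp only [θ', MvPolynomial.eval₂Hom_X']; exact i.2)
  let t := Spec.map (CommRingCat.ofHom θ')
  have hcomp : t ≫ Spec.map (CommRingCat.ofHom (MvPolynomial.C (σ := N) (R := C))) = Spec.map θ := by
    rw [← Spec.map_comp]
    exact congrArg Spec.map (CommRingCat.hom_ext (RingHom.ext fun c => MvPolynomial.eval₂Hom_C _ _ c))
  haveI : IsImmersion t := by
    haveI : IsImmersion (t ≫ Spec.map (CommRingCat.ofHom (MvPolynomial.C (σ := N) (R := C)))) := by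
      rw [hcomp]; infer_instance
    exact IsImmersion.of_comp t (Spec.map (CommRingCat.ofHom (MvPolynomial.C (σ := N) (R := C))))
  haveI : IsIntegralHom t := by
    rw [IsIntegralHom.SpecMap_iff]
    intro b
    obtain ⟨q, hq, hqb⟩ := hint b
    have hlift : q.map N.subtype ∈ Polynomial.lifts θ' := by
      refine (Polynomial.lifts_iff_coeff_lifts _).mpr fun n => ?_
      rw [Polynomial.coeff_map]
      exact ⟨MvPolynomial.X (q.coeff n), MvPolynomial.eval₂Hom_X' _ _ _⟩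
    obtain ⟨Q, hQ, -, hQm⟩ := Polynomial.lifts_and_natDegree_eq_and_monic hlift (hq.map _)
    refine ⟨Q, hQm, ?_⟩
    show Polynomial.eval₂ θ' b Q = 0
    rw [← Polynomial.eval_map, hQ, Polynomial.eval_map]
    exact hqb
  haveI : IsClosedImmersion t := IsClosedImmersion.of_isPreimmersion t t.isClosedMap.isClosed_range
  have hsurj : Function.Surjective θ' := by
    have h := (IsClosedImmersion.isAffine_surjective_of_isAffine (f := t)).2
    intro b
    obtain ⟨a, ha⟩ := h ((Scheme.ΓSpecIso B).inv.hom b)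
    refine ⟨(Scheme.ΓSpecIso _).hom.hom a, ?_⟩
    have hn := congrArg (fun m => m.hom a) (Scheme.ΓSpecIso_naturality (CommRingCat.ofHom θ'))
    simp only [CommRingCat.comp_apply] at hn
    erw [ha] at hn
    exact hn.symm.trans ((Scheme.ΓSpecIso B).commRingCatIsoToRingEquiv.apply_symm_apply b)
  exact eq_top_iff.mpr fun b _ => by obtain ⟨a, rfl⟩ := hsurj b; exact hrange a

variable {X S X' S' : Scheme.{u}} {f : X ⟶ S} {f' : X' ⟶ S'} {α : X' ⟶ X} {β : S' ⟶ S}
  {d : ℕ} {I : Subgroup (ULift.{u} (Equiv.Perm (Fin d)))}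

/-- Near a fixed point, the invariants of the larger scheme are generated by those of the smaller one and
functions of the base, up to powers of an invariant not vanishing at the point. -/
theorem exists_gen [Flat f'] (w : α ≫ f = f' ≫ β) [IsClosedImmersion (pullback.lift α f' w)]
    {T T' : Scheme.{u}} {C C' : CommRingCat.{u}}
    (ρT : I →* Aut T) (j : T ⟶ SymProd.fibPow f d) [IsOpenImmersion j]
    (hj : ∀ γ : I, (ρT γ).hom ≫ j = j ≫ SymProd.permHom f d (γ : ULift.{u} (Equiv.Perm (Fin d))).down)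
    (ρT' : I →* Aut T') (j' : T' ⟶ SymProd.fibPow f' d) [IsOpenImmersion j']
    (hj' : ∀ γ : I, (ρT' γ).hom ≫ j' = j' ≫ SymProd.permHom f' d (γ : ULift.{u} (Equiv.Perm (Fin d))).down)
    {p : T ⟶ Spec C} (hp : SGA1.IsQuot ρT p) {p' : T' ⟶ Spec C'} (hp' : SGA1.IsQuot ρT' p')
    (ΦT : T' ⟶ T) (hΦT : ΦT ≫ j = j' ≫ SymCmpBase.Phi α β w d) (μ : C ⟶ C')
    (hμ : p' ≫ Spec.map μ = ΦT ≫ p)
    {V : S.Opens} (hV : IsAffineOpen V) {V' : S'.Opens} (hV' : IsAffineOpen V') (hVV' : V' ≤ β ⁻¹ᵁ V)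
    (e : Γ(S', V') ⟶ C')
    (he : p' ≫ Spec.map e ≫ hV'.fromSpec = j' ≫ WidePullback.base (fun _ : Fin d => f'))
    (x : T) (hx : ∀ γ, (ρT γ).hom x = x) (hxV : (WidePullback.base (fun _ : Fin d => f)).base (j x) ∈ V)
    (hint : ∀ c' : C', IsIntegral (Subring.closure (Set.range μ.hom ∪ Set.range e.hom)) c') :
    ∃ h : C, h ∉ (p x).asIdeal ∧
      ∀ c' : C', ∃ n : ℕ, μ.hom h ^ n * c' ∈ Subring.closure (Set.range μ.hom ∪ Set.range e.hom) := by
  classical
  let co : Fin d → X := fun i => (WidePullback.π (fun _ : Fin d => f) i).base (j x)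
  have hco : ∀ i, co i ∈ f ⁻¹ᵁ V := fun i => by
    show (WidePullback.π (fun _ : Fin d => f) i ≫ f) (j x) ∈ V
    rw [WidePullback.π_arrow]
    exact hxV
  let J := {z : X // ∃ i, co i = z}
  haveI : Finite J := Finite.of_surjective (fun i => (⟨co i, i, rfl⟩ : J))
    (by rintro ⟨z, i, rfl⟩; exact ⟨i, rfl⟩)
  have hex : ∀ z : J, ∃ U : X.Opens, IsAffineOpen U ∧ z.1 ∈ U ∧ U ≤ f ⁻¹ᵁ V := by
    rintro ⟨z, i, rfl⟩
    exact exists_isAffineOpen_mem_and_subset (hco i)
  choose U hU hzU hUV using hex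
  let c : Fin d → J := fun i => ⟨co i, i, rfl⟩
  have hc : ∀ γ : I, ∀ i, c ((γ : ULift.{u} (Equiv.Perm (Fin d))).down i) = c i := fun γ i => by
    refine Subtype.ext ?_
    have h1 : (SymProd.permHom f d (γ : ULift.{u} (Equiv.Perm (Fin d))).down) (j x) = j x := by
      rw [← Scheme.Hom.comp_apply, ← hj, Scheme.Hom.comp_apply, hx]
    show co _ = co i
    conv_lhs => simp only [co]; rw [← h1]
    show ((SymProd.permHom f d _ ≫ WidePullback.π (fun _ : Fin d => f) _) : _ ⟶ _) (j x) = co i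
    rw [SymProd.permHom_π, Equiv.symm_apply_apply]
  -- the affine scheme below
  let X0 := ∐ fun z => (U z).toScheme
  haveI : ∀ z, IsAffine (U z).toScheme := hU
  let v0 : X0 ⟶ X := SymFlatChart.cover U
  let f0 : X0 ⟶ S := v0 ≫ f
  haveI : Flat v0 := IsZariskiLocalAtSource.sigmaDesc (P := @Flat) (fun z => inferInstance)
  have h0 : (⊤ : X0.Opens) ≤ f0 ⁻¹ᵁ V := by
    intro y _
    obtain ⟨⟨z, y⟩, rfl⟩ := (sigmaMk fun z => (U z).toScheme).surjective y
    rw [sigmaMk_mk]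
    show (Sigma.ι (fun z => (U z).toScheme) z ≫ f0) y ∈ V
    simp only [f0, v0, SymFlatChart.cover, Sigma.ι_desc_assoc]
    exact hUV z y.2
  -- the affine scheme above
  let Op : (pullback α v0).Opens := (pullback.fst α v0 ≫ f') ⁻¹ᵁ V'
  let X1 := Op.toScheme
  let v1 : X1 ⟶ X' := Op.ι ≫ pullback.fst α v0
  let u₁ : X1 ⟶ X0 := Op.ι ≫ pullback.snd α v0
  let f1 : X1 ⟶ S' := v1 ≫ f'
  haveI : Flat (pullback.fst α v0) := MorphismProperty.pullback_fst _ _ inferInstance
  haveI : Flat f1 := by dsimp only [f1, v1]; infer_instance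
  have w0 : pullback.snd α v0 ≫ f0 = (pullback.fst α v0 ≫ f') ≫ β := by
    rw [Category.assoc, ← w, ← pullback.condition_assoc]
  have w1 : u₁ ≫ f0 = f1 ≫ β := by
    simp only [u₁, f1, v1, Category.assoc] at w0 ⊢
    rw [w0]
  haveI : IsClosedImmersion (pullback.lift (pullback.snd α v0) (pullback.fst α v0 ≫ f') w0) := by
    have hR : IsPullback (pullback.fst f0 β) (pullback.map f0 β f β v0 (𝟙 S') (𝟙 S) (Category.comp_id _)
        ((Category.comp_id β).trans (Category.id_comp β).symm)) v0 (pullback.fst f β) := by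
      refine IsPullback.of_bot ?_ (pullback.lift_fst _ _ _).symm (IsPullback.of_hasPullback f β)
      rw [pullback.lift_snd, Category.comp_id]
      exact IsPullback.of_hasPullback f0 β
    have hL : IsPullback (pullback.fst α v0) (pullback.lift (pullback.snd α v0) (pullback.fst α v0 ≫ f') w0)
        (pullback.lift α f' w) (pullback.map f0 β f β v0 (𝟙 S') (𝟙 S) (Category.comp_id _)
        ((Category.comp_id β).trans (Category.id_comp β).symm)) := by
      refine IsPullback.of_bot ?_ ?_ hR.flip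
      · rw [pullback.lift_fst, pullback.lift_fst]
        exact IsPullback.of_hasPullback α v0
      · apply pullback.hom_ext
        · erw [Category.assoc, Category.assoc, pullback.lift_fst, pullback.lift_fst, pullback.lift_fst_assoc]
          exact pullback.condition
        · erw [Category.assoc, Category.assoc, pullback.lift_snd, pullback.lift_snd, Category.comp_id,
            pullback.lift_snd]
    exact MorphismProperty.of_isPullback hL (inferInstanceAs (IsClosedImmersion (pullback.lift α f' w)))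
  obtain ⟨hOp, hgen0⟩ := SymCmpGen.piece (pullback.snd α v0) (pullback.fst α v0 ≫ f') w0 hV
    (isAffineOpen_top X0) hV' h0 hVV' Op (by rw [Scheme.Hom.preimage_top, top_inf_eq])
  haveI : IsAffine X1 := hOp
  have h1 : (⊤ : X1.Opens) ≤ f1 ⁻¹ᵁ V' := fun y _ => y.2
  have hgen : Subring.closure (Set.range u₁.appTop.hom ∪ Set.range (f1.appLE V' ⊤ h1).hom) = ⊤ := by
    let r := Op.ι.appLE Op ⊤ fun y _ => y.2
    have hr : Function.Surjective r.hom := by
      haveI : IsIso r := by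
        have e : r = Op.topIso.inv := by
          simp only [r, Scheme.Opens.ι_appLE, Scheme.Opens.topIso_inv]
          exact congrArg _ (Subsingleton.elim _ _)
        rw [e]; infer_instance
      exact (ConcreteCategory.bijective_of_isIso r).2
    refine eq_top_iff.mpr fun z _ => ?_
    obtain ⟨z, rfl⟩ := hr z
    have h2 := Subring.mem_map.mpr ⟨z, hgen0.ge (Subring.mem_top z), (rfl : r.hom z = r.hom z)⟩
    rw [RingHom.map_closure] at h2
    refine Subring.closure_mono ?_ h2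
    rintro _ ⟨q, (⟨a, rfl⟩ | ⟨a, rfl⟩), rfl⟩
    · refine Or.inl ⟨a, ?_⟩
      rw [show u₁.appTop = u₁.appLE ⊤ ⊤ le_top from Scheme.Hom.app_eq_appLE _, ← CommRingCat.comp_apply,
        Scheme.Hom.appLE_comp_appLE]
    · refine Or.inr ⟨a, ?_⟩
      rw [← CommRingCat.comp_apply, Scheme.Hom.appLE_comp_appLE]
      simp only [f1, v1, Category.assoc]
  -- the charts
  let U' : J → X'.Opens := fun z => α ⁻¹ᵁ (U z) ⊓ f' ⁻¹ᵁ V'
  let rz : ∀ z, (U' z).toScheme ⟶ (U z).toScheme := fun z => α.resLE (U z) (U' z) inf_le_left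
  let ε0 : ∀ z, (U z).toScheme ⟶ X0 := fun z => Sigma.ι (fun z => (U z).toScheme) z
  have hε0 : ∀ z, ε0 z ≫ v0 = (U z).ι := fun z => Sigma.ι_desc _ _
  let q1 : ∀ z, (U' z).toScheme ⟶ pullback α (U z).ι := fun z =>
    pullback.lift (U' z).ι (rz z) (Scheme.Hom.resLE_comp_ι α inf_le_left).symm
  let mp : ∀ z, pullback α (U z).ι ⟶ pullback α v0 := fun z =>
    pullback.map α (U z).ι α v0 (𝟙 _) (ε0 z) (𝟙 _) ((Category.comp_id α).trans (Category.id_comp α).symm)
      ((Category.comp_id _).trans (hε0 z).symm)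
  have hmp : ∀ z, IsOpenImmersion (q1 z ≫ mp z) := fun z => by
    haveI : IsOpenImmersion (q1 z ≫ pullback.fst α (U z).ι) := by rw [pullback.lift_fst]; infer_instance
    haveI : IsOpenImmersion (q1 z) := IsOpenImmersion.of_comp _ (pullback.fst α (U z).ι)
    haveI : IsOpenImmersion (mp z) :=
      MorphismProperty.pullbackMap (P := @IsOpenImmersion) (inferInstanceAs (IsOpenImmersion (𝟙 X')))
        (inferInstanceAs (IsOpenImmersion (Sigma.ι (fun z => (U z).toScheme) z))) (Category.id_comp α).symm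
        (hε0 z).symm
    infer_instance
  let ε1 : ∀ z, (U' z).toScheme ⟶ X1 := fun z => IsOpenImmersion.lift Op.ι (q1 z ≫ mp z) (by
    rintro _ ⟨y, rfl⟩
    rw [Scheme.Opens.range_ι]
    show ((q1 z ≫ mp z) ≫ pullback.fst α v0 ≫ f') y ∈ V'
    have hq : (q1 z ≫ mp z) ≫ pullback.fst α v0 = (U' z).ι := by simp only [mp, q1, pullback.map, Category.assoc]; erw [pullback.lift_fst, pullback.lift_fst]
    rw [← Category.assoc (q1 z ≫ mp z), hq]
    exact y.2.2)
  have hε1 : ∀ z, ε1 z ≫ Op.ι = q1 z ≫ mp z := fun z => IsOpenImmersion.lift_fac _ _ _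
  haveI : ∀ z, IsOpenImmersion (ε1 z) := fun z => by
    haveI : IsOpenImmersion (ε1 z ≫ Op.ι) := by rw [hε1]; exact hmp z
    exact IsOpenImmersion.of_comp _ Op.ι
  have hε1v : ∀ z, ε1 z ≫ v1 = (U' z).ι := fun z => by
    show ε1 z ≫ Op.ι ≫ pullback.fst α v0 = _
    rw [reassoc_of% hε1 z]; simp only [mp, q1, pullback.map, Category.assoc]; erw [pullback.lift_fst, pullback.lift_fst]
  have hε1u : ∀ z, ε1 z ≫ u₁ = rz z ≫ ε0 z := fun z => by
    show ε1 z ≫ Op.ι ≫ pullback.snd α v0 = _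
    rw [reassoc_of% hε1 z]; simp only [mp, q1, pullback.map, Category.assoc]; erw [pullback.lift_snd, pullback.lift_snd_assoc]
  obtain ⟨s, hso, hsπ, hsb, hseq⟩ := SymFlatChart.exists_chart (f := f) U c V v0 ε0 hε0
  obtain ⟨s', hso', hsπ', hsb', hseq'⟩ := SymFlatChart.exists_chart (f := f') U' c V' v1 ε1 hε1v
  let Bx := SymFlatChart.cbox f U c V
  let Bx' := SymFlatChart.cbox f' U' c V'
  let F := H26Sym.box f0 d V ⊤
  let F' := H26Sym.box f1 d V' ⊤
  haveI : IsAffine F.toScheme := H26Sym.isAffineOpen_box hV (isAffineOpen_top X0) h0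
  haveI : IsAffine F'.toScheme := H26Sym.isAffineOpen_box hV' (isAffineOpen_top X1) h1
  obtain ⟨ρF, hρF⟩ := H27SymProd.exists_restrict ((SymProd.permActU f0 d).comp I.subtype) F (fun γ y hy =>
    (H26Sym.preimage_box V ⊤ (γ : ULift.{u} (Equiv.Perm (Fin d))).down).ge hy)
  obtain ⟨ρF', hρF'⟩ := H27SymProd.exists_restrict ((SymProd.permActU f1 d).comp I.subtype) F' (fun γ y hy =>
    (H26Sym.preimage_box V' ⊤ (γ : ULift.{u} (Equiv.Perm (Fin d))).down).ge hy)
  have hρF0 : ∀ γ : I, (ρF γ).hom ≫ F.ι =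
      F.ι ≫ SymProd.permHom f0 d (γ : ULift.{u} (Equiv.Perm (Fin d))).down := hρF
  have hρF1 : ∀ γ : I, (ρF' γ).hom ≫ F'.ι =
      F'.ι ≫ SymProd.permHom f1 d (γ : ULift.{u} (Equiv.Perm (Fin d))).down := hρF'
  let Ψ : F'.toScheme ⟶ F.toScheme := IsOpenImmersion.lift F.ι (F'.ι ≫ SymCmpBase.Phi u₁ β w1 d) (by
    rintro _ ⟨y, rfl⟩
    rw [Scheme.Opens.range_ι]
    refine H26Sym.mem_box.mpr ⟨?_, fun i => trivial⟩
    show ((F'.ι ≫ SymCmpBase.Phi u₁ β w1 d) ≫ WidePullback.base (fun _ : Fin d => f0)) y ∈ V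
    rw [Category.assoc, SymCmpBase.Phi_base]
    exact hVV' y.2.1)
  have hΨ : Ψ ≫ F.ι = F'.ι ≫ SymCmpBase.Phi u₁ β w1 d := IsOpenImmersion.lift_fac _ _ _
  have hΨρ : ∀ γ, (ρF' γ).hom ≫ Ψ = Ψ ≫ (ρF γ).hom := fun γ => by
    rw [← cancel_mono F.ι, Category.assoc, hΨ, Category.assoc, hρF0, reassoc_of% hΨ, reassoc_of% hρF1 γ,
      SymCmpBase.permHom_Phi]
  let μ₂ : QuotDescOpen.invs ρF →+* QuotDescOpen.invs ρF' :=
    (Ψ.appTop.hom.comp (QuotDescOpen.invs ρF).subtype).codRestrict _ fun a γ => by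
      show (ρF' γ).hom.appTop.hom (Ψ.appTop.hom a.1) = Ψ.appTop.hom a.1
      rw [← CommRingCat.comp_apply, ← Scheme.Hom.comp_appTop, hΨρ, Scheme.Hom.comp_appTop, CommRingCat.comp_apply,
        a.2 γ]
  have hμ₂ : QuotDescOpen.proj ρF' ≫ Spec.map (CommRingCat.ofHom μ₂) = Ψ ≫ QuotDescOpen.proj ρF := by
    rw [QuotDescOpen.proj, QuotDescOpen.proj, Category.assoc, Scheme.toSpecΓ_naturality_assoc, ← Spec.map_comp,
      ← Spec.map_comp]
    rfl
  -- the neighbourhood
  have hBx : ∀ γ : I, ∀ y, j y ∈ Bx → j ((ρT γ).hom y) ∈ Bx := fun γ y hy => by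
    rw [← Scheme.Hom.comp_apply, hj, Scheme.Hom.comp_apply]
    obtain ⟨hy1, hy2⟩ := (SymFlatChart.mem_cbox U c V).mp hy
    refine (SymFlatChart.mem_cbox U c V).mpr ⟨?_, fun i => ?_⟩
    · show ((SymProd.permHom f d _ ≫ WidePullback.base (fun _ : Fin d => f)) : _ ⟶ _) (j y) ∈ V
      rw [SymProd.permHom_base]
      exact hy1
    · show ((SymProd.permHom f d _ ≫ WidePullback.π (fun _ : Fin d => f) i) : _ ⟶ _) (j y) ∈ U (c i)
      rw [SymProd.permHom_π]
      have h2 := hc γ ((γ : ULift.{u} (Equiv.Perm (Fin d))).down.symm i)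
      rw [Equiv.apply_symm_apply] at h2
      rw [h2]
      exact hy2 _
  obtain ⟨W, hW⟩ := QuotDescOpen.exists_preimage_eq hp (j ⁻¹ᵁ Bx) hBx
  have hxW : p x ∈ W := by
    show x ∈ p ⁻¹ᵁ W
    rw [hW]
    exact (SymFlatChart.mem_cbox U c V).mpr ⟨hxV, fun i => hzU (c i)⟩
  obtain ⟨h, hxh, hhW⟩ : ∃ h : C, p x ∈ PrimeSpectrum.basicOpen h ∧
      ((PrimeSpectrum.basicOpen h : TopologicalSpace.Opens (PrimeSpectrum C)) : Set (PrimeSpectrum C)) ⊆ (W : Set (Spec C)) := by
    obtain ⟨_, ⟨h, rfl⟩, h1, h2⟩ := PrimeSpectrum.isTopologicalBasis_basic_opens.exists_subset_of_mem_open hxW W.2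
    exact ⟨h, h1, h2⟩
  refine ⟨h, hxh, ?_⟩
  let D : (Spec C).Opens := PrimeSpectrum.basicOpen h
  let D' : (Spec C').Opens := (Spec.map μ) ⁻¹ᵁ D
  let mD : D'.toScheme ⟶ D.toScheme := Spec.map μ ∣_ D
  obtain ⟨ρE, hρE⟩ := H27SymProd.exists_restrict ρT (p ⁻¹ᵁ D) (fun γ y hy => by
    show p ((ρT γ).hom y) ∈ D
    rw [← Scheme.Hom.comp_apply, hp.inv]
    exact hy)
  obtain ⟨ρE', hρE'⟩ := H27SymProd.exists_restrict ρT' (p' ⁻¹ᵁ D') (fun γ y hy => by
    show p' ((ρT' γ).hom y) ∈ D'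
    rw [← Scheme.Hom.comp_apply, hp'.inv]
    exact hy)
  have hres := S13606.result ρT p hp D ρE hρE
  have hres' := S13606.result ρT' p' hp' D' ρE' hρE'
  let E := p ⁻¹ᵁ D
  let E' := p' ⁻¹ᵁ D'
  have hE' : ∀ y : T', y ∈ E' → ΦT y ∈ E := fun y hy => by
    show p (ΦT y) ∈ D
    rw [← Scheme.Hom.comp_apply, ← hμ, Scheme.Hom.comp_apply]
    exact hy
  let ΦE : E'.toScheme ⟶ E.toScheme := IsOpenImmersion.lift E.ι (E'.ι ≫ ΦT) (by
    rintro _ ⟨y, rfl⟩
    rw [Scheme.Opens.range_ι]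
    exact hE' y.1 y.2)
  have hΦE : ΦE ≫ E.ι = E'.ι ≫ ΦT := IsOpenImmersion.lift_fac _ _ _
  have hEBx : ∀ y : T, y ∈ E → j y ∈ Bx := fun y hy => hW.le (hhW hy : y ∈ p ⁻¹ᵁ W)
  let l : E.toScheme ⟶ Bx.toScheme := IsOpenImmersion.lift Bx.ι (E.ι ≫ j) (by
    rintro _ ⟨y, rfl⟩
    rw [Scheme.Opens.range_ι]
    exact hEBx y.1 y.2)
  have hl : l ≫ Bx.ι = E.ι ≫ j := IsOpenImmersion.lift_fac _ _ _
  haveI : IsOpenImmersion l := by
    haveI : IsOpenImmersion (l ≫ Bx.ι) := by rw [hl]; infer_instance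
    exact IsOpenImmersion.of_comp _ Bx.ι
  let l' : E'.toScheme ⟶ Bx'.toScheme := IsOpenImmersion.lift Bx'.ι (E'.ι ≫ j') (by
    rintro _ ⟨y, rfl⟩
    rw [Scheme.Opens.range_ι]
    have hb : (WidePullback.base (fun _ : Fin d => f')).base (j' y.1) ∈ V' := by
      rw [← Scheme.Hom.comp_apply, ← he, Scheme.Hom.comp_apply, Scheme.Hom.comp_apply]
      exact hV'.range_fromSpec.le ⟨_, rfl⟩
    refine (SymFlatChart.mem_cbox U' c V').mpr ⟨hb, fun i => ⟨?_, ?_⟩⟩
    · have h3 := ((SymFlatChart.mem_cbox U c V).mp (hEBx _ (hE' y.1 y.2))).2 i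
      rw [← Scheme.Hom.comp_apply, ← Scheme.Hom.comp_apply, reassoc_of% hΦT, SymCmpBase.Phi_π] at h3
      exact h3
    · show (WidePullback.π (fun _ : Fin d => f') i ≫ f') (j' y.1) ∈ V'
      rw [WidePullback.π_arrow]
      exact hb)
  have hl' : l' ≫ Bx'.ι = E'.ι ≫ j' := IsOpenImmersion.lift_fac _ _ _
  haveI : IsOpenImmersion l' := by
    haveI : IsOpenImmersion (l' ≫ Bx'.ι) := by rw [hl']; infer_instance
    exact IsOpenImmersion.of_comp _ Bx'.ι
  let s₁ : E.toScheme ⟶ F.toScheme := IsOpenImmersion.lift F.ι (l ≫ s) (by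
    rintro _ ⟨y, rfl⟩
    rw [Scheme.Opens.range_ι]
    refine H26Sym.mem_box.mpr ⟨?_, fun i => trivial⟩
    show ((l ≫ s) ≫ WidePullback.base (fun _ : Fin d => f0)) y ∈ V
    rw [Category.assoc, hsb]
    exact ((SymFlatChart.mem_cbox U c V).mp (l y).2).1)
  have hs₁ : s₁ ≫ F.ι = l ≫ s := IsOpenImmersion.lift_fac _ _ _
  let s₁' : E'.toScheme ⟶ F'.toScheme := IsOpenImmersion.lift F'.ι (l' ≫ s') (by
    rintro _ ⟨y, rfl⟩
    rw [Scheme.Opens.range_ι]
    refine H26Sym.mem_box.mpr ⟨?_, fun i => trivial⟩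
    show ((l' ≫ s') ≫ WidePullback.base (fun _ : Fin d => f1)) y ∈ V'
    rw [Category.assoc, hsb']
    exact ((SymFlatChart.mem_cbox U' c V').mp (l' y).2).1)
  have hs₁' : s₁' ≫ F'.ι = l' ≫ s' := IsOpenImmersion.lift_fac _ _ _
  haveI : IsOpenImmersion s₁' := by
    haveI := hso'
    haveI : IsOpenImmersion (s₁' ≫ F'.ι) := by rw [hs₁']; infer_instance
    exact IsOpenImmersion.of_comp _ F'.ι
  have hsq : s₁' ≫ Ψ = ΦE ≫ s₁ := by
    rw [← cancel_mono F.ι, Category.assoc, hΨ, reassoc_of% hs₁', Category.assoc, hs₁]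
    apply WidePullback.hom_ext
    · intro i
      obtain ⟨li, hli, hsi⟩ := hsπ i
      obtain ⟨li', hli', hsi'⟩ := hsπ' i
      simp only [Category.assoc]
      rw [SymCmpBase.Phi_π, reassoc_of% hsi', hε1u, hsi, ← Category.assoc li', ← Category.assoc l',
        ← Category.assoc l, ← Category.assoc ΦE]
      refine SymFlatChart.toSigma_congr U ε0 rfl _ _ ?_
      simp only [Category.assoc, hli]
      rw [Scheme.Hom.resLE_comp_ι, reassoc_of% hli', reassoc_of% hl', reassoc_of% hl, reassoc_of% hΦE,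
        reassoc_of% hΦT, SymCmpBase.Phi_π]
    · simp only [Category.assoc]
      rw [SymCmpBase.Phi_base, reassoc_of% hsb', hsb, reassoc_of% hl', reassoc_of% hl, reassoc_of% hΦE,
        reassoc_of% hΦT, SymCmpBase.Phi_base]
  have heq : ∀ γ, (ρE γ).hom ≫ s₁ = s₁ ≫ (ρF γ).hom := fun γ => by
    rw [← cancel_mono F.ι, Category.assoc (ρE γ).hom, hs₁, Category.assoc s₁, hρF0, reassoc_of% hs₁, ← Category.assoc]
    exact hseq _ (hc γ) l ((ρE γ).hom ≫ l) (by
      rw [Category.assoc, hl, reassoc_of% hρE γ, hj, reassoc_of% hl])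
  have heq' : ∀ γ, (ρE' γ).hom ≫ s₁' = s₁' ≫ (ρF' γ).hom := fun γ => by
    rw [← cancel_mono F'.ι, Category.assoc (ρE' γ).hom, hs₁', Category.assoc s₁', hρF1, reassoc_of% hs₁', ← Category.assoc]
    exact hseq' _ (hc γ) l' ((ρE' γ).hom ≫ l') (by
      rw [Category.assoc, hl', reassoc_of% hρE' γ, hj', reassoc_of% hl'])
  have hp2 := QuotDescOpen.isQuot_proj ρF
  have hp2' := QuotDescOpen.isQuot_proj ρF'
  obtain ⟨b, hb⟩ := _root_.H18Quot.exists_desc (s₁ ≫ QuotDescOpen.proj ρF) (fun γ => by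
    rw [reassoc_of% heq γ, hp2.inv]) hres
  obtain ⟨b', hb'⟩ := _root_.H18Quot.exists_desc (s₁' ≫ QuotDescOpen.proj ρF') (fun γ => by
    rw [reassoc_of% heq' γ, hp2'.inv]) hres'
  haveI := QuotDescOpen.isOpenImmersion_desc hres' hp2' s₁' heq' b' hb'
  haveI := H27Quot.epi hres'
  have hbb : b' ≫ Spec.map (CommRingCat.ofHom μ₂) = mD ≫ b := by
    rw [← cancel_epi (p' ∣_ D'), reassoc_of% hb', hμ₂, reassoc_of% hsq]
    have h4 : p' ∣_ D' ≫ mD = ΦE ≫ p ∣_ D := by
      rw [← cancel_mono D.ι, Category.assoc, morphismRestrict_ι, morphismRestrict_ι_assoc, Category.assoc,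
        morphismRestrict_ι, hμ, reassoc_of% hΦE]
    rw [reassoc_of% h4, hb]
  -- rings
  let L0 := Localization.Away h
  let L := Localization.Away (μ.hom h)
  let η : L0 →+* L := IsLocalization.Away.map L0 L μ.hom h
  let ι0 : Spec (CommRingCat.of L0) ⟶ Spec C := Spec.map (CommRingCat.ofHom (algebraMap C L0))
  let ιL : Spec (CommRingCat.of L) ⟶ Spec C' := Spec.map (CommRingCat.ofHom (algebraMap C' L))
  haveI : IsOpenImmersion ι0 := IsOpenImmersion.of_isLocalization h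
  haveI : IsOpenImmersion ιL := IsOpenImmersion.of_isLocalization (μ.hom h)
  let t0 : Spec (CommRingCat.of L0) ⟶ D.toScheme := IsOpenImmersion.lift D.ι ι0 (by
    rw [Scheme.Opens.range_ι]
    exact (PrimeSpectrum.localization_away_comap_range L0 h).le)
  have ht0 : t0 ≫ D.ι = ι0 := IsOpenImmersion.lift_fac _ _ _
  let tL : Spec (CommRingCat.of L) ⟶ D'.toScheme := IsOpenImmersion.lift D'.ι ιL (by
    rw [Scheme.Opens.range_ι]
    exact (PrimeSpectrum.localization_away_comap_range L (μ.hom h)).le)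
  have htL : tL ≫ D'.ι = ιL := IsOpenImmersion.lift_fac _ _ _
  haveI : IsOpenImmersion tL := by
    haveI : IsOpenImmersion (tL ≫ D'.ι) := by rw [htL]; infer_instance
    exact IsOpenImmersion.of_comp _ D'.ι
  let θ0 := Spec.preimage (t0 ≫ b)
  let θ := Spec.preimage (tL ≫ b')
  haveI : IsOpenImmersion (Spec.map θ) := by rw [Spec.map_preimage]; infer_instance
  have hθη : CommRingCat.ofHom μ₂ ≫ θ = θ0 ≫ CommRingCat.ofHom η := by
    refine Spec.map_injective ?_
    simp only [Spec.map_comp, θ, θ0, Spec.map_preimage, Category.assoc, hbb]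
    have h5 : tL ≫ mD = Spec.map (CommRingCat.ofHom η) ≫ t0 := by
      rw [← cancel_mono D.ι, Category.assoc, morphismRestrict_ι, reassoc_of% htL, Category.assoc, ht0]
      rw [← Spec.map_comp, ← Spec.map_comp]
      refine congrArg Spec.map (CommRingCat.hom_ext (RingHom.ext fun a => ?_))
      show algebraMap C' L (μ.hom a) = η (algebraMap C L0 a)
      exact (IsLocalization.map_eq _ a).symm
    rw [reassoc_of% h5]
  have eb : (⊤ : F'.toScheme.Opens) ≤ (F'.ι ≫ WidePullback.base (fun _ : Fin d => f1)) ⁻¹ᵁ V' := fun y _ => y.2.1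
  let φ := (F'.ι ≫ WidePullback.base (fun _ : Fin d => f1)).appLE V' ⊤ eb
  have hφinv : ∀ a, φ.hom a ∈ QuotDescOpen.invs ρF' := fun a γ => by
    rw [show (ρF' γ).hom.appTop = (ρF' γ).hom.appLE ⊤ ⊤ le_top from Scheme.Hom.app_eq_appLE _,
      ← CommRingCat.comp_apply, Scheme.Hom.appLE_comp_appLE]
    rw [SymFlatChart.appLE_congr_hom (show (ρF' γ).hom ≫ F'.ι ≫ WidePullback.base (fun _ : Fin d => f1) =
      F'.ι ≫ WidePullback.base (fun _ : Fin d => f1) by rw [reassoc_of% hρF1 γ, SymProd.permHom_base])]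
  let φ' : Γ(S', V') ⟶ CommRingCat.of (QuotDescOpen.invs ρF') := CommRingCat.ofHom (φ.hom.codRestrict _ hφinv)
  have hproj : QuotDescOpen.proj ρF' ≫ Spec.map φ' ≫ hV'.fromSpec =
      F'.ι ≫ WidePullback.base (fun _ : Fin d => f1) := by
    rw [QuotDescOpen.proj, Category.assoc, ← Category.assoc (Spec.map _), ← Spec.map_comp,
      show φ' ≫ CommRingCat.ofHom (QuotDescOpen.invs ρF').subtype = φ from rfl,
      IsAffineOpen.SpecMap_appLE_fromSpec _ hV' (isAffineOpen_top _), IsAffineOpen.fromSpec_top,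
      ← Scheme.isoSpec_hom, Iso.hom_inv_id_assoc]
  have hθe : φ' ≫ θ = e ≫ CommRingCat.ofHom (algebraMap C' L) := by
    refine Spec.map_injective ((cancel_mono hV'.fromSpec).mp ?_)
    simp only [Spec.map_comp, θ, Spec.map_preimage, Category.assoc]
    have h6 : b' ≫ Spec.map φ' ≫ hV'.fromSpec = D'.ι ≫ Spec.map e ≫ hV'.fromSpec := by
      rw [← cancel_epi (p' ∣_ D'), reassoc_of% hb', hproj, reassoc_of% hs₁', hsb', reassoc_of% hl',
        morphismRestrict_ι_assoc, he]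
    rw [h6, reassoc_of% htL]
  let K := Subring.closure (Set.range μ.hom ∪ Set.range e.hom)
  let N := Subring.closure (Set.range η ∪ Set.range (algebraMap C' L ∘ e.hom))
  have hKN : ∀ k ∈ K, algebraMap C' L k ∈ N := fun k hk => by
    have h7 := Subring.mem_map.mpr ⟨k, hk, (rfl : algebraMap C' L k = _)⟩
    rw [RingHom.map_closure] at h7
    refine Subring.closure_mono ?_ h7
    rintro _ ⟨q, (⟨a, rfl⟩ | ⟨a, rfl⟩), rfl⟩
    · exact Or.inl ⟨algebraMap C L0 a, IsLocalization.map_eq _ a⟩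
    · exact Or.inr ⟨a, rfl⟩
  have hθN : ∀ z, θ.hom z ∈ N := fun z => by
    have hz := SymCmpGen.invs_le_closure I f0 f1 u₁ β w1 hV h0 hV' h1 hVV' hgen ρF hρF0 ρF' hρF1 Ψ hΨ eb z.1 z.2
    let K2 : Subring Γ(F'.toScheme, ⊤) := (Subring.comap θ.hom N).map (QuotDescOpen.invs ρF').subtype
    have hK2 : z.1 ∈ K2 := by
      refine (Subring.closure_le.mpr ?_) hz
      rintro y (⟨a, ha, rfl⟩ | ⟨a, rfl⟩)
      · refine ⟨μ₂ ⟨a, ha⟩, ?_, rfl⟩
        show θ.hom (μ₂ ⟨a, ha⟩) ∈ N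
        rw [show θ.hom (μ₂ ⟨a, ha⟩) = η (θ0.hom ⟨a, ha⟩) from congrArg (fun m => m.hom ⟨a, ha⟩) hθη]
        exact Subring.subset_closure (Or.inl ⟨_, rfl⟩)
      · refine ⟨φ'.hom a, ?_, rfl⟩
        show θ.hom (φ'.hom a) ∈ N
        rw [show θ.hom (φ'.hom a) = algebraMap C' L (e.hom a) from congrArg (fun m => m.hom a) hθe]
        exact Subring.subset_closure (Or.inr ⟨a, rfl⟩)
    obtain ⟨z', hz', hzz⟩ := hK2
    rw [show z = z' from Subtype.ext hzz.symm]
    exact hz'
  have hint' : ∀ z : L, IsIntegral N z := fun z => by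
    obtain ⟨n, c', hc'⟩ := IsLocalization.Away.surj (μ.hom h) z
    let inv : L := η (IsLocalization.Away.invSelf h)
    have hinv : algebraMap C' L (μ.hom h) * inv = 1 := by
      rw [← IsLocalization.map_eq (S := L0) (Q := L) (g := μ.hom) (M := Submonoid.powers h)
        (T := Submonoid.powers (μ.hom h)) (by rintro _ ⟨k, rfl⟩; exact ⟨k, by simp⟩) h]
      show η (algebraMap C L0 h) * _ = 1
      rw [← map_mul, IsLocalization.Away.mul_invSelf, map_one]
    have hzc : z = algebraMap C' L c' * inv ^ n := by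
      rw [← hc', mul_assoc, ← mul_pow, hinv, one_pow, mul_one]
    rw [hzc]
    refine IsIntegral.mul ?_ ((isIntegral_algebraMap (R := N) (A := L)
      (x := ⟨inv, Subring.subset_closure (Or.inl ⟨_, rfl⟩)⟩)).pow n)
    obtain ⟨q, hq, hqc⟩ := hint c'
    let κ : K →+* N := ((algebraMap C' L).comp K.subtype).codRestrict N fun k => hKN k.1 k.2
    refine ⟨q.map κ, hq.map κ, ?_⟩
    rw [Polynomial.eval₂_map, show (algebraMap N L).comp κ = (algebraMap C' L).comp (algebraMap K C') from rfl,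
      ← Polynomial.hom_eval₂, hqc, map_zero]
  have hN := eq_top_of_isOpenImmersion θ N hθN hint'
  intro c'
  have hP : ∀ z ∈ N, ∃ (n : ℕ), ∃ k ∈ K, algebraMap C' L (μ.hom h ^ n) * z = algebraMap C' L k := by
    intro z hz
    induction hz using Subring.closure_induction with
    | mem y hy =>
      rcases hy with ⟨a, rfl⟩ | ⟨a, rfl⟩
      · obtain ⟨n, a', ha'⟩ := IsLocalization.Away.surj h a
        refine ⟨n, μ.hom a', Subring.subset_closure (Or.inl ⟨a', rfl⟩), ?_⟩
        have h8 := congrArg η ha'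
        simp only [map_mul, map_pow, η, IsLocalization.Away.map, IsLocalization.map_eq] at h8
        rw [map_pow, mul_comm]
        exact h8
      · exact ⟨0, e.hom a, Subring.subset_closure (Or.inr ⟨a, rfl⟩), by simp⟩
    | zero => exact ⟨0, 0, K.zero_mem, by simp⟩
    | one => exact ⟨0, 1, K.one_mem, by simp⟩
    | add a b _ _ ha hb =>
      obtain ⟨n, k, hk, hka⟩ := ha
      obtain ⟨m, k', hk', hkb⟩ := hb
      have hh : μ.hom h ∈ K := Subring.subset_closure (Or.inl ⟨h, rfl⟩)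
      refine ⟨n + m, μ.hom h ^ m * k + μ.hom h ^ n * k',
        K.add_mem (K.mul_mem (K.pow_mem hh m) hk) (K.mul_mem (K.pow_mem hh n) hk'), ?_⟩
      simp only [map_add, map_mul, map_pow, ← hka, ← hkb]
      ring
    | neg a _ ha =>
      obtain ⟨n, k, hk, hka⟩ := ha
      exact ⟨n, -k, K.neg_mem hk, by rw [mul_neg, hka, map_neg]⟩
    | mul a b _ _ ha hb =>
      obtain ⟨n, k, hk, hka⟩ := ha
      obtain ⟨m, k', hk', hkb⟩ := hb
      refine ⟨n + m, k * k', K.mul_mem hk hk', ?_⟩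
      simp only [map_mul, map_pow, ← hka, ← hkb]
      ring
  obtain ⟨n, k, hk, hkc⟩ := hP (algebraMap C' L c') (hN.symm ▸ Subring.mem_top _)
  rw [← map_mul] at hkc
  obtain ⟨⟨_, m, rfl⟩, hm⟩ := (IsLocalization.eq_iff_exists (Submonoid.powers (μ.hom h)) L).mp hkc
  refine ⟨m + n, ?_⟩
  have hh : μ.hom h ∈ K := Subring.subset_closure (Or.inl ⟨h, rfl⟩)
  rw [pow_add, mul_assoc, show μ.hom h ^ m * (μ.hom h ^ n * c') = μ.hom h ^ m * k from hm]
  exact K.mul_mem (K.pow_mem hh m) hk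

end Groth.Agent.H22Alg.SymCmpChart
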