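import Groth.Agent.H22Alg.SymCmp
import Groth.Agent.H18Quot.Exists
import Mathlib

/-!
# Comparison maps of symmetric products have trivial residue field extensions
-/

set_option autoImplicit false
set_option linter.style.haveILetI false
universe u

noncomputable section

open CategoryTheory CategoryTheory.Limits AlgebraicGeometry

namespace Groth.Agent.H22Alg.SymCmpResidue

/-- The residue field maps of a preimmersion are surjective. -/
theorem residueFieldMap_surjective {A B : Scheme.{u}} (f : A ⟶ B) [SurjectiveOnStalks f] (a : A) :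
    Function.Surjective (f.residueFieldMap a).hom := by
  intro z
  obtain ⟨t, rfl⟩ := A.residue_surjective a z
  obtain ⟨s, rfl⟩ := f.stalkMap_surjective a t
  refine ⟨(B.residue (f a)).hom s, ?_⟩
  rw [← CommRingCat.comp_apply, Scheme.residue_residueFieldMap]
  rfl

/-- If a composite has surjective residue field map, the outer map has bijective one at the middle point. -/
theorem isIso_of_comp {A B C : Scheme.{u}} (g : A ⟶ B) (f : B ⟶ C) (a : A)
    (h : Function.Surjective ((g ≫ f).residueFieldMap a).hom) : IsIso (f.residueFieldMap (g a)) := by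
  rw [Scheme.residueFieldMap_comp] at h
  have hinj : Function.Injective (g.residueFieldMap a).hom := (g.residueFieldMap a).hom.injective
  refine (ConcreteCategory.isIso_iff_bijective _).mpr ⟨(f.residueFieldMap (g a)).hom.injective, fun z => ?_⟩
  obtain ⟨w, hw⟩ := h ((g.residueFieldMap a).hom z)
  exact ⟨w, hinj hw⟩

variable {X S X' S' Y Y' : Scheme.{u}} {f : X ⟶ S} {f' : X' ⟶ S'} {α : X' ⟶ X} {β : S' ⟶ S} {d : ℕ}
  {q : SymProd.fibPow f d ⟶ Y} {g : Y ⟶ S} {r : SymProd.fibPow f' d ⟶ Y'} {g' : Y' ⟶ S'}

theorem isIso_residueFieldMap (hq : SymProd.IsSymProd f d q g) (hr : SymProd.IsSymProd f' d r g')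
    (w : α ≫ f = f' ≫ β) [IsClosedImmersion (pullback.lift α f' w)] (m : Y' ⟶ Y)
    (hm : r ≫ m = SymCmpBase.Phi α β w d ≫ q) (y : Y') :
    IsIso ((pullback.lift m g' (SymCmp.comp_eq hq hr w m hm)).residueFieldMap y) := by
  classical
  obtain ⟨x', rfl⟩ := H27Quot.surjective hr.isQuot y
  let s' : S' := WidePullback.base (fun _ : Fin d => f') x'
  let j0 : Spec (S'.residueField s') ⟶ S' := S'.fromSpecResidueField s'
  let pk : Spec (S'.residueField s') := Classical.arbitrary _
  haveI : Subsingleton (Spec (S'.residueField s')) := inferInstanceAs (Subsingleton (PrimeSpectrum _))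
  have hj0 : j0 pk = s' := Scheme.fromSpecResidueField_apply _ _
  let f'' := pullback.snd f' j0
  haveI : IsIntegral (Spec (S'.residueField s')) := inferInstance
  haveI : Flat f'' := inferInstance
  let c : SymProd.fibPow f'' d ⟶ SymProd.fibPow f' d := SymCmpBase.Phi (pullback.fst f' j0) j0 pullback.condition d
  have H := H26Sym.isPullback_fibPow (f := f') (b := j0) c (fun i => SymCmpBase.Phi_π _ _ _ _ i)
    (SymCmpBase.Phi_base _ _ _ _)
  haveI := hr.isQuot.affine
  -- the symmetric product of the fibre
  have horb : ∀ z : ↥(SymProd.fibPow f'' d), ∃ U : (SymProd.fibPow f'' d).Opens, IsAffineOpen U ∧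
      ∀ γ, ((SymProd.permActU f'' d) γ).hom z ∈ U := by
    intro z
    have hz : g' (r (c z)) = s' := by
      rw [← Scheme.Hom.comp_apply, hr.over, ← Scheme.Hom.comp_apply, SymCmpBase.Phi_base, Scheme.Hom.comp_apply,
        Subsingleton.elim (WidePullback.base (fun _ : Fin d => f'') z) pk, hj0]
    obtain ⟨V', hV', hsV', -⟩ := exists_isAffineOpen_mem_and_subset (X := S') (x := s') (U := ⊤) trivial
    obtain ⟨W, hW, hzW, hWV⟩ := exists_isAffineOpen_mem_and_subset (X := Y') (x := r (c z)) (U := g' ⁻¹ᵁ V')
      (hz.symm ▸ hsV' : g' (r (c z)) ∈ V')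
    have hpk : (⊤ : (Spec (S'.residueField s')).Opens) ≤ j0 ⁻¹ᵁ V' := fun t _ => by
      show j0 t ∈ V'
      rw [Subsingleton.elim t pk, hj0]
      exact hsV'
    have hWb : r ⁻¹ᵁ W ≤ WidePullback.base (fun _ : Fin d => f') ⁻¹ᵁ V' := fun v hv => by
      show WidePullback.base (fun _ : Fin d => f') v ∈ V'
      rw [← hr.over, Scheme.Hom.comp_apply]
      exact hWV hv
    refine ⟨c ⁻¹ᵁ (r ⁻¹ᵁ W) ⊓ WidePullback.base (fun _ : Fin d => f'') ⁻¹ᵁ ⊤,
      H26Sym.isAffineOpen_inf_preimage H hV' (isAffineOpen_top _) (hW.preimage r) hpk hWb rfl,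
      fun γ => ⟨?_, trivial⟩⟩
    show r (c (((SymProd.permActU f'' d) γ).hom z)) ∈ W
    rw [SymProd.permActU_hom, ← Scheme.Hom.comp_apply, ← Scheme.Hom.comp_apply, SymCmpBase.permHom_Phi_assoc,
      show SymProd.permHom f' d γ.down ≫ r = r from hr.isQuot.inv γ, Scheme.Hom.comp_apply]
    exact hzW
  obtain ⟨Y'', r'', hr''⟩ := _root_.H18Quot.Exists.exists_quotient (SymProd.permActU f'' d) horb
  obtain ⟨g'', hg''⟩ := _root_.H18Quot.exists_desc (WidePullback.base (fun _ : Fin d => f''))
    (fun γ => SymProd.permHom_base f'' d _) hr''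
  have hs'' : SymProd.IsSymProd f'' d r'' g'' := ⟨hr'', hg''⟩
  obtain ⟨m'', hm''⟩ := _root_.H18Quot.exists_desc (c ≫ r) (fun γ => by
    rw [SymProd.permActU_hom, SymCmpBase.permHom_Phi_assoc,
      show SymProd.permHom f' d γ.down ≫ r = r from hr.isQuot.inv γ]) hr''
  let α'' := pullback.fst f' j0 ≫ α
  have w'' : α'' ≫ f = f'' ≫ j0 ≫ β := by rw [Category.assoc, w, pullback.condition_assoc]
  -- the closed immersion over the point
  let mp := pullback.map f (j0 ≫ β) f β (𝟙 X) j0 (𝟙 S) (by simp) (by simp)
  haveI : IsClosedImmersion (pullback.lift α'' f'' w'') := by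
    have hR : IsPullback mp (pullback.snd f (j0 ≫ β)) (pullback.snd f β) j0 := by
      refine IsPullback.of_right ?_ (pullback.lift_snd _ _ _) (IsPullback.of_hasPullback f β)
      rw [pullback.lift_fst, Category.comp_id]
      exact IsPullback.of_hasPullback f (j0 ≫ β)
    have hL : IsPullback (pullback.fst f' j0) (pullback.lift α'' f'' w'') (pullback.lift α f' w) mp := by
      refine IsPullback.of_bot ?_ ?_ hR
      · rw [pullback.lift_snd, pullback.lift_snd]
        exact IsPullback.of_hasPullback f' j0
      · apply pullback.hom_ext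
        · erw [Category.assoc, Category.assoc, pullback.lift_fst, pullback.lift_fst, Category.comp_id,
            pullback.lift_fst]
        · erw [Category.assoc, Category.assoc, pullback.lift_snd, pullback.lift_snd, pullback.lift_snd_assoc]
          exact pullback.condition
    exact MorphismProperty.of_isPullback hL (inferInstanceAs (IsClosedImmersion (pullback.lift α f' w)))
  have hm3 : r'' ≫ m'' ≫ m = SymCmpBase.Phi α'' (j0 ≫ β) w'' d ≫ q := by
    rw [reassoc_of% hm'', hm, ← Category.assoc]
    congr 1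
    apply WidePullback.hom_ext
    · intro i
      rw [Category.assoc, SymCmpBase.Phi_π, SymCmpBase.Phi_π, SymCmpBase.Phi_π_assoc]
    · rw [Category.assoc, SymCmpBase.Phi_base, SymCmpBase.Phi_base, SymCmpBase.Phi_base_assoc]
  haveI hM'' := SymCmp.isClosedImmersion_of_flat hq hs'' w'' (m'' ≫ m) hm3
  -- comparison
  let mq := pullback.map g (j0 ≫ β) g β (𝟙 Y) j0 (𝟙 S) (by simp) (by simp)
  haveI : IsPreimmersion mq := by
    have hR : IsPullback mq (pullback.snd g (j0 ≫ β)) (pullback.snd g β) j0 := by
      refine IsPullback.of_right ?_ (pullback.lift_snd _ _ _) (IsPullback.of_hasPullback g β)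
      rw [pullback.lift_fst, Category.comp_id]
      exact IsPullback.of_hasPullback g (j0 ≫ β)
    exact MorphismProperty.of_isPullback hR.flip (inferInstanceAs (IsPreimmersion j0))
  have hg'm : m'' ≫ g' = g'' ≫ j0 := by
    haveI := H27Quot.epi hr''
    rw [← cancel_epi r'', reassoc_of% hm'', hr.over, SymCmpBase.Phi_base, reassoc_of% hg'']
  let M'' := pullback.lift (m'' ≫ m) g'' (SymCmp.comp_eq hq hs'' w'' (m'' ≫ m) hm3)
  let M := pullback.lift m g' (SymCmp.comp_eq hq hr w m hm)
  have hcomp : m'' ≫ M = M'' ≫ mq := by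
    apply pullback.hom_ext
    · rw [Category.assoc, pullback.lift_fst, Category.assoc, pullback.lift_fst, Category.comp_id,
        pullback.lift_fst]
    · rw [Category.assoc, pullback.lift_snd, Category.assoc, pullback.lift_snd, pullback.lift_snd_assoc, hg'm]
  obtain ⟨x'', hx'', -⟩ := Scheme.Pullback.exists_preimage_pullback
    (f := WidePullback.base (fun _ : Fin d => f')) (g := j0) x' pk hj0.symm
  let z'' := H.isoPullback.inv x''
  have hz'' : m'' (r'' z'') = r x' := by
    rw [← Scheme.Hom.comp_apply, hm'', ← Scheme.Hom.comp_apply, ← Category.assoc, IsPullback.isoPullback_inv_fst,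
      Scheme.Hom.comp_apply, hx'']
  have hsurj : Function.Surjective ((m'' ≫ M).residueFieldMap (r'' z'')).hom := by
    rw [hcomp]
    haveI : IsPreimmersion M'' := by haveI := hM''; infer_instance
    exact residueFieldMap_surjective (M'' ≫ mq) _
  have := isIso_of_comp m'' M (r'' z'') hsurj
  rwa [hz''] at this

end Groth.Agent.H22Alg.SymCmpResidue
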