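import Groth.Agent.H22Alg.SymFlatChart
import Groth.Agent.S0271
import Groth.Agent.S12059
import Groth.Agent.S4656
import Mathlib

/-!
# The symmetric product of a flat morphism is flat

No (AF) hypothesis: near a point of the fibre power the quotient by the inertia group is étale over the
symmetric product, and that quotient is computed on an affine disjoint union of opens.
-/

set_option autoImplicit false
set_option linter.style.haveILetI false
universe u

noncomputable section

open CategoryTheory CategoryTheory.Limits AlgebraicGeometry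

namespace Groth.Agent.H22Alg.SymFlat

variable {X S Y : Scheme.{u}} {f : X ⟶ S} {d : ℕ}

theorem flat_of_isSymProd [Flat f] {q : SymProd.fibPow f d ⟶ Y} {g : Y ⟶ S}
    (hq : SymProd.IsSymProd f d q g) : Flat g := by
  classical
  rw [Flat.iff_flat_stalkMap]
  intro y
  obtain ⟨W, hW, hyW, -⟩ := exists_isAffineOpen_mem_and_subset (X := Y) (x := y) (U := ⊤) trivial
  obtain ⟨pt, rfl⟩ := H27Quot.surjective hq.isQuot y
  haveI := hq.isQuot.affine
  let Z := q ⁻¹ᵁ W
  have hZ : IsAffineOpen Z := hW.preimage q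
  let R := Γ(SymProd.fibPow f d, Z)
  let G := ULift.{u} (Equiv.Perm (Fin d))
  let act : G → R →+* R := H27Quot.act hq.isQuot W
  letI : MulSemiringAction G R :=
    { smul := fun γ a => act γ⁻¹ a
      one_smul := fun a => by show act (1 : G)⁻¹ a = a; rw [inv_one]; exact H27Quot.act_one hq.isQuot W a
      mul_smul := fun γ δ a => by
        show act (γ * δ)⁻¹ a = act γ⁻¹ (act δ⁻¹ a)
        rw [mul_inv_rev]
        exact H27Quot.act_mul hq.isQuot W δ⁻¹ γ⁻¹ a
      smul_zero := fun γ => map_zero (act γ⁻¹)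
      smul_add := fun γ => map_add (act γ⁻¹)
      smul_one := fun γ => map_one (act γ⁻¹)
      smul_mul := fun γ => map_mul (act γ⁻¹) }
  have hsmul : ∀ (γ : G) (a : R), γ • a = act γ⁻¹ a := fun _ _ => rfl
  let 𝔮 : PrimeSpectrum R := hZ.primeIdealOf ⟨pt, hyW⟩
  let I : Subgroup G := 𝔮.asIdeal.inertia G
  let RI := FixedPoints.subring R I
  -- the action of the inertia group on the affine chart
  let j : Spec R ⟶ SymProd.fibPow f d := hZ.fromSpec
  let τ : G → (Spec R ⟶ Spec R) := fun γ => Spec.map (CommRingCat.ofHom (act γ))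
  have hτmul : ∀ γ δ, τ (γ * δ) = τ δ ≫ τ γ := fun γ δ => by
    show Spec.map _ = Spec.map _ ≫ Spec.map _
    rw [← Spec.map_comp]
    exact congrArg Spec.map (CommRingCat.hom_ext (RingHom.ext fun a => H27Quot.act_mul hq.isQuot W γ δ a))
  have hτone : τ 1 = 𝟙 _ := by
    show Spec.map _ = _
    rw [show CommRingCat.ofHom (act 1) = 𝟙 R from
      CommRingCat.hom_ext (RingHom.ext fun a => H27Quot.act_one hq.isQuot W a), Spec.map_id]
  have hτj : ∀ γ : G, τ γ ≫ j = j ≫ SymProd.permHom f d γ.down := fun γ => by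
    show Spec.map _ ≫ hZ.fromSpec = hZ.fromSpec ≫ _
    exact IsAffineOpen.SpecMap_appLE_fromSpec _ hZ hZ
      (SGA1.preimage_le_of_inv _ q hq.isQuot.inv γ W)
  let ρT : I →* Aut (Spec R) :=
    { toFun := fun γ => ⟨τ γ, τ (γ : G)⁻¹, by rw [← hτmul, inv_mul_cancel, hτone],
        by rw [← hτmul, mul_inv_cancel, hτone]⟩
      map_one' := Iso.ext hτone
      map_mul' := fun γ δ => Iso.ext (hτmul γ δ) }
  have hfix : ∀ γ : I, (ρT γ).hom 𝔮 = 𝔮 := fun γ => by
    refine PrimeSpectrum.ext (Ideal.ext fun a => ?_)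
    show act γ a ∈ 𝔮.asIdeal ↔ a ∈ 𝔮.asIdeal
    have h1 : act γ a - a ∈ 𝔮.asIdeal := by
      have h2 := (I.inv_mem γ.2) a
      rw [hsmul, inv_inv] at h2
      exact h2
    exact ⟨fun h => by simpa using 𝔮.asIdeal.sub_mem h h1, fun h => by simpa using 𝔮.asIdeal.add_mem h1 h⟩
  -- the quotient by the inertia group
  let p : Spec R ⟶ Spec (CommRingCat.of RI) := Spec.map (CommRingCat.ofHom RI.subtype)
  haveI : SMulCommClass I RI R := ⟨fun γ r a => by
    show γ • ((r : R) * a) = (r : R) * γ • a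
    rw [smul_mul', r.2 γ]⟩
  haveI : Algebra.IsInvariant RI R I := ⟨fun a ha => ⟨⟨a, ha⟩, rfl⟩⟩
  haveI : FaithfulSMul RI R := (faithfulSMul_iff_algebraMap_injective RI R).mpr Subtype.val_injective
  have hp : SGA1.IsQuot ρT p := by
    refine S12059.result I R RI ρT (Set.ext fun m => ⟨?_, ?_⟩)
    · rintro ⟨γ, rfl⟩
      refine ⟨γ⁻¹, congrArg Spec.map (CommRingCat.hom_ext (RingHom.ext fun a => ?_))⟩
      show ((γ⁻¹ : I) : G) • a = act γ a
      rw [hsmul, Subgroup.coe_inv, inv_inv]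
    · rintro ⟨γ, rfl⟩
      refine ⟨γ⁻¹, congrArg Spec.map (CommRingCat.hom_ext (RingHom.ext fun a => ?_))⟩
      show act ((γ⁻¹ : I) : G) a = (γ : G) • a
      rw [hsmul, Subgroup.coe_inv]
  have happ : q.appLE W Z le_rfl = q.app W := (Scheme.Hom.app_eq_appLE q).symm
  have hinv : ∀ b, ∀ γ : G, γ • (q.app W).hom b = (q.app W).hom b := fun b γ =>
    (hq.isQuot.range_iff W _).mp ⟨b, rfl⟩ γ⁻¹
  let βG : Γ(Y, W) →+* FixedPoints.subring R G := (q.app W).hom.codRestrict _ hinv
  have hβG : Function.Bijective βG := by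
    refine ⟨fun a b h => hq.isQuot.injective W (congrArg Subtype.val h), fun r => ?_⟩
    obtain ⟨b, hb⟩ := (hq.isQuot.range_iff W r.1).mpr fun γ => by
      have h3 : (γ⁻¹ : G) • r.1 = r.1 := r.2 _
      rw [hsmul, inv_inv] at h3
      exact h3
    exact ⟨b, Subtype.ext hb⟩
  let βI : Γ(Y, W) →+* RI := (q.app W).hom.codRestrict _ fun b γ => hinv b γ
  let h : Spec (CommRingCat.of RI) ⟶ S := Spec.map (CommRingCat.ofHom βI) ≫ hW.fromSpec ≫ g
  have hpW : p ≫ Spec.map (CommRingCat.ofHom βI) ≫ hW.fromSpec = j ≫ q := by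
    show Spec.map _ ≫ _ = _
    rw [← Spec.map_comp_assoc,
      show CommRingCat.ofHom βI ≫ CommRingCat.ofHom RI.subtype = q.appLE W Z le_rfl from happ.symm,
      IsAffineOpen.SpecMap_appLE_fromSpec q hW hZ]
  have hh : p ≫ h = j ≫ WidePullback.base (fun _ : Fin d => f) := by
    rw [← hq.over, ← reassoc_of% hpW]
  have hflat : (h.stalkMap (p 𝔮)).hom.Flat :=
    SymFlatChart.flat_stalkMap_of_fixed I ρT j (fun γ => hτj γ) hp h hh 𝔮 hfix
  -- the étale neighbourhood
  obtain ⟨g₁, hg₁, het⟩ := S0271.result G R 𝔮.asIdeal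
  let L := Localization.Away g₁
  let γL : Γ(Y, W) →+* L := (algebraMap (FixedPoints.subring R G) L).comp βG
  have hγflat : γL.Flat := by
    refine RingHom.Flat.comp (RingHom.Flat.of_bijective hβG) ?_
    rw [RingHom.flat_algebraMap_iff]
    haveI := het
    infer_instance
  let ι₁ : Spec (CommRingCat.of L) ⟶ Spec (CommRingCat.of RI) :=
    Spec.map (CommRingCat.ofHom (algebraMap RI L))
  haveI : IsOpenImmersion ι₁ := IsOpenImmersion.of_isLocalization g₁
  have hι₁ : ι₁ ≫ Spec.map (CommRingCat.ofHom βI) = Spec.map (CommRingCat.ofHom γL) := by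
    rw [← Spec.map_comp]
    refine congrArg Spec.map (CommRingCat.hom_ext (RingHom.ext fun b => ?_))
    exact (IsScalarTower.algebraMap_apply (FixedPoints.subring R G) RI L (βG b)).symm
  obtain ⟨z, hz⟩ : ∃ z, ι₁ z = p 𝔮 := by
    have : p 𝔮 ∈ Set.range (PrimeSpectrum.comap (algebraMap RI L)) := by
      rw [PrimeSpectrum.localization_away_comap_range L g₁]
      exact hg₁
    exact this
  let e : Spec (CommRingCat.of L) ⟶ Y := Spec.map (CommRingCat.ofHom γL) ≫ hW.fromSpec
  haveI : Flat (Spec.map (CommRingCat.ofHom γL)) := Flat.SpecMap_iff.mpr hγflat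
  have hze : e z = q pt := by
    have e1 : e = ι₁ ≫ Spec.map (CommRingCat.ofHom βI) ≫ hW.fromSpec := by
      rw [← Category.assoc, hι₁]
    rw [e1, Scheme.Hom.comp_apply, hz, ← Scheme.Hom.comp_apply, hpW, Scheme.Hom.comp_apply]
    show q (hZ.fromSpec (hZ.primeIdealOf ⟨pt, hyW⟩)) = q pt
    rw [hZ.fromSpec_primeIdealOf]
  have h1 : ((e ≫ g).stalkMap z).hom.Flat := by
    rw [show e ≫ g = ι₁ ≫ h by
      show _ = ι₁ ≫ _ ≫ _
      rw [← Category.assoc ι₁, hι₁]
      exact Category.assoc _ _ _]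
    exact (S4656.result ι₁ h z (Flat.stalkMap _ _)).mpr (hz.symm ▸ hflat)
  have h2 := (S4656.result e g z (Flat.stalkMap _ _)).mp h1
  rwa [hze] at h2

end Groth.Agent.H22Alg.SymFlat
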