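import Groth.Agent.H22Alg.PolLawFlat
import Mathlib

/-!
# Flatness of tensors invariant under a group of permutations
-/

set_option autoImplicit false
set_option linter.style.haveILetI false
universe u

noncomputable section

open scoped TensorProduct
open MvPolynomial Groth.Agent.H22Alg.PL

namespace Groth.Agent.H22Alg.SymFlatAlg

variable {d : ℕ} (I : Subgroup (Equiv.Perm (Fin d)))

/-- The tensors of degree `d` invariant under `I`. -/
abbrev invI (R : Type u) [CommRing R] (M : Type u) [AddCommGroup M] [Module R M] :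
    Submodule R (⨂[R] _ : Fin d, M) :=
  ⨅ σ : I,
    LinearMap.eqLocus (PiTensorProduct.reindex R (fun _ : Fin d => M) (σ : Equiv.Perm (Fin d))).toLinearMap
      LinearMap.id

variable {I}

theorem mem_invI {R : Type u} [CommRing R] {M : Type u} [AddCommGroup M] [Module R M]
    (t : ⨂[R] _ : Fin d, M) :
    t ∈ invI I R M ↔ ∀ σ ∈ I, PiTensorProduct.reindex R (fun _ : Fin d => M) σ t = t := by
  simp [invI, Submodule.mem_iInf]

/-- The map induced on invariant tensors. -/
def invMap {R : Type u} [CommRing R] {M N : Type u} [AddCommGroup M] [Module R M] [AddCommGroup N] [Module R N]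
    (h : M →ₗ[R] N) : invI I R M →ₗ[R] invI I R N :=
  LinearMap.codRestrict _ ((PiTensorProduct.map fun _ : Fin d => h).comp (invI I R M).subtype) fun x =>
    (mem_invI _).mpr fun σ hσ => by
      rw [LinearMap.comp_apply, Submodule.subtype_apply, map_invariant, (mem_invI _).mp x.2 σ hσ]

section Free

variable {A : Type u} [CommRing A] {M : Type u} [AddCommGroup M] [Module A M] {ι : Type u}
  (e : Module.Basis ι A M)

theorem repr_reindex (σ : Equiv.Perm (Fin d)) (s : ⨂[A] _ : Fin d, M) (c : Fin d → ι) :
    (piBasis d e).repr (PiTensorProduct.reindex A (fun _ : Fin d => M) σ s) (c ∘ σ.symm) =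
      (piBasis d e).repr s c := by
  induction s using PiTensorProduct.induction_on with
  | smul_tprod r m =>
    simp only [map_smul, PiTensorProduct.reindex_tprod, Finsupp.smul_apply, piBasis,
      Basis.piTensorProduct_repr_tprod_apply]
    congr 1
    rw [← Equiv.prod_comp σ]
    refine Finset.prod_congr rfl fun i _ => ?_
    simp only [Function.comp_apply]
    erw [σ.symm_apply_apply]
  | add x y hx hy => simp only [map_add, Finsupp.add_apply, hx, hy]

variable (I) in
/-- The orbit relation on indices. -/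
def orbitSetoid (ι : Type u) : Setoid (Fin d → ι) where
  r c c' := ∃ σ ∈ I, c ∘ (σ : Equiv.Perm (Fin d)).symm = c'
  iseqv :=
    { refl := fun c => ⟨1, I.one_mem, rfl⟩
      symm := by
        rintro c c' ⟨σ, hσ, rfl⟩
        exact ⟨σ⁻¹, I.inv_mem hσ, funext fun i => by simp [Equiv.Perm.inv_def]⟩
      trans := by
        rintro a b c ⟨σ, hσ, rfl⟩ ⟨τ, hτ, rfl⟩
        exact ⟨τ * σ, I.mul_mem hτ hσ, funext fun i => rfl⟩ }

include e in
theorem flat_invI_of_free : Module.Flat A (invI I A M) := by
  classical
  let Q := Quotient (orbitSetoid I ι)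
  let B := piBasis d e
  have hinv : ∀ t : invI I A M, ∀ c c', (orbitSetoid I ι).r c c' →
      B.repr (t : ⨂[A] _ : Fin d, M) c = B.repr (t : ⨂[A] _ : Fin d, M) c' := by
    rintro t c c' ⟨σ, hσ, rfl⟩
    rw [← repr_reindex e σ, (mem_invI _).mp t.2 σ hσ]
  have hinj : Function.Injective (Quotient.out : Q → Fin d → ι) := fun a b h => by
    rw [← Quotient.out_eq a, h, Quotient.out_eq]
  let ψ : invI I A M →ₗ[A] Q →₀ A :=
    (Finsupp.lcomapDomain Quotient.out hinj).comp (B.repr.toLinearMap.comp (invI I A M).subtype)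
  have hψ : ∀ t o, ψ t o = B.repr (t : ⨂[A] _ : Fin d, M) (Quotient.out o) := fun t o => rfl
  have hψinj : Function.Injective ψ := fun s t hst => by
    refine Subtype.ext (B.ext_elem fun c => ?_)
    have h : (orbitSetoid I ι).r (Quotient.out (⟦c⟧ : Q)) c := Quotient.exact (Quotient.out_eq _)
    rw [← hinv s _ _ h, ← hinv t _ _ h, ← hψ, ← hψ, hst]
  have hψsurj : Function.Surjective ψ := by
    rw [← LinearMap.range_eq_top, eq_top_iff, ← (Finsupp.basisSingleOne (R := A) (ι := Q)).span_eq,
      Submodule.span_le]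
    rintro _ ⟨o, rfl⟩
    let O : Finset (Fin d → ι) :=
      Finset.univ.image fun σ : I => (Quotient.out o) ∘ (σ : Equiv.Perm (Fin d)).symm
    have hO : ∀ c, c ∈ O ↔ (⟦c⟧ : Q) = o := fun c => by
      constructor
      · rintro hc
        obtain ⟨σ, -, rfl⟩ := Finset.mem_image.mp hc
        conv_rhs => rw [← Quotient.out_eq o]
        exact Quotient.sound ((orbitSetoid I ι).iseqv.symm ⟨σ, σ.2, rfl⟩)
      · rintro rfl
        obtain ⟨σ, hσ, h⟩ : (orbitSetoid I ι).r (Quotient.out (⟦c⟧ : Q)) c := Quotient.exact (Quotient.out_eq _)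
        exact Finset.mem_image.mpr ⟨⟨σ, hσ⟩, Finset.mem_univ _, h⟩
    let os : ⨂[A] _ : Fin d, M := ∑ c ∈ O, B c
    have hos : ∀ c, B.repr os c = if c ∈ O then 1 else 0 := fun c => by
      simp only [os, map_sum, Finsupp.finsetSum_apply, Module.Basis.repr_self, Finsupp.single_apply,
        Finset.sum_ite_eq']
    have hmem : os ∈ invI I A M := (mem_invI _).mpr fun σ hσ => by
      refine B.ext_elem fun c => ?_
      have hc : c = (c ∘ σ) ∘ σ.symm := funext fun i => by simp
      conv_lhs => rw [hc]
      rw [repr_reindex e σ os (c ∘ σ), hos, hos]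
      refine if_congr ?_ rfl rfl
      rw [hO, hO]
      have : (⟦c ∘ σ⟧ : Q) = ⟦c⟧ := Quotient.sound ⟨σ, hσ, hc.symm⟩
      rw [this]
    refine ⟨⟨os, hmem⟩, Finsupp.ext fun o' => ?_⟩
    rw [hψ, hos, Finsupp.coe_basisSingleOne, Finsupp.single_apply]
    refine if_congr ?_ rfl rfl
    rw [hO, Quotient.out_eq]
    exact eq_comm
  exact Module.Flat.of_linearEquiv (LinearEquiv.ofBijective ψ ⟨hψinj, hψsurj⟩)

end Free

variable {A : Type u} [CommRing A] {B : Type u} [CommRing B] [Algebra A B] [Module.Flat A B]

omit [Module.Flat A B] in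
theorem exists_preimage (π : MvPolynomial B A →ₗ[A] B) (hπ : Function.Surjective π) (z : ⨂[A] _ : Fin d, B) :
    ∃ t, PiTensorProduct.map (fun _ : Fin d => π) t = z := by
  induction z using PiTensorProduct.induction_on with
  | smul_tprod r f =>
    exact ⟨r • PiTensorProduct.tprod A (fun i => Function.surjInv hπ (f i)), by
      simp [Function.surjInv_eq hπ]⟩
  | add x y hx hy => obtain ⟨a, rfl⟩ := hx; obtain ⟨b, rfl⟩ := hy; exact ⟨a + b, map_add _ _ _⟩

/-- Finitely many invariant tensors lift to invariant tensors of a free module, with any given relation. -/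
theorem exists_free_lift {l : ℕ} (x : Fin l → invI I A B) (a : Fin l → A) (ha : ∑ i, a i • x i = 0) :
    ∃ (σ : Type u) (π' : MvPolynomial σ A →ₗ[A] B) (y : Fin l → invI I A (MvPolynomial σ A)),
      (∀ i, invMap π' (y i) = x i) ∧ ∑ i, a i • y i = 0 := by
  classical
  let π : MvPolynomial B A →ₐ[A] B := aeval (id : B → B)
  have hπ : Function.Surjective π := fun b => ⟨X b, aeval_X _ b⟩
  let e := basisMonomials B A
  choose t ht using fun i => exists_preimage π.toLinearMap hπ (x i : ⨂[A] _ : Fin d, B)
  let T := insert (∑ i, a i • t i) ((Finset.univ : Finset (I × Fin l)).image fun q =>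
    PiTensorProduct.reindex A (fun _ : Fin d => MvPolynomial B A) (q.1 : Equiv.Perm (Fin d)) (t q.2) - t q.2)
  obtain ⟨σ, π', h, -, hh, hk⟩ := exists_kill e π.toLinearMap hπ T (fun w hw => by
    rcases Finset.mem_insert.mp hw with rfl | hw
    · have h0 := congrArg Subtype.val ha
      simp only [Submodule.coe_sum, Submodule.coe_smul, Submodule.coe_zero] at h0
      simp only [map_sum, map_smul, ht]
      exact h0
    · obtain ⟨q, -, rfl⟩ := Finset.mem_image.mp hw
      rw [map_sub, ← map_invariant, ht, (mem_invI _).mp (x q.2).2 _ q.1.2, sub_self])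
  let y : Fin l → invI I A (MvPolynomial σ A) := fun i => ⟨PiTensorProduct.map (fun _ : Fin d => h) (t i),
    (mem_invI _).mpr fun τ hτ => by
      rw [map_invariant, ← sub_eq_zero, ← map_sub]
      exact hk _ (Finset.mem_insert_of_mem (Finset.mem_image.mpr ⟨(⟨τ, hτ⟩, i), Finset.mem_univ _, rfl⟩))⟩
  refine ⟨σ, π'.toLinearMap, y, fun i => Subtype.ext ?_, Subtype.ext ?_⟩
  · show PiTensorProduct.map (fun _ : Fin d => π'.toLinearMap) (PiTensorProduct.map (fun _ : Fin d => h) (t i)) = _
    rw [← LinearMap.comp_apply, ← PiTensorProduct.map_comp, ← ht i]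
    exact congrArg (fun g : MvPolynomial B A →ₗ[A] B => PiTensorProduct.map (fun _ : Fin d => g) (t i)) hh
  · simp only [Submodule.coe_sum, Submodule.coe_smul, Submodule.coe_zero, y]
    rw [← hk _ (Finset.mem_insert_self _ _)]
    simp only [map_sum, map_smul]

/-- The tensors of a flat algebra invariant under a group of permutations form a flat module. -/
theorem flat_invI : Module.Flat A (invI I A B) := by
  classical
  refine Module.Flat.of_forall_exists_factorization fun {l f x} hxf => ?_
  obtain ⟨σ, π', y, hy, hy0⟩ := exists_free_lift (fun i => x (Finsupp.single i 1)) f (by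
    rw [← hxf]
    simp only [← map_smul, ← map_sum, Finsupp.smul_single, smul_eq_mul, mul_one, Finsupp.univ_sum_single])
  let X' : (Fin l →₀ A) →ₗ[A] invI I A (MvPolynomial σ A) := Finsupp.linearCombination A y
  have hX' : X' f = 0 := by
    rw [← hy0]
    simp only [X', Finsupp.linearCombination_apply]
    exact Finsupp.sum_fintype f (fun i c => c • y i) (fun i => zero_smul A _)
  haveI := flat_invI_of_free (I := I) (basisMonomials σ A)
  obtain ⟨k, a, z, hxz, haf⟩ :=
    Module.Flat.exists_factorization_of_apply_eq_zero_of_free (M := invI I A (MvPolynomial σ A)) hX'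
  refine ⟨k, a, (invMap π') ∘ₗ z, ?_, haf⟩
  rw [LinearMap.comp_assoc, ← hxz]
  refine Finsupp.lhom_ext fun i c => ?_
  rw [show Finsupp.single i c = c • Finsupp.single i (1 : A) from (Finsupp.smul_single_one i c).symm,
    map_smul, map_smul, ← hy i]
  simp [X']

end Groth.Agent.H22Alg.SymFlatAlg
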