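import Mathlib
import Groth.Agent.H22Alg.PolLawFlat

/-!
Tensor powers and symmetric tensors commute with filtered colimits.
-/

universe u

open scoped TensorProduct DirectSum

namespace Groth.Agent.H22Alg.PL

variable {A : Type u} [CommRing A] {B : Type u} [CommRing B] [Algebra A B]
  {ι : Type u} [Preorder ι] [IsDirected ι (fun i j => i ≤ j)] [Nonempty ι]
  (Bi : ι → Type u) [∀ i, CommRing (Bi i)] [∀ i, Algebra A (Bi i)]
  (t : ∀ i j : ι, i ≤ j → (Bi i →ₐ[A] Bi j)) (φ : ∀ i : ι, Bi i →ₐ[A] B) {d : ℕ}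

theorem tmap_eq_map {C D : Type u} [CommRing C] [Algebra A C] [CommRing D] [Algebra A D] (f : C →ₐ[A] D)
    (y : ⨂[A] _ : Fin d, C) :
    SymTen.tmap A d f y = PiTensorProduct.map (fun _ : Fin d => f.toLinearMap) y := by
  induction y using PiTensorProduct.induction_on with
  | smul_tprod r g => simp
  | add a b ha hb => simp only [map_add, ha, hb]

theorem tmap_tmap {C D E : Type u} [CommRing C] [Algebra A C] [CommRing D] [Algebra A D] [CommRing E]
    [Algebra A E] (f : C →ₐ[A] D) (g : D →ₐ[A] E) (y : ⨂[A] _ : Fin d, C) :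
    SymTen.tmap A d g (SymTen.tmap A d f y) = SymTen.tmap A d (g.comp f) y := by
  induction y using PiTensorProduct.induction_on with
  | smul_tprod r x => simp
  | add a b ha hb => simp only [map_add, ha, hb]

include φ in
/-- A tensor over a stage killed in the colimit is killed at a later stage. -/
theorem exists_tmap_eq_zero (hcomp : ∀ (i j : ι) (h : i ≤ j), (φ j).comp (t i j h) = φ i)
    (hsurj : ∀ b : B, ∃ (i : ι) (x : Bi i), φ i x = b)
    (hzero : ∀ (i : ι) (x : Bi i), φ i x = 0 → ∃ (j : ι) (h : i ≤ j), t i j h x = 0)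
    (htrans : ∀ (i j k : ι) (hij : i ≤ j) (hjk : j ≤ k), (t j k hjk).comp (t i j hij) = t i k (hij.trans hjk))
    {i : ι} (y : ⨂[A] _ : Fin d, Bi i) (hy : SymTen.tmap A d (φ i) y = 0) :
    ∃ (j : ι) (h : i ≤ j), SymTen.tmap A d (t i j h) y = 0 := by
  classical
  let π : (⨁ j, Bi j) →ₗ[A] B := DirectSum.toModule A ι B fun j => (φ j).toLinearMap
  have hπ : Function.Surjective π := fun b => by
    obtain ⟨j, x, rfl⟩ := hsurj b
    exact ⟨DirectSum.lof A ι _ j x, DirectSum.toModule_lof A j x⟩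
  let r : ∀ j, (⨁ l, Bi l) →ₗ[A] Bi j := fun j =>
    DirectSum.toModule A ι (Bi j) fun l => if h : l ≤ j then (t l j h).toLinearMap else 0
  have hr : ∀ j l (h : l ≤ j) (x : Bi l), r j (DirectSum.lof A ι _ l x) = t l j h x := fun j l h x => by
    simp only [r, DirectSum.toModule_lof, dif_pos h]
    rfl
  let ins := DirectSum.lof A ι Bi i
  let y' := PiTensorProduct.map (fun _ : Fin d => ins) y
  have hy' : PiTensorProduct.map (fun _ : Fin d => π) y' = 0 := by
    rw [← hy, tmap_eq_map, ← LinearMap.comp_apply, ← PiTensorProduct.map_comp]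
    congr 2
    funext k
    refine LinearMap.ext fun x => ?_
    simp [π, ins, DirectSum.toModule_lof]
  obtain ⟨m, a, g, hg⟩ := Submodule.mem_span_set'.mp (ker_map_le π hπ (LinearMap.mem_ker.mpr hy'))
  choose p k hk hp using fun l => (g l).2
  have hex : ∀ z : ⨁ l, Bi l, ∃ j₀, ∀ j (_ : j₀ ≤ j),
      φ j (r j z) = π z ∧ ∀ j' (h : j ≤ j'), r j' z = t j j' h (r j z) := by
    intro z
    induction z using DirectSum.induction_on with
    | zero => exact ⟨i, fun j _ => ⟨by simp, fun j' h => by simp⟩⟩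
    | of l x =>
      refine ⟨l, fun j hj => ⟨?_, fun j' h => ?_⟩⟩
      · show φ j (r j (DirectSum.lof A ι _ l x)) = π (DirectSum.lof A ι _ l x)
        rw [hr j l hj, show π (DirectSum.lof A ι _ l x) = φ l x from DirectSum.toModule_lof A l x]
        exact AlgHom.congr_fun (hcomp l j hj) x
      · show r j' (DirectSum.lof A ι _ l x) = t j j' h (r j (DirectSum.lof A ι _ l x))
        rw [hr j' l (hj.trans h), hr j l hj]
        exact (AlgHom.congr_fun (htrans l j j' hj h) x).symm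
    | add z₁ z₂ h₁ h₂ =>
      obtain ⟨j₁, h₁⟩ := h₁
      obtain ⟨j₂, h₂⟩ := h₂
      obtain ⟨j₀, e₁, e₂⟩ := exists_ge_ge j₁ j₂
      refine ⟨j₀, fun j hj => ⟨?_, fun j' h => ?_⟩⟩
      · rw [map_add, map_add, map_add, (h₁ j (e₁.trans hj)).1, (h₂ j (e₂.trans hj)).1]
      · rw [map_add, map_add, map_add, (h₁ j (e₁.trans hj)).2 j' h, (h₂ j (e₂.trans hj)).2 j' h]
  have hkill : ∀ l, ∃ j₀, ∀ j, j₀ ≤ j → r j (p l (k l)) = 0 := by
    intro l
    obtain ⟨j₀, h₀⟩ := hex (p l (k l))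
    obtain ⟨j₁, h₁, hz⟩ := hzero j₀ (r j₀ (p l (k l))) (by rw [(h₀ j₀ le_rfl).1, hk l])
    refine ⟨j₁, fun j hj => ?_⟩
    rw [(h₀ j₀ le_rfl).2 j (h₁.trans hj), ← AlgHom.congr_fun (htrans j₀ j₁ j h₁ hj) _, AlgHom.comp_apply, hz,
      map_zero]
  choose j₀ hj₀ using hkill
  obtain ⟨j, hj⟩ := Finset.exists_le (Finset.univ.image j₀ ∪ {i})
  have hij : i ≤ j := hj i (by simp)
  refine ⟨j, hij, ?_⟩
  have h1 : PiTensorProduct.map (fun _ : Fin d => r j) y' = SymTen.tmap A d (t i j hij) y := by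
    rw [tmap_eq_map, ← LinearMap.comp_apply, ← PiTensorProduct.map_comp]
    congr 2
    funext q
    exact LinearMap.ext fun x => hr j i hij x
  rw [← h1, ← hg, map_sum]
  refine Finset.sum_eq_zero fun l _ => ?_
  rw [map_smul, hp l, PiTensorProduct.map_tprod,
    MultilinearMap.map_coord_zero _ (k l) (hj₀ l j (hj _ (by simp))), smul_zero]

include t φ in
/-- Every tensor comes from a stage. -/
theorem exists_tmap_eq (hcomp : ∀ (i j : ι) (h : i ≤ j), (φ j).comp (t i j h) = φ i)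
    (hsurj : ∀ b : B, ∃ (i : ι) (x : Bi i), φ i x = b) (z : ⨂[A] _ : Fin d, B) :
    ∃ (i : ι) (y : ⨂[A] _ : Fin d, Bi i), SymTen.tmap A d (φ i) y = z := by
  classical
  induction z using PiTensorProduct.induction_on with
  | smul_tprod c f =>
    choose i x hx using fun q => hsurj (f q)
    obtain ⟨j, hj⟩ := Finset.exists_le (Finset.univ.image i)
    refine ⟨j, c • PiTensorProduct.tprod A fun q => t (i q) j (hj _ (by simp)) (x q), ?_⟩
    rw [map_smul, SymTen.tmap_tprod]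
    congr 2
    funext q
    rw [← AlgHom.comp_apply, hcomp, hx]
  | add a b ha hb =>
    obtain ⟨i₁, y₁, rfl⟩ := ha
    obtain ⟨i₂, y₂, rfl⟩ := hb
    obtain ⟨j, h₁, h₂⟩ := exists_ge_ge i₁ i₂
    exact ⟨j, SymTen.tmap A d (t i₁ j h₁) y₁ + SymTen.tmap A d (t i₂ j h₂) y₂, by
      rw [map_add, tmap_tmap, tmap_tmap, hcomp, hcomp]⟩

include φ in
/-- Symmetric tensors commute with filtered colimits. -/
theorem TS_isDirectLimit (hcomp : ∀ (i j : ι) (h : i ≤ j), (φ j).comp (t i j h) = φ i)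
    (hsurj : ∀ b : B, ∃ (i : ι) (x : Bi i), φ i x = b)
    (hzero : ∀ (i : ι) (x : Bi i), φ i x = 0 → ∃ (j : ι) (h : i ≤ j), t i j h x = 0)
    (htrans : ∀ (i j k : ι) (hij : i ≤ j) (hjk : j ≤ k), (t j k hjk).comp (t i j hij) = t i k (hij.trans hjk)) :
    (∀ z : SymTen.TS A B d, ∃ (i : ι) (y : SymTen.TS A (Bi i) d), SymTen.TSmap A d (φ i) y = z) ∧
      ∀ (i : ι) (y : SymTen.TS A (Bi i) d), SymTen.TSmap A d (φ i) y = 0 →
        ∃ (j : ι) (h : i ≤ j), SymTen.TSmap A d (t i j h) y = 0 := by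
  classical
  refine ⟨fun z => ?_, fun i y hy => ?_⟩
  · obtain ⟨i, y, hy⟩ := exists_tmap_eq Bi t φ hcomp hsurj (z : ⨂[A] _ : Fin d, B)
    have hdiff : ∀ σ : Equiv.Perm (Fin d), ∃ (j : ι) (h : i ≤ j), SymTen.tmap A d (t i j h)
        (PiTensorProduct.reindex A (fun _ : Fin d => Bi i) σ y - y) = 0 := fun σ =>
      exists_tmap_eq_zero Bi t φ hcomp hsurj hzero htrans _
        (by rw [map_sub, SymTen.tmap_reindex, hy, z.2 σ, sub_self])
    choose j hj hz using hdiff
    obtain ⟨j', hj'⟩ := Finset.exists_le (Finset.univ.image j ∪ {i})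
    have hij : i ≤ j' := hj' i (by simp)
    refine ⟨j', ⟨SymTen.tmap A d (t i j' hij) y, fun σ => ?_⟩, Subtype.ext ?_⟩
    · rw [← SymTen.tmap_reindex, ← sub_eq_zero, ← map_sub,
        ← htrans i (j σ) j' (hj σ) (hj' _ (by simp)), ← tmap_tmap, hz, map_zero]
    · show SymTen.tmap A d (φ j') (SymTen.tmap A d (t i j' hij) y) = z
      rw [tmap_tmap, hcomp, hy]
  · obtain ⟨j, h, hz⟩ := exists_tmap_eq_zero Bi t φ hcomp hsurj hzero htrans
      (y : ⨂[A] _ : Fin d, Bi i) (congrArg Subtype.val hy)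
    exact ⟨j, h, Subtype.ext hz⟩

end Groth.Agent.H22Alg.PL
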