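import Mathlib
import Groth.Agent.H22Alg.PolLawNorm
import Groth.Agent.H22Alg.PolLawGamma

/-!
At every prime, a symmetric tensor is congruent to a fraction of images of divided powers.
-/

universe u

open scoped TensorProduct

namespace Groth.Agent.H22Alg.PL

variable {A B C : Type u} [CommRing A] [CommRing B] [Algebra A B] [CommRing C] [Algebra A C] {d : ℕ}

theorem tprod_eq_prod_single (m : Fin d → B) :
    PiTensorProduct.tprod A m = ∏ i, PiTensorProduct.singleAlgHom (A := fun _ : Fin d => B) i (m i) := by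
  simp only [PiTensorProduct.singleAlgHom_apply, MonoidHom.mulSingle_apply]
  rw [← PiTensorProduct.tprod_prod]
  exact (congrArg _ (Finset.univ_prod_mulSingle m)).symm

/-- The tensor power is integral over the symmetric tensors. -/
theorem isIntegral_val : (SymTen.TS A B d).val.toRingHom.IsIntegral := by
  classical
  intro z
  let p : Polynomial (⨂[A] _ : Fin d, B) :=
    ∏ σ : Equiv.Perm (Fin d), (Polynomial.X - Polynomial.C (SymTen.perm A B d σ z))
  have hp : p.Monic := Polynomial.monic_prod_of_monic _ _ fun σ _ => Polynomial.monic_X_sub_C _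
  have hfix : ∀ τ : Equiv.Perm (Fin d), p.map (SymTen.perm A B d τ).toRingHom = p := by
    intro τ
    simp only [p, Polynomial.map_prod, Polynomial.map_sub, Polynomial.map_X, Polynomial.map_C,
      AlgHom.toRingHom_eq_coe, RingHom.coe_coe, perm_perm]
    exact Fintype.prod_equiv (Equiv.mulLeft τ) _ _ fun σ => rfl
  have hl : p ∈ Polynomial.lifts (SymTen.TS A B d).val.toRingHom := by
    refine (Polynomial.lifts_iff_coeff_lifts p).mpr fun n => ⟨⟨p.coeff n, fun τ => ?_⟩, rfl⟩
    have := congrArg (fun q => q.coeff n) (hfix τ)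
    rw [← SymTen.perm_apply]
    simpa [Polynomial.coeff_map] using this
  obtain ⟨q, hq, -, hqm⟩ := Polynomial.lifts_and_natDegree_eq_and_monic hl hp
  refine ⟨q, hqm, ?_⟩
  rw [Polynomial.eval₂_eq_eval_map, hq, Polynomial.eval_prod]
  refine Finset.prod_eq_zero (Finset.mem_univ (Equiv.refl _)) ?_
  have h1 : SymTen.perm A B d (Equiv.refl _) z = z := by
    rw [SymTen.perm_apply, PiTensorProduct.reindex_refl]; rfl
  simp [h1]

variable (γ : PolLaw.MulLaw A B C d) (φ : C →ₐ[A] SymTen.TS A B d)

/-- Over a field, the value of a symmetric tensor is a combination of values of the image. -/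
theorem mem_span_values
    (hφ : ∀ (S : Type u) [CommSemiring S] [Algebra A S] (n : ℕ) (s : Fin n → S) (b : Fin n → B),
      ((SymTen.TS A B d).val.comp φ).toLinearMap.lTensor S (γ.law.toFun' S (∑ j, s j ⊗ₜ[A] b j)) =
        ∑ c : Fin d → Fin n, (∏ i, s (c i)) ⊗ₜ[A] PiTensorProduct.tprod A (fun i => b (c i)))
    {k Ω : Type u} [Field k] [Algebra A k] [CommRing Ω] [Algebra A Ω] [Algebra k Ω] [IsScalarTower A k Ω]
    (res : (⨂[A] _ : Fin d, B) →ₐ[A] Ω) (y : SymTen.TS A B d) :
    res (y : ⨂[A] _ : Fin d, B) ∈ Submodule.span k (Set.range fun c : C => res (φ c : ⨂[A] _ : Fin d, B)) := by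
  classical
  let incl : B →ₐ[A] k ⊗[A] B := Algebra.TensorProduct.includeRight
  let β : (⨂[A] _ : Fin d, B) →ₐ[A] (⨂[k] _ : Fin d, k ⊗[A] B) :=
    PiTensorProduct.liftAlgHom
      (((PiTensorProduct.tprod k).restrictScalars A).compLinearMap fun _ => incl.toLinearMap)
      (by simp [PiTensorProduct.one_def]; rfl)
      (by intro a b; simp [PiTensorProduct.tprod_mul_tprod]; rfl)
  have hβ : ∀ m, β (PiTensorProduct.tprod A m) = PiTensorProduct.tprod k (fun i => (1 : k) ⊗ₜ[A] m i) :=
    fun m => by simp [β]; rfl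
  let ψ : Fin d → (k ⊗[A] B →ₐ[k] Ω) := fun i =>
    Algebra.TensorProduct.lift (Algebra.ofId k Ω)
      (res.comp (PiTensorProduct.singleAlgHom (A := fun _ : Fin d => B) i)) fun _ _ => Commute.all _ _
  let χ : (⨂[k] _ : Fin d, k ⊗[A] B) →ₐ[k] Ω :=
    PiTensorProduct.liftAlgHom ((MultilinearMap.mkPiAlgebra k (Fin d) Ω).compLinearMap
      fun i => (ψ i).toLinearMap)
      (by simp)
      (by intro a b; simp [Finset.prod_mul_distrib])
  have hχβ : ∀ t, χ (β t) = res t := by
    intro t
    induction t using PiTensorProduct.induction_on with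
    | smul_tprod r m =>
      rw [map_smul β, hβ, ← algebraMap_smul k r, map_smul χ, map_smul res, algebraMap_smul, tprod_eq_prod_single (A := A) m, map_prod]
      congr 1
      show PiTensorProduct.lift ((MultilinearMap.mkPiAlgebra k (Fin d) Ω).compLinearMap
        fun i => (ψ i).toLinearMap) (PiTensorProduct.tprod k fun i => (1 : k) ⊗ₜ[A] m i) = _
      rw [PiTensorProduct.lift.tprod]
      simp only [MultilinearMap.compLinearMap_apply, MultilinearMap.mkPiAlgebra_apply, AlgHom.toLinearMap_apply]
      refine Finset.prod_congr rfl fun i _ => ?_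
      simp [ψ]
    | add a b ha hb => simp only [map_add, ha, hb]
  have hβinv : ∀ σ : Equiv.Perm (Fin d),
      PiTensorProduct.reindex k (fun _ : Fin d => k ⊗[A] B) σ (β (y : ⨂[A] _ : Fin d, B)) = β y := by
    intro σ
    have : ∀ t, PiTensorProduct.reindex k (fun _ : Fin d => k ⊗[A] B) σ (β t) =
        β (PiTensorProduct.reindex A (fun _ : Fin d => B) σ t) := by
      intro t
      induction t using PiTensorProduct.induction_on with
      | smul_tprod r m =>
        simp only [map_smul, PiTensorProduct.reindex_tprod, hβ]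
        rw [← algebraMap_smul k r, map_smul, PiTensorProduct.reindex_tprod, algebraMap_smul]
      | add a b ha hb => simp only [map_add, ha, hb]
    rw [this, y.2 σ]
  let e := Module.Free.chooseBasis k (k ⊗[A] B)
  let b₀ : B → k ⊗[A] B := fun b => (1 : k) ⊗ₜ[A] b
  have hb₀ : Submodule.span k (Set.range b₀) = ⊤ := by
    refine eq_top_iff.mpr fun v _ => ?_
    induction v using TensorProduct.induction_on with
    | zero => exact zero_mem _
    | tmul r b =>
      rw [← mul_one r, ← smul_eq_mul, ← TensorProduct.smul_tmul']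
      exact Submodule.smul_mem _ r (Submodule.subset_span ⟨b, rfl⟩)
    | add a b ha hb => exact add_mem (ha trivial) (hb trivial)
  have h2 : ∀ μ : B →₀ ℕ, χ (orbSum (A := k) d b₀ μ) = res (φ (co γ.law id μ) : ⨂[A] _ : Fin d, B) := fun μ => by
    rw [show ((φ (co γ.law id μ)) : ⨂[A] _ : Fin d, B) = orbSum d id μ from val_co γ φ hφ id μ, orbSum, orbSum,
      map_sum, map_sum]
    exact Finset.sum_congr rfl fun c _ => by
      rw [← hχβ, hβ]
      rfl
  rw [← hχβ]
  have hle : Submodule.span k (Set.range fun ν => orbSum (A := k) d e ν) ≤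
      (Submodule.span k (Set.range fun c : C => res (φ c : ⨂[A] _ : Fin d, B))).comap χ.toLinearMap := by
    refine Submodule.span_le.mpr ?_
    rintro _ ⟨ν, rfl⟩
    show orbSum (A := k) d e ν ∈ _
    rw [← co_tpowLaw (A := k) e ν]
    refine (Submodule.span_le.mpr ?_) (co_mem_span (SymTen.tpowLaw k (k ⊗[A] B) d).homog hb₀ e ν)
    rintro _ ⟨μ, rfl⟩
    rw [SetLike.mem_coe, Submodule.mem_comap, AlgHom.toLinearMap_apply, co_tpowLaw (A := k), h2]
    exact Submodule.subset_span ⟨_, rfl⟩
  exact hle (mem_span_orbSum e hβinv)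

/-- Every symmetric tensor is, at every prime, a fraction of elements of the image. -/
theorem exists_fraction
    (hφ : ∀ (S : Type u) [CommSemiring S] [Algebra A S] (n : ℕ) (s : Fin n → S) (b : Fin n → B),
      ((SymTen.TS A B d).val.comp φ).toLinearMap.lTensor S (γ.law.toFun' S (∑ j, s j ⊗ₜ[A] b j)) =
        ∑ c : Fin d → Fin n, (∏ i, s (c i)) ⊗ₜ[A] PiTensorProduct.tprod A (fun i => b (c i)))
    (q : Ideal (SymTen.TS A B d)) [q.IsPrime] (y : SymTen.TS A B d) :
    ∃ s c : C, φ s ∉ q ∧ φ s * y - φ c ∈ q := by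
  classical
  letI := (SymTen.TS A B d).val.toRingHom.toAlgebra
  haveI : Algebra.IsIntegral (SymTen.TS A B d) (⨂[A] _ : Fin d, B) := ⟨isIntegral_val⟩
  obtain ⟨Q, -, hQ, hQq⟩ := Ideal.exists_ideal_over_prime_of_isIntegral q (⊥ : Ideal (⨂[A] _ : Fin d, B)) (by
    intro x hx
    rw [Ideal.mem_comap, Ideal.mem_bot] at hx
    have : x = 0 := Subtype.val_injective hx
    simp [this])
  let res : (⨂[A] _ : Fin d, B) →ₐ[A] Q.ResidueField := IsScalarTower.toAlgHom A _ _
  letI algk : Algebra (Q.under A).ResidueField Q.ResidueField :=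
    (Ideal.ResidueField.liftₐ (R := A) (Q.under A) (Algebra.ofId A Q.ResidueField)
      (fun a ha => by
        rw [RingHom.mem_ker, Algebra.ofId_apply, IsScalarTower.algebraMap_apply A (⨂[A] _ : Fin d, B) Q.ResidueField,
          Ideal.algebraMap_residueField_eq_zero]
        exact ha)
      (fun a ha => by
        refine (IsUnit.mem_submonoid_iff _).mpr (Ne.isUnit ?_)
        show algebraMap A Q.ResidueField a ≠ 0
        rw [IsScalarTower.algebraMap_apply A (⨂[A] _ : Fin d, B) Q.ResidueField, Ne,
          Ideal.algebraMap_residueField_eq_zero]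
        exact ha)).toRingHom.toAlgebra
  haveI : IsScalarTower A (Q.under A).ResidueField Q.ResidueField :=
    IsScalarTower.of_algebraMap_eq fun a => (Ideal.ResidueField.liftₐ_algebraMap (R := A) (Q.under A) (Algebra.ofId A Q.ResidueField) _ _ a).symm
  have hy := mem_span_values γ φ hφ (k := (Q.under A).ResidueField) res y
  let r : C →+* Q.ResidueField := res.toRingHom.comp ((SymTen.TS A B d).val.comp φ).toRingHom
  let M : Submodule (Q.under A).ResidueField Q.ResidueField :=
    { carrier := {z | ∃ s c, r s ≠ 0 ∧ z * r s = r c}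
      zero_mem' := ⟨1, 0, by rw [map_one]; exact one_ne_zero, by simp⟩
      add_mem' := by
        rintro a b ⟨s, c, hs, hc⟩ ⟨s', c', hs', hc'⟩
        refine ⟨s * s', c * s' + c' * s, by rw [map_mul]; exact mul_ne_zero hs hs', ?_⟩
        simp only [map_add, map_mul, ← hc, ← hc']
        ring
      smul_mem' := by
        rintro l a ⟨s, c, hs, hc⟩
        obtain ⟨u, v, hv, rfl⟩ := IsFractionRing.div_surjective (A := A ⧸ Q.under A) l
        obtain ⟨u, rfl⟩ := Ideal.Quotient.mk_surjective u
        obtain ⟨v, rfl⟩ := Ideal.Quotient.mk_surjective v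
        have hA : ∀ a : A, algebraMap (Q.under A).ResidueField Q.ResidueField
            (algebraMap (A ⧸ Q.under A) _ (Ideal.Quotient.mk _ a)) = r (algebraMap A C a) := fun a => by
          rw [Ideal.algebraMap_quotient_residueField_mk, ← IsScalarTower.algebraMap_apply]
          exact ((res.comp ((SymTen.TS A B d).val.comp φ)).commutes a).symm
        have hv0 : r (algebraMap A C v) ≠ 0 := by
          rw [← hA]
          exact (map_ne_zero_iff _ (RingHom.injective _)).mpr (IsFractionRing.to_map_ne_zero_of_mem_nonZeroDivisors hv)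
        refine ⟨algebraMap A C v * s, algebraMap A C u * c, by rw [map_mul]; exact mul_ne_zero hv0 hs, ?_⟩
        rw [Algebra.smul_def, map_div₀, hA, hA, map_mul, map_mul, ← hc]
        field_simp }
  obtain ⟨s, c, hs, hc⟩ : res (y : ⨂[A] _ : Fin d, B) ∈ M := by
    refine (Submodule.span_le.mpr ?_) hy
    rintro _ ⟨c, rfl⟩
    exact ⟨1, c, by rw [map_one]; exact one_ne_zero, by rw [map_one, mul_one]; rfl⟩
  have hq : ∀ t : SymTen.TS A B d, t ∈ q ↔ res (t : ⨂[A] _ : Fin d, B) = 0 := fun t => by
    rw [← hQq, Ideal.mem_comap]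
    exact Ideal.algebraMap_residueField_eq_zero.symm
  refine ⟨s, c, fun h => hs ((hq _).mp h), (hq _).mpr ?_⟩
  rw [AddSubgroupClass.coe_sub, map_sub, MulMemClass.coe_mul, map_mul, sub_eq_zero, mul_comm]
  exact hc

end Groth.Agent.H22Alg.PL
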