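import Mathlib.RingTheory.PowerSeries.Exp
import Mathlib.RingTheory.PowerSeries.Derivative
import Mathlib.RingTheory.PowerSeries.Inverse
import Mathlib.RingTheory.PowerSeries.NoZeroDivisors
import Mathlib.Algebra.Ring.GeomSum
import Mathlib.RingTheory.Binomial
import Mathlib.Tactic.LinearCombination
import Mathlib.Tactic.Linarith

/-!
The Todd power series `X / (1 - exp (-X))` and the coefficients of its powers.
-/

open PowerSeries

namespace Groth.Agent.H22Alg

/-- `f` is the Todd series. -/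
def IsTodd (f : ℚ⟦X⟧) : Prop := f * (exp ℚ - 1) = X * exp ℚ

theorem exists_isTodd : ∃ f : ℚ⟦X⟧, IsTodd f := by
  obtain ⟨h, hh⟩ : X ∣ exp ℚ - 1 := X_dvd_iff.mpr (by simp)
  have h0 : constantCoeff h = 1 := by
    have := congrArg (coeff 1) hh
    rw [coeff_succ_X_mul, coeff_zero_eq_constantCoeff] at this
    simpa using this.symm
  refine ⟨exp ℚ * h⁻¹, ?_⟩
  unfold IsTodd
  rw [hh, show exp ℚ * h⁻¹ * (X * h) = X * exp ℚ * (h⁻¹ * h) by ring,
    PowerSeries.inv_mul_cancel _ (by rw [h0]; exact one_ne_zero), mul_one]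

theorem IsTodd.constantCoeff_eq {f : ℚ⟦X⟧} (hf : IsTodd f) : constantCoeff f = 1 := by
  have h := congrArg (coeff 1) hf
  rw [coeff_succ_X_mul, coeff_zero_eq_constantCoeff, mul_comm] at h
  obtain ⟨g, hg⟩ : X ∣ exp ℚ - 1 := X_dvd_iff.mpr (by simp)
  have h0 : constantCoeff g = 1 := by
    have := congrArg (coeff 1) hg
    rw [coeff_succ_X_mul, coeff_zero_eq_constantCoeff] at this
    simpa using this.symm
  rw [hg, mul_assoc, coeff_succ_X_mul, coeff_zero_eq_constantCoeff, map_mul, h0] at h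
  simpa using h

/-- The differential equation satisfied by the Todd series. -/
theorem IsTodd.deriv_eq {f : ℚ⟦X⟧} (hf : IsTodd f) :
    X * derivative ℚ f = f + X * f - f * f := by
  have he : exp ℚ ≠ (0 : ℚ⟦X⟧) := (isUnit_exp ℚ).ne_zero
  have hd := congrArg (derivative ℚ) hf
  simp only [Derivation.leibniz, smul_eq_mul, map_sub, derivative_exp, derivative_X,
    derivative_one, sub_zero] at hd
  apply mul_right_cancel₀ he
  have hf' : f * (exp ℚ - 1) = X * exp ℚ := hf
  linear_combination f * hd - derivative ℚ f * hf'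

theorem IsTodd.deriv_pow {f : ℚ⟦X⟧} (hf : IsTodd f) (m : ℕ) :
    X * derivative ℚ (f ^ m) + (m : ℚ⟦X⟧) * f ^ (m + 1) =
      (m : ℚ⟦X⟧) * f ^ m + (m : ℚ⟦X⟧) * (X * f ^ m) := by
  induction m with
  | zero => simp
  | succ m ih =>
    rw [pow_succ f m, Derivation.leibniz, smul_eq_mul, smul_eq_mul]
    push_cast
    linear_combination f * ih + f ^ m * hf.deriv_eq

theorem IsTodd.coeff_pow_succ {f : ℚ⟦X⟧} (hf : IsTodd f) :
    ∀ n : ℕ, coeff n (f ^ (n + 1)) = 1 := by
  intro n
  induction n with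
  | zero => simp [hf.constantCoeff_eq]
  | succ n ih =>
    have h := congrArg (coeff (n + 1)) (hf.deriv_pow (n + 1))
    rw [← map_natCast (C (R := ℚ)), map_add, map_add, coeff_succ_X_mul, coeff_derivative,
      coeff_C_mul, coeff_C_mul, coeff_C_mul, coeff_succ_X_mul, ih] at h
    push_cast at h
    have : ((n : ℚ) + 1) * (coeff (n + 1) (f ^ (n + 1 + 1)) - 1) = 0 := by linear_combination h
    rcases mul_eq_zero.mp this with h1 | h1
    · exact absurd h1 (by positivity)
    · exact sub_eq_zero.mp h1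

theorem eq_of_coeff_pow_succ_eq {f g : ℚ⟦X⟧} (hg : constantCoeff g = 1)
    (h : ∀ n : ℕ, coeff n (f ^ (n + 1)) = coeff n (g ^ (n + 1))) : f = g := by
  have h0 : constantCoeff f = 1 := by simpa [hg] using h 0
  ext n
  induction n using Nat.strong_induction_on with
  | _ n ih =>
    obtain ⟨r, hr⟩ : X ^ n ∣ f - g := X_pow_dvd_iff.mpr fun m hm => by rw [map_sub, ih m hm, sub_self]
    have e1 : coeff n (f - g) = constantCoeff r := by
      have := coeff_X_pow_mul r n 0
      rw [zero_add] at this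
      rw [hr, this, coeff_zero_eq_constantCoeff]
    have e2 := congrArg (coeff n) (geom_sum₂_mul f g (n + 1))
    rw [hr, map_sub, h n, sub_self, mul_left_comm] at e2
    have e3 := coeff_X_pow_mul ((∑ i ∈ Finset.range (n + 1), f ^ i * g ^ (n + 1 - 1 - i)) * r) n 0
    rw [zero_add, e2, coeff_zero_eq_constantCoeff, map_mul, map_sum] at e3
    have e4 : (∑ i ∈ Finset.range (n + 1), constantCoeff (f ^ i * g ^ (n + 1 - 1 - i))) = (n : ℚ) + 1 := by
      simp [h0, hg]
    rw [e4] at e3
    have : constantCoeff r = 0 := by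
      rcases mul_eq_zero.mp e3.symm with h1 | h1
      · exact absurd h1 (by positivity)
      · exact h1
    rw [this, map_sub, sub_eq_zero] at e1
    exact e1

theorem IsTodd.rescale_step {f : ℚ⟦X⟧} (hf : IsTodd f) (m : ℚ) (n : ℕ) :
    rescale m (exp ℚ) * f ^ (n + 1) =
      rescale (m - 1) (exp ℚ) * f ^ (n + 1) + X * (rescale m (exp ℚ) * f ^ n) := by
  have e : rescale m (exp ℚ) = rescale (m - 1) (exp ℚ) * exp ℚ := by
    have := exp_mul_exp_eq_exp_add (A := ℚ) (m - 1) 1
    rw [rescale_one, RingHom.id_apply, sub_add_cancel] at this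
    exact this.symm
  rw [e]
  have hf' : f * (exp ℚ - 1) = X * exp ℚ := hf
  linear_combination rescale (m - 1) (exp ℚ) * f ^ n * hf'

theorem IsTodd.coeff_rescale {f : ℚ⟦X⟧} (hf : IsTodd f) (n : ℕ) (m : ℤ) :
    coeff n (rescale (m : ℚ) (exp ℚ) * f ^ (n + 1)) = ((Ring.choose (m + n : ℤ) n : ℤ) : ℚ) := by
  induction n generalizing m with
  | zero => simp [hf.constantCoeff_eq, rescale]
  | succ n ih =>
    have step : ∀ m : ℤ, coeff (n + 1) (rescale (m : ℚ) (exp ℚ) * f ^ (n + 1 + 1)) =
        coeff (n + 1) (rescale ((m : ℚ) - 1) (exp ℚ) * f ^ (n + 1 + 1))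
          + ((Ring.choose (m + n : ℤ) n : ℤ) : ℚ) := by
      intro m
      rw [hf.rescale_step, map_add, coeff_succ_X_mul, ih]
    have pascal : ∀ m : ℤ, Ring.choose (m + (n + 1 : ℕ) : ℤ) (n + 1) =
        Ring.choose (m + n : ℤ) n + Ring.choose (m - 1 + (n + 1 : ℕ) : ℤ) (n + 1) := by
      intro m
      rw [show m + ((n + 1 : ℕ) : ℤ) = (m + n) + 1 by push_cast; ring,
        show m - 1 + ((n + 1 : ℕ) : ℤ) = m + n by push_cast; ring, Ring.choose_succ_succ]
    induction m using Int.inductionOn' (b := 0) with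
    | zero =>
      rw [Int.cast_zero, rescale_zero]
      simp only [zero_add, Ring.choose_natCast, Nat.choose_self]
      simpa using hf.coeff_pow_succ (n + 1)
    | succ k _ hk =>
      rw [step, pascal, add_sub_cancel_right]
      push_cast at hk ⊢
      rw [add_sub_cancel_right, hk]
      ring
    | pred k _ hk =>
      rw [step k, pascal k] at hk
      push_cast at hk ⊢
      linarith

end Groth.Agent.H22Alg
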