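import Groth.Agent.H8Props.TorIndepComplex
import Groth.Agent.H13CInt.MinGen
import Groth.Agent.H13CInt.QuasiReg
import Groth.Agent.H29Slice.QRegular
import Groth.Agent.H06QR.Basic

/-! # Tor independence of quotients by sequences which stay regular. -/

set_option autoImplicit false
set_option linter.style.haveILetI false

universe u

open CategoryTheory CategoryTheory.Limits MonoidalCategory TensorProduct RingTheory.Sequence
open Groth.Agent.H8Props.TorIndepCx

noncomputable section

namespace Groth.Agent.H22Alg.TorIndepLocal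

variable {R : Type u} [CommRing R]

/-- Any generating family of the right length of an ideal generated by a regular sequence is regular. -/
theorem isRegular_of_span_eq [IsLocalRing R] [IsNoetherianRing R] {rs : List R} (h : IsRegular R rs)
    (g : Fin rs.length → R) (hg : Ideal.span (Set.range g) = Ideal.ofList rs) : IsRegular R (List.ofFn g) := by
  have hne : Ideal.ofList rs ≠ ⊤ := fun e => h.2 (by rw [e]; simp)
  have hm : ∀ i, g i ∈ IsLocalRing.maximalIdeal R := fun i =>
    IsLocalRing.le_maximalIdeal hne (hg.le (Ideal.subset_span ⟨i, rfl⟩))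
  have hq := H06QR.isQuasiRegular_of_span_eq
    (H13CInt.isQuasiRegular_of_isWeaklyRegular rs.get (by rw [List.ofFn_get]; exact h.toIsWeaklyRegular)) g
    (by rw [hg, ← H13CInt.ofList_ofFn, List.ofFn_get])
  rw [IsLocalRing.isRegular_iff_isWeaklyRegular_of_subset_maximalIdeal (List.forall_mem_ofFn_iff.2 hm)]
  exact H29Slice.isWeaklyRegular_of_isQuasiRegular R g
    (fun i => IsLocalRing.maximalIdeal_le_jacobson ⊥ (hm i)) hq

variable {M : ModuleCat.{u} R} {L : ProjectiveResolution M}

theorem good_of_projective (N : ModuleCat.{u} R) [Projective N] : Good L N :=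
  H26Tor.leftRes_homology_succ_isZero L N

theorem good_iso {N N' : ModuleCat.{u} R} (e : N ≅ N') (h : Good L N) : Good L N' := fun p =>
  (h p).of_iso ((H26Tor.leftRes L ⋙ HomologicalComplex.homologyFunctor _ _ (p + 1)).mapIso e).symm

theorem good_coker {S : ShortComplex (ModuleCat.{u} R)} (hS : S.ShortExact) (h₁ : Good L S.X₁)
    (h₂ : Good L S.X₂) (hm : Mono (M ◁ S.f)) : Good L S.X₃ := by
  obtain ⟨w, hU⟩ := H26Tor.leftRes_shortExact L hS
  intro p
  cases p with
  | succ p =>
    exact (hU.homology_exact₃ (p + 2) (p + 1) rfl).isZero_X₂ ((h₂ (p + 1)).eq_of_src _ _)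
      ((h₁ p).eq_of_tgt _ _)
  | zero =>
    haveI := H26Tor.isIso_leftResZero L S.X₁
    haveI := H26Tor.isIso_leftResZero L S.X₂
    haveI : Mono (HomologicalComplex.homologyMap ((H26Tor.leftRes L).map S.f) 0) := by
      have e := H26Tor.leftResZero_naturality L S.f
      haveI : Mono (H26Tor.leftResZero L S.X₁ ≫ M ◁ S.f) := mono_comp _ _
      exact mono_of_mono_fac e
    exact (hU.homology_exact₃ 1 0 rfl).isZero_X₂ ((h₂ 0).eq_of_src _ _)
      (zero_of_comp_mono (HomologicalComplex.homologyMap ((H26Tor.leftRes L).map S.f) 0)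
        (hU.δ_comp 1 0 rfl))

theorem good_coker_linear {X Y Z : Type u} [AddCommGroup X] [Module R X] [AddCommGroup Y] [Module R Y]
    [AddCommGroup Z] [Module R Z] (f : X →ₗ[R] Y) (g : Y →ₗ[R] Z) (hf : Function.Injective f)
    (hex : Function.Exact f g) (hg : Function.Surjective g) (h₁ : Good L (ModuleCat.of R X))
    (h₂ : Good L (ModuleCat.of R Y)) (hm : Function.Injective (f.lTensor M)) : Good L (ModuleCat.of R Z) :=
  good_coker (S := ShortComplex.moduleCatMk f g hex.linearMap_comp_eq_zero)
    { exact := (ShortComplex.ShortExact.moduleCat_exact_iff_function_exact _).2 hex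
      mono_f := (ModuleCat.mono_iff_injective _).2 hf
      epi_g := (ModuleCat.epi_iff_surjective _).2 hg }
    h₁ h₂ ((ModuleCat.mono_iff_injective (M ◁ (ShortComplex.moduleCatMk f g hex.linearMap_comp_eq_zero).f)).2 hm)

theorem good_of_subsingleton {N : ModuleCat.{u} R} [Subsingleton N] : Good L N :=
  good_of_isZero (ModuleCat.isZero_of_subsingleton N)

theorem good_pi (Q : Type u) [AddCommGroup Q] [Module R Q] (h : Good L (ModuleCat.of R Q)) :
    ∀ r : ℕ, Good L (ModuleCat.of R (Fin r → Q))
  | 0 => good_of_subsingleton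
  | r + 1 => good_iso (ModuleCat.biprodIsoProd _ _ ≪≫ (Fin.consLinearEquiv R fun _ : Fin (r + 1) => Q).toModuleIso)
      (good_biprod h (good_pi Q h r))

section Quot

variable {A : Type u} [CommRing A] [Algebra R A] {L : ProjectiveResolution (ModuleCat.of R A)}

/-- The quotient by a sequence regular on `R` and on `A` is Tor independent of `A`. -/
theorem good_quotient : ∀ (rs : List R), IsWeaklyRegular R rs → IsWeaklyRegular A rs →
    Good L (ModuleCat.of R (R ⧸ Ideal.ofList rs)) := by
  intro rs
  induction rs using List.reverseRecOn with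
  | nil =>
    intro _ _
    have e : (R ⧸ Ideal.ofList ([] : List R)) ≃ₗ[R] R :=
      (Submodule.quotEquivOfEq _ (⊥ : Submodule R R) Ideal.ofList_nil).trans (Submodule.quotEquivOfEqBot (⊥ : Submodule R R) rfl)
    exact good_iso e.toModuleIso.symm (good_of_projective _)
  | append_singleton rs r ih =>
    intro hR hA
    rw [isWeaklyRegular_append_iff, isWeaklyRegular_singleton_iff] at hR hA
    have e₀ : (Ideal.ofList rs • ⊤ : Submodule R R) = Ideal.ofList rs := Ideal.mul_top _
    have hr : IsSMulRegular (R ⧸ Ideal.ofList rs) r :=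
      ((Submodule.quotEquivOfEq _ _ e₀).isSMulRegular_congr r).1 hR.2
    let f : (R ⧸ Ideal.ofList rs) →ₗ[R] R ⧸ Ideal.ofList rs := r • LinearMap.id
    let g : (R ⧸ Ideal.ofList rs) →ₗ[R] R ⧸ Ideal.ofList (rs ++ [r]) :=
      Submodule.factor (by rw [Ideal.ofList_append]; exact le_sup_left)
    have hgs : Function.Surjective g := Submodule.factor_surjective _
    have hmem : Ideal.ofList (rs ++ [r]) = Ideal.ofList rs ⊔ Ideal.span {r} := by
      rw [Ideal.ofList_append, Ideal.ofList_singleton]
    have hex : Function.Exact f g := by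
      intro z
      obtain ⟨z, rfl⟩ := Submodule.Quotient.mk_surjective _ z
      constructor
      · intro hz
        have hz' : z ∈ Ideal.ofList rs ⊔ Ideal.span {r} := hmem ▸ (Submodule.Quotient.mk_eq_zero _).1 hz
        obtain ⟨a, ha, b, hb, rfl⟩ := Submodule.mem_sup.1 hz'
        obtain ⟨c, rfl⟩ := Ideal.mem_span_singleton'.1 hb
        refine ⟨Submodule.Quotient.mk c, ?_⟩
        show r • (Submodule.Quotient.mk c : R ⧸ Ideal.ofList rs) = _
        rw [← Submodule.Quotient.mk_smul, Submodule.Quotient.eq, smul_eq_mul]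
        convert neg_mem ha using 1
        ring
      · rintro ⟨y, hy⟩
        rw [← hy]
        obtain ⟨y, rfl⟩ := Submodule.Quotient.mk_surjective _ y
        show g (r • (Submodule.Quotient.mk y : R ⧸ Ideal.ofList rs)) = 0
        rw [← Submodule.Quotient.mk_smul]
        refine (Submodule.Quotient.mk_eq_zero _).2 ?_
        rw [hmem, smul_eq_mul]
        exact Submodule.mem_sup_right (Ideal.mem_span_singleton'.2 ⟨y, mul_comm _ _⟩)
    have hA' : IsSMulRegular (A ⊗[R] (R ⧸ Ideal.ofList rs)) r :=
      ((TensorProduct.tensorQuotEquivQuotSMul A (Ideal.ofList rs)).isSMulRegular_congr r).2 hA.2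
    have hinj : Function.Injective (f.lTensor A) := by
      rw [LinearMap.lTensor_smul, LinearMap.lTensor_id]
      exact hA'
    exact good_coker_linear f g hr hex hgs (ih hR.1 hA.1) (ih hR.1 hA.1) hinj

end Quot

end Groth.Agent.H22Alg.TorIndepLocal
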