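import Groth.Agent.LeadFBC.BC
import Groth.Agent.LeadDev.Rules
import Groth.Agent.H10Coh.AmpleVanishing
import Groth.Agent.H10Coh.FinType2
import Groth.Agent.H02CA.VBPn.Extend
import Groth.Agent.H16Derived.KFlat.SheafTensor
import Groth.Agent.H15Site.LocCohQCoh
import Groth.Agent.H10Coh.Kill
import Groth.Agent.H29RR.Clifford
import Groth.Agent.H25Euler.Additive
import Groth.Agent.H25Theta.Basic

/-! # Sections of high twists on a closed fibre. -/

set_option autoImplicit false
set_option linter.style.haveILetI false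
set_option linter.unusedSectionVars false

universe u

open CategoryTheory CategoryTheory.Limits AlgebraicGeometry Opposite TopologicalSpace
open scoped TensorProduct

noncomputable section

namespace Groth.Agent.H22Alg.TwistFibre

open Groth.Agent.LeadBC Groth.Agent.LeadFF Groth.Agent.H10Coh

attribute [local instance 10000] H10Coh.hasSheafifyAb H10Coh.hasWeakSheafifyAb H10Coh.hasExtAb H10Coh.enoughInjAb

variable {A : Type u} [CommRing A] {X : Scheme.{u}} [X.Over (Spec (CommRingCat.of A))]

theorem appL_smulMod {G : X.Modules} (a : A) (V : X.Opens) (x : sec A G V) :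
    appL A (Formal.smulMod A G a) V x = a • x := by
  refine (KLin.smulModΓ_app_apply G _ V (show Γ(G, V) from x)).trans ?_
  rfl

theorem appL_comp {G G' G'' : X.Modules} (f : G ⟶ G') (g : G' ⟶ G'') (V : X.Opens) (x : sec A G V) :
    appL A (f ≫ g) V x = appL A g V (appL A f V x) := rfl

theorem appL_sum {ι : Type} (t : Finset ι) {G G' : X.Modules} (f : ι → (G ⟶ G')) (V : X.Opens) (x : sec A G V) :
    appL A (∑ j ∈ t, f j) V x = ∑ j ∈ t, appL A (f j) V x := by
  classical
  induction t using Finset.induction_on with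
  | empty => rfl
  | insert i t hi ih =>
    rw [Finset.sum_insert hi, Finset.sum_insert hi, ← ih]
    rfl

/-- Elements of `(a₁, …, a_r) M` are images of the weighted sum map. -/
theorem smul_top_le_range {G : X.Modules} {r : ℕ} (a : Fin r → A) (V : X.Opens) :
    Ideal.span (Set.range a) • (⊤ : Submodule A (sec A G V)) ≤
      LinearMap.range (appL A (biproduct.desc fun j => Formal.smulMod A G (a j)) V) := by
  refine Submodule.smul_le.2 fun c hc x _ => ?_
  induction hc using Submodule.span_induction with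
  | mem c hc =>
    obtain ⟨j, rfl⟩ := hc
    refine ⟨appL A (biproduct.ι (fun _ : Fin r => G) j) V x, ?_⟩
    rw [← appL_comp, biproduct.ι_desc, appL_smulMod]
  | zero => rw [zero_smul]; exact zero_mem _
  | add c d _ _ hc hd => rw [add_smul]; exact add_mem hc hd
  | smul c d _ hd => rw [smul_assoc]; exact Submodule.smul_mem _ c hd

/-- The image of the twisted weighted sum map lies in `(a₁, …, a_r) M`. -/
theorem range_twist_le {G : X.Modules} {r : ℕ} (a : Fin r → A) (N : X.Modules) (V : X.Opens) :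
    LinearMap.range (appL A ((H29RR.twist N).map (biproduct.desc fun j => Formal.smulMod A G (a j))) V) ≤
      Ideal.span (Set.range a) • (⊤ : Submodule A (sec A (CohB1.tensorMod G N) V)) := by
  rintro _ ⟨z, rfl⟩
  let ψ : (⨁ fun _ : Fin r => G) ⟶ G := biproduct.desc fun j => Formal.smulMod A G (a j)
  have h : (H29RR.twist N).map ψ = ∑ j, (H29RR.twist N).map (biproduct.π (fun _ : Fin r => G) j) ≫
      Formal.smulMod A (CohB1.tensorMod G N) (a j) := by
    have e : ∀ j, (H29RR.twist N).map (Formal.smulMod A G (a j)) =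
        Formal.smulMod A (CohB1.tensorMod G N) (a j) := fun j => H02CA.VBPn.twist_map_smulModΓ N G _
    rw [show ψ = ∑ j, biproduct.π (fun _ : Fin r => G) j ≫ Formal.smulMod A G (a j) from biproduct.desc_eq,
      Functor.map_sum]
    refine Finset.sum_congr rfl fun j _ => ?_
    rw [Functor.map_comp, e]
    rfl
  show appL A ((H29RR.twist N).map ψ) V z ∈ _
  rw [h]
  erw [appL_sum]
  refine sum_mem fun j _ => ?_
  erw [appL_comp, appL_smulMod]
  exact Submodule.smul_mem_smul (N := (⊤ : Submodule A (sec A (CohB1.tensorMod G N) V))) (Ideal.subset_span ⟨j, rfl⟩) trivial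

theorem mem_smul_of_one_tmul_eq_zero {κ : Type u} [CommRing κ] [Algebra A κ]
    (hφ : Function.Surjective (algebraMap A κ)) {M : Type u} [AddCommGroup M] [Module A M] {x : M}
    (hx : (1 : κ) ⊗ₜ[A] x = 0) : x ∈ RingHom.ker (algebraMap A κ) • (⊤ : Submodule A M) := by
  let e : (A ⧸ RingHom.ker (algebraMap A κ)) ≃ₐ[A] κ :=
    Ideal.quotientKerAlgEquivOfSurjective (f := Algebra.ofId A κ) hφ
  have h := congrArg (TensorProduct.congr e.symm.toLinearEquiv (LinearEquiv.refl A M)) hx
  rw [TensorProduct.congr_tmul, map_zero] at h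
  have h' := congrArg (TensorProduct.quotTensorEquivQuotSMul M (RingHom.ker (algebraMap A κ))) h
  rw [map_zero, AlgEquiv.toLinearEquiv_apply, map_one] at h'
  refine (Submodule.Quotient.mk_eq_zero _).1 (Eq.trans ?_ h')
  refine Eq.symm ((TensorProduct.quotTensorEquivQuotSMul_mk_tmul _ (1 : A) x).trans ?_)
  rw [one_smul]

section Fibre

variable {κ : Type u} [Field κ] [Algebra A κ] {X' : Scheme.{u}} [X'.Over (Spec (CommRingCat.of κ))] {q : X' ⟶ X}
  (hsq : IsPullback q (X' ↘ Spec (CommRingCat.of κ)) (X ↘ Spec (CommRingCat.of A))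
    (Spec.map (CommRingCat.ofHom (algebraMap A κ))))

/-- The sections of a direct image, with the action of the base. -/
abbrev pushH (H : X'.Modules) : X.Modules := (Scheme.Modules.pushforward q).obj H

include hsq in
theorem push_smul (H : X'.Modules) {V : X.Opens} (a : A) (y : sec A (pushH (q := q) H) V) :
    (a • y : sec A (pushH (q := q) H) V) =
      (show sec κ H (q ⁻¹ᵁ V) from algebraMap A κ a • (show sec κ H (q ⁻¹ᵁ V) from y)) := by
  show q.app V (LeadBC.sc A V a) • (show Γ(H, q ⁻¹ᵁ V) from y) = LeadBC.sc κ (q ⁻¹ᵁ V) (algebraMap A κ a) • _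
  rw [app_scal hsq V a]

include hsq in
theorem smul_eq_zero_of_ker (H : X'.Modules) {V : X.Opens} {a : A} (ha : algebraMap A κ a = 0)
    (y : sec A (pushH (q := q) H) V) : a • y = 0 := by
  rw [push_smul hsq, ha, zero_smul]
  rfl

include hsq in
/-- For large twists, the sections on the fibre are those of the total space modulo the kernel. -/
theorem exists_rank_eq_euler [IsNoetherianRing A] [IsProper (X ↘ Spec (CommRingCat.of A))]
    (hφ : Function.Surjective (algebraMap A κ)) {L : X.Modules} (hA : CohB1.IsAmple L)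
    (F : X.Modules) (hF : Coh.IsCoh F) :
    ∃ n₀ : ℕ, ∀ n : ℕ, n₀ ≤ n →
      (Module.finrank κ (κ ⊗[A] sec A (CohB1.tensorMod F (CohB1.tensorPow L n)) ⊤) : ℤ) =
        Curv2.euler κ X' ((Scheme.Modules.pullback q).obj (CohB1.tensorMod F (CohB1.tensorPow L n))) := by
  haveI : F.IsQuasicoherent := hF.1
  haveI : IsLocallyNoetherian X := LocallyOfFiniteType.isLocallyNoetherian (X ↘ Spec (CommRingCat.of A))
  have hL : PicF.IsInvertible L := (H11Ample.isAmple_iff.1 hA).1
  haveI : CompactSpace X := QuasiCompact.compactSpace_of_compactSpace (X ↘ Spec (CommRingCat.of A))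
  haveI : IsNoetherian X := ⟨⟩
  haveI : IsAffineHom q := LeadFF.isAffineHom_fst hsq
  haveI : IsProper (X' ↘ Spec (CommRingCat.of κ)) := MorphismProperty.of_isPullback hsq inferInstance
  haveI : IsLocallyNoetherian X' := LocallyOfFiniteType.isLocallyNoetherian (X' ↘ Spec (CommRingCat.of κ))
  let qF' : X'.Modules := (Scheme.Modules.pullback q).obj F
  have hF' : Coh.IsCoh qF' := H17.ConsProp.isCoh_pullback q hF
  haveI : qF'.IsQuasicoherent := hF'.1
  haveI : (pushH (q := q) qF').IsQuasicoherent := isQuasicoherent_pushforward_of_isAffineHom q _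
  let u : F ⟶ pushH (q := q) qF' := (Scheme.Modules.pullbackPushforwardAdjunction q).unit.app F
  -- the unit on affine opens
  have hu : ∀ {V : X.Opens}, IsAffineOpen V → ∀ x : sec A F V,
      (show sec κ qF' (q ⁻¹ᵁ V) from appL A u V x) = LeadFBC.pullExt A κ hsq F V ((1 : κ) ⊗ₜ[A] x) := by
    intro V hV x
    letI : Module A (sec κ qF' (q ⁻¹ᵁ V)) := Module.compHom _ (algebraMap A κ)
    haveI : IsScalarTower A κ (sec κ qF' (q ⁻¹ᵁ V)) := .of_algebraMap_smul fun _ _ => rfl
    refine Eq.symm ((LinearMap.liftBaseChange_tmul _ _ _ _).trans ((one_smul κ _).trans ?_))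
    exact H10Coh.mres_self _ _ _
  have husurj : ∀ {V : X.Opens}, IsAffineOpen V → Function.Surjective (appL A u V) := by
    intro V hV y
    obtain ⟨z, hz⟩ := (LeadFBC.bijective_pullExt A κ hsq F hV).2 (show sec κ qF' (q ⁻¹ᵁ V) from y)
    induction z using TensorProduct.induction_on generalizing y with
    | zero => exact ⟨0, (map_zero _).trans ((map_zero (LeadFBC.pullExt A κ hsq F V)).symm.trans hz)⟩
    | add z z' h h' =>
      obtain ⟨w, hw⟩ := h _ rfl
      obtain ⟨w', hw'⟩ := h' _ rfl
      exact ⟨w + w', (map_add _ w w').trans ((congrArg₂ (· + ·) hw hw').trans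
        ((map_add (LeadFBC.pullExt A κ hsq F V) z z').symm.trans hz))⟩
    | tmul c x =>
      obtain ⟨a, rfl⟩ := hφ c
      refine ⟨a • x, (hu hV _).trans (Eq.trans ?_ hz)⟩
      refine congrArg (LeadFBC.pullExt A κ hsq F V) ?_
      rw [TensorProduct.tmul_smul, TensorProduct.smul_tmul', Algebra.smul_def, mul_one]
  obtain ⟨r, a, ha⟩ := Submodule.fg_iff_exists_fin_generating_family.1
    (IsNoetherian.noetherian (RingHom.ker (algebraMap A κ)))
  let P : X.Modules := ⨁ fun _ : Fin r => F
  let ψ : P ⟶ F := biproduct.desc fun j => Formal.smulMod A F (a j)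
  have hψu : ψ ≫ u = 0 := biproduct.hom_ext' _ _ fun j => by
    rw [biproduct.ι_desc_assoc, comp_zero]
    refine hom_ext_affine _ _ fun V hV x => ?_
    show (appL A u V (appL A (Formal.smulMod A F (a j)) V x) : sec A (pushH (q := q) qF') V) = 0
    rw [appL_smulMod, map_smul]
    exact smul_eq_zero_of_ker hsq qF' (RingHom.mem_ker.1 (ha.le (Submodule.subset_span ⟨j, rfl⟩))) _
  have hker : ∀ {V : X.Opens}, IsAffineOpen V → ∀ x : sec A F V, appL A u V x = 0 →
      x ∈ LinearMap.range (appL A ψ V) := by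
    intro V hV x hx
    refine smul_top_le_range a V ?_
    rw [show Ideal.span (Set.range a) = RingHom.ker (algebraMap A κ) from ha]
    exact mem_smul_of_one_tmul_eq_zero hφ
      ((LeadFBC.bijective_pullExt A κ hsq F hV).1 (((hu hV x).symm.trans hx).trans (map_zero _).symm))
  haveI : Epi u := ⟨fun b c hbc => hom_ext_affine _ _ fun V hV y => by
    obtain ⟨x, rfl⟩ := husurj hV y
    exact congr($(congr(Scheme.Modules.Hom.app $hbc V)) x)⟩
  let ψ' : P ⟶ kernel u := kernel.lift u ψ hψu
  haveI : Epi ψ' := ⟨fun b c hbc => hom_ext_affine _ _ fun V hV y => by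
    obtain ⟨z, hz⟩ := hker hV (appL A (kernel.ι u) V y) (by
      rw [← appL_comp, kernel.condition]; rfl)
    have hy : appL A ψ' V z = y := by
      haveI : Mono ((H10Coh.shF X).map (kernel.ι u)) := inferInstance
      refine H10Coh.injective_app_of_mono ((H10Coh.shF X).map (kernel.ι u)) V ?_
      show appL A (kernel.ι u) V (appL A ψ' V z) = appL A (kernel.ι u) V y
      rw [← appL_comp, kernel.lift_ι, hz]
    rw [← hy]
    exact congr($(congr(Scheme.Modules.Hom.app $hbc V)) z)⟩
  have hK : Coh.IsCoh (kernel u) := isCoh_kernel u hF ‹(pushH (q := q) qF').IsQuasicoherent›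
  have hR : Coh.IsCoh (kernel ψ') := isCoh_kernel ψ' (LeadDev.isCoh_biproduct F hF) hK.1
  let S₁ : ShortComplex X.Modules := ShortComplex.mk (kernel.ι ψ') ψ' (kernel.condition ψ')
  let S₂ : ShortComplex X.Modules := ShortComplex.mk (kernel.ι u) u (kernel.condition u)
  have hS₁ : S₁.ShortExact := { exact := ShortComplex.exact_of_f_is_kernel _ (kernelIsKernel _) }
  have hS₂ : S₂.ShortExact := { exact := ShortComplex.exact_of_f_is_kernel _ (kernelIsKernel _) }
  obtain ⟨n₁, hn₁⟩ := Tw.exists_vanishing_ample (X ↘ Spec (CommRingCat.of A)) hA (kernel ψ') hR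
  obtain ⟨n₂, hn₂⟩ := Tw.exists_vanishing_ample (X ↘ Spec (CommRingCat.of A)) hA (kernel u) hK
  have hA' : CohB1.IsAmple ((Scheme.Modules.pullback q).obj L) := H11Ample.isAmple_pullback_of_isAffineHom q hA
  obtain ⟨n₃, hn₃⟩ := Tw.exists_vanishing_ample (X' ↘ Spec (CommRingCat.of κ)) hA' qF' hF'
  refine ⟨n₁ + n₂ + n₃ + 1, fun n hn => ?_⟩
  let N := CohB1.tensorPow L n
  have hN : PicF.IsInvertible N := H11Ample.isInvertible_tensorPow hL n
  let T := H29RR.twist N
  have hflat : FlatMod.IsFlat N := fun x =>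
    H16Derived.KFlat.Stalk.isFlat_of_isFinLocFree (H28Pinch.isFinLocFree_of_isInvertible hN) x
  have hT₁ := ((H16Derived.KFlat.Stalk.isFlatObj_of_isFlat hflat) S₁ hS₁).map_of_exact (H10Coh.shF X)
  have hT₂ := ((H16Derived.KFlat.Stalk.isFlatObj_of_isFlat hflat) S₂ hS₂).map_of_exact (H10Coh.shF X)
  -- identify the target
  obtain ⟨eP⟩ := H10Coh.Tw.nonempty_push_tensor_iso q qF' hN
  let G := CohB1.tensorMod F N
  let H : X'.Modules := CohB1.tensorMod qF' ((Scheme.Modules.pullback q).obj N)
  let π : G ⟶ pushH (q := q) H := T.map u ≫ eP.hom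
  have hπsurj : Function.Surjective (appL A π ⊤) := by
    intro y
    have hs := H10Coh.surjective_sections_of_subsingleton hT₂ (⊤ : X.Opens) (hn₂ n (by omega) 1 one_pos)
    obtain ⟨z, hz⟩ := hs (eP.inv.app ⊤ (show Γ(pushH (q := q) H, (⊤ : X.Opens)) from y))
    refine ⟨(show Γ(G, ⊤) from z), ?_⟩
    refine (congrArg (eP.hom.app ⊤) hz).trans ?_
    exact congr($(congr(Scheme.Modules.Hom.app $(eP.inv_hom_id) (⊤ : X.Opens))) y)
  have hπker : ∀ x : sec A G ⊤, appL A π ⊤ x = 0 → x ∈ RingHom.ker (algebraMap A κ) • (⊤ : Submodule A _) := by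
    intro x hx
    have hx' : appL A (T.map u) ⊤ x = 0 :=
      (ConcreteCategory.bijective_of_isIso (eP.hom.app ⊤)).1 (hx.trans (map_zero (eP.hom.app ⊤).hom).symm)
    obtain ⟨y, hy⟩ : ∃ y, appL A (T.map (kernel.ι u)) ⊤ y = x := by
      obtain ⟨x₁, hx₁⟩ := Abelian.Ext.covariant_sequence_exact₂ (H10Coh.Zsh (⊤ : X.Opens)) hT₂
        ((H10Coh.H0Equiv _ (⊤ : X.Opens)).symm (show Γ(G, ⊤) from x)) (by
          refine (H10Coh.H0Equiv _ (⊤ : X.Opens)).injective ?_
          rw [H10Coh.H0Equiv_map, AddEquiv.apply_symm_apply, map_zero]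
          exact hx')
      exact ⟨H10Coh.H0Equiv _ (⊤ : X.Opens) x₁, by
        refine (H10Coh.H0Equiv_map _ x₁).symm.trans ?_
        exact (congrArg (H10Coh.H0Equiv _ (⊤ : X.Opens)) hx₁).trans (AddEquiv.apply_symm_apply _ _)⟩
    obtain ⟨z, hz⟩ := H10Coh.surjective_sections_of_subsingleton hT₁ (⊤ : X.Opens) (hn₁ n (by omega) 1 one_pos)
      (show Γ((T.obj (kernel u)), ⊤) from y)
    rw [show RingHom.ker (algebraMap A κ) = Ideal.span (Set.range a) from ha.symm]
    refine range_twist_le a N ⊤ ⟨(show Γ(T.obj P, ⊤) from z), ?_⟩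
    rw [show (biproduct.desc fun j => Formal.smulMod A F (a j)) = ψ' ≫ kernel.ι u from (kernel.lift_ι u ψ hψu).symm,
      Functor.map_comp, appL_comp]
    exact (congrArg (appL A (T.map (kernel.ι u)) ⊤) hz).trans hy
  -- the comparison
  let πA : sec A G ⊤ →+ sec κ H ⊤ := AddMonoidHom.mk' (fun x => (appL A π ⊤ x : Γ(H, ⊤)))
    fun x y => (map_add (appL A π ⊤) x y)
  letI : Module A (sec κ H ⊤) := Module.compHom _ (algebraMap A κ)
  haveI : IsScalarTower A κ (sec κ H ⊤) := .of_algebraMap_smul fun _ _ => rfl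
  let πl : sec A G ⊤ →ₗ[A] sec κ H ⊤ :=
    { toFun := πA
      map_add' := πA.map_add
      map_smul' := fun c x => (map_smul (appL A π ⊤) c x).trans (push_smul hsq H c _) }
  let Φ : κ ⊗[A] sec A G ⊤ →ₗ[κ] sec κ H ⊤ := LinearMap.liftBaseChange κ πl
  have hΦ : Function.Bijective Φ := by
    have hone : ∀ z : κ ⊗[A] sec A G ⊤, ∃ x, z = (1 : κ) ⊗ₜ x := by
      intro z
      induction z using TensorProduct.induction_on with
      | zero => exact ⟨0, (TensorProduct.tmul_zero _ _).symm⟩
      | add z z' h h' =>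
        obtain ⟨x, rfl⟩ := h
        obtain ⟨x', rfl⟩ := h'
        exact ⟨x + x', (TensorProduct.tmul_add _ _ _).symm⟩
      | tmul c x =>
        obtain ⟨b, rfl⟩ := hφ c
        exact ⟨b • x, by rw [TensorProduct.tmul_smul, TensorProduct.smul_tmul', Algebra.smul_def, mul_one]⟩
    have hval : ∀ x, Φ ((1 : κ) ⊗ₜ x) = πl x := fun x => by
      rw [LinearMap.liftBaseChange_tmul, one_smul]
    refine ⟨(injective_iff_map_eq_zero _).2 fun z hz => ?_, fun y => ?_⟩
    · obtain ⟨x, rfl⟩ := hone z
      rw [hval] at hz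
      have hx := hπker x hz
      clear hz
      induction hx using Submodule.smul_induction_on' with
      | smul c hc x _ => rw [TensorProduct.tmul_smul, TensorProduct.smul_tmul', Algebra.smul_def,
          RingHom.mem_ker.1 hc, zero_mul, TensorProduct.zero_tmul]
      | add x _ y _ hx hy => rw [TensorProduct.tmul_add, hx, hy, add_zero]
    · obtain ⟨x, hx⟩ := hπsurj (show Γ(H, ⊤) from y)
      exact ⟨1 ⊗ₜ x, (hval x).trans hx⟩
  rw [(LinearEquiv.ofBijective Φ hΦ).finrank_eq]
  -- vanishing on the fibre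
  obtain ⟨eH⟩ := H11Ample.exists_iso_pullback_tensorPow q hL n
  let eG : (Scheme.Modules.pullback q).obj G ≅ H := H25Theta.pT q F N
  rw [H25Euler.euler_congr eG, H25Euler.euler_eq_sum H 1 fun p hp => ?_]
  · rw [Finset.sum_range_one, pow_zero, one_mul, Nat.cast_inj]
    refine (LinearEquiv.finrank_eq (LinearEquiv.symm
      { H29RR.sec H with map_smul' := fun c x => ?_ }))
    show H29RR.sec H (c • x) = _
    rw [H29RR.sec_smul]
    refine congrArg (· • H29RR.sec H x) ?_
    exact congr($((Scheme.Hom.app_eq_appLE (X' ↘ Spec (CommRingCat.of κ)) (U := ⊤)))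
      ((Scheme.ΓSpecIso (CommRingCat.of κ)).inv c))
  · obtain ⟨p, rfl⟩ := Nat.exists_eq_succ_of_ne_zero (by omega : p ≠ 0)
    have e : CohB1.tensorMod qF' (CohB1.tensorPow ((Scheme.Modules.pullback q).obj L) n) ≅ H :=
      PicGrp.tensorModIso (Iso.refl _) eH.symm
    exact (H10Coh.HHEquiv H (p + 1)).toEquiv.subsingleton_congr.2
      (H10Coh.Tw.subsingleton_of_iso e (hn₃ n (by omega) (p + 1) p.succ_pos))

end Fibre

end Groth.Agent.H22Alg.TwistFibre
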