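import Groth.Agent.H22Alg.TwistFibre
import Groth.Agent.S0034
import Groth.Agent.H06FlatCx.FibreDim

/-! # Sections of high twists on the fibre at a point of an affine base. -/

set_option autoImplicit false
set_option linter.style.haveILetI false
set_option linter.unusedSectionVars false

universe u

open CategoryTheory CategoryTheory.Limits AlgebraicGeometry Opposite TopologicalSpace
open scoped TensorProduct

noncomputable section

namespace Groth.Agent.H22Alg.TwistFibre

open Groth.Agent.LeadBC Groth.Agent.LeadFF Groth.Agent.H10Coh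
open Groth.Agent.H25Theta (pb pT pC pI tI pO)

attribute [local instance 10000] H10Coh.hasSheafifyAb H10Coh.hasWeakSheafifyAb H10Coh.hasExtAb H10Coh.enoughInjAb

variable {A : Type u} [CommRing A] {X : Scheme.{u}} [X.Over (Spec (CommRingCat.of A))]

theorem sec_smul_base (G : X.Modules) (c : A) (x : Coh.HH X G 0) :
    H29RR.sec G (c • x) = LeadBC.sc A (⊤ : X.Opens) c • H29RR.sec G x := by
  show H10Coh.H0Equiv _ _ (H10Coh.HHEquiv G 0 (c • x)) = _
  rw [H10Coh.HHEquiv_smul']
  erw [H10Coh.compMk₀_apply, H10Coh.H0Equiv_map]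
  refine Eq.trans ?_ (congrArg (· • H29RR.sec G x)
    (congr($((Scheme.Hom.app_eq_appLE (X ↘ Spec (CommRingCat.of A)) (U := ⊤)))
      ((Scheme.ΓSpecIso (CommRingCat.of A)).inv c))))
  change @HSMul.hSMul (X.ringCatSheaf.obj.obj (op ⊤)) (G.val.obj (op ⊤)) (G.val.obj (op ⊤)) _
    (Coh.resTop X (op ⊤) (H10Coh.globA c)) _ = _
  simp only [Coh.resTop, Subsingleton.elim (homOfLE (le_top (a := (⊤ : X.Opens)))) (𝟙 _)]
  erw [CategoryTheory.Functor.map_id]
  rfl

/-- `H⁰` as sections, linearly over the base. -/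
def hh0Lin (G : X.Modules) : Coh.HH X G 0 ≃ₗ[A] sec A G ⊤ :=
  { toFun := fun x => (show Γ(G, ⊤) from H29RR.sec G x)
    invFun := fun z => (H29RR.sec G).symm (show Γ(G, ⊤) from z)
    left_inv := fun x => (H29RR.sec G).symm_apply_apply x
    right_inv := fun z => (H29RR.sec G).apply_symm_apply (show Γ(G, ⊤) from z)
    map_add' := fun x y => map_add (H29RR.sec G) x y
    map_smul' := fun c x => sec_smul_base G c x }

/-- For large twists, the fibre dimensions of the sections are the Euler characteristics of the fibre. -/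
theorem exists_fibDim_eq_euler [IsNoetherianRing A] [IsProper (X ↘ Spec (CommRingCat.of A))]
    {L : X.Modules} (hA : CohB1.IsAmple L) (F : X.Modules) (hF : Coh.IsCoh F) (y : PrimeSpectrum A) :
    ∃ n₀ : ℕ, ∀ n : ℕ, n₀ ≤ n →
      (H06FlatCx.fibDim (A := A) (Coh.HH X (CohB1.tensorMod F (CohB1.tensorPow L n)) 0) y : ℤ) =
        @Curv2.euler ((Spec (CommRingCat.of A)).residueField y) _ ((X ↘ Spec (CommRingCat.of A)).fiber y)
          ⟨(X ↘ Spec (CommRingCat.of A)).fiberToSpecResidueField y⟩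
          ((Scheme.Modules.pullback ((X ↘ Spec (CommRingCat.of A)).fiberι y)).obj
            (CohB1.tensorMod F (CohB1.tensorPow L n))) := by
  let f : X ⟶ Spec (CommRingCat.of A) := X ↘ Spec (CommRingCat.of A)
  let A' := Localization.AtPrime y.asIdeal
  let K := y.asIdeal.ResidueField
  let κ := (Spec (CommRingCat.of A)).residueField y
  let ι := Scheme.Spec.residueFieldIso (CommRingCat.of A) y
  letI : Algebra A' κ := (ι.inv.hom.comp (algebraMap A' K)).toAlgebra
  letI : Algebra K κ := ι.inv.hom.toAlgebra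
  letI : Algebra A κ := (ι.inv.hom.comp (algebraMap A K)).toAlgebra
  haveI : IsScalarTower A K κ := .of_algebraMap_eq fun _ => rfl
  haveI : IsScalarTower A A' κ := .of_algebraMap_eq fun a =>
    congrArg ι.inv.hom (IsScalarTower.algebraMap_apply A A' K a)
  have hφ : Function.Surjective (algebraMap A' κ) :=
    (ConcreteCategory.bijective_of_isIso ι.inv).2.comp (IsLocalRing.residue_surjective)
  let g := Spec.map (CommRingCat.ofHom (algebraMap A A'))
  let X₁ := pullback f g
  let g' : X₁ ⟶ X := pullback.fst f g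
  letI : X₁.Over (Spec (CommRingCat.of A')) := ⟨pullback.snd f g⟩
  have hsq₁ : IsPullback g' (X₁ ↘ Spec (CommRingCat.of A')) f g := IsPullback.of_hasPullback f g
  haveI : IsProper (X₁ ↘ Spec (CommRingCat.of A')) := MorphismProperty.of_isPullback hsq₁ inferInstance
  haveI : IsAffineHom g' := LeadFF.isAffineHom_fst hsq₁
  haveI : CompactSpace X := QuasiCompact.compactSpace_of_compactSpace f
  haveI : QuasiSeparatedSpace X := quasiSeparatedSpace_of_quasiSeparated f
  haveI : IsLocallyNoetherian X₁ := LocallyOfFiniteType.isLocallyNoetherian (X₁ ↘ Spec (CommRingCat.of A'))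
  letI : (f.fiber y).Over (Spec (CommRingCat.of κ)) := ⟨f.fiberToSpecResidueField y⟩
  have e : Spec.map (CommRingCat.ofHom (algebraMap A' κ)) ≫ g =
      (Spec (CommRingCat.of A)).fromSpecResidueField y := by
    rw [← Scheme.Spec.map_residueFieldIso_inv_eq_fromSpecResidueField, ← Spec.map_comp, ← Spec.map_comp]
    congr 1
  have hcomp : (f.fiberToSpecResidueField y ≫ Spec.map (CommRingCat.ofHom (algebraMap A' κ))) ≫ g =
      f.fiberToSpecResidueField y ≫ (Spec (CommRingCat.of A)).fromSpecResidueField y :=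
    (Category.assoc _ _ _).trans (congrArg (f.fiberToSpecResidueField y ≫ ·) e)
  let q : f.fiber y ⟶ X₁ :=
    pullback.lift (f.fiberι y) (f.fiberToSpecResidueField y ≫ Spec.map (CommRingCat.ofHom (algebraMap A' κ)))
      ((f.fiber_fac y).trans hcomp.symm)
  have hq : q ≫ g' = f.fiberι y := pullback.lift_fst _ _ _
  have hsq : IsPullback q (f.fiber y ↘ Spec (CommRingCat.of κ)) (X₁ ↘ Spec (CommRingCat.of A'))
      (Spec.map (CommRingCat.ofHom (algebraMap A' κ))) := by
    refine IsPullback.of_right ?_ (pullback.lift_snd _ _ _) hsq₁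
    rw [hq, e]
    exact IsPullback.of_hasPullback f ((Spec (CommRingCat.of A)).fromSpecResidueField y)
  have hL : PicF.IsInvertible L := (H11Ample.isAmple_iff.1 hA).1
  obtain ⟨n₀, hn₀⟩ := exists_rank_eq_euler hsq hφ (H11Ample.isAmple_pullback_of_isAffineHom g' hA)
    (pb g' F) (H17.ConsProp.isCoh_pullback g' hF)
  refine ⟨n₀, fun n hn => ?_⟩
  let G := CohB1.tensorMod F (CohB1.tensorPow L n)
  have hG : Coh.IsCoh G := H11Ample.isCoh_tensor hF (H11Ample.isInvertible_tensorPow hL n)
  obtain ⟨eL⟩ := H11Ample.exists_iso_pullback_tensorPow g' hL n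
  let e₁ : pb g' G ≅ CohB1.tensorMod (pb g' F) (CohB1.tensorPow (pb g' L) n) := pT g' _ _ ≪≫ tI (Iso.refl _) eL
  haveI : G.IsQuasicoherent := hG.1
  haveI : Coh.IsQCoh G := hG.1
  obtain ⟨eB⟩ := Groth.Agent.S0034.result A A' X X₁ g' hsq₁ G 0
  let M' := Coh.HH X₁ (CohB1.tensorMod (pb g' F) (CohB1.tensorPow (pb g' L) n)) 0
  let eM : A' ⊗[A] Coh.HH X G 0 ≃ₗ[A'] M' :=
    eB.trans (((LeadBC.HMod A' (X := X₁) 0).mapIso e₁).toLinearEquiv)
  let e₂ : pb (f.fiberι y) G ≅ pb q (CohB1.tensorMod (pb g' F) (CohB1.tensorPow (pb g' L) n)) :=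
    (pC q g' hq G).symm ≪≫ (Scheme.Modules.pullback q).mapIso e₁
  rw [H25Euler.euler_congr e₂, ← hn₀ n hn]
  congr 1
  calc H06FlatCx.fibDim (A := A) (Coh.HH X G 0) y
      = Module.finrank κ (κ ⊗[K] (K ⊗[A] Coh.HH X G 0)) := (Module.finrank_baseChange).symm
    _ = Module.finrank κ (κ ⊗[A] Coh.HH X G 0) :=
        (TensorProduct.AlgebraTensorModule.cancelBaseChange A K κ κ _).finrank_eq
    _ = Module.finrank κ (κ ⊗[A'] (A' ⊗[A] Coh.HH X G 0)) :=
        ((TensorProduct.AlgebraTensorModule.cancelBaseChange A A' κ κ _).symm).finrank_eq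
    _ = _ := (TensorProduct.AlgebraTensorModule.congr (LinearEquiv.refl κ κ) (eM.trans (hh0Lin _))).finrank_eq

end Groth.Agent.H22Alg.TwistFibre
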