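import Groth.Agent.H22Alg.KExists
import Groth.Agent.H22Alg.PB.Kos
import Groth.Agent.H28RR.Omega
import Groth.Agent.H17.FLI.ProjTop
import Groth.Agent.H25Euler.Additive
import Groth.Agent.H25Euler.Degree
import Groth.Agent.H10Coh.AffineAmple
import Groth.Agent.S8733
import Groth.Prelude.Def_Omega3
import Groth.Agent.H27Weil.Geometry

/-!
# Every vector field on projective space has a zero
-/

set_option autoImplicit false
set_option linter.style.haveILetI false
universe u

open CategoryTheory CategoryTheory.Limits AlgebraicGeometry Opposite TopologicalSpace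
attribute [local instance] HasDerivedCategory.standard

namespace Groth.Agent.H22Alg.VectorFieldZero

variable {X : Scheme.{u}}

/-- A morphism to `O` with a unit value near every point is an epimorphism. -/
theorem epi_of_isUnit_germ {M : X.Modules} (ξ : M ⟶ Coh.structureModule X)
    (h : ∀ x : X, ∃ (U : X.Opens) (hx : x ∈ U) (s : Γ(M, U)),
      IsUnit (X.presheaf.germ U x hx (OmegaSh.fnSect X U (ξ.app U s)))) : Epi ξ := by
  refine H11Tilde.epi_of_locally_surjective ξ fun W t x hxW => ?_
  obtain ⟨U, hx, s, hs⟩ := h x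
  let a : Γ(X, U) := OmegaSh.fnSect X U (ξ.app U s)
  let V : X.Opens := W ⊓ X.basicOpen a
  have hVU : V ≤ U := inf_le_right.trans (X.basicOpen_le a)
  have hu : IsUnit (X.presheaf.map (homOfLE hVU).op a) := by
    have h1 : X.presheaf.map (homOfLE hVU).op a =
        X.presheaf.map (homOfLE (inf_le_right : V ≤ X.basicOpen a)).op
          (X.presheaf.map (homOfLE (X.basicOpen_le a)).op a) := by
      rw [← ConcreteCategory.comp_apply, ← X.presheaf.map_comp]
      rfl
    rw [h1]
    exact (RingedSpace.isUnit_res_basicOpen X.toRingedSpace a).map _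
  refine ⟨V, inf_le_left, ⟨hxW, (X.mem_basicOpen a x hx).2 hs⟩, ?_⟩
  let t' : Γ(X, V) := (Coh.structureModule X).presheaf.map (homOfLE (inf_le_left : V ≤ W)).op t
  obtain ⟨c, hc⟩ : ∃ c : Γ(X, V), c * X.presheaf.map (homOfLE hVU).op a = t' := by
    obtain ⟨u, hu'⟩ := hu
    exact ⟨t' * ↑u⁻¹, by rw [← hu']; exact Units.inv_mul_cancel_right _ _⟩
  refine ⟨c • M.presheaf.map (homOfLE hVU).op s, ?_⟩
  refine (Scheme.Modules.Hom.app_smul ξ c _).trans (Eq.trans ?_ hc)
  rw [H11Tilde.app_map_apply]
  rfl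

theorem rk_structure (x : X) : KExists.rk x (Coh.structureModule X) = 1 :=
  KExists.rk_of_rank (H29RR.rank_one_of_isInvertible (PnDeg0.isInvertible_structure X)) x

theorem isZero_extPow_structure {M : X.Modules} {b : ℕ} (hb : 2 ≤ b)
    (hM : ExtPow.IsExtPow b (Coh.structureModule X) M) : IsZero M := by
  refine PB.isZero_of_rk_zero (ExtPowHom.finLocFree_of_isExtPow (KExists.finLocFree_structure X) hM) fun x => ?_
  rw [KExists.rk_extPow (KExists.finLocFree_structure X) hM, rk_structure, Nat.choose_eq_zero_of_lt (by omega)]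

variable (k : Type u) [Field k] [X.Over (Spec (CommRingCat.of k))] [IsProper (X ↘ Spec (CommRingCat.of k))]

/-- The alternating sum of Euler characteristics of exterior powers of a bundle with a trivial quotient
vanishes, for the sum up to the rank. -/
theorem sum_euler_extPow_eq_zero {E : X.Modules} {n : ℕ} (hE : FlatMod.IsFinLocFreeOfRank n E)
    (ξ : E ⟶ Coh.structureModule X) [Epi ξ] (L : ℕ → X.Modules) (hL : ∀ i, ExtPow.IsExtPow i E (L i)) :
    ∑ i ∈ Finset.range (n + 1), (-1 : ℤ) ^ i * Curv2.euler k X (L i) = 0 := by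
  classical
  haveI := H28Int.isNoetherian k (X := X)
  have hEf : FlatMod.IsFinLocFree E := KModel.finLocFree_of_rank hE
  have hO : FlatMod.IsFinLocFree (Coh.structureModule X) := KExists.finLocFree_structure X
  have hK := H10Coh.Tw.isFinLocFree_kernel ξ hEf hO
  let S : ShortComplex X.Modules := ShortComplex.mk (kernel.ι ξ) ξ (kernel.condition ξ)
  have hS : S.ShortExact := ResEuler.shortExact_kernel ξ
  have hcoh : ∀ M : X.Modules, FlatMod.IsFinLocFree M → Coh.IsCoh M := fun M hM =>
    H16Derived.KFlat.Stalk.isCoh_of_isFinLocFree hM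
  obtain ⟨χ, hχ⟩ := KModel.exists_lift (X := X) (fun M => Curv2.euler k X M) fun T hT a₁ a₂ a₃ =>
    H25Euler.euler_add hT (hcoh _ a₁) (hcoh _ a₂) (hcoh _ a₃)
  choose LA hLA using fun j => ExtPowSheaf.exists_isExtPow j (H8Props.FinLocFree.isQCoh_of_isFinLocFree _ hK)
  have hLAf := fun j => ExtPowHom.finLocFree_of_isExtPow hK (hLA j)
  have hB : ∀ j, ∃ M : X.Modules, ExtPow.IsExtPow j (Coh.structureModule X) M ∧
      (j ≤ 1 → M = Coh.structureModule X) := by
    intro j
    match j with
    | 0 => exact ⟨_, KExists.isExtPow_zero _, fun _ => rfl⟩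
    | 1 => exact ⟨_, KExists.isExtPow_one _, fun _ => rfl⟩
    | j + 2 =>
      obtain ⟨M, hM⟩ := ExtPowSheaf.exists_isExtPow (j + 2) (H8Props.FinLocFree.isQCoh_of_isFinLocFree _ hO)
      exact ⟨M, hM, fun h => absurd h (by omega)⟩
  choose LB hLB hLB' using hB
  let T : ℕ → ℕ → X.Modules := fun a b => H16Derived.KFlat.Stalk.tensor (LA a) (LB b)
  have hTf : ∀ a b, FlatMod.IsFinLocFree (T a b) := fun a b =>
    H16Derived.KFlat.Stalk.isFinLocFree_tensor (hLAf a) (ExtPowHom.finLocFree_of_isExtPow hO (hLB b))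
  let f : ℕ → ℤ := fun a => Curv2.euler k X (LA a)
  have hT1 : ∀ a b, b ≤ 1 → Curv2.euler k X (T a b) = f a := fun a b hb =>
    H25Euler.euler_congr (eqToIso (congrArg (fun M => H16Derived.KFlat.Stalk.tensor (LA a) M) (hLB' b hb)) ≪≫
      H10Coh.Tw.rightUnitIso (LA a))
  have hT2 : ∀ a b, 2 ≤ b → Curv2.euler k X (T a b) = 0 := fun a b hb =>
    H25Euler.euler_eq_zero_of_isZero
      (((DCoh.tensorBi (X := X)).obj (LA a)).map_isZero (isZero_extPow_structure hb (hLB b)))
  have hsum : ∀ i, Curv2.euler k X (L i) = ∑ a ∈ Finset.range (i + 1), Curv2.euler k X (T a (i - a)) := by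
    intro i
    have h := congrArg χ (ExtPowSES.cl_extPow_shortExact (S := S) hS hK hEf hO (hL i) LA LB hLA hLB)
    rw [hχ _ (ExtPowHom.finLocFree_of_isExtPow hEf (hL i)), map_sum] at h
    rw [h]
    exact Finset.sum_congr rfl fun a _ => hχ _ (hTf a (i - a))
  have h0 : Curv2.euler k X (L 0) = f 0 := by
    rw [hsum 0, Finset.sum_range_one, hT1 0 _ (by omega)]
  have hsucc : ∀ i, Curv2.euler k X (L (i + 1)) = f i + f (i + 1) := by
    intro i
    rw [hsum (i + 1), Finset.sum_range_succ, Finset.sum_range_succ, hT1 i _ (by omega), hT1 (i + 1) _ (by omega)]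
    rw [Finset.sum_eq_zero fun a ha => hT2 a _ (by rw [Finset.mem_range] at ha; omega), zero_add]
  have key : ∀ m, ∑ i ∈ Finset.range (m + 1), (-1 : ℤ) ^ i * Curv2.euler k X (L i) = (-1) ^ m * f m := by
    intro m
    induction m with
    | zero => rw [Finset.sum_range_one, h0]
    | succ m ih => rw [Finset.sum_range_succ, ih, hsucc, pow_succ]; ring
  have hn : f n = 0 := by
    refine H25Euler.euler_eq_zero_of_isZero (PB.isZero_of_rk_zero (hLAf n) fun x => ?_)
    rw [KExists.rk_extPow hK (hLA n)]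
    refine Nat.choose_eq_zero_of_lt ?_
    have h := KExists.rk_add hS hK hO x
    rw [show S.X₁ = kernel ξ from rfl, show S.X₃ = Coh.structureModule X from rfl, rk_structure,
      show S.X₂ = E from rfl, KExists.rk_of_rank hE] at h
    omega
  rw [key, hn, mul_zero]

/-- A morphism `Ω → O` on projective space vanishes at some point. -/
theorem exists_zero (n : ℕ)
    (ξ : Omega.sheaf (CohB1.ProjSpace.toSpec n k) ⟶ Coh.structureModule (CohB1.ProjSpace n k)) :
    ∃ x : ↥(CohB1.ProjSpace n k), ∀ (U : (CohB1.ProjSpace n k).Opens) (hx : x ∈ U)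
      (s : Γ(Omega.sheaf (CohB1.ProjSpace.toSpec n k), U)),
      (CohB1.ProjSpace n k).presheaf.germ U x hx (OmegaSh.fnSect (CohB1.ProjSpace n k) U (ξ.app U s)) ∈
        IsLocalRing.maximalIdeal ((CohB1.ProjSpace n k).presheaf.stalk x) := by
  let P := CohB1.ProjSpace n k
  letI : P.Over (Spec (CommRingCat.of k)) := ⟨CohB1.ProjSpace.toSpec n k⟩
  haveI : IsProper (P ↘ Spec (CommRingCat.of k)) := H27Weil.isProper_toSpec n k
  haveI : IsIntegral P := LeadPic.PnRel.isIntegral_projSpace (n := n) k
  haveI : QuasiSeparated (CohB1.ProjSpace.toSpec n k) := inferInstance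
  have hΩ : FlatMod.IsFinLocFreeOfRank n (Omega.sheaf (CohB1.ProjSpace.toSpec n k)) :=
    H28RR.isFinLocFreeOfRank_omega _ n
  by_contra hne
  push Not at hne
  haveI : Epi ξ := epi_of_isUnit_germ ξ fun x => by
    obtain ⟨U, hx, s, hs⟩ := hne x
    exact ⟨U, hx, s, IsLocalRing.notMem_maximalIdeal.1 hs⟩
  have hΩf := KModel.finLocFree_of_rank hΩ
  choose L hL using fun i =>
    ExtPowSheaf.exists_isExtPow i (H8Props.FinLocFree.isQCoh_of_isFinLocFree _ hΩf)
  rcases Nat.eq_zero_or_pos n with rfl | hn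
  · -- in dimension zero there are no differentials
    have hz : IsZero (Omega.sheaf (CohB1.ProjSpace.toSpec 0 k)) :=
      PB.isZero_of_rk_zero hΩf fun x => KExists.rk_of_rank hΩ x
    obtain ⟨U, hx, s, hs⟩ := hne (genericPoint P)
    refine hs ?_
    rw [hz.eq_of_src ξ 0]
    simp
  · have h := sum_euler_extPow_eq_zero k hΩ ξ L hL
    have hone : ∀ i ∈ Finset.range (n + 1), (-1 : ℤ) ^ i * Curv2.euler k P (L i) = 1 := by
      intro i hi
      rw [Finset.mem_range] at hi
      obtain ⟨hv, hf⟩ := S8733.result k n hn i (L i) (hL i)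
      rw [Curv2.euler, finsum_eq_single _ i fun p hp => ?_, hf (by omega), ← mul_assoc, ← mul_pow]
      · norm_num
      · haveI := hv p (Or.inl hp)
        rw [Module.finrank_zero_of_subsingleton]
        simp
    rw [Finset.sum_congr rfl hone] at h
    simp at h
    omega

end Groth.Agent.H22Alg.VectorFieldZero
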