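import Mathlib

/-! # Very general closed points over uncountable fields. -/

set_option autoImplicit false
set_option linter.style.haveILetI false
universe u

open CategoryTheory AlgebraicGeometry TopologicalSpace

noncomputable section

namespace Groth.Agent.H22Alg.VeryGeneral

variable (k : Type u) [Field k] [Uncountable k]

theorem exists_eval_ne_zero : ∀ (d : ℕ) {ι : Type} [Countable ι] (h : ι → MvPolynomial (Fin d) k),
    (∀ i, h i ≠ 0) → ∃ a : Fin d → k, ∀ i, MvPolynomial.eval a (h i) ≠ 0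
  | 0, _, _, h, hh => by
    refine ⟨Fin.elim0, fun i hi => hh i ?_⟩
    apply MvPolynomial.ext
    intro m
    have hm : m = 0 := Subsingleton.elim _ _
    rw [hm, MvPolynomial.coeff_zero]
    rw [MvPolynomial.eq_C_of_isEmpty (h i), MvPolynomial.eval_C] at hi
    simpa [MvPolynomial.constantCoeff_eq] using hi
  | d + 1, ι, _, h, hh => by
    have hc : ∀ i, ∃ j, (MvPolynomial.finSuccEquiv k d (h i)).coeff j ≠ 0 := fun i => by
      by_contra hn
      simp only [not_exists, not_not] at hn
      exact hh i ((MvPolynomial.finSuccEquiv k d).injective (by rw [map_zero]; exact Polynomial.ext fun j => by simp [hn j]))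
    choose j hj using hc
    obtain ⟨b, hb⟩ := exists_eval_ne_zero d (fun i => (MvPolynomial.finSuccEquiv k d (h i)).coeff (j i)) hj
    let p : ι → Polynomial k := fun i => (MvPolynomial.finSuccEquiv k d (h i)).map (MvPolynomial.eval b)
    have hp : ∀ i, p i ≠ 0 := fun i h0 => hb i (by
      have := congrArg (fun q : Polynomial k => q.coeff (j i)) h0
      simpa [p, Polynomial.coeff_map] using this)
    have hcount : (⋃ i, {t : k | (p i).IsRoot t}).Countable :=
      Set.countable_iUnion fun i => (Polynomial.finite_setOfPred_isRoot (hp i)).countable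
    obtain ⟨t, ht⟩ : ∃ t : k, t ∉ ⋃ i, {t : k | (p i).IsRoot t} := by
      by_contra hn
      simp only [not_exists, not_not] at hn
      exact Set.not_countable_univ (hcount.mono fun x _ => hn x)
    refine ⟨Fin.cons t b, fun i hi => ht (Set.mem_iUnion.2 ⟨i, ?_⟩)⟩
    show (p i).eval t = 0
    rwa [MvPolynomial.eval_eq_eval_mv_eval'] at hi

/-- A finite type domain has a maximal ideal avoiding countably many nonzero elements. -/
theorem exists_maximal (A : Type u) [CommRing A] [IsDomain A] [Algebra k A] [Algebra.FiniteType k A]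
    {ι : Type} [Countable ι] (f : ι → A) (hf : ∀ i, f i ≠ 0) :
    ∃ m : Ideal A, m.IsMaximal ∧ ∀ i, f i ∉ m := by
  obtain ⟨d, g, hg, hfin⟩ := exists_finite_inj_algHom_of_fg k A
  letI := g.toRingHom.toAlgebra
  haveI : Algebra.IsIntegral (MvPolynomial (Fin d) k) A := ⟨RingHom.IsIntegral.of_finite hfin⟩
  haveI : FaithfulSMul (MvPolynomial (Fin d) k) A := (faithfulSMul_iff_algebraMap_injective _ _).2 hg
  have hne : ∀ i, ∃ h : MvPolynomial (Fin d) k, h ≠ 0 ∧ algebraMap (MvPolynomial (Fin d) k) A h ∈ Ideal.span {f i} :=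
    fun i => by
    have h := Ideal.comap_ne_bot_of_integral_mem (R := MvPolynomial (Fin d) k) (hf i)
      (Ideal.mem_span_singleton_self (f i)) (Algebra.IsIntegral.isIntegral _)
    obtain ⟨x, hx, hx0⟩ := Submodule.exists_mem_ne_zero_of_ne_bot h
    exact ⟨x, hx0, hx⟩
  choose h hh0 hh using hne
  obtain ⟨a, ha⟩ := exists_eval_ne_zero k d h hh0
  let P : Ideal (MvPolynomial (Fin d) k) := RingHom.ker (MvPolynomial.eval a)
  haveI : P.IsMaximal := RingHom.ker_isMaximal_of_surjective _ fun c => ⟨MvPolynomial.C c, by simp⟩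
  obtain ⟨Q, hQ, hQP⟩ := Ideal.exists_maximal_ideal_liesOver_of_isIntegral (S := A) P
  refine ⟨Q, hQ, fun i hi => ha i ?_⟩
  have : h i ∈ Q.comap (algebraMap (MvPolynomial (Fin d) k) A) :=
    (Ideal.span_singleton_le_iff_mem _).2 hi (hh i)
  rw [← Ideal.under_def, ← hQP.over] at this
  exact this

/-- In every nonempty open of an irreducible scheme of finite type there is a closed point outside
countably many proper closed subsets. -/
theorem exists_closed_point {X : Scheme.{u}} (sX : X ⟶ Spec (CommRingCat.of k)) [LocallyOfFiniteType sX]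
    [IrreducibleSpace X] (W : X.Opens) (hW : (W : Set X).Nonempty)
    {ι : Type} [Countable ι] (Z : ι → Closeds X) (hZ : ∀ i, (Z i : Set X) ≠ Set.univ) :
    ∃ x ∈ W, IsClosed ({x} : Set X) ∧ ∀ i, x ∉ Z i := by
  obtain ⟨x₀, hx₀⟩ := hW
  obtain ⟨U, hU, hxU, hUW⟩ := exists_isAffineOpen_mem_and_subset (U := W) hx₀
  let A := Γ(X, U)
  let φ := (sX.appLE ⊤ U le_top).hom.comp (Scheme.ΓSpecIso (CommRingCat.of k)).inv.hom
  have hφ : φ.FiniteType := by
    refine RingHom.FiniteType.comp ?_
      (RingHom.FiniteType.of_surjective _ (ConcreteCategory.bijective_of_isIso (Scheme.ΓSpecIso (CommRingCat.of k)).inv).2)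
    exact sX.finiteType_appLE (isAffineOpen_top _) hU le_top
  let η := genericPoint X
  have hηU : η ∈ U := ((genericPoint_spec X).mem_open_set_iff U.isOpen).2 ⟨x₀, trivial, hxU⟩
  let P := (hU.primeIdealOf ⟨η, hηU⟩).asIdeal
  have hZη : ∀ i, η ∉ Z i := fun i hi => hZ i (Set.eq_univ_of_forall fun y =>
    ((genericPoint_spec X).specializes trivial).mem_closed (Z i).isClosed hi)
  have hex : ∀ i, ∃ f : A, hU.fromSpec (hU.primeIdealOf ⟨η, hηU⟩) ∈ X.basicOpen f ∧
      (X.basicOpen f : Set X) ⊆ (Z i : Set X)ᶜ := fun i => by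
    obtain ⟨f, hf1, hf2⟩ := hU.exists_basicOpen_le (V := ⟨(Z i : Set X)ᶜ, (Z i).isClosed.isOpen_compl⟩)
      ⟨η, hZη i⟩ hηU
    exact ⟨f, by rw [hU.fromSpec_primeIdealOf]; exact hf2, hf1⟩
  choose f hf hfZ using hex
  have hfP : ∀ i, Ideal.Quotient.mk P (f i) ≠ 0 := fun i h0 => by
    have h1 : hU.primeIdealOf ⟨η, hηU⟩ ∈ hU.fromSpec ⁻¹ᵁ X.basicOpen (f i) := hf i
    rw [hU.fromSpec_preimage_basicOpen] at h1
    exact h1 (Ideal.Quotient.eq_zero_iff_mem.1 h0)
  letI : Algebra k A := φ.toAlgebra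
  haveI : Algebra.FiniteType k A := hφ
  haveI : Algebra.FiniteType k (A ⧸ P) :=
    Algebra.FiniteType.of_surjective (Ideal.Quotient.mkₐ k P) Ideal.Quotient.mk_surjective
  obtain ⟨m, hm, hfm⟩ := exists_maximal k (A ⧸ P) (fun i => Ideal.Quotient.mk P (f i)) hfP
  let M : PrimeSpectrum A := ⟨m.comap (Ideal.Quotient.mk P), inferInstance⟩
  haveI : M.asIdeal.IsMaximal := Ideal.comap_isMaximal_of_surjective _ Ideal.Quotient.mk_surjective
  have hxU' : hU.fromSpec M ∈ U := hU.range_fromSpec.le ⟨M, rfl⟩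
  refine ⟨hU.fromSpec M, hUW hxU', ?_, fun i hi => ?_⟩
  · haveI : JacobsonSpace X := LocallyOfFiniteType.jacobsonSpace sX
    have h2 : M ∈ closedPoints (PrimeSpectrum A) := (PrimeSpectrum.isClosed_singleton_iff_isMaximal M).2 inferInstance
    have h3 := hU.fromSpec.isOpenEmbedding.preimage_closedPoints
    exact h3.ge h2
  · have : hU.fromSpec M ∈ X.basicOpen (f i) := by
      have h1 : M ∈ hU.fromSpec ⁻¹ᵁ X.basicOpen (f i) := by
        rw [hU.fromSpec_preimage_basicOpen]
        exact hfm i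
      exact h1
    exact hfZ i this hi

end Groth.Agent.H22Alg.VeryGeneral
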