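import Groth.Agent.H22Alg.VolHigh
import Groth.Agent.H22Alg.SectionCut
import Groth.Agent.H17.PrimaryDecomp
import Groth.Agent.H28Int.Core

/-! # A uniform bound on a family of coherent modules cut by hyperplanes. -/

set_option autoImplicit false
set_option linter.style.haveILetI false
set_option linter.unusedSectionVars false

universe u

open CategoryTheory CategoryTheory.Limits AlgebraicGeometry TopologicalSpace
open Groth.Agent.H11Ample Groth.Agent.H25Index

noncomputable section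

namespace Groth.Agent.H22Alg.VolFam

open VolHigh (delta)

variable {X : Scheme.{u}}

/-- `A₂'^b ⊗ A₁^a`. -/
abbrev W (A₁ A₂' : X.Modules) (b a : ℕ) : X.Modules :=
  CohB1.tensorMod (CohB1.tensorPow A₂' b) (CohB1.tensorPow A₁ a)

theorem isInvertible_W {A₁ A₂' : X.Modules} (h₁ : PicF.IsInvertible A₁) (h₂ : PicF.IsInvertible A₂') (b a : ℕ) :
    PicF.IsInvertible (W A₁ A₂' b a) :=
  isInvertible_tensor (isInvertible_tensorPow h₂ b) (isInvertible_tensorPow h₁ a)

/-- A closed subset of a closed set missing finitely many generizing points has smaller dimension. -/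
theorem exists_avoid_set [IsNoetherian X] {C : Set X} (hC : IsClosed C) :
    ∃ S : Set X, S.Finite ∧ ∀ {T : Set X}, IsClosed T → T ⊆ C → (∀ x ∈ T, x ∉ S) → ∀ {r : ℕ},
      topologicalKrullDim C < ((r + 1 : ℕ) : WithBot ℕ∞) → topologicalKrullDim T < (r : WithBot ℕ∞) := by
  haveI : QuasiSober C := hC.isClosedEmbedding_subtypeVal.quasiSober
  obtain ⟨Z, hZ, hgen⟩ := H25Euler.exists_finite_generizing C
  refine ⟨Subtype.val '' Z, hZ.image _, fun {T} hT hsub hav {r} hd => ?_⟩
  have h := H25Euler.dim_lt_of_forall_ne (Y := C) (Subtype.val ⁻¹' T) (hT.preimage continuous_subtype_val)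
    (fun y _ => by
      obtain ⟨η, hη, hs⟩ := hgen y
      exact ⟨η, hs, fun hT' => hav _ hT' ⟨η, hη, rfl⟩⟩) hd
  let e : T ≃ₜ (Subtype.val ⁻¹' T : Set C) :=
    { toFun := fun x => ⟨⟨x.1, hsub x.2⟩, x.2⟩
      invFun := fun x => ⟨x.1.1, x.2⟩
      left_inv := fun _ => rfl
      right_inv := fun _ => rfl }
  rwa [e.isHomeomorph.topologicalKrullDim_eq]

variable (k : Type u) [Field k] [X.Over (Spec (CommRingCat.of k))] [IsProper (X ↘ Spec (CommRingCat.of k))]

/-- Bounded intersection symbols give polynomially bounded Euler characteristics of twists. -/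
theorem abs_D_pow_le [IsNoetherian X] {A : X.Modules} (hA : PicF.IsInvertible A) {F : X.Modules} (hF : Coh.IsCoh F)
    {r : ℕ} (hd : topologicalKrullDim (CohB1.support F) < ((r + 1 : ℕ) : WithBot ℕ∞)) {S : ℤ} (hS : 0 ≤ S)
    (hB : ∀ j, j ≤ r → |H28Int.D k (List.replicate j A) F| ≤ S) :
    ∀ a j, j ≤ r → |H28Int.D k (List.replicate j A) (CohB1.tensorMod F (CohB1.tensorPow A a))| ≤
      S * (a + 1) ^ (r - j) := by
  have hl : ∀ j, ∀ B ∈ List.replicate j A, PicF.IsInvertible B := fun j B hB =>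
    (List.eq_of_mem_replicate hB).symm ▸ hA
  intro a
  induction a with
  | zero =>
    intro j hj
    show |H28Int.D k (List.replicate j A) (CohB1.tensorMod F (Coh.structureModule X))| ≤ _
    rw [(H28Int.isAddFn_D k _ (hl j)).congr (H10Coh.Tw.rightUnitIso F)]
    simpa using hB j hj
  | succ a ih =>
    intro j hj
    have hFa := isCoh_tensor hF (isInvertible_tensorPow hA a)
    have e : H28Int.D k (List.replicate j A) (CohB1.tensorMod F (CohB1.tensorPow A (a + 1))) =
        H28Int.D k (List.replicate j A) (CohB1.tensorMod F (CohB1.tensorPow A a)) -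
          H28Int.D k (List.replicate (j + 1) A) (CohB1.tensorMod F (CohB1.tensorPow A a)) := by
      show _ = _ - (H28Int.D k (List.replicate j A) _ - H28Int.D k (List.replicate j A) (CohB1.tensorMod A _))
      rw [sub_sub_cancel]
      exact (H28Int.isAddFn_D k _ (hl j)).congr ((H10Coh.Tw.assoc F _ A).symm ≪≫ H10Coh.Tw.commIso _ A)
    have h1 := ih j hj
    rw [e]
    rcases hj.eq_or_lt with rfl | hlt
    · rw [H28Int.D_eq_zero k _ (hl (j + 1)) _ hFa (by
        rw [List.length_replicate]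
        exact lt_of_le_of_lt (H28Int.dim_le_of_subset (H25Euler.support_tensor_subset _ _)) hd), sub_zero]
      simpa using h1
    · obtain ⟨d, rfl⟩ := Nat.exists_eq_add_of_lt hlt
      have h2 := ih (j + 1) (by omega)
      rw [show j + d + 1 - j = d + 1 by omega] at h1 ⊢
      rw [show j + d + 1 - (j + 1) = d by omega] at h2
      refine (abs_sub _ _).trans ((add_le_add h1 h2).trans ?_)
      push_cast
      have hpow : ((a : ℤ) + 1) ^ d ≤ ((a : ℤ) + 1 + 1) ^ d := pow_le_pow_left₀ (by positivity) (by omega) d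
      nlinarith [mul_le_mul_of_nonneg_left hpow (mul_nonneg hS (by positivity : (0 : ℤ) ≤ (a : ℤ) + 1 + 1)),
        pow_succ ((a : ℤ) + 1) d, pow_succ ((a : ℤ) + 1 + 1) d]

/-- Euler characteristics of all invertible twists which do not depend on the member give bounded symbols. -/
theorem exists_bound_D_of_euler_eq [IsNoetherian X] {P : X.Modules → Prop} (f : X.Modules → ℤ)
    (hP : ∀ F, P F → Coh.IsCoh F)
    (h : ∀ F, P F → ∀ M : X.Modules, PicF.IsInvertible M → Curv2.euler k X (CohB1.tensorMod F M) = f M) :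
    ∀ l : List X.Modules, (∀ A ∈ l, PicF.IsInvertible A) → ∀ M : X.Modules, PicF.IsInvertible M →
      ∃ B : ℤ, ∀ F, P F → |H28Int.D k l (CohB1.tensorMod F M)| ≤ B
  | [], _, M, hM => ⟨|f M|, fun F hF => (congrArg _ (h F hF M hM)).le⟩
  | A :: l, hl, M, hM => by
    have hl' := fun B hB => hl B (List.mem_cons_of_mem A hB)
    have hA := hl A List.mem_cons_self
    obtain ⟨B₁, h₁⟩ := exists_bound_D_of_euler_eq f hP h l hl' M hM
    obtain ⟨B₂, h₂⟩ := exists_bound_D_of_euler_eq f hP h l hl' _ (isInvertible_tensor hM hA)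
    refine ⟨B₁ + B₂, fun F hF => ?_⟩
    show |H28Int.D k l _ - H28Int.D k l _| ≤ _
    rw [(H28Int.isAddFn_D k l hl').congr (H10Coh.Tw.commIso A _ ≪≫ H10Coh.Tw.assoc F M A)]
    exact (abs_sub _ _).trans (add_le_add (h₁ F hF) (h₂ F hF))

/-- The uniform bound. -/
theorem bound [IsNoetherian X] {A₁ A₂ A₂' : X.Modules} (hA₁ : CohB1.IsAmple A₁) (hA₂ : PicF.IsInvertible A₂)
    (hA₂' : PicF.IsInvertible A₂') (e₂ : Nonempty (CohB1.tensorMod A₂ A₂' ≅ Coh.structureModule X))
    (avoid : ∀ S : Set X, S.Finite → ∃ s : Coh.structureModule X ⟶ A₂, S ⊆ (CohB1.genLocus A₂ s : Set X)) :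
    ∀ (r : ℕ) (P : X.Modules → Prop),
      (∀ F, P F → Coh.IsCoh F ∧ topologicalKrullDim (CohB1.support F) < (r : WithBot ℕ∞)) →
      (∀ e, e ≤ r → ∃ a₀ : ℕ, ∀ F, P F → ∀ a, a₀ ≤ a → ∀ q, 0 < q →
        hd k (CohB1.tensorMod F (W A₁ A₂' e a)) q = 0) →
      (∀ e, e ≤ r → ∀ j, ∃ B : ℤ, ∀ F, P F →
        |H28Int.D k (List.replicate j A₁) (CohB1.tensorMod F (CohB1.tensorPow A₂' e))| ≤ B) →
      ∃ C a₁ : ℕ, ∀ F, P F → ∀ a, a₁ ≤ a → ∀ b i,
        hd k (CohB1.tensorMod F (W A₁ A₂' b a)) i ≤ C * delta r (a + b)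
  | 0, P, hP, _, _ => ⟨0, 0, fun F hF a _ b i => by
      refine (H12Pic.NumTriv.hd_zero_of_isZero k (H12Pic.NumTriv.isZero_tensor ?_ _) i).le.trans (Nat.zero_le _)
      by_contra hne
      refine not_le.2 (hP F hF).2 ?_
      haveI := (H25Euler.support_nonempty hne).to_subtype
      haveI : Nonempty (IrreducibleCloseds (CohB1.support F)) :=
        ⟨⟨_, isIrreducible_singleton.closure, isClosed_closure (s := {Classical.arbitrary (CohB1.support F)})⟩⟩
      rw [Nat.cast_zero]
      exact Order.krullDim_nonneg⟩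
  | r + 1, P, hP, hvan, hbd => by
    classical
    obtain ⟨e₂⟩ := e₂
    let P' : X.Modules → Prop := fun G => Coh.IsCoh G ∧ topologicalKrullDim (CohB1.support G) < (r : WithBot ℕ∞) ∧
      ∃ (F : X.Modules) (φ : F ⟶ CohB1.tensorMod F A₂), P F ∧ Mono φ ∧
        Nonempty (G ≅ CohB1.tensorMod (cokernel φ) A₂')
    have iW : ∀ (F : X.Modules) (b a : ℕ),
        CohB1.tensorMod (CohB1.tensorMod F A₂) (W A₁ A₂' (b + 1) a) ≅ CohB1.tensorMod F (W A₁ A₂' b a) := fun F b a =>
      H10Coh.Tw.assoc F A₂ _ ≪≫ PicGrp.tensorModIso (Iso.refl F) ((H10Coh.Tw.assoc A₂ _ _).symm ≪≫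
        PicGrp.tensorModIso ((H10Coh.Tw.assoc A₂ (CohB1.tensorPow A₂' b) A₂').symm ≪≫
          H12Pic.NumTriv.swapIso _ _ _ ≪≫ PicGrp.tensorModIso e₂ (Iso.refl _) ≪≫ H10Coh.Tw.leftUnitIso _) (Iso.refl _))
    have iG : ∀ (Q : X.Modules) (b a : ℕ),
        CohB1.tensorMod Q (W A₁ A₂' (b + 1) a) ≅ CohB1.tensorMod (CohB1.tensorMod Q A₂') (W A₁ A₂' b a) := fun Q b a =>
      PicGrp.tensorModIso (Iso.refl Q) (PicGrp.tensorModIso (H10Coh.Tw.commIso _ A₂') (Iso.refl _) ≪≫
        H10Coh.Tw.assoc A₂' _ _) ≪≫ (H10Coh.Tw.assoc Q A₂' _).symm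
    -- the three sequences of a member
    have hseq : ∀ (F : X.Modules) (φ : F ⟶ CohB1.tensorMod F A₂), P F → Mono φ → ∀ b a i,
        hd k (CohB1.tensorMod F (W A₁ A₂' (b + 1) a)) i ≤ hd k (CohB1.tensorMod F (W A₁ A₂' b a)) i +
            hd k (CohB1.tensorMod (CohB1.tensorMod (cokernel φ) A₂') (W A₁ A₂' b a)) (i - 1) ∧
          hd k (CohB1.tensorMod (CohB1.tensorMod (cokernel φ) A₂') (W A₁ A₂' b a)) i ≤
            hd k (CohB1.tensorMod F (W A₁ A₂' b a)) i + hd k (CohB1.tensorMod F (W A₁ A₂' (b + 1) a)) (i + 1) := by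
      intro F φ hF hφ b a i
      haveI := hφ
      have hFc := (hP F hF).1
      obtain ⟨-, h₁, h₂⟩ := VolHigh.seq_ineq k
        (S := ShortComplex.mk φ (cokernel.π φ) (cokernel.condition φ))
        (ShortComplex.ShortExact.mk' (ShortComplex.exact_cokernel φ) inferInstance inferInstance) hFc
        (isCoh_tensor hFc hA₂) (H10Coh.isCoh_cokernel φ hFc.1 (isCoh_tensor hFc hA₂))
        (isInvertible_W hA₁.1 hA₂' (b + 1) a) i
      dsimp only at h₁ h₂
      rw [hd_congr (iW F b a) i, hd_congr (iG (cokernel φ) b a) (i - 1)] at h₁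
      rw [hd_congr (iW F b a) i, hd_congr (iG (cokernel φ) b a) i] at h₂
      exact ⟨h₁, h₂⟩
    obtain ⟨C', a', hC'⟩ := bound hA₁ hA₂ hA₂' ⟨e₂⟩ avoid r P' (fun G hG => ⟨hG.1, hG.2.1⟩)
      (fun e he => by
        obtain ⟨a₀, h₀⟩ := hvan e (by omega)
        obtain ⟨a₀', h₀'⟩ := hvan (e + 1) (by omega)
        refine ⟨max a₀ a₀', fun G hG a ha q hq => ?_⟩
        obtain ⟨-, -, F, φ, hF, hφ, ⟨eG⟩⟩ := hG
        refine Nat.le_zero.1 ((hd_congr (PicGrp.tensorModIso eG (Iso.refl _)) q).le.trans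
          ((hseq F φ hF hφ e a q).2.trans ?_))
        rw [h₀ F hF a (le_trans (le_max_left _ _) ha) q hq,
          h₀' F hF a (le_trans (le_max_right _ _) ha) (q + 1) (Nat.succ_pos q)])
      (fun e he j => by
        obtain ⟨B₁, hB₁⟩ := hbd e (by omega) j
        obtain ⟨B₂, hB₂⟩ := hbd (e + 1) (by omega) j
        refine ⟨B₁ + B₂, fun G hG => ?_⟩
        obtain ⟨-, -, F, φ, hF, hφ, ⟨eG⟩⟩ := hG
        haveI := hφ
        have hE := isInvertible_tensorPow hA₂' (e + 1)
        have hadd := H28Int.isAddFn_D k (List.replicate j A₁) fun B hB => (List.eq_of_mem_replicate hB).symm ▸ hA₁.1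
        have hFc := (hP F hF).1
        have hF2 := isCoh_tensor hFc hA₂
        have h := hadd.add _ (H10Coh.Tw.shortExact_seq
          (ShortComplex.ShortExact.mk' (ShortComplex.exact_cokernel φ) inferInstance inferInstance :
            (ShortComplex.mk φ (cokernel.π φ) (cokernel.condition φ)).ShortExact) hE)
          (isCoh_tensor hFc hE) (isCoh_tensor hF2 hE) (isCoh_tensor (H10Coh.isCoh_cokernel φ hFc.1 hF2) hE)
        change H28Int.D k (List.replicate j A₁) (CohB1.tensorMod (CohB1.tensorMod F A₂) (CohB1.tensorPow A₂' (e + 1))) =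
          H28Int.D k (List.replicate j A₁) (CohB1.tensorMod F (CohB1.tensorPow A₂' (e + 1))) +
          H28Int.D k (List.replicate j A₁) (CohB1.tensorMod (cokernel φ) (CohB1.tensorPow A₂' (e + 1))) at h
        have iE : CohB1.tensorMod (CohB1.tensorMod F A₂) (CohB1.tensorPow A₂' (e + 1)) ≅
            CohB1.tensorMod F (CohB1.tensorPow A₂' e) := H10Coh.Tw.assoc F A₂ _ ≪≫ PicGrp.tensorModIso (Iso.refl F)
          ((H10Coh.Tw.assoc A₂ (CohB1.tensorPow A₂' e) A₂').symm ≪≫ H12Pic.NumTriv.swapIso _ _ _ ≪≫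
            PicGrp.tensorModIso e₂ (Iso.refl _) ≪≫ H10Coh.Tw.leftUnitIso _)
        rw [hadd.congr iE] at h
        rw [hadd.congr (PicGrp.tensorModIso eG (Iso.refl _) ≪≫ H10Coh.Tw.assoc _ _ _ ≪≫
          PicGrp.tensorModIso (Iso.refl _) (H10Coh.Tw.commIso A₂' _))]
        have h₁ := abs_le.1 (hB₁ F hF)
        have h₂ := abs_le.1 (hB₂ F hF)
        change |H28Int.D k (List.replicate j A₁) (CohB1.tensorMod (cokernel φ) (CohB1.tensorPow A₂' (e + 1)))| ≤ _
        exact abs_le.2 ⟨by omega, by omega⟩)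
    -- the members themselves
    obtain ⟨a₀, h₀⟩ := hvan 0 (Nat.zero_le _)
    choose B hB using fun j => hbd 0 (Nat.zero_le _) j
    let S : ℤ := ∑ j ∈ Finset.range (r + 1), |B j|
    have hS : 0 ≤ S := Finset.sum_nonneg fun _ _ => abs_nonneg _
    let C₀ := S.toNat
    have hzero : ∀ F, P F → ∀ a, max a₀ a' ≤ a → ∀ i,
        hd k (CohB1.tensorMod F (W A₁ A₂' 0 a)) i ≤ C₀ * (a + 1) ^ r := by
      intro F hF a ha i
      rcases Nat.eq_zero_or_pos i with rfl | hi
      swap
      · exact (h₀ F hF a (le_trans (le_max_left _ _) ha) i hi).le.trans (Nat.zero_le _)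
      have hW := isInvertible_W hA₁.1 hA₂' 0 a
      have hadd := H28Int.isAddFn_D k (X := X) [] fun _ h => absurd h List.not_mem_nil
      have heq : Curv2.euler k X (CohB1.tensorMod F (W A₁ A₂' 0 a)) =
          hd k (CohB1.tensorMod F (W A₁ A₂' 0 a)) 0 := by
        rw [H25Euler.euler_eq_sum _ 1 fun p hp => H12Pic.NumTriv.subsingleton_of_hd_zero k
          (isCoh_tensor (hP F hF).1 hW) (h₀ F hF a (le_trans (le_max_left _ _) ha) p hp)]
        simp [hd]
      have h := abs_D_pow_le k hA₁.1 (hP F hF).1 (hP F hF).2 hS (fun j hj => by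
        rw [(H28Int.isAddFn_D k _ fun B hB => (List.eq_of_mem_replicate hB).symm ▸ hA₁.1).congr
          (H10Coh.Tw.rightUnitIso F).symm]
        exact (hB j F hF).trans ((le_abs_self _).trans
          (Finset.single_le_sum (fun i _ => abs_nonneg (B i)) (Finset.mem_range.2 (Nat.lt_succ_of_le hj))))) a 0
        (Nat.zero_le _)
      change |Curv2.euler k X _| ≤ _ at h
      have hiso : CohB1.tensorMod F (W A₁ A₂' 0 a) ≅ CohB1.tensorMod F (CohB1.tensorPow A₁ a) :=
        PicGrp.tensorModIso (Iso.refl F) (H10Coh.Tw.leftUnitIso _)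
      rw [← H25Euler.euler_congr hiso, heq, Nat.abs_cast,
        Nat.sub_zero] at h
      have hC : (C₀ : ℤ) = S := Int.toNat_of_nonneg hS
      rw [← hC] at h
      exact_mod_cast h
    refine ⟨C₀ + C', max a₀ a', fun F hF a ha b i => ?_⟩
    obtain ⟨S, hS, hdim⟩ := exists_avoid_set (H10Coh.isClosed_support _ (hP F hF).1.2)
    obtain ⟨s, hs⟩ := avoid _ ((H17.PrimaryDecomp.finite_ass (hP F hF).1).union hS)
    haveI hmono : Mono (SectionCut.mul s F) := SectionCut.mono_mulHom s (hP F hF).1.1 fun x hx => hs (Or.inl hx)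
    let Q := cokernel (SectionCut.mul s F)
    have hQ : Coh.IsCoh Q := H10Coh.isCoh_cokernel _ (hP F hF).1.1 (isCoh_tensor (hP F hF).1 hA₂)
    have hQsupp : ∀ x ∈ CohB1.support Q, x ∉ S := fun x hx hxS => by
      haveI := SectionCut.isIso_stalk_mul s F (hs (Or.inr hxS))
      exact (H25Euler.notMem_support_kernel_cokernel _ this).2 hx
    have hQd : topologicalKrullDim (CohB1.support (CohB1.tensorMod Q A₂')) < (r : WithBot ℕ∞) :=
      lt_of_le_of_lt (H28Int.dim_le_of_subset (H25Euler.support_tensor_subset _ _))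
        (hdim (H10Coh.isClosed_support _ hQ.2)
          ((LeadDev.support_subset_of_epi (cokernel.π (SectionCut.mul s F))).trans (H25Euler.support_tensor_subset _ _))
          hQsupp (hP F hF).2)
    have hG : P' (CohB1.tensorMod Q A₂') :=
      ⟨isCoh_tensor hQ hA₂', hQd, F, _, hF, hmono, ⟨Iso.refl _⟩⟩
    have step : ∀ b, ∀ i, hd k (CohB1.tensorMod F (W A₁ A₂' b a)) i ≤ C₀ * (a + 1) ^ r + C' * (a + b) ^ r := by
      intro b
      induction b with
      | zero => exact fun i => (hzero F hF a ha i).trans (Nat.le_add_right _ _)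
      | succ b ih =>
        intro i
        refine (hseq F _ hF hmono b a i).1.trans ((Nat.add_le_add (ih i)
          (hC' _ hG a (le_trans (le_max_right _ _) ha) b (i - 1))).trans ?_)
        rw [Nat.add_assoc, ← Nat.mul_add, show a + (b + 1) = a + b + 1 from rfl,
          Nat.add_sub_cancel' (Nat.pow_le_pow_left (Nat.le_succ (a + b)) r)]
    refine (step b i).trans ?_
    rw [Nat.add_mul]
    have hp := VolGrowth.pow_le_sub (a + b) r
    exact Nat.add_le_add (Nat.mul_le_mul_left C₀ ((Nat.pow_le_pow_left (by omega) r).trans hp))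
      (Nat.mul_le_mul_left C' ((Nat.pow_le_pow_left (Nat.le_succ _) r).trans hp))

end Groth.Agent.H22Alg.VolFam
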