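import Groth.Agent.H12Pic.NumTriv.Induct
import Groth.Agent.H29RR.Invert
import Groth.Agent.H28Int.Surface
import Groth.Agent.H11Ample.Tensor
import Groth.Agent.H22Alg.DegAmple

/-! # Growth of the sections of the powers of an invertible module.

`h⁰(F ⊗ L^m) = O(m^r)` when the support of `F` has dimension at most `r`, on a proper scheme with an
ample module, and the comparison of `h⁰(N ⊗ L^m ⊗ M)` with `h⁰(N ⊗ L^m)` for an effective `M`.
-/

set_option autoImplicit false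
set_option linter.style.haveILetI false

universe u

open CategoryTheory CategoryTheory.Limits AlgebraicGeometry TopologicalSpace
open Groth.Agent.H11Ample Groth.Agent.H25Index

noncomputable section

namespace Groth.Agent.H22Alg.VolGrowth

variable (k : Type u) [Field k] {X : Scheme.{u}} [X.Over (Spec (CommRingCat.of k))]
  [IsProper (X ↘ Spec (CommRingCat.of k))]

theorem hd0_le_of_mono {F G : X.Modules} (f : F ⟶ G) [Mono f] (hG : Coh.IsCoh G) : hd k F 0 ≤ hd k G 0 :=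
  haveI := finite_HH (k := k) G hG 0
  LinearMap.finrank_le_finrank_of_injective (H29RR.hhlin_zero_injective (k := k) f)

theorem hd0_le_add {S : ShortComplex X.Modules} (hS : S.ShortExact)
    (h₁ : Coh.IsCoh S.X₁) (h₂ : Coh.IsCoh S.X₂) (h₃ : Coh.IsCoh S.X₃) :
    hd k S.X₂ 0 ≤ hd k S.X₁ 0 + hd k S.X₃ 0 :=
  (hd_shortExact (k := k) hS h₁ h₂ h₃ 0).1

/-- Growth at most that of `∑_{j<m}` of a polynomial of degree `r-1`. -/
def Small (r : ℕ) (G : X.Modules) : Prop :=
  ∀ L : X.Modules, PicF.IsInvertible L → ∃ C : ℕ, ∀ m : ℕ,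
    hd k (CohB1.tensorMod G (CohB1.tensorPow L m)) 0 ≤ C * ((m + 1) ^ r - m ^ r)

/-- Growth at most polynomial of degree `r`. -/
def Bdd (r : ℕ) (G : X.Modules) : Prop :=
  ∀ L : X.Modules, PicF.IsInvertible L → ∃ C : ℕ, ∀ m : ℕ,
    hd k (CohB1.tensorMod G (CohB1.tensorPow L m)) 0 ≤ C * (m + 1) ^ r

omit k in
theorem pow_le_sub (m r : ℕ) : (m + 1) ^ r ≤ (m + 1) ^ (r + 1) - m ^ (r + 1) := by
  refine Nat.le_sub_of_add_le ?_
  rw [pow_succ, pow_succ, Nat.mul_add, Nat.mul_one, Nat.add_comm]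
  exact Nat.add_le_add_right (Nat.mul_le_mul_right m (Nat.pow_le_pow_left (Nat.le_succ m) r)) _

theorem hd0_of_isZero {F : X.Modules} (hF : IsZero F) : hd k F 0 = 0 :=
  H12Pic.NumTriv.hd_zero_of_isZero k hF 0

section mul

variable {Z : Scheme.{u}} (ζ : Z ⟶ X) [IsClosedImmersion ζ] [IsIntegral Z]

include k in
/-- Multiplication by a section which generates at the generic point. -/
theorem exists_mul {M : X.Modules} (hM : PicF.IsInvertible M) (g : Γ(M, ⊤)) (hg : ζ (genericPoint Z) ∈ gen M g)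
    {r : ℕ} (hdd : topologicalKrullDim (Set.range ζ) ≤ (r : WithBot ℕ∞)) :
    ∃ φ : (Coh.push ζ).obj (Coh.structureModule Z) ⟶ CohB1.tensorMod ((Coh.push ζ).obj (Coh.structureModule Z)) M,
      Mono φ ∧ Coh.IsCoh (cokernel φ) ∧ topologicalKrullDim (CohB1.support (cokernel φ)) < (r : WithBot ℕ∞) := by
  haveI := H28Int.isNoetherian k (X := X)
  let P := (Coh.push ζ).obj (Coh.structureModule Z)
  have hP : Coh.IsCoh P := LeadDev.isCoh_push_structure ζ
  let φ := H25Euler.mulHom P (H11Tilde.homOfGlobal M g)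
  have hiso : IsIso ((DerSch.stalkFunctor X (ζ (genericPoint Z))).map φ) := H25Euler.isIso_stalk_mulHom P _ hg
  haveI : Mono φ := Preadditive.mono_of_isZero_kernel φ
    (H28Int.isZero_of_mono_push ζ (kernel.ι φ) (H25Euler.notMem_support_kernel_cokernel φ hiso).1)
  have hC : Coh.IsCoh (cokernel φ) := H10Coh.isCoh_cokernel φ hP.1 (isCoh_tensor hP hM)
  refine ⟨φ, inferInstance, hC, H28Int.dim_lt_of_notMem (LeadDev.range_eq_closure ζ rfl).symm hdd
    (H10Coh.isClosed_support _ hC.2) (fun x hx => ?_) (H25Euler.notMem_support_kernel_cokernel φ hiso).2⟩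
  have h1 := H25Euler.support_tensor_subset P M (LeadDev.support_subset_of_epi (cokernel.π φ) hx)
  exact (H28Int.support_push_structure_eq ζ).le h1

end mul

include k in
/-- A power of an ample module, twisted by any invertible module, has a section generating at a given
point. -/
theorem exists_gen_twist {A : X.Modules} (hA : CohB1.IsAmple A) {M : X.Modules} (hM : PicF.IsInvertible M) (x : X) :
    ∃ n₀ : ℕ, ∀ n, n₀ ≤ n → ∃ g : Γ(CohB1.tensorMod M (CohB1.tensorPow A n), ⊤),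
      x ∈ gen (CohB1.tensorMod M (CohB1.tensorPow A n)) g := by
  haveI := H28Int.isNoetherian k (X := X)
  obtain ⟨n₀, hn₀⟩ := H11Ample.eventually_globallyGenerated hA (isCoh_of_isInvertible hM)
  exact ⟨n₀, fun n hn => exists_mem_gen_of_isGloballyGenerated
    (isInvertible_tensor hM (isInvertible_tensorPow hA.1 n)) (hn₀ n hn) x⟩

omit k [Field k] [X.Over (Spec (CommRingCat.of k))] [IsProper (X ↘ Spec (CommRingCat.of k))] in
/-- A monomorphism `P ⊗ L → P ⊗ B` gives one on all powers. -/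
theorem exists_mono_pow {P L B : X.Modules} (hL : PicF.IsInvertible L) (hB : PicF.IsInvertible B)
    (ψ : CohB1.tensorMod P L ⟶ CohB1.tensorMod P B) [Mono ψ] : ∀ m : ℕ,
    ∃ f : CohB1.tensorMod P (CohB1.tensorPow L m) ⟶ CohB1.tensorMod P (CohB1.tensorPow B m), Mono f
  | 0 => ⟨𝟙 (CohB1.tensorMod P (Coh.structureModule X)), @IsIso.mono_of_iso _ _ _ _ _ (IsIso.id _)⟩
  | m + 1 => by
    obtain ⟨f, hf⟩ := exists_mono_pow hL hB ψ m
    haveI := hf
    obtain ⟨f₁, hf₁⟩ := H12Pic.NumTriv.exists_mono_tensor f hL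
    obtain ⟨f₂, hf₂⟩ := H12Pic.NumTriv.exists_mono_tensor ψ (isInvertible_tensorPow hB m)
    haveI := hf₁
    haveI := hf₂
    exact ⟨(H10Coh.Tw.assoc P (CohB1.tensorPow L m) L).inv ≫ f₁ ≫
      (H12Pic.NumTriv.swapIso P (CohB1.tensorPow B m) L).hom ≫ f₂ ≫
      (H12Pic.NumTriv.swapIso P B (CohB1.tensorPow B m)).hom ≫ (H10Coh.Tw.assoc P (CohB1.tensorPow B m) B).hom,
      inferInstance⟩

/-- The integral step. -/
theorem bdd_push {A : X.Modules} (hA : CohB1.IsAmple A) {r : ℕ}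
    (hlow : ∀ G : X.Modules, Coh.IsCoh G → topologicalKrullDim (CohB1.support G) < (r : WithBot ℕ∞) → Small k r G)
    {Z : Scheme.{u}} (ζ : Z ⟶ X) [IsClosedImmersion ζ] [IsIntegral Z]
    (hdd : topologicalKrullDim (Set.range ζ) ≤ (r : WithBot ℕ∞)) :
    Bdd k r ((Coh.push ζ).obj (Coh.structureModule Z)) := by
  intro L hL
  haveI := H28Int.isNoetherian k (X := X)
  let P := (Coh.push ζ).obj (Coh.structureModule Z)
  have hP : Coh.IsCoh P := LeadDev.isCoh_push_structure ζ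
  obtain ⟨L', hL', ⟨e⟩⟩ := H29RR.exists_inverse_comm hL
  obtain ⟨n₁, h₁⟩ := exists_gen_twist k hA hL' (ζ (genericPoint Z))
  obtain ⟨n₂, h₂⟩ := exists_gen_twist k hA H11Ample.isInvertible_structureModule (ζ (genericPoint Z))
  let B₀ := CohB1.tensorPow A (max n₁ n₂)
  have hB₀ : PicF.IsInvertible B₀ := isInvertible_tensorPow hA.1 _
  obtain ⟨B, hB, ⟨g₂, hg₂⟩, ⟨e'⟩⟩ : ∃ B : X.Modules, PicF.IsInvertible B ∧
      (∃ g : Γ(B, ⊤), ζ (genericPoint Z) ∈ gen B g) ∧
      Nonempty (CohB1.tensorMod (CohB1.tensorMod L' B₀) L ≅ B) :=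
    ⟨_, isInvertible_tensor H11Ample.isInvertible_structureModule hB₀, h₂ _ (le_max_right _ _),
      ⟨H12Pic.NumTriv.swapIso L' B₀ L ≪≫ PicGrp.tensorModIso (H10Coh.Tw.commIso L' L ≪≫ e) (Iso.refl B₀)⟩⟩
  obtain ⟨g₁, hg₁⟩ := h₁ _ (le_max_left n₁ n₂)
  obtain ⟨φ₁, hφ₁, -, -⟩ := exists_mul k ζ (isInvertible_tensor hL' hB₀) g₁ hg₁ hdd
  obtain ⟨φ₂, hφ₂, hQ, hQd⟩ := exists_mul k ζ hB g₂ hg₂ hdd
  haveI := hφ₁
  haveI := hφ₂
  -- compare with the effective module
  obtain ⟨ψ₀, hψ₀⟩ := H12Pic.NumTriv.exists_mono_tensor φ₁ hL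
  haveI := hψ₀
  obtain ⟨ψ, hψ⟩ : ∃ ψ : CohB1.tensorMod P L ⟶ CohB1.tensorMod P B, Mono ψ :=
    ⟨ψ₀ ≫ ((H10Coh.Tw.assoc P _ L) ≪≫ PicGrp.tensorModIso (Iso.refl P) e').hom, mono_comp _ _⟩
  haveI := hψ
  obtain ⟨C, hC⟩ := hlow _ hQ hQd B hB
  have hPB : ∀ m, Coh.IsCoh (CohB1.tensorMod P (CohB1.tensorPow B m)) := fun m =>
    isCoh_tensor hP (isInvertible_tensorPow hB m)
  have step : ∀ m, hd k (CohB1.tensorMod P (CohB1.tensorPow B (m + 1))) 0 ≤
      hd k (CohB1.tensorMod P (CohB1.tensorPow B m)) 0 +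
        hd k (CohB1.tensorMod (cokernel φ₂) (CohB1.tensorPow B m)) 0 := fun m => by
    let S := ShortComplex.mk φ₂ (cokernel.π φ₂) (cokernel.condition φ₂)
    have hS : S.ShortExact :=
      ShortComplex.ShortExact.mk' (ShortComplex.exact_cokernel φ₂) inferInstance inferInstance
    have hm := isInvertible_tensorPow hB m
    have h' := hd0_le_add k (H10Coh.Tw.shortExact_seq hS hm) (isCoh_tensor hP hm) (isCoh_tensor (isCoh_tensor hP hB) hm)
      (isCoh_tensor hQ hm)
    have h : hd k (CohB1.tensorMod (CohB1.tensorMod P B) (CohB1.tensorPow B m)) 0 ≤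
        hd k (CohB1.tensorMod P (CohB1.tensorPow B m)) 0 +
          hd k (CohB1.tensorMod (cokernel φ₂) (CohB1.tensorPow B m)) 0 := h'
    let i : CohB1.tensorMod P (CohB1.tensorPow B (m + 1)) ≅ CohB1.tensorMod (CohB1.tensorMod P B) (CohB1.tensorPow B m) :=
      (H10Coh.Tw.assoc P (CohB1.tensorPow B m) B).symm ≪≫ H12Pic.NumTriv.swapIso P (CohB1.tensorPow B m) B
    exact (hd_congr i 0).le.trans h
  let c₀ := hd k (CohB1.tensorMod P (CohB1.tensorPow B 0)) 0
  have hsum : ∀ m, hd k (CohB1.tensorMod P (CohB1.tensorPow B m)) 0 ≤ c₀ + C * m ^ r := fun m => by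
    induction m with
    | zero => exact Nat.le_add_right _ _
    | succ m ih =>
      refine (step m).trans ((Nat.add_le_add ih (hC m)).trans ?_)
      rw [Nat.add_assoc, ← Nat.mul_add, Nat.add_sub_cancel' (Nat.pow_le_pow_left (Nat.le_succ m) r)]
  refine ⟨c₀ + C, fun m => ?_⟩
  obtain ⟨f, hf⟩ := exists_mono_pow hL hB ψ m
  haveI := hf
  refine (hd0_le_of_mono k f (hPB m)).trans ((hsum m).trans ?_)
  rw [Nat.add_mul]
  exact Nat.add_le_add (Nat.le_mul_of_pos_right _ (Nat.pow_pos (Nat.succ_pos m)))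
    (Nat.mul_le_mul_left C (Nat.pow_le_pow_left (Nat.le_succ m) r))

theorem bdd_step {A : X.Modules} (hA : CohB1.IsAmple A) {r : ℕ}
    (hlow : ∀ G : X.Modules, Coh.IsCoh G → topologicalKrullDim (CohB1.support G) < (r : WithBot ℕ∞) → Small k r G)
    {F : X.Modules} (hF : Coh.IsCoh F) (hdd : topologicalKrullDim (CohB1.support F) ≤ (r : WithBot ℕ∞)) :
    Bdd k r F := by
  haveI := H28Int.isNoetherian k (X := X)
  refine (LeadDev.devissage_induction (CohB1.support F) (fun G => Coh.IsCoh G → Bdd k r G) ?_ ?_ ?_ ?_ F hF le_rfl) hF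
  · rintro M N ⟨e⟩ h hN L hL
    obtain ⟨C, hC⟩ := h (H10Coh.isCoh_of_iso e.symm hN) L hL
    exact ⟨C, fun m => (hd_congr (PicGrp.tensorModIso e (Iso.refl _)) 0).ge.trans (hC m)⟩
  · intro M hM _ L _
    exact ⟨0, fun m => (hd0_of_isZero k (H12Pic.NumTriv.isZero_tensor hM _)).le.trans (Nat.zero_le _)⟩
  · intro S hS h₁ h₂ h₃ hb₁ hb₃ _ L hL
    obtain ⟨C₁, hC₁⟩ := hb₁ h₁ L hL
    obtain ⟨C₃, hC₃⟩ := hb₃ h₃ L hL
    refine ⟨C₁ + C₃, fun m => ?_⟩
    have hm := isInvertible_tensorPow hL m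
    refine (hd0_le_add k (H10Coh.Tw.shortExact_seq hS hm) (isCoh_tensor h₁ hm) (isCoh_tensor h₂ hm)
      (isCoh_tensor h₃ hm)).trans ?_
    rw [Nat.add_mul]
    exact Nat.add_le_add (hC₁ m) (hC₃ m)
  · intro Z ζ _ _ hr _ I ι _ _ _ L hL
    have hd' := (H28Int.dim_le_of_subset hr).trans hdd
    obtain ⟨C, hC⟩ := bdd_push k hA hlow ζ hd' L hL
    refine ⟨C, fun m => ?_⟩
    obtain ⟨f, hf⟩ := H12Pic.NumTriv.exists_mono_tensor ((Coh.push ζ).map ι) (isInvertible_tensorPow hL m)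
    haveI := hf
    exact (hd0_le_of_mono k f (isCoh_tensor (LeadDev.isCoh_push_structure ζ) (isInvertible_tensorPow hL m))).trans (hC m)

theorem small {A : X.Modules} (hA : CohB1.IsAmple A) : ∀ (r : ℕ) (F : X.Modules), Coh.IsCoh F →
    topologicalKrullDim (CohB1.support F) < (r : WithBot ℕ∞) → Small k r F
  | 0, F, hF, hdd => fun L _ => ⟨0, fun m => by
    have hz : IsZero F := by
      by_contra hne
      haveI := (H25Euler.support_nonempty hne).to_subtype
      exact not_le.2 hdd (by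
        haveI : Nonempty (IrreducibleCloseds (CohB1.support F)) :=
          ⟨⟨_, isIrreducible_singleton.closure, isClosed_closure (s := {Classical.arbitrary (CohB1.support F)})⟩⟩
        rw [Nat.cast_zero]; exact Order.krullDim_nonneg)
    exact (hd0_of_isZero k (H12Pic.NumTriv.isZero_tensor hz _)).le.trans (Nat.zero_le _)⟩
  | r + 1, F, hF, hdd => fun L hL => by
    obtain ⟨C, hC⟩ := bdd_step k hA (small hA r) hF ((H12Pic.NumTriv.lt_succ_iff' _ r).1 hdd) L hL
    exact ⟨C, fun m => (hC m).trans (Nat.mul_le_mul_left C (pow_le_sub m r))⟩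

/-- **Growth**: `h⁰(F ⊗ L^m) = O(m^r)`. -/
theorem bdd {A : X.Modules} (hA : CohB1.IsAmple A) {r : ℕ} {F : X.Modules} (hF : Coh.IsCoh F)
    (hdd : topologicalKrullDim (CohB1.support F) ≤ (r : WithBot ℕ∞)) : Bdd k r F :=
  bdd_step k hA (small k hA r) hF hdd

section integral

variable [IsIntegral X]

/-- An effective twist does not lower the sections. -/
theorem hd0_le_tensor {E : X.Modules} (hE : PicF.IsInvertible E) {g : Γ(E, ⊤)} (hg : g ≠ 0) {N : X.Modules}
    (hN : PicF.IsInvertible N) : hd k N 0 ≤ hd k (CohB1.tensorMod N E) 0 := by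
  haveI := H28Int.isNoetherian k (X := X)
  haveI := (H29RR.mono_homOfGlobal hE hg).1
  obtain ⟨f, hf⟩ := H12Pic.NumTriv.exists_mono_tensor (H11Tilde.homOfGlobal E g) hN
  haveI := hf
  exact (hd_congr (H10Coh.Tw.leftUnitIso N).symm 0).le.trans
    ((hd0_le_of_mono k f (isCoh_tensor (isCoh_of_isInvertible hE) hN)).trans
      (hd_congr (H10Coh.Tw.commIso E N) 0).le)

/-- An effective twist changes the sections of `N ⊗ L^m` by `O(m^(d-1))`. -/
theorem hd0_tensor_le {A : X.Modules} (hA : CohB1.IsAmple A) {d : ℕ} (hdim : topologicalKrullDim X ≤ (d : WithBot ℕ∞))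
    {M : X.Modules} (hM : PicF.IsInvertible M) {g : Γ(M, ⊤)} (hg : g ≠ 0)
    {N L : X.Modules} (hN : PicF.IsInvertible N) (hL : PicF.IsInvertible L) :
    ∃ C : ℕ, ∀ m : ℕ, hd k (CohB1.tensorMod (CohB1.tensorMod N (CohB1.tensorPow L m)) M) 0 ≤
      hd k (CohB1.tensorMod N (CohB1.tensorPow L m)) 0 + C * ((m + 1) ^ d - m ^ d) := by
  haveI := H28Int.isNoetherian k (X := X)
  obtain ⟨hmono, hη⟩ := H29RR.mono_homOfGlobal hM hg
  haveI := hmono
  let φ := H11Tilde.homOfGlobal M g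
  let Q := cokernel φ
  have hO : Coh.IsCoh (Coh.structureModule X) := H10Coh.isCoh_structureModule' X
  have hQ : Coh.IsCoh Q := H10Coh.isCoh_cokernel φ hO.1 (isCoh_of_isInvertible hM)
  have hS : (ShortComplex.mk φ (cokernel.π φ) (cokernel.condition φ)).ShortExact :=
    ShortComplex.ShortExact.mk' (ShortComplex.exact_cokernel φ) inferInstance inferInstance
  have hQd : topologicalKrullDim (CohB1.support Q) < (d : WithBot ℕ∞) :=
    H28Int.dim_lt_of_notMem (C := Set.univ) (genericPoint_spec X)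
      (le_trans (le_of_eq (Homeomorph.Set.univ X).isHomeomorph.topologicalKrullDim_eq) hdim)
      (H10Coh.isClosed_support _ hQ.2) (Set.subset_univ _) hη
  obtain ⟨C, hC⟩ := small k hA d (CohB1.tensorMod Q N) (isCoh_tensor hQ hN)
    (lt_of_le_of_lt (H28Int.dim_le_of_subset (H25Euler.support_tensor_subset Q N)) hQd) L hL
  refine ⟨C, fun m => ?_⟩
  have hm := isInvertible_tensor hN (isInvertible_tensorPow hL m)
  have h := hd0_le_add k (H10Coh.Tw.shortExact_seq hS hm) (isCoh_tensor hO hm)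
    (isCoh_tensor (isCoh_of_isInvertible hM) hm) (isCoh_tensor hQ hm)
  refine (hd_congr (H10Coh.Tw.commIso _ M) 0).le.trans (h.trans (Nat.add_le_add (hd_congr (H10Coh.Tw.leftUnitIso _) 0).le ?_))
  exact (hd_congr (H10Coh.Tw.assoc Q N _).symm 0).le.trans (hC m)

end integral

end Groth.Agent.H22Alg.VolGrowth
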