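import Groth.Agent.H22Alg.VolGrowth
import Groth.Agent.H22Alg.VolBig

/-! # Growth of all cohomology groups of the powers of an invertible module. -/

set_option autoImplicit false
set_option linter.style.haveILetI false

universe u

open CategoryTheory CategoryTheory.Limits AlgebraicGeometry TopologicalSpace
open Groth.Agent.H11Ample Groth.Agent.H25Index

noncomputable section

namespace Groth.Agent.H22Alg.VolHigh

/-- `(m+1)^r - m^r`. -/
abbrev delta (r m : ℕ) : ℕ := (m + 1) ^ r - m ^ r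

/-- Two sequences differing by `O(m^(r-1))`. -/
def Near (r : ℕ) (f g : ℕ → ℕ) : Prop :=
  ∃ C, ∀ m, f m ≤ g m + C * delta r m ∧ g m ≤ f m + C * delta r m

theorem Near.refl (r : ℕ) (f : ℕ → ℕ) : Near r f f := ⟨0, fun m => by simp⟩

theorem Near.symm {r : ℕ} {f g : ℕ → ℕ} (h : Near r f g) : Near r g f := by
  obtain ⟨C, h⟩ := h
  exact ⟨C, fun m => ⟨(h m).2, (h m).1⟩⟩

theorem Near.trans {r : ℕ} {f g h : ℕ → ℕ} (h₁ : Near r f g) (h₂ : Near r g h) : Near r f h := by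
  obtain ⟨C₁, h₁⟩ := h₁
  obtain ⟨C₂, h₂⟩ := h₂
  refine ⟨C₁ + C₂, fun m => ?_⟩
  obtain ⟨a, b⟩ := h₁ m
  obtain ⟨c, d⟩ := h₂ m
  rw [Nat.add_mul]
  constructor <;> omega

theorem Near.of_eq {r : ℕ} {f g : ℕ → ℕ} (h : ∀ m, f m = g m) : Near r f g := ⟨0, fun m => by simp [h m]⟩

variable (k : Type u) [Field k] {X : Scheme.{u}} [X.Over (Spec (CommRingCat.of k))]
  [IsProper (X ↘ Spec (CommRingCat.of k))]

theorem seq_ineq {S : ShortComplex X.Modules} (hS : S.ShortExact)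
    (h₁ : Coh.IsCoh S.X₁) (h₂ : Coh.IsCoh S.X₂) (h₃ : Coh.IsCoh S.X₃) {M : X.Modules} (hM : PicF.IsInvertible M)
    (i : ℕ) :
    hd k (CohB1.tensorMod S.X₂ M) i ≤ hd k (CohB1.tensorMod S.X₁ M) i + hd k (CohB1.tensorMod S.X₃ M) i ∧
      hd k (CohB1.tensorMod S.X₁ M) i ≤ hd k (CohB1.tensorMod S.X₂ M) i + hd k (CohB1.tensorMod S.X₃ M) (i - 1) ∧
      hd k (CohB1.tensorMod S.X₃ M) i ≤ hd k (CohB1.tensorMod S.X₂ M) i + hd k (CohB1.tensorMod S.X₁ M) (i + 1) := by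
  have h := hd_shortExact (k := k) (H10Coh.Tw.shortExact_seq hS hM) (isCoh_tensor h₁ hM) (isCoh_tensor h₂ hM)
    (isCoh_tensor h₃ hM) i
  exact h

/-- All cohomology groups grow like `∑_{j<m}` of a polynomial of degree `r-1`. -/
def Small (r : ℕ) (G : X.Modules) : Prop :=
  ∀ L : X.Modules, PicF.IsInvertible L → ∀ i : ℕ, ∃ C : ℕ, ∀ m : ℕ,
    hd k (CohB1.tensorMod G (CohB1.tensorPow L m)) i ≤ C * delta r m

/-- All cohomology groups grow at most polynomially of degree `r`. -/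
def Bdd (r : ℕ) (G : X.Modules) : Prop :=
  ∀ L : X.Modules, PicF.IsInvertible L → ∀ i : ℕ, ∃ C : ℕ, ∀ m : ℕ,
    hd k (CohB1.tensorMod G (CohB1.tensorPow L m)) i ≤ C * (m + 1) ^ r

theorem small_isZero (r : ℕ) {G : X.Modules} (hG : IsZero G) : Small k r G := fun L _ i =>
  ⟨0, fun _ => (H12Pic.NumTriv.hd_zero_of_isZero k (H12Pic.NumTriv.isZero_tensor hG _) i).le.trans (Nat.zero_le _)⟩

omit k [Field k] [X.Over (Spec (CommRingCat.of k))] [IsProper (X ↘ Spec (CommRingCat.of k))] in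
theorem dim_support_lt_of_isZero (r : ℕ) {G : X.Modules} (hG : IsZero G) :
    topologicalKrullDim (CohB1.support G) < (r : WithBot ℕ∞) := by
  haveI : IsEmpty (CohB1.support G) :=
    Set.isEmpty_coe_sort.2 (LeadDev.support_eq_empty_of_isZero hG)
  haveI : IsEmpty (IrreducibleCloseds (CohB1.support G)) :=
    ⟨fun c => isEmptyElim (c.2.nonempty.choose : CohB1.support G)⟩
  rw [topologicalKrullDim, Order.krullDim_eq_bot_iff.2 inferInstance]
  exact WithBot.bot_lt_coe _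

/-- A morphism with small kernel and cokernel. -/
theorem diff {r : ℕ}
    (hlow : ∀ G : X.Modules, Coh.IsCoh G → topologicalKrullDim (CohB1.support G) < (r : WithBot ℕ∞) → Small k r G)
    {F G : X.Modules} (hF : Coh.IsCoh F) (hG : Coh.IsCoh G) (φ : F ⟶ G)
    (hK : topologicalKrullDim (CohB1.support (kernel φ)) < (r : WithBot ℕ∞))
    (hQ : topologicalKrullDim (CohB1.support (cokernel φ)) < (r : WithBot ℕ∞))
    {N L : X.Modules} (hN : PicF.IsInvertible N) (hL : PicF.IsInvertible L) (i : ℕ) :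
    Near r (fun m => hd k (CohB1.tensorMod F (CohB1.tensorMod N (CohB1.tensorPow L m))) i)
      (fun m => hd k (CohB1.tensorMod G (CohB1.tensorMod N (CohB1.tensorPow L m))) i) := by
  haveI := H28Int.isNoetherian k (X := X)
  have hKc := H10Coh.isCoh_kernel φ hF hG.1
  have hQc := H10Coh.isCoh_cokernel φ hF.1 hG
  have hI := H10Coh.isCoh_kernel (cokernel.π φ) hG hQc.1
  have w₁ : kernel.ι φ ≫ Abelian.factorThruImage φ = 0 := by
    rw [← cancel_mono (Abelian.image.ι φ), Category.assoc, Abelian.image.fac, kernel.condition, zero_comp]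
  have hS₁ : (ShortComplex.mk (kernel.ι φ) (Abelian.factorThruImage φ) w₁).ShortExact :=
    { exact := ShortComplex.exact_of_f_is_kernel _ (KernelFork.IsLimit.ofι' _ _ fun g hg =>
        ⟨kernel.lift φ g (by
          rw [← Abelian.image.fac φ, ← Category.assoc, hg, zero_comp]), kernel.lift_ι _ _ _⟩)
      epi_g := inferInstanceAs (Epi (Abelian.factorThruImage φ)) }
  have hS₂ : (ShortComplex.mk (kernel.ι (cokernel.π φ)) (cokernel.π φ) (kernel.condition _)).ShortExact :=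
    { exact := ShortComplex.exact_kernel _ }
  have small : ∀ Q : X.Modules, Coh.IsCoh Q → topologicalKrullDim (CohB1.support Q) < (r : WithBot ℕ∞) →
      ∀ p, ∃ C, ∀ m, hd k (CohB1.tensorMod Q (CohB1.tensorMod N (CohB1.tensorPow L m))) p ≤ C * delta r m := by
    intro Q hQc hQd p
    obtain ⟨C, hC⟩ := hlow _ (isCoh_tensor hQc hN)
      (lt_of_le_of_lt (H28Int.dim_le_of_subset (H25Euler.support_tensor_subset Q N)) hQd) L hL p
    exact ⟨C, fun m => (hd_congr (H10Coh.Tw.assoc Q N _).symm p).le.trans (hC m)⟩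
  obtain ⟨C₁, h₁⟩ := small _ hKc hK i
  obtain ⟨C₂, h₂⟩ := small _ hKc hK (i + 1)
  obtain ⟨C₃, h₃⟩ := small _ hQc hQ i
  obtain ⟨C₄, h₄⟩ := small _ hQc hQ (i - 1)
  refine ⟨C₁ + C₂ + C₃ + C₄, fun m => ?_⟩
  have hM := isInvertible_tensor hN (isInvertible_tensorPow hL m)
  obtain ⟨a, -, b⟩ := seq_ineq k hS₁ hKc hF hI hM i
  obtain ⟨c, d, -⟩ := seq_ineq k hS₂ hI hG hQc hM i
  have k₁ := h₁ m
  have k₂ := h₂ m
  have k₃ := h₃ m
  have k₄ := h₄ m
  dsimp only at a b c d k₁ k₂ k₃ k₄ ⊢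
  change _ ≤ _ + hd k (CohB1.tensorMod (kernel (cokernel.π φ)) _) i at a
  change hd k (CohB1.tensorMod (kernel (cokernel.π φ)) _) i ≤ _ at b
  simp only [Nat.add_mul]
  constructor <;> omega

/-- Consecutive powers on an integral closed subscheme. -/
theorem consec {A : X.Modules} (hA : CohB1.IsAmple A) {r : ℕ}
    (hlow : ∀ G : X.Modules, Coh.IsCoh G → topologicalKrullDim (CohB1.support G) < (r : WithBot ℕ∞) → Small k r G)
    {Z : Scheme.{u}} (ζ : Z ⟶ X) [IsClosedImmersion ζ] [IsIntegral Z]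
    (hdim : topologicalKrullDim (Set.range ζ) ≤ (r : WithBot ℕ∞)) {L : X.Modules} (hL : PicF.IsInvertible L) (i : ℕ) :
    Near r (fun m => hd k (CohB1.tensorMod ((Coh.push ζ).obj (Coh.structureModule Z)) (CohB1.tensorPow L (m + 1))) i)
      (fun m => hd k (CohB1.tensorMod ((Coh.push ζ).obj (Coh.structureModule Z)) (CohB1.tensorPow L m)) i) := by
  haveI := H28Int.isNoetherian k (X := X)
  let P := (Coh.push ζ).obj (Coh.structureModule Z)
  have hP : Coh.IsCoh P := LeadDev.isCoh_push_structure ζ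
  obtain ⟨n₁, h₁⟩ := VolGrowth.exists_gen_twist k hA hL (ζ (genericPoint Z))
  obtain ⟨n₂, h₂⟩ := VolGrowth.exists_gen_twist k hA H11Ample.isInvertible_structureModule (ζ (genericPoint Z))
  obtain ⟨B, hB, ⟨g₂, hg₂⟩, B₁, hB₁, ⟨g₁, hg₁⟩, ⟨e₁⟩⟩ : ∃ B : X.Modules, PicF.IsInvertible B ∧
      (∃ g : Γ(B, ⊤), ζ (genericPoint Z) ∈ gen B g) ∧ ∃ B₁ : X.Modules, PicF.IsInvertible B₁ ∧
      (∃ g : Γ(B₁, ⊤), ζ (genericPoint Z) ∈ gen B₁ g) ∧ Nonempty (B₁ ≅ CohB1.tensorMod L B) :=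
    ⟨_, isInvertible_tensor H11Ample.isInvertible_structureModule (isInvertible_tensorPow hA.1 (max n₁ n₂)),
      h₂ _ (le_max_right _ _), _, isInvertible_tensor hL (isInvertible_tensorPow hA.1 (max n₁ n₂)),
      h₁ _ (le_max_left _ _), ⟨PicGrp.tensorModIso (Iso.refl L) (H10Coh.Tw.leftUnitIso _).symm⟩⟩
  obtain ⟨B', hB', ⟨e⟩⟩ := H29RR.exists_inverse_comm hB
  obtain ⟨φ₁, hφ₁, -, hQ₁⟩ := VolGrowth.exists_mul k ζ hB₁ g₁ hg₁ hdim
  obtain ⟨φ₂, hφ₂, -, hQ₂⟩ := VolGrowth.exists_mul k ζ hB g₂ hg₂ hdim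
  haveI := hφ₁
  haveI := hφ₂
  have d₁ := diff k hlow hP (isCoh_tensor hP hB₁) φ₁
    (dim_support_lt_of_isZero r (isZero_kernel_of_mono φ₁)) hQ₁ hB' hL i
  have d₂ := diff k hlow hP (isCoh_tensor hP hB) φ₂
    (dim_support_lt_of_isZero r (isZero_kernel_of_mono φ₂)) hQ₂ hB' hL i
  refine Near.trans (Near.trans (Near.of_eq fun m => ?_) (d₁.symm.trans d₂)) (Near.of_eq fun m => ?_)
  · exact hd_congr ((H10Coh.Tw.assoc P B₁ _ ≪≫ PicGrp.tensorModIso (Iso.refl P)
      (PicGrp.tensorModIso e₁ (Iso.refl _) ≪≫ H10Coh.Tw.assoc L B _ ≪≫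
        PicGrp.tensorModIso (Iso.refl L) ((H10Coh.Tw.assoc B B' _).symm ≪≫
          PicGrp.tensorModIso e (Iso.refl _) ≪≫ H10Coh.Tw.leftUnitIso _) ≪≫
        H10Coh.Tw.commIso L (CohB1.tensorPow L m))).symm) i
  · exact hd_congr (H10Coh.Tw.assoc P B _ ≪≫ PicGrp.tensorModIso (Iso.refl P) ((H10Coh.Tw.assoc B B' _).symm ≪≫
      PicGrp.tensorModIso e (Iso.refl _) ≪≫ H10Coh.Tw.leftUnitIso _)) i

theorem bdd_push {A : X.Modules} (hA : CohB1.IsAmple A) {r : ℕ}
    (hlow : ∀ G : X.Modules, Coh.IsCoh G → topologicalKrullDim (CohB1.support G) < (r : WithBot ℕ∞) → Small k r G)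
    {Z : Scheme.{u}} (ζ : Z ⟶ X) [IsClosedImmersion ζ] [IsIntegral Z]
    (hdim : topologicalKrullDim (Set.range ζ) ≤ (r : WithBot ℕ∞)) :
    Bdd k r ((Coh.push ζ).obj (Coh.structureModule Z)) := fun L hL i => by
  obtain ⟨C, hC⟩ := consec k hA hlow ζ hdim hL i
  let h := fun m => hd k (CohB1.tensorMod ((Coh.push ζ).obj (Coh.structureModule Z)) (CohB1.tensorPow L m)) i
  have hsum : ∀ m, h m ≤ h 0 + C * m ^ r := fun m => by
    induction m with
    | zero => exact Nat.le_add_right _ _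
    | succ m ih =>
      refine ((hC m).1).trans ((Nat.add_le_add_right ih _).trans ?_)
      rw [Nat.add_assoc, ← Nat.mul_add, Nat.add_sub_cancel' (Nat.pow_le_pow_left (Nat.le_succ m) r)]
  refine ⟨h 0 + C, fun m => (hsum m).trans ?_⟩
  rw [Nat.add_mul]
  exact Nat.add_le_add (Nat.le_mul_of_pos_right _ (Nat.pow_pos (Nat.succ_pos m)))
    (Nat.mul_le_mul_left C (Nat.pow_le_pow_left (Nat.le_succ m) r))

theorem bdd_step {A : X.Modules} (hA : CohB1.IsAmple A) {r : ℕ}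
    (hlow : ∀ G : X.Modules, Coh.IsCoh G → topologicalKrullDim (CohB1.support G) < (r : WithBot ℕ∞) → Small k r G)
    {F : X.Modules} (hF : Coh.IsCoh F) (hdim : topologicalKrullDim (CohB1.support F) ≤ (r : WithBot ℕ∞)) :
    Bdd k r F := by
  haveI := H28Int.isNoetherian k (X := X)
  refine (LeadDev.devissage_induction (CohB1.support F) (fun G => Coh.IsCoh G → Bdd k r G) ?_ ?_ ?_ ?_ F hF le_rfl) hF
  · rintro M N ⟨e⟩ h hN L hL i
    obtain ⟨C, hC⟩ := h (H10Coh.isCoh_of_iso e.symm hN) L hL i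
    exact ⟨C, fun m => (hd_congr (PicGrp.tensorModIso e (Iso.refl _)) i).ge.trans (hC m)⟩
  · intro M hM _ L _ i
    exact ⟨0, fun m => (H12Pic.NumTriv.hd_zero_of_isZero k (H12Pic.NumTriv.isZero_tensor hM _) i).le.trans (Nat.zero_le _)⟩
  · intro S hS h₁ h₂ h₃ hb₁ hb₃ _ L hL i
    obtain ⟨C₁, hC₁⟩ := hb₁ h₁ L hL i
    obtain ⟨C₃, hC₃⟩ := hb₃ h₃ L hL i
    refine ⟨C₁ + C₃, fun m => ?_⟩
    refine (seq_ineq k hS h₁ h₂ h₃ (isInvertible_tensorPow hL m) i).1.trans ?_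
    rw [Nat.add_mul]
    exact Nat.add_le_add (hC₁ m) (hC₃ m)
  · intro Z ζ _ _ hr hsmall I ι hι hI hA' L hL i
    haveI : I.IsQuasicoherent := hI
    by_cases hne : IsZero I
    · exact ⟨0, fun m => (H12Pic.NumTriv.hd_zero_of_isZero k
        (H12Pic.NumTriv.isZero_tensor ((Coh.push ζ).map_isZero hne) _) i).le.trans (Nat.zero_le _)⟩
    let j := (Coh.push ζ).map ι
    let P := (Coh.push ζ).obj (Coh.structureModule Z)
    have hP : Coh.IsCoh P := LeadDev.isCoh_push_structure ζ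
    obtain ⟨W, hW, hξW, -⟩ := exists_isAffineOpen_mem_and_subset (U := (⊤ : X.Opens)) (x := ζ (genericPoint Z)) trivial
    have hnot := LeadDev.notMem_support_cokernel j (H10Coh.isQuasicoherent_pushforward ζ I) hP.1 hW hξW
      (LeadDev.surjAt_push_map ζ rfl I ι hI hne hW hξW)
    have hQc : Coh.IsCoh (cokernel j) := H10Coh.isCoh_cokernel j hA'.1 hP
    have hQs : CohB1.support (cokernel j) ⊆ Set.range ζ :=
      (LeadDev.support_subset_of_epi (cokernel.π j)).trans (H28Int.support_push_structure_eq ζ).le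
    obtain ⟨C₁, h₁⟩ := bdd_push k hA hlow ζ ((H28Int.dim_le_of_subset hr).trans hdim) L hL i
    obtain ⟨C₂, h₂⟩ := hsmall _ hQc hQs hnot hQc L hL (i - 1)
    refine ⟨C₁ + C₂, fun m => ?_⟩
    have hS : (ShortComplex.mk j (cokernel.π j) (cokernel.condition j)).ShortExact :=
      ShortComplex.ShortExact.mk' (ShortComplex.exact_cokernel j) inferInstance inferInstance
    obtain ⟨-, h, -⟩ := seq_ineq k hS hA' hP hQc (isInvertible_tensorPow hL m) i
    refine h.trans ?_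
    rw [Nat.add_mul]
    exact Nat.add_le_add (h₁ m) (h₂ m)

theorem small {A : X.Modules} (hA : CohB1.IsAmple A) : ∀ (r : ℕ) (F : X.Modules), Coh.IsCoh F →
    topologicalKrullDim (CohB1.support F) < (r : WithBot ℕ∞) → Small k r F
  | 0, F, _, hdim => by
    refine small_isZero k 0 ?_
    by_contra hne
    refine not_le.2 hdim ?_
    haveI := (H25Euler.support_nonempty hne).to_subtype
    haveI : Nonempty (IrreducibleCloseds (CohB1.support F)) :=
      ⟨⟨_, isIrreducible_singleton.closure, isClosed_closure (s := {Classical.arbitrary (CohB1.support F)})⟩⟩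
    rw [Nat.cast_zero]
    exact Order.krullDim_nonneg
  | r + 1, F, hF, hdim => fun L hL i => by
    obtain ⟨C, hC⟩ := bdd_step k hA (small hA r) hF ((H12Pic.NumTriv.lt_succ_iff' _ r).1 hdim) L hL i
    exact ⟨C, fun m => (hC m).trans (Nat.mul_le_mul_left C (VolGrowth.pow_le_sub m r))⟩

/-- **Growth**: `h^i(F ⊗ L^m) = O(m^r)`. -/
theorem bdd {A : X.Modules} (hA : CohB1.IsAmple A) {r : ℕ} {F : X.Modules} (hF : Coh.IsCoh F)
    (hdim : topologicalKrullDim (CohB1.support F) ≤ (r : WithBot ℕ∞)) : Bdd k r F :=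
  bdd_step k hA (small k hA r) hF hdim

end Groth.Agent.H22Alg.VolHigh
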