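import Groth.Agent.H22Alg.VolBig
import Groth.Agent.H12Pic.NumTriv.Projective
import Groth.Agent.H22Alg.CurveProj
import Groth.Agent.H28Int.FieldExt
import Groth.Agent.S14811
import Mathlib.FieldTheory.IsAlgClosed.AlgebraicClosure

/-! # Numerically trivial twists of high powers of an ample module, over any field. -/

set_option autoImplicit false
set_option linter.style.haveILetI false

universe u

open CategoryTheory CategoryTheory.Limits AlgebraicGeometry TopologicalSpace
open Groth.Agent.H11Ample Groth.Agent.H25Index Groth.Agent.H12Pic.NumTriv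

noncomputable section

namespace Groth.Agent.H22Alg.VolNum

section Closed

variable (k : Type u) [Field k] [IsAlgClosed k] {X : Scheme.{u}} [X.Over (Spec (CommRingCat.of k))]
  [IsProper (X ↘ Spec (CommRingCat.of k))]

theorem uniform_closed {L : X.Modules} (hL : CohB1.IsAmple L) :
    ∃ m₀ : ℕ, ∀ m, m₀ ≤ m → ∀ N : X.Modules, NT k N →
      hd k (CohB1.tensorMod (CohB1.tensorPow L m) N) 0 = hd k (CohB1.tensorPow L m) 0 := by
  classical
  haveI := H28Int.isNoetherian k (X := X)
  obtain ⟨n, a, i, ha, hi, hq, ⟨eO⟩⟩ := CurveProj.exists_closedImmersion_iso k X hL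
  haveI := hi
  obtain ⟨r, hr⟩ := H12Pic.NumTriv.exists_dim k (X := X)
  have hcoh : ∀ m, Coh.IsCoh (CohB1.tensorPow L m) := fun m => isCoh_of_isInvertible (isInvertible_tensorPow hL.1 m)
  choose M hM using fun s : ℕ => (good_of_dim k i hq hr (hcoh s)).reg
  let T := (Finset.range a).sup M
  refine ⟨a * (T + 1), fun m hm => ?_⟩
  have van : ∀ N : X.Modules, NT k N → ∀ q, 1 ≤ q →
      Subsingleton (Coh.HH X (CohB1.tensorMod (CohB1.tensorPow L m) N) q) := fun N hN q hq1 => by
    let s := m % a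
    let j := m / a
    have hj : T + 1 ≤ j := (Nat.le_div_iff_mul_le ha).2 (by rw [mul_comm]; exact hm)
    have hs : M s ≤ T := Finset.le_sup (Finset.mem_range.2 (Nat.mod_lt m ha))
    have hreg := regular_mono k i (isCoh_tensor (hcoh s) hN.inv) (show (M s : ℤ) ≤ ((j + q : ℕ) : ℤ) by omega)
      (hM s N hN) q hq1
    rw [show ((j + q : ℕ) : ℤ) - q = (j : ℤ) by push_cast; ring] at hreg
    obtain ⟨e₁⟩ := (H12Pic.TwistOn.fam i).nonempty_tensorPow j
    obtain ⟨e₂⟩ := NakaiSemi.nonempty_tensorPow_congr eO j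
    obtain ⟨e₃⟩ := NakaiGen.nonempty_tensorPow_mul L a j
    obtain ⟨e₄⟩ := DegAmple.nonempty_tensorPow_add L s (a * j)
    have e : Pic13.twistOn k i (CohB1.tensorMod (CohB1.tensorPow L s) N) (j : ℤ) ≅
        CohB1.tensorMod (CohB1.tensorPow L m) N :=
      swapIso _ _ _ ≪≫ PicGrp.tensorModIso
        (PicGrp.tensorModIso (Iso.refl _) (e₁.symm ≪≫ e₂ ≪≫ e₃) ≪≫ e₄ ≪≫
          eqToIso (by rw [Nat.mod_add_div])) (Iso.refl N)
    refine subsingleton_of_hd_zero k (isCoh_tensor (hcoh m) hN.inv) ?_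
    rw [← hd_congr e q]
    haveI := hreg
    exact Module.finrank_zero_of_subsingleton
  intro N hN
  have hO : NT k (Coh.structureModule X) := NT.structure_module k
  have h1 : Curv2.euler k X (CohB1.tensorMod (CohB1.tensorPow L m) N) =
      hd k (CohB1.tensorMod (CohB1.tensorPow L m) N) 0 := by
    rw [H25Euler.euler_eq_sum _ 1 fun p hp => van N hN p hp]
    simp [hd]
  have h2 : Curv2.euler k X (CohB1.tensorPow L m) = hd k (CohB1.tensorPow L m) 0 := by
    rw [H25Euler.euler_eq_sum _ 1 fun p hp => subsingleton_of_hd_zero k (hcoh m) (by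
      rw [← hd_congr (H10Coh.Tw.rightUnitIso (CohB1.tensorPow L m)) p]
      haveI := van _ hO p hp
      exact Module.finrank_zero_of_subsingleton)]
    simp [hd]
  exact_mod_cast (h1.symm.trans (((good_of_dim k i hq hr (hcoh m)).chi N hN).trans h2))

end Closed

variable (k : Type u) [Field k] {X : Scheme.{u}} [X.Over (Spec (CommRingCat.of k))]
  [IsProper (X ↘ Spec (CommRingCat.of k))]

/-- Twisting a high power of an ample module by a numerically trivial module keeps `h⁰`. -/
theorem uniform {L : X.Modules} (hL : CohB1.IsAmple L) :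
    ∃ m₀ : ℕ, ∀ m, m₀ ≤ m → ∀ N : X.Modules, PicF.IsInvertible N → Pic13.IsNumEquivZero k X N →
      hd k (CohB1.tensorMod (CohB1.tensorPow L m) N) 0 = hd k (CohB1.tensorPow L m) 0 := by
  haveI := H28Int.isNoetherian k (X := X)
  let K := AlgebraicClosure k
  let s := Spec.map (CommRingCat.ofHom (algebraMap k K))
  let X' := pullback (X ↘ Spec (CommRingCat.of k)) s
  let q : X' ⟶ X := pullback.fst (X ↘ Spec (CommRingCat.of k)) s
  letI : X'.Over (Spec (CommRingCat.of K)) := ⟨pullback.snd (X ↘ Spec (CommRingCat.of k)) s⟩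
  haveI : IsProper (X' ↘ Spec (CommRingCat.of K)) :=
    inferInstanceAs (IsProper (pullback.snd (X ↘ Spec (CommRingCat.of k)) s))
  have hsq : IsPullback q (X' ↘ Spec (CommRingCat.of K)) (X ↘ Spec (CommRingCat.of k)) s :=
    IsPullback.of_hasPullback _ _
  haveI : IsAffineHom s := by dsimp only [s]; infer_instance
  haveI : IsAffineHom q := MorphismProperty.pullback_fst _ _ ‹IsAffineHom s›
  obtain ⟨m₀, h⟩ := uniform_closed K (X := X') (isAmple_pullback_of_isAffineHom q hL)
  refine ⟨m₀, fun m hm N hN hnum => ?_⟩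
  have hN' : NT K ((Scheme.Modules.pullback q).obj N) :=
    ⟨isInvertible_pullback q hN, (S14811.result k X N hN K).1 hnum⟩
  have hm' := isInvertible_tensorPow hL.1 m
  obtain ⟨e₁⟩ := exists_iso_pullback_tensorPow q hL.1 m
  obtain ⟨e₂⟩ := exists_iso_pullback_tensor q hm' hN
  have h3 := h m hm _ hN'
  rw [← hd_congr (e₂ ≪≫ PicGrp.tensorModIso e₁ (Iso.refl _)) 0, ← hd_congr e₁ 0] at h3
  exact (H28Int.FieldExt.finrank_HH_bc K hsq (isCoh_tensor (isCoh_of_isInvertible hm') hN) 0).symm.trans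
    (h3.trans (H28Int.FieldExt.finrank_HH_bc K hsq (isCoh_of_isInvertible hm') 0))

end Groth.Agent.H22Alg.VolNum

namespace Groth.Agent.H22Alg.VolNum

variable (k : Type u) [Field k] {X : Scheme.{u}} [X.Over (Spec (CommRingCat.of k))]
  [IsProper (X ↘ Spec (CommRingCat.of k))] [IsIntegral X]

/-- Every numerically trivial twist of a high power of an ample module has sections. -/
theorem eventually_pos_twist {A : X.Modules} (hA : CohB1.IsAmple A) :
    ∃ m₀ : ℕ, ∀ m, m₀ ≤ m → ∀ N : X.Modules, PicF.IsInvertible N → Pic13.IsNumEquivZero k X N →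
      0 < hd k (CohB1.tensorMod (CohB1.tensorPow A m) N) 0 := by
  obtain ⟨m₀, h⟩ := uniform k hA
  obtain ⟨n₀, hn⟩ := VolBig.eventually_pos k hA (H11Ample.isInvertible_structureModule (X := X))
  exact ⟨max m₀ n₀, fun m hm N hN hnum => ((hn m (le_trans (le_max_right _ _) hm)).trans_le
    (hd_congr (H10Coh.Tw.leftUnitIso _) 0).le).trans_le (h m (le_trans (le_max_left _ _) hm) N hN hnum).ge⟩

/-- The volume only grows under a numerically trivial twist. -/
theorem vol_le {A : X.Modules} (hA : CohB1.IsAmple A) {d : ℕ} (hdim : topologicalKrullDim X = d)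
    {L N : X.Modules} (hL : PicF.IsInvertible L) (hN : H12Pic.NumTriv.NT k N) :
    VolLimsup.vol d (fun m => hd k (CohB1.tensorPow (CohB1.tensorMod L N) m) 0) ≤
      VolLimsup.vol d fun m => hd k (CohB1.tensorPow L m) 0 := by
  haveI := H28Int.isNoetherian k (X := X)
  obtain ⟨m₀, h₀⟩ := eventually_pos_twist k hA
  let M := CohB1.tensorPow A m₀
  have hM : PicF.IsInvertible M := isInvertible_tensorPow hA.1 _
  have hMpos : 0 < hd k M 0 := (h₀ m₀ le_rfl _ H11Ample.isInvertible_structureModule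
    (H12Pic.NumTriv.NT.structure_module k).num).trans_le (hd_congr (H10Coh.Tw.rightUnitIso M) 0).le
  obtain ⟨g, hg⟩ := VolBig.exists_ne_zero_of_pos k hMpos
  obtain ⟨C, hC⟩ := VolGrowth.hd0_tensor_le k hA hdim.le hM hg (H11Ample.isInvertible_structureModule (X := X)) hL
  obtain ⟨N', hN', ⟨e⟩⟩ := H29RR.exists_inverse_comm hN.inv
  refine VolLimsup.vol_le_of_le C (Filter.Eventually.of_forall fun m => ?_)
  have hN'm := (hN.inverse k e).pow k m
  have h1 := VolBig.hd0_le_of_pos k (isInvertible_tensorPow (isInvertible_tensor hL hN.inv) m)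
    (isInvertible_tensor hM hN'm.inv) (h₀ m₀ le_rfl _ hN'm.inv hN'm.num)
  obtain ⟨e₁⟩ := exists_iso_tensorPow_tensor (isInvertible_tensor hL hN.inv) hN' m
  obtain ⟨e₂⟩ := NakaiSemi.nonempty_tensorPow_congr
    (H10Coh.Tw.assoc L N N' ≪≫ PicGrp.tensorModIso (Iso.refl L) e ≪≫ H10Coh.Tw.rightUnitIso L) m
  have i : CohB1.tensorMod (CohB1.tensorPow (CohB1.tensorMod L N) m) (CohB1.tensorMod M (CohB1.tensorPow N' m)) ≅
      CohB1.tensorMod (CohB1.tensorMod (Coh.structureModule X) (CohB1.tensorPow L m)) M :=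
    PicGrp.tensorModIso (Iso.refl _) (H10Coh.Tw.commIso _ _) ≪≫ (H10Coh.Tw.assoc _ _ _).symm ≪≫
      PicGrp.tensorModIso (e₁ ≪≫ e₂ ≪≫ (H10Coh.Tw.leftUnitIso _).symm) (Iso.refl M)
  exact (h1.trans (hd_congr i 0).le).trans ((hC m).trans (Nat.add_le_add_right (hd_congr (H10Coh.Tw.leftUnitIso _) 0).le _))

end Groth.Agent.H22Alg.VolNum
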