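import Groth.Agent.H22Alg.VolLimsup
import Groth.Agent.H22Alg.VolHigh
import Groth.Prelude.Def_W4c5asymptcohfnACF
import Groth.Agent.H22Alg.VolNum

/-! # Real upper limits of `f m * n! / m^n`. -/

set_option autoImplicit false
set_option linter.style.haveILetI false

universe u

open CategoryTheory CategoryTheory.Limits AlgebraicGeometry Filter Topology
open scoped ENNReal Nat
open Groth.Agent.H11Ample Groth.Agent.H25Index

noncomputable section

namespace Groth.Agent.H22Alg.VolHhat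

open VolLimsup VolHigh

/-- The upper limit of `f m * n! / m ^ n` in the reals. -/
abbrev rvol (n : ℕ) (f : ℕ → ℕ) : ℝ :=
  limsup (fun m : ℕ => (f m : ℝ) * (n.factorial : ℝ) / (m : ℝ) ^ n) atTop

theorem vol_const_mul (n c : ℕ) (f : ℕ → ℕ) : vol n (fun m => c * f m) = (c : ℝ≥0∞) * vol n f := by
  rw [vol, vol, ← limsup_const_mul (ENNReal.natCast_ne_top c)]
  exact limsup_congr (Eventually.of_forall fun m => by rw [Nat.cast_mul, mul_div_assoc])

theorem rvol_eq {n : ℕ} {f : ℕ → ℕ} (C : ℕ) (h : ∀ m, f m ≤ C * (m + 1) ^ n) :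
    rvol n f = (n.factorial : ℝ) * (vol n f).toReal := by
  have hb : ∀ᶠ m : ℕ in atTop, (n.factorial : ℝ≥0∞) * ((f m : ℝ≥0∞) / (m : ℝ≥0∞) ^ n) ≤
      ((n.factorial * (C * 2 ^ n) : ℕ) : ℝ≥0∞) := by
    filter_upwards [eventually_ge_atTop 1] with m hm
    have hm0 : (m : ℝ≥0∞) ≠ 0 := Nat.cast_ne_zero.2 (by omega)
    push_cast
    refine mul_le_mul_right ?_ _
    rw [ENNReal.div_le_iff (pow_ne_zero _ hm0) (ENNReal.pow_ne_top (ENNReal.natCast_ne_top m))]
    have h' : f m ≤ C * 2 ^ n * m ^ n := by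
      rw [mul_assoc, ← mul_pow]
      exact (h m).trans (Nat.mul_le_mul_left C (Nat.pow_le_pow_left (by omega) n))
    exact_mod_cast h'
  have e : (fun m : ℕ => (f m : ℝ) * (n.factorial : ℝ) / (m : ℝ) ^ n) =
      fun m : ℕ => ((n.factorial : ℝ≥0∞) * ((f m : ℝ≥0∞) / (m : ℝ≥0∞) ^ n)).toReal := by
    funext m
    rw [ENNReal.toReal_mul, ENNReal.toReal_div, ENNReal.toReal_pow, ENNReal.toReal_natCast,
      ENNReal.toReal_natCast, ENNReal.toReal_natCast]
    ring
  rw [rvol, e, ENNReal.limsup_toReal_eq (ENNReal.natCast_ne_top _) hb,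
    limsup_const_mul (ENNReal.natCast_ne_top _), ENNReal.toReal_mul, ENNReal.toReal_natCast]

theorem bdd_of_near {n : ℕ} {f g : ℕ → ℕ} (h : Near n f g) {C : ℕ} (hg : ∀ m, g m ≤ C * (m + 1) ^ n) :
    ∃ C', ∀ m, f m ≤ C' * (m + 1) ^ n := by
  obtain ⟨D, hD⟩ := h
  refine ⟨C + D, fun m => ((hD m).1).trans ?_⟩
  rw [Nat.add_mul]
  exact Nat.add_le_add (hg m) (Nat.mul_le_mul_left D (Nat.sub_le _ _))

theorem vol_near {n : ℕ} {f g : ℕ → ℕ} (h : Near n f g) : vol n f = vol n g := by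
  obtain ⟨D, hD⟩ := h
  exact le_antisymm (vol_le_of_le D (Eventually.of_forall fun m => (hD m).1))
    (vol_le_of_le D (Eventually.of_forall fun m => (hD m).2))

theorem rvol_near {n : ℕ} {f g : ℕ → ℕ} (h : Near n f g) {C : ℕ} (hg : ∀ m, g m ≤ C * (m + 1) ^ n) :
    rvol n f = rvol n g := by
  obtain ⟨C', hC'⟩ := bdd_of_near h hg
  rw [rvol_eq C' hC', rvol_eq C hg, vol_near h]

theorem rvol_const_mul {n : ℕ} {f : ℕ → ℕ} (c : ℕ) {C : ℕ} (h : ∀ m, f m ≤ C * (m + 1) ^ n) :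
    rvol n (fun m => c * f m) = (c : ℝ) * rvol n f := by
  rw [rvol_eq (c * C) (fun m => by rw [mul_assoc]; exact Nat.mul_le_mul_left c (h m)), rvol_eq C h,
    vol_const_mul, ENNReal.toReal_mul, ENNReal.toReal_natCast]
  ring

/-- Growth of lower degree disappears. -/
theorem rvol_eq_zero {n d : ℕ} (hdn : d < n) {f : ℕ → ℕ} {C : ℕ} (h : ∀ m, f m ≤ C * (m + 1) ^ d) :
    rvol n f = 0 := by
  have hd : ∀ m, f m ≤ C * ((m + 1) ^ n - m ^ n) := fun m => by
    obtain ⟨n', rfl⟩ : ∃ n', n = n' + 1 := ⟨n - 1, by omega⟩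
    exact (h m).trans (Nat.mul_le_mul_left C ((Nat.pow_le_pow_right (Nat.succ_pos m) (by omega)).trans
      (VolGrowth.pow_le_sub m n')))
  have hv : vol n f ≤ vol n (fun _ => 0) :=
    vol_le_of_le C (Eventually.of_forall fun m => (hd m).trans (Nat.le_add_left _ _))
  have h0 : vol n (fun _ => 0) = 0 := by simp [vol]
  rw [rvol_eq C fun m => (h m).trans (Nat.mul_le_mul_left C (Nat.pow_le_pow_right (Nat.succ_pos m) hdn.le)),
    le_antisymm (hv.trans h0.le) bot_le]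
  simp

theorem rvol_eventually_zero {n : ℕ} {f : ℕ → ℕ} (h : ∀ᶠ m in atTop, f m = 0) : rvol n f = 0 := by
  refine (limsup_congr (v := fun _ : ℕ => (0 : ℝ)) ?_).trans (limsup_const 0)
  filter_upwards [h] with m hm
  rw [hm, Nat.cast_zero, zero_mul, zero_div]

theorem delta_succ (r m : ℕ) : delta (r + 1) m = (m + 1) * delta r m + m ^ r := by
  have h1 := Nat.pow_le_pow_left (Nat.le_succ m) r
  have h2 := Nat.pow_le_pow_left (Nat.le_succ m) (r + 1)
  zify [h1, h2]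
  ring

theorem delta_mono (r : ℕ) : Monotone (delta r) := by
  induction r with
  | zero => intro a b _; simp [delta]
  | succ r ih =>
    intro a b hab
    rw [delta_succ, delta_succ]
    exact Nat.add_le_add (Nat.mul_le_mul (Nat.succ_le_succ hab) (ih hab)) (Nat.pow_le_pow_left hab r)

/-- Homogeneity. -/
theorem vol_comp_mul {n : ℕ} {f : ℕ → ℕ} (h : Near n (fun m => f (m + 1)) f) {a : ℕ} (ha : 0 < a) :
    vol n (fun m => f (a * m)) = (a : ℝ≥0∞) ^ n * vol n f := by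
  have ha0 : (a : ℝ≥0∞) ≠ 0 := Nat.cast_ne_zero.2 ha.ne'
  have hpow : (a : ℝ≥0∞) ^ n ≠ 0 := pow_ne_zero _ ha0
  have htop : (a : ℝ≥0∞) ^ n ≠ ⊤ := ENNReal.pow_ne_top (ENNReal.natCast_ne_top a)
  refine le_antisymm ?_ ?_
  · have hmul : Tendsto (fun m : ℕ => a * m) atTop atTop :=
      tendsto_atTop_mono (fun m => Nat.le_mul_of_pos_left m ha) tendsto_id
    have e : ∀ᶠ m : ℕ in atTop, (f (a * m) : ℝ≥0∞) / (m : ℝ≥0∞) ^ n =
        (a : ℝ≥0∞) ^ n * ((f (a * m) : ℝ≥0∞) / ((a * m : ℕ) : ℝ≥0∞) ^ n) := by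
      filter_upwards [eventually_ge_atTop 1] with m hm
      rw [Nat.cast_mul, mul_pow, ← mul_div_assoc, ENNReal.mul_div_mul_left _ _ hpow htop]
    show limsup (fun m : ℕ => (f (a * m) : ℝ≥0∞) / (m : ℝ≥0∞) ^ n) atTop ≤ _
    rw [limsup_congr e, limsup_const_mul htop]
    refine mul_le_mul_right ?_ _
    exact le_of_eq_of_le (limsup_comp (fun j : ℕ => (f j : ℝ≥0∞) / (j : ℝ≥0∞) ^ n) (fun m : ℕ => a * m) atTop)
      (limsup_le_limsup_of_le hmul)
  · obtain ⟨D, hD⟩ := h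
    have hiter : ∀ t j, f (t + j) ≤ f t + j * D * delta n (t + j) := fun t j => by
      induction j with
      | zero => simp
      | succ j ih =>
        refine ((hD (t + j)).1).trans ?_
        have h1 := Nat.mul_le_mul_left D (delta_mono n (Nat.le_succ (t + j)))
        have h2 := Nat.mul_le_mul_left (j * D) (delta_mono n (Nat.le_succ (t + j)))
        rw [show t + (j + 1) = (t + j).succ from rfl, Nat.succ_mul, Nat.add_mul]
        omega
    have hq : vol n f ≤ vol n fun m => f (a * (m / a)) := by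
      refine vol_le_of_le (a * D) (Eventually.of_forall fun m => ?_)
      have h1 := hiter (a * (m / a)) (m % a)
      rw [Nat.div_add_mod] at h1
      exact h1.trans (Nat.add_le_add_left
        (Nat.mul_le_mul_right _ (Nat.mul_le_mul_right D (Nat.mod_lt m ha).le)) _)
    refine (mul_le_mul_right hq _).trans ?_
    have hdiv : Tendsto (fun m : ℕ => m / a) atTop atTop := Nat.tendsto_div_const_atTop ha.ne'
    show (a : ℝ≥0∞) ^ n * limsup (fun m : ℕ => (f (a * (m / a)) : ℝ≥0∞) / (m : ℝ≥0∞) ^ n) atTop ≤ _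
    rw [← limsup_const_mul htop]
    refine le_trans (limsup_le_limsup (v := (fun j : ℕ => (f (a * j) : ℝ≥0∞) / (j : ℝ≥0∞) ^ n) ∘ fun m => m / a) ?_)
      ((limsup_comp (fun j : ℕ => (f (a * j) : ℝ≥0∞) / (j : ℝ≥0∞) ^ n) (fun m : ℕ => m / a) atTop).trans_le
        (limsup_le_limsup_of_le hdiv))
    filter_upwards [eventually_ge_atTop a] with m hm
    have hq0 : ((m / a : ℕ) : ℝ≥0∞) ≠ 0 := Nat.cast_ne_zero.2 (Nat.div_pos hm ha).ne'
    rw [Function.comp_apply, ← mul_div_assoc,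
      ← ENNReal.mul_div_mul_left (f (a * (m / a)) : ℝ≥0∞) (((m / a : ℕ) : ℝ≥0∞) ^ n) hpow htop]
    refine ENNReal.div_le_div_left ?_ _
    rw [← mul_pow]
    exact pow_le_pow_left₀ bot_le (by exact_mod_cast Nat.mul_div_le m a) n

theorem rvol_comp_mul {n : ℕ} {f : ℕ → ℕ} (h : Near n (fun m => f (m + 1)) f) {a : ℕ} (ha : 0 < a)
    {C : ℕ} (hf : ∀ m, f m ≤ C * (m + 1) ^ n) :
    rvol n (fun m => f (a * m)) = (a : ℝ) ^ n * rvol n f := by
  have hg : ∀ m, f (a * m) ≤ C * (a + 1) ^ n * (m + 1) ^ n := fun m => by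
    rw [mul_assoc, ← mul_pow]
    exact (hf _).trans (Nat.mul_le_mul_left C (Nat.pow_le_pow_left (by nlinarith) n))
  rw [rvol_eq _ hg, rvol_eq C hf, vol_comp_mul h ha, ENNReal.toReal_mul, ENNReal.toReal_pow,
    ENNReal.toReal_natCast]
  ring

section Scheme

variable (k : Type u) [Field k] {X : Scheme.{u}} [X.Over (Spec (CommRingCat.of k))]
  [IsProper (X ↘ Spec (CommRingCat.of k))]

omit k [Field k] [X.Over (Spec (CommRingCat.of k))] [IsProper (X ↘ Spec (CommRingCat.of k))] in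
theorem dim_support_le {n : ℕ} (hn : topologicalKrullDim X ≤ (n : WithBot ℕ∞)) (F : X.Modules) :
    topologicalKrullDim (CohB1.support F) ≤ (n : WithBot ℕ∞) :=
  (H28Int.dim_le_of_subset (Set.subset_univ _)).trans
    (((Homeomorph.Set.univ X).isInducing.topologicalKrullDim_le).trans hn)

/-- `h^i(L^m) = O(m^n)`. -/
theorem bdd_pow {A : X.Modules} (hA : CohB1.IsAmple A) {n : ℕ} (hn : topologicalKrullDim X ≤ (n : WithBot ℕ∞))
    {L : X.Modules} (hL : PicF.IsInvertible L) (i : ℕ) :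
    ∃ C : ℕ, ∀ m : ℕ, hd k (CohB1.tensorPow L m) i ≤ C * (m + 1) ^ n := by
  haveI := H28Int.isNoetherian k (X := X)
  obtain ⟨C, hC⟩ := VolHigh.bdd k hA (H10Coh.isCoh_structureModule' X) (r := n) (dim_support_le hn _) L hL i
  exact ⟨C, fun m => (hd_congr (H10Coh.Tw.leftUnitIso _) i).ge.trans (hC m)⟩

end Scheme

end Groth.Agent.H22Alg.VolHhat
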