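import Groth.Agent.H22Alg.VolHighPush
import Groth.Agent.H22Alg.VolHhat
import Groth.Agent.H22Alg.VarDim
import Groth.Agent.H10Coh.SerreVanishing2

/-! # Cohomology of powers of pulled back and of big modules. -/

set_option autoImplicit false
set_option linter.style.haveILetI false

universe u

open CategoryTheory CategoryTheory.Limits AlgebraicGeometry Opposite TopologicalSpace
open Groth.Agent.H11Ample Groth.Agent.H25Index Groth.Agent.H25Euler

noncomputable section

namespace Groth.Agent.H22Alg.VolHighPull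

variable (k : Type u) [Field k] {X Y : Scheme.{u}} [X.Over (Spec (CommRingCat.of k))]
  [Y.Over (Spec (CommRingCat.of k))] [IsProper (X ↘ Spec (CommRingCat.of k))]
  [IsProper (Y ↘ Spec (CommRingCat.of k))] [IsIntegral X] [IsIntegral Y]

omit k [Field k] [X.Over (Spec (CommRingCat.of k))] [Y.Over (Spec (CommRingCat.of k))]
  [IsProper (X ↘ Spec (CommRingCat.of k))] [IsProper (Y ↘ Spec (CommRingCat.of k))] [IsIntegral X] in
/-- A finite residue extension makes the generic point alone in a fibre of dimension zero. -/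
theorem fibre_generic (f : Y ⟶ X) [LocallyOfFiniteType f] (hn0 : 0 < f.residueDegree (genericPoint Y)) :
    H8Props.FieldDim.cdim (f.asFiber (genericPoint Y)) = 0 ∧
      ∀ x, f.base x = f.base (genericPoint Y) → x = genericPoint Y := by
  let η := genericPoint Y
  haveI := H8Props.FieldDim.locallyOfFiniteType_fiberToSpec f (f η)
  letI := (f.residueFieldMap η).hom.toAlgebra
  haveI : Module.Finite (X.residueField (f η)) (Y.residueField η) := Module.finite_of_finrank_pos hn0
  obtain ⟨b, hb⟩ := H8Props.FieldDim.exists_nat_cdim (k := X.residueField (f η)) (f.fiberToSpecResidueField (f η)) (f.asFiber η)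
  obtain ⟨s, hs, hs'⟩ := H8Props.FieldDim.exists_trdeg_fiber f (f.asFiber η)
  have hb0 : Algebra.trdeg (X.residueField (f η)) (Y.residueField η) = (s : Cardinal) := by
    convert! hs' using 3 <;> rw [Scheme.Hom.fiberι_asFiber]
  haveI : Algebra.IsAlgebraic (X.residueField (f η)) (Y.residueField η) := Algebra.IsAlgebraic.of_finite _ _
  rw [trdeg_eq_zero] at hb0
  rw [hb, show s = 0 by exact_mod_cast hb0.symm] at hs
  have hb' : b = 0 := by exact_mod_cast hs
  subst hb'
  have hmax : ∀ v : f.fiber (f η), f.asFiber η ⤳ v → v = f.asFiber η := fun v hv => by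
    by_contra hne
    obtain ⟨c, hc⟩ := H8Props.FieldDim.exists_nat_cdim (k := X.residueField (f η)) (f.fiberToSpecResidueField (f η)) v
    have hlt := H8Props.FieldDim.cdim_lt (k := X.residueField (f η)) (f.fiberToSpecResidueField (f η)) hv (Ne.symm hne)
    rw [hb, hc] at hlt
    exact Nat.not_lt_zero c (by exact_mod_cast hlt)
  refine ⟨hb, fun x hx => ?_⟩
  obtain ⟨v, rfl⟩ : x ∈ Set.range (f.fiberι (f η)) := (f.range_fiberι _).ge hx
  rw [hmax v ?_, Scheme.Hom.fiberι_asFiber]
  refine (f.fiberι (f η)).isEmbedding.isInducing.specializes_iff.1 ?_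
  rw [Scheme.Hom.fiberι_asFiber]
  exact genericPoint_specializes _

/-- A generically finite dominant morphism preserves the dimension. -/
theorem dim_eq (f : Y ⟶ X) (hf : f ≫ (X ↘ Spec (CommRingCat.of k)) = Y ↘ Spec (CommRingCat.of k))
    (hdom : f.base (genericPoint Y) = genericPoint X) (hn0 : 0 < f.residueDegree (genericPoint Y)) :
    topologicalKrullDim Y = topologicalKrullDim X := by
  haveI : LocallyOfFiniteType f := by
    haveI : LocallyOfFiniteType (f ≫ (X ↘ Spec (CommRingCat.of k))) := hf ▸ inferInstance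
    exact locallyOfFiniteType_of_comp f (X ↘ Spec (CommRingCat.of k))
  have h := H8Props.FieldDim.cdim_eq_add (Y ↘ Spec (CommRingCat.of k)) (X ↘ Spec (CommRingCat.of k)) f hf (genericPoint Y)
  rw [(fibre_generic f hn0).1, zero_add] at h
  rw [show f (genericPoint Y) = genericPoint X from hdom] at h
  rw [← VarDim.cdim_genericPoint, ← VarDim.cdim_genericPoint, h]

omit [IsIntegral X] in
/-- The cohomology of the powers of a pull back is that of a coherent module on the target, up to small terms. -/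
theorem exists_near_push {AY : Y.Modules} (hAY : CohB1.IsAmple AY) {e : ℕ}
    (he : topologicalKrullDim Y ≤ (e : WithBot ℕ∞))
    (f : Y ⟶ X) (hf : f ≫ (X ↘ Spec (CommRingCat.of k)) = Y ↘ Spec (CommRingCat.of k))
    {L : X.Modules} (hL : PicF.IsInvertible L) (i : ℕ) :
    ∃ G : Y.Modules, PicF.IsInvertible G ∧ Coh.IsCoh ((Coh.push f).obj G) ∧
      VolHigh.Near e (fun m => hd k (CohB1.tensorPow ((Scheme.Modules.pullback f).obj L) m) i)
        (fun m => hd k (CohB1.tensorMod ((Coh.push f).obj G) (CohB1.tensorPow L m)) i) := by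
  haveI := H28Int.isNoetherian k (X := X)
  haveI := H28Int.isNoetherian k (X := Y)
  haveI : IsProper f := by
    haveI : IsProper (f ≫ (X ↘ Spec (CommRingCat.of k))) := hf ▸ inferInstance
    exact IsProper.of_comp f (X ↘ Spec (CommRingCat.of k))
  have hO := H10Coh.isCoh_structureModule' Y
  obtain ⟨n₁, h₁⟩ := IntPush.exists_acyclic f hAY (Coh.structureModule Y) hO
  obtain ⟨n₂, h₂⟩ := VolGrowth.exists_gen_twist k hAY (H11Ample.isInvertible_structureModule (X := Y)) (genericPoint Y)
  let G := CohB1.tensorPow AY (max n₁ n₂)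
  have hG : PicF.IsInvertible G := isInvertible_tensorPow hAY.1 _
  have hP : Coh.IsCoh ((Coh.push f).obj G) := by
    haveI : (Scheme.Modules.pushforward f).IsRightAdjoint :=
      (Scheme.Modules.pullbackPushforwardAdjunction f).isRightAdjoint
    haveI : PreservesFiniteLimits (Scheme.Modules.pushforward f) := inferInstance
    exact H10Coh.isCoh_of_iso ((Scheme.Modules.pushforward f).rightDerivedZeroIsoSelf.app G)
      (H10Coh.isCoh_rpush f G (isCoh_of_isInvertible hG) 0)
  refine ⟨G, hG, hP, ?_⟩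
  obtain ⟨g₀, hg₀⟩ := h₂ (max n₁ n₂) (le_max_right _ _)
  obtain ⟨g, hgη⟩ : ∃ g : Γ(G, ⊤), genericPoint Y ∈ gen G g :=
    ⟨(H10Coh.Tw.leftUnitIso G).hom.app ⊤ g₀, by rw [gen_iso]; exact hg₀⟩
  obtain ⟨hmono, hQ⟩ := H29RR.mono_homOfGlobal hG (VolBig.ne_zero_of_gen hG hgη)
  haveI := hmono
  have hLY := H11Ample.isInvertible_pullback f hL
  have hnear := VolHighPush.near_of_generic k hAY he hO (isCoh_of_isInvertible hG) (H11Tilde.homOfGlobal G g)
    (fun h => by
      rw [LeadDev.support_eq_empty_of_isZero (isZero_kernel_of_mono (H11Tilde.homOfGlobal G g))] at h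
      exact h) hQ hLY i
  refine (VolHigh.Near.of_eq fun m => hd_congr (H10Coh.Tw.leftUnitIso _).symm i).trans
    (hnear.trans (VolHigh.Near.of_eq fun m => ?_))
  have hm := isInvertible_tensorPow hL m
  obtain ⟨e₁⟩ := H10Coh.Tw.nonempty_push_tensor_iso f G hm
  obtain ⟨e₂⟩ := exists_iso_pullback_tensorPow f hL m
  rw [hd_congr e₁ i, VolHighPush.hd_push k f hf _ _ (VolHighPush.exists_affine_trivial hm) ?_ i,
    hd_congr (PicGrp.tensorModIso (Iso.refl G) e₂) i]
  rintro U ⟨hU, ⟨eU⟩⟩ p hp
  exact VolHighPush.subsingleton_twist f hm U eU p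
    (H10Coh.Tw.subsingleton_of_iso (H10Coh.Tw.leftUnitIso G) (h₁ _ (le_max_left _ _) U hU p hp))

omit [IsProper (Y ↘ Spec (CommRingCat.of k))] in
theorem genRank_push_invertible (f : Y ⟶ X) [IsProper f] (hdom : f.base (genericPoint Y) = genericPoint X)
    (hn0 : 0 < f.residueDegree (genericPoint Y)) [IsLocallyNoetherian X] {G : Y.Modules} (hG : PicF.IsInvertible G)
    (hP : Coh.IsCoh ((Coh.push f).obj G)) :
    genRank ((Coh.push f).obj G) = f.residueDegree (genericPoint Y) := by
  letI := (f.residueFieldMap (genericPoint Y)).hom.toAlgebra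
  have hfin : (f.residueFieldMap (genericPoint Y)).hom.Finite :=
    (Module.finite_of_finrank_pos hn0 : Module.Finite (X.residueField (f (genericPoint Y))) (Y.residueField (genericPoint Y)))
  have h := IntPush.length_push f f.isClosedMap hG (fibre_generic f hn0).2 hfin
  rw [hdom] at h
  letI : Field (X.presheaf.stalk (genericPoint X)) := H29Ref.isField_generic.toField
  haveI : Module.Finite (X.presheaf.stalk (genericPoint X))
      (((Coh.push f).obj G).presheaf.stalk (genericPoint X)) := H29Ref.finite_stalk _ hP.2 _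
  rw [Module.length_eq_finrank] at h
  exact_mod_cast h

variable {A : X.Modules} (hA : CohB1.IsAmple A) {n : ℕ} (hn : topologicalKrullDim X = n)
include hA hn

omit [Y.Over (Spec (CommRingCat.of k))] [IsProper (Y ↘ Spec (CommRingCat.of k))] [IsIntegral Y] in
/-- The top cohomology of the powers of a big module dies. -/
theorem eventually_top_zero (hn1 : 1 ≤ n) {L : X.Modules} (hL : PicF.IsInvertible L)
    (h : 0 < VolLimsup.vol n fun m => hd k (CohB1.tensorPow L m) 0) :
    ∀ᶠ m : ℕ in Filter.atTop, hd k (CohB1.tensorPow L m) n = 0 := by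
  classical
  haveI := H28Int.isNoetherian k (X := X)
  obtain ⟨a, B, E, ha, hB, hE, hEpos, ⟨eL⟩⟩ := VolBig.kodaira k hA hn hL h
  choose q₀ hq₀ using fun r : ℕ => H10Coh.Tw.exists_vanishing_ample (X ↘ Spec (CommRingCat.of k)) hB
    (CohB1.tensorPow L r) (isCoh_of_isInvertible (isInvertible_tensorPow hL r))
  let T := (Finset.range a).sup q₀
  rw [Filter.eventually_atTop]
  refine ⟨a * T, fun m hm => ?_⟩
  have hq : T ≤ m / a := (Nat.le_div_iff_mul_le ha).2 (by rw [Nat.mul_comm]; exact hm)
  have hr : q₀ (m % a) ≤ m / a := (Finset.le_sup (Finset.mem_range.2 (Nat.mod_lt m ha))).trans hq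
  have hEq := isInvertible_tensorPow hE (m / a)
  have hN := isInvertible_tensor (isInvertible_tensorPow hL (m % a)) (isInvertible_tensorPow hB.1 (m / a))
  obtain ⟨g, hg⟩ := VolBig.exists_ne_zero_of_pos k (VolBig.pow_pos_of_pos k hE hEpos (m / a))
  obtain ⟨hmono, hη⟩ := H29RR.mono_homOfGlobal hEq hg
  haveI := hmono
  let φ := H11Tilde.homOfGlobal (CohB1.tensorPow E (m / a)) g
  have hO := H10Coh.isCoh_structureModule' X
  have hQ : Coh.IsCoh (cokernel φ) := H10Coh.isCoh_cokernel φ hO.1 (isCoh_of_isInvertible hEq)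
  have h1 := (VolHigh.seq_ineq k
    (S := ShortComplex.mk φ (cokernel.π φ) (cokernel.condition φ))
    (ShortComplex.ShortExact.mk' (ShortComplex.exact_cokernel φ) inferInstance inferInstance)
    hO (isCoh_of_isInvertible hEq) hQ hN n).1
  have hQd : topologicalKrullDim (CohB1.support (cokernel φ)) < (n : WithBot ℕ∞) :=
    H28Int.dim_lt_of_notMem (C := Set.univ) (genericPoint_spec X)
      (le_trans (le_of_eq (Homeomorph.Set.univ X).isHomeomorph.topologicalKrullDim_eq) hn.le)
      (H10Coh.isClosed_support _ hQ.2) (Set.subset_univ _) hη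
  obtain ⟨n', rfl⟩ : ∃ n', n = n' + 1 := ⟨n - 1, by omega⟩
  have h3 := H12Pic.NumTriv.hd_of_dim k (isCoh_tensor hQ hN) (d := n')
    ((H28Int.dim_le_of_subset (H25Euler.support_tensor_subset _ _)).trans ((H12Pic.NumTriv.lt_succ_iff' _ n').1 hQd))
    (p := n' + 1) (Nat.lt_succ_self n')
  have h2 : hd k (CohB1.tensorMod (CohB1.tensorPow L (m % a)) (CohB1.tensorPow B (m / a))) (n' + 1) = 0 := by
    haveI := hq₀ (m % a) (m / a) hr (n' + 1) (Nat.succ_pos n')
    haveI : Subsingleton (Coh.HH X (CohB1.tensorMod (CohB1.tensorPow L (m % a)) (CohB1.tensorPow B (m / a))) (n' + 1)) :=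
      (H10Coh.HHEquiv _ _).toEquiv.subsingleton
    exact Module.finrank_zero_of_subsingleton
  obtain ⟨e₁⟩ := NakaiGen.nonempty_tensorPow_mul L a (m / a)
  obtain ⟨e₂⟩ := DegAmple.nonempty_tensorPow_add L (a * (m / a)) (m % a)
  obtain ⟨e₃⟩ := NakaiSemi.nonempty_tensorPow_congr eL (m / a)
  have iso : CohB1.tensorMod (CohB1.tensorPow E (m / a))
      (CohB1.tensorMod (CohB1.tensorPow L (m % a)) (CohB1.tensorPow B (m / a))) ≅ CohB1.tensorPow L m :=
    H10Coh.Tw.commIso _ _ ≪≫ H10Coh.Tw.assoc _ _ _ ≪≫ H10Coh.Tw.commIso _ _ ≪≫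
      PicGrp.tensorModIso ((exists_iso_tensorPow_tensor hB.1 hE (m / a)).some ≪≫ e₃ ≪≫ e₁) (Iso.refl _) ≪≫ e₂ ≪≫
        eqToIso (by rw [Nat.div_add_mod])
  rw [← hd_congr iso (n' + 1)]
  refine Nat.le_zero.1 (h1.trans ?_)
  rw [h3, hd_congr (H10Coh.Tw.leftUnitIso _) (n' + 1), h2]

end Groth.Agent.H22Alg.VolHighPull
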