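import Groth.Agent.H22Alg.VolHigh
import Groth.Agent.H22Alg.VolPush

/-! # Higher cohomology of direct images, generic isomorphisms, free modules. -/

set_option autoImplicit false
set_option linter.style.haveILetI false

universe u

open CategoryTheory CategoryTheory.Limits AlgebraicGeometry Opposite TopologicalSpace
open Groth.Agent.H10Coh Groth.Agent.H25Index

noncomputable section

namespace Groth.Agent.H22Alg.VolHighPush

attribute [local instance 10000] hasSheafifyAb hasWeakSheafifyAb hasExtAb enoughInjAb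
attribute [local instance] enoughInjMod

variable (k : Type u) [Field k] {X Y : Scheme.{u}} [X.Over (Spec (CommRingCat.of k))]
  [Y.Over (Spec (CommRingCat.of k))]

/-- Cohomology of a module without higher direct images, tested on a basis. -/
theorem hd_push (h : Y ⟶ X) (hh : h ≫ (X ↘ Spec (CommRingCat.of k)) = Y ↘ Spec (CommRingCat.of k))
    (G : Y.Modules) (B : Set X.Opens) (hB : Opens.IsBasis B)
    (hac : ∀ U ∈ B, ∀ p, 0 < p → Subsingleton (HnM G p (h ⁻¹ᵁ U))) (n : ℕ) :
    hd k ((Coh.push h).obj G) n = hd k G n := by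
  have hepi : ∀ m, Epi ((CohTop.push h.base).map ((MRes.inj G).toF.p m)) := fun m =>
    (MRes.inj G).toF.epi_push_p h.base B hB (fun U hU j => hac U hU (j + 1) j.succ_pos) m
  let ψX : k →+* Γ(X, ⊤) := globA
  let ψY : k →+* Γ(Y, ⊤) := globA
  have hψ : ψY = h.appTop.hom.comp ψX := by
    show toΓ (Y ↘ Spec (CommRingCat.of k)) = h.appTop.hom.comp (toΓ (X ↘ Spec (CommRingCat.of k)))
    rw [← toΓ_comp, hh]
  let P := (Coh.push h).obj G
  letI := (actM ψX P).mod n ⊤
  letI := (actM ψY G).mod n ⊤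
  let e₁ : Coh.HH X P n ≃ₗ[k] HnM P n ⊤ := { HHEquiv P n with map_smul' := HHEquiv_smul' P n }
  let e₂ : Coh.HH Y G n ≃ₗ[k] HnM G n ⊤ := { HHEquiv G n with map_smul' := HHEquiv_smul' G n }
  let e' : HnM P n ⊤ ≃+ HnM G n ⊤ := (MRes.inj G).toF.pushEquiv h.base hepi n ⊤
  let e₀ : HnM P n ⊤ ≃ₗ[k] HnM G n ⊤ :=
    { e' with
      map_smul' := fun a x => by
        change e' (postH (smulSh P (ψX a)) n ⊤ x) = postH (smulSh G (ψY a)) n ⊤ (e' x)
        rw [smulSh_push h G (ψX a), hψ]
        exact FRes.pushEquiv_natural h.base (mResSmul (MRes.inj G) (h.appTop (ψX a))) hepi hepi n ⊤ x }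
  exact (e₁.trans (e₀.trans e₂.symm)).finrank_eq

omit k [Field k] [X.Over (Spec (CommRingCat.of k))] [Y.Over (Spec (CommRingCat.of k))] in
/-- Acyclicity over an open survives a twist by a module trivial there. -/
theorem subsingleton_twist (f : Y ⟶ X) {G : Y.Modules} {N : X.Modules} (hN : PicF.IsInvertible N) (U : X.Opens)
    (e : N.restrict U.ι ≅ Coh.structureModule (↑U : Scheme.{u})) (p : ℕ)
    (h : Subsingleton (HnM G p (f ⁻¹ᵁ U))) :
    Subsingleton (HnM (CohB1.tensorMod G ((Scheme.Modules.pullback f).obj N)) p (f ⁻¹ᵁ U)) := by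
  let V := f ⁻¹ᵁ U
  let fN := (Scheme.Modules.pullback f).obj N
  let eN : fN.restrict V.ι ≅ Coh.structureModule (↑V : Scheme.{u}) :=
    (Scheme.Modules.restrictFunctorIsoPullback V.ι).app fN ≪≫ (Scheme.Modules.pullbackComp V.ι f).app N ≪≫
      (Scheme.Modules.pullbackCongr (morphismRestrict_ι f U).symm).app N ≪≫
      ((Scheme.Modules.pullbackComp (f ∣_ U) U.ι).app N).symm ≪≫
      (Scheme.Modules.pullback (f ∣_ U)).mapIso (((Scheme.Modules.restrictFunctorIsoPullback U.ι).app N).symm ≪≫ e) ≪≫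
      H16Derived.KFlat.Stalk.structurePullbackIso _
  obtain ⟨eT⟩ := Tw.nonempty_restrict_tensor V G (H11Ample.isInvertible_pullback f hN)
  let a : G.restrict V.ι ≅ (CohB1.tensorMod G fN).restrict V.ι :=
    (Tw.rightUnitIso _).symm ≪≫ PicGrp.tensorModIso (Iso.refl _) eN.symm ≪≫ eT
  refine subsingleton_HnM_image V.ι (CohB1.tensorMod G fN) p ⊤ V (Scheme.Opens.ι_image_top _) ?_
  refine Tw.subsingleton_of_iso (n := p) (U := ⊤) a ?_
  have h' : Subsingleton (HnM G p (V.ι ''ᵁ ⊤)) := by rw [Scheme.Opens.ι_image_top]; exact h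
  exact (restrEquivM V.ι G p ⊤).toEquiv.subsingleton_congr.1 h'

omit k [Field k] [X.Over (Spec (CommRingCat.of k))] [Y.Over (Spec (CommRingCat.of k))] in
theorem exists_affine_trivial {N : X.Modules} (hN : PicF.IsInvertible N) :
    Opens.IsBasis {U : X.Opens | IsAffineOpen U ∧
      Nonempty (N.restrict U.ι ≅ Coh.structureModule (↑U : Scheme.{u}))} := by
  refine Opens.isBasis_iff_nbhd.2 fun {U x} hx => ?_
  obtain ⟨V, e, hxV, he⟩ := H11Ample.exists_gen hN x
  obtain ⟨W, hW, hxW, hWUV⟩ := exists_isAffineOpen_mem_and_subset (U := U ⊓ V) (x := x) ⟨hx, hxV⟩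
  exact ⟨W, ⟨hW, H11Tilde.nonempty_iso_structureModule N W _ fun W' hW' =>
    (H11Tilde.IsGen.res he (show W ≤ V from fun y hy => (hWUV hy).2)).bijective hW'⟩, hxW,
    fun y hy => (hWUV hy).1⟩

section Generic

open Groth.Agent.H11Ample Groth.Agent.H25Euler

variable [IsProper (X ↘ Spec (CommRingCat.of k))]

omit [Y.Over (Spec (CommRingCat.of k))] in
theorem hd_biprod (F G : X.Modules) (hF : Coh.IsCoh F) (hG : Coh.IsCoh G) (hFG : Coh.IsCoh (F ⊞ G)) (i : ℕ) :
    hd k (F ⊞ G) i = hd k F i + hd k G i := by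
  haveI := finite_HH (k := k) F hF i
  haveI := finite_HH (k := k) G hG i
  haveI := finite_HH (k := k) (F ⊞ G) hFG i
  refine le_antisymm ?_ ?_
  · exact (hd_shortExact (k := k) (S := ShortComplex.mk biprod.inl biprod.snd (by simp))
      ((ShortComplex.Splitting.mk (S := ShortComplex.mk biprod.inl biprod.snd (by simp)) biprod.fst biprod.inr
        (by simp) (by simp) (biprod.total)).shortExact) hF hFG hG i).1
  · refine le_of_eq_of_le (Module.finrank_prod (R := k)).symm (LinearMap.finrank_le_finrank_of_injective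
      (f := (Canon.HHlin k (biprod.inl : F ⟶ F ⊞ G) i).coprod (Canon.HHlin k (biprod.inr : G ⟶ F ⊞ G) i)) ?_)
    refine (injective_iff_map_eq_zero _).2 fun x hx => ?_
    rw [LinearMap.coprod_apply] at hx
    have h1 := congrArg (Canon.HHlin k (biprod.fst : F ⊞ G ⟶ F) i) hx
    have h2 := congrArg (Canon.HHlin k (biprod.snd : F ⊞ G ⟶ G) i) hx
    rw [map_add, map_zero, ← H29RR.hhlin_comp, ← H29RR.hhlin_comp, biprod.inl_fst, biprod.inr_fst,
      H29RR.hhlin_id, H29RR.hhlin_zero, add_zero] at h1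
    rw [map_add, map_zero, ← H29RR.hhlin_comp, ← H29RR.hhlin_comp, biprod.inl_snd, biprod.inr_snd,
      H29RR.hhlin_id, H29RR.hhlin_zero, zero_add] at h2
    exact Prod.ext h1 h2

variable [IsIntegral X]

omit [Y.Over (Spec (CommRingCat.of k))] in
theorem hd_free_tensor {L : X.Modules} (hL : PicF.IsInvertible L) (i : ℕ) : ∀ n : ℕ,
    hd k (CohB1.tensorMod (FlatMod.freeMod X n) L) i = n * hd k L i
  | 0 => by
    rw [Nat.zero_mul]
    exact H12Pic.NumTriv.hd_zero_of_isZero k (H12Pic.NumTriv.isZero_tensor ((IsZero.iff_id_eq_zero _).2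
      (Sigma.hom_ext _ _ fun b => b.elim0)) L) i
  | n + 1 => by
    haveI := H28Int.isNoetherian k (X := X)
    let T := (DCoh.tensorBi (X := X)).flip.obj L
    haveI : T.Additive := inferInstanceAs (((DCoh.tensorBi (X := X)).flip.obj L).Additive)
    haveI : PreservesFiniteBiproducts T := Functor.preservesFiniteBiproductsOfAdditive _
    haveI : PreservesBinaryBiproducts T := preservesBinaryBiproducts_of_preservesBiproducts T
    have hc := fun m => isCoh_tensor (VolPush.isCoh_free k (X := X) m) hL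
    have e : CohB1.tensorMod (FlatMod.freeMod X (n + 1)) L ≅
        CohB1.tensorMod (Coh.structureModule X) L ⊞ CohB1.tensorMod (FlatMod.freeMod X n) L :=
      T.mapIso (KModel.freeSucc n) ≪≫ T.mapBiprod _ _
    rw [hd_congr e i, hd_biprod k _ _ (isCoh_tensor (H10Coh.isCoh_structureModule' X) hL) (hc n)
      (H10Coh.isCoh_of_iso e (hc (n + 1))) i, hd_free_tensor hL i n, hd_congr (H10Coh.Tw.leftUnitIso L) i]
    ring

variable {A : X.Modules} (hA : CohB1.IsAmple A) {d : ℕ} (hdim : topologicalKrullDim X ≤ (d : WithBot ℕ∞))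
include hA hdim

omit [Y.Over (Spec (CommRingCat.of k))] in
/-- A generically bijective morphism changes cohomology by `O(m^(d-1))`. -/
theorem near_of_generic {F G : X.Modules} (hF : Coh.IsCoh F) (hG : Coh.IsCoh G) (φ : F ⟶ G)
    (hK : genericPoint X ∉ CohB1.support (kernel φ)) (hQ : genericPoint X ∉ CohB1.support (cokernel φ))
    {L : X.Modules} (hL : PicF.IsInvertible L) (i : ℕ) :
    VolHigh.Near d (fun m => hd k (CohB1.tensorMod F (CohB1.tensorPow L m)) i)
      (fun m => hd k (CohB1.tensorMod G (CohB1.tensorPow L m)) i) := by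
  haveI := H28Int.isNoetherian k (X := X)
  have hlow : ∀ Q : X.Modules, Coh.IsCoh Q → genericPoint X ∉ CohB1.support Q →
      topologicalKrullDim (CohB1.support Q) < (d : WithBot ℕ∞) := fun Q hQ h =>
    H28Int.dim_lt_of_notMem (C := Set.univ) (genericPoint_spec X)
      (le_trans (le_of_eq (Homeomorph.Set.univ X).isHomeomorph.topologicalKrullDim_eq) hdim)
      (H10Coh.isClosed_support _ hQ.2) (Set.subset_univ _) h
  have h := VolHigh.diff k (VolHigh.small k hA d) hF hG φ (hlow _ (H10Coh.isCoh_kernel φ hF hG.1) hK)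
    (hlow _ (H10Coh.isCoh_cokernel φ hF.1 hG) hQ) (H11Ample.isInvertible_structureModule (X := X)) hL i
  exact ((VolHigh.Near.of_eq fun m => hd_congr (PicGrp.tensorModIso (Iso.refl F) (Tw.leftUnitIso _).symm) i).trans h).trans
    (VolHigh.Near.of_eq fun m => hd_congr (PicGrp.tensorModIso (Iso.refl G) (Tw.leftUnitIso _)) i)

omit [Y.Over (Spec (CommRingCat.of k))] in
/-- Cohomology sees only the generic rank. -/
theorem near_genRank {F : X.Modules} (hF : Coh.IsCoh F) {L : X.Modules} (hL : PicF.IsInvertible L) (i : ℕ) :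
    VolHigh.Near d (fun m => hd k (CohB1.tensorMod F (CohB1.tensorPow L m)) i)
      (fun m => genRank F * hd k (CohB1.tensorPow L m) i) := by
  haveI := H28Int.isNoetherian k (X := X)
  obtain ⟨n₁, h₁⟩ := VolPush.exists_free k hA hF
  obtain ⟨n₂, h₂⟩ := VolGrowth.exists_gen_twist k hA (H11Ample.isInvertible_structureModule (X := X)) (genericPoint X)
  obtain ⟨φ, hφm, hφQ⟩ := h₁ (max n₁ n₂) (le_max_left _ _)
  obtain ⟨g₀, hg₀⟩ := h₂ (max n₁ n₂) (le_max_right _ _)
  haveI := hφm
  let B := CohB1.tensorPow A (max n₁ n₂)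
  have hB : PicF.IsInvertible B := isInvertible_tensorPow hA.1 _
  obtain ⟨g, hgη⟩ : ∃ g : Γ(B, ⊤), genericPoint X ∈ gen B g :=
    ⟨(Tw.leftUnitIso B).hom.app ⊤ g₀, by rw [gen_iso]; exact hg₀⟩
  let μ := H25Euler.mulHom F (H11Tilde.homOfGlobal B g)
  have hFB : Coh.IsCoh (CohB1.tensorMod F B) := isCoh_tensor hF hB
  have hμ := H25Euler.notMem_support_kernel_cokernel μ (H25Euler.isIso_stalk_mulHom F _ hgη)
  have hFc := VolPush.isCoh_free k (X := X) (genRank F)
  have a := near_of_generic k hA hdim hF hFB μ hμ.1 hμ.2 hL i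
  have b := near_of_generic k hA hdim hFc hFB φ
    (by
      intro h
      have h0 := LeadDev.support_eq_empty_of_isZero (isZero_kernel_of_mono φ)
      rw [h0] at h
      exact h)
    (notMem_support_of_genRank_eq_zero (H10Coh.isCoh_cokernel φ hFc.1 hFB) hφQ) hL i
  exact (a.trans b.symm).trans (VolHigh.Near.of_eq fun m => hd_free_tensor k (isInvertible_tensorPow hL m) i _)

end Generic

end Groth.Agent.H22Alg.VolHighPush
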