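import Groth.Agent.H22Alg.VolHighPush
import Groth.Agent.H22Alg.VolHhat
import Groth.Agent.H28Vert.PicVert

/-! # Cohomology of products of powers of finitely many invertible modules. -/

set_option autoImplicit false
set_option linter.style.haveILetI false
set_option linter.unusedSectionVars false

universe u

open CategoryTheory CategoryTheory.Limits AlgebraicGeometry TopologicalSpace
open Groth.Agent.H11Ample Groth.Agent.H25Index

noncomputable section

namespace Groth.Agent.H22Alg.VolMulti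

open VolHigh (delta)

attribute [local instance] Groth.Agent.H28Vert.picLaw

/-- All coordinates lie in `[-N, N]`. -/
def Box {r : ℕ} (N : ℕ) (x : Fin r → ℤ) : Prop := ∀ j, (x j).natAbs ≤ N

theorem path {r : ℕ} {N D : ℕ} {f : (Fin r → ℤ) → ℕ}
    (hstep : ∀ j x, Box N x → Box N (Function.update x j (x j + 1)) →
      f (Function.update x j (x j + 1)) ≤ f x + D ∧ f x ≤ f (Function.update x j (x j + 1)) + D) :
    ∀ (t : ℕ) (x y : Fin r → ℤ), Box N x → Box N y → ∑ j, (x j - y j).natAbs = t → f x ≤ f y + t * D := by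
  intro t
  induction t with
  | zero =>
    intro x y _ _ h
    have : x = y := funext fun j => by
      have := (Finset.sum_eq_zero_iff.1 h) j (Finset.mem_univ j)
      omega
    rw [this]; simp
  | succ t ih =>
    intro x y hx hy h
    obtain ⟨j, -, hj⟩ := Finset.exists_ne_zero_of_sum_ne_zero (h.trans_ne (Nat.succ_ne_zero t))
    have key : ∀ s : ℤ, (s = y j + 1 ∧ y j < x j) ∨ (s = y j - 1 ∧ x j < y j) →
        Box N (Function.update y j s) ∧ ∑ l, (x l - Function.update y j s l).natAbs = t := fun s hs => by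
      refine ⟨fun l => ?_, ?_⟩
      · rcases eq_or_ne l j with rfl | hl
        · rw [Function.update_self]; have := hx l; have := hy l; omega
        · rw [Function.update_of_ne hl]; exact hy l
      · have e : ∀ l, (x l - Function.update y j s l).natAbs + (if l = j then 1 else 0) = (x l - y l).natAbs :=
          fun l => by
            rcases eq_or_ne l j with rfl | hl
            · rw [Function.update_self, if_pos rfl]; omega
            · rw [Function.update_of_ne hl, if_neg hl, add_zero]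
        have := Finset.sum_congr rfl fun l (_ : l ∈ Finset.univ) => e l
        rw [Finset.sum_add_distrib, Finset.sum_ite_eq' Finset.univ j, if_pos (Finset.mem_univ j), h] at this
        omega
    rcases lt_or_gt_of_ne (show y j ≠ x j by omega) with hlt | hlt
    · obtain ⟨hb, hs⟩ := key (y j + 1) (Or.inl ⟨rfl, hlt⟩)
      have h1 := ih x _ hx hb hs
      have h2 := (hstep j y hy hb).1
      rw [Nat.succ_mul]; omega
    · obtain ⟨hb, hs⟩ := key (y j - 1) (Or.inr ⟨rfl, hlt⟩)
      have h1 := ih x _ hx hb hs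
      have hu : Function.update (Function.update y j (y j - 1)) j (Function.update y j (y j - 1) j + 1) = y := by
        rw [Function.update_idem, Function.update_self, sub_add_cancel, Function.update_eq_self]
      have h2 := (hstep j _ hb (by rw [hu]; exact hy)).2
      rw [hu] at h2
      rw [Nat.succ_mul]; omega

variable {X : Scheme.{u}}

/-- A representative of a class. -/
def rep (c : PicLoc.PicSet X) : X.Modules := (PicGrp.exists_eq_cls c).choose

theorem isInvertible_rep (c : PicLoc.PicSet X) : PicF.IsInvertible (rep c) :=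
  (PicGrp.exists_eq_cls c).choose_spec.choose

theorem cls_rep (c : PicLoc.PicSet X) : PicGrp.cls (rep c) (isInvertible_rep c) = c :=
  (PicGrp.exists_eq_cls c).choose_spec.choose_spec.symm

theorem nonempty_rep_iso {L : X.Modules} (hL : PicF.IsInvertible L) {c : PicLoc.PicSet X}
    (h : PicGrp.cls L hL = c) : Nonempty (L ≅ rep c) :=
  (PicGrp.cls_eq_cls_iff _ _).1 (h.trans (cls_rep c).symm)

theorem nonempty_rep_mul {L : X.Modules} (hL : PicF.IsInvertible L) (c : PicLoc.PicSet X) :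
    Nonempty (CohB1.tensorMod L (rep c) ≅ rep (PicGrp.cls L hL * c)) := by
  refine nonempty_rep_iso (isInvertible_tensor hL (isInvertible_rep c)) ?_
  conv_rhs => rw [← cls_rep c]
  exact Subtype.ext (PicGrp.cls_mul_cls_val hL _).symm

/-- The class of `⊗ L_j^{x_j}`. -/
def z {r : ℕ} (g : Fin r → PicLoc.PicSet X) (x : Fin r → ℤ) : PicLoc.PicSet X := ∏ j, g j ^ x j

theorem z_update {r : ℕ} (g : Fin r → PicLoc.PicSet X) (x : Fin r → ℤ) (j : Fin r) :
    z g (Function.update x j (x j + 1)) = g j * z g x := by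
  rw [z, z, ← Finset.mul_prod_erase _ _ (Finset.mem_univ j),
    ← Finset.mul_prod_erase _ (fun l => g l ^ x l) (Finset.mem_univ j), Function.update_self, zpow_add_one,
    Finset.prod_congr rfl fun l hl => by rw [Function.update_of_ne (Finset.ne_of_mem_erase hl)], ← mul_assoc,
    mul_comm (g j) (g j ^ x j)]

theorem z_nsmul {r : ℕ} (g : Fin r → PicLoc.PicSet X) (m : ℕ) (x : Fin r → ℤ) :
    z g x ^ m = z g fun j => (m : ℤ) * x j := by
  rw [z, z, ← Finset.prod_pow]
  exact Finset.prod_congr rfl fun j _ => by rw [← zpow_natCast, ← zpow_mul, mul_comm]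

variable (k : Type u) [Field k] [X.Over (Spec (CommRingCat.of k))]

/-- `h^i(F ⊗ L^x)`. -/
def hz (F : X.Modules) (i : ℕ) {r : ℕ} (g : Fin r → PicLoc.PicSet X) (x : Fin r → ℤ) : ℕ :=
  hd k (CohB1.tensorMod F (rep (z g x))) i

variable [IsProper (X ↘ Spec (CommRingCat.of k))]

/-- All cohomology groups are uniformly small on boxes. -/
def Small {r : ℕ} (g : Fin r → PicLoc.PicSet X) (d : ℕ) (G : X.Modules) : Prop :=
  ∀ i : ℕ, ∃ C : ℕ, ∀ N x, Box N x → hz k G i g x ≤ C * delta d N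

/-- All cohomology groups are uniformly bounded on boxes. -/
def Bdd {r : ℕ} (g : Fin r → PicLoc.PicSet X) (d : ℕ) (G : X.Modules) : Prop :=
  ∀ i : ℕ, ∃ C : ℕ, ∀ N x, Box N x → hz k G i g x ≤ C * (N + 1) ^ d

variable {r : ℕ} (g : Fin r → PicLoc.PicSet X)

/-- A morphism with small kernel and cokernel, after a twist. -/
theorem diff {d : ℕ}
    (hlow : ∀ G : X.Modules, Coh.IsCoh G → topologicalKrullDim (CohB1.support G) < (d : WithBot ℕ∞) → Small k g d G)
    {F G : X.Modules} (hF : Coh.IsCoh F) (hG : Coh.IsCoh G) (φ : F ⟶ G)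
    (hK : topologicalKrullDim (CohB1.support (kernel φ)) < (d : WithBot ℕ∞))
    (hQ : topologicalKrullDim (CohB1.support (cokernel φ)) < (d : WithBot ℕ∞))
    {B : X.Modules} (hB : PicF.IsInvertible B) (i : ℕ) :
    ∃ C : ℕ, ∀ N x, Box N x →
      hd k (CohB1.tensorMod F (CohB1.tensorMod B (rep (z g x)))) i ≤
        hd k (CohB1.tensorMod G (CohB1.tensorMod B (rep (z g x)))) i + C * delta d N ∧
      hd k (CohB1.tensorMod G (CohB1.tensorMod B (rep (z g x)))) i ≤
        hd k (CohB1.tensorMod F (CohB1.tensorMod B (rep (z g x)))) i + C * delta d N := by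
  haveI := H28Int.isNoetherian k (X := X)
  have hKc := H10Coh.isCoh_kernel φ hF hG.1
  have hQc := H10Coh.isCoh_cokernel φ hF.1 hG
  have hI := H10Coh.isCoh_kernel (cokernel.π φ) hG hQc.1
  have w₁ : kernel.ι φ ≫ Abelian.factorThruImage φ = 0 := by
    rw [← cancel_mono (Abelian.image.ι φ), Category.assoc, Abelian.image.fac, kernel.condition, zero_comp]
  have hS₁ : (ShortComplex.mk (kernel.ι φ) (Abelian.factorThruImage φ) w₁).ShortExact :=
    { exact := ShortComplex.exact_of_f_is_kernel _ (KernelFork.IsLimit.ofι' _ _ fun g hg =>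
        ⟨kernel.lift φ g (by
          rw [← Abelian.image.fac φ, ← Category.assoc, hg, zero_comp]), kernel.lift_ι _ _ _⟩)
      epi_g := inferInstanceAs (Epi (Abelian.factorThruImage φ)) }
  have hS₂ : (ShortComplex.mk (kernel.ι (cokernel.π φ)) (cokernel.π φ) (kernel.condition _)).ShortExact :=
    { exact := ShortComplex.exact_kernel _ }
  have small : ∀ Q : X.Modules, Coh.IsCoh Q → topologicalKrullDim (CohB1.support Q) < (d : WithBot ℕ∞) →
      ∀ p, ∃ C, ∀ N x, Box N x → hd k (CohB1.tensorMod Q (CohB1.tensorMod B (rep (z g x)))) p ≤ C * delta d N := by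
    intro Q hQc hQd p
    obtain ⟨C, hC⟩ := hlow _ (isCoh_tensor hQc hB)
      (lt_of_le_of_lt (H28Int.dim_le_of_subset (H25Euler.support_tensor_subset Q B)) hQd) p
    exact ⟨C, fun N x hx => (hd_congr (H10Coh.Tw.assoc Q B _).symm p).le.trans (hC N x hx)⟩
  obtain ⟨C₁, h₁⟩ := small _ hKc hK i
  obtain ⟨C₂, h₂⟩ := small _ hKc hK (i + 1)
  obtain ⟨C₃, h₃⟩ := small _ hQc hQ i
  obtain ⟨C₄, h₄⟩ := small _ hQc hQ (i - 1)
  refine ⟨C₁ + C₂ + C₃ + C₄, fun N x hx => ?_⟩
  have hM := isInvertible_tensor hB (isInvertible_rep (z g x))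
  obtain ⟨a, -, b⟩ := VolHigh.seq_ineq k hS₁ hKc hF hI hM i
  obtain ⟨c, e, -⟩ := VolHigh.seq_ineq k hS₂ hI hG hQc hM i
  have k₁ := h₁ N x hx
  have k₂ := h₂ N x hx
  have k₃ := h₃ N x hx
  have k₄ := h₄ N x hx
  dsimp only at a b c e k₁ k₂ k₃ k₄ ⊢
  change _ ≤ _ + hd k (CohB1.tensorMod (kernel (cokernel.π φ)) _) i at a
  change hd k (CohB1.tensorMod (kernel (cokernel.π φ)) _) i ≤ _ at b
  simp only [Nat.add_mul]
  constructor <;> omega

/-- Neighbouring exponents on an integral closed subscheme. -/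
theorem consec {A : X.Modules} (hA : CohB1.IsAmple A) {d : ℕ}
    (hlow : ∀ G : X.Modules, Coh.IsCoh G → topologicalKrullDim (CohB1.support G) < (d : WithBot ℕ∞) → Small k g d G)
    {Z : Scheme.{u}} (ζ : Z ⟶ X) [IsClosedImmersion ζ] [IsIntegral Z]
    (hdim : topologicalKrullDim (Set.range ζ) ≤ (d : WithBot ℕ∞)) (j : Fin r) (i : ℕ) :
    ∃ C : ℕ, ∀ N x, Box N x →
      hz k ((Coh.push ζ).obj (Coh.structureModule Z)) i g (Function.update x j (x j + 1)) ≤
        hz k ((Coh.push ζ).obj (Coh.structureModule Z)) i g x + C * delta d N ∧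
      hz k ((Coh.push ζ).obj (Coh.structureModule Z)) i g x ≤
        hz k ((Coh.push ζ).obj (Coh.structureModule Z)) i g (Function.update x j (x j + 1)) + C * delta d N := by
  haveI := H28Int.isNoetherian k (X := X)
  let P := (Coh.push ζ).obj (Coh.structureModule Z)
  have hP : Coh.IsCoh P := LeadDev.isCoh_push_structure ζ
  let L := rep (g j)
  have hL := isInvertible_rep (g j)
  obtain ⟨n₁, h₁⟩ := VolGrowth.exists_gen_twist k hA hL (ζ (genericPoint Z))
  obtain ⟨n₂, h₂⟩ := VolGrowth.exists_gen_twist k hA H11Ample.isInvertible_structureModule (ζ (genericPoint Z))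
  obtain ⟨B, hB, ⟨g₂, hg₂⟩, B₁, hB₁, ⟨g₁, hg₁⟩, ⟨e₁⟩⟩ : ∃ B : X.Modules, PicF.IsInvertible B ∧
      (∃ s : Γ(B, ⊤), ζ (genericPoint Z) ∈ gen B s) ∧ ∃ B₁ : X.Modules, PicF.IsInvertible B₁ ∧
      (∃ s : Γ(B₁, ⊤), ζ (genericPoint Z) ∈ gen B₁ s) ∧ Nonempty (B₁ ≅ CohB1.tensorMod L B) :=
    ⟨_, isInvertible_tensor H11Ample.isInvertible_structureModule (isInvertible_tensorPow hA.1 (max n₁ n₂)),
      h₂ _ (le_max_right _ _), _, isInvertible_tensor hL (isInvertible_tensorPow hA.1 (max n₁ n₂)),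
      h₁ _ (le_max_left _ _), ⟨PicGrp.tensorModIso (Iso.refl L) (H10Coh.Tw.leftUnitIso _).symm⟩⟩
  obtain ⟨B', hB', ⟨e⟩⟩ := H29RR.exists_inverse_comm hB
  obtain ⟨φ₁, hφ₁, -, hQ₁⟩ := VolGrowth.exists_mul k ζ hB₁ g₁ hg₁ hdim
  obtain ⟨φ₂, hφ₂, -, hQ₂⟩ := VolGrowth.exists_mul k ζ hB g₂ hg₂ hdim
  haveI := hφ₁
  haveI := hφ₂
  obtain ⟨C₁, d₁⟩ := diff k g hlow hP (isCoh_tensor hP hB₁) φ₁
    (VolHigh.dim_support_lt_of_isZero d (isZero_kernel_of_mono φ₁)) hQ₁ hB' i
  obtain ⟨C₂, d₂⟩ := diff k g hlow hP (isCoh_tensor hP hB) φ₂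
    (VolHigh.dim_support_lt_of_isZero d (isZero_kernel_of_mono φ₂)) hQ₂ hB' i
  refine ⟨C₁ + C₂, fun N x hx => ?_⟩
  obtain ⟨em⟩ := nonempty_rep_mul hL (z g x)
  have hc : PicGrp.cls L hL * z g x = z g (Function.update x j (x j + 1)) := by
    rw [z_update, show PicGrp.cls L hL = g j from cls_rep (g j)]
  have i₁ : hd k (CohB1.tensorMod (CohB1.tensorMod P B₁) (CohB1.tensorMod B' (rep (z g x)))) i =
      hz k P i g (Function.update x j (x j + 1)) :=
    hd_congr (H10Coh.Tw.assoc P B₁ _ ≪≫ PicGrp.tensorModIso (Iso.refl P)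
      (PicGrp.tensorModIso e₁ (Iso.refl _) ≪≫ H10Coh.Tw.assoc L B _ ≪≫
        PicGrp.tensorModIso (Iso.refl L) ((H10Coh.Tw.assoc B B' _).symm ≪≫
          PicGrp.tensorModIso e (Iso.refl _) ≪≫ H10Coh.Tw.leftUnitIso _) ≪≫ em ≪≫ eqToIso (by rw [hc]))) i
  have i₂ : hd k (CohB1.tensorMod (CohB1.tensorMod P B) (CohB1.tensorMod B' (rep (z g x)))) i = hz k P i g x :=
    hd_congr (H10Coh.Tw.assoc P B _ ≪≫ PicGrp.tensorModIso (Iso.refl P) ((H10Coh.Tw.assoc B B' _).symm ≪≫
      PicGrp.tensorModIso e (Iso.refl _) ≪≫ H10Coh.Tw.leftUnitIso _)) i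
  obtain ⟨a, b⟩ := d₁ N x hx
  obtain ⟨c, f⟩ := d₂ N x hx
  rw [i₁] at a b
  rw [i₂] at c f
  rw [Nat.add_mul]
  change hz k P i g _ ≤ hz k P i g x + _ ∧ hz k P i g x ≤ hz k P i g _ + _
  constructor <;> omega

theorem bdd_push {A : X.Modules} (hA : CohB1.IsAmple A) {d : ℕ}
    (hlow : ∀ G : X.Modules, Coh.IsCoh G → topologicalKrullDim (CohB1.support G) < (d : WithBot ℕ∞) → Small k g d G)
    {Z : Scheme.{u}} (ζ : Z ⟶ X) [IsClosedImmersion ζ] [IsIntegral Z]
    (hdim : topologicalKrullDim (Set.range ζ) ≤ (d : WithBot ℕ∞)) :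
    Bdd k g d ((Coh.push ζ).obj (Coh.structureModule Z)) := fun i => by
  choose C hC using fun j => consec k g hA hlow ζ hdim j i
  let P := (Coh.push ζ).obj (Coh.structureModule Z)
  refine ⟨hz k P i g 0 + r * ((∑ j, C j) * (d * 2 ^ d)), fun N x hx => ?_⟩
  have h := path (f := hz k P i g) (D := (∑ j, C j) * delta d N) (fun j y hy _ => by
      obtain ⟨a, b⟩ := hC j N y hy
      have := Nat.mul_le_mul_right (delta d N) (Finset.single_le_sum (f := C) (fun _ _ => Nat.zero_le _) (Finset.mem_univ j))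
      exact ⟨a.trans (Nat.add_le_add_left this _), b.trans (Nat.add_le_add_left this _)⟩)
    _ x 0 hx (fun _ => Nat.zero_le _) rfl
  refine h.trans ?_
  rw [Nat.add_mul]
  refine Nat.add_le_add (Nat.le_mul_of_pos_right _ (Nat.pow_pos (Nat.succ_pos N))) ?_
  have hsum : ∑ j, (x j - (0 : Fin r → ℤ) j).natAbs ≤ r * N :=
    (Finset.sum_le_card_nsmul _ _ N (fun j _ => by simpa using hx j)).trans (by simp)
  refine (Nat.mul_le_mul_right _ hsum).trans ?_
  have hN : N * delta d N ≤ d * 2 ^ d * (N + 1) ^ d := by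
    rcases Nat.eq_zero_or_pos N with rfl | hN
    · simp
    exact (VolLimsup.sub_pow_le d N hN).trans (Nat.mul_le_mul_left _ (Nat.pow_le_pow_left (Nat.le_succ N) d))
  calc r * N * ((∑ j, C j) * delta d N) = r * ((∑ j, C j) * (N * delta d N)) := by ring
    _ ≤ r * ((∑ j, C j) * (d * 2 ^ d * (N + 1) ^ d)) := Nat.mul_le_mul_left _ (Nat.mul_le_mul_left _ hN)
    _ = _ := by ring

theorem bdd_step {A : X.Modules} (hA : CohB1.IsAmple A) {d : ℕ}
    (hlow : ∀ G : X.Modules, Coh.IsCoh G → topologicalKrullDim (CohB1.support G) < (d : WithBot ℕ∞) → Small k g d G)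
    {F : X.Modules} (hF : Coh.IsCoh F) (hdim : topologicalKrullDim (CohB1.support F) ≤ (d : WithBot ℕ∞)) :
    Bdd k g d F := by
  haveI := H28Int.isNoetherian k (X := X)
  refine (LeadDev.devissage_induction (CohB1.support F) (fun G => Coh.IsCoh G → Bdd k g d G) ?_ ?_ ?_ ?_ F hF le_rfl) hF
  · rintro M N ⟨e⟩ h hN i
    obtain ⟨C, hC⟩ := h (H10Coh.isCoh_of_iso e.symm hN) i
    exact ⟨C, fun N x hx => (hd_congr (PicGrp.tensorModIso e (Iso.refl _)) i).ge.trans (hC N x hx)⟩
  · intro M hM _ i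
    exact ⟨0, fun N x _ => (H12Pic.NumTriv.hd_zero_of_isZero k (H12Pic.NumTriv.isZero_tensor hM _) i).le.trans (Nat.zero_le _)⟩
  · intro S hS h₁ h₂ h₃ hb₁ hb₃ _ i
    obtain ⟨C₁, hC₁⟩ := hb₁ h₁ i
    obtain ⟨C₃, hC₃⟩ := hb₃ h₃ i
    refine ⟨C₁ + C₃, fun N x hx => ?_⟩
    refine (VolHigh.seq_ineq k hS h₁ h₂ h₃ (isInvertible_rep (z g x)) i).1.trans ?_
    rw [Nat.add_mul]
    exact Nat.add_le_add (hC₁ N x hx) (hC₃ N x hx)
  · intro Z ζ _ _ hr hsmall I ι hι hI hA' i
    haveI : I.IsQuasicoherent := hI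
    by_cases hne : IsZero I
    · exact ⟨0, fun N x _ => (H12Pic.NumTriv.hd_zero_of_isZero k
        (H12Pic.NumTriv.isZero_tensor ((Coh.push ζ).map_isZero hne) _) i).le.trans (Nat.zero_le _)⟩
    let j := (Coh.push ζ).map ι
    let P := (Coh.push ζ).obj (Coh.structureModule Z)
    have hP : Coh.IsCoh P := LeadDev.isCoh_push_structure ζ
    obtain ⟨W, hW, hξW, -⟩ := exists_isAffineOpen_mem_and_subset (U := (⊤ : X.Opens)) (x := ζ (genericPoint Z)) trivial
    have hnot := LeadDev.notMem_support_cokernel j (H10Coh.isQuasicoherent_pushforward ζ I) hP.1 hW hξW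
      (LeadDev.surjAt_push_map ζ rfl I ι hI hne hW hξW)
    have hQc : Coh.IsCoh (cokernel j) := H10Coh.isCoh_cokernel j hA'.1 hP
    have hQs : CohB1.support (cokernel j) ⊆ Set.range ζ :=
      (LeadDev.support_subset_of_epi (cokernel.π j)).trans (H28Int.support_push_structure_eq ζ).le
    obtain ⟨C₁, h₁⟩ := bdd_push k g hA hlow ζ ((H28Int.dim_le_of_subset hr).trans hdim) i
    obtain ⟨C₂, h₂⟩ := hsmall _ hQc hQs hnot hQc (i - 1)
    refine ⟨C₁ + C₂, fun N x hx => ?_⟩
    have hS : (ShortComplex.mk j (cokernel.π j) (cokernel.condition j)).ShortExact :=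
      ShortComplex.ShortExact.mk' (ShortComplex.exact_cokernel j) inferInstance inferInstance
    obtain ⟨-, h, -⟩ := VolHigh.seq_ineq k hS hA' hP hQc (isInvertible_rep (z g x)) i
    refine h.trans ?_
    rw [Nat.add_mul]
    exact Nat.add_le_add (h₁ N x hx) (h₂ N x hx)

theorem small {A : X.Modules} (hA : CohB1.IsAmple A) : ∀ (d : ℕ) (F : X.Modules), Coh.IsCoh F →
    topologicalKrullDim (CohB1.support F) < (d : WithBot ℕ∞) → Small k g d F
  | 0, F, _, hdim => fun i => ⟨0, fun N x _ => by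
    refine (H12Pic.NumTriv.hd_zero_of_isZero k (H12Pic.NumTriv.isZero_tensor ?_ _) i).le.trans (Nat.zero_le _)
    by_contra hne
    refine not_le.2 hdim ?_
    haveI := (H25Euler.support_nonempty hne).to_subtype
    haveI : Nonempty (IrreducibleCloseds (CohB1.support F)) :=
      ⟨⟨_, isIrreducible_singleton.closure, isClosed_closure (s := {Classical.arbitrary (CohB1.support F)})⟩⟩
    rw [Nat.cast_zero]
    exact Order.krullDim_nonneg⟩
  | d + 1, F, hF, hdim => fun i => by
    obtain ⟨C, hC⟩ := bdd_step k g hA (small hA d) hF ((H12Pic.NumTriv.lt_succ_iff' _ d).1 hdim) i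
    exact ⟨C, fun N x hx => (hC N x hx).trans (Nat.mul_le_mul_left C (VolGrowth.pow_le_sub N d))⟩

/-- **Uniform growth**: `h^i(F ⊗ L^x) = O(|x|^d)`. -/
theorem bdd {A : X.Modules} (hA : CohB1.IsAmple A) {d : ℕ} {F : X.Modules} (hF : Coh.IsCoh F)
    (hdim : topologicalKrullDim (CohB1.support F) ≤ (d : WithBot ℕ∞)) : Bdd k g d F :=
  bdd_step k g hA (small k g hA d) hF hdim

/-- **Lipschitz**: `h^i(L^x)` changes by `O(|x - y| |x|^(d-1))`. -/
theorem lipschitz [IsIntegral X] {A : X.Modules} (hA : CohB1.IsAmple A) {d : ℕ}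
    (hdim : topologicalKrullDim X ≤ (d : WithBot ℕ∞)) (i : ℕ) :
    ∃ C : ℕ, ∀ N x y, Box N x → Box N y →
      hd k (rep (z g x)) i ≤ hd k (rep (z g y)) i + (∑ j, (x j - y j).natAbs) * (C * delta d N) := by
  haveI := H28Int.isNoetherian k (X := X)
  choose C hC using fun j => consec k g hA (small k g hA d) (𝟙 X)
    ((H28Int.dim_le_of_subset (Set.subset_univ _)).trans
      (((Homeomorph.Set.univ X).isInducing.topologicalKrullDim_le).trans hdim)) j i
  have he : ∀ x, hz k ((Coh.push (𝟙 X)).obj (Coh.structureModule X)) i g x = hd k (rep (z g x)) i := fun x =>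
    hd_congr (PicGrp.tensorModIso H28Int.Surface.pushIdIso (Iso.refl _) ≪≫ H10Coh.Tw.leftUnitIso _) i
  refine ⟨∑ j, C j, fun N x y hx hy => ?_⟩
  refine path (f := fun x => hd k (rep (z g x)) i) (fun j w hw _ => ?_) _ x y hx hy rfl
  obtain ⟨a, b⟩ := hC j N w hw
  rw [he, he] at a b
  have := Nat.mul_le_mul_right (delta d N) (Finset.single_le_sum (f := C) (fun _ _ => Nat.zero_le _) (Finset.mem_univ j))
  exact ⟨a.trans (Nat.add_le_add_left this _), b.trans (Nat.add_le_add_left this _)⟩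

end Groth.Agent.H22Alg.VolMulti
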