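import Groth.Agent.H22Alg.VolFam
import Groth.Agent.H22Alg.VolNum
import Groth.Agent.H22Alg.VolHhat
import Groth.Agent.H10Coh.SlopeReg.Main
import Groth.Agent.S4413
import Groth.Agent.S17621

/-! # Numerically trivial twists do not change the asymptotic cohomology. -/

set_option autoImplicit false
set_option linter.style.haveILetI false
set_option linter.unusedSectionVars false

universe u

open CategoryTheory CategoryTheory.Limits AlgebraicGeometry TopologicalSpace Filter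
open Groth.Agent.H11Ample Groth.Agent.H25Index Groth.Agent.H12Pic.NumTriv

noncomputable section

namespace Groth.Agent.H22Alg.VolNumTriv

open VolHigh (delta)
open VolFam (W)

variable (k : Type u) [Field k] [IsAlgClosed k] {X : Scheme.{u}} [X.Over (Spec (CommRingCat.of k))]
  [IsProper (X ↘ Spec (CommRingCat.of k))]

/-- A projective embedding given by a power of an ample module sees every numerically trivial twist uniformly. -/
theorem vanishing {N : ℕ} (i : X ⟶ CohB1.ProjSpace N k) [IsClosedImmersion i]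
    (hi : i ≫ CohB1.ProjSpace.toSpec N k = X ↘ Spec (CommRingCat.of k)) {A₁ : X.Modules}
    (eO : (Scheme.Modules.pullback i).obj (Twist.twistProjSpace N k 1) ≅ A₁) {G : X.Modules} (hG : Coh.IsCoh G) :
    ∃ a₀ : ℕ, ∀ P : X.Modules, NT k P → ∀ a, a₀ ≤ a → ∀ q, 0 < q →
      hd k (CohB1.tensorMod G (CohB1.tensorMod P (CohB1.tensorPow A₁ a))) q = 0 := by
  obtain ⟨r, hr⟩ := H12Pic.NumTriv.exists_dim k (X := X)
  obtain ⟨M, hM⟩ := (good_of_dim k i hi hr hG).reg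
  refine ⟨M, fun P hP a ha q hq => ?_⟩
  have hreg := regular_mono k i (isCoh_tensor hG hP.inv) (show (M : ℤ) ≤ ((a + q : ℕ) : ℤ) by omega) (hM P hP) q hq
  rw [show ((a + q : ℕ) : ℤ) - q = (a : ℤ) by push_cast; ring] at hreg
  obtain ⟨e₁⟩ := (H12Pic.TwistOn.fam i).nonempty_tensorPow a
  obtain ⟨e₂⟩ := NakaiSemi.nonempty_tensorPow_congr eO a
  have e : Pic13.twistOn k i (CohB1.tensorMod G P) (a : ℤ) ≅
      CohB1.tensorMod G (CohB1.tensorMod P (CohB1.tensorPow A₁ a)) :=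
    PicGrp.tensorModIso (Iso.refl _) (e₁.symm ≪≫ e₂) ≪≫ H10Coh.Tw.assoc _ _ _
  rw [← hd_congr e q]
  haveI := hreg
  exact Module.finrank_zero_of_subsingleton

theorem chi {N : ℕ} (i : X ⟶ CohB1.ProjSpace N k) [IsClosedImmersion i]
    (hi : i ≫ CohB1.ProjSpace.toSpec N k = X ↘ Spec (CommRingCat.of k)) {G : X.Modules} (hG : Coh.IsCoh G)
    {P : X.Modules} (hP : NT k P) :
    Curv2.euler k X (CohB1.tensorMod G P) = Curv2.euler k X G := by
  obtain ⟨r, hr⟩ := H12Pic.NumTriv.exists_dim k (X := X)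
  exact (good_of_dim k i hi hr hG).chi P hP

theorem delta_le (n K m : ℕ) (hm : 1 ≤ m) : delta n (K * m) ≤ n * 2 ^ n * (K + 1) ^ n * delta n m := by
  rcases n with _ | n'
  · simp [delta]
  rcases Nat.eq_zero_or_pos K with rfl | hK
  · have hd : (1 : ℕ) ≤ delta (n' + 1) m := (Nat.one_le_pow n' (m + 1) (Nat.succ_pos m)).trans (VolGrowth.pow_le_sub m n')
    have h1 : delta (n' + 1) (0 * m) = 1 := by simp [delta]
    rw [h1]
    exact hd.trans (Nat.le_mul_of_pos_left _ (by positivity))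
  have h1 := VolLimsup.sub_pow_le (n' + 1) (K * m) (Nat.mul_pos hK hm)
  have h2 : delta (n' + 1) (K * m) ≤ (n' + 1) * 2 ^ (n' + 1) * (K * m) ^ n' := by
    refine Nat.le_of_mul_le_mul_left (h1.trans (le_of_eq ?_)) (Nat.mul_pos hK hm)
    ring
  refine h2.trans ?_
  rw [mul_assoc ((n' + 1) * 2 ^ (n' + 1)), mul_pow]
  refine Nat.mul_le_mul_left _ (Nat.mul_le_mul ?_ ?_)
  · exact (Nat.pow_le_pow_left (Nat.le_succ K) n').trans (Nat.pow_le_pow_right (Nat.succ_pos K) (Nat.le_succ n'))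
  · exact (Nat.pow_le_pow_left (Nat.le_succ m) n').trans (VolGrowth.pow_le_sub m n')

variable [IsIntegral X] {A : X.Modules} (hA : CohB1.IsAmple A) {n : ℕ}
  (hn : topologicalKrullDim X = n)
include hA hn

/-- A power of every invertible module has the same cohomology under all numerically trivial twists, up to small terms. -/
theorem exists_uniform {L : X.Modules} (hL : PicF.IsInvertible L) (i : ℕ) :
    ∃ a : ℕ, 0 < a ∧ ∃ C m₁ : ℕ, ∀ P : X.Modules, NT k P → ∀ m, m₁ ≤ m →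
      hd k (CohB1.tensorMod P (CohB1.tensorPow (CohB1.tensorPow L a) m)) i ≤
        hd k (CohB1.tensorPow (CohB1.tensorPow L a) m) i + C * delta n m ∧
      hd k (CohB1.tensorPow (CohB1.tensorPow L a) m) i ≤
        hd k (CohB1.tensorMod P (CohB1.tensorPow (CohB1.tensorPow L a) m)) i + C * delta n m := by
  haveI := H28Int.isNoetherian k (X := X)
  obtain ⟨N₁, a₁, i₁, ha₁, hi₁, hq₁, ⟨eO₁⟩⟩ := CurveProj.exists_closedImmersion_iso k X hA
  haveI := hi₁
  let A₁ := CohB1.tensorPow A a₁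
  have hA₁ : CohB1.IsAmple A₁ := (isAmple_tensorPow_iff hA.1 a₁ ha₁).1 hA
  obtain ⟨L', hL', ⟨eL⟩⟩ := H29RR.exists_inverse_comm hL
  obtain ⟨c₀, hc₀⟩ := H11Ample.eventually_globallyGenerated hA₁ (isCoh_of_isInvertible hL')
  have hM₀ := isInvertible_tensor hL' (isInvertible_tensorPow hA₁.1 c₀)
  let B := CohB1.tensorMod A₁ (CohB1.tensorMod L' (CohB1.tensorPow A₁ c₀))
  have hB : CohB1.IsAmple B := isAmple_tensor_of_gen hA₁ hM₀ fun x => by
    obtain ⟨g, hg⟩ := exists_mem_gen_of_isGloballyGenerated hM₀ (hc₀ c₀ le_rfl) x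
    exact ⟨1, (H10Coh.Tw.leftUnitIso _).symm.hom.app ⊤ g, one_pos, (gen_iso (H10Coh.Tw.leftUnitIso _).symm.hom g).ge hg⟩
  obtain ⟨N₂, a, i₂, ha, hi₂, hq₂, ⟨eO₂⟩⟩ := CurveProj.exists_closedImmersion_iso k X hB
  haveI := hi₂
  refine ⟨a, ha, ?_⟩
  let A₂ := (Scheme.Modules.pullback i₂).obj (Twist.twistProjSpace N₂ k 1)
  have hA₂ : PicF.IsInvertible A₂ := H11Tilde.isInvertible_of_iso eO₂.symm (isInvertible_tensorPow hB.1 a)
  obtain ⟨A₂', hA₂', ⟨e₂⟩⟩ := H29RR.exists_inverse_comm hA₂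
  have avoid : ∀ S : Set X, S.Finite → ∃ s : Coh.structureModule X ⟶ A₂, S ⊆ (CohB1.genLocus A₂ s : Set X) := by
    intro S hS
    obtain ⟨s, hs⟩ := H10Coh.SlopeReg.exists_section_avoiding (k := k) (hS.image i₂)
    refine ⟨(H16Derived.KFlat.Stalk.structurePullbackIso i₂).inv ≫ (Scheme.Modules.pullback i₂).map s, fun x hx => ?_⟩
    have h := S4413.result i₂ (Twist.twistProjSpace N₂ k 1) H11Ample.isInvertible_twist s
      (H16Derived.KFlat.Stalk.structurePullbackIso i₂).symm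
    rw [Iso.symm_hom] at h
    show x ∈ CohB1.genLocus A₂ _
    rw [h]
    exact hs ⟨x, hx, rfl⟩
  obtain ⟨h₀, hh₀⟩ := VolNum.eventually_pos_twist k hA₁
  let H := CohB1.tensorPow A₁ h₀
  have hH : PicF.IsInvertible H := isInvertible_tensorPow hA₁.1 h₀
  have hO := H10Coh.isCoh_structureModule' X
  let Fam : X.Modules → Prop := fun F => Coh.IsCoh F ∧ topologicalKrullDim (CohB1.support F) < (n : WithBot ℕ∞) ∧
    ∃ (P₁ P₂ : X.Modules) (φ : Coh.structureModule X ⟶ CohB1.tensorMod H P₁), NT k P₁ ∧ NT k P₂ ∧ Mono φ ∧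
      Nonempty (F ≅ CohB1.tensorMod (cokernel φ) P₂)
  have hS : ∀ (P₁ : X.Modules) (φ : Coh.structureModule X ⟶ CohB1.tensorMod H P₁), Mono φ →
      (ShortComplex.mk φ (cokernel.π φ) (cokernel.condition φ)).ShortExact := fun P₁ φ hφ =>
    haveI := hφ
    ShortComplex.ShortExact.mk' (ShortComplex.exact_cokernel φ) inferInstance inferInstance
  obtain ⟨C, a', hC⟩ := VolFam.bound k hA₁ hA₂ hA₂' ⟨e₂⟩ avoid n Fam (fun F hF => ⟨hF.1, hF.2.1⟩)
    (fun e _ => by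
      have hE := isInvertible_tensorPow hA₂' e
      obtain ⟨b₁, hb₁⟩ := vanishing k i₁ hq₁ eO₁ (isCoh_of_isInvertible (isInvertible_tensor hH hE))
      obtain ⟨b₂, hb₂⟩ := vanishing k i₁ hq₁ eO₁ (isCoh_of_isInvertible hE)
      refine ⟨max b₁ b₂, fun F hF a ha q hq => ?_⟩
      obtain ⟨-, -, P₁, P₂, φ, hP₁, hP₂, hφ, ⟨eF⟩⟩ := hF
      have hW := VolFam.isInvertible_W hA₁.1 hA₂' e a
      have hHP := isCoh_of_isInvertible (isInvertible_tensor hH hP₁.inv)
      obtain ⟨-, -, h⟩ := VolHigh.seq_ineq k (hS P₁ φ hφ) hO hHP (H10Coh.isCoh_cokernel φ hO.1 hHP)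
        (isInvertible_tensor hP₂.inv hW) q
      refine Nat.le_zero.1 ((hd_congr (PicGrp.tensorModIso eF (Iso.refl _) ≪≫ H10Coh.Tw.assoc _ _ _) q).le.trans
        (h.trans ?_))
      dsimp only
      have j₁ : CohB1.tensorMod (CohB1.tensorMod H P₁) (CohB1.tensorMod P₂ (W A₁ A₂' e a)) ≅
          CohB1.tensorMod (CohB1.tensorMod H (CohB1.tensorPow A₂' e))
            (CohB1.tensorMod (CohB1.tensorMod P₁ P₂) (CohB1.tensorPow A₁ a)) :=
        (H10Coh.Tw.assoc _ _ _).symm ≪≫ (H10Coh.Tw.assoc _ _ _).symm ≪≫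
          PicGrp.tensorModIso (swapIso _ _ _ ≪≫ PicGrp.tensorModIso (swapIso _ _ _) (Iso.refl _) ≪≫
            H10Coh.Tw.assoc _ _ _) (Iso.refl _) ≪≫ H10Coh.Tw.assoc _ _ _
      have j₂ : CohB1.tensorMod (Coh.structureModule X) (CohB1.tensorMod P₂ (W A₁ A₂' e a)) ≅
          CohB1.tensorMod (CohB1.tensorPow A₂' e) (CohB1.tensorMod P₂ (CohB1.tensorPow A₁ a)) :=
        H10Coh.Tw.leftUnitIso _ ≪≫ (H10Coh.Tw.assoc _ _ _).symm ≪≫
          PicGrp.tensorModIso (H10Coh.Tw.commIso _ _) (Iso.refl _) ≪≫ H10Coh.Tw.assoc _ _ _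
      rw [hd_congr j₁ q, hb₁ _ (hP₁.tensor k hP₂) a (le_trans (le_max_left _ _) ha) q hq,
        hd_congr j₂ (q + 1), hb₂ _ hP₂ a (le_trans (le_max_right _ _) ha) (q + 1) (Nat.succ_pos q)])
    (fun e _ j => VolFam.exists_bound_D_of_euler_eq k
      (fun M => Curv2.euler k X (CohB1.tensorMod H M) - Curv2.euler k X M) (fun F hF => hF.1) (fun E hE M hM => by
        obtain ⟨-, -, P₁, P₂, φ, hP₁, hP₂, hφ, ⟨eE⟩⟩ := hE
        have hM' := isInvertible_tensor hP₂.inv hM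
        have hHP := isCoh_of_isInvertible (isInvertible_tensor hH hP₁.inv)
        have h := H25Euler.euler_add (k := k) (H10Coh.Tw.shortExact_seq (hS P₁ φ hφ) hM') (isCoh_tensor hO hM')
          (isCoh_tensor hHP hM') (isCoh_tensor (H10Coh.isCoh_cokernel φ hO.1 hHP) hM')
        change Curv2.euler k X (CohB1.tensorMod (CohB1.tensorMod H P₁) (CohB1.tensorMod P₂ M)) =
          Curv2.euler k X (CohB1.tensorMod (Coh.structureModule X) (CohB1.tensorMod P₂ M)) +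
            Curv2.euler k X (CohB1.tensorMod (cokernel φ) (CohB1.tensorMod P₂ M)) at h
        rw [H25Euler.euler_congr (PicGrp.tensorModIso eE (Iso.refl M) ≪≫ H10Coh.Tw.assoc _ _ _)]
        have h₁ : Curv2.euler k X (CohB1.tensorMod (CohB1.tensorMod H P₁) (CohB1.tensorMod P₂ M)) =
            Curv2.euler k X (CohB1.tensorMod H M) :=
          (H25Euler.euler_congr ((H10Coh.Tw.assoc _ _ _).symm ≪≫ swapIso _ _ _ ≪≫
            PicGrp.tensorModIso (swapIso _ _ _) (Iso.refl _) ≪≫ H10Coh.Tw.assoc _ _ _)).trans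
            (chi k i₁ hq₁ (isCoh_tensor (isCoh_of_isInvertible hH) hM) (hP₁.tensor k hP₂))
        have h₂ : Curv2.euler k X (CohB1.tensorMod (Coh.structureModule X) (CohB1.tensorMod P₂ M)) =
            Curv2.euler k X M :=
          (H25Euler.euler_congr (H10Coh.Tw.leftUnitIso _ ≪≫ H10Coh.Tw.commIso _ _)).trans
            (chi k i₁ hq₁ (isCoh_of_isInvertible hM) hP₂)
        omega)
      _ (fun A hA => (List.eq_of_mem_replicate hA).symm ▸ hA₁.1) _ (isInvertible_tensorPow hA₂' e))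
  -- the two comparisons
  let c := a * (c₀ + 1)
  let M := CohB1.tensorPow L a
  obtain ⟨eM⟩ : Nonempty (M ≅ CohB1.tensorMod A₂' (CohB1.tensorPow A₁ c)) := by
    letI := Groth.Agent.H28Vert.picLaw X
    refine (PicGrp.cls_eq_cls_iff (isInvertible_tensorPow hL a) (VolFam.isInvertible_W hA₁.1 hA₂' 0 0 |> fun _ =>
      isInvertible_tensor hA₂' (isInvertible_tensorPow hA₁.1 c))).1 ?_
    have hm : ∀ {U V : X.Modules} (hU : PicF.IsInvertible U) (hV : PicF.IsInvertible V),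
        PicGrp.cls (CohB1.tensorMod U V) (isInvertible_tensor hU hV) = PicGrp.cls U hU * PicGrp.cls V hV :=
      fun hU hV => Subtype.ext (PicGrp.cls_mul_cls_val hU hV).symm
    have hp : ∀ {U : X.Modules} (hU : PicF.IsInvertible U) (j : ℕ),
        PicGrp.cls (CohB1.tensorPow U j) (isInvertible_tensorPow hU j) = PicGrp.cls U hU ^ j :=
      fun hU j => H28Vert.cls_tensorPow hU j
    have hA₂cls : PicGrp.cls A₂ hA₂ = PicGrp.cls B hB.1 ^ a :=
      (((PicGrp.cls_eq_cls_iff hA₂ (isInvertible_tensorPow hB.1 a)).2 ⟨eO₂⟩)).trans (hp hB.1 a)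
    have hBcls : PicGrp.cls B hB.1 =
        PicGrp.cls A₁ hA₁.1 * ((PicGrp.cls L hL)⁻¹ * PicGrp.cls A₁ hA₁.1 ^ c₀) := by
      rw [PicGrp.cls_inv_eq_cls hL hL' ⟨eL⟩, ← hp hA₁.1 c₀, ← hm hL' (isInvertible_tensorPow hA₁.1 c₀), ← hm hA₁.1]
    rw [hm hA₂' (isInvertible_tensorPow hA₁.1 c), hp hA₁.1 c, hp hL a,
      ← PicGrp.cls_inv_eq_cls hA₂ hA₂' ⟨e₂⟩, hA₂cls, hBcls, eq_inv_mul_iff_mul_eq, ← mul_pow,
      show c = (c₀ + 1) * a from mul_comm a (c₀ + 1), pow_mul, pow_succ']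
    congr 1
    rw [mul_assoc, mul_assoc, mul_comm (PicGrp.cls A₁ hA₁.1 ^ c₀), inv_mul_cancel_left]
  have hpowM : ∀ m, Nonempty (CohB1.tensorPow M m ≅ W A₁ A₂' m (c * m)) := fun m => by
    obtain ⟨e₁⟩ := NakaiSemi.nonempty_tensorPow_congr eM m
    obtain ⟨e₃⟩ := exists_iso_tensorPow_tensor hA₂' (isInvertible_tensorPow hA₁.1 c) m
    obtain ⟨e₄⟩ := NakaiGen.nonempty_tensorPow_mul A₁ c m
    exact ⟨e₁ ≪≫ e₃.symm ≪≫ PicGrp.tensorModIso (Iso.refl _) e₄⟩
  refine ⟨2 * (C * (n * 2 ^ n * (c + 1 + 1) ^ n)), max a' 1, fun P hP m hm => ?_⟩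
  obtain ⟨eW⟩ := hpowM m
  have hMm : PicF.IsInvertible (CohB1.tensorPow M m) := isInvertible_tensorPow (isInvertible_tensorPow hL a) m
  have hm1 : 1 ≤ m := le_trans (le_max_right _ _) hm
  have hc1 : 1 ≤ c := Nat.mul_pos ha (Nat.succ_pos c₀)
  have hbound : ∀ F, Fam F → ∀ j, hd k (CohB1.tensorMod F (CohB1.tensorPow M m)) j ≤
      C * (n * 2 ^ n * (c + 1 + 1) ^ n) * delta n m := fun F hF j => by
    refine (hd_congr (PicGrp.tensorModIso (Iso.refl F) eW) j).le.trans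
      ((hC F hF (c * m) (le_trans (le_trans (le_max_left _ _) hm) (Nat.le_mul_of_pos_left m hc1)) m j).trans ?_)
    rw [mul_assoc C, show c * m + m = (c + 1) * m by ring]
    exact Nat.mul_le_mul_left C (delta_le n (c + 1) m hm1)
  have sect : ∀ P₁, NT k P₁ → ∃ φ : Coh.structureModule X ⟶ CohB1.tensorMod H P₁, Mono φ ∧
      genericPoint X ∉ CohB1.support (cokernel φ) := fun P₁ hP₁ => by
    obtain ⟨g, hg⟩ := VolBig.exists_ne_zero_of_pos k (hh₀ h₀ le_rfl P₁ hP₁.inv hP₁.num)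
    exact ⟨_, H29RR.mono_homOfGlobal (isInvertible_tensor hH hP₁.inv) hg⟩
  have hfam : ∀ P₁ P₂, NT k P₁ → NT k P₂ → ∀ φ : Coh.structureModule X ⟶ CohB1.tensorMod H P₁, Mono φ →
      genericPoint X ∉ CohB1.support (cokernel φ) → Fam (CohB1.tensorMod (cokernel φ) P₂) := fun P₁ P₂ h₁ h₂ φ hφ hη => by
    have hQ := H10Coh.isCoh_cokernel φ hO.1 (isCoh_of_isInvertible (isInvertible_tensor hH h₁.inv))
    refine ⟨isCoh_tensor hQ h₂.inv, lt_of_le_of_lt (H28Int.dim_le_of_subset (H25Euler.support_tensor_subset _ _))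
      (H28Int.dim_lt_of_notMem (C := Set.univ) (genericPoint_spec X)
        (le_trans (le_of_eq (Homeomorph.Set.univ X).isHomeomorph.topologicalKrullDim_eq) hn.le)
        (H10Coh.isClosed_support _ hQ.2) (Set.subset_univ _) hη), P₁, P₂, φ, h₁, h₂, hφ, ⟨Iso.refl _⟩⟩
  have hOO : NT k (Coh.structureModule X) := NT.structure_module k
  obtain ⟨φ₁, hφ₁, hη₁⟩ := sect P hP
  obtain ⟨φ₂, hφ₂, hη₂⟩ := sect _ hOO
  have hHP := isCoh_of_isInvertible (isInvertible_tensor hH hP.inv)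
  have hHO := isCoh_of_isInvertible (isInvertible_tensor hH hOO.inv)
  obtain ⟨u₁, u₂, -⟩ := VolHigh.seq_ineq k (hS P φ₁ hφ₁) hO hHP (H10Coh.isCoh_cokernel φ₁ hO.1 hHP) hMm i
  obtain ⟨v₁, v₂, -⟩ := VolHigh.seq_ineq k (hS _ φ₂ hφ₂) hO hHO (H10Coh.isCoh_cokernel φ₂ hO.1 hHO)
    (isInvertible_tensor hP.inv hMm) i
  dsimp only at u₁ u₂ v₁ v₂
  have s₁ : ∀ j, hd k (CohB1.tensorMod (cokernel φ₁) (CohB1.tensorPow M m)) j ≤
      C * (n * 2 ^ n * (c + 1 + 1) ^ n) * delta n m := fun j =>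
    (hd_congr (PicGrp.tensorModIso (H10Coh.Tw.rightUnitIso _).symm (Iso.refl _)) j).le.trans
      (hbound _ (hfam P _ hP hOO φ₁ hφ₁ hη₁) j)
  have s₂ : ∀ j, hd k (CohB1.tensorMod (cokernel φ₂) (CohB1.tensorMod P (CohB1.tensorPow M m))) j ≤
      C * (n * 2 ^ n * (c + 1 + 1) ^ n) * delta n m := fun j =>
    (hd_congr (H10Coh.Tw.assoc _ _ _).symm j).le.trans (hbound _ (hfam _ P hOO hP φ₂ hφ₂ hη₂) j)
  rw [hd_congr (H10Coh.Tw.leftUnitIso (CohB1.tensorPow M m)) i] at u₁ u₂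
  rw [hd_congr (H10Coh.Tw.leftUnitIso (CohB1.tensorMod P (CohB1.tensorPow M m))) i,
    hd_congr (PicGrp.tensorModIso (H10Coh.Tw.rightUnitIso H) (Iso.refl (CohB1.tensorMod P (CohB1.tensorPow M m))) ≪≫
      (H10Coh.Tw.assoc H P (CohB1.tensorPow M m)).symm) i] at v₁ v₂
  have := s₁ i
  have := s₁ (i - 1)
  have := s₂ i
  have := s₂ (i - 1)
  rw [Nat.two_mul, Nat.add_mul]
  change hd k (CohB1.tensorMod P (CohB1.tensorPow M m)) i ≤ hd k (CohB1.tensorPow M m) i + _ ∧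
    hd k (CohB1.tensorPow M m) i ≤ hd k (CohB1.tensorMod P (CohB1.tensorPow M m)) i + _
  constructor <;> omega

/-- Invariance under a numerically trivial twist. -/
theorem hhat_tensor {L P : X.Modules} (hL : PicF.IsInvertible L) (hP : NT k P) [CharZero k] (i : ℕ) :
    W4c5asymptcohfn.hhat k X n i (CohB1.tensorMod L P) = W4c5asymptcohfn.hhat k X n i L := by
  obtain ⟨a, ha, C, m₁, h⟩ := exists_uniform k hA hn hL i
  have hLP := isInvertible_tensor hL hP.inv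
  have e₁ := S17621.result k X ⟨A, hA⟩ n hn L hL a ha i
  have e₂ := S17621.result k X ⟨A, hA⟩ n hn (CohB1.tensorMod L P) hLP a ha i
  obtain ⟨C₁, hC₁⟩ := VolHhat.bdd_pow k hA hn.le (isInvertible_tensorPow hL a) i
  obtain ⟨C₂, hC₂⟩ := VolHhat.bdd_pow k hA hn.le (isInvertible_tensorPow hLP a) i
  have key : W4c5asymptcohfn.hhat k X n i (CohB1.tensorPow (CohB1.tensorMod L P) a) =
      W4c5asymptcohfn.hhat k X n i (CohB1.tensorPow L a) := by
    refine (VolHhat.rvol_eq C₂ hC₂).trans (Eq.trans (congrArg (fun v => (n.factorial : ℝ) * ENNReal.toReal v) ?_)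
      (VolHhat.rvol_eq C₁ hC₁).symm)
    have hiso : ∀ m, Nonempty (CohB1.tensorPow (CohB1.tensorPow (CohB1.tensorMod L P) a) m ≅
        CohB1.tensorMod (CohB1.tensorPow P (a * m)) (CohB1.tensorPow (CohB1.tensorPow L a) m)) := fun m => by
      obtain ⟨u₁⟩ := NakaiGen.nonempty_tensorPow_mul (CohB1.tensorMod L P) a m
      obtain ⟨u₂⟩ := exists_iso_tensorPow_tensor hL hP.inv (a * m)
      obtain ⟨u₃⟩ := NakaiGen.nonempty_tensorPow_mul L a m
      exact ⟨u₁ ≪≫ u₂.symm ≪≫ H10Coh.Tw.commIso _ _ ≪≫ PicGrp.tensorModIso (Iso.refl _) u₃.symm⟩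
    refine le_antisymm (VolLimsup.vol_le_of_le C ?_) (VolLimsup.vol_le_of_le C ?_)
    all_goals
      filter_upwards [eventually_ge_atTop m₁] with m hm
      obtain ⟨x, y⟩ := h _ (hP.pow k (a * m)) m hm
      rw [hd_congr (hiso m).some i]
      assumption
  rw [e₁, e₂] at key
  exact mul_left_cancel₀ (pow_ne_zero _ (Nat.cast_ne_zero.2 ha.ne')) key

end Groth.Agent.H22Alg.VolNumTriv
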