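import Groth.Agent.H22Alg.VolHigh
import Groth.Agent.H22Alg.VolHhat

/-! # Growth of cohomology above the dimension of the stable base locus. -/

set_option autoImplicit false
set_option linter.style.haveILetI false
set_option linter.unusedSectionVars false

universe u

open CategoryTheory CategoryTheory.Limits AlgebraicGeometry TopologicalSpace
open Groth.Agent.H11Ample Groth.Agent.H25Index

noncomputable section

namespace Groth.Agent.H22Alg.VolSBL

open VolHigh (delta)

variable (k : Type u) [Field k] {X : Scheme.{u}} [X.Over (Spec (CommRingCat.of k))]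

omit k [Field k] [X.Over (Spec (CommRingCat.of k))] in
theorem isClosed_stableBaseLocus (L : X.Modules) : IsClosed (W4c5asymptcohfn.stableBaseLocus X L) := by
  refine isClosed_iInter fun m => ?_
  have h : W4c5asymptcohfn.baseLocus X (CohB1.tensorPow L (m + 1)) =
      ⋂ s, ((CohB1.genLocus (CohB1.tensorPow L (m + 1)) s : Set X))ᶜ := by
    ext x; simp [W4c5asymptcohfn.baseLocus]
  rw [h]
  exact isClosed_iInter fun s => (CohB1.genLocus _ s).2.isClosed_compl

omit k [Field k] [X.Over (Spec (CommRingCat.of k))] in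
theorem exists_gen_of_notMem {L : X.Modules} {x : X} (hx : x ∉ W4c5asymptcohfn.stableBaseLocus X L) :
    ∃ (a : ℕ) (g : Γ(CohB1.tensorPow L a, ⊤)), 0 < a ∧ x ∈ gen (CohB1.tensorPow L a) g := by
  simp only [W4c5asymptcohfn.stableBaseLocus, W4c5asymptcohfn.baseLocus, Set.mem_iInter, Set.mem_setOf_eq,
    not_forall, not_not] at hx
  obtain ⟨m, s, hs⟩ := hx
  refine ⟨m + 1, SecTwist.val s ⊤, Nat.succ_pos m, ?_⟩
  rw [← H11Ample.genLocus_eq_gen]
  exact hs

variable [IsProper (X ↘ Spec (CommRingCat.of k))] {L : X.Modules}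

/-- Cohomology in degrees above `d` is small in dimension at most `r`. -/
def Low (L : X.Modules) (d r : ℕ) : Prop :=
  ∀ G : X.Modules, Coh.IsCoh G → topologicalKrullDim (CohB1.support G) ≤ (r : WithBot ℕ∞) → ∀ i, d < i →
    ∃ C : ℕ, ∀ m : ℕ, hd k (CohB1.tensorMod G (CohB1.tensorPow L m)) i ≤ C * delta r m

theorem step_push {d r : ℕ} (hL : PicF.IsInvertible L)
    (hdB : topologicalKrullDim (W4c5asymptcohfn.stableBaseLocus X L) ≤ (d : WithBot ℕ∞))
    (hlow : Low k L d r) {Z : Scheme.{u}} (ζ : Z ⟶ X) [IsClosedImmersion ζ] [IsIntegral Z]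
    (hdim : topologicalKrullDim (Set.range ζ) ≤ ((r + 1 : ℕ) : WithBot ℕ∞)) (i : ℕ) (hi : d < i) :
    ∃ C : ℕ, ∀ m : ℕ,
      hd k (CohB1.tensorMod ((Coh.push ζ).obj (Coh.structureModule Z)) (CohB1.tensorPow L m)) i ≤ C * (m + 1) ^ r := by
  haveI := H28Int.isNoetherian k (X := X)
  let P := (Coh.push ζ).obj (Coh.structureModule Z)
  have hP : Coh.IsCoh P := LeadDev.isCoh_push_structure ζ
  by_cases hξ : ζ (genericPoint Z) ∈ W4c5asymptcohfn.stableBaseLocus X L
  · refine ⟨0, fun m => ?_⟩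
    have hsub : Set.range ζ ⊆ W4c5asymptcohfn.stableBaseLocus X L := by
      rw [LeadDev.range_eq_closure ζ rfl]
      exact (isClosed_stableBaseLocus L).closure_subset_iff.2 (Set.singleton_subset_iff.2 hξ)
    refine (H12Pic.NumTriv.hd_of_dim k (isCoh_tensor hP (isInvertible_tensorPow hL m)) (d := d)
      ((H28Int.dim_le_of_subset ((H25Euler.support_tensor_subset _ _).trans
        ((H28Int.support_push_structure_eq ζ).le.trans hsub))).trans hdB) hi).le.trans (Nat.zero_le _)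
  obtain ⟨a, g, ha, hg⟩ := exists_gen_of_notMem hξ
  have hLa := isInvertible_tensorPow hL a
  obtain ⟨φ, hφ, hQc, hQd⟩ := VolGrowth.exists_mul k ζ hLa g hg hdim
  haveI := hφ
  obtain ⟨C, hC⟩ := hlow _ hQc ((H12Pic.NumTriv.lt_succ_iff' _ r).1 hQd) i hi
  let h := fun m => hd k (CohB1.tensorMod P (CohB1.tensorPow L m)) i
  have hS : (ShortComplex.mk φ (cokernel.π φ) (cokernel.condition φ)).ShortExact :=
    ShortComplex.ShortExact.mk' (ShortComplex.exact_cokernel φ) inferInstance inferInstance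
  have step : ∀ m, h (a + m) ≤ h m + C * delta r m := fun m => by
    obtain ⟨e⟩ := DegAmple.nonempty_tensorPow_add L a m
    obtain ⟨s, -, -⟩ := VolHigh.seq_ineq k hS hP (isCoh_tensor hP hLa) hQc (isInvertible_tensorPow hL m) i
    refine le_trans (hd_congr (H10Coh.Tw.assoc P _ _ ≪≫ PicGrp.tensorModIso (Iso.refl P) e) i).ge (s.trans ?_)
    exact Nat.add_le_add_left (hC m) _
  let H := (Finset.range a).sup h
  have hsum : ∀ m, h m ≤ H + C * m ^ r := fun m => by
    induction m using Nat.strong_induction_on with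
    | _ m ih =>
      rcases Nat.lt_or_ge m a with hlt | hge
      · exact (Finset.le_sup (f := h) (Finset.mem_range.2 hlt)).trans (Nat.le_add_right _ _)
      obtain ⟨t, rfl⟩ := Nat.exists_eq_add_of_le hge
      refine (step t).trans ((Nat.add_le_add_right (ih t (by omega)) _).trans ?_)
      rw [Nat.add_assoc, ← Nat.mul_add, Nat.add_sub_cancel' (Nat.pow_le_pow_left (Nat.le_succ t) r)]
      exact Nat.add_le_add_left (Nat.mul_le_mul_left C (Nat.pow_le_pow_left (by omega) r)) _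
  refine ⟨H + C, fun m => (hsum m).trans ?_⟩
  rw [Nat.add_mul]
  exact Nat.add_le_add (Nat.le_mul_of_pos_right _ (Nat.pow_pos (Nat.succ_pos m)))
    (Nat.mul_le_mul_left C (Nat.pow_le_pow_left (Nat.le_succ m) r))

theorem step {A : X.Modules} (hA : CohB1.IsAmple A) {d r : ℕ} (hL : PicF.IsInvertible L)
    (hdB : topologicalKrullDim (W4c5asymptcohfn.stableBaseLocus X L) ≤ (d : WithBot ℕ∞))
    (hlow : Low k L d r) {F : X.Modules} (hF : Coh.IsCoh F)
    (hdim : topologicalKrullDim (CohB1.support F) ≤ ((r + 1 : ℕ) : WithBot ℕ∞)) :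
    ∀ i, d < i → ∃ C : ℕ, ∀ m : ℕ, hd k (CohB1.tensorMod F (CohB1.tensorPow L m)) i ≤ C * (m + 1) ^ r := by
  haveI := H28Int.isNoetherian k (X := X)
  refine (LeadDev.devissage_induction (CohB1.support F) (fun G => Coh.IsCoh G →
    ∀ i, d < i → ∃ C : ℕ, ∀ m : ℕ, hd k (CohB1.tensorMod G (CohB1.tensorPow L m)) i ≤ C * (m + 1) ^ r)
    ?_ ?_ ?_ ?_ F hF le_rfl) hF
  · rintro M N ⟨e⟩ h hN i hi
    obtain ⟨C, hC⟩ := h (H10Coh.isCoh_of_iso e.symm hN) i hi
    exact ⟨C, fun m => (hd_congr (PicGrp.tensorModIso e (Iso.refl _)) i).ge.trans (hC m)⟩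
  · intro M hM _ i _
    exact ⟨0, fun m => (H12Pic.NumTriv.hd_zero_of_isZero k (H12Pic.NumTriv.isZero_tensor hM _) i).le.trans (Nat.zero_le _)⟩
  · intro S hS h₁ h₂ h₃ hb₁ hb₃ _ i hi
    obtain ⟨C₁, hC₁⟩ := hb₁ h₁ i hi
    obtain ⟨C₃, hC₃⟩ := hb₃ h₃ i hi
    refine ⟨C₁ + C₃, fun m => ?_⟩
    refine (VolHigh.seq_ineq k hS h₁ h₂ h₃ (isInvertible_tensorPow hL m) i).1.trans ?_
    rw [Nat.add_mul]
    exact Nat.add_le_add (hC₁ m) (hC₃ m)
  · intro Z ζ _ _ hr _ I ι hι hI hA' i hi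
    haveI : I.IsQuasicoherent := hI
    by_cases hne : IsZero I
    · exact ⟨0, fun m => (H12Pic.NumTriv.hd_zero_of_isZero k
        (H12Pic.NumTriv.isZero_tensor ((Coh.push ζ).map_isZero hne) _) i).le.trans (Nat.zero_le _)⟩
    let j := (Coh.push ζ).map ι
    let P := (Coh.push ζ).obj (Coh.structureModule Z)
    have hP : Coh.IsCoh P := LeadDev.isCoh_push_structure ζ
    have hdimZ := (H28Int.dim_le_of_subset hr).trans hdim
    obtain ⟨W, hW, hξW, -⟩ := exists_isAffineOpen_mem_and_subset (U := (⊤ : X.Opens)) (x := ζ (genericPoint Z)) trivial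
    have hnot := LeadDev.notMem_support_cokernel j (H10Coh.isQuasicoherent_pushforward ζ I) hP.1 hW hξW
      (LeadDev.surjAt_push_map ζ rfl I ι hI hne hW hξW)
    have hQc : Coh.IsCoh (cokernel j) := H10Coh.isCoh_cokernel j hA'.1 hP
    have hQs : CohB1.support (cokernel j) ⊆ Set.range ζ :=
      (LeadDev.support_subset_of_epi (cokernel.π j)).trans (H28Int.support_push_structure_eq ζ).le
    have hQd : topologicalKrullDim (CohB1.support (cokernel j)) ≤ (r : WithBot ℕ∞) :=
      (H12Pic.NumTriv.lt_succ_iff' _ r).1 (H28Int.dim_lt_of_notMem (LeadDev.range_eq_closure ζ rfl).symm hdimZ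
        (H10Coh.isClosed_support _ hQc.2) hQs hnot)
    obtain ⟨C₁, h₁⟩ := step_push k hL hdB hlow ζ hdimZ i hi
    obtain ⟨C₂, h₂⟩ := VolHigh.bdd k hA hQc hQd L hL (i - 1)
    refine ⟨C₁ + C₂, fun m => ?_⟩
    have hS : (ShortComplex.mk j (cokernel.π j) (cokernel.condition j)).ShortExact :=
      ShortComplex.ShortExact.mk' (ShortComplex.exact_cokernel j) inferInstance inferInstance
    obtain ⟨-, h, -⟩ := VolHigh.seq_ineq k hS hA' hP hQc (isInvertible_tensorPow hL m) i
    refine h.trans ?_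
    rw [Nat.add_mul]
    exact Nat.add_le_add (h₁ m) (h₂ m)

theorem low {A : X.Modules} (hA : CohB1.IsAmple A) {d : ℕ} (hL : PicF.IsInvertible L)
    (hdB : topologicalKrullDim (W4c5asymptcohfn.stableBaseLocus X L) ≤ (d : WithBot ℕ∞)) : ∀ r, Low k L d r
  | 0, G, hG, hG0, i, hi => ⟨0, fun m => (H12Pic.NumTriv.hd_of_dim k (isCoh_tensor hG (isInvertible_tensorPow hL m))
      (d := 0) ((H28Int.dim_le_of_subset (H25Euler.support_tensor_subset _ _)).trans hG0)
      (Nat.lt_of_le_of_lt (Nat.zero_le d) hi)).le.trans (Nat.zero_le _)⟩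
  | r + 1, G, hG, hG0, i, hi => by
    obtain ⟨C, hC⟩ := step k hA hL hdB (low hA hL hdB r) hG hG0 i hi
    exact ⟨C, fun m => (hC m).trans (Nat.mul_le_mul_left C (VolGrowth.pow_le_sub m r))⟩

end Groth.Agent.H22Alg.VolSBL
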