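import Groth.Agent.H22Alg.WDivChart

/-! # Polynomial charts from open immersions, and the charts of affine space. -/

set_option autoImplicit false
set_option linter.style.haveILetI false

universe u

open CategoryTheory CategoryTheory.Limits AlgebraicGeometry TopologicalSpace MvPolynomial

noncomputable section

namespace Groth.Agent.H22Alg.WDivChart

theorem appLE_congr_hom {X Y : Scheme.{u}} {f g : X ⟶ Y} (h : f = g) (U : Y.Opens) (V : X.Opens)
    (e : V ≤ f ⁻¹ᵁ U) (e' : V ≤ g ⁻¹ᵁ U) : f.appLE U V e = g.appLE U V e' := by subst h; rfl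

theorem finite_ord_affine {X : Scheme.{u}} [IsIntegral X] [IsLocallyNoetherian X] {V : X.Opens}
    (hV : IsAffineOpen V) {f : X.functionField} (hf : f ≠ 0) :
    {y : X | y ∈ V ∧ Scheme.ord f y ≠ 0}.Finite := by
  rcases isEmpty_or_nonempty V with hE | hne
  · exact Set.finite_empty.subset fun y hy => (hE.false ⟨y, hy.1⟩).elim
  haveI := hne
  haveI := functionField_isFractionRing_of_isAffineOpen X V hV
  haveI : IsNoetherianRing Γ(X, V) := IsLocallyNoetherian.component_noetherian ⟨V, hV⟩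
  obtain ⟨a, b, hb, rfl⟩ := IsFractionRing.div_surjective (A := Γ(X, V)) f
  have ha0 : a ≠ 0 := fun h => hf (by rw [h, map_zero, zero_div])
  have hinj : Set.InjOn (fun y : V => (hV.primeIdealOf y).asIdeal) Set.univ := fun y _ y' _ h =>
    Subtype.ext (primeIdealOf_inj hV y.2 y'.2 h)
  have hfin : ({q : Ideal Γ(X, V) | q ∈ (Ideal.span {a}).minimalPrimes ∪ (Ideal.span {b}).minimalPrimes}).Finite :=
    (Ideal.finite_minimalPrimes_of_isNoetherianRing _ _).union (Ideal.finite_minimalPrimes_of_isNoetherianRing _ _)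
  refine (((hfin.preimage (hinj.mono (Set.subset_univ _))).image Subtype.val)).subset fun y hy => ?_
  refine ⟨⟨y, hy.1⟩, ?_, rfl⟩
  set q := (hV.primeIdealOf ⟨y, hy.1⟩).asIdeal with hq
  have hy1 : Order.coheight y = 1 := by_contra fun h => hy.2 (Scheme.ord_eq_zero_of_coheight_neq_one h _)
  have hq1 : q.height = 1 := WithBot.coe_eq_coe.1 (by rw [hq, ← coheight_eq_height hV hy.1, hy1])
  have hmin : ∀ c : Γ(X, V), c ≠ 0 → c ∈ q → q ∈ (Ideal.span {c}).minimalPrimes := fun c hc hcq => by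
    refine ⟨⟨inferInstance, (Ideal.span_singleton_le_iff_mem _).2 hcq⟩, ?_⟩
    rintro r ⟨hr, hcr⟩ hle
    haveI := hr
    exact (WDivPoly.eq_of_le (fun h => hc (by
      have := hcr (Ideal.mem_span_singleton_self c)
      rwa [h, Ideal.mem_bot] at this)) hq1 hle).ge
  have hu : ∀ c : Γ(X, V), c ∉ q →
      Scheme.ord (algebraMap Γ(X, V) X.functionField c) y = 0 ∧ algebraMap Γ(X, V) X.functionField c ≠ 0 := by
    intro c hc
    letI := X.presheaf.algebra_section_stalk ⟨y, hy.1⟩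
    haveI := hV.isLocalization_stalk ⟨y, hy.1⟩
    have hc' : IsUnit (algebraMap Γ(X, V) (X.presheaf.stalk y) c) :=
      IsLocalization.map_units (X.presheaf.stalk y) (⟨c, hc⟩ : q.primeCompl)
    have he : algebraMap (X.presheaf.stalk y) X.functionField (algebraMap Γ(X, V) (X.presheaf.stalk y) c) =
        algebraMap Γ(X, V) X.functionField c := algebraMap_germ hy.1 c
    rw [← he]
    exact ⟨ord_stalk_unit hc', (hc'.map _).ne_zero⟩
  by_contra hn
  simp only [Set.mem_preimage, Set.mem_setOf_eq, Set.mem_union, not_or] at hn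
  obtain ⟨ea, na⟩ := hu a fun h => hn.1 (hmin a ha0 h)
  obtain ⟨eb, nb⟩ := hu b fun h => hn.2 (hmin b (nonZeroDivisors.ne_zero hb) h)
  exact hy.2 (by rw [div_eq_mul_inv, Scheme.ord_mul na (inv_ne_zero nb), ord_inv nb, ea, eb]; norm_num)

/-- A rational function has finitely many zeros and poles on a Noetherian scheme. -/
theorem finite_ord {X : Scheme.{u}} [IsIntegral X] [IsLocallyNoetherian X] [CompactSpace X] (f : X.functionField) :
    {y : X | Scheme.ord f y ≠ 0}.Finite := by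
  by_cases hf : f = 0
  · simp [hf, Scheme.ord_zero]
  have hU : ∀ x : X, ∃ U : X.Opens, IsAffineOpen U ∧ x ∈ U := fun x => by
    obtain ⟨U, hU, hx, -⟩ := exists_isAffineOpen_mem_and_subset (X := X) (x := x) (U := ⊤) trivial
    exact ⟨U, hU, hx⟩
  choose U hU hxU using hU
  obtain ⟨t, ht⟩ := CompactSpace.elim_nhds_subcover (fun x => (U x : Set X))
    fun x => (U x).isOpen.mem_nhds (hxU x)
  refine (t.finite_toSet.biUnion fun x _ => finite_ord_affine (hU x) hf).subset fun y hy => ?_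
  obtain ⟨x, hxt, hyx⟩ := Set.mem_iUnion₂.1 (ht.ge (Set.mem_univ y))
  exact Set.mem_iUnion₂.2 ⟨x, hxt, hyx, hy⟩

variable {X P : Scheme.{u}} [IsIntegral X] [IsIntegral P] (p : P ⟶ X)

theorem exists_chart (U : X.Opens) (hU : IsAffineOpen U) {W : Scheme.{u}} [IsAffine W] (m : W ⟶ P)
    [IsOpenImmersion m] (q : W ⟶ (U : Scheme.{u})) (hq : m ≫ p = q ≫ U.ι) (hne : Nonempty W) (σ : Type u)
    [Finite σ] (f : MvPolynomial σ Γ((U : Scheme.{u}), ⊤) ≃+* Γ(W, ⊤)) (hf : ∀ a, f (C a) = q.appTop a) :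
    ∃ c : Chart p, c.U = U ∧ (c.V : Set P) = Set.range m := by
  have hle : m ''ᵁ ⊤ ≤ p ⁻¹ᵁ U := by
    rintro _ ⟨z, -, rfl⟩
    show p (m z) ∈ U
    rw [← Scheme.Hom.comp_apply, hq, Scheme.Hom.comp_apply]
    exact (q z).2
  refine ⟨⟨U, m ''ᵁ ⊤, hU, (isAffineOpen_top W).image_of_isOpenImmersion m, hle,
    ⟨⟨m hne.some, hne.some, trivial, rfl⟩⟩, σ, inferInstance,
    ((mapEquiv σ U.topIso.symm.commRingCatIsoToRingEquiv).trans f).trans
      (m.appIso ⊤).symm.commRingCatIsoToRingEquiv, fun a => ?_⟩, rfl, Set.image_univ⟩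
  apply (m.appIso ⊤).commRingCatIsoToRingEquiv.injective
  show (m.appIso ⊤).hom ((m.appIso ⊤).inv (f (mapEquiv σ U.topIso.symm.commRingCatIsoToRingEquiv (C a)))) =
    (m.appIso ⊤).hom (p.appLE U (m ''ᵁ ⊤) hle a)
  rw [← CommRingCat.comp_apply, Iso.inv_hom_id, CommRingCat.id_apply, mapEquiv_apply, map_C, hf,
    Scheme.Hom.appIso_hom', ← CommRingCat.comp_apply, Scheme.Hom.appLE_comp_appLE,
    appLE_congr_hom hq U ⊤ _ (fun z _ => (q z).2),
    ← Scheme.Hom.appLE_comp_appLE q U.ι U ⊤ ⊤ (fun z _ => z.2) (fun _ _ => trivial)]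
  show _ = q.appLE ⊤ ⊤ _ (U.ι.appLE U ⊤ _ a)
  rw [U.ι_appLE, Scheme.Hom.appTop, Scheme.Hom.app_eq_appLE]
  rfl

/-- The chart of affine space over an affine open. -/
theorem exists_chart_affineSpace (σ : Type u) [Finite σ] [IsIntegral 𝔸(σ; X)] (U : X.Opens) (hU : IsAffineOpen U)
    [Nonempty U] : ∃ c : Chart (𝔸(σ; X) ↘ X), c.U = U ∧ c.V = (𝔸(σ; X) ↘ X) ⁻¹ᵁ U := by
  haveI : IsAffine (U : Scheme.{u}) := hU
  have hpb := AffineSpace.isPullback_map (n := σ) U.ι
  haveI : IsOpenImmersion (AffineSpace.map σ U.ι) :=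
    MorphismProperty.of_isPullback (P := @IsOpenImmersion) hpb.flip inferInstance
  let i := AffineSpace.isoOfIsAffine σ (U : Scheme.{u})
  let A := CommRingCat.of (MvPolynomial σ Γ((U : Scheme.{u}), ⊤))
  have hb : Function.Bijective (eval₂Hom ((𝔸(σ; (U : Scheme.{u})) ↘ (U : Scheme.{u})).appTop).hom
      (AffineSpace.coord (U : Scheme.{u}))) := by
    haveI : IsIso ((Scheme.ΓSpecIso A).hom ≫ CommRingCat.ofHom (eval₂Hom ((𝔸(σ; (U : Scheme.{u})) ↘
        (U : Scheme.{u})).appTop).hom (AffineSpace.coord (U : Scheme.{u})))) :=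
      AffineSpace.isoOfIsAffine_hom_appTop (n := σ) (U : Scheme.{u}) ▸
        (show IsIso i.hom.appTop from ⟨i.inv.appTop,
          by rw [← Scheme.Hom.comp_appTop, i.inv_hom_id, Scheme.Hom.id_appTop],
          by rw [← Scheme.Hom.comp_appTop, i.hom_inv_id, Scheme.Hom.id_appTop]⟩)
    haveI := IsIso.of_isIso_comp_left (Scheme.ΓSpecIso A).hom (CommRingCat.ofHom (eval₂Hom ((𝔸(σ; (U : Scheme.{u})) ↘
        (U : Scheme.{u})).appTop).hom (AffineSpace.coord (U : Scheme.{u}))))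
    exact ConcreteCategory.bijective_of_isIso (CommRingCat.ofHom (eval₂Hom ((𝔸(σ; (U : Scheme.{u})) ↘
        (U : Scheme.{u})).appTop).hom (AffineSpace.coord (U : Scheme.{u}))))
  haveI hne : Nonempty 𝔸(σ; (U : Scheme.{u})) := by
    obtain ⟨x⟩ := ‹Nonempty U›
    obtain ⟨z, -⟩ := (inferInstance : Surjective (𝔸(σ; (U : Scheme.{u})) ↘ (U : Scheme.{u}))).surj x
    exact ⟨z⟩
  obtain ⟨c, hcU, hcV⟩ := exists_chart (𝔸(σ; X) ↘ X) U hU (AffineSpace.map σ U.ι)
    (𝔸(σ; (U : Scheme.{u})) ↘ (U : Scheme.{u})) (AffineSpace.map_over U.ι) hne σ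
    (RingEquiv.ofBijective _ hb) (fun a => eval₂Hom_C _ _ a)
  refine ⟨c, hcU, TopologicalSpace.Opens.ext ?_⟩
  rw [hcV]
  ext z
  constructor
  · rintro ⟨w, rfl⟩
    show (𝔸(σ; X) ↘ X) (AffineSpace.map σ U.ι w) ∈ U
    rw [← Scheme.Hom.comp_apply, AffineSpace.map_over, Scheme.Hom.comp_apply]
    exact Subtype.coe_prop _
  · intro hz
    obtain ⟨w, hw, -⟩ := Scheme.exists_preimage_of_isPullback hpb z ⟨_, hz⟩ rfl
    exact ⟨w, hw⟩

theorem coheight_genericPoint_ne_one : Order.coheight (genericPoint X) ≠ 1 := fun h => by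
  obtain ⟨U, hU, hxU, -⟩ := exists_isAffineOpen_mem_and_subset (X := X) (x := genericPoint X) (U := ⊤) trivial
  haveI : Nonempty U := ⟨⟨_, hxU⟩⟩
  have h0 := coheight_eq_height hU (genericPoint_mem U)
  rw [genericPoint_prime hU, h, Ideal.height_bot] at h0
  exact one_ne_zero (WithBot.coe_eq_coe.1 h0)

/-- Divisor classes: injectivity. -/
theorem exists_ord_eq [IsLocallyNoetherian X] [IsLocallyNoetherian P] {p : P ⟶ X}
    (hR1 : ∀ x : X, Order.coheight x = 1 → IsDiscreteValuationRing (X.presheaf.stalk x))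
    (hch : ∀ x : X, ∃ c : Chart p, x ∈ c.U) (D : X → ℤ) (g : P.functionField) (f : X.functionField) (hf : f ≠ 0)
    (hp : p (genericPoint P) = genericPoint X) (hfg : pull p hp f = g)
    (hg : ∀ y, Order.coheight y = 1 → Order.coheight (p y) = 1 → Scheme.ord g y = D (p y)) :
    ∀ x : X, Order.coheight x = 1 → Scheme.ord f x = D x := by
  intro x hx
  obtain ⟨c, hc⟩ := hch x
  obtain ⟨y, hy, rfl, hy1⟩ := c.exists_over hc hx
  haveI := hR1 (p y) hx
  rw [← c.ord_pull hy hy1 hx hf, hfg, hg y hy1 hx]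

end Groth.Agent.H22Alg.WDivChart
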