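import Groth.Agent.H22Alg.WDivPoly

/-! # Rational functions and orders on a scheme with a polynomial chart over another one. -/

set_option autoImplicit false
set_option linter.style.haveILetI false

universe u v

open CategoryTheory CategoryTheory.Limits AlgebraicGeometry TopologicalSpace MvPolynomial

noncomputable section

namespace Groth.Agent.H22Alg.WDivChart

variable {X : Scheme.{u}} [IsIntegral X]

theorem genericPoint_mem (U : X.Opens) [Nonempty U] : genericPoint X ∈ U :=
  ((genericPoint_spec X).mem_open_set_iff U.isOpen).mpr (by simpa using ‹Nonempty U›)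

theorem algebraMap_germ {V : X.Opens} [Nonempty V] {y : X} (hy : y ∈ V) (a : Γ(X, V)) :
    algebraMap (X.presheaf.stalk y) X.functionField (X.presheaf.germ V y hy a) = X.germToFunctionField V a :=
  X.algebraMap_germ_eq_germToFunctionField (U := V) hy a

theorem coheight_eq_height {V : X.Opens} (hV : IsAffineOpen V) {y : X} (hy : y ∈ V) :
    (Order.coheight y : WithBot ℕ∞) = (hV.primeIdealOf ⟨y, hy⟩).asIdeal.height := by
  letI := X.presheaf.algebra_section_stalk ⟨y, hy⟩
  haveI := hV.isLocalization_stalk ⟨y, hy⟩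
  rw [← ringKrullDim_stalk_eq_coheight]
  exact IsLocalization.AtPrime.ringKrullDim_eq_height (hV.primeIdealOf ⟨y, hy⟩).asIdeal _

theorem primeIdealOf_inj {V : X.Opens} (hV : IsAffineOpen V) {y y' : X} (hy : y ∈ V) (hy' : y' ∈ V)
    (h : (hV.primeIdealOf ⟨y, hy⟩).asIdeal = (hV.primeIdealOf ⟨y', hy'⟩).asIdeal) : y = y' := by
  have := congrArg hV.fromSpec (PrimeSpectrum.ext h)
  rwa [hV.fromSpec_primeIdealOf, hV.fromSpec_primeIdealOf] at this

theorem genericPoint_prime {V : X.Opens} (hV : IsAffineOpen V) [Nonempty V] :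
    (hV.primeIdealOf ⟨genericPoint X, genericPoint_mem V⟩).asIdeal = ⊥ := by
  rw [show hV.primeIdealOf ⟨genericPoint X, genericPoint_mem V⟩ = _ from hV.primeIdealOf_genericPoint,
    genericPoint_eq_bot_of_affine]
  rfl

theorem isUnit_stalk_genericPoint {x : X} (hx : x = genericPoint X) (a : X.presheaf.stalk x) (ha : a ≠ 0) :
    IsUnit a := by
  subst hx
  exact (IsUnit.mk0 (show X.functionField from a) ha)

theorem exists_point {V : X.Opens} (hV : IsAffineOpen V) (P : PrimeSpectrum Γ(X, V)) :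
    ∃ (y : X) (hy : y ∈ V), (hV.primeIdealOf ⟨y, hy⟩).asIdeal = P.asIdeal := by
  obtain ⟨y, hy⟩ : ∃ y, hV.isoSpec.hom y = P := ⟨hV.isoSpec.inv P, by
    rw [← Scheme.Hom.comp_apply, Iso.inv_hom_id]; rfl⟩
  exact ⟨y.1, y.2, congrArg PrimeSpectrum.asIdeal hy⟩

theorem maximalIdeal_eq_map {V : X.Opens} (hV : IsAffineOpen V) {y : X} (hy : y ∈ V) :
    IsLocalRing.maximalIdeal (X.presheaf.stalk y) =
      (hV.primeIdealOf ⟨y, hy⟩).asIdeal.map (X.presheaf.germ V y hy).hom := by
  letI := X.presheaf.algebra_section_stalk ⟨y, hy⟩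
  haveI := hV.isLocalization_stalk ⟨y, hy⟩
  exact (IsLocalization.AtPrime.map_eq_maximalIdeal (hV.primeIdealOf ⟨y, hy⟩).asIdeal (X.presheaf.stalk y)).symm

variable [IsLocallyNoetherian X]

theorem ord_one (y : X) : Scheme.ord (1 : X.functionField) y = 0 := by
  have := Scheme.ord_mul (x := y) (f := (1 : X.functionField)) (g := 1) one_ne_zero one_ne_zero
  rw [one_mul] at this
  omega

theorem ord_pow {y : X} {f : X.functionField} (hf : f ≠ 0) : ∀ n : ℕ,
    Scheme.ord (f ^ n) y = n * Scheme.ord f y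
  | 0 => by simp [ord_one]
  | n + 1 => by
    rw [pow_succ, Scheme.ord_mul (pow_ne_zero _ hf) hf, ord_pow hf n]
    push_cast
    ring

theorem ord_inv {y : X} {f : X.functionField} (hf : f ≠ 0) : Scheme.ord f⁻¹ y = -Scheme.ord f y := by
  have := Scheme.ord_mul (x := y) (inv_ne_zero hf) hf
  rw [inv_mul_cancel₀ hf, ord_one] at this
  omega

theorem ord_stalk_unit {y : X} {a : X.presheaf.stalk y} (ha : IsUnit a) :
    Scheme.ord (algebraMap (X.presheaf.stalk y) X.functionField a) y = 0 := by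
  by_cases hy : Order.coheight y = 1
  · haveI : Ring.KrullDimLE 1 (X.presheaf.stalk y) := krullDimLE_of_coheight_le hy.le
    rw [Scheme.ord_eq_iff hy (ha.map _).ne_zero]
    exact Ring.ordFrac_of_isUnit ha
  · exact Scheme.ord_eq_zero_of_coheight_neq_one hy _

theorem ord_stalk_gen {y : X} (hy : Order.coheight y = 1) {a : X.presheaf.stalk y}
    (ha : IsLocalRing.maximalIdeal (X.presheaf.stalk y) = Ideal.span {a}) :
    Scheme.ord (algebraMap (X.presheaf.stalk y) X.functionField a) y = 1 := by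
  haveI : Ring.KrullDimLE 1 (X.presheaf.stalk y) := krullDimLE_of_coheight_le hy.le
  have ha0 : a ≠ 0 := fun h => by
    rw [h, Ideal.span_singleton_eq_bot.2 rfl] at ha
    have := (IsLocalRing.isField_iff_maximalIdeal_eq.2 ha)
    have h0 := ringKrullDim_eq_zero_of_isField this
    rw [ringKrullDim_stalk_eq_coheight, hy] at h0
    exact absurd (WithBot.coe_eq_coe.1 h0) one_ne_zero
  have hf0 : algebraMap (X.presheaf.stalk y) X.functionField a ≠ 0 := fun h =>
    ha0 (IsFractionRing.injective _ X.functionField (h.trans (map_zero _).symm))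
  have hord : Ring.ord (X.presheaf.stalk y) a = (1 : ℕ) := by
    rw [Ring.ord, ← ha, Nat.cast_one, Module.length_eq_one_iff]
    exact isSimpleModule_iff_isCoatom.2 (IsLocalRing.maximalIdeal.isMaximal _).out
  rw [Scheme.ord_eq_iff hy hf0]
  exact (Ring.ordFrac_eq_ord _ ha0).trans
    (Ring.ordMonoidWithZeroHom_eq_coe _ (mem_nonZeroDivisors_of_ne_zero ha0) hord)

theorem ord_stalk_nonneg {y : X} {a : X.presheaf.stalk y} (ha : a ≠ 0) :
    0 ≤ Scheme.ord (algebraMap (X.presheaf.stalk y) X.functionField a) y := by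
  by_cases hy : Order.coheight y = 1
  · haveI : Ring.KrullDimLE 1 (X.presheaf.stalk y) := krullDimLE_of_coheight_le hy.le
    rw [Scheme.le_ord_iff hy (fun h => ha (IsFractionRing.injective _ X.functionField (h.trans (map_zero _).symm)))]
    exact Ring.ordFrac_ge_one_of_ne_zero ha
  · rw [Scheme.ord_eq_zero_of_coheight_neq_one hy]

variable {P : Scheme.{u}} [IsIntegral P]

omit [IsLocallyNoetherian X] in
variable (p : P ⟶ X) in
/-- Pull-back of rational functions along a dominant morphism. -/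
def pull (hp : p (genericPoint P) = genericPoint X) : X.functionField →+* P.functionField :=
  (X.presheaf.stalkSpecializes (specializes_of_eq hp) ≫ p.stalkMap (genericPoint P)).hom

omit [IsLocallyNoetherian X] in
theorem pull_stalk {p : P ⟶ X} (hp : p (genericPoint P) = genericPoint X) (y : P)
    (a : X.presheaf.stalk (p y)) :
    pull p hp (algebraMap (X.presheaf.stalk (p y)) X.functionField a) =
      algebraMap (P.presheaf.stalk y) P.functionField (p.stalkMap y a) := by
  change (X.presheaf.stalkSpecializes ((genericPoint_spec X).specializes trivial) ≫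
      X.presheaf.stalkSpecializes (specializes_of_eq hp) ≫ p.stalkMap (genericPoint P)).hom a =
    (p.stalkMap y ≫ P.presheaf.stalkSpecializes ((genericPoint_spec P).specializes trivial)).hom a
  rw [TopCat.Presheaf.stalkSpecializes_comp_assoc]
  refine congrArg (fun φ => (CommRingCat.Hom.hom φ) a) ?_
  exact Scheme.Hom.stalkSpecializes_stalkMap p _ _ ((genericPoint_spec P).specializes trivial)

variable [IsLocallyNoetherian P] {p : P ⟶ X}

/-- Pulled back functions have order zero over the generic point. -/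
theorem ord_pull_horiz (hp : p (genericPoint P) = genericPoint X) {y : P} (hy : p y = genericPoint X)
    {f : X.functionField} (hf : f ≠ 0) : Scheme.ord (pull p hp f) y = 0 := by
  obtain ⟨a, b, hb, rfl⟩ := IsFractionRing.div_surjective (A := X.presheaf.stalk (p y)) f
  have hb0 : b ≠ 0 := nonZeroDivisors.ne_zero hb
  have ha0 : a ≠ 0 := fun h => hf (by rw [h, map_zero, zero_div])
  have hua := (isUnit_stalk_genericPoint hy a ha0).map (p.stalkMap y).hom
  have hub := (isUnit_stalk_genericPoint hy b hb0).map (p.stalkMap y).hom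
  rw [map_div₀, pull_stalk, pull_stalk, div_eq_mul_inv,
    Scheme.ord_mul (hua.map _).ne_zero (inv_ne_zero (hub.map _).ne_zero), ord_inv (hub.map _).ne_zero,
    ord_stalk_unit hua, ord_stalk_unit hub]
  norm_num

variable (p) in
/-- A chart of `P` which is a polynomial ring over an affine open of `X`. -/
structure Chart where
  U : X.Opens
  V : P.Opens
  hU : IsAffineOpen U
  hV : IsAffineOpen V
  hVU : V ≤ p ⁻¹ᵁ U
  nonempty : Nonempty V
  σ : Type u
  finite : Finite σ
  e : MvPolynomial σ Γ(X, U) ≃+* Γ(P, V)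
  he : ∀ a, e (C a) = p.appLE U V hVU a

namespace Chart

variable (c : Chart p)

/-- The prime of the polynomial ring at a point of the chart. -/
def qOf {y : P} (hy : y ∈ c.V) : Ideal (MvPolynomial c.σ Γ(X, c.U)) :=
  (c.hV.primeIdealOf ⟨y, hy⟩).asIdeal.comap c.e

instance {y : P} (hy : y ∈ c.V) : (c.qOf hy).IsPrime :=
  Ideal.comap_isPrime _ (c.hV.primeIdealOf ⟨y, hy⟩).asIdeal

omit [IsIntegral X] [IsLocallyNoetherian X] [IsIntegral P] [IsLocallyNoetherian P] in
theorem comap_qOf {y : P} (hy : y ∈ c.V) :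
    (c.qOf hy).comap C = (c.hU.primeIdealOf ⟨p y, c.hVU hy⟩).asIdeal := by
  have h := congrArg PrimeSpectrum.asIdeal (IsAffineOpen.comap_primeIdealOf_appLE c.U c.hU c.V c.hV c.hVU hy)
  rw [← h]
  ext a
  show c.e (C a) ∈ (c.hV.primeIdealOf ⟨y, hy⟩).asIdeal ↔
    p.appLE c.U c.V c.hVU a ∈ (c.hV.primeIdealOf ⟨y, hy⟩).asIdeal
  rw [c.he]

omit [IsLocallyNoetherian X] [IsLocallyNoetherian P] [IsIntegral X] in
theorem height_qOf {y : P} (hy : y ∈ c.V) : (Order.coheight y : WithBot ℕ∞) = (c.qOf hy).height := by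
  rw [coheight_eq_height c.hV hy, qOf, RingEquiv.height_comap]

omit [IsLocallyNoetherian X] [IsLocallyNoetherian P] in
theorem nonemptyU : Nonempty c.U := by
  obtain ⟨⟨y, hy⟩⟩ := c.nonempty
  exact ⟨⟨p y, c.hVU hy⟩⟩

omit [IsLocallyNoetherian X] [IsLocallyNoetherian P] in
theorem over_generic_iff {y : P} (hy : y ∈ c.V) : p y = genericPoint X ↔ (c.qOf hy).comap C = ⊥ := by
  haveI := c.nonemptyU
  rw [c.comap_qOf hy, ← genericPoint_prime c.hU]
  exact ⟨fun h => by congr 1; congr 1; exact Subtype.ext h,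
    fun h => primeIdealOf_inj c.hU (c.hVU hy) (genericPoint_mem c.U) h⟩

omit [IsLocallyNoetherian X] [IsLocallyNoetherian P] in
include c in
theorem dominant : p (genericPoint P) = genericPoint X := by
  haveI := c.nonempty
  rw [c.over_generic_iff (genericPoint_mem c.V)]
  refine le_antisymm (fun a ha => ?_) bot_le
  have h : c.e (C a) ∈ (c.hV.primeIdealOf ⟨genericPoint P, genericPoint_mem c.V⟩).asIdeal := ha
  rw [genericPoint_prime c.hV, Ideal.mem_bot] at h
  exact C_eq_zero.1 (c.e.injective (h.trans (map_zero _).symm))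

theorem noetherian : IsNoetherianRing Γ(X, c.U) :=
  IsLocallyNoetherian.component_noetherian ⟨c.U, c.hU⟩

omit [IsLocallyNoetherian X] [IsLocallyNoetherian P] in
theorem isDomain : IsDomain Γ(X, c.U) := by
  haveI := c.nonemptyU
  infer_instance

/-- A point of coheight one lies over the generic point or over a point of coheight one. -/
theorem coheight_cases {y : P} (hy : y ∈ c.V) (hy1 : Order.coheight y = 1) (hne : p y ≠ genericPoint X) :
    Order.coheight (p y) = 1 ∧ c.qOf hy = (c.hU.primeIdealOf ⟨p y, c.hVU hy⟩).asIdeal.map C := by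
  haveI := c.isDomain
  haveI := c.noetherian
  have hh : (c.qOf hy).height = 1 := WithBot.coe_eq_coe.1 (by rw [← c.height_qOf hy, hy1])
  obtain ⟨h1, h2⟩ := WDivPoly.vert_cases (c.qOf hy) hh fun h => hne ((c.over_generic_iff hy).2 h)
  rw [c.comap_qOf hy] at h1 h2
  exact ⟨WithBot.coe_eq_coe.1 (by rw [coheight_eq_height c.hU (c.hVU hy), h1]), h2⟩

theorem unique_over {y y' : P} (hy : y ∈ c.V) (hy' : y' ∈ c.V) (hy1 : Order.coheight y = 1)
    (hy1' : Order.coheight y' = 1) (h : p y = p y') (hne : p y ≠ genericPoint X) : y = y' := by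
  refine primeIdealOf_inj c.hV hy hy' (Ideal.comap_injective_of_surjective _ c.e.surjective ?_)
  show c.qOf hy = c.qOf hy'
  rw [(c.coheight_cases hy hy1 hne).2, (c.coheight_cases hy' hy1' (h ▸ hne)).2]
  congr 3
  exact Subtype.ext h

theorem exists_over {x : X} (hx : x ∈ c.U) (hx1 : Order.coheight x = 1) :
    ∃ y, y ∈ c.V ∧ p y = x ∧ Order.coheight y = 1 := by
  haveI := c.isDomain
  haveI := c.noetherian
  haveI := c.finite
  set q₀ := (c.hU.primeIdealOf ⟨x, hx⟩).asIdeal with hq₀
  have h1 : q₀.height = 1 := WithBot.coe_eq_coe.1 (by rw [hq₀, ← coheight_eq_height c.hU hx, hx1])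
  haveI := WDivPoly.isPrime_map (σ := c.σ) q₀
  obtain ⟨y, hy, hyP⟩ := exists_point c.hV
    ⟨(q₀.map (C : Γ(X, c.U) →+* MvPolynomial c.σ Γ(X, c.U))).comap c.e.symm, Ideal.comap_isPrime _ _⟩
  have hq : c.qOf hy = q₀.map C := by
    rw [qOf, hyP]
    ext z
    show c.e.symm (c.e z) ∈ q₀.map (C : Γ(X, c.U) →+* MvPolynomial c.σ Γ(X, c.U)) ↔ _
    rw [RingEquiv.symm_apply_apply]
  refine ⟨y, hy, primeIdealOf_inj c.hU (c.hVU hy) hx ?_,
    WithBot.coe_eq_coe.1 (by rw [c.height_qOf hy, hq, WDivPoly.height_map q₀ h1])⟩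
  rw [← c.comap_qOf hy, hq, WDivPoly.comap_map]

omit [IsLocallyNoetherian X] [IsLocallyNoetherian P] in
/-- The polynomial ring inside the function field. -/
def ψ : MvPolynomial c.σ Γ(X, c.U) →+* P.functionField :=
  haveI := c.nonempty
  (P.germToFunctionField c.V).hom.comp c.e.toRingHom

omit [IsLocallyNoetherian X] [IsLocallyNoetherian P] in
theorem ψ_injective : Function.Injective c.ψ :=
  haveI := c.nonempty
  (Scheme.germToFunctionField_injective (X := P) c.V).comp c.e.injective

omit [IsLocallyNoetherian X] [IsLocallyNoetherian P] in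
theorem ψ_eq {y : P} (hy : y ∈ c.V) (z : MvPolynomial c.σ Γ(X, c.U)) :
    c.ψ z = algebraMap (P.presheaf.stalk y) P.functionField (P.presheaf.germ c.V y hy (c.e z)) :=
  haveI := c.nonempty
  (algebraMap_germ hy (c.e z)).symm

omit [IsLocallyNoetherian X] [IsLocallyNoetherian P] in
theorem stalkMap_germ {y : P} (hy : y ∈ c.V) (a : Γ(X, c.U)) :
    p.stalkMap y (X.presheaf.germ c.U (p y) (c.hVU hy) a) = P.presheaf.germ c.V y hy (p.appLE c.U c.V c.hVU a) := by
  rw [← CommRingCat.comp_apply, Scheme.Hom.germ_stalkMap]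
  simp only [CommRingCat.comp_apply, Scheme.Hom.appLE]
  exact (TopCat.Presheaf.germ_res_apply _ _ _ hy _).symm

omit [IsLocallyNoetherian X] [IsLocallyNoetherian P] in
theorem pull_germ (a : Γ(X, c.U)) :
    haveI := c.nonemptyU
    pull p c.dominant (X.germToFunctionField c.U a) = c.ψ (C a) := by
  haveI := c.nonemptyU
  haveI := c.nonempty
  obtain ⟨⟨y, hy⟩⟩ := c.nonempty
  rw [← algebraMap_germ (V := c.U) (y := p y) (c.hVU hy) a, pull_stalk c.dominant, c.stalkMap_germ hy a,
    ψ_eq c hy, c.he]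

/-- The order function on the horizontal primes. -/
def w (q : Ideal (MvPolynomial c.σ Γ(X, c.U))) (f : P.functionField) : ℤ :=
  open Classical in
  if h : q.IsPrime then
    haveI := h
    Scheme.ord f (exists_point c.hV ⟨q.comap c.e.symm, Ideal.comap_isPrime _ _⟩).choose
  else 0

omit [IsLocallyNoetherian X] in
theorem w_qOf {y : P} (hy : y ∈ c.V) (f : P.functionField) : c.w (c.qOf hy) f = Scheme.ord f y := by
  rw [w, dif_pos (inferInstance : (c.qOf hy).IsPrime)]
  congr 1
  obtain ⟨h1, h2⟩ := (exists_point c.hV ⟨(c.qOf hy).comap c.e.symm, Ideal.comap_isPrime _ _⟩).choose_spec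
  refine primeIdealOf_inj c.hV h1 hy (h2.trans ?_)
  ext z
  show c.e (c.e.symm z) ∈ (c.hV.primeIdealOf ⟨y, hy⟩).asIdeal ↔ _
  rw [RingEquiv.apply_symm_apply]

omit [IsLocallyNoetherian X] in
theorem exists_qOf_eq (q : Ideal (MvPolynomial c.σ Γ(X, c.U))) [q.IsPrime] :
    ∃ (y : P) (hy : y ∈ c.V), c.qOf hy = q := by
  obtain ⟨y, hy, hyP⟩ := exists_point c.hV ⟨q.comap c.e.symm, Ideal.comap_isPrime _ _⟩
  refine ⟨y, hy, ?_⟩
  rw [qOf, hyP]
  ext z
  show c.e.symm (c.e z) ∈ q ↔ _
  rw [RingEquiv.symm_apply_apply]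

theorem horiz_iff {y : P} (hy : y ∈ c.V) :
    WDivPoly.Horiz (c.qOf hy) ↔ Order.coheight y = 1 ∧ p y = genericPoint X :=
  ⟨fun h => ⟨WithBot.coe_eq_coe.1 (by rw [c.height_qOf hy, h.height_one]), (c.over_generic_iff hy).2 h.comap⟩,
    fun h => ⟨inferInstance, WithBot.coe_eq_coe.1 (by rw [← c.height_qOf hy, h.1]),
      (c.over_generic_iff hy).1 h.2⟩⟩

theorem isOrd : WDivPoly.IsOrd c.ψ c.w := by
  refine ⟨c.ψ_injective, fun q hq f g hf hg => ?_, fun q hq a ha => ?_, fun q hq π hπ => ?_, fun q hq a ha => ?_⟩ <;>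
    haveI := hq.prime <;> obtain ⟨y, hy, rfl⟩ := c.exists_qOf_eq q <;> simp only [c.w_qOf hy]
  · exact Scheme.ord_mul hf hg
  · rw [c.ψ_eq hy]
    letI := P.presheaf.algebra_section_stalk ⟨y, hy⟩
    haveI := c.hV.isLocalization_stalk ⟨y, hy⟩
    exact ord_stalk_unit (IsLocalization.map_units (P.presheaf.stalk y)
      (⟨c.e a, ha⟩ : (c.hV.primeIdealOf ⟨y, hy⟩).asIdeal.primeCompl))
  · rw [c.ψ_eq hy]
    refine ord_stalk_gen ((c.horiz_iff hy).1 hq).1 ?_
    letI := P.presheaf.algebra_section_stalk ⟨y, hy⟩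
    haveI := c.hV.isLocalization_stalk ⟨y, hy⟩
    rw [← IsLocalization.AtPrime.map_eq_maximalIdeal (c.hV.primeIdealOf ⟨y, hy⟩).asIdeal]
    refine le_antisymm (Ideal.map_le_iff_le_comap.2 fun z hz => ?_) ((Ideal.span_singleton_le_iff_mem _).2
      (Ideal.mem_map_of_mem _ (show c.e π ∈ _ from hπ.1)))
    obtain ⟨b, hb, hdvd⟩ := hπ.2.2 (c.e.symm z) (by
      show c.e (c.e.symm z) ∈ (c.hV.primeIdealOf ⟨y, hy⟩).asIdeal
      rwa [RingEquiv.apply_symm_apply])
    rw [Ideal.mem_comap, Ideal.mem_span_singleton]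
    have hu := IsLocalization.map_units (P.presheaf.stalk y) (⟨c.e (C b), fun h => hb (by
      have h' : b ∈ (c.qOf hy).comap C := h
      rwa [hq.comap, Ideal.mem_bot] at h')⟩ : (c.hV.primeIdealOf ⟨y, hy⟩).asIdeal.primeCompl)
    rw [← hu.dvd_mul_left, ← map_mul]
    refine map_dvd _ ?_
    have := map_dvd c.e hdvd
    rwa [map_mul, RingEquiv.apply_symm_apply] at this
  · rw [c.ψ_eq hy]
    refine ord_stalk_nonneg fun h => ha (c.e.injective (?_ : c.e a = c.e 0))
    rw [map_zero]
    exact germ_injective_of_isIntegral P y hy (h.trans (map_zero _).symm)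

/-- A function with no zero or pole over the generic point comes from `X`. -/
theorem exists_pull_eq {g : P.functionField} (hg : g ≠ 0)
    (h : ∀ y ∈ c.V, Order.coheight y = 1 → p y = genericPoint X → Scheme.ord g y = 0) :
    ∃ f : X.functionField, f ≠ 0 ∧ pull p c.dominant f = g := by
  haveI := c.nonempty
  haveI := c.nonemptyU
  haveI := c.isDomain
  haveI := c.noetherian
  haveI := c.finite
  haveI := functionField_isFractionRing_of_isAffineOpen P c.V c.hV
  obtain ⟨a, b, hb, rfl⟩ := IsFractionRing.div_surjective (A := Γ(P, c.V)) g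
  have ha0 : c.e.symm a ≠ 0 := fun h' => hg (by
    rw [(c.e.symm.map_eq_zero_iff).1 h', map_zero, zero_div])
  have hb0 : c.e.symm b ≠ 0 := fun h' => nonZeroDivisors.ne_zero hb ((c.e.symm.map_eq_zero_iff).1 h')
  have hψ : ∀ z : Γ(P, c.V), c.ψ (c.e.symm z) = algebraMap Γ(P, c.V) P.functionField z := fun z =>
    congrArg (P.germToFunctionField c.V) (c.e.apply_symm_apply z)
  obtain ⟨α, β, hα, hβ, hrel⟩ := WDivPoly.eq_const c.isOrd _ _ ha0 hb0 fun q hq => by
    haveI := hq.prime
    obtain ⟨y, hy, rfl⟩ := c.exists_qOf_eq q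
    obtain ⟨h1, h2⟩ := (c.horiz_iff hy).1 hq
    simp only [c.w_qOf hy, hψ]
    have ea : algebraMap Γ(P, c.V) P.functionField a ≠ 0 := fun h' => hg (by rw [h', zero_div])
    have eb : algebraMap Γ(P, c.V) P.functionField b ≠ 0 := fun h' => hg (by rw [h', div_zero])
    have := h y hy h1 h2
    rw [div_eq_mul_inv, Scheme.ord_mul ea (inv_ne_zero eb), ord_inv eb] at this
    omega
  have hinj := Scheme.germToFunctionField_injective (X := X) c.U
  refine ⟨X.germToFunctionField c.U α / X.germToFunctionField c.U β,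
    div_ne_zero (fun h' => hα (hinj (h'.trans (map_zero _).symm)))
      (fun h' => hβ (hinj (h'.trans (map_zero _).symm))), ?_⟩
  have hC : ∀ d : Γ(X, c.U), d ≠ 0 → c.ψ (C d) ≠ 0 := fun d hd => c.isOrd.ne_zero fun h' => hd (C_eq_zero.1 h')
  rw [map_div₀, c.pull_germ, c.pull_germ, ← hψ a, ← hψ b, div_eq_div_iff (hC β hβ) (c.isOrd.ne_zero hb0),
    mul_comm (c.ψ (C α)), hrel]

/-- Prescribed orders over the generic point. -/
theorem exists_horiz (n : P → ℤ) (hn : {y | n y ≠ 0}.Finite) :
    ∃ g : P.functionField, g ≠ 0 ∧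
      ∀ y ∈ c.V, Order.coheight y = 1 → p y = genericPoint X → Scheme.ord g y = n y := by
  classical
  haveI := c.isDomain
  haveI := c.noetherian
  haveI := c.finite
  let S : Finset {y : P // y ∈ c.V} := (hn.toFinset.filter fun y => Order.coheight y = 1 ∧ p y = genericPoint X).subtype _
  obtain ⟨g, hg, hgw⟩ := WDivPoly.exists_w_eq c.isOrd (∑ y ∈ S, Finsupp.single (c.qOf y.2) (n y.1)) fun q hq => by
    obtain ⟨y, hyS, hy⟩ := Finset.mem_biUnion.1 (Finsupp.support_finsetSum hq)
    rw [Finset.mem_singleton.1 (Finsupp.support_single_subset hy), c.horiz_iff]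
    exact (Finset.mem_filter.1 (Finset.mem_subtype.1 hyS)).2
  refine ⟨g, hg, fun y hy h1 h2 => ?_⟩
  rw [← c.w_qOf hy, hgw _ ((c.horiz_iff hy).2 ⟨h1, h2⟩), Finsupp.finsetSum_apply]
  rw [Finset.sum_eq_single (⟨y, hy⟩ : {y : P // y ∈ c.V})]
  · simp
  · intro z _ hz
    rw [Finsupp.single_apply, if_neg]
    exact fun h => hz (Subtype.ext (primeIdealOf_inj c.hV z.2 hy
      (Ideal.comap_injective_of_surjective _ c.e.surjective h)))
  · intro hS
    rw [Finsupp.single_eq_same]
    by_contra hne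
    exact hS (Finset.mem_subtype.2 (Finset.mem_filter.2 ⟨hn.mem_toFinset.2 hne, h1, h2⟩))

theorem qOf_map {y : P} (hy : y ∈ c.V) :
    (c.qOf hy).map c.e.toRingHom = (c.hV.primeIdealOf ⟨y, hy⟩).asIdeal :=
  Ideal.map_comap_of_surjective c.e.toRingHom c.e.surjective _

theorem maximalIdeal_over {y : P} (hy : y ∈ c.V) (hy1 : Order.coheight y = 1) (hne : p y ≠ genericPoint X)
    {π : X.presheaf.stalk (p y)} (hπ : IsLocalRing.maximalIdeal (X.presheaf.stalk (p y)) = Ideal.span {π}) :
    IsLocalRing.maximalIdeal (P.presheaf.stalk y) = Ideal.span {p.stalkMap y π} := by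
  have hq := c.qOf_map hy
  rw [(c.coheight_cases hy hy1 hne).2, Ideal.map_map,
    show c.e.toRingHom.comp C = (p.appLE c.U c.V c.hVU).hom from RingHom.ext c.he] at hq
  have hcomp : (P.presheaf.germ c.V y hy).hom.comp (p.appLE c.U c.V c.hVU).hom =
      (p.stalkMap y).hom.comp (X.presheaf.germ c.U (p y) (c.hVU hy)).hom :=
    RingHom.ext fun a => (c.stalkMap_germ hy a).symm
  rw [maximalIdeal_eq_map c.hV hy, ← hq, Ideal.map_map, hcomp, ← Ideal.map_map,
    ← maximalIdeal_eq_map c.hU (c.hVU hy), hπ, Ideal.map_span, Set.image_singleton]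

/-- Pull-back preserves orders at the points over codimension one. -/
theorem ord_pull {y : P} (hy : y ∈ c.V) (hy1 : Order.coheight y = 1) (hx1 : Order.coheight (p y) = 1)
    [IsDiscreteValuationRing (X.presheaf.stalk (p y))] {f : X.functionField} (hf : f ≠ 0) :
    Scheme.ord (pull p c.dominant f) y = Scheme.ord f (p y) := by
  haveI := c.nonempty
  have hne : p y ≠ genericPoint X := fun h => by
    haveI := c.nonemptyU
    have h0 := coheight_eq_height c.hU (c.hVU hy)
    rw [show (c.hU.primeIdealOf ⟨p y, c.hVU hy⟩).asIdeal = ⊥ from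
      (congrArg (fun z => (c.hU.primeIdealOf z).asIdeal) (Subtype.ext h)).trans (genericPoint_prime c.hU),
      hx1, Ideal.height_bot] at h0
    exact one_ne_zero (WithBot.coe_eq_coe.1 h0)
  obtain ⟨π, hπ⟩ := IsDiscreteValuationRing.exists_irreducible (X.presheaf.stalk (p y))
  have hgen : IsLocalRing.maximalIdeal (P.presheaf.stalk y) = Ideal.span {p.stalkMap y π} :=
    c.maximalIdeal_over hy hy1 hne hπ.maximalIdeal_eq
  have key : ∀ a : X.presheaf.stalk (p y), a ≠ 0 →
      algebraMap (X.presheaf.stalk (p y)) X.functionField a ≠ 0 ∧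
      Scheme.ord (pull p c.dominant (algebraMap (X.presheaf.stalk (p y)) X.functionField a)) y =
        Scheme.ord (algebraMap (X.presheaf.stalk (p y)) X.functionField a) (p y) := by
    intro a ha
    refine ⟨fun h => ha (IsFractionRing.injective _ X.functionField (h.trans (map_zero _).symm)), ?_⟩
    obtain ⟨n, u, rfl⟩ := IsDiscreteValuationRing.eq_unit_mul_pow_irreducible ha hπ
    have hu0 : algebraMap (X.presheaf.stalk (p y)) X.functionField u ≠ 0 := (u.isUnit.map _).ne_zero
    have hπ0 : algebraMap (X.presheaf.stalk (p y)) X.functionField π ≠ 0 := fun h =>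
      hπ.ne_zero (IsFractionRing.injective _ X.functionField (h.trans (map_zero _).symm))
    have hπ1 := ord_stalk_gen hy1 hgen
    rw [← pull_stalk c.dominant] at hπ1
    have hu1 := ord_stalk_unit (u.isUnit.map (p.stalkMap y).hom)
    rw [← pull_stalk c.dominant] at hu1
    simp only [map_mul, map_pow]
    rw [Scheme.ord_mul ((map_ne_zero _).2 hu0) (pow_ne_zero _ ((map_ne_zero _).2 hπ0)),
      ord_pow ((map_ne_zero _).2 hπ0), hπ1, hu1, Scheme.ord_mul hu0 (pow_ne_zero _ hπ0), ord_pow hπ0,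
      ord_stalk_gen hx1 hπ.maximalIdeal_eq, ord_stalk_unit u.isUnit]
  obtain ⟨a, b, hb, rfl⟩ := IsFractionRing.div_surjective (A := X.presheaf.stalk (p y)) f
  obtain ⟨ea, ka⟩ := key a fun h => hf (by rw [h, map_zero, zero_div])
  obtain ⟨eb, kb⟩ := key b (nonZeroDivisors.ne_zero hb)
  rw [map_div₀, div_eq_mul_inv, Scheme.ord_mul ((map_ne_zero _).2 ea) (inv_ne_zero ((map_ne_zero _).2 eb)),
    ord_inv ((map_ne_zero _).2 eb), ka, kb, div_eq_mul_inv, Scheme.ord_mul ea (inv_ne_zero eb), ord_inv eb]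

end Chart

end Groth.Agent.H22Alg.WDivChart
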