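import Mathlib

/-! # Height one primes of `A[t_i]` and principal divisors along the horizontal ones. -/

set_option autoImplicit false
set_option linter.style.haveILetI false

universe u v w'

open MvPolynomial

noncomputable section

namespace Groth.Agent.H22Alg.WDivPoly

variable {σ : Type v} {A : Type u} [CommRing A]

theorem isPrime_map (p : Ideal A) [p.IsPrime] : (p.map (C : A →+* (MvPolynomial σ A))).IsPrime := by
  haveI : IsDomain ((MvPolynomial σ A) ⧸ p.map (C : A →+* (MvPolynomial σ A))) :=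
    (quotientEquivQuotientMvPolynomial (σ := σ) p).toRingEquiv.symm.toMulEquiv.isDomain
  exact (Ideal.Quotient.isDomain_iff_prime _).1 inferInstance

theorem comap_map (p : Ideal A) : (p.map (C : A →+* (MvPolynomial σ A))).comap C = p := by
  refine le_antisymm (fun a ha => ?_) Ideal.le_comap_map
  have h := mem_map_C_iff.1 (Ideal.mem_comap.1 ha) 0
  simpa using h

theorem map_ne_bot {p : Ideal A} (hp : p ≠ ⊥) : p.map (C : A →+* (MvPolynomial σ A)) ≠ ⊥ := fun h =>
  hp ((Ideal.map_eq_bot_iff_of_injective (C_injective σ A)).1 h)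

variable [IsDomain A]

theorem height_pos {B : Type*} [CommRing B] [IsDomain B] {q : Ideal B} [q.IsPrime] (hq : q ≠ ⊥) :
    1 ≤ q.height := by
  refine Order.one_le_iff_pos.mpr (pos_iff_ne_zero.mpr fun h => hq ?_)
  exact le_antisymm ((Ideal.height_eq_zero_iff.mp h).2 ⟨Ideal.isPrime_bot, le_rfl⟩ bot_le) bot_le

theorem eq_of_le {B : Type*} [CommRing B] [IsDomain B] {p q : Ideal B} [p.IsPrime] [q.IsPrime]
    (hp : p ≠ ⊥) (hq : q.height = 1) (h : p ≤ q) : p = q := by
  haveI : q.FiniteHeight := ⟨Or.inr (by rw [hq]; exact ENat.one_ne_top)⟩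
  by_contra hne
  haveI : p.FiniteHeight := ⟨Or.inr
    (ne_top_of_le_ne_top (by rw [hq]; exact ENat.one_ne_top) (Ideal.height_mono h))⟩
  have h1 := Ideal.height_strict_mono_of_isPrime (lt_of_le_of_ne h hne)
  rw [hq] at h1
  exact not_le.2 h1 (height_pos hp)

theorem height_le_one_of_forall {B : Type*} [CommRing B] [IsDomain B] {p : Ideal B} [p.IsPrime]
    (h : ∀ q : Ideal B, q.IsPrime → q ≠ ⊥ → q ≤ p → q = p) : p.height ≤ 1 := by
  refine Ideal.height_le_iff.mpr fun q hq hqp => ?_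
  have : q = ⊥ := by
    by_contra hq0
    exact hqp.ne (h q hq hq0 hqp.le)
  rw [this, Ideal.height_bot]
  exact one_pos

/-- A height one prime meeting `A` is extended from a height one prime of `A`. -/
theorem vert_cases (q : Ideal (MvPolynomial σ A)) [q.IsPrime] (hq : q.height = 1) (hp : q.comap (C : A →+* (MvPolynomial σ A)) ≠ ⊥) :
    (q.comap (C : A →+* (MvPolynomial σ A))).height = 1 ∧ q = (q.comap (C : A →+* (MvPolynomial σ A))).map C := by
  haveI := isPrime_map (σ := σ) (q.comap (C : A →+* (MvPolynomial σ A)))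
  have heq : (q.comap (C : A →+* (MvPolynomial σ A))).map C = q := eq_of_le (map_ne_bot hp) hq Ideal.map_comap_le
  refine ⟨le_antisymm (height_le_one_of_forall fun p' hp' hp'0 hle => ?_) (height_pos hp), heq.symm⟩
  haveI := isPrime_map (σ := σ) p'
  have h : p'.map (C : A →+* (MvPolynomial σ A)) = q := eq_of_le (map_ne_bot hp'0) hq ((Ideal.map_mono hle).trans heq.le)
  rw [← h, comap_map]

/-- The extension of a height one prime has height one. -/
theorem height_map [Finite σ] [IsNoetherianRing A] (p : Ideal A) [p.IsPrime] (hp : p.height = 1) :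
    (p.map (C : A →+* (MvPolynomial σ A))).height = 1 := by
  have hp0 : p ≠ ⊥ := fun h => by rw [h, Ideal.height_bot] at hp; exact zero_ne_one hp
  haveI := isPrime_map (σ := σ) p
  obtain ⟨a, ha, ha0⟩ := p.ne_bot_iff.1 hp0
  refine le_antisymm (Ideal.height_le_one_of_isPrincipal_of_mem_minimalPrimes (Ideal.span {C a}) _ ?_)
    (height_pos (map_ne_bot hp0))
  refine ⟨⟨inferInstance, (Ideal.span_singleton_le_iff_mem _).2 (Ideal.mem_map_of_mem C ha)⟩, ?_⟩
  rintro q ⟨hq, haq⟩ hle
  have hac : a ∈ q.comap (C : A →+* (MvPolynomial σ A)) := Ideal.mem_comap.2 ((Ideal.span_singleton_le_iff_mem q).1 haq)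
  have hne : q.comap (C : A →+* (MvPolynomial σ A)) ≠ ⊥ := fun h => ha0 (by rw [h, Ideal.mem_bot] at hac; exact hac)
  have : q.comap (C : A →+* (MvPolynomial σ A)) = p :=
    eq_of_le hne hp ((Ideal.comap_mono hle).trans (comap_map p).le)
  rw [← this]
  exact Ideal.map_comap_le

/-- Height one primes over the generic point. -/
structure Horiz (q : Ideal (MvPolynomial σ A)) : Prop where
  prime : q.IsPrime
  height_one : q.height = 1
  comap : q.comap (C : A →+* (MvPolynomial σ A)) = ⊥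

/-- `π` generates `q` after inverting the nonzero constants. -/
def IsGenOf (q : Ideal (MvPolynomial σ A)) (π : (MvPolynomial σ A)) : Prop :=
  π ∈ q ∧ π ≠ 0 ∧ ∀ x ∈ q, ∃ a : A, a ≠ 0 ∧ π ∣ C a * x

variable (σ A) in
abbrev KP : Type (max u v) := MvPolynomial σ (FractionRing A)

variable (σ A) in
abbrev ι : (MvPolynomial σ A) →+* KP σ A := MvPolynomial.map (algebraMap A (FractionRing A))

theorem ι_injective : Function.Injective (ι σ A) :=
  map_injective _ (IsFractionRing.injective A (FractionRing A))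

theorem exists_num (y : KP σ A) : ∃ (a : A) (x : (MvPolynomial σ A)), a ≠ 0 ∧ C (algebraMap A _ a) * y = ι σ A x := by
  letI : Algebra (MvPolynomial σ A) (KP σ A) := algebraMvPolynomial
  haveI := MvPolynomial.isLocalization (σ := σ) (nonZeroDivisors A) (FractionRing A)
  obtain ⟨⟨x, ⟨_, a, ha, rfl⟩⟩, hx⟩ := IsLocalization.surj ((nonZeroDivisors A).map (C : A →+* (MvPolynomial σ A))) y
  refine ⟨a, x, nonZeroDivisors.ne_zero ha, ?_⟩
  have h : y * ι σ A (C a) = ι σ A x := hx
  rw [MvPolynomial.map_C] at h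
  rw [mul_comm]
  exact h

theorem isUnit_C {a : A} (ha : a ≠ 0) : IsUnit (C (algebraMap A (FractionRing A) a) : KP σ A) :=
  (IsUnit.mk0 _ (fun h => ha (IsFractionRing.injective A (FractionRing A) (by rw [h, map_zero])))).map C

variable [IsNoetherianRing A] [Finite σ]

theorem exists_gen {q : Ideal (MvPolynomial σ A)} (hq : Horiz q) : ∃ π, IsGenOf q π := by
  letI : Algebra (MvPolynomial σ A) (KP σ A) := algebraMvPolynomial
  haveI := MvPolynomial.isLocalization (σ := σ) (nonZeroDivisors A) (FractionRing A)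
  haveI := hq.prime
  have hdisj : Disjoint (((nonZeroDivisors A).map (C : A →+* (MvPolynomial σ A)) : Submonoid (MvPolynomial σ A)) : Set (MvPolynomial σ A)) (q : Set (MvPolynomial σ A)) := by
    refine Set.disjoint_left.2 ?_
    rintro _ ⟨a, ha, rfl⟩ haq
    have h : a ∈ q.comap (C : A →+* (MvPolynomial σ A)) := haq
    rw [hq.comap] at h
    exact nonZeroDivisors.ne_zero ha h
  have hQp : (q.map (algebraMap (MvPolynomial σ A) (KP σ A))).IsPrime :=
    IsLocalization.isPrime_of_isPrime_disjoint _ _ q inferInstance hdisj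
  have hQh : (q.map (algebraMap (MvPolynomial σ A) (KP σ A))).height = 1 :=
    (IsLocalization.height_map_of_disjoint ((nonZeroDivisors A).map (C : A →+* (MvPolynomial σ A))) q hdisj).trans hq.height_one
  have hQ0 : q.map (algebraMap (MvPolynomial σ A) (KP σ A)) ≠ ⊥ := fun h => by
    rw [h, Ideal.height_bot] at hQh; exact zero_ne_one hQh
  obtain ⟨π', hπ', hprime⟩ := hQp.exists_mem_prime_of_ne_bot hQ0
  haveI : (Ideal.span {π'}).IsPrime := (Ideal.span_singleton_prime hprime.ne_zero).2 hprime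
  have hspan : Ideal.span {π'} = q.map (algebraMap (MvPolynomial σ A) (KP σ A)) :=
    eq_of_le (by simpa using hprime.ne_zero) hQh ((Ideal.span_singleton_le_iff_mem _).2 hπ')
  obtain ⟨a, π, ha, hπ⟩ := exists_num π'
  have hback : ∀ x : (MvPolynomial σ A), ι σ A x ∈ q.map (algebraMap (MvPolynomial σ A) (KP σ A)) → x ∈ q := fun x hx => by
    have := IsLocalization.under_map_of_isPrime_disjoint ((nonZeroDivisors A).map (C : A →+* (MvPolynomial σ A))) (KP σ A)
      inferInstance hdisj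
    rw [← this]
    exact hx
  refine ⟨π, hback π (hπ ▸ Ideal.mul_mem_left _ _ hπ'), fun h => ?_, fun x hx => ?_⟩
  · rw [h, map_zero] at hπ
    exact hprime.ne_zero ((isUnit_C ha).mul_right_eq_zero.1 hπ)
  · have hx' : ι σ A x ∈ Ideal.span {π'} := hspan ▸ Ideal.mem_map_of_mem (algebraMap (MvPolynomial σ A) (KP σ A)) hx
    obtain ⟨c, hc⟩ := Ideal.mem_span_singleton'.1 hx'
    obtain ⟨b, y, hb, hy⟩ := exists_num c
    refine ⟨a * b, mul_ne_zero ha hb, y, ι_injective ?_⟩
    simp only [map_mul, map_C, ← hπ, ← hy, ← hc]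
    ring

theorem IsGenOf.not_mem {q q' : Ideal (MvPolynomial σ A)} (hq : Horiz q) (hq' : Horiz q') (hne : q ≠ q') {π : (MvPolynomial σ A)}
    (h : IsGenOf q π) : π ∉ q' := fun hπ => by
  haveI := hq.prime
  haveI := hq'.prime
  refine hne (eq_of_le (fun h0 => ?_) hq'.height_one fun x hx => ?_)
  · have := hq.height_one
    rw [h0, Ideal.height_bot] at this
    exact zero_ne_one this
  · obtain ⟨a, ha, hdvd⟩ := h.2.2 x hx
    refine (hq'.prime.mem_or_mem (Ideal.mem_of_dvd q' hdvd hπ)).resolve_left fun hCa => ha ?_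
    have hmem : a ∈ q'.comap (C : A →+* (MvPolynomial σ A)) := hCa
    rwa [hq'.comap, Ideal.mem_bot] at hmem

/-- An order function along the horizontal primes. -/
structure IsOrd {L : Type w'} [Field L] (ψ : (MvPolynomial σ A) →+* L) (w : Ideal (MvPolynomial σ A) → L → ℤ) : Prop where
  injective : Function.Injective ψ
  mul : ∀ q, Horiz q → ∀ f g : L, f ≠ 0 → g ≠ 0 → w q (f * g) = w q f + w q g
  out : ∀ q, Horiz q → ∀ a : (MvPolynomial σ A), a ∉ q → w q (ψ a) = 0
  gen : ∀ q, Horiz q → ∀ π : (MvPolynomial σ A), IsGenOf q π → w q (ψ π) = 1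
  nonneg : ∀ q, Horiz q → ∀ a : (MvPolynomial σ A), a ≠ 0 → 0 ≤ w q (ψ a)

variable {L : Type w'} [Field L] {ψ : (MvPolynomial σ A) →+* L} {w : Ideal (MvPolynomial σ A) → L → ℤ}

omit [IsNoetherianRing A] [Finite σ] in
theorem IsOrd.ne_zero (hw : IsOrd ψ w) {a : (MvPolynomial σ A)} (ha : a ≠ 0) : ψ a ≠ 0 :=
  fun h => ha (hw.injective (h.trans (map_zero ψ).symm))

omit [IsNoetherianRing A] [Finite σ] in
theorem IsOrd.one (hw : IsOrd ψ w) {q : Ideal (MvPolynomial σ A)} (hq : Horiz q) : w q 1 = 0 := by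
  have := hw.mul q hq 1 1 one_ne_zero one_ne_zero
  rw [one_mul] at this
  omega

omit [IsNoetherianRing A] [Finite σ] in
theorem IsOrd.zpow (hw : IsOrd ψ w) {q : Ideal (MvPolynomial σ A)} (hq : Horiz q) {f : L} (hf : f ≠ 0) (n : ℤ) :
    w q (f ^ n) = n * w q f := by
  induction n using Int.induction_on with
  | zero => simp [hw.one hq]
  | succ k ih =>
    rw [zpow_add_one₀ hf, hw.mul q hq _ _ (zpow_ne_zero _ hf) hf, ih]; ring
  | pred k ih =>
    have h := hw.mul q hq (f ^ (-(k : ℤ) - 1)) f (zpow_ne_zero _ hf) hf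
    rw [← zpow_add_one₀ hf, sub_add_cancel, ih] at h
    linarith

omit [IsNoetherianRing A] [Finite σ] in
theorem IsOrd.prod (hw : IsOrd ψ w) {q : Ideal (MvPolynomial σ A)} (hq : Horiz q) {I : Type*} (s : Finset I) (f : I → L)
    (hf : ∀ i ∈ s, f i ≠ 0) : w q (∏ i ∈ s, f i) = ∑ i ∈ s, w q (f i) := by
  classical
  induction s using Finset.induction with
  | empty => simp [hw.one hq]
  | insert i s his ih =>
    rw [Finset.prod_insert his, Finset.sum_insert his,
      hw.mul q hq _ _ (hf i (by simp)) (Finset.prod_ne_zero_iff.2 fun j hj => hf j (by simp [hj])),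
      ih fun j hj => hf j (by simp [hj])]

/-- Every finite combination of horizontal primes is a horizontal divisor of a function. -/
theorem exists_w_eq (hw : IsOrd ψ w) (n : Ideal (MvPolynomial σ A) →₀ ℤ) (hn : ∀ q ∈ n.support, Horiz q) :
    ∃ g : L, g ≠ 0 ∧ ∀ q, Horiz q → w q g = n q := by
  classical
  choose π hπ using fun q : n.support => exists_gen (hn q.1 q.2)
  have h0 : ∀ p : n.support, ψ (π p) ≠ 0 := fun p => hw.ne_zero (hπ p).2.1
  refine ⟨∏ p : n.support, ψ (π p) ^ n p.1, Finset.prod_ne_zero_iff.2 fun p _ => zpow_ne_zero _ (h0 p),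
    fun q hq => ?_⟩
  rw [hw.prod hq _ _ fun p _ => zpow_ne_zero _ (h0 p),
    Finset.sum_congr rfl fun p _ => hw.zpow hq (h0 p) (n p.1)]
  by_cases hqn : q ∈ n.support
  · rw [Finset.sum_eq_single (⟨q, hqn⟩ : n.support)]
    · rw [hw.gen q hq _ (hπ ⟨q, hqn⟩), mul_one]
    · intro p _ hp
      rw [hw.out q hq _ ((hπ p).not_mem (hn p.1 p.2) hq fun h => hp (Subtype.ext h)), mul_zero]
    · simp
  · rw [Finsupp.notMem_support_iff.1 hqn]
    refine Finset.sum_eq_zero fun p _ => ?_
    rw [hw.out q hq _ ((hπ p).not_mem (hn p.1 p.2) hq fun h => hqn (h ▸ p.2)), mul_zero]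

omit [IsDomain A] [IsNoetherianRing A] [Finite σ] in
theorem height_span_prime {B : Type*} [CommRing B] [IsDomain B] [IsNoetherianRing B] {π : B} (h : Prime π) :
    (Ideal.span {π}).height = 1 := by
  haveI : (Ideal.span {π}).IsPrime := (Ideal.span_singleton_prime h.ne_zero).2 h
  refine le_antisymm (Ideal.height_le_one_of_isPrincipal_of_mem_minimalPrimes (Ideal.span {π}) _ ?_)
    (height_pos (by simpa using h.ne_zero))
  exact ⟨⟨inferInstance, le_rfl⟩, fun q hq _ => hq.2⟩

/-- If `a` has a prime factor in `K[t]` not dividing `b`, some horizontal order of `a / b` is positive. -/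
theorem exists_pos (hw : IsOrd ψ w) {x y : (MvPolynomial σ A)} (hx : x ≠ 0) (hy : y ≠ 0) {π' : KP σ A} (hπ : Prime π')
    (hdx : π' ∣ ι σ A x) (hdy : ¬π' ∣ ι σ A y) : ∃ q, Horiz q ∧ 0 < w q (ψ x) ∧ w q (ψ y) = 0 := by
  letI : Algebra (MvPolynomial σ A) (KP σ A) := algebraMvPolynomial
  haveI := MvPolynomial.isLocalization (σ := σ) (nonZeroDivisors A) (FractionRing A)
  haveI : (Ideal.span {π'}).IsPrime := (Ideal.span_singleton_prime hπ.ne_zero).2 hπ
  have hq : Horiz ((Ideal.span {π'}).comap (ι σ A)) := by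
    refine ⟨Ideal.comap_isPrime _ _, ?_, ?_⟩
    · exact ((IsLocalization.height_under ((nonZeroDivisors A).map (C : A →+* (MvPolynomial σ A))) (Ideal.span {π'})).trans
        (height_span_prime hπ))
    · refine le_antisymm (fun a ha => ?_) bot_le
      by_contra ha0
      have : ι σ A (C a) ∈ Ideal.span {π'} := ha
      rw [map_C, Ideal.mem_span_singleton] at this
      exact hπ.not_unit (isUnit_of_dvd_unit this (isUnit_C (fun h => ha0 (by simp [h]))))
  refine ⟨_, hq, ?_, hw.out _ hq _ fun h => hdy (Ideal.mem_span_singleton.1 h)⟩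
  obtain ⟨π, hg⟩ := exists_gen hq
  obtain ⟨a, ha, c, hc⟩ := hg.2.2 x (Ideal.mem_span_singleton.2 hdx)
  have hCa : (C a : (MvPolynomial σ A)) ≠ 0 := fun h => ha (C_eq_zero.1 h)
  have hc0 : c ≠ 0 := fun h => mul_ne_zero hCa hx (by rw [hc, h, mul_zero])
  have h := congrArg (fun z => w ((Ideal.span {π'}).comap (ι σ A)) (ψ z)) hc
  simp only [map_mul] at h
  rw [hw.mul _ hq _ _ (hw.ne_zero hCa) (hw.ne_zero hx), hw.mul _ hq _ _ (hw.ne_zero hg.2.1) (hw.ne_zero hc0),
    hw.gen _ hq _ hg, hw.out _ hq (C a) fun h' => ha (by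
      have h'' : a ∈ ((Ideal.span {π'}).comap (ι σ A)).comap (C : A →+* (MvPolynomial σ A)) := h'
      rwa [hq.comap, Ideal.mem_bot] at h'')] at h
  linarith [hw.nonneg _ hq c hc0]

/-- A function without horizontal zeros and poles is a constant. -/
theorem eq_const (hw : IsOrd ψ w) (a b : (MvPolynomial σ A)) (ha : a ≠ 0) (hb : b ≠ 0)
    (h : ∀ q, Horiz q → w q (ψ a) = w q (ψ b)) :
    ∃ α β : A, α ≠ 0 ∧ β ≠ 0 ∧ ψ a * ψ (C β) = ψ b * ψ (C α) := by
  classical
  obtain ⟨a', b', c, hrel, hca, hcb⟩ := UniqueFactorizationMonoid.exists_reduced_factors (ι σ A a)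
    (fun h' => ha (ι_injective (h'.trans (map_zero _).symm))) (ι σ A b)
  obtain ⟨α, x, hα, hx⟩ := exists_num a'
  obtain ⟨β, y, hβ, hy⟩ := exists_num b'
  have heq : a * (y * C α) = b * (x * C β) := ι_injective (by
    simp only [map_mul, map_C, ← hx, ← hy, ← hca, ← hcb]; ring)
  have hne : ∀ (z : KP σ A) (d : KP σ A) (r : (MvPolynomial σ A)), r ≠ 0 → d * z = ι σ A r → z ≠ 0 := fun z d r hr e hz =>
    hr (ι_injective (by rw [← e, hz, mul_zero, map_zero]))
  have ha' : a' ≠ 0 := hne _ _ _ ha hca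
  have hb' : b' ≠ 0 := hne _ _ _ hb hcb
  have hx0 : x ≠ 0 := fun h' => ha' ((isUnit_C hα).mul_right_eq_zero.1 (by rw [hx, h', map_zero]))
  have hy0 : y ≠ 0 := fun h' => hb' ((isUnit_C hβ).mul_right_eq_zero.1 (by rw [hy, h', map_zero]))
  have hCα : (C α : (MvPolynomial σ A)) ≠ 0 := fun h => hα (C_eq_zero.1 h)
  have hCβ : (C β : (MvPolynomial σ A)) ≠ 0 := fun h => hβ (C_eq_zero.1 h)
  have hxy : ∀ q, Horiz q → w q (ψ x) = w q (ψ y) := fun q hq => by
    have hout : ∀ d : A, d ≠ 0 → w q (ψ (C d)) = 0 := fun d hd => hw.out q hq _ fun h' => hd (by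
      have h'' : d ∈ q.comap (C : A →+* (MvPolynomial σ A)) := h'
      rwa [hq.comap, Ideal.mem_bot] at h'')
    have e := congrArg (fun z => w q (ψ z)) heq
    simp only [map_mul] at e
    rw [hw.mul q hq _ _ (hw.ne_zero ha) (mul_ne_zero (hw.ne_zero hy0) (hw.ne_zero hCα)),
      hw.mul q hq _ _ (hw.ne_zero hy0) (hw.ne_zero hCα),
      hw.mul q hq _ _ (hw.ne_zero hb) (mul_ne_zero (hw.ne_zero hx0) (hw.ne_zero hCβ)),
      hw.mul q hq _ _ (hw.ne_zero hx0) (hw.ne_zero hCβ), hout α hα, hout β hβ, h q hq] at e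
    linarith
  have hunit : ∀ (u v : KP σ A) (γ δ : A) (r s : (MvPolynomial σ A)), γ ≠ 0 → δ ≠ 0 → r ≠ 0 → s ≠ 0 → IsRelPrime u v →
      C (algebraMap A _ γ) * u = ι σ A r → C (algebraMap A _ δ) * v = ι σ A s → u ≠ 0 →
      (∀ q, Horiz q → w q (ψ r) = w q (ψ s)) → IsUnit u := by
    intro u v γ δ r s hγ hδ hr hs huv hu hv hu0 hrs
    by_contra hnu
    obtain ⟨π', hirr, hdvd⟩ := WfDvdMonoid.exists_irreducible_factor hnu hu0
    have hpr : Prime π' := UniqueFactorizationMonoid.irreducible_iff_prime.1 hirr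
    have hnd : ¬π' ∣ ι σ A s := by
      rw [← hv, (isUnit_C hδ).dvd_mul_left]
      exact fun h' => hirr.not_isUnit (huv hdvd h')
    obtain ⟨q, hq, h1, h2⟩ := exists_pos hw hr hs hpr (hu ▸ hdvd.mul_left _) hnd
    rw [hrs q hq, h2] at h1
    exact lt_irrefl _ h1
  have hua := hunit a' b' α β x y hα hβ hx0 hy0 hrel hx hy ha' hxy
  have hub := hunit b' a' β α y x hβ hα hy0 hx0 hrel.symm hy hx hb' fun q hq => (hxy q hq).symm
  have hconst : ∀ (u : KP σ A) (γ : A) (r : (MvPolynomial σ A)), γ ≠ 0 → IsUnit u → C (algebraMap A _ γ) * u = ι σ A r →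
      ∃ r₀ : A, r = C r₀ := fun u γ r hγ hu hr => by
    obtain ⟨k, hk, hkk⟩ := MvPolynomial.isUnit_iff_eq_C_of_isReduced.1 (hr ▸ (isUnit_C hγ).mul hu)
    refine ⟨coeff 0 r, MvPolynomial.ext _ _ fun m => ?_⟩
    have e := congrArg (coeff m) hkk
    rw [coeff_map, coeff_C] at e
    rw [coeff_C]
    split_ifs with hm
    · rw [hm]
    · rw [if_neg hm] at e
      exact IsFractionRing.injective A (FractionRing A) (e.trans (map_zero _).symm)
  obtain ⟨x₀, rfl⟩ := hconst a' α x hα hua hx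
  obtain ⟨y₀, rfl⟩ := hconst b' β y hβ hub hy
  refine ⟨x₀ * β, y₀ * α, mul_ne_zero (fun h => hx0 (by simp [h])) hβ,
    mul_ne_zero (fun h => hy0 (by simp [h])) hα, ?_⟩
  rw [← map_mul, ← map_mul, map_mul C, map_mul C, heq]

end Groth.Agent.H22Alg.WDivPoly
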