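import Groth.Agent.H22Alg.WDivAffine
import Groth.Agent.H11Proj.ProjSpace

/-! # The chart `D₊(T₀)` of projective space over a domain. -/

set_option autoImplicit false
set_option linter.style.haveILetI false

universe u

open CategoryTheory CategoryTheory.Limits AlgebraicGeometry TopologicalSpace MvPolynomial HomogeneousLocalization CohB1

noncomputable section

namespace Groth.Agent.H22Alg.WDivChart

variable (A : Type u) [CommRing A] (n : ℕ)

abbrev φ (i : Fin (n + 1)) : A →+* Away (polyGrading n A) (X i) :=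
  (fromZeroRingHom (polyGrading n A) (Submonoid.powers (X i))).comp (algebraMap A (polyGrading n A 0))

abbrev ι' (i : Fin (n + 1)) : Spec (CommRingCat.of (Away (polyGrading n A) (X i))) ⟶ ProjSpace n A :=
  Proj.awayι (polyGrading n A) (X i) (H11Proj.ProjSpace.X_mem n A i) one_pos

theorem ι'_toSpec (i : Fin (n + 1)) :
    ι' A n i ≫ ProjSpace.toSpec n A = Spec.map (CommRingCat.ofHom (φ A n i)) := by
  show (Proj.awayι (polyGrading n A) (X i) (H11Proj.ProjSpace.X_mem n A i) one_pos) ≫
      Proj.toSpecZero (polyGrading n A) ≫ Spec.map (CommRingCat.ofHom (algebraMap A (polyGrading n A 0))) = _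
  rw [Proj.awayι_toSpecZero_assoc, ← Spec.map_comp, ← CommRingCat.ofHom_comp]

theorem exists_chart_projSpace [IsDomain A] [IsIntegral (Spec (CommRingCat.of A))] [IsIntegral (ProjSpace n A)]
    (hne : Nonempty (Spec (CommRingCat.of (Away (polyGrading n A) (X (0 : Fin (n + 1))))))) :
    ∃ c : Chart (ProjSpace.toSpec n A), c.U = ⊤ ∧
      (c.V : Set (ProjSpace n A)) =
        SetLike.coe (Proj.basicOpen (polyGrading n A) (X (0 : Fin (n + 1)))) := by
  haveI : IsOpenImmersion (ι' A n 0) := inferInstanceAs (IsOpenImmersion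
    (Proj.awayι (polyGrading n A) (X (0 : Fin (n + 1))) (H11Proj.ProjSpace.X_mem n A 0) one_pos))
  let B := CommRingCat.of (Away (polyGrading n A) (X (0 : Fin (n + 1))))
  let S := Spec (CommRingCat.of A)
  let t := Scheme.topIso S
  let κ : Γ(((⊤ : S.Opens) : Scheme.{u}), ⊤) ≅ CommRingCat.of A :=
    { hom := t.inv.appTop ≫ (Scheme.ΓSpecIso _).hom
      inv := (Scheme.ΓSpecIso _).inv ≫ t.hom.appTop
      hom_inv_id := by
        rw [Category.assoc, Iso.hom_inv_id_assoc, ← Scheme.Hom.comp_appTop, t.hom_inv_id, Scheme.Hom.id_appTop]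
      inv_hom_id := by
        rw [Category.assoc, ← Scheme.Hom.comp_appTop_assoc, t.inv_hom_id, Scheme.Hom.id_appTop, Category.id_comp,
          Iso.inv_hom_id] }
  let e₀ := RingEquiv.ofBijective (H11Proj.ProjSpace.chartMap n A (0 : Fin (n + 1)))
    (H11Proj.ProjSpace.chartMap_bijective n A 0)
  let σ : Type u := ULift.{u} {j : Fin (n + 1) // j ≠ 0}
  let f : MvPolynomial σ Γ(((⊤ : S.Opens) : Scheme.{u}), ⊤) ≃+* Γ(Spec B, ⊤) :=
    (((mapEquiv σ κ.commRingCatIsoToRingEquiv).trans (renameEquiv A Equiv.ulift).toRingEquiv).trans e₀).trans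
      (Scheme.ΓSpecIso B).symm.commRingCatIsoToRingEquiv
  obtain ⟨c, h1, h2⟩ := exists_chart (ProjSpace.toSpec n A) (⊤ : S.Opens) (isAffineOpen_top S) (ι' A n 0)
    (Spec.map (CommRingCat.ofHom (φ A n 0)) ≫ t.inv) (by
      rw [ι'_toSpec, Category.assoc]
      exact ((Category.comp_id _).symm.trans (congrArg _ t.inv_hom_id.symm))) hne σ f (fun a => by
      show (Scheme.ΓSpecIso B).inv (H11Proj.ProjSpace.chartMap n A (0 : Fin (n + 1))
        (rename Equiv.ulift (mapEquiv σ κ.commRingCatIsoToRingEquiv (C a)))) = _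
      rw [mapEquiv_apply, map_C, rename_C, H11Proj.ProjSpace.chartMap, eval₂Hom_C, Scheme.Hom.comp_appTop]
      show (Scheme.ΓSpecIso B).inv ((CommRingCat.ofHom (φ A n 0)) ((t.inv.appTop ≫ (Scheme.ΓSpecIso _).hom) a)) =
        (Spec.map (CommRingCat.ofHom (φ A n 0))).appTop (t.inv.appTop a)
      rw [← CommRingCat.comp_apply, ← CommRingCat.comp_apply, Category.assoc,
        Scheme.ΓSpecIso_inv_naturality, Iso.hom_inv_id_assoc, CommRingCat.comp_apply])
  exact ⟨c, h1, h2.trans (congrArg SetLike.coe (Proj.opensRange_awayι (polyGrading n A) (X (0 : Fin (n + 1)))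
    (H11Proj.ProjSpace.X_mem n A 0) one_pos))⟩

theorem compactSpace_projSpace : CompactSpace (ProjSpace n A) := by
  refine ⟨?_⟩
  have h : (Set.univ : Set (ProjSpace n A)) =
      ⋃ i : Fin (n + 1), SetLike.coe (Proj.basicOpen (polyGrading n A) (X i)) :=
    (Set.eq_univ_of_forall fun y => Set.mem_iUnion.2 (TopologicalSpace.Opens.mem_iSup.1
      ((H11Proj.ProjSpace.iSup_basicOpen n A).ge (Set.mem_univ y)))).symm
  rw [h]
  exact isCompact_iUnion fun i => (Proj.isAffineOpen_basicOpen (polyGrading n A) (X i)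
    (H11Proj.ProjSpace.X_mem n A i) one_pos).isCompact

variable [IsDomain A] (H : ProjSpace n A)
  (hH : H.asHomogeneousIdeal.toIdeal = Ideal.span {(X 0 : MvPolynomial (Fin (n + 1)) A)})

include hH in
theorem not_mem_chart : H ∉ Proj.basicOpen (polyGrading n A) (X (0 : Fin (n + 1))) := fun h =>
  h (show X 0 ∈ H.asHomogeneousIdeal.toIdeal from hH ▸ Ideal.mem_span_singleton_self _)

include hH in
theorem specializes_of_not_mem (y : ProjSpace n A)
    (hy : y ∉ Proj.basicOpen (polyGrading n A) (X (0 : Fin (n + 1)))) : H ⤳ y := by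
  refine (ProjectiveSpectrum.le_iff_mem_closure (𝒜 := polyGrading n A) H y).1 ?_ |> specializes_iff_mem_closure.2
  show H.asHomogeneousIdeal ≤ y.asHomogeneousIdeal
  intro z hz
  have hz' : z ∈ H.asHomogeneousIdeal.toIdeal := hz
  rw [hH] at hz'
  obtain ⟨w, rfl⟩ := Ideal.mem_span_singleton'.1 hz'
  exact Ideal.mul_mem_left y.asHomogeneousIdeal.toIdeal w (by_contra fun h => hy h)

include hH in
theorem eq_H_of_not_mem [IsIntegral (ProjSpace n A)] (hne : (SetLike.coe (Proj.basicOpen (polyGrading n A) (X (0 : Fin (n + 1))))).Nonempty) {y : ProjSpace n A} (hy1 : Order.coheight y = 1)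
    (hy : y ∉ Proj.basicOpen (polyGrading n A) (X (0 : Fin (n + 1)))) : y = H := by
  by_contra hne'
  have hle : y ≤ H := specializes_of_not_mem A n H hH y hy
  have hlt : y < H := lt_of_le_not_ge hle fun h' =>
    hne' (((show y ⤳ H from h').antisymm (show H ⤳ y from hle)).eq)
  have hgen : H ≤ genericPoint (ProjSpace n A) := (genericPoint_spec _).specializes trivial
  have hlt' : H < genericPoint (ProjSpace n A) := lt_of_le_not_ge hgen fun h' => not_mem_chart A n H hH
    ((show H ⤳ genericPoint (ProjSpace n A) from h').mem_open (Proj.basicOpen _ _).isOpen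
      (((genericPoint_spec (ProjSpace n A)).mem_open_set_iff (Proj.basicOpen _ _).isOpen).mpr
        ⟨hne.some, trivial, hne.some_mem⟩))
  have h1 := Order.coheight_strictAnti hlt (lt_of_le_of_lt (Order.coheight_anti hlt.le) (by rw [hy1]; exact ENat.one_lt_top))
  rw [hy1, Order.lt_one_iff, Order.coheight_eq_zero] at h1
  exact not_le_of_gt hlt' (h1 hgen)

include hH in
theorem H_over_generic [IsIntegral (Spec (CommRingCat.of A))] (hn : 1 ≤ n) :
    ProjSpace.toSpec n A H = genericPoint (Spec (CommRingCat.of A)) := by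
  let j : Fin (n + 1) := ⟨1, Nat.succ_lt_succ hn⟩
  have hj : j ≠ (0 : Fin (n + 1)) := fun h => one_ne_zero (congrArg Fin.val h)
  have hnd : ∀ a : A, a ≠ 0 → ¬ (X 0 : MvPolynomial (Fin (n + 1)) A) ∣ C a * X j := fun a ha => by
    rintro ⟨w, hw⟩
    have h := congrArg (eval fun l : Fin (n + 1) => if l = 0 then (0 : A) else 1) hw
    simp [hj] at h
    exact ha h
  have hmem : H ∈ Proj.basicOpen (polyGrading n A) (X j) := fun h => by
    have h' : (X j : MvPolynomial (Fin (n + 1)) A) ∈ H.asHomogeneousIdeal.toIdeal := h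
    rw [hH, Ideal.mem_span_singleton] at h'
    exact hnd 1 one_ne_zero (by simpa using h')
  rw [← Proj.opensRange_awayι (polyGrading n A) (X j) (H11Proj.ProjSpace.X_mem n A j) one_pos] at hmem
  obtain ⟨z, hz⟩ := hmem
  have hp : ProjSpace.toSpec n A H = Spec.map (CommRingCat.ofHom (φ A n j)) z := by
    rw [← hz, ← ι'_toSpec, Scheme.Hom.comp_apply]
    rfl
  rw [hp, genericPoint_eq_bot_of_affine]
  refine PrimeSpectrum.ext (le_antisymm (fun a ha => ?_) bot_le)
  by_contra ha0
  have hg : (C a * X j : MvPolynomial (Fin (n + 1)) A) ∈ polyGrading n A 1 := isHomogeneous_C_mul_X a j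
  have hnot : H ∈ Proj.basicOpen (polyGrading n A) (C a * X j) := fun h => by
    have h' : (C a * X j : MvPolynomial (Fin (n + 1)) A) ∈ H.asHomogeneousIdeal.toIdeal := h
    rw [hH, Ideal.mem_span_singleton] at h'
    exact hnd a (fun h0 => ha0 (by simp [h0])) h'
  have hz' : z ∈ (Proj.awayι (polyGrading n A) (X j) (H11Proj.ProjSpace.X_mem n A j) one_pos) ⁻¹ᵁ
      Proj.basicOpen (polyGrading n A) (C a * X j) := by
    show ι' A n j z ∈ Proj.basicOpen (polyGrading n A) (C a * X j)
    exact hz ▸ hnot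
  rw [Proj.awayι_preimage_basicOpen (𝒜 := polyGrading n A) (H11Proj.ProjSpace.X_mem n A j) one_pos hg one_pos] at hz'
  refine hz' ?_
  rw [show Away.isLocalizationElem (H11Proj.ProjSpace.X_mem n A j) hg = φ A n j a from by
    apply HomogeneousLocalization.val_injective
    show _ = Localization.mk (algebraMap A (polyGrading n A 0) a : MvPolynomial (Fin (n + 1)) A)
      (⟨1, one_mem _⟩ : Submonoid.powers (X j : MvPolynomial (Fin (n + 1)) A))
    rw [HomogeneousLocalization.Away.val_mk, Localization.mk_eq_mk_iff, Localization.r_iff_exists]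
    exact ⟨1, by simp [pow_one, mul_comm]⟩]
  exact ha

end Groth.Agent.H22Alg.WDivChart
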