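import Groth.Agent.H11Bertini.Chart
import Groth.Agent.H22Alg.VolFam
import Groth.Agent.H11Ample.Tensor
import Groth.Agent.H29Blow.Basic
import Groth.Agent.H12Pic.InvDesc.Trivial
import Groth.Prelude.Def_KLin

/-! # Zero schemes of sections of invertible modules: pullback, products and avoidance. -/

set_option autoImplicit false
set_option linter.style.haveILetI false
set_option linter.unusedSectionVars false
set_option backward.isDefEq.respectTransparency.types false

universe u

open CategoryTheory CategoryTheory.Limits AlgebraicGeometry TopologicalSpace Opposite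
open Groth.Agent.H11Tilde Groth.Agent.H11Ample

noncomputable section

namespace Groth.Agent.H22Alg.ZeroFam

variable {X : Scheme.{u}} {L M : X.Modules}

/-- The value of a section given as a morphism. -/
abbrev sval (σ : Coh.structureModule X ⟶ L) : Γ(L, ⊤) := SecTwist.val σ ⊤

theorem homOfGlobal_sval (σ : Coh.structureModule X ⟶ L) : homOfGlobal L (sval σ) = σ := by
  refine Scheme.Modules.hom_ext _ _ fun W => ?_
  ext r
  exact (H06Mod.app_unit σ W r).symm

theorem sval_homOfGlobal (t : Γ(L, ⊤)) : sval (homOfGlobal L t) = t := by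
  show (1 : Γ(X, ⊤)) • L.presheaf.map (homOfLE (le_top : (⊤ : X.Opens) ≤ ⊤)).op t = t
  rw [one_smul, H10Coh.mres_self]

/-- Near a point a global section is a multiple of a generator. -/
theorem exists_local (hL : PicF.IsInvertible L) (t : Γ(L, ⊤)) {x : X} {W : X.Opens} (hx : x ∈ W) :
    ∃ (V : X.Opens) (e : Γ(L, V)) (c : Γ(X, V)), IsAffineOpen V ∧ x ∈ V ∧ V ≤ W ∧ IsGen L e ∧
      L.presheaf.map (homOfLE (le_top : V ≤ ⊤)).op t = c • e := by
  obtain ⟨U, e, hxU, he⟩ := exists_gen hL x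
  obtain ⟨V, hV, hxV, hle⟩ := exists_isAffineOpen_mem_and_subset (U := U ⊓ W) (x := x) ⟨hxU, hx⟩
  have hVU : V ≤ U := fun y hy => (hle hy).1
  obtain ⟨c, hc⟩ := exists_coeff (he.res hVU) (L.presheaf.map (homOfLE (le_top : V ≤ ⊤)).op t)
  exact ⟨V, _, c, hV, hxV, fun y hy => (hle hy).2, he.res hVU, hc⟩

/-- The zero ideal is generated by the coefficient. -/
theorem ideal_eq_span (hL : PicF.IsInvertible L) (σ : Coh.structureModule X ⟶ L) {V : X.Opens}
    (hV : IsAffineOpen V) {e : Γ(L, V)} (he : IsGen L e) {c : Γ(X, V)}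
    (hc : L.presheaf.map (homOfLE (le_top : V ≤ ⊤)).op (sval σ) = c • e) :
    (PicF2.zeroScheme L σ).ideal ⟨V, hV⟩ = Ideal.span {c} := by
  rw [H11Bertini.zeroScheme_eq_zeroIdeal hL σ]
  refine H12Pic.PicCurve.zeroIdeal_ideal L σ hL hV he fun y hy => ?_
  refine ((L.presheaf.germ_res_apply (homOfLE (le_top : V ≤ ⊤)) y hy _).symm.trans ?_)
  exact (congrArg (L.presheaf.germ V y hy) hc).trans (H06Mod.germ_smul L V hy c e)

theorem comp_iso {L' : X.Modules} (hL : PicF.IsInvertible L) (φ : L ≅ L') (σ : Coh.structureModule X ⟶ L) :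
    PicF2.zeroScheme L' (σ ≫ φ.hom) = PicF2.zeroScheme L σ := by
  refine H29Blow.ext_of_forall_exists fun x => ?_
  obtain ⟨V, e, c, hV, hx, -, he, hc⟩ := exists_local hL (sval σ) (x := x) (W := ⊤) trivial
  refine ⟨⟨V, hV⟩, hx, ?_⟩
  rw [ideal_eq_span hL σ hV he hc, ideal_eq_span (H11Tilde.isInvertible_of_iso φ hL) _ hV
    (IsGen.map_iso φ he) (c := c)]
  rw [show sval (σ ≫ φ.hom) = φ.hom.app ⊤ (sval σ) from rfl, ← app_map_apply, hc, Scheme.Modules.Hom.app_smul]

theorem iso_comp (hL : PicF.IsInvertible L) (v : Coh.structureModule X ≅ Coh.structureModule X)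
    (σ : Coh.structureModule X ⟶ L) : PicF2.zeroScheme L (v.hom ≫ σ) = PicF2.zeroScheme L σ := by
  let a : Γ(X, ⊤) := v.hom.app ⊤ (H11Ample.one ⊤)
  have ha : IsUnit a := H12Pic.InvDesc.isUnit_of_isGen (IsGen.map_iso v (isGen_one ⊤))
  have hval : sval (v.hom ≫ σ) = a • sval σ := by
    show σ.app ⊤ (v.hom.app ⊤ (1 : Γ(X, ⊤))) = _
    refine (congrArg (σ.app ⊤) (mul_one a).symm).trans ?_
    exact Scheme.Modules.Hom.app_smul σ a _
  refine H29Blow.ext_of_forall_exists fun x => ?_
  obtain ⟨V, e, c, hV, hx, -, he, hc⟩ := exists_local hL (sval σ) (x := x) (W := ⊤) trivial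
  refine ⟨⟨V, hV⟩, hx, ?_⟩
  rw [ideal_eq_span hL σ hV he hc, ideal_eq_span hL _ hV he
    (c := X.presheaf.map (homOfLE (le_top : V ≤ ⊤)).op a * c) (by rw [hval, Scheme.Modules.map_smul, hc, mul_smul])]
  exact Ideal.span_singleton_mul_left_unit (ha.map _) c

/-- Zero schemes pull back. -/
theorem comap_eq {W : Scheme.{u}} (h : W ⟶ X) (hL : PicF.IsInvertible L) (σ : Coh.structureModule X ⟶ L)
    (v : Coh.structureModule W ≅ (Scheme.Modules.pullback h).obj (Coh.structureModule X)) :
    (PicF2.zeroScheme L σ).comap h =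
      PicF2.zeroScheme ((Scheme.Modules.pullback h).obj L) (v.hom ≫ (Scheme.Modules.pullback h).map σ) := by
  let u₁ : Γ((Scheme.Modules.pullback h).obj (Coh.structureModule X), (⊤ : W.Opens)) := v.hom.app ⊤ (H11Ample.one ⊤)
  have hu₁ : IsGen _ u₁ := IsGen.map_iso v (isGen_one ⊤)
  have hone : IsGen ((Scheme.Modules.pullback h).obj (Coh.structureModule X))
      (show Γ((Scheme.Modules.pullback h).obj (Coh.structureModule X), (⊤ : W.Opens)) from
        OmegaSh.pullSect h (Coh.structureModule X) ⊤ (H11Ample.one ⊤)) := IsGen.pullSect h (isGen_one ⊤)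
  obtain ⟨a, ha⟩ := exists_coeff hone u₁
  obtain ⟨b, hb⟩ := exists_coeff hu₁
    (show Γ((Scheme.Modules.pullback h).obj (Coh.structureModule X), (⊤ : W.Opens)) from
        OmegaSh.pullSect h (Coh.structureModule X) ⊤ (H11Ample.one ⊤))
  have hau : IsUnit a := by
    refine IsUnit.of_mul_eq_one b ((hu₁.bijective le_rfl).1 ?_)
    dsimp only
    rw [H10Coh.mres_self, mul_smul, ← hb, ← ha, one_smul]
  have hval : sval (v.hom ≫ (Scheme.Modules.pullback h).map σ) =
      a • (show Γ((Scheme.Modules.pullback h).obj L, (⊤ : W.Opens)) from OmegaSh.pullSect h L ⊤ (sval σ)) := by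
    show ((Scheme.Modules.pullback h).map σ).app ⊤ u₁ = _
    rw [ha, Scheme.Modules.Hom.app_smul]
    refine congrArg (a • ·) ?_
    exact (congr($((Scheme.Modules.pullbackPushforwardAdjunction h).unit.naturality σ).app ⊤ (H11Ample.one ⊤))).symm
  refine H29Blow.ext_of_forall_exists fun x => ?_
  obtain ⟨V, e, c, hV, hx, -, he, hc⟩ := exists_local hL (sval σ) (x := h x) (W := ⊤) trivial
  obtain ⟨V', hV', hx', hle⟩ := exists_isAffineOpen_mem_and_subset (U := h ⁻¹ᵁ V) (x := x) hx
  refine ⟨⟨V', hV'⟩, hx', ?_⟩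
  rw [H29Blow.ideal_comap _ h ⟨V, hV⟩ ⟨V', hV'⟩ hle, ideal_eq_span hL σ hV he hc, Ideal.map_span,
    Set.image_singleton,
    ideal_eq_span (isInvertible_pullback h hL) _ hV' ((IsGen.pullSect h he).res hle)
      (c := W.presheaf.map (homOfLE (le_top : V' ≤ ⊤)).op a * h.appLE V V' hle c)]
  · exact (Ideal.span_singleton_mul_left_unit (hau.map _) _).symm
  · rw [hval, Scheme.Modules.map_smul, mul_smul]
    refine congrArg (W.presheaf.map (homOfLE (le_top : V' ≤ ⊤)).op a • ·) ?_
    have h1 := congrArg (fun s => ((Scheme.Modules.pullback h).obj L).presheaf.map (homOfLE hle).op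
      (OmegaSh.pullSect h L V s)) hc
    simp only [OmegaSh.pullSect_smul, OmegaSh.pullSect_map] at h1
    erw [H10Coh.mres_mres, Scheme.Modules.map_smul] at h1
    exact h1

/-- Multiplying by generating sections does not change the zero scheme. -/
theorem iSup_tm (hL : PicF.IsInvertible L) (hM : PicF.IsInvertible M) (t : Γ(L, ⊤)) {ι : Type*} (g : ι → Γ(M, ⊤))
    (hg : ∀ x : X, ∃ l, x ∈ gen M (g l)) :
    ⨆ l, PicF2.zeroScheme (CohB1.tensorMod L M) (homOfGlobal _ (tm t (g l))) =
      PicF2.zeroScheme L (homOfGlobal L t) := by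
  refine H29Blow.ext_of_forall_exists fun x => ?_
  obtain ⟨l₀, hl₀⟩ := hg x
  obtain ⟨V, e, c, hV, hx, hle, he, hc⟩ := exists_local hL t (x := x) (W := gen M (g l₀)) hl₀
  refine ⟨⟨V, hV⟩, hx, ?_⟩
  have hLM := isInvertible_tensor hL hM
  let f : Γ(M, V) := M.presheaf.map (homOfLE (le_top : V ≤ ⊤)).op (g l₀)
  have hf : IsGen M f := by
    have h := (isGen_gen (g l₀)).res hle
    rw [H10Coh.mres_mres] at h
    exact h
  choose d hd using fun l => exists_coeff hf (M.presheaf.map (homOfLE (le_top : V ≤ ⊤)).op (g l))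
  have key : ∀ l (r : Γ(X, V)), M.presheaf.map (homOfLE (le_top : V ≤ ⊤)).op (g l) = r • f →
      (PicF2.zeroScheme (CohB1.tensorMod L M) (homOfGlobal _ (tm t (g l)))).ideal ⟨V, hV⟩ =
        Ideal.span {r * c} := fun l r hr => ideal_eq_span hLM _ hV (isGen_tm he hf) (by
    rw [sval_homOfGlobal, tm_res, hc, hr, tm_smul_left, tm_smul_right, smul_smul, mul_comm c r])
  rw [Scheme.IdealSheafData.ideal_iSup, iSup_apply,
    ideal_eq_span hL _ hV he (c := c) (by rw [sval_homOfGlobal, hc])]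
  refine le_antisymm (iSup_le fun l => ?_) (le_iSup_of_le l₀ (le_of_eq ?_))
  · rw [key l _ (hd l)]
    exact Ideal.span_singleton_le_span_singleton.2 ⟨d l, mul_comm _ _⟩
  · rw [key l₀ 1 (one_smul _ _).symm, one_mul]

section avoid

variable (k : Type u) [Field k] [X.Over (Spec (CommRingCat.of k))]

/-- Over an infinite field a generated invertible module has a section generating at given points. -/
theorem exists_gen_of_finite [Infinite k] (hL : PicF.IsInvertible L)
    (hg : ∀ x : X, ∃ g : Γ(L, ⊤), x ∈ gen L g) {S : Set X} (hS : S.Finite) :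
    ∃ g : Γ(L, ⊤), S ⊆ (gen L g : Set X) := by
  classical
  choose U e hxU he using fun x : X => exists_gen hL x
  choose co hco using fun (x : X) (σ : Coh.structureModule X ⟶ L) =>
    exists_coeff (he x) (L.presheaf.map (homOfLE (le_top : U x ≤ ⊤)).op (sval σ))
  have huniq : ∀ (x : X) (a b : Γ(X, U x)), a • e x = b • e x → a = b := fun x a b h => by
    refine ((he x).bijective le_rfl).1 ?_
    dsimp only
    rw [H10Coh.mres_self]
    exact h
  have hadd : ∀ x σ τ, co x (σ + τ) = co x σ + co x τ := fun x σ τ => huniq x _ _ (by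
    rw [add_smul, ← hco, ← hco, ← hco, ← map_add]
    rfl)
  have hsmul : ∀ (x : X) (c : k) σ, co x (c • σ) = H11Bertini.scalars (U x) c * co x σ := fun x c σ => huniq x _ _ (by
    have hres : ∀ τ : Coh.structureModule X ⟶ L, L.presheaf.map (homOfLE (le_top : U x ≤ ⊤)).op (sval τ) =
        (SecTwist.val τ (U x) : Γ(L, U x)) := fun τ => SecTwist.map_val τ (homOfLE le_top)
    rw [mul_smul, ← hco, ← hco, hres, hres]
    exact H11Bertini.val_smulMod_comp c σ (U x))
  let ev : ∀ x : X, Γ(X, U x) →+* X.residueField x := fun x => (X.evaluation (U x) x (hxU x)).hom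
  let K : X → Submodule k (Coh.structureModule X ⟶ L) := fun x =>
    { carrier := {σ | ev x (co x σ) = 0}
      add_mem' := fun {σ τ} hσ hτ => by
        show ev x (co x (σ + τ)) = 0
        rw [hadd, map_add, show ev x (co x σ) = 0 from hσ, show ev x (co x τ) = 0 from hτ, add_zero]
      zero_mem' := by
        show ev x (co x 0) = 0
        rw [show co x (0 : Coh.structureModule X ⟶ L) = 0 from huniq x _ _ (by
          rw [zero_smul, ← hco]
          exact map_zero _), map_zero]
      smul_mem' := fun c σ hσ => by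
        show ev x (co x (c • σ)) = 0
        rw [hsmul, map_mul, show ev x (co x σ) = 0 from hσ, mul_zero] }
  have hgen : ∀ x σ, ev x (co x σ) ≠ 0 ↔ x ∈ gen L (sval σ) := fun x σ => by
    rw [show ev x = (X.evaluation (U x) x (hxU x)).hom from rfl]
    refine (X.evaluation_ne_zero_iff_mem_basicOpen (x := x) (hx := hxU x) (f := co x σ)).trans ?_
    rw [← gen_inf_eq_basicOpen (he x) (sval σ) (co x σ) (hco x σ)]
    exact ⟨fun h => h.1, fun h => ⟨h, hxU x⟩⟩
  haveI := hS.to_subtype
  obtain ⟨σ, hσ⟩ := Submodule.exists_forall_notMem_of_forall_ne_top (fun x : S => K x.1) fun x hK => by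
    obtain ⟨g, hgx⟩ := hg x.1
    have h1 : homOfGlobal L g ∈ K x.1 := hK.symm ▸ Submodule.mem_top
    refine (hgen x.1 (homOfGlobal L g)).2 ?_ h1
    rw [sval_homOfGlobal]
    exact hgx
  exact ⟨sval σ, fun x hx => (hgen x σ).1 (hσ ⟨x, hx⟩)⟩

/-- As many sections as one more than the dimension generate. -/
theorem exists_cover [Infinite k] [IsNoetherian X] (hL : PicF.IsInvertible L)
    (hg : ∀ x : X, ∃ g : Γ(L, ⊤), x ∈ gen L g) : ∀ (r : ℕ) {C : Set X}, IsClosed C →
    topologicalKrullDim C < (r : WithBot ℕ∞) → ∃ g : Fin r → Γ(L, ⊤), ∀ x ∈ C, ∃ l, x ∈ gen L (g l)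
  | 0, C, _, hd => ⟨finZeroElim, fun x hx => absurd hd (not_lt.2 (by
      haveI : Nonempty (IrreducibleCloseds C) :=
        ⟨⟨closure {⟨x, hx⟩}, isIrreducible_singleton.closure, isClosed_closure⟩⟩
      exact Order.krullDim_nonneg))⟩
  | r + 1, C, hC, hd => by
    obtain ⟨S, hS, hdim⟩ := VolFam.exists_avoid_set hC
    obtain ⟨g₀, hg₀⟩ := exists_gen_of_finite k hL hg hS
    have hT : IsClosed (C \ (gen L g₀ : Set X)) := hC.sdiff (gen L g₀).2
    obtain ⟨g, hg'⟩ := exists_cover hL hg r hT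
      (hdim hT Set.sdiff_subset (fun x hx hxS => hx.2 (hg₀ hxS)) hd)
    refine ⟨Fin.cons g₀ g, fun x hx => ?_⟩
    by_cases h : x ∈ gen L g₀
    · exact ⟨0, by simpa using h⟩
    · obtain ⟨l, hl⟩ := hg' x ⟨hx, h⟩
      exact ⟨l.succ, by simpa using hl⟩

end avoid

end Groth.Agent.H22Alg.ZeroFam
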